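import Mathlib
import Cfsg.Prelude.Def_GeometricClasses
import Cfsg.Agent.Lib.Helper27.ASC.Defs

/-! ASC piece SCHURB (helper18): a field subalgebra of degree `d` of `M_n(F)` has `d ∣ n`. -/

set_option autoImplicit false
set_option linter.unusedVariables false
set_option linter.unusedSectionVars false

namespace Cfsg.Agent.Lib.Helper27.ASC

open Cfsg Cfsg.Geo
open scoped MatrixGroups Matrix

variable {n : ℕ} {F : Type*} [Field F] [Fintype F]

/-- SCHUR-B -/
theorem field_finrank_dvd (hn : 0 < n) {d : ℕ} (K : Subalgebra F (Matrix (Fin n) (Fin n) F))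
    (hK : IsFieldSubalgebra d K) : d ∣ n := by
  classical
  haveI : Nonempty (Fin n) := ⟨⟨0, hn⟩⟩
  haveI : Nontrivial (Matrix (Fin n) (Fin n) F) := inferInstance
  haveI : Nontrivial K := ⟨⟨0, 1, fun h => zero_ne_one (congrArg Subtype.val h)⟩⟩
  have hfield : IsField K :=
    { exists_pair_ne := ⟨0, 1, zero_ne_one⟩
      mul_comm := fun x y => Subtype.ext (hK.comm x x.2 y y.2)
      mul_inv_cancel := by
        intro a ha
        obtain ⟨y, hy, hxy⟩ := hK.inv a a.2 (fun h => ha (Subtype.ext h))
        exact ⟨⟨y, hy⟩, Subtype.ext hxy⟩ }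
  letI : Field K := hfield.toField
  -- the module structure of `V = Fin n → F` over `K`
  let φ : K →+* Module.End F (Fin n → F) :=
    ((Matrix.toLinAlgEquiv' : Matrix (Fin n) (Fin n) F ≃ₐ[F] _).toAlgHom.comp K.val).toRingHom
  letI : Module K (Fin n → F) := Module.compHom (Fin n → F) φ
  have h1 : Fintype.card (Fin n → F) = Fintype.card K ^ Module.finrank K (Fin n → F) :=
    Module.card_eq_pow_finrank
  have h2 : Fintype.card K = Fintype.card F ^ d := by
    rw [← hK.finrank_eq]
    exact Module.card_eq_pow_finrank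
  have h3 : Fintype.card (Fin n → F) = Fintype.card F ^ n := by
    simp
  rw [h3, h2, ← pow_mul] at h1
  have hq : 1 < Fintype.card F := Fintype.one_lt_card
  exact ⟨_, Nat.pow_right_injective hq h1⟩

end Cfsg.Agent.Lib.Helper27.ASC
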