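import Mathlib
import Cfsg.Prelude.Def_GeometricClasses
import Cfsg.Agent.Lib.Helper27.ASC.Defs
import Cfsg.Agent.Lib.Helper19.ASG.Defs
import Cfsg.Agent.Lib.Helper18.ASP.Defs
import Cfsg.Agent.Lib.Helper29.ASCGRAM
import Cfsg.Agent.Lib.Helper1.ASGCLIF3

/-!
# Project ASP, module ADJ (helper18): the adjoint involution of a symplectic form

`aspAdj f x = G⁻¹ xᵀ G` (`G = ascformGram f`): `f (x u) v = f u (x* v)`.
-/

set_option autoImplicit false
set_option linter.unusedVariables false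
set_option linter.unusedSectionVars false

namespace Cfsg.Agent.Lib.Helper18.ASP

open Cfsg Cfsg.Geo Cfsg.Agent.Lib.Helper27.ASC Cfsg.Agent.Lib.Helper19.ASG
open scoped MatrixGroups Matrix

variable {n : ℕ} {F : Type*} [Field F]

/-- the adjoint of `x` for the form `f` -/
noncomputable def aspAdj (f : (Fin n → F) → (Fin n → F) → F) (x : Matrix (Fin n) (Fin n) F) :
    Matrix (Fin n) (Fin n) F :=
  (ascformGram f)⁻¹ * xᵀ * ascformGram f

variable {f : (Fin n → F) → (Fin n → F) → F}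

theorem aspadj_gram (hf : IsSymplecticForm f) (u v : Fin n → F) :
    f u v = u ⬝ᵥ (ascformGram f *ᵥ v) := by
  have h := ascform_gram (RingHom.id F) f hf.bilinear.add_left hf.bilinear.smul_left hf.bilinear.add_right
    (fun c v x => by simpa using hf.bilinear.smul_right c v x) u v
  simpa using h

theorem aspadj_det (hf : IsSymplecticForm f) : IsUnit (ascformGram f).det := by
  apply ascform_gram_isUnit_det (RingEquiv.refl F)
  intro v hv
  obtain ⟨⟨x, hx⟩, -⟩ := hf.nondegenerate v hv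
  refine ⟨x, ?_⟩
  rw [aspadj_gram hf] at hx
  simpa using hx

theorem aspadj_gram_mul_inv (hf : IsSymplecticForm f) : ascformGram f * (ascformGram f)⁻¹ = 1 :=
  Matrix.mul_nonsing_inv _ (aspadj_det hf)

theorem aspadj_gram_inv_mul (hf : IsSymplecticForm f) : (ascformGram f)⁻¹ * ascformGram f = 1 :=
  Matrix.nonsing_inv_mul _ (aspadj_det hf)

theorem aspadj_gram_transpose (hf : IsSymplecticForm f) : (ascformGram f)ᵀ = - ascformGram f := by
  ext i j
  simp only [ascformGram, Matrix.transpose_apply, Matrix.of_apply, Matrix.neg_apply]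
  exact hf.skew _ _

/-- two matrices representing the same form coincide -/
theorem aspadj_ext (M N : Matrix (Fin n) (Fin n) F)
    (h : ∀ u v : Fin n → F, u ⬝ᵥ (M *ᵥ v) = u ⬝ᵥ (N *ᵥ v)) : M = N := by
  apply ascform_ext (RingHom.id F) M N
  intro u v
  simpa using h u v

theorem aspadj_spec (hf : IsSymplecticForm f) (x : Matrix (Fin n) (Fin n) F) (u v : Fin n → F) :
    f (x *ᵥ u) v = f u (aspAdj f x *ᵥ v) := by
  rw [aspadj_gram hf, aspadj_gram hf]
  unfold aspAdj
  rw [Matrix.mulVec_mulVec, ← Matrix.mul_assoc, ← Matrix.mul_assoc, aspadj_gram_mul_inv hf, Matrix.one_mul,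
    ← Matrix.mulVec_mulVec, Matrix.dotProduct_mulVec u xᵀ, Matrix.vecMul_transpose]

/-- the form separates matrices on the right -/
theorem aspadj_right_ext (hf : IsSymplecticForm f) (y z : Matrix (Fin n) (Fin n) F)
    (h : ∀ u v : Fin n → F, f u (y *ᵥ v) = f u (z *ᵥ v)) : y = z := by
  have h1 : ascformGram f * y = ascformGram f * z := by
    apply aspadj_ext
    intro u v
    rw [← Matrix.mulVec_mulVec, ← Matrix.mulVec_mulVec, ← aspadj_gram hf, ← aspadj_gram hf, h]
  have h2 := congrArg (fun w => (ascformGram f)⁻¹ * w) h1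
  simpa [← Matrix.mul_assoc, aspadj_gram_inv_mul hf] using h2

theorem aspadj_unique (hf : IsSymplecticForm f) (x y : Matrix (Fin n) (Fin n) F)
    (h : ∀ u v : Fin n → F, f (x *ᵥ u) v = f u (y *ᵥ v)) : y = aspAdj f x := by
  apply aspadj_right_ext hf
  intro u v
  rw [← h, aspadj_spec hf]

theorem aspadj_mul (hf : IsSymplecticForm f) (x y : Matrix (Fin n) (Fin n) F) :
    aspAdj f (x * y) = aspAdj f y * aspAdj f x := by
  unfold aspAdj
  rw [Matrix.transpose_mul]
  calc (ascformGram f)⁻¹ * (yᵀ * xᵀ) * ascformGram f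
      = (ascformGram f)⁻¹ * yᵀ * 1 * xᵀ * ascformGram f := by
        rw [Matrix.mul_one]; simp only [Matrix.mul_assoc]
    _ = _ := by rw [← aspadj_gram_mul_inv hf]; simp only [Matrix.mul_assoc]

theorem aspadj_add (x y : Matrix (Fin n) (Fin n) F) : aspAdj f (x + y) = aspAdj f x + aspAdj f y := by
  unfold aspAdj
  rw [Matrix.transpose_add, Matrix.mul_add, Matrix.add_mul]

theorem aspadj_sub (x y : Matrix (Fin n) (Fin n) F) : aspAdj f (x - y) = aspAdj f x - aspAdj f y := by
  unfold aspAdj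
  rw [Matrix.transpose_sub, Matrix.mul_sub, Matrix.sub_mul]

theorem aspadj_neg (x : Matrix (Fin n) (Fin n) F) : aspAdj f (-x) = - aspAdj f x := by
  unfold aspAdj
  rw [Matrix.transpose_neg, Matrix.mul_neg, Matrix.neg_mul]

theorem aspadj_smul (c : F) (x : Matrix (Fin n) (Fin n) F) : aspAdj f (c • x) = c • aspAdj f x := by
  unfold aspAdj
  rw [Matrix.transpose_smul, Matrix.mul_smul, Matrix.smul_mul]

theorem aspadj_zero : aspAdj f (0 : Matrix (Fin n) (Fin n) F) = 0 := by
  unfold aspAdj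
  simp

theorem aspadj_one (hf : IsSymplecticForm f) : aspAdj f (1 : Matrix (Fin n) (Fin n) F) = 1 := by
  unfold aspAdj
  rw [Matrix.transpose_one, Matrix.mul_one, aspadj_gram_inv_mul hf]

theorem aspadj_scalar (hf : IsSymplecticForm f) (c : F) :
    aspAdj f (c • (1 : Matrix (Fin n) (Fin n) F)) = c • 1 := by
  rw [aspadj_smul, aspadj_one hf]

theorem aspadj_algebraMap (hf : IsSymplecticForm f) (c : F) :
    aspAdj f (algebraMap F (Matrix (Fin n) (Fin n) F) c) = algebraMap F (Matrix (Fin n) (Fin n) F) c := by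
  rw [Algebra.algebraMap_eq_smul_one, aspadj_scalar hf]

theorem aspadj_adj (hf : IsSymplecticForm f) (x : Matrix (Fin n) (Fin n) F) :
    aspAdj f (aspAdj f x) = x := by
  symm
  apply aspadj_unique hf
  intro u v
  rw [hf.skew, ← aspadj_spec hf]
  exact (hf.skew _ _).symm

theorem aspadj_spec' (hf : IsSymplecticForm f) (x : Matrix (Fin n) (Fin n) F) (u v : Fin n → F) :
    f u (x *ᵥ v) = f (aspAdj f x *ᵥ u) v := by
  rw [aspadj_spec hf, aspadj_adj hf]

theorem aspadj_injective (hf : IsSymplecticForm f) : Function.Injective (aspAdj f) := by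
  intro x y h
  rw [← aspadj_adj hf x, h, aspadj_adj hf]

theorem aspadj_eq_zero (hf : IsSymplecticForm f) {x : Matrix (Fin n) (Fin n) F} :
    aspAdj f x = 0 ↔ x = 0 := by
  constructor
  · intro h
    apply aspadj_injective hf
    rw [h, aspadj_zero]
  · rintro rfl; exact aspadj_zero

theorem aspadj_pow (hf : IsSymplecticForm f) (x : Matrix (Fin n) (Fin n) F) (k : ℕ) :
    aspAdj f (x ^ k) = aspAdj f x ^ k := by
  induction k with
  | zero => rw [pow_zero, pow_zero, aspadj_one hf]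
  | succ k ih => rw [pow_succ, pow_succ', aspadj_mul hf, ih]

/-- isometries are the matrices with `g* g = 1` -/
theorem aspadj_iso (hf : IsSymplecticForm f) (g : GL (Fin n) F) :
    g ∈ isoGL f ↔ aspAdj f (g : Matrix (Fin n) (Fin n) F) * (g : Matrix (Fin n) (Fin n) F) = 1 := by
  rw [mem_isoGL_iff]
  constructor
  · intro h
    apply aspadj_right_ext hf
    intro u v
    rw [← Matrix.mulVec_mulVec, ← aspadj_spec hf, h, Matrix.one_mulVec]
  · intro h u v
    rw [aspadj_spec hf, Matrix.mulVec_mulVec, h, Matrix.one_mulVec]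

theorem aspadj_of_mem (hf : IsSymplecticForm f) {g : GL (Fin n) F} (hg : g ∈ isoGL f) :
    aspAdj f (g : Matrix (Fin n) (Fin n) F) = ((g⁻¹ : GL (Fin n) F) : Matrix (Fin n) (Fin n) F) := by
  have h := (aspadj_iso hf g).mp hg
  have e1 : (g : Matrix (Fin n) (Fin n) F) * ((g⁻¹ : GL (Fin n) F) : Matrix (Fin n) (Fin n) F) = 1 := by
    rw [← Units.val_mul, mul_inv_cancel, Units.val_one]
  calc aspAdj f (g : Matrix (Fin n) (Fin n) F)
      = aspAdj f (g : Matrix (Fin n) (Fin n) F) * ((g : Matrix (Fin n) (Fin n) F) *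
          ((g⁻¹ : GL (Fin n) F) : Matrix (Fin n) (Fin n) F)) := by rw [e1, Matrix.mul_one]
    _ = _ := by rw [← Matrix.mul_assoc, h, Matrix.one_mul]

/-- the adjoint commutes with conjugation by isometries -/
theorem aspadj_conj (hf : IsSymplecticForm f) {h : GL (Fin n) F} (hh : h ∈ isoGL f)
    (x : Matrix (Fin n) (Fin n) F) : aspAdj f (asgConj h x) = asgConj h (aspAdj f x) := by
  unfold asgConj
  rw [aspadj_mul hf, aspadj_mul hf, aspadj_of_mem hf hh, aspadj_of_mem hf ((isoGL f).inv_mem hh), inv_inv,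
    Matrix.mul_assoc]

/-- the centraliser algebra of a group of isometries is stable under the adjoint -/
theorem aspadj_centAlg (hf : IsSymplecticForm f) {N : Subgroup (GL (Fin n) F)} (hN : N ≤ isoGL f)
    {x : Matrix (Fin n) (Fin n) F} (hx : x ∈ centAlg N) : aspAdj f x ∈ centAlg N := by
  rw [Subalgebra.mem_centralizer_iff] at hx ⊢
  rintro _ ⟨g, hg, rfl⟩
  -- g x* = x* g  <=>  adjoint of (x g⁻¹ = g⁻¹ x)
  have hginv : g⁻¹ ∈ N := N.inv_mem hg
  have h1 := hx _ ⟨g⁻¹, hginv, rfl⟩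
  have h2 := congrArg (aspAdj f) h1
  rw [aspadj_mul hf, aspadj_mul hf, aspadj_of_mem hf (hN hginv), inv_inv] at h2
  exact h2.symm

variable [Fintype F]

/-- the centre of the centraliser algebra is stable under the adjoint -/
theorem aspadj_asgZ (hf : IsSymplecticForm f) {N : Subgroup (GL (Fin n) F)} (hN : N ≤ isoGL f)
    {x : Matrix (Fin n) (Fin n) F} (hx : x ∈ asgZ N) : aspAdj f x ∈ asgZ N := by
  obtain ⟨hx1, hx2⟩ := asgclif_mem_Z.mp hx
  refine asgclif_mem_Z.mpr ⟨aspadj_centAlg hf hN hx1, fun c hc => ?_⟩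
  have h1 := hx2 _ (aspadj_centAlg hf hN hc)
  have h2 := congrArg (aspAdj f) h1
  rw [aspadj_mul hf, aspadj_mul hf, aspadj_adj hf] at h2
  exact h2.symm

/-- the self-adjoint part of the centre of the centraliser algebra -/
noncomputable def aspZ0 (hf : IsSymplecticForm f) (N : Subgroup (GL (Fin n) F)) :
    Subalgebra F (Matrix (Fin n) (Fin n) F) where
  carrier := {z | z ∈ asgZ N ∧ aspAdj f z = z}
  mul_mem' := by
    rintro a b ⟨ha, ha'⟩ ⟨hb, hb'⟩
    refine ⟨Subalgebra.mul_mem _ ha hb, ?_⟩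
    rw [aspadj_mul hf, ha', hb']
    exact asgclif_Z_comm hb ha
  add_mem' := by
    rintro a b ⟨ha, ha'⟩ ⟨hb, hb'⟩
    exact ⟨Subalgebra.add_mem _ ha hb, by rw [aspadj_add, ha', hb']⟩
  algebraMap_mem' := fun c => ⟨Subalgebra.algebraMap_mem _ c, aspadj_algebraMap hf c⟩

theorem mem_aspZ0 (hf : IsSymplecticForm f) {N : Subgroup (GL (Fin n) F)} {z : Matrix (Fin n) (Fin n) F} :
    z ∈ aspZ0 hf N ↔ z ∈ asgZ N ∧ aspAdj f z = z := Iff.rfl

theorem aspZ0_le (hf : IsSymplecticForm f) (N : Subgroup (GL (Fin n) F)) : aspZ0 hf N ≤ asgZ N :=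
  fun _ hz => hz.1

theorem aspZ0_comm (hf : IsSymplecticForm f) (N : Subgroup (GL (Fin n) F)) :
    ∀ x ∈ aspZ0 hf N, ∀ y ∈ aspZ0 hf N, x * y = y * x :=
  fun _ hx _ hy => asgclif_Z_comm hx.1 hy.1

theorem aspZ0_selfAdjoint (hf : IsSymplecticForm f) (N : Subgroup (GL (Fin n) F)) :
    IsSelfAdjointFor f (aspZ0 hf N) := by
  intro k hk u v
  rw [aspadj_spec hf, hk.2]

theorem aspZ0_conj (hf : IsSymplecticForm f) {H N : Subgroup (GL (Fin n) F)} (hI : H ≤ isoGL f)
    (hN : NormalIn N H) : ∀ h ∈ H, ∀ z ∈ aspZ0 hf N, (h : Matrix (Fin n) (Fin n) F) * z *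
      ((h⁻¹ : GL (Fin n) F) : Matrix (Fin n) (Fin n) F) ∈ aspZ0 hf N := by
  intro h hh z hz
  refine ⟨asgclif_conj_mem hN h hh z hz.1, ?_⟩
  have := aspadj_conj hf (hI hh) z
  unfold asgConj at this
  rw [this, hz.2]

/-- `x + x*` and `x* x` of a central element are self-adjoint central -/
theorem aspZ0_trace (hf : IsSymplecticForm f) {N : Subgroup (GL (Fin n) F)} (hN : N ≤ isoGL f)
    {x : Matrix (Fin n) (Fin n) F} (hx : x ∈ asgZ N) : x + aspAdj f x ∈ aspZ0 hf N :=
  ⟨Subalgebra.add_mem _ hx (aspadj_asgZ hf hN hx), by rw [aspadj_add, aspadj_adj hf, add_comm]⟩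

theorem aspZ0_norm (hf : IsSymplecticForm f) {N : Subgroup (GL (Fin n) F)} (hN : N ≤ isoGL f)
    {x : Matrix (Fin n) (Fin n) F} (hx : x ∈ asgZ N) : x * aspAdj f x ∈ aspZ0 hf N :=
  ⟨Subalgebra.mul_mem _ hx (aspadj_asgZ hf hN hx), by rw [aspadj_mul hf, aspadj_adj hf]⟩

end Cfsg.Agent.Lib.Helper18.ASP
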