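import Mathlib.GroupTheory.Sylow

set_option autoImplicit false

namespace Cfsg.Agent.Lib.Helper18

open scoped Pointwise

theorem mem_smul_sylow_iff {G : Type*} [Group G] {p : ℕ} {g x : G} {P : Sylow p G} :
    x ∈ g • P ↔ g⁻¹ * x * g ∈ P := by
  change x ∈ (MulAut.conj g • (P : Subgroup G)) ↔ _
  rw [Subgroup.mem_pointwise_smul_iff_inv_smul_mem]
  simp only [MulAut.smul_def, MulAut.conj_inv_apply]
  exact Iff.rfl

theorem coe_smul_sylow_eq_map {G : Type*} [Group G] {p : ℕ} {g : G} {P : Sylow p G} :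
    ((g • P : Sylow p G) : Subgroup G) = (P : Subgroup G).map (MulAut.conj g).toMonoidHom := by
  ext x
  rw [Subgroup.mem_map]
  constructor
  · intro hx
    refine ⟨g⁻¹ * x * g, mem_smul_sylow_iff.mp hx, by simp [mul_assoc]⟩
  · rintro ⟨y, hy, rfl⟩
    apply mem_smul_sylow_iff.mpr
    have : g⁻¹ * (MulAut.conj g).toMonoidHom y * g = y := by simp [mul_assoc]
    rw [this]
    exact hy

end Cfsg.Agent.Lib.Helper18
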