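import Mathlib.GroupTheory.Sylow
import Mathlib.GroupTheory.Index
import Cfsg.Agent.Lib.Helper18.SylowBasic

set_option autoImplicit false

namespace Cfsg.Agent.Lib.Helper18

open scoped Pointwise

variable {G : Type*} [Group G]

/-- conjugate of a subgroup, `g Q g⁻¹`. -/
abbrev conjSub (g : G) (Q : Subgroup G) : Subgroup G := Q.map (MulAut.conj g).toMonoidHom

theorem mem_conjSub {g x : G} {Q : Subgroup G} : x ∈ conjSub g Q ↔ g⁻¹ * x * g ∈ Q := by
  constructor
  · rintro ⟨y, hy, rfl⟩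
    have : g⁻¹ * (MulAut.conj g).toMonoidHom y * g = y := by simp [mul_assoc]
    rw [this]; exact hy
  · intro h
    exact ⟨g⁻¹ * x * g, h, by simp [mul_assoc]⟩

theorem conj_mem_conjSub {g y : G} {Q : Subgroup G} (hy : y ∈ Q) : g * y * g⁻¹ ∈ conjSub g Q :=
  ⟨y, hy, by simp⟩

theorem conjSub_mul (a g : G) (Q : Subgroup G) : conjSub a (conjSub g Q) = conjSub (a * g) Q := by
  unfold conjSub
  rw [Subgroup.map_map]
  congr 1
  ext x
  simp [mul_assoc]

theorem conjSub_one (Q : Subgroup G) : conjSub 1 Q = Q := by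
  ext x; rw [mem_conjSub]; simp

theorem conjSub_mono {g : G} {Q R : Subgroup G} (h : Q ≤ R) : conjSub g Q ≤ conjSub g R :=
  Subgroup.map_mono h

theorem conjSub_le_of_mem {g : G} {Q H : Subgroup G} (hQ : Q ≤ H) (hg : g ∈ H) : conjSub g Q ≤ H := by
  rintro _ ⟨y, hy, rfl⟩
  exact H.mul_mem (H.mul_mem hg (hQ hy)) (H.inv_mem hg)

theorem card_conjSub (g : G) (Q : Subgroup G) : Nat.card (conjSub g Q) = Nat.card Q :=
  Nat.card_congr (Q.equivMapOfInjective _ (MulAut.conj g).injective).toEquiv.symm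

theorem conjSub_isPGroup {p : ℕ} {g : G} {Q : Subgroup G} (h : IsPGroup p Q) : IsPGroup p (conjSub g Q) :=
  h.map _

theorem conjSub_eq_of_le [Finite G] {g : G} {Q : Subgroup G} (h : conjSub g Q ≤ Q) : conjSub g Q = Q :=
  Subgroup.eq_of_le_of_card_ge h (card_conjSub g Q).ge

theorem mem_normalizer_of_conjSub_le [Finite G] {g : G} {Q : Subgroup G} (h : conjSub g Q ≤ Q) :
    g ∈ Subgroup.normalizer (Q : Set G) := by
  rw [Subgroup.mem_normalizer_iff_map_conj_eq]
  exact conjSub_eq_of_le h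

theorem conjSub_eq_of_mem_normalizer {g : G} {Q : Subgroup G}
    (h : g ∈ Subgroup.normalizer (Q : Set G)) : conjSub g Q = Q :=
  Subgroup.mem_normalizer_iff_map_conj_eq.mp h

theorem conjSub_le_iff {g : G} {Q R : Subgroup G} : conjSub g Q ≤ R ↔ Q ≤ conjSub g⁻¹ R := by
  constructor
  · intro h y hy
    rw [mem_conjSub]
    simpa using h (conj_mem_conjSub (g := g) hy)
  · intro h x hx
    rw [mem_conjSub] at hx
    have := h hx
    rw [mem_conjSub] at this
    simpa [mul_assoc] using this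

/-- `Q` is a Sylow `p`-subgroup of `H`. -/
def IsSylowIn (p : ℕ) (Q H : Subgroup G) : Prop :=
  Q ≤ H ∧ IsPGroup p Q ∧ ¬ p ∣ Q.relIndex H

theorem IsSylowIn.le {p : ℕ} {Q H : Subgroup G} (h : IsSylowIn p Q H) : Q ≤ H := h.1
theorem IsSylowIn.isPGroup {p : ℕ} {Q H : Subgroup G} (h : IsSylowIn p Q H) : IsPGroup p Q := h.2.1
theorem IsSylowIn.not_dvd {p : ℕ} {Q H : Subgroup G} (h : IsSylowIn p Q H) : ¬ p ∣ Q.relIndex H := h.2.2

/-- From `IsSylowIn` to an actual Sylow subgroup of `↥H`. -/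
theorem IsSylowIn.exists_sylow {p : ℕ} [Fact p.Prime] {Q H : Subgroup G} (h : IsSylowIn p Q H) :
    ∃ S : Sylow p ↥H, (S : Subgroup ↥H) = Q.subgroupOf H := by
  have h1 : IsPGroup p (Q.subgroupOf H) := h.isPGroup.comap_subtype
  exact ⟨h1.toSylow h.not_dvd, rfl⟩

theorem isSylowIn_of_sylow [Finite G] {p : ℕ} [Fact p.Prime] {H : Subgroup G} (S : Sylow p ↥H) :
    IsSylowIn p ((S : Subgroup ↥H).map H.subtype) H := by
  refine ⟨?_, S.isPGroup'.map _, ?_⟩
  · rintro _ ⟨y, _, rfl⟩; exact y.2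
  · have h1 : ((S : Subgroup ↥H).map H.subtype).subgroupOf H = (S : Subgroup ↥H) := by
      ext x
      simp [Subgroup.mem_subgroupOf]
    unfold Subgroup.relIndex
    rw [h1]
    exact S.not_dvd_index

theorem isSylowIn_top_of_sylow [Finite G] {p : ℕ} [Fact p.Prime] (S : Sylow p G) :
    IsSylowIn p (S : Subgroup G) ⊤ := by
  refine ⟨le_top, S.isPGroup', ?_⟩
  rw [Subgroup.relIndex_top_right]
  exact S.not_dvd_index

theorem IsSylowIn.of_le [Finite G] {p : ℕ} {Q H K : Subgroup G} (h : IsSylowIn p Q K) (hQH : Q ≤ H) (hHK : H ≤ K) :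
    IsSylowIn p Q H := by
  refine ⟨hQH, h.isPGroup, fun hd => h.not_dvd ?_⟩
  rw [← Subgroup.relIndex_mul_relIndex Q H K hQH hHK]
  exact Dvd.dvd.mul_right hd _

theorem isSylowIn_of_sylow_le [Finite G] {p : ℕ} [Fact p.Prime] (S : Sylow p G) {H : Subgroup G}
    (h : (S : Subgroup G) ≤ H) : IsSylowIn p (S : Subgroup G) H :=
  (isSylowIn_top_of_sylow S).of_le h le_top

/-- Sylow's theorem inside `H`: any `p`-subgroup of `H` is `H`-conjugate into a given Sylow `p`-subgroup of `H`. -/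
theorem IsSylowIn.exists_conj_le [Finite G] {p : ℕ} [Fact p.Prime] {Q H R : Subgroup G} (h : IsSylowIn p Q H)
    (hR : R ≤ H) (hRp : IsPGroup p R) : ∃ x ∈ H, conjSub x R ≤ Q := by
  obtain ⟨S, hS⟩ := h.exists_sylow
  have hRp' : IsPGroup p (R.subgroupOf H) := hRp.comap_subtype
  obtain ⟨T, hT⟩ := hRp'.exists_le_sylow
  obtain ⟨x, hx⟩ := MulAction.exists_smul_eq H T S
  refine ⟨(x : G), x.2, ?_⟩
  rintro _ ⟨y, hy, rfl⟩
  have hyH : y ∈ H := hR hy
  have h1 : (⟨y, hyH⟩ : H) ∈ T := hT (by simpa [Subgroup.mem_subgroupOf] using hy)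
  have h2 : x * ⟨y, hyH⟩ * x⁻¹ ∈ x • T := by
    rw [mem_smul_sylow_iff]
    have : x⁻¹ * (x * ⟨y, hyH⟩ * x⁻¹) * x = ⟨y, hyH⟩ := by simp [mul_assoc]
    rw [this]; exact h1
  rw [hx] at h2
  have h3 : x * ⟨y, hyH⟩ * x⁻¹ ∈ (S : Subgroup ↥H) := h2
  rw [hS, Subgroup.mem_subgroupOf] at h3
  simpa using h3

theorem IsSylowIn.conjSub [Finite G] {p : ℕ} {Q H : Subgroup G} (h : IsSylowIn p Q H) (g : G) :
    IsSylowIn p (conjSub g Q) (conjSub g H) := by
  refine ⟨conjSub_mono h.le, conjSub_isPGroup h.isPGroup, ?_⟩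
  have : (Helper18.conjSub g Q).relIndex (Helper18.conjSub g H) = Q.relIndex H :=
    Subgroup.relIndex_map_map_of_injective Q H (MulAut.conj g).injective
  rw [this]
  exact h.not_dvd

theorem IsSylowIn.card_eq [Finite G] {p : ℕ} [Fact p.Prime] {Q Q' H : Subgroup G} (h : IsSylowIn p Q H)
    (h' : IsSylowIn p Q' H) : Nat.card Q = Nat.card Q' := by
  obtain ⟨x, hx, hle⟩ := h.exists_conj_le h'.le h'.isPGroup
  obtain ⟨y, hy, hle'⟩ := h'.exists_conj_le h.le h.isPGroup
  apply le_antisymm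
  · calc Nat.card Q = Nat.card (Helper18.conjSub y Q) := (card_conjSub y Q).symm
      _ ≤ Nat.card Q' := Nat.card_mono (Set.toFinite _) hle'
  · calc Nat.card Q' = Nat.card (Helper18.conjSub x Q') := (card_conjSub x Q').symm
      _ ≤ Nat.card Q := Nat.card_mono (Set.toFinite _) hle

/-- A `p`-subgroup of `H` containing a Sylow `p`-subgroup of `H` equals it. -/
theorem IsSylowIn.eq_of_le [Finite G] {p : ℕ} [Fact p.Prime] {Q H R : Subgroup G} (h : IsSylowIn p Q H)
    (hR : R ≤ H) (hRp : IsPGroup p R) (hQR : Q ≤ R) : R = Q := by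
  obtain ⟨x, hx, hle⟩ := h.exists_conj_le hR hRp
  symm
  apply Subgroup.eq_of_le_of_card_ge hQR
  calc Nat.card R = Nat.card (Helper18.conjSub x R) := (card_conjSub x R).symm
    _ ≤ Nat.card Q := Nat.card_mono (Set.toFinite _) hle

theorem relIndex_sup_of_normal [Finite G] (H K : Subgroup G) [K.Normal] :
    H.relIndex (H ⊔ K) = H.relIndex K := by
  have h1 := Subgroup.relIndex_mul_relIndex (H ⊓ K) H (H ⊔ K) inf_le_left le_sup_left
  have h2 := Subgroup.relIndex_mul_relIndex (H ⊓ K) K (H ⊔ K) inf_le_right le_sup_right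
  rw [Subgroup.relIndex_sup_right, Subgroup.inf_relIndex_right] at h2
  rw [Subgroup.inf_relIndex_left] at h1
  have h3 : K.relIndex H * H.relIndex (H ⊔ K) = K.relIndex H * H.relIndex K := by
    rw [h1, ← h2, mul_comm]
  have hne : K.relIndex H ≠ 0 := Subgroup.index_ne_zero_of_finite
  exact Nat.eq_of_mul_eq_mul_left (Nat.pos_of_ne_zero hne) h3

theorem relIndex_sup_of_le_normalizer [Finite G] (H K : Subgroup G)
    (h : H ≤ Subgroup.normalizer (K : Set G)) : H.relIndex (H ⊔ K) = H.relIndex K := by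
  set L : Subgroup G := H ⊔ K with hL
  have hHL : H ≤ L := le_sup_left
  have hKL : K ≤ L := le_sup_right
  have hLn : L ≤ Subgroup.normalizer (K : Set G) := sup_le h Subgroup.le_normalizer
  have hKn : (K.subgroupOf L).Normal := (Subgroup.normal_subgroupOf_iff_le_normalizer hKL).mpr hLn
  have h1 : H.relIndex L = (H.subgroupOf L).relIndex (L.subgroupOf L) :=
    (Subgroup.relIndex_subgroupOf (le_refl L)).symm
  have h2 : H.relIndex K = (H.subgroupOf L).relIndex (K.subgroupOf L) :=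
    (Subgroup.relIndex_subgroupOf hKL).symm
  have h3 : L.subgroupOf L = H.subgroupOf L ⊔ K.subgroupOf L :=
    Subgroup.subgroupOf_sup hHL hKL
  rw [h1, h2, h3]
  exact relIndex_sup_of_normal _ _

/-- The intersection of a Sylow subgroup of `H` with a normal subgroup `N` of `H` is Sylow in `N`. -/
theorem IsSylowIn.inf_of_normal [Finite G] {p : ℕ} {Q H N : Subgroup G} (h : IsSylowIn p Q H)
    (hNH : N ≤ H) (hN : H ≤ Subgroup.normalizer (N : Set G)) : IsSylowIn p (Q ⊓ N) N := by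
  refine ⟨inf_le_right, h.isPGroup.to_le inf_le_left, fun hd => h.not_dvd ?_⟩
  rw [Subgroup.inf_relIndex_right] at hd
  rw [← relIndex_sup_of_le_normalizer Q N (h.le.trans hN)] at hd
  have h1 : Q ⊔ N ≤ H := sup_le h.le hNH
  rw [← Subgroup.relIndex_mul_relIndex Q (Q ⊔ N) H le_sup_left h1]
  exact Dvd.dvd.mul_right hd _

/-- Frattini argument, elementwise. -/
theorem IsSylowIn.frattini [Finite G] {p : ℕ} [Fact p.Prime] {Q N : Subgroup G} (h : IsSylowIn p Q N)
    {g : G} (hg : g ∈ Subgroup.normalizer (N : Set G)) :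
    ∃ n ∈ N, n * g ∈ Subgroup.normalizer (Q : Set G) := by
  have h1 : IsSylowIn p (Helper18.conjSub g Q) N := by
    have := h.conjSub g
    rwa [conjSub_eq_of_mem_normalizer hg] at this
  obtain ⟨n, hn, hle⟩ := h.exists_conj_le h1.le h1.isPGroup
  rw [conjSub_mul] at hle
  exact ⟨n, hn, mem_normalizer_of_conjSub_le hle⟩

/-- If `L = (P ⊓ L) N` with `N` normal in `K ≥ L` and `P` Sylow in `K`, then `P ⊓ L` is Sylow in `L`. -/
theorem IsSylowIn.inf_of_le_sup [Finite G] {p : ℕ} {P K N L : Subgroup G} (h : IsSylowIn p P K)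
    (hNL : N ≤ L) (hLK : L ≤ K) (hN : K ≤ Subgroup.normalizer (N : Set G))
    (hL : L ≤ (P ⊓ L) ⊔ N) : IsSylowIn p (P ⊓ L) L := by
  refine ⟨inf_le_right, h.isPGroup.to_le inf_le_left, ?_⟩
  have hL' : L = (P ⊓ L) ⊔ N := le_antisymm hL (sup_le inf_le_right hNL)
  have h1 : (P ⊓ L).relIndex L = (P ⊓ L).relIndex N := by
    have h0 := relIndex_sup_of_le_normalizer (P ⊓ L) N ((inf_le_left.trans h.le).trans hN)
    rw [← hL'] at h0
    exact h0
  have h2 : (P ⊓ L).relIndex N = (P ⊓ N).relIndex N := by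
    rw [← Subgroup.inf_relIndex_right (P ⊓ L) N, inf_assoc, inf_eq_right.mpr hNL]
  rw [h1, h2]
  exact (h.inf_of_normal (hNL.trans hLK) hN).not_dvd

end Cfsg.Agent.Lib.Helper18
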