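import Mathlib.GroupTheory.Sylow
import Mathlib.GroupTheory.Nilpotent
import Cfsg.Prelude.Def_Solvable

set_option autoImplicit false

namespace Cfsg.Agent.Lib.Helper18

variable {G : Type*} [Group G]

theorem pPrimeCore_normal_h18 (p : ℕ) (G : Type*) [Group G] : (Cfsg.pPrimeCore p G).Normal :=
  Subgroup.sSup_normal _ (fun _ hN => hN.1)

theorem le_pPrimeCore_h18 {p : ℕ} {N : Subgroup G} (hN : N.Normal) (hp : (Nat.card N).Coprime p) :
    N ≤ Cfsg.pPrimeCore p G :=
  le_sSup ⟨hN, hp⟩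

theorem card_mul_relIndex_of_le_h18 {H K : Subgroup G} (h : H ≤ K) :
    Nat.card H * H.relIndex K = Nat.card K := by
  rw [← Subgroup.relIndex_bot_left, ← Subgroup.relIndex_bot_left (H := K)]
  exact Subgroup.relIndex_mul_relIndex ⊥ H K bot_le h

theorem card_sup_dvd_mul_h18 [Finite G] (M N : Subgroup G) [N.Normal] :
    Nat.card (M ⊔ N : Subgroup G) ∣ Nat.card M * Nat.card N := by
  rw [← card_mul_relIndex_of_le_h18 (le_sup_right : N ≤ M ⊔ N), Subgroup.relIndex_sup_right, mul_comm]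
  exact Nat.mul_dvd_mul_right (Subgroup.relIndex_dvd_card N M) _

theorem sSup_normal_coprime_h18 [Finite G] (n : ℕ) (S : Set (Subgroup G))
    (hS : ∀ N ∈ S, N.Normal ∧ (Nat.card N).Coprime n) :
    (sSup S).Normal ∧ (Nat.card (sSup S : Subgroup G)).Coprime n := by
  have hfin : S.Finite := Set.toFinite S
  induction S, hfin using Set.Finite.induction_on with
  | empty =>
    rw [sSup_empty]
    exact ⟨Subgroup.normal_bot, by simp⟩
  | @insert a s ha hs ih =>
    rw [sSup_insert]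
    have h1 := hS a (Set.mem_insert a s)
    have h2 := ih (fun N hN => hS N (Set.mem_insert_of_mem a hN))
    have := h1.1
    have := h2.1
    refine ⟨Subgroup.sup_normal a (sSup s), ?_⟩
    exact Nat.Coprime.coprime_dvd_left (card_sup_dvd_mul_h18 a (sSup s))
      (Nat.Coprime.mul_left h1.2 h2.2)

theorem pPrimeCore_card_coprime_h18 [Finite G] (p : ℕ) :
    (Nat.card (Cfsg.pPrimeCore p G)).Coprime p :=
  (sSup_normal_coprime_h18 p _ (fun _ hN => hN)).2

theorem eq_one_of_mem_pGroup_of_mem_coprime [Finite G] {p : ℕ} [Fact p.Prime] {H K : Subgroup G}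
    (hH : IsPGroup p H) (hK : (Nat.card K).Coprime p) {x : G} (hxH : x ∈ H) (hxK : x ∈ K) : x = 1 := by
  obtain ⟨k, hk⟩ := hH ⟨x, hxH⟩
  have h1 : x ^ p ^ k = 1 := by
    have := congrArg Subtype.val hk
    simpa using this
  have h2 : orderOf x ∣ p ^ k := orderOf_dvd_of_pow_eq_one h1
  have h3 : orderOf x ∣ Nat.card K := by
    have : orderOf (⟨x, hxK⟩ : ↥K) ∣ Nat.card K := orderOf_dvd_natCard _
    rwa [Subgroup.orderOf_mk] at this
  have h4 : (orderOf x).Coprime (orderOf x) :=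
    Nat.Coprime.coprime_dvd_left h3 (Nat.Coprime.coprime_dvd_right h2 (Nat.Coprime.pow_right k hK))
  exact orderOf_eq_one_iff.mp ((Nat.coprime_self _).mp h4)

theorem exists_mem_normalizer_not_mem_of_lt_pGroup [Finite G] {p : ℕ} [Fact p.Prime] {H T : Subgroup G}
    (hT : IsPGroup p T) (hlt : H < T) :
    ∃ z ∈ T, z ∈ Subgroup.normalizer (H : Set G) ∧ z ∉ H := by
  have hnil : Group.IsNilpotent ↥T := hT.isNilpotent
  have hnc := Group.normalizerCondition_of_isNilpotent (G := ↥T)
  have h1 : H.subgroupOf T < ⊤ := by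
    rw [lt_top_iff_ne_top]
    intro h
    rw [Subgroup.subgroupOf_eq_top] at h
    exact (not_le_of_gt hlt) h
  obtain ⟨z, hzN, hzH⟩ := SetLike.exists_of_lt (hnc _ h1)
  refine ⟨z, z.2, ?_, fun h => hzH (by simpa [Subgroup.mem_subgroupOf] using h)⟩
  rw [Subgroup.mem_normalizer_iff] at hzN ⊢
  intro h
  constructor
  · intro hh
    have := (hzN ⟨h, hlt.le hh⟩).mp (by simpa [Subgroup.mem_subgroupOf] using hh)
    simpa [Subgroup.mem_subgroupOf] using this
  · intro hh
    have hhT : h ∈ T := by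
      have h2 : (z : G) * h * (z : G)⁻¹ ∈ T := hlt.le hh
      have h3 : h = (z : G)⁻¹ * ((z : G) * h * (z : G)⁻¹) * (z : G) := by simp [mul_assoc]
      rw [h3]
      exact T.mul_mem (T.mul_mem (T.inv_mem z.2) h2) z.2
    have := (hzN ⟨h, hhT⟩).mpr (by simpa [Subgroup.mem_subgroupOf] using hh)
    simpa [Subgroup.mem_subgroupOf] using this

end Cfsg.Agent.Lib.Helper18
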