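import Mathlib.GroupTheory.Sylow
import Mathlib.Algebra.Group.Subgroup.Pointwise
import Mathlib.GroupTheory.GroupAction.Quotient
import Mathlib.GroupTheory.Coset.Card

set_option autoImplicit false

open scoped Pointwise

namespace Cfsg.Agent.Lib.Helper18

variable {G : Type*} [Group G]

theorem smul_quot_h18 (H K : Subgroup G) (h : ↥H) (x : G ⧸ K) : h • x = (h : G) • x := rfl

theorem smul_quot_one_h18 (H K : Subgroup G) (h : ↥H) :
    h • (((1 : G) : G ⧸ K)) = ((h : G) : G ⧸ K) := by
  rw [smul_quot_h18, MulAction.Quotient.smul_mk, smul_eq_mul, mul_one]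

theorem card_image_mk_mul_card_inf [Finite G] (H K : Subgroup G) :
    Nat.card ((H : Set G).image (QuotientGroup.mk : G → G ⧸ K) : Set (G ⧸ K)) * Nat.card ↥(H ⊓ K) =
      Nat.card H := by
  have e := MulAction.orbitProdStabilizerEquivGroup ↥H (((1 : G) : G ⧸ K))
  have h1 := Nat.card_congr e
  rw [Nat.card_prod] at h1
  have h2 : (MulAction.orbit ↥H (((1 : G) : G ⧸ K)) : Set (G ⧸ K)) =
      (H : Set G).image (QuotientGroup.mk : G → G ⧸ K) := by
    ext x
    constructor
    · rintro ⟨h, rfl⟩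
      refine ⟨(h : G), h.2, ?_⟩
      exact (smul_quot_one_h18 H K h).symm
    · rintro ⟨h, hh, rfl⟩
      refine ⟨⟨h, hh⟩, ?_⟩
      exact smul_quot_one_h18 H K ⟨h, hh⟩
  have h3 : MulAction.stabilizer ↥H (((1 : G) : G ⧸ K)) = K.subgroupOf H := by
    ext h
    rw [MulAction.mem_stabilizer_iff, Subgroup.mem_subgroupOf, smul_quot_one_h18, eq_comm,
      QuotientGroup.eq]
    simp
  have h4 : Nat.card ↥(K.subgroupOf H) = Nat.card ↥(H ⊓ K) := by
    rw [← Subgroup.inf_subgroupOf_left K H]
    exact Nat.card_congr (Subgroup.subgroupOfEquivOfLe inf_le_left).toEquiv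
  rw [← h1, h3, h4]
  congr 1
  rw [← h2]

theorem card_mul_set_mul_card_inf [Finite G] (H K : Subgroup G) :
    Nat.card ((H : Set G) * (K : Set G) : Set G) * Nat.card ↥(H ⊓ K) = Nat.card H * Nat.card K := by
  rw [Subgroup.card_mul_eq_card_subgroup_mul_card_quotient K (H : Set G), mul_assoc,
    card_image_mk_mul_card_inf, mul_comm]

theorem mul_subset_sup (H K : Subgroup G) :
    (H : Set G) * (K : Set G) ⊆ ((H ⊔ K : Subgroup G) : Set G) := by
  rintro _ ⟨h, hh, k, hk, rfl⟩
  exact Subgroup.mul_mem_sup hh hk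

theorem card_mul_set_le_card_sup [Finite G] (H K : Subgroup G) :
    Nat.card ((H : Set G) * (K : Set G) : Set G) ≤ Nat.card ↥(H ⊔ K) :=
  Nat.card_mono (Set.toFinite _) (mul_subset_sup H K)

theorem coe_sup_eq_mul_of_card_le [Finite G] (H K : Subgroup G)
    (h : Nat.card ↥(H ⊔ K) ≤ Nat.card ((H : Set G) * (K : Set G) : Set G)) :
    ((H ⊔ K : Subgroup G) : Set G) = (H : Set G) * (K : Set G) := by
  symm
  apply Set.eq_of_subset_of_ncard_le (mul_subset_sup H K) _ (Set.toFinite _)
  rw [← Nat.card_coe_set_eq, ← Nat.card_coe_set_eq]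
  exact h

theorem centralizer_sup_h18 (Q R : Subgroup G) :
    Subgroup.centralizer ((Q ⊔ R : Subgroup G) : Set G) =
      Subgroup.centralizer (Q : Set G) ⊓ Subgroup.centralizer (R : Set G) := by
  apply le_antisymm
  · exact le_inf (Subgroup.centralizer_le (by exact_mod_cast (le_sup_left : Q ≤ Q ⊔ R)))
      (Subgroup.centralizer_le (by exact_mod_cast (le_sup_right : R ≤ Q ⊔ R)))
  · rintro x ⟨hxQ, hxR⟩
    have h1 : Q ≤ Subgroup.centralizer ({x} : Set G) := by
      intro q hq
      rw [Subgroup.mem_centralizer_iff]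
      intro y hy
      rw [Set.mem_singleton_iff] at hy
      rw [hy]
      exact (hxQ q hq).symm
    have h2 : R ≤ Subgroup.centralizer ({x} : Set G) := by
      intro q hq
      rw [Subgroup.mem_centralizer_iff]
      intro y hy
      rw [Set.mem_singleton_iff] at hy
      rw [hy]
      exact (hxR q hq).symm
    have h3 : Q ⊔ R ≤ Subgroup.centralizer ({x} : Set G) := sup_le h1 h2
    rw [Subgroup.mem_centralizer_iff]
    intro y hy
    have := h3 hy
    rw [Subgroup.mem_centralizer_iff] at this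
    exact (this x (Set.mem_singleton x)).symm

theorem centralizer_sup_le_centralizer_inf (Q R : Subgroup G) :
    Subgroup.centralizer (Q : Set G) ⊔ Subgroup.centralizer (R : Set G) ≤
      Subgroup.centralizer ((Q ⊓ R : Subgroup G) : Set G) :=
  sup_le (Subgroup.centralizer_le (by exact_mod_cast (inf_le_left : Q ⊓ R ≤ Q)))
    (Subgroup.centralizer_le (by exact_mod_cast (inf_le_right : Q ⊓ R ≤ R)))

theorem cd_arith {a b J D CJ CD q r cq cr M : ℕ} (hD : 0 < D) (hCJ : 0 < CJ) (hMpos : 0 < M)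
    (h1 : a * D = q * r) (h2 : b * CJ = cq * cr) (ha : a ≤ J) (hb : b ≤ CD)
    (hq : q * cq = M) (hr : r * cr = M) (hx : J * CJ ≤ M) (hy : D * CD ≤ M) :
    a = J ∧ b = CD ∧ J * CJ = M ∧ D * CD = M := by
  have e1 : M * M = (a * b) * (D * CJ) := by
    calc M * M = (q * cq) * (r * cr) := by rw [hq, hr]
      _ = (q * r) * (cq * cr) := by ring
      _ = (a * D) * (b * CJ) := by rw [h1, h2]
      _ = (a * b) * (D * CJ) := by ring
  have e2 : (J * CD) * (D * CJ) ≤ M * M := by
    calc (J * CD) * (D * CJ) = (J * CJ) * (D * CD) := by ring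
      _ ≤ M * M := Nat.mul_le_mul hx hy
  have e3 : a * b ≤ J * CD := Nat.mul_le_mul ha hb
  have hpos : 0 < D * CJ := Nat.mul_pos hD hCJ
  have e4 : J * CD ≤ a * b := by
    rw [e1] at e2
    exact Nat.le_of_mul_le_mul_right e2 hpos
  have e5 : a * b = J * CD := le_antisymm e3 e4
  have hab : 0 < a * b := by
    rcases Nat.eq_zero_or_pos (a * b) with h | h
    · rw [h, zero_mul] at e1
      exact absurd e1 (Nat.mul_pos hMpos hMpos).ne'
    · exact h
  have hapos : 0 < a := Nat.pos_of_mul_pos_right hab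
  have hbpos : 0 < b := Nat.pos_of_mul_pos_left hab
  have haJ : a = J := by
    by_contra hne
    have hlt : a < J := lt_of_le_of_ne ha hne
    have : a * b < J * CD := calc a * b < J * b := Nat.mul_lt_mul_of_pos_right hlt hbpos
      _ ≤ J * CD := Nat.mul_le_mul_left J hb
    exact absurd e5 this.ne
  have hbCD : b = CD := by
    by_contra hne
    have hlt : b < CD := lt_of_le_of_ne hb hne
    have : a * b < J * CD := calc a * b < a * CD := Nat.mul_lt_mul_of_pos_left hlt hapos
      _ ≤ J * CD := Nat.mul_le_mul_right CD ha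
    exact absurd e5 this.ne
  have e6 : (J * CJ) * (D * CD) = M * M := by
    calc (J * CJ) * (D * CD) = (J * CD) * (D * CJ) := by ring
      _ = (a * b) * (D * CJ) := by rw [e5]
      _ = M * M := e1.symm
  have hxpos : 0 < J * CJ := by
    rcases Nat.eq_zero_or_pos (J * CJ) with h | h
    · rw [h, zero_mul] at e6
      exact absurd e6.symm (Nat.mul_pos hMpos hMpos).ne'
    · exact h
  have hypos : 0 < D * CD := by
    rcases Nat.eq_zero_or_pos (D * CD) with h | h
    · rw [h, mul_zero] at e6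
      exact absurd e6.symm (Nat.mul_pos hMpos hMpos).ne'
    · exact h
  refine ⟨haJ, hbCD, ?_, ?_⟩
  · by_contra hne
    have hlt : J * CJ < M := lt_of_le_of_ne hx hne
    have : (J * CJ) * (D * CD) < M * M := calc
      (J * CJ) * (D * CD) < M * (D * CD) := Nat.mul_lt_mul_of_pos_right hlt hypos
      _ ≤ M * M := Nat.mul_le_mul_left M hy
    exact absurd e6 this.ne
  · by_contra hne
    have hlt : D * CD < M := lt_of_le_of_ne hy hne
    have : (J * CJ) * (D * CD) < M * M := calc
      (J * CJ) * (D * CD) < (J * CJ) * M := Nat.mul_lt_mul_of_pos_left hlt hxpos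
      _ ≤ M * M := Nat.mul_le_mul_right M hx
    exact absurd e6 this.ne

/-- Chermak-Delgado measure. -/
noncomputable def cdm (H : Subgroup G) : ℕ :=
  Nat.card H * Nat.card (Subgroup.centralizer (H : Set G))

theorem cd_core [Finite G] (M : ℕ) (hM : ∀ H : Subgroup G, cdm H ≤ M) (Q R : Subgroup G)
    (hQ : cdm Q = M) (hR : cdm R = M) :
    ((Q ⊔ R : Subgroup G) : Set G) = (Q : Set G) * (R : Set G) ∧ cdm (Q ⊔ R) = M ∧ cdm (Q ⊓ R) = M ∧
      Nat.card ↥(Subgroup.centralizer ((Q ⊓ R : Subgroup G) : Set G)) =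
        Nat.card ((Subgroup.centralizer (Q : Set G) : Set G) * (Subgroup.centralizer (R : Set G) : Set G) : Set G) := by
  have h1 := card_mul_set_mul_card_inf Q R
  have h2 := card_mul_set_mul_card_inf (Subgroup.centralizer (Q : Set G)) (Subgroup.centralizer (R : Set G))
  rw [← centralizer_sup_h18] at h2
  have ha := card_mul_set_le_card_sup Q R
  have hb : Nat.card ((Subgroup.centralizer (Q : Set G) : Set G) * (Subgroup.centralizer (R : Set G) : Set G) : Set G) ≤
      Nat.card ↥(Subgroup.centralizer ((Q ⊓ R : Subgroup G) : Set G)) :=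
    le_trans (card_mul_set_le_card_sup _ _)
      (Nat.card_mono (Set.toFinite _) (centralizer_sup_le_centralizer_inf Q R))
  have hMpos : 0 < M := by
    rw [← hQ]
    exact Nat.mul_pos Nat.card_pos Nat.card_pos
  obtain ⟨e1, e2, e3, e4⟩ := cd_arith (Nat.card_pos (α := ↥(Q ⊓ R)))
    (Nat.card_pos (α := ↥(Subgroup.centralizer ((Q ⊔ R : Subgroup G) : Set G)))) hMpos h1 h2 ha hb hQ hR
    (hM (Q ⊔ R)) (hM (Q ⊓ R))
  exact ⟨coe_sup_eq_mul_of_card_le Q R e1.ge, e3, e4, e2.symm⟩

end Cfsg.Agent.Lib.Helper18
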