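import Cfsg.Prelude.Def_BaumannBlocks
import Cfsg.Agent.Lib.Helper18.ChermakDelgado

set_option autoImplicit false

open scoped Pointwise

namespace Cfsg.Agent.Lib.Helper18

variable {G : Type*} [Group G]

theorem cdm_le_max [Finite G] (H : Subgroup G) : cdm H ≤ Cfsg.maxCentralizerProduct G := by
  unfold Cfsg.maxCentralizerProduct
  apply le_csSup
  · refine ⟨Nat.card G * Nat.card G, ?_⟩
    rintro k ⟨R, rfl⟩
    exact Nat.mul_le_mul (Subgroup.card_le_card_group R) (Subgroup.card_le_card_group _)
  · exact ⟨H, rfl⟩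

theorem isCentralizerLarge_iff (H : Subgroup G) :
    Cfsg.IsCentralizerLarge H ↔ cdm H = Cfsg.maxCentralizerProduct G := Iff.rfl

theorem le_centralizer_centralizer_h18 (Q : Subgroup G) :
    Q ≤ Subgroup.centralizer ((Subgroup.centralizer (Q : Set G) : Subgroup G) : Set G) := by
  intro q hq
  rw [Subgroup.mem_centralizer_iff]
  intro c hc
  exact (hc q hq).symm

theorem cd_centralizer [Finite G] {Q : Subgroup G} (hQ : Cfsg.IsCentralizerLarge Q) :
    Cfsg.IsCentralizerLarge (Subgroup.centralizer (Q : Set G)) ∧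
      Q = Subgroup.centralizer ((Subgroup.centralizer (Q : Set G) : Subgroup G) : Set G) := by
  rw [isCentralizerLarge_iff] at hQ ⊢
  set M := Cfsg.maxCentralizerProduct G
  set C := Subgroup.centralizer (Q : Set G) with hC
  set CC := Subgroup.centralizer (C : Set G) with hCC
  have hle : Q ≤ CC := le_centralizer_centralizer_h18 Q
  have h1 : Nat.card Q ≤ Nat.card CC := Nat.card_mono (Set.toFinite _) hle
  have h2 : cdm C ≤ M := cdm_le_max C
  have h3 : M ≤ cdm C := by
    rw [← hQ]
    unfold cdm
    rw [mul_comm]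
    exact Nat.mul_le_mul_left _ h1
  have h4 : cdm C = M := le_antisymm h2 h3
  refine ⟨h4, ?_⟩
  have h5 : Nat.card C * Nat.card CC = Nat.card C * Nat.card Q := by
    have : cdm C = cdm Q := by rw [h4, hQ]
    unfold cdm at this
    rw [this, mul_comm]
  have h6 : Nat.card CC = Nat.card Q := Nat.eq_of_mul_eq_mul_left Nat.card_pos h5
  exact (Subgroup.eq_of_le_of_card_ge hle h6.le)

end Cfsg.Agent.Lib.Helper18
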