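import Cfsg.Prelude.Def_BaumannBlocks
import Cfsg.Agent.Lib.Helper18.ChermakDelgado2

set_option autoImplicit false

open scoped Pointwise

namespace Cfsg.Agent.Lib.Helper18

variable {G : Type*} [Group G]

theorem center_eq_subgroupOf_h18 (R : Subgroup G) :
    Subgroup.center ↥R = (Subgroup.centralizer (R : Set G)).subgroupOf R := by
  ext z
  rw [Subgroup.mem_center_iff, Subgroup.mem_subgroupOf, Subgroup.mem_centralizer_iff]
  constructor
  · intro h g hg
    have := h ⟨g, hg⟩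
    exact congrArg Subtype.val this
  · intro h g
    apply Subtype.ext
    exact h g g.2

theorem card_center_eq_h18 (R : Subgroup G) :
    Nat.card ↥(Subgroup.center ↥R) = Nat.card ↥(R ⊓ Subgroup.centralizer (R : Set G)) := by
  rw [center_eq_subgroupOf_h18, ← Subgroup.inf_subgroupOf_left (Subgroup.centralizer (R : Set G)) R]
  exact Nat.card_congr (Subgroup.subgroupOfEquivOfLe inf_le_left).toEquiv

/-- central measure. -/
noncomputable def cfm (R : Subgroup G) : ℕ :=
  Nat.card R * Nat.card ↥(R ⊓ Subgroup.centralizer (R : Set G))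

theorem isCentrallyLarge_iff (R : Subgroup G) :
    Cfsg.IsCentrallyLarge R ↔ cfm R = Cfsg.maxCentralProduct G := by
  unfold Cfsg.IsCentrallyLarge cfm
  rw [card_center_eq_h18]

theorem cfm_le_cdm [Finite G] (R : Subgroup G) : cfm R ≤ cdm R := by
  unfold cfm cdm
  exact Nat.mul_le_mul_left _ (Nat.card_mono (Set.toFinite _) inf_le_right)

theorem bddAbove_cfm_set [Finite G] :
    BddAbove {k : ℕ | ∃ R : Subgroup G, Nat.card ↥R * Nat.card ↥(Subgroup.center ↥R) = k} := by
  refine ⟨Nat.card G * Nat.card G, ?_⟩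
  rintro k ⟨R, rfl⟩
  refine Nat.mul_le_mul (Subgroup.card_le_card_group R) ?_
  exact le_trans (Subgroup.card_le_card_group _) (Subgroup.card_le_card_group R)

theorem cfm_le_max [Finite G] (H : Subgroup G) : cfm H ≤ Cfsg.maxCentralProduct G := by
  unfold Cfsg.maxCentralProduct
  apply le_csSup bddAbove_cfm_set
  exact ⟨H, by unfold cfm; rw [card_center_eq_h18]⟩

theorem exists_cfm_eq_max [Finite G] : ∃ R : Subgroup G, cfm R = Cfsg.maxCentralProduct G := by
  have := Nat.sSup_mem (s := {k : ℕ | ∃ R : Subgroup G, Nat.card ↥R * Nat.card ↥(Subgroup.center ↥R) = k})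
    ⟨_, ⟨⊥, rfl⟩⟩ bddAbove_cfm_set
  obtain ⟨R, hR⟩ := this
  exact ⟨R, by unfold cfm; rw [← card_center_eq_h18]; exact hR⟩

theorem exists_cdm_eq_max [Finite G] : ∃ R : Subgroup G, cdm R = Cfsg.maxCentralizerProduct G := by
  have hb : BddAbove {k : ℕ | ∃ R : Subgroup G, Nat.card ↥R * Nat.card ↥(Subgroup.centralizer (R : Set G)) = k} := by
    refine ⟨Nat.card G * Nat.card G, ?_⟩
    rintro k ⟨R, rfl⟩
    exact Nat.mul_le_mul (Subgroup.card_le_card_group R) (Subgroup.card_le_card_group _)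
  have := Nat.sSup_mem (s := {k : ℕ | ∃ R : Subgroup G, Nat.card ↥R * Nat.card ↥(Subgroup.centralizer (R : Set G)) = k})
    ⟨_, ⟨⊥, rfl⟩⟩ hb
  obtain ⟨R, hR⟩ := this
  exact ⟨R, hR⟩

/-- For `T = R C(R)`: `cdm R ≤ cfm T`. -/
theorem cdm_le_cfm_sup_centralizer [Finite G] (R : Subgroup G) :
    cdm R ≤ cfm (R ⊔ Subgroup.centralizer (R : Set G)) := by
  set C := Subgroup.centralizer (R : Set G) with hC
  set T := R ⊔ C with hT
  have hCT : Subgroup.centralizer (T : Set G) = C ⊓ Subgroup.centralizer (C : Set G) := by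
    rw [hT, centralizer_sup_h18]
  have hCTT : Subgroup.centralizer (T : Set G) ≤ T := by
    rw [hCT]; exact le_trans inf_le_left le_sup_right
  have hZ : T ⊓ Subgroup.centralizer (T : Set G) = Subgroup.centralizer (T : Set G) :=
    inf_eq_right.mpr hCTT
  have h1 : R ⊓ C ≤ Subgroup.centralizer (T : Set G) := by
    rw [hCT]
    exact le_inf inf_le_right (le_trans inf_le_left (le_centralizer_centralizer_h18 R))
  have h2 : Nat.card ↥(R ⊓ C) ≤ Nat.card ↥(Subgroup.centralizer (T : Set G)) :=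
    Nat.card_mono (Set.toFinite _) h1
  have h3 := card_mul_set_mul_card_inf R C
  have h4 := card_mul_set_le_card_sup R C
  have h5 : Nat.card R * Nat.card C ≤ Nat.card T * Nat.card ↥(R ⊓ C) := by
    rw [← h3]; exact Nat.mul_le_mul_right _ h4
  unfold cdm cfm
  rw [hZ]
  have hpos : 0 < Nat.card ↥(R ⊓ C) := Nat.card_pos
  apply Nat.le_of_mul_le_mul_right _ hpos
  calc Nat.card R * Nat.card C * Nat.card ↥(R ⊓ C)
      ≤ Nat.card T * Nat.card ↥(R ⊓ C) * Nat.card ↥(R ⊓ C) := Nat.mul_le_mul_right _ h5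
    _ ≤ Nat.card T * Nat.card ↥(R ⊓ C) * Nat.card ↥(Subgroup.centralizer (T : Set G)) :=
        Nat.mul_le_mul_left _ h2
    _ = Nat.card T * Nat.card ↥(Subgroup.centralizer (T : Set G)) * Nat.card ↥(R ⊓ C) := by ring

theorem maxCentralProduct_eq [Finite G] :
    Cfsg.maxCentralProduct G = Cfsg.maxCentralizerProduct G := by
  apply le_antisymm
  · obtain ⟨R, hR⟩ := exists_cfm_eq_max (G := G)
    rw [← hR]
    exact le_trans (cfm_le_cdm R) (cdm_le_max R)
  · obtain ⟨R, hR⟩ := exists_cdm_eq_max (G := G)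
    rw [← hR]
    exact le_trans (cdm_le_cfm_sup_centralizer R) (cfm_le_max _)

theorem centrallyLarge_centralizerLarge [Finite G] {Q : Subgroup G} (hQ : Cfsg.IsCentrallyLarge Q) :
    Cfsg.IsCentralizerLarge Q ∧ Subgroup.centralizer (Q : Set G) = Q ⊓ Subgroup.centralizer (Q : Set G) := by
  rw [isCentrallyLarge_iff, maxCentralProduct_eq] at hQ
  have h1 : cdm Q = Cfsg.maxCentralizerProduct G :=
    le_antisymm (cdm_le_max Q) (hQ ▸ cfm_le_cdm Q)
  refine ⟨h1, ?_⟩
  have h2 : cfm Q = cdm Q := by rw [hQ, h1]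
  unfold cfm cdm at h2
  have h3 : Nat.card ↥(Q ⊓ Subgroup.centralizer (Q : Set G)) = Nat.card ↥(Subgroup.centralizer (Q : Set G)) :=
    Nat.eq_of_mul_eq_mul_left Nat.card_pos h2
  exact (Subgroup.eq_of_le_of_card_ge inf_le_right h3.ge).symm

theorem centralizerLarge_centrallyLarge_iff [Finite G] {Q : Subgroup G} (hQ : Cfsg.IsCentralizerLarge Q) :
    Cfsg.IsCentrallyLarge Q ↔ Subgroup.centralizer (Q : Set G) ≤ Q := by
  constructor
  · intro h
    have := (centrallyLarge_centralizerLarge h).2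
    rw [this]; exact inf_le_left
  · intro h
    rw [isCentrallyLarge_iff, maxCentralProduct_eq]
    have h1 : Q ⊓ Subgroup.centralizer (Q : Set G) = Subgroup.centralizer (Q : Set G) := inf_eq_right.mpr h
    have h2 : cfm Q = cdm Q := by unfold cfm cdm; rw [h1]
    rw [h2]; exact hQ

theorem centrallyLarge_sup [Finite G] {Q R : Subgroup G} (hQ : Cfsg.IsCentrallyLarge Q)
    (hR : Cfsg.IsCentrallyLarge R) :
    ((Q ⊔ R : Subgroup G) : Set G) = (Q : Set G) * (R : Set G) ∧ Cfsg.IsCentrallyLarge (Q ⊔ R) := by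
  obtain ⟨hQ1, hQ2⟩ := centrallyLarge_centralizerLarge hQ
  obtain ⟨hR1, hR2⟩ := centrallyLarge_centralizerLarge hR
  obtain ⟨e1, e2, _, _⟩ := cd_core _ cdm_le_max Q R hQ1 hR1
  refine ⟨e1, ?_⟩
  have e2' : Cfsg.IsCentralizerLarge (Q ⊔ R) := e2
  rw [centralizerLarge_centrallyLarge_iff e2', centralizer_sup_h18]
  have : Subgroup.centralizer (Q : Set G) ≤ Q := by rw [hQ2]; exact inf_le_left
  exact le_trans inf_le_left (le_trans this le_sup_left)

theorem centrallyLarge_sSup [Finite G] (S : Set (Subgroup G)) (hne : S.Nonempty)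
    (hS : ∀ R ∈ S, Cfsg.IsCentrallyLarge R) : Cfsg.IsCentrallyLarge (sSup S) := by
  have hfin : S.Finite := Set.toFinite S
  induction S, hfin using Set.Finite.induction_on with
  | empty => exact absurd hne Set.not_nonempty_empty
  | @insert a s ha hs ih =>
    rw [sSup_insert]
    have h1 := hS a (Set.mem_insert a s)
    rcases Set.eq_empty_or_nonempty s with hse | hsne
    · rw [hse, sSup_empty, sup_bot_eq]; exact h1
    · have h2 := ih hsne (fun R hR => hS R (Set.mem_insert_of_mem a hR))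
      exact (centrallyLarge_sup h1 h2).2

theorem exists_isCentrallyLarge [Finite G] : ∃ R : Subgroup G, Cfsg.IsCentrallyLarge R := by
  obtain ⟨R, hR⟩ := exists_cfm_eq_max (G := G)
  exact ⟨R, (isCentrallyLarge_iff R).mpr hR⟩

theorem exists_isMinimalCentrallyLarge_le [Finite G] {Q : Subgroup G} (hQ : Cfsg.IsCentrallyLarge Q) :
    ∃ R : Subgroup G, R ≤ Q ∧ Cfsg.IsMinimalCentrallyLarge R := by
  have hfin : {R : Subgroup G | R ≤ Q ∧ Cfsg.IsCentrallyLarge R}.Finite := Set.toFinite _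
  obtain ⟨R, ⟨hRQ, hRcl⟩, hmin⟩ := hfin.exists_minimal ⟨Q, le_refl Q, hQ⟩
  refine ⟨R, hRQ, hRcl, ?_⟩
  intro R' hR'R hR'cl
  exact le_antisymm hR'R (hmin ⟨le_trans hR'R hRQ, hR'cl⟩ hR'R)

end Cfsg.Agent.Lib.Helper18
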