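import Cfsg.Prelude.Def_BaumannBlocks
import Cfsg.Agent.Lib.Helper18.ChermakDelgado3

set_option autoImplicit false

open scoped Pointwise

namespace Cfsg.Agent.Lib.Helper18

variable {G : Type*} [Group G]

theorem isMulCommutative_sup_of_le_centralizer {A B : Subgroup G} (hA : IsMulCommutative A)
    (hB : IsMulCommutative B) (hAB : B ≤ Subgroup.centralizer (A : Set G)) : IsMulCommutative ↥(A ⊔ B) := by
  rw [← Subgroup.le_centralizer_iff_isMulCommutative, centralizer_sup_h18]
  have hA' : A ≤ Subgroup.centralizer (A : Set G) := Subgroup.le_centralizer_iff_isMulCommutative.mpr hA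
  have hB' : B ≤ Subgroup.centralizer (B : Set G) := Subgroup.le_centralizer_iff_isMulCommutative.mpr hB
  have hBA : A ≤ Subgroup.centralizer (B : Set G) := Subgroup.le_centralizer_iff.mp hAB
  exact sup_le (le_inf hA' hBA) (le_inf hAB hB')

theorem isMulCommutative_zpowers_h18 (x : G) : IsMulCommutative ↥(Subgroup.zpowers x) := by
  rw [← Subgroup.le_centralizer_iff_isMulCommutative]
  intro y hy
  obtain ⟨i, rfl⟩ := Subgroup.mem_zpowers_iff.mp hy
  rw [Subgroup.mem_centralizer_iff]
  intro z hz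
  obtain ⟨j, rfl⟩ := Subgroup.mem_zpowers_iff.mp hz
  rw [← zpow_add, ← zpow_add, add_comm]

theorem centralizer_eq_of_mem_maxAbelian [Finite G] {A : Subgroup G} (hA : A ∈ Cfsg.maxAbelianSubgroups G) :
    Subgroup.centralizer (A : Set G) = A := by
  apply le_antisymm
  · intro x hx
    have hzx : Subgroup.zpowers x ≤ Subgroup.centralizer (A : Set G) := by
      rw [Subgroup.zpowers_le]; exact hx
    have h1 : IsMulCommutative ↥(A ⊔ Subgroup.zpowers x) :=
      isMulCommutative_sup_of_le_centralizer hA.1 (isMulCommutative_zpowers_h18 x) hzx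
    have h2 := hA.2 _ h1
    have h3 : A ⊔ Subgroup.zpowers x = A := (Subgroup.eq_of_le_of_card_ge le_sup_left h2).symm
    rw [← h3]
    exact (le_sup_right : Subgroup.zpowers x ≤ A ⊔ Subgroup.zpowers x) (Subgroup.mem_zpowers x)
  · exact Subgroup.le_centralizer_iff_isMulCommutative.mpr hA.1

theorem exists_mem_maxAbelian [Finite G] : ∃ A : Subgroup G, A ∈ Cfsg.maxAbelianSubgroups G := by
  have hne : Nonempty {B : Subgroup G // IsMulCommutative B} :=
    ⟨⟨⊥, by rw [← Subgroup.le_centralizer_iff_isMulCommutative]; exact bot_le⟩⟩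
  obtain ⟨A, hA⟩ := Finite.exists_max (fun B : {B : Subgroup G // IsMulCommutative B} => Nat.card (B : Subgroup G))
  exact ⟨A.1, A.2, fun B hB => hA ⟨B, hB⟩⟩

/-- `Z(Q)` as a subgroup of `G`. -/
abbrev zOf (Q : Subgroup G) : Subgroup G := Q ⊓ Subgroup.centralizer (Q : Set G)

theorem isMulCommutative_inf_sup_zOf {Q A : Subgroup G} (hA : IsMulCommutative A) :
    IsMulCommutative ↥((Q ⊓ A) ⊔ zOf Q) := by
  have h1 : IsMulCommutative ↥(Q ⊓ A) := by
    rw [← Subgroup.le_centralizer_iff_isMulCommutative]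
    exact le_trans inf_le_right (le_trans (Subgroup.le_centralizer_iff_isMulCommutative.mpr hA)
      (Subgroup.centralizer_le (by exact_mod_cast (inf_le_right : Q ⊓ A ≤ A))))
  have h2 : IsMulCommutative ↥(zOf Q) := by
    rw [← Subgroup.le_centralizer_iff_isMulCommutative]
    exact le_trans inf_le_right (Subgroup.centralizer_le (by exact_mod_cast (inf_le_left : zOf Q ≤ Q)))
  apply isMulCommutative_sup_of_le_centralizer h1 h2
  exact le_trans inf_le_right (Subgroup.centralizer_le (by exact_mod_cast (inf_le_left : Q ⊓ A ≤ Q)))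

theorem cl_sup_maxAbelian [Finite G] {Q A : Subgroup G} (hQ : Cfsg.IsCentrallyLarge Q)
    (hA : A ∈ Cfsg.maxAbelianSubgroups G) :
    ((Q ⊔ A : Subgroup G) : Set G) = (Q : Set G) * (A : Set G) ∧ Cfsg.IsCentrallyLarge (Q ⊔ A) ∧
      (Q ⊓ A) ⊔ zOf Q ∈ Cfsg.maxAbelianSubgroups G := by
  obtain ⟨hQ1, hQ2⟩ := centrallyLarge_centralizerLarge hQ
  have hQ1' : cdm Q = Cfsg.maxCentralizerProduct G := hQ1
  set M := Cfsg.maxCentralizerProduct G with hM
  have hCA := centralizer_eq_of_mem_maxAbelian hA
  set J := Q ⊔ A with hJ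
  set B := (Q ⊓ A) ⊔ zOf Q with hB
  have hBab : IsMulCommutative ↥B := isMulCommutative_inf_sup_zOf hA.1
  have hBA : Nat.card B ≤ Nat.card A := hA.2 B hBab
  have hCJ : Subgroup.centralizer (J : Set G) = Subgroup.centralizer (Q : Set G) ⊓ A := by
    rw [hJ, centralizer_sup_h18, hCA]
  have hinf : (Q ⊓ A) ⊓ zOf Q = Subgroup.centralizer (J : Set G) := by
    rw [hCJ]
    apply le_antisymm
    · exact le_inf (le_trans inf_le_right inf_le_right) (le_trans inf_le_left inf_le_right)
    · refine le_inf (le_inf ?_ inf_le_right) (le_inf ?_ inf_le_left)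
      · rw [hQ2]; exact le_trans inf_le_left inf_le_left
      · rw [hQ2]; exact le_trans inf_le_left inf_le_left
  have h1 := card_mul_set_mul_card_inf Q A
  have ha := card_mul_set_le_card_sup Q A
  have h2 := card_mul_set_mul_card_inf (Q ⊓ A) (zOf Q)
  rw [hinf] at h2
  have hb := card_mul_set_le_card_sup (Q ⊓ A) (zOf Q)
  have hzc : Nat.card ↥(zOf Q) = Nat.card ↥(Subgroup.centralizer (Q : Set G)) := by
    have : zOf Q = Subgroup.centralizer (Q : Set G) := hQ2.symm
    rw [this]
  set a := Nat.card ((Q : Set G) * (A : Set G) : Set G) with hadef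
  set cj := Nat.card ↥(Subgroup.centralizer (J : Set G)) with hcj
  set d := Nat.card ↥(Q ⊓ A) with hd
  set cq := Nat.card ↥(Subgroup.centralizer (Q : Set G)) with hcq
  have e1 : d * cq ≤ Nat.card B * cj := by
    rw [← hzc, ← h2]
    exact Nat.mul_le_mul_right _ hb
  have e2 : d * cq ≤ Nat.card A * cj := le_trans e1 (Nat.mul_le_mul_right _ hBA)
  have hdpos : 0 < d := Nat.card_pos
  have hcjpos : 0 < cj := Nat.card_pos
  have hqpos : 0 < Nat.card Q := Nat.card_pos
  have e3 : M ≤ a * cj := by
    apply Nat.le_of_mul_le_mul_right _ hdpos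
    calc M * d = Nat.card Q * (d * cq) := by rw [← hQ1']; unfold cdm; ring
      _ ≤ Nat.card Q * (Nat.card A * cj) := Nat.mul_le_mul_left _ e2
      _ = (a * d) * cj := by rw [h1]; ring
      _ = a * cj * d := by ring
  have e4 : a * cj ≤ cdm J := by
    unfold cdm
    exact Nat.mul_le_mul_right _ ha
  have e5 : cdm J = M := le_antisymm (cdm_le_max J) (le_trans e3 e4)
  have e6 : a * cj = M := le_antisymm (e5 ▸ e4) e3
  have e7 : Nat.card J ≤ a := by
    have : Nat.card J * cj = a * cj := by
      have := e5; unfold cdm at this; rw [this, e6]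
    exact (Nat.eq_of_mul_eq_mul_right hcjpos this).le
  have hJcl : Cfsg.IsCentralizerLarge J := e5
  refine ⟨coe_sup_eq_mul_of_card_le Q A e7, ?_, hBab, ?_⟩
  · rw [centralizerLarge_centrallyLarge_iff hJcl, hCJ]
    have : Subgroup.centralizer (Q : Set G) ≤ Q := by rw [hQ2]; exact inf_le_left
    exact le_trans inf_le_left (le_trans this le_sup_left)
  · intro B' hB'
    refine le_trans (hA.2 B' hB') ?_
    have e8 : Nat.card A * cj ≤ d * cq := by
      apply Nat.le_of_mul_le_mul_left _ hqpos
      apply le_of_eq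
      calc Nat.card Q * (Nat.card A * cj) = (a * d) * cj := by rw [h1]; ring
        _ = (a * cj) * d := by ring
        _ = M * d := by rw [e6]
        _ = Nat.card Q * (d * cq) := by rw [← hQ1']; unfold cdm; ring
    have e9 : Nat.card A * cj ≤ Nat.card B * cj := le_trans e8 e1
    exact Nat.le_of_mul_le_mul_right e9 hcjpos

end Cfsg.Agent.Lib.Helper18
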