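import Mathlib.GroupTheory.Index
import Cfsg.Prelude.Def_PLocal
import Cfsg.Agent.Lib.Helper18.ChermakDelgado4
import Cfsg.Agent.Lib.Helper18.PPrimeCore
import Cfsg.Agent.Lib.Helper18.SylowIn

set_option autoImplicit false

open scoped Pointwise

namespace Cfsg.Agent.Lib.Helper18

variable {G : Type*} [Group G]

theorem card_eq_card_mul_relIndex [Finite G] {H K : Subgroup G} (h : H ≤ K) :
    Nat.card K = Nat.card H * H.relIndex K := by
  rw [← Subgroup.relIndex_bot_left, ← Subgroup.relIndex_bot_left,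
    Subgroup.relIndex_mul_relIndex _ _ _ bot_le h]

theorem not_le_normalizer_iff_exists [Finite G] {x : G} {A : Subgroup G}
    (hx : x ∉ Subgroup.normalizer (A : Set G)) : ∃ a ∈ A, x * a * x⁻¹ ∉ A := by
  by_contra hcon
  push Not at hcon
  apply hx
  apply mem_normalizer_of_conjSub_le
  rintro _ ⟨a, ha, rfl⟩
  exact hcon a ha

theorem exists_thompson_element [Finite G] {p : ℕ} [Fact p.Prime] (hG : IsPGroup p G) {A B : Subgroup G}
    (hAB : A ≤ Subgroup.normalizer (B : Set G)) (hBA : ¬ B ≤ Subgroup.normalizer (A : Set G)) :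
    ∃ x ∈ B, x ∉ Subgroup.normalizer (A : Set G) ∧
      ∀ a ∈ A, x * a * x⁻¹ * a⁻¹ ∈ Subgroup.normalizer (A : Set G) := by
  set N := B ⊓ Subgroup.normalizer (A : Set G) with hN
  have hNn : N ≤ Subgroup.normalizer (A : Set G) := inf_le_right
  have hAn : A ≤ Subgroup.normalizer (A : Set G) := Subgroup.le_normalizer
  have hHT : A ⊔ N ≤ A ⊔ B := sup_le_sup_left inf_le_left A
  have hHset : ((A ⊔ N : Subgroup G) : Set G) = (A : Set G) * (N : Set G) :=
    Subgroup.coe_mul_of_right_le_normalizer_left A N hNn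
  have hTset : ((A ⊔ B : Subgroup G) : Set G) = (A : Set G) * (B : Set G) :=
    Subgroup.coe_mul_of_left_le_normalizer_right A B hAB
  have hHB : ∀ y ∈ A ⊔ N, y ∈ B → y ∈ N := by
    intro y hy hyB
    have hy' : y ∈ ((A ⊔ N : Subgroup G) : Set G) := hy
    rw [hHset] at hy'
    obtain ⟨a, ha, n, hn, rfl⟩ := hy'
    have haB : a ∈ B := by
      have : a = (a * n) * n⁻¹ := by simp
      rw [this]
      exact B.mul_mem hyB (B.inv_mem hn.1)
    exact N.mul_mem ⟨haB, hAn ha⟩ hn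
  have hlt : A ⊔ N < A ⊔ B := by
    refine lt_of_le_of_ne hHT ?_
    intro heq
    apply hBA
    intro b hb
    have hb' : b ∈ A ⊔ N := heq ▸ (le_sup_right : B ≤ A ⊔ B) hb
    exact (hHB b hb' hb).2
  obtain ⟨z, hzT, hzN, hzH⟩ := exists_mem_normalizer_not_mem_of_lt_pGroup (hG.to_subgroup (A ⊔ B)) hlt
  have hzT' : z ∈ ((A ⊔ B : Subgroup G) : Set G) := hzT
  rw [hTset] at hzT'
  obtain ⟨a, ha, b, hb, rfl⟩ := hzT'
  have haH : a ∈ A ⊔ N := (le_sup_left : A ≤ A ⊔ N) ha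
  have hbNH : b ∈ Subgroup.normalizer ((A ⊔ N : Subgroup G) : Set G) := by
    have : b = a⁻¹ * (a * b) := by simp
    rw [this]
    exact Subgroup.mul_mem _ (Subgroup.inv_mem _ (Subgroup.le_normalizer haH)) hzN
  have hbH : b ∉ A ⊔ N := fun h => hzH (Subgroup.mul_mem _ haH h)
  refine ⟨b, hb, fun h => hbH ((le_sup_right : N ≤ A ⊔ N) ⟨hb, h⟩), ?_⟩
  intro a' ha'
  have h1 : b * a' * b⁻¹ ∈ A ⊔ N :=
    (Subgroup.mem_normalizer_iff.mp hbNH a').mp ((le_sup_left : A ≤ A ⊔ N) ha')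
  have h2 : A ⊔ N ≤ Subgroup.normalizer (A : Set G) := sup_le hAn hNn
  exact Subgroup.mul_mem _ (h2 h1) (Subgroup.inv_mem _ (hAn ha'))

theorem thompson_replacement_core [Finite G] {A B : Subgroup G}
    (hA : A ∈ Cfsg.maxAbelianSubgroups G) (hB : IsMulCommutative B)
    (hAB : A ≤ Subgroup.normalizer (B : Set G))
    (x : G) (hxB : x ∈ B)
    (hxN : ∀ a ∈ A, x * a * x⁻¹ * a⁻¹ ∈ Subgroup.normalizer (A : Set G))
    (hxA : x ∉ Subgroup.normalizer (A : Set G)) :
    ∃ A' ∈ Cfsg.maxAbelianSubgroups G, A ⊓ B < A' ⊓ B ∧ A' ≤ Subgroup.normalizer (A : Set G) := by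
  have hAab : ∀ a ∈ A, ∀ a' ∈ A, a * a' = a' * a := by
    intro a ha a' ha'
    have := (Subgroup.le_centralizer_iff_isMulCommutative.mpr hA.1) ha
    rw [Subgroup.mem_centralizer_iff] at this
    exact (this a' ha').symm
  have hBab : ∀ b ∈ B, ∀ b' ∈ B, b * b' = b' * b := by
    intro b hb b' hb'
    have := (Subgroup.le_centralizer_iff_isMulCommutative.mpr hB) hb
    rw [Subgroup.mem_centralizer_iff] at this
    exact (this b' hb').symm
  set φ : G → G := fun a => x * a * x⁻¹ * a⁻¹ with hφ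
  have hφB : ∀ a ∈ A, φ a ∈ B := by
    intro a ha
    have h1 : a * x⁻¹ * a⁻¹ ∈ B :=
      (Subgroup.mem_normalizer_iff.mp (hAB ha) x⁻¹).mp (B.inv_mem hxB)
    have : φ a = x * (a * x⁻¹ * a⁻¹) := by simp [hφ, mul_assoc]
    rw [this]
    exact B.mul_mem hxB h1
  have hF1 : ∀ n ∈ B, n ∈ Subgroup.normalizer (A : Set G) → ∀ a ∈ A,
      n * a * n⁻¹ * a⁻¹ ∈ A ⊓ B := by
    intro n hnB hnN a ha
    refine ⟨?_, ?_⟩
    · exact A.mul_mem ((Subgroup.mem_normalizer_iff.mp hnN a).mp ha) (A.inv_mem ha)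
    · have h1 : a * n⁻¹ * a⁻¹ ∈ B :=
        (Subgroup.mem_normalizer_iff.mp (hAB ha) n⁻¹).mp (B.inv_mem hnB)
      have : n * a * n⁻¹ * a⁻¹ = n * (a * n⁻¹ * a⁻¹) := by simp [mul_assoc]
      rw [this]
      exact B.mul_mem hnB h1
  have hF3 : ∀ a ∈ A, ∀ a' ∈ A, ∃ e ∈ A ⊓ B, φ (a * a') = φ a * e * φ a' := by
    intro a ha a' ha'
    refine ⟨(φ a' * a * (φ a')⁻¹ * a⁻¹)⁻¹, Subgroup.inv_mem _ (hF1 _ (hφB a' ha') (hxN a' ha') a ha), ?_⟩
    simp [hφ, mul_assoc]
  let K : Subgroup G :=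
    { carrier := {a | a ∈ A ∧ φ a ∈ A}
      one_mem' := ⟨A.one_mem, by simp [hφ]⟩
      mul_mem' := by
        rintro a a' ⟨ha, hfa⟩ ⟨ha', hfa'⟩
        refine ⟨A.mul_mem ha ha', ?_⟩
        obtain ⟨e, he, heq⟩ := hF3 a ha a' ha'
        rw [heq]
        exact A.mul_mem (A.mul_mem hfa he.1) hfa'
      inv_mem' := by
        rintro a ⟨ha, hfa⟩
        refine ⟨A.inv_mem ha, ?_⟩
        have : φ a⁻¹ = a⁻¹ * (φ a)⁻¹ * a := by simp [hφ, mul_assoc]
        rw [this]
        exact A.mul_mem (A.mul_mem (A.inv_mem ha) (A.inv_mem hfa)) ha }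
  have hKA : K ≤ A := fun a ha => ha.1
  have hKmem : ∀ a, a ∈ K ↔ a ∈ A ∧ φ a ∈ A := fun a => Iff.rfl
  set M := Subgroup.closure (φ '' (A : Set G)) with hM
  have hMB : M ≤ B := by
    rw [hM, Subgroup.closure_le]
    rintro _ ⟨a, ha, rfl⟩
    exact hφB a ha
  have hMN : M ≤ Subgroup.normalizer (A : Set G) := by
    rw [hM, Subgroup.closure_le]
    rintro _ ⟨a, ha, rfl⟩
    exact hxN a ha
  have hφM : ∀ a ∈ A, φ a ∈ M := fun a ha => Subgroup.subset_closure ⟨a, ha, rfl⟩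
  have hMab : IsMulCommutative M := by
    rw [← Subgroup.le_centralizer_iff_isMulCommutative]
    exact le_trans hMB (le_trans (Subgroup.le_centralizer_iff_isMulCommutative.mpr hB)
      (Subgroup.centralizer_le (by exact_mod_cast hMB)))
  have hKab : IsMulCommutative K := by
    rw [← Subgroup.le_centralizer_iff_isMulCommutative]
    exact le_trans hKA (le_trans (Subgroup.le_centralizer_iff_isMulCommutative.mpr hA.1)
      (Subgroup.centralizer_le (by exact_mod_cast hKA)))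
  have hMK : M ≤ Subgroup.centralizer (K : Set G) := by
    rw [hM, Subgroup.closure_le]
    rintro _ ⟨a, ha, rfl⟩
    rw [SetLike.mem_coe, Subgroup.mem_centralizer_iff]
    intro k hk
    obtain ⟨hkA, hfk⟩ := hk
    have hfkB : φ k ∈ B := hφB k hkA
    set e := (φ k)⁻¹ with he
    have heA : e ∈ A := A.inv_mem hfk
    have heB : e ∈ B := B.inv_mem hfkB
    have h1 : k * x = e * x * k := by simp [he, hφ, mul_assoc]
    have h2 : k * a = a * k := hAab k hkA a ha
    have h3 : e * φ a = φ a * e := hBab e heB _ (hφB a ha)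
    have hc1 : k * a * k⁻¹ = a := by rw [h2]; group
    have hc2 : k * x * k⁻¹ = e * x := by rw [h1]; group
    have hc3 : a * e⁻¹ * a⁻¹ = e⁻¹ := by rw [hAab a ha e⁻¹ (A.inv_mem heA)]; group
    have key : k * φ a * k⁻¹ = φ a := by
      have s1 : k * φ a * k⁻¹ =
          (k * x * k⁻¹) * (k * a * k⁻¹) * (k * x * k⁻¹)⁻¹ * (k * a * k⁻¹)⁻¹ := by
        simp only [hφ]; group
      rw [s1, hc1, hc2]
      have s2 : e * x * a * (e * x)⁻¹ * a⁻¹ = e * (x * a * x⁻¹ * a⁻¹) * (a * e⁻¹ * a⁻¹) := by group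
      rw [s2, hc3]
      show e * φ a * e⁻¹ = φ a
      rw [h3]; group
    show k * φ a = φ a * k
    calc k * φ a = k * φ a * k⁻¹ * k := by group
      _ = φ a * k := by rw [key]
  have hA'ab : IsMulCommutative ↥(M ⊔ K) := isMulCommutative_sup_of_le_centralizer hMab hKab (Subgroup.le_centralizer_iff.mp hMK)
  have hrel : K.relIndex A ≤ A.relIndex M := by
    have hstep : ∀ a ∈ A, ∀ b ∈ A, ((φ a)⁻¹ * φ b ∈ A ↔ a⁻¹ * b ∈ K) := by
      intro a ha b hb
      have hab : a⁻¹ * b ∈ A := A.mul_mem (A.inv_mem ha) hb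
      obtain ⟨e, he, heq⟩ := hF3 a ha (a⁻¹ * b) hab
      have hfb : φ b = φ a * e * φ (a⁻¹ * b) := by
        rw [← heq]; simp
      have h2 : (φ a)⁻¹ * φ b = e * φ (a⁻¹ * b) := by rw [hfb]; group
      rw [h2]
      constructor
      · intro h
        refine ⟨hab, ?_⟩
        have : φ (a⁻¹ * b) = e⁻¹ * (e * φ (a⁻¹ * b)) := by group
        rw [this]
        exact A.mul_mem (A.inv_mem he.1) h
      · intro h
        exact A.mul_mem he.1 h.2
    have hcompat : ∀ a b : A, QuotientGroup.leftRel (K.subgroupOf A) a b →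
        QuotientGroup.leftRel (A.subgroupOf M) (⟨φ a, hφM a a.2⟩ : M) ⟨φ b, hφM b b.2⟩ := by
      intro a b hab
      rw [QuotientGroup.leftRel_apply] at hab ⊢
      rw [Subgroup.mem_subgroupOf] at hab ⊢
      have hab' : (a : G)⁻¹ * b ∈ K := by simpa using hab
      have := (hstep a a.2 b b.2).mpr hab'
      simpa using this
    have hinj : Function.Injective (Quotient.map' (s₁ := QuotientGroup.leftRel (K.subgroupOf A))
        (s₂ := QuotientGroup.leftRel (A.subgroupOf M))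
        (fun a : A => (⟨φ a, hφM a a.2⟩ : M)) hcompat) := by
      intro q₁ q₂ h
      obtain ⟨a, rfl⟩ := Quotient.mk''_surjective q₁
      obtain ⟨b, rfl⟩ := Quotient.mk''_surjective q₂
      rw [Quotient.map'_mk'', Quotient.map'_mk'', Quotient.eq''] at h
      rw [Quotient.eq'']
      rw [QuotientGroup.leftRel_apply] at h ⊢
      rw [Subgroup.mem_subgroupOf] at h ⊢
      have h' : (φ a)⁻¹ * φ b ∈ A := by simpa using h
      have := (hstep a a.2 b b.2).mp h'
      simpa using this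
    exact Nat.card_le_card_of_injective _ hinj
  have hcard : Nat.card A ≤ Nat.card ↥(M ⊔ K) := by
    have e1 := card_eq_card_mul_relIndex hKA
    have e2 := card_eq_card_mul_relIndex (inf_le_left : M ⊓ A ≤ M)
    rw [Subgroup.inf_relIndex_left] at e2
    have e3 := card_mul_set_mul_card_inf M K
    have e4 := card_mul_set_le_card_sup M K
    have e5 : Nat.card ↥(M ⊓ K) ≤ Nat.card ↥(M ⊓ A) :=
      Nat.card_mono (Set.toFinite _) (inf_le_inf_left M hKA)
    have hpos : 0 < Nat.card ↥(M ⊓ A) := Nat.card_pos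
    apply Nat.le_of_mul_le_mul_right _ hpos
    calc Nat.card A * Nat.card ↥(M ⊓ A) = Nat.card K * (Nat.card ↥(M ⊓ A) * K.relIndex A) := by
          rw [e1]; ring
      _ ≤ Nat.card K * (Nat.card ↥(M ⊓ A) * A.relIndex M) :=
          Nat.mul_le_mul_left _ (Nat.mul_le_mul_left _ hrel)
      _ = Nat.card M * Nat.card K := by rw [← e2]; ring
      _ = Nat.card ((M : Set G) * (K : Set G) : Set G) * Nat.card ↥(M ⊓ K) := e3.symm
      _ ≤ Nat.card ↥(M ⊔ K) * Nat.card ↥(M ⊓ A) := Nat.mul_le_mul e4 e5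
  obtain ⟨a₀, ha₀, hxa₀⟩ := not_le_normalizer_iff_exists hxA
  refine ⟨M ⊔ K, ⟨hA'ab, fun B' hB' => le_trans (hA.2 B' hB') hcard⟩, ?_, sup_le hMN (le_trans hKA Subgroup.le_normalizer)⟩
  have hEK : A ⊓ B ≤ K := by
    rintro e ⟨heA, heB⟩
    refine ⟨heA, ?_⟩
    have : φ e = 1 := by
      have h1 : x * e = e * x := hBab x hxB e heB
      show x * e * x⁻¹ * e⁻¹ = 1
      rw [h1]; group
    rw [this]; exact A.one_mem
  refine lt_of_le_of_ne (le_inf (le_trans hEK le_sup_right) inf_le_right) ?_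
  intro heq
  have h1 : φ a₀ ∈ (M ⊔ K) ⊓ B := ⟨(le_sup_left : M ≤ M ⊔ K) (hφM a₀ ha₀), hφB a₀ ha₀⟩
  rw [← heq] at h1
  apply hxa₀
  have : x * a₀ * x⁻¹ = φ a₀ * a₀ := by simp [hφ, mul_assoc]
  rw [this]
  exact A.mul_mem h1.1 ha₀

theorem thompson_replacement [Finite G] {p : ℕ} [Fact p.Prime] (hG : IsPGroup p G) {A B : Subgroup G}
    (hA : A ∈ Cfsg.maxAbelianSubgroups G) (hB : IsMulCommutative B)
    (hAB : A ≤ Subgroup.normalizer (B : Set G)) (hBA : ¬ B ≤ Subgroup.normalizer (A : Set G)) :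
    ∃ A' ∈ Cfsg.maxAbelianSubgroups G, A ⊓ B < A' ⊓ B ∧ A' ≤ Subgroup.normalizer (A : Set G) := by
  obtain ⟨x, hxB, hxA, hxN⟩ := exists_thompson_element hG hAB hBA
  exact thompson_replacement_core hA hB hAB x hxB hxN hxA

end Cfsg.Agent.Lib.Helper18
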