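import Mathlib
import Cfsg.Agent.Lib.Helper11.BenderS
import Cfsg.Agent.Lib.Helper21.PSeries
import Cfsg.Agent.S1450

set_option autoImplicit false
open scoped commutatorElement

namespace Cfsg.Agent.Lib.Helper18.BGTenA

open Cfsg Cfsg.Agent.Lib.Helper21 Cfsg.Agent.Lib.Helper1
open Cfsg.Agent.Lib.Helper11.MaxSubB Cfsg.Agent.Lib.Helper11.BenderE
  Cfsg.Agent.Lib.Helper11.BenderS

universe u

section general

variable {X : Type*} [Group X] [Finite X] {p : ℕ} [hp : Fact p.Prime]

/-- a normal series `1 ≤ A ≤ B ≤ X` with factors of orders prime to `p`, a power of `p`, prime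
to `p` shows that `X` has `p`-length at most one -/
theorem plength_one_of_series (A B : Subgroup X) [hAn : A.Normal] [hBn : B.Normal] (hAB : A ≤ B)
    (hA : (Nat.card A).Coprime p) (hB : ∃ k : ℕ, A.relIndex B = p ^ k)
    (hX : B.index.Coprime p) : PLengthLE p 1 X := by
  have h1 : A ≤ ups p X 1 := by
    apply le_ups_succ 0
    unfold GoodCard
    rw [if_pos (by decide : Even 0)]
    exact Nat.Coprime.coprime_dvd_left (Subgroup.card_map_dvd _ _) hA
  have h2 : B ≤ ups p X 2 := by
    apply le_ups_succ 1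
    unfold GoodCard
    rw [if_neg (by decide : ¬ Even 1)]
    have e : Nat.card (B.map (QuotientGroup.mk' (ups p X 1))) = (ups p X 1).relIndex B := by
      rw [← Subgroup.relIndex_ker, QuotientGroup.ker_mk']
    rw [e]
    obtain ⟨k, hk⟩ := hB
    have hd : (ups p X 1).relIndex B ∣ p ^ k := by
      rw [← hk]
      exact Subgroup.relIndex_dvd_of_le_left B h1
    obtain ⟨j, -, hj⟩ := (Nat.dvd_prime_pow hp.out).mp hd
    exact ⟨j, hj⟩
  rw [plength_iff, eq_top_iff]
  apply le_ups_succ 2
  unfold GoodCard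
  rw [if_pos (by decide : Even 2)]
  have e : Nat.card ((⊤ : Subgroup X).map (QuotientGroup.mk' (ups p X 2))) = (ups p X 2).index := by
    rw [← Subgroup.relIndex_ker, QuotientGroup.ker_mk', Subgroup.relIndex_top_right]
  rw [e]
  exact Nat.Coprime.coprime_dvd_left (Subgroup.index_dvd_of_le h2) hX

/-- `O_{p',p}(X)` of index prime to `p` gives `p`-length at most one -/
theorem plength_one_of_pPrimePCore (h : ((pPrimePCore p X).index).Coprime p) :
    PLengthLE p 1 X := by
  have hBn : (pPrimePCore p X).Normal := by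
    unfold pPrimePCore
    infer_instance
  have hAB : pPrimeCore p X ≤ pPrimePCore p X := by
    intro x hx
    unfold pPrimePCore
    rw [Subgroup.mem_comap]
    have : QuotientGroup.mk' (pPrimeCore p X) x = 1 := (QuotientGroup.eq_one_iff x).mpr hx
    rw [this]
    exact Subgroup.one_mem _
  refine plength_one_of_series (pPrimeCore p X) (pPrimePCore p X) hAB
    (pPrimeCore_card_coprime p) ?_ h
  have e : (pPrimeCore p X).relIndex (pPrimePCore p X) =
      Nat.card ((pPrimePCore p X).map (QuotientGroup.mk' (pPrimeCore p X))) := by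
    rw [← Subgroup.relIndex_ker, QuotientGroup.ker_mk']
  rw [e]
  unfold pPrimePCore
  rw [Subgroup.map_comap_eq_self_of_surjective (QuotientGroup.mk'_surjective _)]
  exact IsPGroup.iff_card.mp (pCore_isPGroup p)

/-- `p`-length bounds pass to subgroups of subgroups -/
theorem plength_of_le {Y : Type*} [Group Y] [Finite Y] {M H : Subgroup Y} (hHM : H ≤ M) {k : ℕ}
    (h : PLengthLE p k ↥M) : PLengthLE p k ↥H := by
  have h1 : PLengthLE p k ↥(H.subgroupOf M) := plength_subgroup_of_normal (H.subgroupOf M) h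
  exact plength_of_surjective (Subgroup.subgroupOfEquivOfLe hHM).toMonoidHom
    (Subgroup.subgroupOfEquivOfLe hHM).surjective h1

end general

variable {G : Type u} [Group G] [Finite G]

/-- **B & G, Theorem 10.6 for maximal subgroups** (given B & G, Theorem 3.6) -/
theorem coatom_plength (hG : Cfsg.IsMinSimpleOddOrder G) (M : Subgroup G) (hM : IsCoatom M)
    (h36 : Thm36 ↥M) (p : ℕ) [hp : Fact p.Prime] : Cfsg.PLengthLE p 1 ↥M := by
  have hMs : Group.IsSolvable ↥M := coatom_solvable hG M hM
  have hModd : Odd (Nat.card ↥M) := coatom_odd hG M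
  by_cases hpM : p ∣ Nat.card ↥M
  · by_cases hr : Cfsg.PRankLE p 2 ↥M
    · exact plength_one_of_pPrimePCore (Cfsg.Agent.S1450.result hModd p hpM hr).2.2.2.2.2
    · exact plength_of_alpha hG M hM h36 p ⟨hp.out, hr⟩
  · apply plength_mono (Nat.zero_le 1)
    apply plength_zero_of_coprime
    exact ((Nat.Prime.coprime_iff_not_dvd hp.out).mpr hpM).symm

/-- **B & G, Theorem 10.6**: every proper subgroup has `p`-length one (given B & G, Theorem 3.6) -/
theorem proper_plength (hG : Cfsg.IsMinSimpleOddOrder G)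
    (h36 : ∀ M : Subgroup G, IsCoatom M → Thm36 ↥M) (p : ℕ) [hp : Fact p.Prime]
    (H : Subgroup G) (hH : H ≠ ⊤) : Cfsg.PLengthLE p 1 ↥H := by
  obtain ⟨M, hM, hHM⟩ := exists_coatom_ge H hH
  exact plength_of_le hHM (coatom_plength hG M hM (h36 M hM) p)

end Cfsg.Agent.Lib.Helper18.BGTenA
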