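import Mathlib
import Cfsg.Agent.Lib.Helper18.BGTenA
import Cfsg.Agent.S1461
import Cfsg.Agent.S1459

set_option autoImplicit false
open scoped commutatorElement

namespace Cfsg.Agent.Lib.Helper18.BGTenB

open Cfsg Cfsg.Agent.Lib.Helper21 Cfsg.Agent.Lib.Helper1 Cfsg.Agent.Lib.Helper18
open Cfsg.Agent.Lib.Helper11.MaxSubB Cfsg.Agent.Lib.Helper11.MaxSubD Cfsg.Agent.Lib.Helper11.BenderE
  Cfsg.Agent.Lib.Helper11.BenderM Cfsg.Agent.Lib.Helper11.BenderN
  Cfsg.Agent.Lib.Helper11.BenderS Cfsg.Agent.Lib.Helper18.BGTenA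

universe u

variable {G : Type u} [Group G] [Finite G]

/-- the normalizer of a nontrivial Sylow subgroup is proper -/
theorem sylow_normalizer_ne_top (hG : Cfsg.IsMinSimpleOddOrder G) (p : ℕ) [hp : Fact p.Prime]
    (P : Sylow p G) (hP1 : (P : Subgroup G) ≠ ⊥) :
    Subgroup.normalizer ((P : Subgroup G) : Set G) ≠ ⊤ := by
  intro h
  have hn : (P : Subgroup G).Normal := Subgroup.normalizer_eq_top_iff.mp h
  have hsimple : IsSimpleGroup G := hG.2.1
  rcases hn.eq_bot_or_eq_top with h' | h'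
  · exact hP1 h'
  · exact pgroup_ne_top hG p (P : Subgroup G) P.isPGroup' h'

/-- a nontrivial Sylow subgroup of `G` is a good Sylow subgroup of any maximal subgroup containing
its normalizer -/
theorem exists_coatom_good (hG : Cfsg.IsMinSimpleOddOrder G) (p : ℕ) [hp : Fact p.Prime]
    (P : Sylow p G) (hP1 : (P : Subgroup G) ≠ ⊥) :
    ∃ M : Subgroup G, IsCoatom M ∧ Good M p (P : Subgroup G) := by
  obtain ⟨M, hM, hNM⟩ := exists_coatom_ge _ (sylow_normalizer_ne_top hG p P hP1)
  have hPM : (P : Subgroup G) ≤ M := Subgroup.le_normalizer.trans hNM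
  exact ⟨M, hM, good_of_sigma M p _ (isSylowIn_of_sylow_le P hPM) hNM⟩

omit [Finite G] in
/-- the normalizer in `M` of `P ∩ M` maps into the normalizer of `P` when `P ≤ M` -/
theorem normalizer_subgroupOf_map_le {P M : Subgroup G} (hPM : P ≤ M) :
    (Subgroup.normalizer ((P.subgroupOf M : Subgroup ↥M) : Set ↥M)).map M.subtype ≤
      Subgroup.normalizer (P : Set G) := by
  rintro _ ⟨y, hy, rfl⟩
  have hy : y ∈ Subgroup.normalizer ((P.subgroupOf M : Subgroup ↥M) : Set ↥M) := hy
  rw [Subgroup.mem_normalizer_iff] at hy ⊢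
  intro h
  constructor
  · intro hh
    have := (hy ⟨h, hPM hh⟩).mp (Subgroup.mem_subgroupOf.mpr hh)
    exact Subgroup.mem_subgroupOf.mp this
  · intro hh
    have hhM : h ∈ M := by
      have h1 : (M.subtype y)⁻¹ * (M.subtype y * h * (M.subtype y)⁻¹) * M.subtype y ∈ M :=
        M.mul_mem (M.mul_mem (M.inv_mem y.2) (hPM hh)) y.2
      have e : (M.subtype y)⁻¹ * (M.subtype y * h * (M.subtype y)⁻¹) * M.subtype y = h := by group
      rwa [e] at h1
    have := (hy ⟨h, hhM⟩).mpr (Subgroup.mem_subgroupOf.mpr hh)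
    exact Subgroup.mem_subgroupOf.mp this

/-- **B & G, Corollary 10.7(a), second half**: `P ≤ N_G(P)'` -/
theorem sylow_le_normalizer_derived (hG : Cfsg.IsMinSimpleOddOrder G)
    (h36 : ∀ M : Subgroup G, IsCoatom M → Thm36 ↥M) (p : ℕ) [hp : Fact p.Prime] (P : Sylow p G) :
    (P : Subgroup G) ≤ ⁅Subgroup.normalizer ((P : Subgroup G) : Set G),
      Subgroup.normalizer ((P : Subgroup G) : Set G)⁆ := by
  by_cases hP1 : (P : Subgroup G) = ⊥
  · rw [hP1]; exact bot_le
  obtain ⟨M, hM, hgood⟩ := exists_coatom_good hG p P hP1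
  have hMs : Group.IsSolvable ↥M := coatom_solvable hG M hM
  have hPM : (P : Subgroup G) ≤ M := hgood.1.le
  have hder : (P : Subgroup G) ≤ ⁅M, M⁆ := sylow_le_derived hG M hM p _ hgood
  obtain ⟨PM, hPMeq⟩ := hgood.1.exists_sylow
  have h1 : (PM : Subgroup ↥M) ≤ commutator ↥M := by
    intro x hx
    rw [hPMeq, Subgroup.mem_subgroupOf] at hx
    have h2 := hder hx
    rw [← Subgroup.map_subtype_commutator] at h2
    obtain ⟨y, hy, hyx⟩ := h2
    have : y = x := Subtype.ext hyx
    rwa [← this]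
  have h3 := (Cfsg.Agent.S1461.result (G := ↥M) p (coatom_plength hG M hM (h36 M hM) p) PM).1 h1
  intro x hx
  have hx' : (⟨x, hPM hx⟩ : ↥M) ∈ (PM : Subgroup ↥M) := by
    rw [hPMeq, Subgroup.mem_subgroupOf]
    exact hx
  have h4 : x ∈ (⁅Subgroup.normalizer (((PM : Subgroup ↥M)) : Set ↥M),
      Subgroup.normalizer (((PM : Subgroup ↥M)) : Set ↥M)⁆).map M.subtype := ⟨_, h3 hx', rfl⟩
  rw [Subgroup.map_commutator] at h4
  have h5 : (Subgroup.normalizer (((PM : Subgroup ↥M)) : Set ↥M)).map M.subtype ≤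
      Subgroup.normalizer ((P : Subgroup G) : Set G) := by
    rw [hPMeq]
    exact normalizer_subgroupOf_map_le hPM
  exact Subgroup.commutator_mono h5 h5 h4

/-- **B & G, Corollary 10.7(a)**: `P = [P, V]` for a complement `V` of `P` in `N_G(P)` -/
theorem sylow_eq_commutator (hG : Cfsg.IsMinSimpleOddOrder G)
    (h36 : ∀ M : Subgroup G, IsCoatom M → Thm36 ↥M) (p : ℕ) [hp : Fact p.Prime] (P : Sylow p G)
    (V : Subgroup G)
    (hV : Cfsg.IsComplIn (P : Subgroup G) V (Subgroup.normalizer ((P : Subgroup G) : Set G))) :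
    (P : Subgroup G) = ⁅(P : Subgroup G), V⁆ := by
  by_cases hP1 : (P : Subgroup G) = ⊥
  · rw [hP1, Subgroup.commutator_bot_left]
  obtain ⟨N, hN⟩ : ∃ N : Subgroup G, N = Subgroup.normalizer ((P : Subgroup G) : Set G) :=
    ⟨_, rfl⟩
  have hNtop : N ≠ ⊤ := by rw [hN]; exact sylow_normalizer_ne_top hG p P hP1
  have hNs : Group.IsSolvable ↥N := hG.2.2.2 N hNtop
  obtain ⟨hPN, hVN, hdisj, hprod⟩ := hV
  rw [← hN] at hPN hVN hprod
  have hder := sylow_le_normalizer_derived hG h36 p P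
  rw [← hN] at hder
  obtain ⟨H, hH⟩ : ∃ H : Subgroup ↥N, H = (P : Subgroup G).subgroupOf N := ⟨_, rfl⟩
  obtain ⟨K, hK⟩ : ∃ K : Subgroup ↥N, K = V.subgroupOf N := ⟨_, rfl⟩
  have hHn : H.Normal := by
    rw [hH]
    constructor
    intro n hn g
    rw [Subgroup.mem_subgroupOf] at hn ⊢
    have hg : (g : G) ∈ Subgroup.normalizer ((P : Subgroup G) : Set G) := hN ▸ g.2
    have := (Subgroup.mem_normalizer_iff.mp hg (n : G)).mp hn
    simpa using this
  have hHmap : H.map N.subtype = (P : Subgroup G) := by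
    rw [hH, Subgroup.map_subgroupOf_eq_of_le hPN]
  have hKmap : K.map N.subtype = V := by
    rw [hK, Subgroup.map_subgroupOf_eq_of_le hVN]
  have hHcard : Nat.card H = Nat.card (P : Subgroup G) := by
    rw [← hHmap, Subgroup.card_map_of_injective (Subgroup.subtype_injective _)]
  have hcop : (Nat.card H).Coprime H.index := by
    have hidx : H.index = (P : Subgroup G).relIndex N := by rw [hH]; rfl
    rw [hHcard, hidx]
    obtain ⟨k, hk⟩ := IsPGroup.iff_card.mp P.isPGroup'
    rw [hk]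
    apply Nat.Coprime.pow_left
    rw [Nat.Prime.coprime_iff_not_dvd hp.out]
    intro hd
    exact P.not_dvd_index (hd.trans (Subgroup.relIndex_dvd_index_of_le hPN))
  have hcompl : Subgroup.IsComplement' H K := by
    apply Subgroup.isComplement'_of_disjoint_and_mul_eq_univ
    · rw [disjoint_iff, eq_bot_iff]
      rintro x ⟨hx1, hx2⟩
      rw [hH] at hx1
      rw [hK] at hx2
      have : (x : G) ∈ (P : Subgroup G) ⊓ V :=
        ⟨Subgroup.mem_subgroupOf.mp hx1, Subgroup.mem_subgroupOf.mp hx2⟩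
      rw [hdisj, Subgroup.mem_bot] at this
      rw [Subgroup.mem_bot]
      exact Subtype.ext this
    · rw [Set.eq_univ_iff_forall]
      intro m
      obtain ⟨a, ha, b, hb, hab⟩ := hprod m m.2
      refine ⟨⟨a, hPN ha⟩, ?_, ⟨b, hVN hb⟩, ?_, ?_⟩
      · rw [hH]; exact Subgroup.mem_subgroupOf.mpr ha
      · rw [hK]; exact Subgroup.mem_subgroupOf.mpr hb
      · exact Subtype.ext hab.symm
  have hHc : H ≤ commutator ↥N := by
    intro x hx
    rw [hH, Subgroup.mem_subgroupOf] at hx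
    have h2 := hder hx
    rw [← Subgroup.map_subtype_commutator] at h2
    obtain ⟨y, hy, hyx⟩ := h2
    have : y = x := Subtype.ext hyx
    rwa [← this]
  have key := ((Cfsg.Agent.S1459.result (G := ↥N)).1 H K hHn hcop hcompl hHc).1
  have := congrArg (Subgroup.map N.subtype) key
  rw [Subgroup.map_commutator, hHmap, hKmap] at this
  exact this

end Cfsg.Agent.Lib.Helper18.BGTenB
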