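import Mathlib.GroupTheory.Sylow
import Cfsg.Prelude.Def_Solvable

set_option autoImplicit false

namespace Cfsg.Agent.Lib.Helper18

theorem pCore_isPGroup (p : ℕ) (G : Type*) [Group G] : IsPGroup p (Cfsg.pCore p G) :=
  Sylow.sSup_of_normal _ (fun _ h => h.2) (fun _ h => h.1)

theorem pCore_normal_h18 (p : ℕ) (G : Type*) [Group G] : (Cfsg.pCore p G).Normal :=
  Subgroup.sSup_normal _ (fun _ h => h.1)

theorem le_pCore {p : ℕ} {G : Type*} [Group G] {N : Subgroup G} (hN : N.Normal)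
    (hp : IsPGroup p N) : N ≤ Cfsg.pCore p G :=
  le_sSup ⟨hN, hp⟩

theorem pCore_characteristic (p : ℕ) (G : Type*) [Group G] : (Cfsg.pCore p G).Characteristic := by
  rw [Subgroup.characteristic_iff_map_le]
  intro ϕ
  apply le_pCore
  · have := pCore_normal_h18 p G
    exact Subgroup.Normal.map inferInstance _ ϕ.surjective
  · exact (pCore_isPGroup p G).map _

theorem isPGroup_of_forall_coprime_eq_one {p : ℕ} [hp : Fact p.Prime] {C : Type*} [Group C] [Finite C]
    (h : ∀ x : C, (orderOf x).Coprime p → x = 1) : IsPGroup p C := by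
  intro c
  obtain ⟨a, m, hm, hn⟩ := Nat.exists_eq_pow_mul_and_not_dvd (orderOf_pos c).ne' p hp.out.ne_one
  refine ⟨a, ?_⟩
  apply h
  rw [orderOf_pow' c (pow_ne_zero a hp.out.ne_zero), hn]
  have hcop : Nat.Coprime m p := ((Nat.Prime.coprime_iff_not_dvd hp.out).2 hm).symm
  have hg : Nat.gcd (p ^ a * m) (p ^ a) = p ^ a := Nat.gcd_eq_right (dvd_mul_right _ _)
  rw [hg, Nat.mul_div_cancel_left _ (pow_pos hp.out.pos a)]
  exact hcop

theorem eq_one_of_conj_eq_mul_of_coprime {G : Type*} [Group G] {r x d : G} {m k : ℕ}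
    (hconj : r * x * r⁻¹ = d * x) (hcomm : Commute d x) (hx : x ^ m = 1) (hd : d ^ k = 1)
    (hmk : Nat.Coprime m k) : d = 1 := by
  have h1 : (r * x * r⁻¹) ^ m = 1 := by
    rw [conj_pow, hx]; simp
  rw [hconj, hcomm.mul_pow, hx, mul_one] at h1
  have h2 : orderOf d ∣ m := orderOf_dvd_of_pow_eq_one h1
  have h3 : orderOf d ∣ k := orderOf_dvd_of_pow_eq_one hd
  have h4 : orderOf d ∣ 1 := by
    have := Nat.dvd_gcd h2 h3
    rwa [hmk] at this
  exact orderOf_eq_one_iff.mp (Nat.dvd_one.mp h4)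

end Cfsg.Agent.Lib.Helper18
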