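import Mathlib
import Cfsg.Agent.Lib.Helper11.BenderS
import Cfsg.Agent.S1444

set_option autoImplicit false

namespace Cfsg.Agent.Lib.Helper18.BGTenE

universe u

/-- B & G, Theorem 3.6 in the packaged form used by the section 10 library -/
theorem thm36 (Γ : Type u) [Group Γ] [Finite Γ] : Cfsg.Agent.Lib.Helper11.BenderS.Thm36 Γ := by
  intro hs hodd H R R₀ hn hc hR hle hp hZ q hq
  haveI := hs
  haveI := hn
  haveI : Fact q.Prime := ⟨hq⟩
  exact Cfsg.Agent.S1444.result hodd H R R₀ hc hR hle hp hZ q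

end Cfsg.Agent.Lib.Helper18.BGTenE
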