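import Mathlib
import Cfsg.Agent.Lib.Helper11.BenderS
import Cfsg.Agent.S1459

set_option autoImplicit false
open scoped commutatorElement

namespace Cfsg.Agent.Lib.Helper18.BGThirteenA

open Cfsg Cfsg.Agent.Lib.Helper18
open Cfsg.Agent.Lib.Helper11.MaxSubB Cfsg.Agent.Lib.Helper11.MaxSubD Cfsg.Agent.Lib.Helper11.BenderE
  Cfsg.Agent.Lib.Helper11.BenderM Cfsg.Agent.Lib.Helper11.BenderN Cfsg.Agent.Lib.Helper11.BenderO
  Cfsg.Agent.Lib.Helper11.BenderS

universe u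

variable {G : Type u} [Group G] [Finite G]

omit [Finite G] in
theorem sigmaCore_le (M : Subgroup G) : Cfsg.sigmaCore M ≤ M := by
  unfold Cfsg.sigmaCore
  exact Subgroup.map_subtype_le _

/-- primes dividing the order of a subgroup of `M_σ` lie in `σ(M)` -/
theorem mem_sigma_of_dvd (hG : Cfsg.IsMinSimpleOddOrder G) (M : Subgroup G) (hM : IsCoatom M)
    (X : Subgroup G) (hX : X ≤ Cfsg.sigmaCore M) (p : ℕ) (hp : p.Prime) (hd : p ∣ Nat.card X) :
    p ∈ Cfsg.sigma M :=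
  (sigma_hall hG M hM).1.2.1 p hp (hd.trans (Subgroup.card_dvd_of_le hX))

/-- `O_{σ(M)}(M)` has order coprime to its index -/
theorem sigmaCore_coprime (hG : Cfsg.IsMinSimpleOddOrder G) (M : Subgroup G) (hM : IsCoatom M) :
    (Nat.card (Cfsg.piCore (Cfsg.sigma M) ↥M)).Coprime (Cfsg.piCore (Cfsg.sigma M) ↥M).index := by
  obtain ⟨hσ1, -, -⟩ := sigma_hall hG M hM
  have hpi := Cfsg.Agent.Lib.Helper11.piCore_piNum (G := ↥M) (Cfsg.sigma M)
  have hrel : (Cfsg.sigmaCore M).relIndex M = (Cfsg.piCore (Cfsg.sigma M) ↥M).index := by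
    unfold Cfsg.sigmaCore Subgroup.relIndex
    congr 1
    ext x
    simp [Subgroup.mem_subgroupOf]
  apply Nat.coprime_of_dvd
  intro k hk hk1 hk2
  rw [← hrel] at hk2
  exact hσ1.2.2 k hk (hpi k hk hk1) hk2

omit [Finite G] in
/-- a complement of `M_σ` in `M`, as a complement inside the group `M` -/
theorem compl_isComplement' (M E : Subgroup G) (hE : Cfsg.IsComplIn E (Cfsg.sigmaCore M) M) :
    Subgroup.IsComplement' (Cfsg.piCore (Cfsg.sigma M) ↥M) (E.subgroupOf M) := by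
  obtain ⟨hEM, hσM, hdisj, hprod⟩ := hE
  apply Subgroup.IsComplement'.symm
  apply Subgroup.isComplement'_of_disjoint_and_mul_eq_univ
  · rw [disjoint_iff, eq_bot_iff]
    rintro x ⟨hx1, hx2⟩
    have h1 : (x : G) ∈ E := Subgroup.mem_subgroupOf.mp hx1
    have h2 : (x : G) ∈ Cfsg.sigmaCore M := ⟨x, hx2, rfl⟩
    have : (x : G) ∈ E ⊓ Cfsg.sigmaCore M := ⟨h1, h2⟩
    rw [hdisj, Subgroup.mem_bot] at this
    rw [Subgroup.mem_bot]
    exact Subtype.ext this
  · rw [Set.eq_univ_iff_forall]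
    intro m
    obtain ⟨a, ha, b, hb, hab⟩ := hprod m m.2
    obtain ⟨h, hh, rfl⟩ := hb
    refine ⟨⟨a, hEM ha⟩, Subgroup.mem_subgroupOf.mpr ha, h, hh, ?_⟩
    exact Subtype.ext hab.symm

/-- **B & G, Lemma 13.1(a)** -/
theorem thirteen_one_a (hG : Cfsg.IsMinSimpleOddOrder G) (M : Subgroup G) (hM : IsCoatom M)
    (E : Subgroup G) (hE : Cfsg.IsComplIn E (Cfsg.sigmaCore M) M) :
    Cfsg.sigmaCore M ⊓ Subgroup.centralizer (E : Set G) ≤
        ⁅Cfsg.sigmaCore M, Cfsg.sigmaCore M⁆ ∧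
      ⁅Cfsg.sigmaCore M, E⁆ = Cfsg.sigmaCore M := by
  have hMs : Group.IsSolvable ↥M := coatom_solvable hG M hM
  have hEM : E ≤ M := hE.1
  obtain ⟨H, hH⟩ : ∃ H : Subgroup ↥M, H = Cfsg.piCore (Cfsg.sigma M) ↥M := ⟨_, rfl⟩
  obtain ⟨K, hK⟩ : ∃ K : Subgroup ↥M, K = E.subgroupOf M := ⟨_, rfl⟩
  have hHn : H.Normal := by rw [hH]; infer_instance
  have hcop : (Nat.card H).Coprime H.index := by rw [hH]; exact sigmaCore_coprime hG M hM
  have hcompl : Subgroup.IsComplement' H K := by rw [hH, hK]; exact compl_isComplement' M E hE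
  have hHc : H ≤ commutator ↥M := by rw [hH]; exact sigmaCore_le_commutator hG M hM
  have hHmap : H.map M.subtype = Cfsg.sigmaCore M := by rw [hH]; rfl
  have hKmap : K.map M.subtype = E := by rw [hK, Subgroup.map_subgroupOf_eq_of_le hEM]
  obtain ⟨h1, h2⟩ := (Cfsg.Agent.S1459.result (G := ↥M)).1 H K hHn hcop hcompl hHc
  constructor
  · rintro x ⟨hx1, hx2⟩
    rw [← hHmap] at hx1
    obtain ⟨y, hy, rfl⟩ := hx1
    have hyc : y ∈ Subgroup.centralizer (K : Set ↥M) := by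
      rw [Subgroup.mem_centralizer_iff]
      intro k hk
      have hkE : (k : G) ∈ E := by
        rw [hK] at hk
        exact Subgroup.mem_subgroupOf.mp hk
      apply Subtype.ext
      exact (Subgroup.mem_centralizer_iff.mp hx2) (k : G) hkE
    have h3 : y ∈ ⁅H, H⁆ := h2 ⟨hy, hyc⟩
    have h4 : M.subtype y ∈ (⁅H, H⁆).map M.subtype := ⟨y, h3, rfl⟩
    rw [Subgroup.map_commutator, hHmap] at h4
    exact h4
  · have := congrArg (Subgroup.map M.subtype) h1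
    rw [Subgroup.map_commutator, hHmap, hKmap] at this
    exact this.symm

/-- a nontrivial `p`-subgroup of `M_σ ∩ M^g`, `g ∉ M`, has centralizer not contained in `M` -/
theorem centralizer_not_le (hG : Cfsg.IsMinSimpleOddOrder G) (M : Subgroup G) (hM : IsCoatom M)
    (g : G) (hg : g ∉ M) (p : ℕ) [hp : Fact p.Prime] (A : Subgroup G) (hAp : IsPGroup p A)
    (hA1 : A ≠ ⊥) (hA : A ≤ Cfsg.sigmaCore M ⊓ conjSub g M) :
    ¬ Subgroup.centralizer (A : Set G) ≤ M := by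
  intro hc
  have hAσ : A ≤ Cfsg.sigmaCore M := hA.trans inf_le_left
  have hAM : A ≤ M := hAσ.trans (sigmaCore_le M)
  have hpd : p ∣ Nat.card A := by
    obtain ⟨k, hk⟩ := IsPGroup.iff_card.mp hAp
    rw [hk]
    apply dvd_pow_self
    rintro rfl
    rw [pow_zero] at hk
    exact hA1 (Subgroup.card_eq_one.mp hk)
  have hpσ : p ∈ Cfsg.sigma M := mem_sigma_of_dvd hG M hM A hAσ p hp.out hpd
  have hconj : conjSub g⁻¹ A ≤ M := by
    intro x hx
    rw [mem_conjSub, inv_inv] at hx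
    have h1 : g * x * g⁻¹ ∈ conjSub g M := (hA hx).2
    rw [mem_conjSub] at h1
    have e : g⁻¹ * (g * x * g⁻¹) * g = x := by group
    rwa [e] at h1
  obtain ⟨m, hm, c, hcc, hgm⟩ := (sigma_fusion hG M hM p hpσ A hAp hA1 hAM).1 g⁻¹ hconj
  apply hg
  have : g⁻¹ ∈ M := by rw [hgm]; exact M.mul_mem hm (hc hcc)
  simpa using M.inv_mem this

/-- a subgroup of order `p` inside a subgroup of order divisible by `p` -/
theorem exists_card_prime_le (Y : Subgroup G) (p : ℕ) [hp : Fact p.Prime] (hd : p ∣ Nat.card Y) :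
    ∃ A : Subgroup G, A ≤ Y ∧ Nat.card A = p := by
  obtain ⟨x, hx⟩ := exists_prime_orderOf_dvd_card' (G := ↥Y) p hd
  refine ⟨(Subgroup.zpowers x).map Y.subtype, Subgroup.map_subtype_le _, ?_⟩
  rw [Subgroup.card_map_of_injective (Subgroup.subtype_injective _), Nat.card_zpowers, hx]

omit [Finite G] in
theorem ne_bot_of_card_prime {A : Subgroup G} {p : ℕ} (hp : p.Prime) (hA : Nat.card A = p) :
    A ≠ ⊥ := by
  rintro rfl
  rw [Subgroup.card_bot] at hA
  exact hp.one_lt.ne hA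

/-- **B & G, Lemma 13.1(b)**, given Theorem 12.? (c) and Lemma 12.15 -/
theorem thirteen_one_b (hG : Cfsg.IsMinSimpleOddOrder G) (M : Subgroup G) (hM : IsCoatom M)
    (h1420c : ∀ (p : ℕ) (P : Subgroup G), p ∈ Cfsg.sigma M → IsPGroup p P → P ≤ M →
      ¬ IsCyclic P → Subgroup.normalizer (P : Set G) ≤ M)
    (h1423 : ∀ (p : ℕ) [Fact p.Prime], p ∈ Cfsg.sigma M → ∀ X : Subgroup G, X ≤ M →
      Nat.card X = p → (p ∈ Cfsg.beta M ∨ X ≤ ⁅Cfsg.sigmaCore M, Cfsg.sigmaCore M⁆) →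
      Subgroup.centralizer (X : Set G) ≤ M)
    (g : G) (hg : g ∉ M) :
    IsCyclic ↥(Cfsg.sigmaCore M ⊓ conjSub g M) ∧
      (∀ p : ℕ, p.Prime → p ∣ Nat.card ↥(Cfsg.sigmaCore M ⊓ conjSub g M) → p ∉ Cfsg.beta M) ∧
      Cfsg.sigmaCore M ⊓ conjSub g M ⊓ ⁅Cfsg.sigmaCore M, Cfsg.sigmaCore M⁆ = ⊥ := by
  obtain ⟨X, hX⟩ : ∃ X : Subgroup G, X = Cfsg.sigmaCore M ⊓ conjSub g M := ⟨_, rfl⟩
  rw [← hX]
  have hXσ : X ≤ Cfsg.sigmaCore M := by rw [hX]; exact inf_le_left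
  have hXM : X ≤ M := hXσ.trans (sigmaCore_le M)
  -- subgroups of prime order of `X`
  have key : ∀ (p : ℕ) [Fact p.Prime] (A : Subgroup G), A ≤ X → Nat.card A = p →
      p ∈ Cfsg.sigma M ∧ ¬ Subgroup.centralizer (A : Set G) ≤ M := by
    intro p hp A hAX hA
    have hAp : IsPGroup p A := IsPGroup.of_card (n := 1) (by rw [hA, pow_one])
    refine ⟨mem_sigma_of_dvd hG M hM A (hAX.trans hXσ) p hp.out (by rw [hA]), ?_⟩
    exact centralizer_not_le hG M hM g hg p A hAp (ne_bot_of_card_prime hp.out hA) (hX ▸ hAX)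
  have hβ : ∀ p : ℕ, p.Prime → p ∣ Nat.card ↥X → p ∉ Cfsg.beta M := by
    intro p hp hd hβ
    have : Fact p.Prime := ⟨hp⟩
    obtain ⟨A, hAX, hA⟩ := exists_card_prime_le X p hd
    obtain ⟨hpσ, hnc⟩ := key p A hAX hA
    exact hnc (h1423 p hpσ A (hAX.trans hXM) hA (Or.inl hβ))
  have hder : X ⊓ ⁅Cfsg.sigmaCore M, Cfsg.sigmaCore M⁆ = ⊥ := by
    by_contra hne
    have hcard : Nat.card ↥(X ⊓ ⁅Cfsg.sigmaCore M, Cfsg.sigmaCore M⁆) ≠ 1 := by
      intro h
      exact hne (Subgroup.card_eq_one.mp h)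
    obtain ⟨p, hp, hd⟩ := Nat.exists_prime_and_dvd hcard
    have : Fact p.Prime := ⟨hp⟩
    obtain ⟨A, hAY, hA⟩ := exists_card_prime_le _ p hd
    obtain ⟨hpσ, hnc⟩ := key p A (hAY.trans inf_le_left) hA
    exact hnc (h1423 p hpσ A ((hAY.trans inf_le_left).trans hXM) hA
      (Or.inr (hAY.trans inf_le_right)))
  refine ⟨?_, hβ, hder⟩
  -- `X` is abelian
  have hcomm : IsMulCommutative ↥X := by
    refine ⟨⟨fun a b => ?_⟩⟩
    have h1 : ⁅(a : G), (b : G)⁆ ∈ X ⊓ ⁅Cfsg.sigmaCore M, Cfsg.sigmaCore M⁆ := by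
      refine ⟨?_, Subgroup.commutator_mem_commutator (hXσ a.2) (hXσ b.2)⟩
      rw [commutatorElement_def]
      exact X.mul_mem (X.mul_mem (X.mul_mem a.2 b.2) (X.inv_mem a.2)) (X.inv_mem b.2)
    rw [hder, Subgroup.mem_bot, commutatorElement_eq_one_iff_mul_comm] at h1
    exact Subtype.ext h1
  have hnil : Group.IsNilpotent ↥X :=
    ⟨⟨1, Subgroup.upperCentralSeries_one_eq_top_iff.mpr hcomm⟩⟩
  -- the Sylow subgroups of `X` are cyclic
  have hZ : IsZGroup ↥X := by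
    refine ⟨fun p hp P => ?_⟩
    have : Fact p.Prime := ⟨hp⟩
    by_contra hnc
    obtain ⟨Pg, hPg⟩ : ∃ Pg : Subgroup G, Pg = (P : Subgroup ↥X).map X.subtype := ⟨_, rfl⟩
    have e : ↥(P : Subgroup ↥X) ≃* ↥Pg := by
      rw [hPg]
      exact (P : Subgroup ↥X).equivMapOfInjective X.subtype (Subgroup.subtype_injective _)
    have hnc' : ¬ IsCyclic ↥Pg := fun h => hnc (e.isCyclic.mpr h)
    have hPgX : Pg ≤ X := by rw [hPg]; exact Subgroup.map_subtype_le _
    have hPgp : IsPGroup p Pg := by rw [hPg]; exact P.isPGroup'.map _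
    have hPg1 : Pg ≠ ⊥ := by
      rintro rfl
      apply hnc'
      infer_instance
    have hpd : p ∣ Nat.card Pg := by
      obtain ⟨k, hk⟩ := IsPGroup.iff_card.mp hPgp
      rw [hk]
      apply dvd_pow_self
      rintro rfl
      rw [pow_zero] at hk
      exact hPg1 (Subgroup.card_eq_one.mp hk)
    have hpσ : p ∈ Cfsg.sigma M := mem_sigma_of_dvd hG M hM Pg (hPgX.trans hXσ) p hp hpd
    have hN := h1420c p Pg hpσ hPgp (hPgX.trans hXM) hnc'
    exact centralizer_not_le hG M hM g hg p Pg hPgp hPg1 (hX ▸ hPgX)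
      ((Subgroup.centralizer_le_normalizer _).trans hN)
  infer_instance

end Cfsg.Agent.Lib.Helper18.BGThirteenA
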