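import Mathlib
import Cfsg.Prelude.Def_OddOrderLocal
import Cfsg.Agent.Lib.Helper11.BenderM
import Cfsg.Agent.Lib.Helper18.SylowIn
import Cfsg.Agent.Lib.Helper18.BGThirteenA

set_option autoImplicit false
open scoped commutatorElement Pointwise

/-!
# B & G, Lemma 12.16 (σ-subgroups whose normalizer lies in another maximal subgroup)

conditional on part (c) of Theorem 12.10
-/

namespace Cfsg.Agent.Lib.Helper18.BGTwelveA

open Cfsg.Agent.Lib.Helper18 Cfsg.Agent.Lib.Helper11.BenderM Cfsg.Agent.Lib.Helper11.MaxSubD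

/-- in a finite cyclic group two subgroups of the same order are equal -/
theorem eq_of_card_eq_of_isCyclic {C : Type*} [Group C] [Finite C] [IsCyclic C] (H K : Subgroup C)
    (h : Nat.card H = Nat.card K) : H = K := by
  classical
  haveI := Fintype.ofFinite C
  obtain ⟨n, hn⟩ : ∃ n : ℕ, n = Nat.card H := ⟨_, rfl⟩
  have hn0 : 0 < n := hn ▸ Nat.card_pos
  have hT := IsCyclic.card_pow_eq_one_le (α := C) hn0
  have key : ∀ L : Subgroup C, Nat.card L = n →
      ∀ x : C, x ∈ L ↔ x ∈ (Finset.univ.filter fun a : C => a ^ n = 1) := by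
    intro L hL
    have hsub : (Finset.univ.filter fun a : C => a ∈ L) ⊆
        (Finset.univ.filter fun a : C => a ^ n = 1) := by
      intro x hx
      simp only [Finset.mem_filter, Finset.mem_univ, true_and] at hx ⊢
      have := pow_card_eq_one' (G := L) (x := ⟨x, hx⟩)
      rw [hL] at this
      exact congrArg Subtype.val this
    have hcard : (Finset.univ.filter fun a : C => a ∈ L).card = n := by
      rw [← hL, Nat.card_eq_fintype_card, Fintype.card_subtype]
    have heq := Finset.eq_of_subset_of_card_le hsub (by rw [hcard]; exact hT)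
    intro x
    rw [← heq]
    simp
  ext x
  rw [key H hn.symm x, key K (h ▸ hn.symm) x]

variable {G : Type*} [Group G] [Finite G]

/-- a subgroup of a cyclic subgroup is normalized by the normalizer of the latter -/
theorem normalizer_le_of_isCyclic (S X : Subgroup G) (hS : IsCyclic S) (hXS : X ≤ S) :
    Subgroup.normalizer (S : Set G) ≤ Subgroup.normalizer (X : Set G) := by
  intro g hg
  apply mem_normalizer_of_conjSub_le
  have hgS : conjSub g S = S := conjSub_eq_of_mem_normalizer hg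
  have hle : conjSub g X ≤ S := by
    rw [← hgS]
    exact conjSub_mono hXS
  have h1 : (conjSub g X).subgroupOf S = X.subgroupOf S := by
    apply eq_of_card_eq_of_isCyclic
    rw [Nat.card_congr (Subgroup.subgroupOfEquivOfLe hle).toEquiv,
      Nat.card_congr (Subgroup.subgroupOfEquivOfLe hXS).toEquiv, card_conjSub]
  intro x hx
  have hx' : (⟨x, hle hx⟩ : S) ∈ (conjSub g X).subgroupOf S := by
    rw [Subgroup.mem_subgroupOf]
    exact hx
  rw [h1, Subgroup.mem_subgroupOf] at hx'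
  exact hx'

/-- **B & G, Lemma 12.16**, given Theorem 12.10(c) -/
theorem twelve_sixteen (hG : Cfsg.IsMinSimpleOddOrder G) (M : Subgroup G) (hM : IsCoatom M)
    (h1420c : ∀ (p : ℕ) (P : Subgroup G), p ∈ Cfsg.sigma M → IsPGroup p P → P ≤ M →
      ¬ IsCyclic P → Subgroup.normalizer (P : Set G) ≤ M)
    (q : ℕ) [hq : Fact q.Prime] (hqσ : q ∈ Cfsg.sigma M) (X : Subgroup G) (hXq : IsPGroup q X)
    (hX1 : X ≠ ⊥) (hXM : X ≤ M) (Ms : Subgroup G) (hne : Ms ≠ M)
    (hNX : Subgroup.normalizer (X : Set G) ≤ Ms) (S : Subgroup G)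
    (hS : IsSylowIn q S (M ⊓ Ms)) (hXS : X ≤ S) :
    (∀ g : G, Ms ≠ conjSub g M) ∧ Subgroup.normalizer (S : Set G) ≤ M ∧ IsSylowIn q S Ms := by
  have hXMs : X ≤ Ms := Subgroup.le_normalizer.trans hNX
  have hSM : S ≤ M := hS.le.trans inf_le_left
  have hSMs : S ≤ Ms := hS.le.trans inf_le_right
  have hSq : IsPGroup q S := hS.isPGroup
  -- a `q`-element normalizing `S` inside `M ⊓ Ms` lies in `S`
  have hmax : ∀ y : G, y ∈ M → y ∈ Ms → y ∈ Subgroup.normalizer (S : Set G) →
      (∃ k : ℕ, y ^ q ^ k = 1) → y ∈ S := by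
    intro y hyM hyMs hyN hyq
    by_contra hyS
    obtain ⟨h1, h2⟩ := sup_zpowers q S hSq y hyN hyS hyq
    have h3 : S ⊔ Subgroup.zpowers y ≤ M ⊓ Ms :=
      sup_le hS.le (by rw [Subgroup.zpowers_le]; exact ⟨hyM, hyMs⟩)
    have h4 := hS.eq_of_le h3 h1 le_sup_left
    exact h2.ne h4.symm
  -- (b)
  have hb : Subgroup.normalizer (S : Set G) ≤ M := by
    by_cases hcyc : IsCyclic S
    · have hNS : Subgroup.normalizer (S : Set G) ≤ Ms :=
        (normalizer_le_of_isCyclic S X hcyc hXS).trans hNX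
      have hSyl : IsSylowIn q S M := by
        apply sylow_of_normalizer q S M hSM hSq
        intro y hyM hyN hyq
        exact hmax y hyM (hNS hyN) hyN hyq
      obtain ⟨S₀, hS₀⟩ := exists_good_of_sigma M q hqσ
      obtain ⟨S', hS', hSS'⟩ := exists_good_ge hS₀ S hSM hSq
      have := hSyl.eq_of_le hS'.1.le hS'.1.isPGroup hSS'
      rw [← this]
      exact hS'.2.1
    · exact h1420c q S hqσ hSq hSM hcyc
  refine ⟨?_, hb, ?_⟩
  · -- (a)
    intro g hg
    have h1 : conjSub g⁻¹ X ≤ M := by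
      rw [conjSub_le_iff, inv_inv, ← hg]
      exact hXMs
    obtain ⟨m, hm, c, hc, hgm⟩ := (sigma_fusion hG M hM q hqσ X hXq hX1 hXM).1 g⁻¹ h1
    have hcMs : c ∈ Ms := hNX (Subgroup.centralizer_le_normalizer (X : Set G) hc)
    have hgc : g = c⁻¹ * m⁻¹ := by
      have : g = (g⁻¹)⁻¹ := (inv_inv g).symm
      rw [this, hgm, mul_inv_rev]
    apply hne
    have h2 : Ms = conjSub c⁻¹ M := by
      rw [hg, hgc, ← conjSub_mul]
      congr 1
      exact conjSub_eq_of_mem_normalizer (Subgroup.le_normalizer (M.inv_mem hm))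
    have h3 : conjSub c Ms = M := by
      rw [h2, conjSub_mul, mul_inv_cancel, conjSub_one]
    rw [← h3]
    exact (conjSub_eq_of_mem_normalizer (Subgroup.le_normalizer hcMs)).symm
  · -- (c)
    apply sylow_of_normalizer q S Ms hSMs hSq
    intro y hyMs hyN hyq
    exact hmax y (hb hyN) hyMs hyN hyq

/-- `M_σ` has a complement in `M` -/
theorem exists_complIn_sigmaCore (hG : Cfsg.IsMinSimpleOddOrder G) (M : Subgroup G)
    (hM : IsCoatom M) : ∃ E : Subgroup G, Cfsg.IsComplIn E (Cfsg.sigmaCore M) M := by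
  have hcop := Cfsg.Agent.Lib.Helper18.BGThirteenA.sigmaCore_coprime hG M hM
  obtain ⟨K, hK⟩ := Subgroup.exists_left_complement'_of_coprime hcop
  refine ⟨K.map M.subtype, Subgroup.map_subtype_le _,
    Cfsg.Agent.Lib.Helper18.BGThirteenA.sigmaCore_le M, ?_, ?_⟩
  · rw [eq_bot_iff]
    rintro x ⟨⟨k, hk, rfl⟩, ⟨n, hn, hnk⟩⟩
    have hkn : n = k := Subtype.ext hnk
    have : k ∈ K ⊓ Cfsg.piCore (Cfsg.sigma M) ↥M := ⟨hk, hkn ▸ hn⟩
    rw [hK.disjoint.eq_bot, Subgroup.mem_bot] at this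
    rw [Subgroup.mem_bot, this]
    rfl
  · intro m hm
    have hmem : (⟨m, hm⟩ : ↥M) ∈ (K : Set ↥M) * (Cfsg.piCore (Cfsg.sigma M) ↥M : Set ↥M) := by
      rw [hK.mul_eq]
      trivial
    obtain ⟨k, hk, n, hn, hkn⟩ := hmem
    refine ⟨(k : G), ⟨k, hk, rfl⟩, (n : G), ⟨n, hn, rfl⟩, ?_⟩
    have := congrArg Subtype.val hkn
    simpa using this.symm

end Cfsg.Agent.Lib.Helper18.BGTwelveA
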