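import Mathlib
import Cfsg.Agent.Lib.Helper18.BGTenB
import Cfsg.Agent.Lib.Helper20.HupB
import Cfsg.Agent.S1448

set_option autoImplicit false
open scoped commutatorElement

namespace Cfsg.Agent.Lib.Helper18.BGTenD

open Cfsg Cfsg.Agent.Lib.Helper21 Cfsg.Agent.Lib.Helper1 Cfsg.Agent.Lib.Helper18
open Cfsg.Agent.Lib.Helper11.MaxSubB Cfsg.Agent.Lib.Helper11.MaxSubD Cfsg.Agent.Lib.Helper11.BenderE
  Cfsg.Agent.Lib.Helper11.BenderM Cfsg.Agent.Lib.Helper11.BenderN
  Cfsg.Agent.Lib.Helper11.BenderS Cfsg.Agent.Lib.Helper18.BGTenA Cfsg.Agent.Lib.Helper18.BGTenB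

universe u

section cube

variable {T : Type*} [Group T] [Finite T]

/-- in a nonabelian group of order `p ^ 3` the derived subgroup is the centre -/
theorem commutator_eq_center_of_card_cube (p : ℕ) [hp : Fact p.Prime] (hT : Nat.card T = p ^ 3)
    (hna : ¬ IsMulCommutative T) : commutator T = Subgroup.center T := by
  have hp1 : 1 < p := hp.out.one_lt
  obtain ⟨c, hc1, hcn, hcard, hq⟩ := Cfsg.Agent.Lib.Helper20.Hup.card_center_pow p hT (by norm_num)
  -- the quotient by the centre is not cyclic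
  have hncyc : ¬ IsCyclic (T ⧸ Subgroup.center T) := by
    intro hcyc
    apply hna
    exact MonoidHom.isMulCommutative_of_isCyclic_of_ker_le_center
      (QuotientGroup.mk' (Subgroup.center T)) (by rw [QuotientGroup.ker_mk'])
  have hc : c = 1 := by
    rcases Nat.lt_or_ge c 2 with h | h
    · omega
    · exfalso
      apply hncyc
      rcases Nat.lt_or_ge c 3 with h3 | h3
      · have : 3 - c = 1 := by omega
        rw [this, pow_one] at hq
        exact isCyclic_of_prime_card hq
      · have : 3 - c = 0 := by omega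
        rw [this, pow_zero] at hq
        have : Subsingleton (T ⧸ Subgroup.center T) := (Nat.card_eq_one_iff_unique.mp hq).1
        infer_instance
  rw [hc] at hcard hq
  rw [pow_one] at hcard
  have hq2 : Nat.card (T ⧸ Subgroup.center T) = p ^ 2 := by simpa using hq
  have hcommQ : IsMulCommutative (T ⧸ Subgroup.center T) :=
    IsPGroup.isMulCommutative_of_card_eq_prime_sq hq2
  have hle : commutator T ≤ Subgroup.center T :=
    Subgroup.Normal.quotient_commutative_iff_commutator_le.mp hcommQ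
  have hne : commutator T ≠ ⊥ := by
    intro h
    apply hna
    refine ⟨⟨fun a b => ?_⟩⟩
    have h1 : ⁅a, b⁆ ∈ commutator T :=
      Subgroup.commutator_mem_commutator (Subgroup.mem_top a) (Subgroup.mem_top b)
    rw [h, Subgroup.mem_bot, commutatorElement_eq_one_iff_mul_comm] at h1
    exact h1
  -- a nontrivial subgroup of a group of prime order is everything
  have hdvd : Nat.card (commutator T) ∣ p := by
    rw [← hcard]
    exact Subgroup.card_dvd_of_le hle
  rcases (Nat.dvd_prime hp.out).mp hdvd with h1 | h1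
  · exact absurd (Subgroup.card_eq_one.mp h1) hne
  · exact Subgroup.eq_of_le_of_card_ge hle (by rw [hcard, h1])

end cube

variable {G : Type u} [Group G] [Finite G]

/-- for a nonabelian subgroup of order `p ^ 3`: `[R₁, R₁] = Z(R₁)` -/
theorem commutator_eq_inf_centralizer (p : ℕ) [hp : Fact p.Prime] (R₁ : Subgroup G)
    (hcard : Nat.card R₁ = p ^ 3) (hna : ¬ IsMulCommutative R₁) :
    ⁅R₁, R₁⁆ = R₁ ⊓ Subgroup.centralizer (R₁ : Set G) := by
  rw [← Subgroup.map_subtype_commutator, commutator_eq_center_of_card_cube p hcard hna]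
  ext x
  constructor
  · rintro ⟨y, hy, rfl⟩
    have hy : y ∈ Subgroup.center ↥R₁ := hy
    refine ⟨y.2, ?_⟩
    show R₁.subtype y ∈ Subgroup.centralizer (R₁ : Set G)
    rw [Subgroup.mem_centralizer_iff]
    intro t ht
    have := (Subgroup.mem_center_iff.mp hy) ⟨t, ht⟩
    exact congrArg Subtype.val this
  · rintro ⟨hx1, hx2⟩
    have hx2 : x ∈ Subgroup.centralizer (R₁ : Set G) := hx2
    refine ⟨⟨x, hx1⟩, ?_, rfl⟩
    show (⟨x, hx1⟩ : ↥R₁) ∈ Subgroup.center ↥R₁
    rw [Subgroup.mem_center_iff]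
    intro t
    apply Subtype.ext
    exact (Subgroup.mem_centralizer_iff.mp hx2) t.1 t.2

/-- a Sylow subgroup has a complement in its normalizer -/
theorem exists_complIn_normalizer (p : ℕ) [hp : Fact p.Prime] (P : Sylow p G) :
    ∃ V : Subgroup G,
      Cfsg.IsComplIn (P : Subgroup G) V (Subgroup.normalizer ((P : Subgroup G) : Set G)) ∧
      (Nat.card V).Coprime p := by
  obtain ⟨N, hN⟩ : ∃ N : Subgroup G, N = Subgroup.normalizer ((P : Subgroup G) : Set G) :=
    ⟨_, rfl⟩
  rw [← hN]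
  have hPN : (P : Subgroup G) ≤ N := by rw [hN]; exact Subgroup.le_normalizer
  obtain ⟨H, hH⟩ : ∃ H : Subgroup ↥N, H = (P : Subgroup G).subgroupOf N := ⟨_, rfl⟩
  have hHn : H.Normal := by
    rw [hH]
    constructor
    intro n hn g
    rw [Subgroup.mem_subgroupOf] at hn ⊢
    have hg : (g : G) ∈ Subgroup.normalizer ((P : Subgroup G) : Set G) := hN ▸ g.2
    have := (Subgroup.mem_normalizer_iff.mp hg (n : G)).mp hn
    simpa using this
  have hHmap : H.map N.subtype = (P : Subgroup G) := by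
    rw [hH, Subgroup.map_subgroupOf_eq_of_le hPN]
  have hHcard : Nat.card H = Nat.card (P : Subgroup G) := by
    rw [← hHmap, Subgroup.card_map_of_injective (Subgroup.subtype_injective _)]
  have hidx : H.index = (P : Subgroup G).relIndex N := by rw [hH]; rfl
  have hndvd : ¬ p ∣ H.index := by
    rw [hidx]
    intro hd
    exact P.not_dvd_index (hd.trans (Subgroup.relIndex_dvd_index_of_le hPN))
  have hcop : (Nat.card H).Coprime H.index := by
    rw [hHcard]
    obtain ⟨k, hk⟩ := IsPGroup.iff_card.mp P.isPGroup'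
    rw [hk]
    apply Nat.Coprime.pow_left
    rw [Nat.Prime.coprime_iff_not_dvd hp.out]
    exact hndvd
  obtain ⟨K, hK⟩ := Subgroup.exists_right_complement'_of_coprime hcop
  refine ⟨K.map N.subtype, ⟨hPN, Subgroup.map_subtype_le _, ?_, ?_⟩, ?_⟩
  · rw [eq_bot_iff]
    rintro x ⟨hx1, ⟨k, hk, rfl⟩⟩
    have hkH : k ∈ H := by rw [hH]; exact Subgroup.mem_subgroupOf.mpr hx1
    have : k ∈ H ⊓ K := ⟨hkH, hk⟩
    rw [hK.disjoint.eq_bot, Subgroup.mem_bot] at this
    rw [Subgroup.mem_bot, this]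
    rfl
  · intro m hm
    obtain ⟨⟨a, b⟩, hab, -⟩ := (Subgroup.isComplement'_def.mp hK).existsUnique ⟨m, hm⟩
    refine ⟨(a : ↥N), ?_, (b : ↥N), ⟨b, b.2, rfl⟩, ?_⟩
    · have : (a : ↥N) ∈ (P : Subgroup G).subgroupOf N := hH ▸ a.2
      exact Subgroup.mem_subgroupOf.mp this
    · have := congrArg Subtype.val hab
      simpa using this.symm
  · rw [Subgroup.card_map_of_injective (Subgroup.subtype_injective _)]
    have h1 : Nat.card K = H.index := by
      have h2 := hK.card_mul_card
      have h3 := H.card_mul_index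
      have hpos : 0 < Nat.card H := Nat.card_pos
      exact Nat.eq_of_mul_eq_mul_left hpos (h2.trans h3.symm)
    rw [h1]
    exact ((Nat.Prime.coprime_iff_not_dvd hp.out).mpr hndvd).symm

/-- **B & G, Corollary 10.7(b)**: the structure of a Sylow subgroup of rank at most two -/
theorem sylow_rank_two (hG : Cfsg.IsMinSimpleOddOrder G)
    (h36 : ∀ M : Subgroup G, IsCoatom M → Thm36 ↥M) (p : ℕ) [hp : Fact p.Prime] (P : Sylow p G)
    (hr : Cfsg.PRankLE p 2 (P : Subgroup G)) :
    IsMulCommutative (P : Subgroup G) ∨ ∃ P₁ P₂ : Subgroup G, P₁ ⊔ P₂ = (P : Subgroup G) ∧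
      (∀ a ∈ P₁, ∀ b ∈ P₂, a * b = b * a) ∧
      ¬ IsMulCommutative P₁ ∧ Nat.card P₁ = p ^ 3 ∧ Monoid.exponent P₁ = p ∧ IsCyclic P₂ ∧
      Subgroup.closure {x : G | x ∈ P₂ ∧ x ^ p = 1} =
        P₁ ⊓ Subgroup.centralizer (P₁ : Set G) := by
  by_cases hP1 : (P : Subgroup G) = ⊥
  · left
    refine ⟨⟨fun a b => ?_⟩⟩
    have hbot : ∀ t : G, t ∈ (P : Subgroup G) → t = 1 := by
      intro t ht
      rw [hP1, Subgroup.mem_bot] at ht
      exact ht
    have ha : (a : G) = 1 := hbot _ a.2
    have hb : (b : G) = 1 := hbot _ b.2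
    apply Subtype.ext
    simp [ha, hb]
  obtain ⟨V, hV, hVcop⟩ := exists_complIn_normalizer p P
  have hPV := sylow_eq_commutator hG h36 p P V hV
  have hp2 : p ≠ 2 := by
    rintro rfl
    have hnt : Nontrivial (P : Subgroup G) := (Subgroup.nontrivial_iff_ne_bot _).mpr hP1
    have h2 : 2 ∣ Nat.card (P : Subgroup G) := by
      obtain ⟨k, hk⟩ := IsPGroup.iff_card.mp P.isPGroup'
      rw [hk]
      apply dvd_pow_self
      rintro rfl
      rw [pow_zero] at hk
      have := Finite.one_lt_card_iff_nontrivial.mpr hnt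
      omega
    have h3 : 2 ∣ Nat.card G := h2.trans (Subgroup.card_subgroup_dvd_card _)
    have hodd : Odd (Nat.card G) := hG.1
    rw [Nat.odd_iff] at hodd
    omega
  have hVodd : Odd (Nat.card V) := Odd.of_dvd_nat hG.1 (Subgroup.card_subgroup_dvd_card V)
  obtain ⟨-, h⟩ := Cfsg.Agent.S1448.result p hp2 (P : Subgroup G) V P.isPGroup' hP1 hr hV.2.1
    hVcop hVodd hPV.symm
  rcases h with h | ⟨R₁, R₂, h1, h2, h3, h4, h5, h6, h7⟩
  · left; exact h
  · right
    refine ⟨R₁, R₂, h1, h2, h3, h4, h5, h6, ?_⟩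
    rw [h7]
    exact commutator_eq_inf_centralizer p R₁ h4 h3

end Cfsg.Agent.Lib.Helper18.BGTenD
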