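import Mathlib
import Cfsg.Agent.Lib.Helper18.SylowIn
import Cfsg.Agent.Lib.Helper11.FrobFourTerm2
import Cfsg.Agent.Lib.Helper11.FrobFormula2

/-!
# Generic lemmas for the sigma-partition theorem
-/

set_option autoImplicit false

namespace Cfsg.Agent.Lib.Helper18.SigPartA

open Cfsg Cfsg.Agent.Lib.Helper18

variable {G : Type*} [Group G]

/-- If `Y ≤ B`, `Q` normalizes `B`, `Y` normalizes `Q` and `Q ∩ B = 1`, then `Y` centralizes `Q`. -/
theorem le_centralizer_of_disjoint {Y Q B : Subgroup G} (hYB : Y ≤ B)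
    (hQB : Q ≤ Subgroup.normalizer (B : Set G)) (hYQ : Y ≤ Subgroup.normalizer (Q : Set G))
    (hdis : Q ⊓ B = ⊥) : Y ≤ Subgroup.centralizer (Q : Set G) := by
  intro y hy
  rw [Subgroup.mem_centralizer_iff]
  intro u hu
  have h1 : y * u * y⁻¹ ∈ Q := (Subgroup.mem_normalizer_iff.mp (hYQ hy) u).mp hu
  have h2 : u * y⁻¹ * u⁻¹ ∈ B :=
    (Subgroup.mem_normalizer_iff.mp (hQB hu) y⁻¹).mp (B.inv_mem (hYB hy))
  have h3 : y * u * y⁻¹ * u⁻¹ ∈ Q ⊓ B := by
    refine ⟨Q.mul_mem h1 (Q.inv_mem hu), ?_⟩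
    have e : y * u * y⁻¹ * u⁻¹ = y * (u * y⁻¹ * u⁻¹) := by group
    rw [e]
    exact B.mul_mem (hYB hy) h2
  rw [hdis, Subgroup.mem_bot] at h3
  have e2 : y * u = (y * u * y⁻¹ * u⁻¹) * (u * y) := by group
  rw [e2, h3, one_mul]

/-- Subgroups of coprime orders meet trivially. -/
theorem inf_eq_bot_of_coprime' [Finite G] {A B : Subgroup G}
    (h : (Nat.card A).Coprime (Nat.card B)) : A ⊓ B = ⊥ := by
  rw [← Subgroup.card_eq_one]
  have h1 : Nat.card ↥(A ⊓ B) ∣ Nat.card A := Subgroup.card_dvd_of_le inf_le_left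
  have h2 : Nat.card ↥(A ⊓ B) ∣ Nat.card B := Subgroup.card_dvd_of_le inf_le_right
  exact Nat.eq_one_of_dvd_coprimes h h1 h2

/-- The Frobenius four-term formula forces `U` to centralize `H` once `C_H(E)` centralizes `U`. -/
theorem le_centralizer_of_four_term [Finite G] (H U E : Subgroup G)
    (hUH : U ≤ Subgroup.normalizer (H : Set G)) (hEH : E ≤ Subgroup.normalizer (H : Set G))
    (hEU : E ≤ Subgroup.normalizer (U : Set G)) (hUnil : Group.IsNilpotent U)
    (hfpf : ∀ e ∈ E, e ≠ 1 → U ⊓ Subgroup.centralizer ({e} : Set G) = ⊥)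
    (hsolv : IsSolvable H) (hcopU : (Nat.card H).Coprime (Nat.card U))
    (hcopE : (Nat.card H).Coprime (Nat.card E))
    (hle : H ⊓ Subgroup.centralizer (E : Set G) ≤ Subgroup.centralizer (U : Set G)) :
    H ≤ Subgroup.centralizer (U : Set G) := by
  have key := Cfsg.Agent.Lib.Helper11.FrobFourTerm2.four_term_conc H U E hUH hEH hEU hUnil hfpf
    hsolv hcopU hcopE
  have e1 : H ⊓ Subgroup.centralizer ((U ⊔ E : Subgroup G) : Set G) =
      H ⊓ Subgroup.centralizer (E : Set G) := by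
    rw [Cfsg.Agent.Lib.Helper11.FrobFormula2.inf_centralizer_sup]
    apply le_antisymm
    · intro x hx
      exact ⟨hx.1.1, hx.2⟩
    · intro x hx
      exact ⟨⟨hx.1, hle hx⟩, hx.2⟩
  rw [e1] at key
  have hpos : 0 < Nat.card ↥(H ⊓ Subgroup.centralizer (E : Set G)) ^ Nat.card E :=
    Nat.pos_of_ne_zero (pow_ne_zero _ Nat.card_pos.ne')
  have h2 : Nat.card H = Nat.card ↥(H ⊓ Subgroup.centralizer (U : Set G)) :=
    Nat.eq_of_mul_eq_mul_left hpos key
  have h3 : H ⊓ Subgroup.centralizer (U : Set G) = H :=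
    Subgroup.eq_of_le_of_card_ge inf_le_left h2.le
  rw [← h3]
  exact inf_le_right

end Cfsg.Agent.Lib.Helper18.SigPartA
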