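import Mathlib
import Cfsg.Agent.S1414
import Cfsg.Agent.Lib.Helper18.SigPartA
import Cfsg.Agent.Lib.Helper1.BG12.SigmaDisjoint
import Cfsg.Agent.Lib.Helper20.HallRel
import Cfsg.Agent.Lib.Helper11.PiCore
import Cfsg.Agent.Lib.Helper10.SigmaJsubD

/-!
# The beta-core of a maximal subgroup and the covering `M = M_β N_G(Q)`
-/

set_option autoImplicit false

namespace Cfsg.Agent.Lib.Helper18.SigPartB

open Cfsg Cfsg.Agent.Lib Cfsg.Agent.Lib.Helper18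
open Cfsg.Agent.Lib.Helper11.BenderM

variable {G : Type*} [Group G] [Finite G]

/-- `M_β` -/
abbrev Mb (M : Subgroup G) : Subgroup G := Cfsg.piCoreOf (Cfsg.beta M) M

omit [Finite G] in
theorem Mb_le (M : Subgroup G) : Mb M ≤ M := Helper11.piCoreOf_le _ _

omit [Finite G] in
theorem le_normalizer_Mb (M : Subgroup G) : M ≤ Subgroup.normalizer ((Mb M : Subgroup G) : Set G) :=
  Helper11.le_normalizer_piCoreOf _ _

theorem Mb_prime (M : Subgroup G) {r : ℕ} (hr : r.Prime) (hd : r ∣ Nat.card (Mb M)) :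
    r ∈ Cfsg.beta M :=
  Helper11.piCoreOf_piNum (Cfsg.beta M) M r hr hd

theorem Mb_index (hG : Cfsg.IsMinSimpleOddOrder G) {M : Subgroup G} (hM : IsCoatom M) {r : ℕ}
    (hr : r.Prime) (hrβ : r ∈ Cfsg.beta M) : ¬ r ∣ (Mb M).relIndex M :=
  (Cfsg.Agent.S1414.result hG M hM).1.2.2 r hr hrβ

theorem beta_sub_sigma (hG : Cfsg.IsMinSimpleOddOrder G) {M : Subgroup G} (hM : IsCoatom M) {r : ℕ}
    (hrβ : r ∈ Cfsg.beta M) : r ∈ Cfsg.sigma M :=
  Helper11.BenderN.alpha_sub_sigma hG M hM r hrβ.1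

/-- a `β(M)`-subgroup of `M` lies in `M_β` -/
theorem le_Mb (hG : Cfsg.IsMinSimpleOddOrder G) {M : Subgroup G} (hM : IsCoatom M) {X : Subgroup G}
    (hXM : X ≤ M) (hX : ∀ r : ℕ, r.Prime → r ∣ Nat.card X → r ∈ Cfsg.beta M) : X ≤ Mb M := by
  apply Helper1.BG12.le_of_normal_coprime M (Mb M) X (Mb_le M) (le_normalizer_Mb M) hXM
  apply Nat.coprime_of_dvd
  intro k hk hkX hkI
  exact Mb_index hG hM hk (hX k hk hkX) hkI

/-- `M_β` has order coprime to that of a `β(M)'`-subgroup -/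
theorem coprime_Mb (M : Subgroup G) {X : Subgroup G}
    (hX : ∀ r : ℕ, r.Prime → r ∣ Nat.card X → r ∉ Cfsg.beta M) :
    (Nat.card (Mb M)).Coprime (Nat.card X) := by
  apply Nat.coprime_of_dvd
  intro k hk hkM hkX
  exact hX k hk hkX (Mb_prime M hk hkM)

theorem Mb_le_sigmaCore (hG : Cfsg.IsMinSimpleOddOrder G) {M : Subgroup G} (hM : IsCoatom M) :
    Mb M ≤ Cfsg.sigmaCore M := by
  have h : Mb M ≤ Cfsg.piCoreOf (Cfsg.sigma M) M := by
    apply Helper11.le_piCoreOf (Mb_le M) (le_normalizer_Mb M)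
    intro r hr hd
    exact beta_sub_sigma hG hM (Mb_prime M hr hd)
  exact h

theorem prime_dvd_pgroup {q : ℕ} [hq : Fact q.Prime] {Y : Subgroup G} (hY : IsPGroup q Y)
    {r : ℕ} (hr : r.Prime) (hrd : r ∣ Nat.card Y) : r = q := by
  obtain ⟨k, hk⟩ := IsPGroup.iff_card.mp hY
  rw [hk] at hrd
  exact (Nat.prime_dvd_prime_iff_eq hr hq.out).mp (hr.dvd_of_dvd_pow hrd)

/-- **The covering** `M = M_β N_G(Q)` for a Sylow `q`-subgroup `Q` of `G` with `N_G(Q) ≤ M`,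
`q ∈ σ(M) \ β(M)`. -/
theorem cover (hG : Cfsg.IsMinSimpleOddOrder G) {M : Subgroup G} (hM : IsCoatom M) {q : ℕ}
    [hq : Fact q.Prime] {Q : Subgroup G} (hQ : Good M q Q) (hqσ : q ∈ Cfsg.sigma M)
    (hqβ : q ∉ Cfsg.beta M) :
    ∀ m ∈ M, ∃ a ∈ Mb M, ∃ n ∈ Subgroup.normalizer (Q : Set G), m = a * n := by
  haveI hMs : Group.IsSolvable ↥M := Helper11.MaxSubB.coatom_solvable hG M hM
  haveI hσs : Group.IsSolvable ↥(Cfsg.sigmaCore M) :=
    Lead.solvable_of_le (Helper1.BG12.sigmaCore_le M)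
  have hQσ : Q ≤ Cfsg.sigmaCore M :=
    Helper1.BG12.pgroup_le_sigmaCore hG M hM q hqσ Q hQ.1.le hQ.1.isPGroup
  obtain ⟨-, -, -, ⟨H₀, hH₀, hH₀nil⟩, -⟩ := Cfsg.Agent.S1414.result hG M hM
  have hsep := Helper20.piSepS_of_solvable {r | r.Prime ∧ r ∉ Cfsg.beta M} ↥(Cfsg.sigmaCore M)
  have hQπ : Helper20.PiNum {r | r.Prime ∧ r ∉ Cfsg.beta M} (Nat.card Q) := by
    intro r hr hd
    refine ⟨hr, ?_⟩
    rw [prime_dvd_pgroup hQ.1.isPGroup hr hd]
    exact hqβ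
  obtain ⟨T, hTle, hT1, hT2, hQT⟩ := Helper20.hall_rel_dominance _ (Cfsg.sigmaCore M) hsep Q hQσ hQπ
  obtain ⟨g, hg, hgT⟩ := Helper20.hall_rel_conj _ (Cfsg.sigmaCore M) hsep H₀ T hH₀.1 hH₀.2.1
    hH₀.2.2 hTle hT1 hT2
  have hTnil : Group.IsNilpotent ↥T := by
    rw [← hgT]
    exact nilpotent_of_mulEquiv (Subgroup.equivSMul (MulAut.conj g) H₀)
  have hQT' : IsSylowIn q Q T := hQ.2.2.of_le hQT le_top
  have hTN : T ≤ Subgroup.normalizer (Q : Set G) :=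
    Helper1.BG12.sylow_normal_of_nilpotent T Q q hTnil hQT' T Subgroup.le_normalizer
  have hMbσ := Mb_le_sigmaCore hG hM
  have hsup : Mb M ⊔ T ≤ Cfsg.sigmaCore M := sup_le hMbσ hTle
  have hidx : (Mb M ⊔ T).relIndex (Cfsg.sigmaCore M) = 1 := by
    by_contra hne
    obtain ⟨r, hr, hrd⟩ := Nat.exists_prime_and_dvd hne
    have h1 : r ∣ T.relIndex (Cfsg.sigmaCore M) :=
      hrd.trans (Subgroup.relIndex_dvd_of_le_left _ le_sup_right)
    have h2 : r ∣ (Mb M).relIndex (Cfsg.sigmaCore M) :=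
      hrd.trans (Subgroup.relIndex_dvd_of_le_left _ le_sup_left)
    have h3 : r ∣ (Mb M).relIndex M := by
      rw [← Subgroup.relIndex_mul_relIndex (Mb M) (Cfsg.sigmaCore M) M hMbσ
        (Helper1.BG12.sigmaCore_le M)]
      exact Dvd.dvd.mul_right h2 _
    have hrβ : r ∈ Cfsg.beta M := by
      by_contra hn
      exact hT2 r hr ⟨hr, hn⟩ h1
    exact Mb_index hG hM hr hrβ h3
  have hcov : Cfsg.sigmaCore M ≤ Mb M ⊔ T := Subgroup.relIndex_eq_one.mp hidx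
  intro m hm
  have hQσ' : IsSylowIn q Q (Cfsg.sigmaCore M) := hQ.2.2.of_le hQσ le_top
  obtain ⟨n, hn, hnm⟩ := hQσ'.frattini (Helper1.BG12.le_normalizer_sigmaCore M hm)
  have hn' : n⁻¹ ∈ Mb M ⊔ T := hcov (inv_mem hn)
  obtain ⟨a, ha, t, ht, hat⟩ := Helper10.SigmaJsubD.mem_sup_of_le_normalizer
    ((hTle.trans (Helper1.BG12.sigmaCore_le M)).trans (le_normalizer_Mb M)) hn'
  refine ⟨a, ha, t * (n * m), mul_mem (hTN ht) hnm, ?_⟩
  rw [← mul_assoc, ← hat]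
  group

end Cfsg.Agent.Lib.Helper18.SigPartB
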