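import Mathlib
import Cfsg.Agent.Lib.Helper18.SigPartB
import Cfsg.Agent.Lib.Helper28.BGtF

/-!
# The asymmetric configuration: basic consequences
-/

set_option autoImplicit false

namespace Cfsg.Agent.Lib.Helper18.SigPartC

open Cfsg Cfsg.Agent.Lib Cfsg.Agent.Lib.Helper18 Cfsg.Agent.Lib.Helper18.SigPartB
open Cfsg.Agent.Lib.Helper11.BenderM

variable {G : Type*} [Group G] [Finite G]

/-- The configuration: `M`, `L` nonconjugate maximal subgroups, `Q` a Sylow `q`-subgroup of `G` with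
`N_G(Q) ≤ M ∩ L`, `P ≤ N_G(Q)` of prime order `p` acting fixed-point-freely on `Q`. -/
structure Cfg (M L Q P : Subgroup G) (q p : ℕ) : Prop where
  hG : Cfsg.IsMinSimpleOddOrder G
  hM : IsCoatom M
  hL : IsCoatom L
  hnc : ∀ g : G, L ≠ conjSub g M
  hq : q.Prime
  hp : p.Prime
  hQ : IsSylowIn q Q ⊤
  hQ1 : Q ≠ ⊥
  hNM : Subgroup.normalizer (Q : Set G) ≤ M
  hNL : Subgroup.normalizer (Q : Set G) ≤ L
  hPN : P ≤ Subgroup.normalizer (Q : Set G)
  hPc : Nat.card P = p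
  hfpf : Q ⊓ Subgroup.centralizer (P : Set G) = ⊥

namespace Cfg

variable {M L Q P : Subgroup G} {q p : ℕ}

theorem symm (c : Cfg M L Q P q p) : Cfg L M Q P q p where
  hG := c.hG
  hM := c.hL
  hL := c.hM
  hnc := by
    intro g h
    apply c.hnc g⁻¹
    rw [h, conjSub_mul, inv_mul_cancel, conjSub_one]
  hq := c.hq
  hp := c.hp
  hQ := c.hQ
  hQ1 := c.hQ1
  hNM := c.hNL
  hNL := c.hNM
  hPN := c.hPN
  hPc := c.hPc
  hfpf := c.hfpf

theorem factq (c : Cfg M L Q P q p) : Fact q.Prime := ⟨c.hq⟩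
theorem factp (c : Cfg M L Q P q p) : Fact p.Prime := ⟨c.hp⟩

theorem QleM (c : Cfg M L Q P q p) : Q ≤ M := Subgroup.le_normalizer.trans c.hNM
theorem PleM (c : Cfg M L Q P q p) : P ≤ M := c.hPN.trans c.hNM

theorem good (c : Cfg M L Q P q p) : Good M q Q :=
  ⟨c.hQ.of_le c.QleM le_top, c.hNM, c.hQ⟩

theorem q_sigma (c : Cfg M L Q P q p) : q ∈ Cfsg.sigma M := by
  haveI := c.factq
  exact Helper1.BG12.sigma_of_good M q Q c.good c.hQ1

theorem q_not_alpha (c : Cfg M L Q P q p) : q ∉ Cfsg.alpha M := by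
  intro h
  obtain ⟨g, hg⟩ := Helper1.BG12.conj_of_alpha_sigma c.hG M L c.hM c.hL q h c.symm.q_sigma
  exact c.hnc g hg

theorem q_not_beta (c : Cfg M L Q P q p) : q ∉ Cfsg.beta M := fun h => c.q_not_alpha h.1

theorem beta_disj (c : Cfg M L Q P q p) {s : ℕ} (hs : s ∈ Cfsg.beta M) : s ∉ Cfsg.beta L := by
  intro h
  obtain ⟨g, hg⟩ := Helper1.BG12.conj_of_alpha_sigma c.hG M L c.hM c.hL s hs.1
    (beta_sub_sigma c.hG c.hL h)
  exact c.hnc g hg

theorem Q_prime (c : Cfg M L Q P q p) {r : ℕ} (hr : r.Prime) (hd : r ∣ Nat.card Q) : r = q := by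
  haveI := c.factq
  exact prime_dvd_pgroup c.hQ.isPGroup hr hd

theorem cop_Q (c : Cfg M L Q P q p) : (Nat.card (Mb M)).Coprime (Nat.card Q) := by
  apply coprime_Mb
  intro r hr hd
  rw [c.Q_prime hr hd]
  exact c.q_not_beta

theorem Q_inf_Mb (c : Cfg M L Q P q p) : Q ⊓ Mb M = ⊥ :=
  SigPartA.inf_eq_bot_of_coprime' c.cop_Q.symm

theorem P_ne_bot (c : Cfg M L Q P q p) : P ≠ ⊥ := by
  intro h
  have h1 := c.hPc
  rw [h, Subgroup.card_bot] at h1
  exact c.hp.one_lt.ne h1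

theorem p_not_beta (c : Cfg M L Q P q p) : p ∉ Cfsg.beta M := by
  intro h
  have hPb : P ≤ Mb M := by
    apply le_Mb c.hG c.hM c.PleM
    intro r hr hd
    rw [c.hPc] at hd
    rw [(Nat.prime_dvd_prime_iff_eq hr c.hp).mp hd]
    exact h
  have h1 : P ≤ Subgroup.centralizer (Q : Set G) :=
    SigPartA.le_centralizer_of_disjoint hPb (c.QleM.trans (le_normalizer_Mb M)) c.hPN c.Q_inf_Mb
  have h2 : Q ≤ Subgroup.centralizer (P : Set G) := by
    intro u hu
    rw [Subgroup.mem_centralizer_iff]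
    intro y hy
    exact ((Subgroup.mem_centralizer_iff.mp (h1 hy)) u hu).symm
  have h3 := c.hfpf
  rw [inf_eq_left.mpr h2] at h3
  exact c.hQ1 h3

theorem cop_P (c : Cfg M L Q P q p) : (Nat.card (Mb M)).Coprime (Nat.card P) := by
  apply coprime_Mb
  intro r hr hd
  rw [c.hPc] at hd
  rw [(Nat.prime_dvd_prime_iff_eq hr c.hp).mp hd]
  exact c.p_not_beta

theorem fpf' (c : Cfg M L Q P q p) : ∀ e ∈ P, e ≠ 1 →
    Q ⊓ Subgroup.centralizer ({e} : Set G) = ⊥ := by
  intro e he he1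
  haveI := c.factp
  have h1 : Subgroup.zpowers e = P := Helper28.BGt.zpowers_eq_of_card_prime c.hPc he he1
  rw [eq_bot_iff, ← c.hfpf]
  intro x hx
  refine ⟨hx.1, ?_⟩
  rw [← h1]
  exact Helper28.BGt.centralizer_singleton_le_zpowers e hx.2

/-- The maximal subgroup `M` is covered by `M_β` and `N_G(Q)`. -/
theorem cover (c : Cfg M L Q P q p) :
    ∀ m ∈ M, ∃ a ∈ Mb M, ∃ n ∈ Subgroup.normalizer (Q : Set G), m = a * n := by
  haveI := c.factq
  exact SigPartB.cover c.hG c.hM c.good c.q_sigma c.q_not_beta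

/-- `C_{M_β}(P)` does not centralize `Q`. -/
theorem X_not_le (c : Cfg M L Q P q p) :
    ¬ (Mb M ⊓ Subgroup.centralizer (P : Set G) ≤ Subgroup.centralizer (Q : Set G)) := by
  intro hle
  haveI := c.factq
  haveI hMs : Group.IsSolvable ↥M := Helper11.MaxSubB.coatom_solvable c.hG M c.hM
  haveI hbs : Group.IsSolvable ↥(Mb M) := Lead.solvable_of_le (Mb_le M)
  have hnil : Group.IsNilpotent ↥Q := c.hQ.isPGroup.isNilpotent
  have h1 : Mb M ≤ Subgroup.centralizer (Q : Set G) :=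
    SigPartA.le_centralizer_of_four_term (Mb M) Q P (c.QleM.trans (le_normalizer_Mb M))
      (c.PleM.trans (le_normalizer_Mb M)) c.hPN hnil c.fpf' hbs c.cop_Q c.cop_P hle
  have h2 : M ≤ Subgroup.normalizer (Q : Set G) := by
    intro m hm
    obtain ⟨a, ha, n, hn, rfl⟩ := c.cover m hm
    exact mul_mem (Subgroup.centralizer_le_normalizer _ (h1 ha)) hn
  have h3 : M ≤ L := h2.trans c.hNL
  have h4 : L = M := by
    rcases eq_or_lt_of_le h3 with h | h
    · exact h.symm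
    · exact absurd (c.hM.2 L h) c.hL.1
  apply c.hnc 1
  rw [conjSub_one]
  exact h4

theorem X_ne_bot (c : Cfg M L Q P q p) : Mb M ⊓ Subgroup.centralizer (P : Set G) ≠ ⊥ := by
  intro h
  apply c.X_not_le
  rw [h]
  exact bot_le

end Cfg

end Cfsg.Agent.Lib.Helper18.SigPartC
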