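import Mathlib
import Cfsg.Agent.Lib.Helper1.CoprimeGen
import Cfsg.Agent.Lib.Helper18.SylowIn

set_option autoImplicit false
open scoped commutatorElement

/-!
# Coprime generation for an action that is abelian modulo its kernel

A variant of `Cfsg.Agent.Lib.Helper1.core_solvable`: the two elements `x`, `y` of order `r` need not
commute, it suffices that their commutator centralizes the group acted on.
-/

namespace Cfsg.Agent.Lib.Helper18.BGTwelveB

open Cfsg.Agent.Lib.Helper1 Cfsg.Agent.Lib.Lead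

variable {G : Type*} [Group G]

theorem abAct_eq_one_of_mem_centralizer (Q : Subgroup G) (c : G)
    (hc : c ∈ Subgroup.centralizer (Q : Set G)) :
    abAct Q ⟨c, Subgroup.centralizer_le_normalizer (Q : Set G) hc⟩ = 1 := by
  have h1 : (⟨c, Subgroup.centralizer_le_normalizer (Q : Set G) hc⟩ :
      Subgroup.normalizer (Q : Set G)) ∈ Q.normalizerMonoidHom.ker := by
    rw [Subgroup.normalizerMonoidHom_ker, Subgroup.mem_subgroupOf]
    exact hc
  rw [MonoidHom.mem_ker] at h1
  unfold abAct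
  rw [MonoidHom.comp_apply, h1, map_one]

theorem core_solvable_mod [Finite G] (A : Subgroup G) (r : ℕ) [Fact r.Prime] (x y : G)
    (hxA : x ∈ A) (hyA : y ∈ A) (Q₀ : Subgroup G)
    (hz : y * x * y⁻¹ * x⁻¹ ∈ Subgroup.centralizer (Q₀ : Set G)) (hx : x ^ r = 1) (hy : y ^ r = 1)
    (H : Subgroup G) :
    ∀ n : ℕ, ∀ Q : Subgroup G, Nat.card Q = n → Q ≤ Q₀ → Group.IsSolvable Q →
      A ≤ Subgroup.normalizer (Q : Set G) → (Nat.card A).Coprime (Nat.card Q) →
      r.Coprime (Nat.card Q) →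
      (∀ j : ZMod r, Q ⊓ Subgroup.centralizer {y * x ^ j.val} ≤ H) →
      Q ⊓ Subgroup.centralizer {x} ≤ H → Q ≤ H := by
  intro n
  induction n using Nat.strong_induction_on with
  | _ n ih =>
    intro Q hn hQ₀ hsol hAQ hcop hr hW hX
    by_cases hbot : Q = ⊥
    · rw [hbot]; exact bot_le
    have hnt : Nontrivial Q := (Subgroup.nontrivial_iff_ne_bot Q).mpr hbot
    have hlt : Nat.card (⁅Q, Q⁆ : Subgroup G) < n := by
      rw [← Subgroup.map_subtype_commutator, Subgroup.card_map_of_injective Q.subtype_injective,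
        ← hn]
      have h1 := Group.IsSolvable.commutator_lt_top_of_nontrivial Q
      exact lt_of_le_of_ne (Subgroup.card_le_card_group _)
        (mt (Subgroup.card_eq_iff_eq_top _).mp h1.ne)
    have hle : (⁅Q, Q⁆ : Subgroup G) ≤ Q := Subgroup.commutator_le_self Q
    have hsol' : Group.IsSolvable (⁅Q, Q⁆ : Subgroup G) := solvable_of_le hle
    have hQ' : (⁅Q, Q⁆ : Subgroup G) ≤ H :=
      ih _ hlt ⁅Q, Q⁆ rfl (hle.trans hQ₀) hsol' (hAQ.trans (le_normalizer_commutator_self Q))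
        (coprime_of_le hle hcop) (Nat.Coprime.coprime_dvd_right (Subgroup.card_dvd_of_le hle) hr)
        (fun j => (inf_le_inf_right _ hle).trans (hW j)) ((inf_le_inf_right _ hle).trans hX)
    intro v hv
    have hxN : x ∈ Subgroup.normalizer (Q : Set G) := hAQ hxA
    have hyN : y ∈ Subgroup.normalizer (Q : Set G) := hAQ hyA
    set α := abAct Q ⟨y, hyN⟩ with hαdef
    set β := abAct Q ⟨x, hxN⟩ with hβdef
    have hα : α ^ r = 1 := by
      rw [hαdef, ← map_pow]
      have : (⟨y, hyN⟩ : Subgroup.normalizer (Q : Set G)) ^ r = 1 := Subtype.ext (by simpa using hy)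
      rw [this, map_one]
    have hβ : β ^ r = 1 := by
      rw [hβdef, ← map_pow]
      have : (⟨x, hxN⟩ : Subgroup.normalizer (Q : Set G)) ^ r = 1 := Subtype.ext (by simpa using hx)
      rw [this, map_one]
    have hc : Commute α β := by
      have hzQ : y * x * y⁻¹ * x⁻¹ ∈ Subgroup.centralizer (Q : Set G) :=
        Subgroup.centralizer_le (s := (Q : Set G)) (t := (Q₀ : Set G)) hQ₀ hz
      have h1 := abAct_eq_one_of_mem_centralizer Q _ hzQ
      have e : (⟨y, hyN⟩ : Subgroup.normalizer (Q : Set G)) * ⟨x, hxN⟩ =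
          ⟨y * x * y⁻¹ * x⁻¹, Subgroup.centralizer_le_normalizer (Q : Set G) hzQ⟩ *
            (⟨x, hxN⟩ * ⟨y, hyN⟩) := by
        apply Subtype.ext
        simp only [Subgroup.coe_mul]
        group
      show α * β = β * α
      rw [hαdef, hβdef, ← map_mul, ← map_mul, e, map_mul, h1, one_mul]
    have key := pow_mem_iSup_fix r hα hβ hc (Abelianization.of ⟨v, hv⟩)
    have hcopw : ∀ w ∈ A, (Nat.card (Subgroup.zpowers w)).Coprime (Nat.card Q) := by
      intro w hw
      apply Nat.Coprime.coprime_dvd_left _ hcop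
      apply Subgroup.card_dvd_of_le
      rw [Subgroup.zpowers_le]; exact hw
    set T : Subgroup (Abelianization Q) := (H.subgroupOf Q).map Abelianization.of with hTdef
    have hT : (⨆ j : ZMod r, fixSubgroup (α * β ^ j.val)) ⊔ fixSubgroup β ≤ T := by
      apply sup_le
      · apply iSup_le
        intro j m hm
        obtain ⟨q, rfl⟩ := QuotientGroup.mk_surjective m
        refine ⟨q, ?_, rfl⟩
        change (q : G) ∈ H
        have hwA : y * x ^ j.val ∈ A := A.mul_mem hyA (A.pow_mem hxA _)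
        have hwN : y * x ^ j.val ∈ Subgroup.normalizer (Q : Set G) := hAQ hwA
        have e : α * β ^ j.val = abAct Q ⟨y * x ^ j.val, hwN⟩ := by
          rw [hαdef, hβdef, ← map_pow, ← map_mul]
          rfl
        apply fix_le Q H (y * x ^ j.val) hwN (hcopw _ hwA) hQ' (hW j) q
        rw [← e]
        exact hm
      · intro m hm
        obtain ⟨q, rfl⟩ := QuotientGroup.mk_surjective m
        refine ⟨q, ?_, rfl⟩
        change (q : G) ∈ H
        exact fix_le Q H x hxN (hcopw _ hxA) hQ' hX q hm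
    obtain ⟨t, ht, hte⟩ := hT key
    have ht' : (t : G) ∈ H := ht
    rw [← map_pow] at hte
    have h2 := (MonoidHom.eq_iff (f := (Abelianization.of : Q →* Abelianization Q))).mp hte
    rw [Abelianization.ker_of] at h2
    have h3 : (v ^ r)⁻¹ * (t : G) ∈ (⁅Q, Q⁆ : Subgroup G) := by
      rw [← Subgroup.map_subtype_commutator]
      exact ⟨_, h2, rfl⟩
    have h4 : v ^ r ∈ H := by
      have e : v ^ r = (t : G) * ((v ^ r)⁻¹ * (t : G))⁻¹ := by group
      rw [e]
      exact H.mul_mem ht' (H.inv_mem (hQ' h3))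
    have h5 : r.Coprime (orderOf v) := by
      apply Nat.Coprime.coprime_dvd_right _ hr
      have : orderOf v = orderOf (⟨v, hv⟩ : Q) := by
        rw [← Subgroup.orderOf_coe]
      rw [this]
      exact orderOf_dvd_natCard _
    obtain ⟨s, hs⟩ := exists_pow_eq_self_of_coprime h5
    rw [← hs]
    exact H.pow_mem h4 s

/-! ### subgroups of order `p` of `⟨x⟩ × ⟨c⟩`, `c = [y, x]` central -/

section extraspecial

open Cfsg.Agent.Lib.Helper18

theorem mem_sup_zpowers_of_commute {x c : G} (hc : Commute x c) {g : G}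
    (hg : g ∈ Subgroup.zpowers x ⊔ Subgroup.zpowers c) : ∃ i j : ℤ, g = x ^ i * c ^ j := by
  rw [Subgroup.zpowers_eq_closure, Subgroup.zpowers_eq_closure, ← Subgroup.closure_union] at hg
  induction hg using Subgroup.closure_induction with
  | mem a ha =>
    rcases ha with ha | ha
    · rw [Set.mem_singleton_iff] at ha
      exact ⟨1, 0, by simp [ha]⟩
    · rw [Set.mem_singleton_iff] at ha
      exact ⟨0, 1, by simp [ha]⟩
  | one => exact ⟨0, 0, by simp⟩
  | mul a b _ _ iha ihb =>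
    obtain ⟨i, j, rfl⟩ := iha
    obtain ⟨i', j', rfl⟩ := ihb
    refine ⟨i + i', j + j', ?_⟩
    have h1 : Commute (c ^ j) (x ^ i') := (hc.zpow_zpow i' j).symm
    rw [zpow_add, zpow_add, mul_assoc, ← mul_assoc (c ^ j), h1.eq, mul_assoc, mul_assoc]
  | inv a _ iha =>
    obtain ⟨i, j, rfl⟩ := iha
    refine ⟨-i, -j, ?_⟩
    have h1 : Commute (x ^ i) (c ^ j) := hc.zpow_zpow i j
    rw [mul_inv_rev, zpow_neg, zpow_neg, ← h1.inv_inv.eq]

theorem conj_pow_eq {x y c : G} (hcdef : c = y * x * y⁻¹ * x⁻¹) (hcy : Commute c y) (k : ℕ) :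
    y ^ k * x * (y ^ k)⁻¹ = c ^ k * x := by
  induction k with
  | zero => simp
  | succ k ih =>
    have h1 : y ^ (k + 1) * x * (y ^ (k + 1))⁻¹ = y * (y ^ k * x * (y ^ k)⁻¹) * y⁻¹ := by
      rw [pow_succ']
      group
    have h2 : y * x * y⁻¹ = c * x := by rw [hcdef]; group
    have h3 : Commute (c ^ k) y := hcy.pow_left k
    rw [h1, ih, ← mul_assoc, ← h3.eq, mul_assoc, mul_assoc, ← mul_assoc y x, h2, ← mul_assoc,
      ← pow_succ]

theorem zpowers_eq_of_card_prime {p : ℕ} (hp : p.Prime) {A : Subgroup G} (hA : Nat.card A = p)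
    {g : G} (hg : g ∈ A) (hg1 : g ≠ 1) : Subgroup.zpowers g = A := by
  haveI : Finite A := Nat.finite_of_card_ne_zero (by rw [hA]; exact hp.ne_zero)
  have hle : Subgroup.zpowers g ≤ A := by rw [Subgroup.zpowers_le]; exact hg
  apply Subgroup.eq_of_le_of_card_ge hle
  have hd : Nat.card (Subgroup.zpowers g) ∣ p := hA ▸ Subgroup.card_dvd_of_le hle
  rcases (Nat.dvd_prime hp).mp hd with h | h
  · exfalso
    apply hg1
    have := Subgroup.card_eq_one.mp h
    rw [Subgroup.zpowers_eq_bot] at this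
    exact this
  · rw [hA, h]

/-- every subgroup of order `p` of `⟨x⟩⟨c⟩` other than `⟨c⟩` is conjugate to `⟨x⟩` under a power
of `y`, when `c = [y, x]` commutes with `x` and `y` -/
theorem exists_conj_zpowers [Finite G] {p : ℕ} [hp : Fact p.Prime] {x y c : G}
    (hcdef : c = y * x * y⁻¹ * x⁻¹) (hcx : Commute c x) (hcy : Commute c y) (hxp : x ^ p = 1)
    (hcp : c ^ p = 1) (hxc : x ∉ Subgroup.zpowers c) (A₁ : Subgroup G)
    (hA₁ : A₁ ≤ Subgroup.zpowers x ⊔ Subgroup.zpowers c) (hcard : Nat.card A₁ = p)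
    (hne : ¬ A₁ ≤ Subgroup.zpowers c) :
    ∃ k : ℕ, A₁ = conjSub (y ^ k) (Subgroup.zpowers x) := by
  have hA1 : A₁ ≠ ⊥ := by
    rintro rfl
    rw [Subgroup.card_bot] at hcard
    exact hp.out.one_lt.ne hcard
  obtain ⟨g, hg⟩ := (Subgroup.ne_bot_iff_exists_ne_one.mp hA1)
  have hgA : (g : G) ∈ A₁ := g.2
  have hg1' : (g : G) ≠ 1 := fun h => hg (Subtype.ext h)
  obtain ⟨i, j, hij⟩ := mem_sup_zpowers_of_commute hcx.symm (hA₁ hgA)
  have hgen := zpowers_eq_of_card_prime hp.out hcard hgA hg1'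
  -- `p` does not divide `i`
  have hpi : ¬ (p : ℤ) ∣ i := by
    rintro ⟨t, rfl⟩
    apply hne
    rw [← hgen, Subgroup.zpowers_le, hij, zpow_mul, zpow_natCast, hxp, one_zpow, one_mul]
    exact Subgroup.zpow_mem_zpowers c j
  -- an inverse of `i` modulo `p`
  have hunit : (i : ZMod p) ≠ 0 := by
    rwa [Ne, ZMod.intCast_zmod_eq_zero_iff_dvd]
  obtain ⟨i', hi'⟩ : ∃ i' : ℤ, (p : ℤ) ∣ i * i' - 1 := by
    refine ⟨(((i : ZMod p)⁻¹).val : ℤ), ?_⟩
    rw [← ZMod.intCast_zmod_eq_zero_iff_dvd]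
    push_cast
    rw [ZMod.natCast_zmod_val, mul_inv_cancel₀ hunit, sub_self]
  obtain ⟨t, ht⟩ := hi'
  have hx1 : x ^ (i * i') = x := by
    have : i * i' = 1 + p * t := by omega
    rw [this, zpow_add, zpow_one, zpow_mul, zpow_natCast, hxp, one_zpow, mul_one]
  have hcomm : Commute (x ^ i) (c ^ j) := (hcx.symm).zpow_zpow i j
  have hg' : (g : G) ^ i' = x * c ^ (j * i') := by
    rw [hij, hcomm.mul_zpow, ← zpow_mul, ← zpow_mul, hx1]
  -- reduce the exponent of `c`
  obtain ⟨k, hk⟩ : ∃ k : ℕ, c ^ (j * i') = c ^ k := by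
    refine ⟨((j * i') % p).toNat, ?_⟩
    have hpos : (0 : ℤ) < p := by exact_mod_cast hp.out.pos
    have h1 : ((j * i') % (p : ℤ)).toNat = ((j * i') % (p : ℤ)) :=
      Int.toNat_of_nonneg (Int.emod_nonneg _ hpos.ne')
    have h2 : j * i' = (j * i') % p + p * ((j * i') / p) := (Int.emod_add_mul_ediv _ _).symm
    rw [← zpow_natCast, h1]
    conv_lhs => rw [h2]
    rw [zpow_add, zpow_mul, zpow_natCast c p, hcp, one_zpow, mul_one]
  refine ⟨k, ?_⟩
  have hg'' : (g : G) ^ i' = y ^ k * x * (y ^ k)⁻¹ := by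
    rw [conj_pow_eq hcdef hcy k, hg', hk, (hcx.pow_left k).eq]
  have hmem : y ^ k * x * (y ^ k)⁻¹ ∈ A₁ := by
    rw [← hg'']
    exact A₁.zpow_mem hgA i'
  have hne1 : y ^ k * x * (y ^ k)⁻¹ ≠ 1 := by
    intro h
    have : x = 1 := by
      have e : x = (y ^ k)⁻¹ * (y ^ k * x * (y ^ k)⁻¹) * y ^ k := by group
      rw [e, h]
      group
    apply hxc
    rw [this]
    exact Subgroup.one_mem _
  rw [← zpowers_eq_of_card_prime hp.out hcard hmem hne1]
  unfold conjSub
  rw [MonoidHom.map_zpowers]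
  rfl

end extraspecial

end Cfsg.Agent.Lib.Helper18.BGTwelveB
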