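import Mathlib
import Cfsg.Prelude.Def_OddOrderLocal
import Cfsg.Agent.Lib.Helper5.ElemAb
import Cfsg.Agent.Lib.Helper11.BenderF
import Cfsg.Agent.Lib.Helper11.BenderQ
import Cfsg.Agent.Lib.Helper11.BenderN
import Cfsg.Agent.Lib.Helper11.RankTwoTower
import Cfsg.Agent.Lib.Helper11.ExcA
import Cfsg.Agent.Lib.Helper1.BG12.SigmaDisjoint
import Cfsg.Agent.Lib.Helper18.BGTwelveA
import Cfsg.Agent.Lib.Helper18.BGTwelveB
import Cfsg.Agent.S1403
import Cfsg.Agent.S1410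
import Cfsg.Agent.S1412
import Cfsg.Agent.S1461

set_option autoImplicit false
open scoped commutatorElement Pointwise

/-!
# B & G, Lemma 12.13: a nonabelian `p`-subgroup lies in a unique maximal subgroup

conditional on Theorem 12.4, Theorem 12.5(b) and Theorem 12.10(c)
-/

namespace Cfsg.Agent.Lib.Helper18.BGTwelveC

open Cfsg.Agent.Lib.Helper18 Cfsg.Agent.Lib.Helper11.BenderM Cfsg.Agent.Lib.Helper11.MaxSubD
open Cfsg.Agent.Lib.Helper18.BGTwelveB

variable {G : Type*} [Group G] [Finite G]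

/-- two commuting elements of order dividing `p`, neither a power of the other, generate an
elementary abelian subgroup of order `p ^ 2` -/
theorem elemAb_sup_zpowers {p : ℕ} [hp : Fact p.Prime] {b c : G} (hbc : Commute b c)
    (hb : b ^ p = 1) (hc : c ^ p = 1) (hc1 : c ≠ 1) (hbc' : b ∉ Subgroup.zpowers c) :
    Cfsg.IsElementaryAbelian p (Subgroup.zpowers b ⊔ Subgroup.zpowers c) ∧
      Nat.card ↥(Subgroup.zpowers b ⊔ Subgroup.zpowers c) = p ^ 2 := by
  constructor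
  · rw [Subgroup.zpowers_eq_closure, Subgroup.zpowers_eq_closure, ← Subgroup.closure_union]
    apply Cfsg.Agent.Lib.Helper5.elemAb_closure
    · rintro u (hu | hu) v (hv | hv) <;> rw [Set.mem_singleton_iff] at hu hv <;> subst hu hv
      · rfl
      · exact hbc.eq
      · exact hbc.eq.symm
      · rfl
    · rintro u (hu | hu) <;> rw [Set.mem_singleton_iff] at hu <;> subst hu
      · exact hb
      · exact hc
  · have hb1 : b ≠ 1 := by
      rintro rfl
      exact hbc' (Subgroup.one_mem _)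
    have hcc : Nat.card (Subgroup.zpowers c) = p := by
      rw [Nat.card_zpowers]
      exact orderOf_eq_prime hc hc1
    have hbb : Nat.card (Subgroup.zpowers b) = p := by
      rw [Nat.card_zpowers]
      exact orderOf_eq_prime hb hb1
    have hnorm : Subgroup.zpowers c ≤ Subgroup.normalizer ((Subgroup.zpowers b : Subgroup G) : Set G) := by
      refine le_trans ?_ (Subgroup.centralizer_le_normalizer _)
      rw [Subgroup.zpowers_le, Subgroup.mem_centralizer_iff]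
      intro u hu
      obtain ⟨k, rfl⟩ := Subgroup.mem_zpowers_iff.mp hu
      exact ((hbc.zpow_left k).eq)
    have h1 := relIndex_sup_of_le_normalizer (Subgroup.zpowers c) (Subgroup.zpowers b) hnorm
    have h2 := Subgroup.relIndex_mul_relIndex ⊥ (Subgroup.zpowers c)
      (Subgroup.zpowers c ⊔ Subgroup.zpowers b) bot_le le_sup_left
    rw [Subgroup.relIndex_bot_left, Subgroup.relIndex_bot_left, h1, hcc] at h2
    have h3 : (Subgroup.zpowers c).relIndex (Subgroup.zpowers b) ∣ p :=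
      hbb ▸ Subgroup.relIndex_dvd_card _ _
    rw [sup_comm] at h2
    have h4 : Nat.card ↥(Subgroup.zpowers b ⊔ Subgroup.zpowers c) ∣ p ^ 2 := by
      rw [← h2, sq]
      exact Nat.mul_dvd_mul_left p h3
    obtain ⟨k, hk2, hk⟩ := (Nat.dvd_prime_pow hp.out).mp h4
    have hlt : p < Nat.card ↥(Subgroup.zpowers b ⊔ Subgroup.zpowers c) := by
      by_contra hle
      push Not at hle
      have : Subgroup.zpowers c = Subgroup.zpowers b ⊔ Subgroup.zpowers c :=
        Subgroup.eq_of_le_of_card_ge le_sup_right (by rw [hcc]; exact hle)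
      apply hbc'
      rw [this]
      exact Subgroup.mem_sup_left (Subgroup.mem_zpowers b)
    rw [hk] at hlt ⊢
    have : 1 < k := by
      by_contra h
      push Not at h
      have := Nat.pow_le_pow_right hp.out.pos h
      rw [pow_one] at this
      omega
    have : k = 2 := by omega
    rw [this]

omit [Finite G] in
/-- an elementary abelian subgroup of order more than `p ^ k` bounds the rank from below -/
theorem not_pRankLE_of_elemAb {p k : ℕ} {Z M : Subgroup G} (hZM : Z ≤ M)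
    (hZ : Cfsg.IsElementaryAbelian p Z) (hc : p ^ k < Nat.card Z) : ¬ Cfsg.PRankLE p k ↥M := by
  intro h
  have h1 := Cfsg.Agent.Lib.Helper5.elemAb_comap_of_injective M.subtype
    (Subgroup.subtype_injective _) hZ
  have h2 := h _ h1.1 h1.2
  have h3 : Nat.card (Z.comap M.subtype) = Nat.card Z :=
    Cfsg.Agent.Lib.Helper5.card_subgroupOf_of_le hZM
  rw [h3] at h2
  omega

/-- a maximal subgroup containing a nonabelian `p`-subgroup has `p` in its `σ`-set -/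
theorem mem_sigma_of_nonabelian (hG : Cfsg.IsMinSimpleOddOrder G)
    (h1417b : ∀ M : Subgroup G, IsCoatom M → ∀ (p : ℕ) [Fact p.Prime], p ∈ Cfsg.tau2 M →
      ∀ A : Subgroup G, (A ≤ M ∧ Cfsg.IsElementaryAbelian p A ∧ Nat.card A = p ^ 2) →
      ∀ P : Sylow p M, IsMulCommutative (P : Subgroup M))
    (M : Subgroup G) (hM : IsCoatom M) (p : ℕ) [hp : Fact p.Prime] (P : Subgroup G)
    (hP : IsPGroup p P) (hPna : ¬ IsMulCommutative P) (hPM : P ≤ M) : p ∈ Cfsg.sigma M := by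
  have hP1 : P ≠ ⊥ := by
    rintro rfl
    apply hPna
    refine ⟨⟨fun a b => ?_⟩⟩
    exact Subsingleton.elim _ _
  have hp2 : p ≠ 2 := Cfsg.Agent.Lib.Helper11.BenderD.odd_prime_of_pgroup hG p P hP1 hP
  have hnc : ¬ IsCyclic P := fun h => hPna IsCyclic.isMulCommutative
  obtain ⟨Z, hZP, -, hZe, hZc⟩ :=
    Cfsg.Agent.Lib.Helper11.BenderF.exists_normal_sq p hp2 P hP hnc
  have hr1 : ¬ Cfsg.PRankLE p 1 ↥M :=
    not_pRankLE_of_elemAb (hZP.trans hPM) hZe
      (by rw [hZc]; exact Nat.pow_lt_pow_right hp.out.one_lt (by norm_num))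
  by_contra hσ
  by_cases h2 : Cfsg.PRankLE p 2 ↥M
  · have hτ : p ∈ Cfsg.tau2 M := ⟨hp.out, hσ, h2, hr1⟩
    have hP' : IsPGroup p (P.subgroupOf M) := hP.comap_subtype
    obtain ⟨Q, hQ⟩ := hP'.exists_le_sylow
    have hQc := h1417b M hM p hτ Z ⟨hZP.trans hPM, hZe, hZc⟩ Q
    apply hPna
    refine ⟨⟨fun a b => ?_⟩⟩
    have ha : (⟨a.1, hPM a.2⟩ : M) ∈ (Q : Subgroup M) := hQ (Subgroup.mem_subgroupOf.mpr a.2)
    have hb : (⟨b.1, hPM b.2⟩ : M) ∈ (Q : Subgroup M) := hQ (Subgroup.mem_subgroupOf.mpr b.2)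
    have := hQc.is_comm.comm ⟨_, ha⟩ ⟨_, hb⟩
    apply Subtype.ext
    have h3 := congrArg (fun t : (Q : Subgroup M) => ((t : M) : G)) this
    exact h3
  · exact hσ (Cfsg.Agent.Lib.Helper11.BenderN.alpha_sub_sigma hG M hM p ⟨hp.out, h2⟩)

/-- the configuration inside a Sylow subgroup `S` used in the proof: two noncommuting elements
`x`, `y` of order `p` whose commutator `c` is central in `S`, all `y x ^ j` having order `p` -/
structure Cfg (p : ℕ) (S : Subgroup G) (x y c : G) : Prop where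
  hx : x ∈ S
  hy : y ∈ S
  hc : c = y * x * y⁻¹ * x⁻¹
  hc1 : c ≠ 1
  hcZ : c ∈ Subgroup.centralizer (S : Set G)
  hxp : x ^ p = 1
  hcp : c ^ p = 1
  hyxp : ∀ j : ℕ, (y * x ^ j) ^ p = 1

namespace Cfg

variable {p : ℕ} {S : Subgroup G} {x y c : G}

omit [Finite G] in
theorem comm_cx (h : Cfg p S x y c) : Commute c x :=
  (Subgroup.mem_centralizer_iff.mp h.hcZ x h.hx).symm

omit [Finite G] in
theorem comm_cy (h : Cfg p S x y c) : Commute c y :=
  (Subgroup.mem_centralizer_iff.mp h.hcZ y h.hy).symm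

omit [Finite G] in
theorem not_comm (h : Cfg p S x y c) : y * x ≠ x * y := by
  intro hyx
  apply h.hc1
  rw [h.hc, hyx]
  group

omit [Finite G] in
theorem zpowers_le (h : Cfg p S x y c) : Subgroup.zpowers c ≤ Subgroup.centralizer (S : Set G) := by
  rw [Subgroup.zpowers_le]
  exact h.hcZ

omit [Finite G] in
theorem x_not_central (h : Cfg p S x y c) : x ∉ Subgroup.centralizer (S : Set G) := by
  intro hx
  exact h.not_comm (Subgroup.mem_centralizer_iff.mp hx y h.hy)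

omit [Finite G] in
theorem yx_not_central (h : Cfg p S x y c) (j : ℕ) :
    y * x ^ j ∉ Subgroup.centralizer (S : Set G) := by
  intro hyx
  have h1 := Subgroup.mem_centralizer_iff.mp hyx x h.hx
  apply h.not_comm
  have h2 : x * (y * x ^ j) = x * y * x ^ j := by group
  have h3 : y * x ^ j * x = y * x * x ^ j := by
    rw [mul_assoc, mul_assoc, ← pow_succ, ← pow_succ']
  rw [h2, h3] at h1
  exact (mul_right_cancel h1).symm

omit [Finite G] in
theorem yx_mem (h : Cfg p S x y c) (j : ℕ) : y * x ^ j ∈ S :=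
  S.mul_mem h.hy (S.pow_mem h.hx j)

omit [Finite G] in
theorem c_mem (h : Cfg p S x y c) : c ∈ S := by
  rw [h.hc]
  exact S.mul_mem (S.mul_mem (S.mul_mem h.hy h.hx) (S.inv_mem h.hy)) (S.inv_mem h.hx)

omit [Finite G] in
theorem hyp (h : Cfg p S x y c) : y ^ p = 1 := by
  have := h.hyxp 0
  rwa [pow_zero, mul_one] at this

end Cfg

theorem exists_cfg {p : ℕ} [hp : Fact p.Prime] {S P₁ P₂ : Subgroup G} (hS : P₁ ⊔ P₂ = S)
    (hcomm : ∀ a ∈ P₁, ∀ b ∈ P₂, a * b = b * a) (hna : ¬ IsMulCommutative P₁)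
    (hcard : Nat.card P₁ = p ^ 3) (hexp : Monoid.exponent P₁ = p) :
    ∃ x y c : G, Cfg p S x y c := by
  have hP₁S : P₁ ≤ S := hS ▸ le_sup_left
  obtain ⟨x, hx, y, hy, hxy⟩ : ∃ x ∈ P₁, ∃ y ∈ P₁, y * x ≠ x * y := by
    by_contra hno
    push Not at hno
    apply hna
    refine ⟨⟨fun a b => ?_⟩⟩
    apply Subtype.ext
    exact hno b.1 b.2 a.1 a.2
  have hpow : ∀ b ∈ P₁, b ^ p = 1 := by
    intro b hb
    have := Monoid.pow_exponent_eq_one (⟨b, hb⟩ : P₁)
    rw [hexp] at this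
    exact congrArg Subtype.val this
  obtain ⟨c, hc⟩ : ∃ c : G, c = y * x * y⁻¹ * x⁻¹ := ⟨_, rfl⟩
  have hcmem : c ∈ P₁ ⊓ Subgroup.centralizer (P₁ : Set G) := by
    rw [← Cfsg.Agent.Lib.Helper18.BGTenD.commutator_eq_inf_centralizer p P₁ hcard hna, hc,
      ← commutatorElement_def]
    exact Subgroup.commutator_mem_commutator hy hx
  refine ⟨x, y, c, hP₁S hx, hP₁S hy, hc, ?_, ?_, hpow x hx, hpow c hcmem.1, ?_⟩
  · intro h1
    apply hxy
    rw [hc, mul_inv_eq_one, mul_inv_eq_iff_eq_mul] at h1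
    exact h1
  · have hle : P₁ ⊔ P₂ ≤ Subgroup.centralizer ({c} : Set G) := by
      apply sup_le
      · intro a ha
        rw [Subgroup.mem_centralizer_iff]
        intro h hh
        rw [Set.mem_singleton_iff] at hh
        subst hh
        exact (Subgroup.mem_centralizer_iff.mp hcmem.2 a ha).symm
      · intro b hb
        rw [Subgroup.mem_centralizer_iff]
        intro h hh
        rw [Set.mem_singleton_iff] at hh
        subst hh
        exact hcomm h hcmem.1 b hb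
    rw [Subgroup.mem_centralizer_iff]
    intro s hs
    rw [← hS] at hs
    exact (Subgroup.mem_centralizer_iff.mp (hle hs) c rfl).symm
  · intro j
    exact hpow _ (P₁.mul_mem hy (P₁.pow_mem hx j))

/-- consequence of Theorem 12.4(a): the centralizer of a noncentral element of order `p` of `S`
together with `c` lies in `M` -/
theorem centralizer_pair_le {p : ℕ} [hp : Fact p.Prime] {M S : Subgroup G} {x y c : G}
    (h124a : ∀ A : Subgroup G, A ≤ M → Cfsg.IsElementaryAbelian p A → Nat.card A = p ^ 2 →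
      Subgroup.centralizer (A : Set G) ≤ M)
    (hSM : S ≤ M) (h : Cfg p S x y c) {b : G} (hbS : b ∈ S) (hbp : b ^ p = 1)
    (hb : b ∉ Subgroup.centralizer (S : Set G)) :
    Subgroup.centralizer ({b} : Set G) ⊓ Subgroup.centralizer ({c} : Set G) ≤ M := by
  have hbc : Commute b c := Subgroup.mem_centralizer_iff.mp h.hcZ b hbS
  have hbz : b ∉ Subgroup.zpowers c := fun hh => hb (h.zpowers_le hh)
  obtain ⟨hAe, hAc⟩ := elemAb_sup_zpowers hbc hbp h.hcp h.hc1 hbz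
  have hAS : Subgroup.zpowers b ⊔ Subgroup.zpowers c ≤ S :=
    sup_le (by rw [Subgroup.zpowers_le]; exact hbS) (by rw [Subgroup.zpowers_le]; exact h.c_mem)
  refine le_trans ?_ (h124a _ (hAS.trans hSM) hAe hAc)
  rintro g ⟨hgb, hgc⟩
  have hle : Subgroup.zpowers b ⊔ Subgroup.zpowers c ≤ Subgroup.centralizer ({g} : Set G) := by
    apply sup_le <;> rw [Subgroup.zpowers_le, Subgroup.mem_centralizer_iff] <;> intro t ht <;>
      rw [Set.mem_singleton_iff] at ht <;> subst ht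
    · exact (Subgroup.mem_centralizer_iff.mp hgb b rfl).symm
    · exact (Subgroup.mem_centralizer_iff.mp hgc c rfl).symm
  rw [Subgroup.mem_centralizer_iff]
  intro a ha
  exact (Subgroup.mem_centralizer_iff.mp (hle ha) g rfl).symm

/-- the normalizer of the centre `⟨c⟩` of the extraspecial part lies in `M` -/
theorem normalizer_zpowers_le (hG : Cfsg.IsMinSimpleOddOrder G) {p : ℕ} [hp : Fact p.Prime]
    {M S : Subgroup G} {x y c : G}
    (h124a : ∀ A : Subgroup G, A ≤ M → Cfsg.IsElementaryAbelian p A → Nat.card A = p ^ 2 →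
      Subgroup.centralizer (A : Set G) ≤ M)
    (hSM : S ≤ M) (hSyl : IsSylowIn p S ⊤) (hNS : Subgroup.normalizer (S : Set G) ≤ M)
    (h : Cfg p S x y c) :
    Subgroup.normalizer ((Subgroup.zpowers c : Subgroup G) : Set G) ≤ M := by
  haveI : IsSimpleGroup G := hG.2.1
  obtain ⟨N₀, hN₀⟩ : ∃ N₀ : Subgroup G,
    N₀ = Subgroup.normalizer ((Subgroup.zpowers c : Subgroup G) : Set G) := ⟨_, rfl⟩
  have hcc : Nat.card (Subgroup.zpowers c) = p := by
    rw [Nat.card_zpowers]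
    exact orderOf_eq_prime h.hcp h.hc1
  have hZp : IsPGroup p (Subgroup.zpowers c) := IsPGroup.of_card (n := 1) (by rw [hcc, pow_one])
  have hZ1 : Subgroup.zpowers c ≠ ⊥ := by
    rw [Ne, Subgroup.zpowers_eq_bot]
    exact h.hc1
  have hZtop : Subgroup.zpowers c ≠ ⊤ := pgroup_ne_top hG p _ hZp
  have hN₀top : N₀ ≠ ⊤ := hN₀ ▸ Cfsg.Agent.Lib.Helper11.normalizer_ne_top_of_simple hZ1 hZtop
  have hZN₀ : Subgroup.zpowers c ≤ N₀ := hN₀ ▸ Subgroup.le_normalizer
  have hSN₀ : S ≤ N₀ := by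
    rw [hN₀]
    refine le_trans ?_ (Subgroup.centralizer_le_normalizer _)
    rw [Subgroup.le_centralizer_iff]
    exact h.zpowers_le
  have hpl : Cfsg.PLengthLE p 1 ↥N₀ := Cfsg.Agent.S1410.result hG p N₀ hN₀top
  have hSylN : IsSylowIn p S N₀ := hSyl.of_le hSN₀ le_top
  obtain ⟨S', hS'⟩ := hSylN.exists_sylow
  obtain ⟨K, hKn, hKp, hKU⟩ := Cfsg.Agent.S1461.frattini_plength_one p hpl S'
  obtain ⟨K', hK'⟩ : ∃ K' : Subgroup G, K' = K.map N₀.subtype := ⟨_, rfl⟩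
  have hK'N₀ : K' ≤ N₀ := hK' ▸ Subgroup.map_subtype_le _
  have hcover : N₀ ≤ K' ⊔ Subgroup.normalizer (S : Set G) := by
    intro n hn
    have h1 : (⟨n, hn⟩ : N₀) ∈ K ⊔ Subgroup.normalizer ((S' : Subgroup N₀) : Set N₀) := by
      rw [hKU]
      trivial
    have h2 : n ∈ (K ⊔ Subgroup.normalizer ((S' : Subgroup N₀) : Set N₀)).map N₀.subtype :=
      ⟨_, h1, rfl⟩
    rw [Subgroup.map_sup] at h2
    refine (sup_le_sup (le_of_eq hK'.symm) ?_) h2
    rw [hS']
    exact Cfsg.Agent.Lib.Helper18.BGTenB.normalizer_subgroupOf_map_le hSN₀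
  rw [← hN₀]
  refine hcover.trans (sup_le ?_ hNS)
  -- it remains to prove `K' ≤ M`
  have hK'card : Nat.card K' = Nat.card K := by
    rw [hK']
    exact Subgroup.card_map_of_injective N₀.subtype_injective
  have hK'cop : (Nat.card K').Coprime p := hK'card ▸ hKp
  have hK'sub : K'.subgroupOf N₀ = K := by
    rw [hK']
    exact Subgroup.comap_map_eq_self_of_injective N₀.subtype_injective K
  have hK'norm : N₀ ≤ Subgroup.normalizer (K' : Set G) := by
    rw [← Subgroup.normal_subgroupOf_iff_le_normalizer hK'N₀, hK'sub]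
    exact hKn
  have hZn : ((Subgroup.zpowers c).subgroupOf N₀).Normal :=
    (Subgroup.normal_subgroupOf_iff_le_normalizer hZN₀).mpr (le_of_eq hN₀)
  have hdis : Disjoint K ((Subgroup.zpowers c).subgroupOf N₀) := by
    rw [disjoint_iff]
    apply Subgroup.inf_eq_bot_of_coprime
    rw [Cfsg.Agent.Lib.Helper5.card_subgroupOf_of_le hZN₀, hcc]
    exact hKp
  have hK'c : K' ≤ Subgroup.centralizer ({c} : Set G) := by
    intro k hk
    rw [hK'] at hk
    obtain ⟨k₀, hk₀, rfl⟩ := hk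
    have hc₀ : (⟨c, hZN₀ (Subgroup.mem_zpowers c)⟩ : N₀) ∈ (Subgroup.zpowers c).subgroupOf N₀ := by
      rw [Subgroup.mem_subgroupOf]
      exact Subgroup.mem_zpowers c
    have := Subgroup.commute_of_normal_of_disjoint K _ hKn hZn hdis k₀ _ hk₀ hc₀
    rw [Subgroup.mem_centralizer_iff]
    intro t ht
    rw [Set.mem_singleton_iff] at ht
    subst ht
    exact (congrArg Subtype.val this.eq).symm
  have hcK' : c ∈ Subgroup.centralizer (K' : Set G) := by
    rw [Subgroup.mem_centralizer_iff]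
    intro k hk
    exact (Subgroup.mem_centralizer_iff.mp (hK'c hk) c rfl).symm
  haveI : Group.IsSolvable N₀ := hG.2.2.2 N₀ hN₀top
  have hsol : Group.IsSolvable K' := Cfsg.Agent.Lib.Lead.solvable_of_le hK'N₀
  obtain ⟨n, hn⟩ := IsPGroup.iff_card.mp hSyl.isPGroup
  have hcop1 : (Nat.card S).Coprime (Nat.card K') := by
    rw [hn]
    exact Nat.Coprime.pow_left n hK'cop.symm
  refine core_solvable_mod S p x y h.hx h.hy K' (h.hc ▸ hcK') h.hxp h.hyp M (Nat.card K') K' rfl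
    le_rfl hsol (hSN₀.trans hK'norm) hcop1 hK'cop.symm ?_ ?_
  · intro j
    exact (le_inf inf_le_right (inf_le_left.trans hK'c)).trans
      (centralizer_pair_le h124a hSM h (h.yx_mem _) (h.hyxp _) (h.yx_not_central _))
  · exact (le_inf inf_le_right (inf_le_left.trans hK'c)).trans
      (centralizer_pair_le h124a hSM h h.hx h.hxp h.x_not_central)

/-- two maximal subgroups sharing a `p`-subgroup whose normalizer lies in one of them, with `p` in
the `σ`-set of that one, are not conjugate -/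
theorem not_conj (hG : Cfsg.IsMinSimpleOddOrder G) {p : ℕ} [hp : Fact p.Prime]
    {M M' S : Subgroup G} (hM : IsCoatom M) (hσ : p ∈ Cfsg.sigma M) (hSp : IsPGroup p S)
    (hS1 : S ≠ ⊥) (hSM : S ≤ M) (hSM' : S ≤ M') (hN : Subgroup.normalizer (S : Set G) ≤ M)
    (hne : M' ≠ M) : ∀ g : G, M' ≠ conjSub g M := by
  intro g hg
  have h1 : conjSub g⁻¹ S ≤ M := by
    rw [conjSub_le_iff, inv_inv, ← hg]
    exact hSM'
  obtain ⟨m, hm, c, hc, hgm⟩ := (sigma_fusion hG M hM p hσ S hSp hS1 hSM).1 g⁻¹ h1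
  have hcM : c ∈ M := hN (Subgroup.centralizer_le_normalizer _ hc)
  have hgM : g ∈ M := by
    have : g = (m * c)⁻¹ := by rw [← hgm, inv_inv]
    rw [this]
    exact M.inv_mem (M.mul_mem hm hcM)
  apply hne
  rw [hg]
  exact conjSub_eq_of_mem_normalizer (Subgroup.le_normalizer hgM)

/-- **B & G, Lemma 12.13** (uniqueness part), given Theorems 12.4, 12.5(b) and 12.10(c) -/
theorem eq_of_le_le (hG : Cfsg.IsMinSimpleOddOrder G)
    (h1416 : ∀ M : Subgroup G, IsCoatom M → ∀ (p : ℕ) [Fact p.Prime] (A : Subgroup G),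
      (A ≤ M ∧ Cfsg.IsElementaryAbelian p A ∧ Nat.card A = p ^ 2) →
      Subgroup.centralizer (A : Set G) ≤ M ∧
      ((∀ A₀ : Subgroup G, A₀ ≤ A → Nat.card A₀ = p →
          ¬ (Subgroup.normalizer (A₀ : Set G) ≤ M ∧ ∀ L : Subgroup G, IsCoatom L →
            Subgroup.normalizer (A₀ : Set G) ≤ L → L = M)) →
        p ∈ Cfsg.sigma M ∧ Cfsg.alphaCore M = ⊥ ∧ Group.IsNilpotent (Cfsg.sigmaCore M)))
    (h1417b : ∀ M : Subgroup G, IsCoatom M → ∀ (p : ℕ) [Fact p.Prime], p ∈ Cfsg.tau2 M →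
      ∀ A : Subgroup G, (A ≤ M ∧ Cfsg.IsElementaryAbelian p A ∧ Nat.card A = p ^ 2) →
      ∀ P : Sylow p M, IsMulCommutative (P : Subgroup M))
    (h1420c : ∀ M : Subgroup G, IsCoatom M → ∀ (p : ℕ) (P : Subgroup G), p ∈ Cfsg.sigma M →
      IsPGroup p P → P ≤ M → ¬ IsCyclic P → Subgroup.normalizer (P : Set G) ≤ M)
    (p : ℕ) [hp : Fact p.Prime] (P : Subgroup G) (hP : IsPGroup p P)
    (hPna : ¬ IsMulCommutative P) (M₁ M₂ : Subgroup G) (hM₁ : IsCoatom M₁) (hM₂ : IsCoatom M₂)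
    (hP₁ : P ≤ M₁) (hP₂ : P ≤ M₂) : M₁ = M₂ := by
  by_contra hne
  have hσ₁ := mem_sigma_of_nonabelian hG h1417b M₁ hM₁ p P hP hPna hP₁
  have hσ₂ := mem_sigma_of_nonabelian hG h1417b M₂ hM₂ p P hP hPna hP₂
  -- a Sylow subgroup `S` of `M₁ ⊓ M₂` containing `P`
  have hP' : IsPGroup p (P.subgroupOf (M₁ ⊓ M₂)) := hP.comap_subtype
  obtain ⟨S0, hS0⟩ := hP'.exists_le_sylow
  obtain ⟨S, hSdef⟩ : ∃ S : Subgroup G,
    S = (S0 : Subgroup ↥(M₁ ⊓ M₂)).map (M₁ ⊓ M₂).subtype := ⟨_, rfl⟩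
  have hS : IsSylowIn p S (M₁ ⊓ M₂) := hSdef ▸ isSylowIn_of_sylow S0
  have hPS : P ≤ S := by
    intro a ha
    rw [hSdef]
    exact ⟨⟨a, hP₁ ha, hP₂ ha⟩, hS0 (Subgroup.mem_subgroupOf.mpr ha), rfl⟩
  have hSM₁ : S ≤ M₁ := hS.le.trans inf_le_left
  have hSM₂ : S ≤ M₂ := hS.le.trans inf_le_right
  have hSp := hS.isPGroup
  have hSna : ¬ IsMulCommutative S := by
    intro hc
    apply hPna
    refine ⟨⟨fun a b => ?_⟩⟩
    have := hc.is_comm.comm ⟨a.1, hPS a.2⟩ ⟨b.1, hPS b.2⟩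
    apply Subtype.ext
    have h3 := congrArg (fun t : S => (t : G)) this
    exact h3
  have hSnc : ¬ IsCyclic S := fun h => hSna IsCyclic.isMulCommutative
  have hS1 : S ≠ ⊥ := by
    rintro rfl
    apply hSna
    refine ⟨⟨fun a b => ?_⟩⟩
    exact Subsingleton.elim _ _
  have hN₁ := h1420c M₁ hM₁ p S hσ₁ hSp hSM₁ hSnc
  have hN₂ := h1420c M₂ hM₂ p S hσ₂ hSp hSM₂ hSnc
  -- `S` is a Sylow subgroup of `G`
  have hSylM₁ : IsSylowIn p S M₁ := by
    apply sylow_of_normalizer p S M₁ hSM₁ hSp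
    intro y hyM hyN hyq
    by_contra hyS
    obtain ⟨h1, h2⟩ := sup_zpowers p S hSp y hyN hyS hyq
    have h3 : S ⊔ Subgroup.zpowers y ≤ M₁ ⊓ M₂ :=
      sup_le hS.le (by rw [Subgroup.zpowers_le]; exact ⟨hyM, hN₂ hyN⟩)
    have h4 := hS.eq_of_le h3 h1 le_sup_left
    exact h2.ne h4.symm
  have hgood := good_of_sigma M₁ p S hSylM₁ hN₁
  have hStop : IsSylowIn p S ⊤ := hgood.2.2
  -- the rank of `S` is at most two
  have hr : Cfsg.PRankLE p 2 S := by
    by_contra hr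
    have hStop' : S ≠ ⊤ := pgroup_ne_top hG p S hSp
    have hK2 : ¬ Cfsg.RankLE 1 S := fun h => hr (fun A hA hAp =>
      (h p hp.out A hA hAp).trans (Nat.pow_le_pow_right hp.out.pos (by norm_num)))
    have hu := Cfsg.Agent.S1403.result hG S hStop' hK2 (Or.inl (fun h => hr (h p hp.out)))
    exact hne (hu.unique ⟨hM₁, hSM₁⟩ ⟨hM₂, hSM₂⟩)
  -- `M₁` and `M₂` are not conjugate, hence neither `σ`-core is nilpotent
  have hnc₁ : ∀ g : G, M₂ ≠ conjSub g M₁ :=
    not_conj hG hM₁ hσ₁ hSp hS1 hSM₁ hSM₂ hN₁ (Ne.symm hne)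
  have hnc₂ : ∀ g : G, M₁ ≠ conjSub g M₂ := not_conj hG hM₂ hσ₂ hSp hS1 hSM₂ hSM₁ hN₂ hne
  have hnn₁ : ¬ Group.IsNilpotent (Cfsg.sigmaCore M₁) := by
    intro hnil
    obtain ⟨g, hg⟩ :=
      Cfsg.Agent.Lib.Helper1.BG12.conj_of_sigma_sigma_nilp hG M₁ M₂ hM₁ hM₂ hnil p hσ₁ hσ₂
    exact hnc₁ g hg
  have hnn₂ : ¬ Group.IsNilpotent (Cfsg.sigmaCore M₂) := by
    intro hnil
    obtain ⟨g, hg⟩ :=
      Cfsg.Agent.Lib.Helper1.BG12.conj_of_sigma_sigma_nilp hG M₂ M₁ hM₂ hM₁ hnil p hσ₂ hσ₁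
    exact hnc₂ g hg
  -- the structure of `S`
  have hidx : ¬ p ∣ S.index := by
    have := hStop.not_dvd
    rwa [Subgroup.relIndex_top_right] at this
  obtain ⟨S', hS'⟩ : ∃ S' : Sylow p G, (S' : Subgroup G) = S := ⟨hSp.toSylow hidx, rfl⟩
  rcases Cfsg.Agent.S1412.result hG p S' (hS' ▸ hr) with
    hab | ⟨P₁, P₂, hsup, hcomm, hna, hcard, hexp, -, -⟩
  · exact hSna (hS' ▸ hab)
  rw [hS'] at hsup
  obtain ⟨x, y, c, cfg⟩ := exists_cfg hsup hcomm hna hcard hexp
  have ha₁ : ∀ A : Subgroup G, A ≤ M₁ → Cfsg.IsElementaryAbelian p A → Nat.card A = p ^ 2 →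
      Subgroup.centralizer (A : Set G) ≤ M₁ := fun A h1 h2 h3 => (h1416 M₁ hM₁ p A ⟨h1, h2, h3⟩).1
  have ha₂ : ∀ A : Subgroup G, A ≤ M₂ → Cfsg.IsElementaryAbelian p A → Nat.card A = p ^ 2 →
      Subgroup.centralizer (A : Set G) ≤ M₂ := fun A h1 h2 h3 => (h1416 M₂ hM₂ p A ⟨h1, h2, h3⟩).1
  have hZ₁ := normalizer_zpowers_le hG ha₁ hSM₁ hStop hN₁ cfg
  have hZ₂ := normalizer_zpowers_le hG ha₂ hSM₂ hStop hN₂ cfg
  have hxz : x ∉ Subgroup.zpowers c := fun hh => cfg.x_not_central (cfg.zpowers_le hh)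
  obtain ⟨hAe, hAc⟩ := elemAb_sup_zpowers cfg.comm_cx.symm cfg.hxp cfg.hcp cfg.hc1 hxz
  have hAS : Subgroup.zpowers x ⊔ Subgroup.zpowers c ≤ S :=
    sup_le (by rw [Subgroup.zpowers_le]; exact cfg.hx) (by rw [Subgroup.zpowers_le]; exact cfg.c_mem)
  have hcc : Nat.card (Subgroup.zpowers c) = p := by
    rw [Nat.card_zpowers]
    exact orderOf_eq_prime cfg.hcp cfg.hc1
  have key : ∀ M M' : Subgroup G, IsCoatom M → S ≤ M → ¬ Group.IsNilpotent (Cfsg.sigmaCore M) →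
      M' ≠ M → IsCoatom M' →
      Subgroup.normalizer ((Subgroup.zpowers c : Subgroup G) : Set G) ≤ M' →
      ∃ k : ℕ, Subgroup.normalizer ((conjSub (y ^ k) (Subgroup.zpowers x) : Subgroup G) : Set G) ≤ M ∧
        ∀ L : Subgroup G, IsCoatom L →
          Subgroup.normalizer ((conjSub (y ^ k) (Subgroup.zpowers x) : Subgroup G) : Set G) ≤ L →
          L = M := by
    intro M M' hM hSM hnn hne' hM' hZM'
    have h2 := mt (h1416 M hM p _ ⟨hAS.trans hSM, hAe, hAc⟩).2 (fun h => hnn h.2.2)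
    push Not at h2
    obtain ⟨A₀, hA₀A, hA₀c, hA₀N, hA₀u⟩ := h2
    have hnz : ¬ A₀ ≤ Subgroup.zpowers c := by
      intro hle
      have : A₀ = Subgroup.zpowers c :=
        Subgroup.eq_of_le_of_card_ge hle (by rw [hA₀c, hcc])
      rw [this] at hA₀u
      exact hne' (hA₀u M' hM' hZM')
    obtain ⟨k, hk⟩ := exists_conj_zpowers cfg.hc cfg.comm_cx cfg.comm_cy cfg.hxp cfg.hcp hxz A₀
      hA₀A hA₀c hnz
    subst hk
    exact ⟨k, hA₀N, hA₀u⟩
  obtain ⟨k₁, hk₁N, -⟩ := key M₁ M₂ hM₁ hSM₁ hnn₁ (Ne.symm hne) hM₂ hZ₂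
  obtain ⟨k₂, -, hk₂u⟩ := key M₂ M₁ hM₂ hSM₂ hnn₂ hne hM₁ hZ₁
  apply hne
  apply hk₂u M₁ hM₁
  have e : conjSub (y ^ k₂) (Subgroup.zpowers x) =
      conjSub (y ^ k₂ * (y ^ k₁)⁻¹) (conjSub (y ^ k₁) (Subgroup.zpowers x)) := by
    rw [conjSub_mul, inv_mul_cancel_right]
  rw [e, Cfsg.Agent.Lib.Helper11.ExcA.normalizer_conjSub]
  have hs : y ^ k₂ * (y ^ k₁)⁻¹ ∈ M₁ :=
    hSM₁ (S.mul_mem (S.pow_mem cfg.hy _) (S.inv_mem (S.pow_mem cfg.hy _)))
  exact conjSub_le_of_mem hk₁N hs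

/-- **B & G, Lemma 12.13**, given Theorems 12.4, 12.5(b) and 12.10(c) -/
theorem twelve_thirteen (hG : Cfsg.IsMinSimpleOddOrder G)
    (h1416 : ∀ M : Subgroup G, IsCoatom M → ∀ (p : ℕ) [Fact p.Prime] (A : Subgroup G),
      (A ≤ M ∧ Cfsg.IsElementaryAbelian p A ∧ Nat.card A = p ^ 2) →
      Subgroup.centralizer (A : Set G) ≤ M ∧
      ((∀ A₀ : Subgroup G, A₀ ≤ A → Nat.card A₀ = p →
          ¬ (Subgroup.normalizer (A₀ : Set G) ≤ M ∧ ∀ L : Subgroup G, IsCoatom L →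
            Subgroup.normalizer (A₀ : Set G) ≤ L → L = M)) →
        p ∈ Cfsg.sigma M ∧ Cfsg.alphaCore M = ⊥ ∧ Group.IsNilpotent (Cfsg.sigmaCore M)))
    (h1417b : ∀ M : Subgroup G, IsCoatom M → ∀ (p : ℕ) [Fact p.Prime], p ∈ Cfsg.tau2 M →
      ∀ A : Subgroup G, (A ≤ M ∧ Cfsg.IsElementaryAbelian p A ∧ Nat.card A = p ^ 2) →
      ∀ P : Sylow p M, IsMulCommutative (P : Subgroup M))
    (h1420c : ∀ M : Subgroup G, IsCoatom M → ∀ (p : ℕ) (P : Subgroup G), p ∈ Cfsg.sigma M →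
      IsPGroup p P → P ≤ M → ¬ IsCyclic P → Subgroup.normalizer (P : Set G) ≤ M)
    (p : ℕ) [hp : Fact p.Prime] (P : Subgroup G) (hP : IsPGroup p P)
    (hPna : ¬ IsMulCommutative P) : Cfsg.InUniqueMaximal P := by
  obtain ⟨M, hM, hPM⟩ :=
    Cfsg.Agent.Lib.Helper11.BenderE.exists_coatom_ge P (pgroup_ne_top hG p P hP)
  refine ⟨M, ⟨hM, hPM⟩, ?_⟩
  rintro M' ⟨hM', hPM'⟩
  exact eq_of_le_le hG h1416 h1417b h1420c p P hP hPna M' M hM' hM hPM' hPM

end Cfsg.Agent.Lib.Helper18.BGTwelveC
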