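import Mathlib
import Cfsg.Prelude.Def_Transfer
import Cfsg.Agent.Lib.Helper5.Card
import Cfsg.Agent.Lib.Helper18.ChermakDelgado4

set_option autoImplicit false

open scoped Pointwise

namespace Cfsg.Agent.Lib.Helper18.E8C

variable {X : Type*} [Group X]

theorem card_sup_mul_card_inf {H K : Subgroup X} (hHK : H ≤ Subgroup.normalizer (K : Set X)) :
    Nat.card (H ⊔ K : Subgroup X) * Nat.card (H ⊓ K : Subgroup X) = Nat.card H * Nat.card K := by
  have h1 := Cfsg.Agent.Lib.Helper5.card_mul_set_mul_card_inf H K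
  have h2 : Nat.card (H ⊔ K : Subgroup X) = Nat.card ((H : Set X) * (K : Set X) : Set X) := by
    rw [← Subgroup.coe_mul_of_left_le_normalizer_right H K hHK]
    rfl
  rw [h2]
  exact h1

theorem zpowers_eq_of_sq {a : X} (ha : a ^ 2 = 1) {y : X} (hy : y ∈ Subgroup.zpowers a) :
    y = 1 ∨ y = a := by
  obtain ⟨k, rfl⟩ := Subgroup.mem_zpowers_iff.mp hy
  rcases Int.emod_two_eq_zero_or_one k with h | h
  · left
    have : k = 2 * (k / 2) := by omega
    rw [this, zpow_mul, zpow_ofNat, ha, one_zpow]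
  · right
    have : k = 2 * (k / 2) + 1 := by omega
    rw [this, zpow_add, zpow_mul, zpow_ofNat, ha, one_zpow, one_mul, zpow_one]

theorem card_sup_zpowers [Finite X] {B : Subgroup X} {a : X} (haB : a ∉ B) (ha : a ^ 2 = 1)
    (hc : a ∈ Subgroup.centralizer (B : Set X)) :
    Nat.card (B ⊔ Subgroup.zpowers a : Subgroup X) = 2 * Nat.card B := by
  have hn : Subgroup.zpowers a ≤ Subgroup.normalizer (B : Set X) := by
    rw [Subgroup.zpowers_le]
    exact Subgroup.centralizer_le_normalizer _ hc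
  have h1 := card_sup_mul_card_inf hn
  have h2 : Subgroup.zpowers a ⊓ B = ⊥ := by
    rw [eq_bot_iff]
    rintro y ⟨hy1, hy2⟩
    rcases zpowers_eq_of_sq ha hy1 with h | h
    · rw [h]; exact Subgroup.mem_bot.mpr rfl
    · rw [h] at hy2; exact absurd hy2 haB
  have h3 : Nat.card (Subgroup.zpowers a) = 2 := by
    rw [Nat.card_zpowers]
    apply orderOf_eq_prime ha
    intro h; apply haB; rw [h]; exact B.one_mem
  rw [h2, Subgroup.card_bot, mul_one, h3, sup_comm] at h1
  exact h1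

theorem ea_sup_zpowers {B : Subgroup X} (hB : Cfsg.IsElementaryAbelian 2 B) {a : X} (ha : a ^ 2 = 1)
    (hc : a ∈ Subgroup.centralizer (B : Set X)) :
    Cfsg.IsElementaryAbelian 2 (B ⊔ Subgroup.zpowers a) := by
  have hz : Subgroup.zpowers a ≤ Subgroup.centralizer (B : Set X) := by
    rw [Subgroup.zpowers_le]; exact hc
  have hK : IsMulCommutative ↥(B ⊔ Subgroup.zpowers a) :=
    isMulCommutative_sup_of_le_centralizer hB.1 (isMulCommutative_zpowers_h18 a) hz
  refine ⟨hK, ?_⟩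
  let T : Subgroup X :=
    { carrier := {x | x ∈ B ⊔ Subgroup.zpowers a ∧ x ^ 2 = 1}
      mul_mem' := by
        rintro x y ⟨hx, hx2⟩ ⟨hy, hy2⟩
        refine ⟨Subgroup.mul_mem _ hx hy, ?_⟩
        have hcomm : Commute x y := by
          have := hK.is_comm.comm ⟨x, hx⟩ ⟨y, hy⟩
          exact congrArg Subtype.val this
        rw [hcomm.mul_pow, hx2, hy2, one_mul]
      one_mem' := ⟨Subgroup.one_mem _, one_pow 2⟩
      inv_mem' := by
        rintro x ⟨hx, hx2⟩
        exact ⟨Subgroup.inv_mem _ hx, by rw [inv_pow, hx2, inv_one]⟩ }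
  have h1 : B ≤ T := fun x hx => ⟨(le_sup_left : B ≤ B ⊔ Subgroup.zpowers a) hx, hB.2 x hx⟩
  have h2 : Subgroup.zpowers a ≤ T := by
    rw [Subgroup.zpowers_le]
    exact ⟨(le_sup_right : Subgroup.zpowers a ≤ B ⊔ Subgroup.zpowers a) (Subgroup.mem_zpowers a), ha⟩
  intro x hx
  exact (sup_le h1 h2 hx).2

theorem ea_of_le {B C : Subgroup X} (hC : Cfsg.IsElementaryAbelian 2 C) (hBC : B ≤ C) :
    Cfsg.IsElementaryAbelian 2 B := by
  refine ⟨?_, fun x hx => hC.2 x (hBC hx)⟩
  rw [← Subgroup.le_centralizer_iff_isMulCommutative]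
  have h1 : C ≤ Subgroup.centralizer (C : Set X) := Subgroup.le_centralizer_iff_isMulCommutative.mpr hC.1
  exact fun x hx => Subgroup.centralizer_le hBC (h1 (hBC hx))


/-- The order of `C_E(B)`. -/
noncomputable def cE (E B : Subgroup X) : ℕ := Nat.card ↥(E ⊓ Subgroup.centralizer (B : Set X))

theorem mem_centralizer_sup_zpowers {B : Subgroup X} {a x : X} :
    x ∈ Subgroup.centralizer ((B ⊔ Subgroup.zpowers a : Subgroup X) : Set X) ↔
      x ∈ Subgroup.centralizer (B : Set X) ∧ a * x = x * a := by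
  rw [centralizer_sup_h18, Subgroup.mem_inf]
  constructor
  · rintro ⟨h1, h2⟩
    refine ⟨h1, ?_⟩
    rw [Subgroup.mem_centralizer_iff] at h2
    exact h2 a (Subgroup.mem_zpowers a)
  · rintro ⟨h1, h2⟩
    refine ⟨h1, ?_⟩
    rw [Subgroup.mem_centralizer_iff]
    intro y hy
    obtain ⟨k, rfl⟩ := Subgroup.mem_zpowers_iff.mp hy
    have : Commute a x := h2
    exact (this.zpow_left k).eq

/-- The fixed point bound for an involution acting on an elementary abelian `2`-group. -/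
theorem cE_le_sq [Finite X] {E : Subgroup X} [hEn : E.Normal] (hE : Cfsg.IsElementaryAbelian 2 E)
    (B : Subgroup X) {a : X} (ha : a ^ 2 = 1) (hc : a ∈ Subgroup.centralizer (B : Set X)) :
    cE E B ≤ cE E (B ⊔ Subgroup.zpowers a) ^ 2 := by
  unfold cE
  set F : Subgroup X := E ⊓ Subgroup.centralizer (B : Set X) with hF
  set F' : Subgroup X := E ⊓ Subgroup.centralizer ((B ⊔ Subgroup.zpowers a : Subgroup X) : Set X)
    with hF'
  have hF'F : F' ≤ F := by
    rintro x ⟨h1, h2⟩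
    exact ⟨h1, (mem_centralizer_sup_zpowers.mp h2).1⟩
  have hainv : a⁻¹ = a := by
    rw [inv_eq_iff_mul_eq_one, ← pow_two]; exact ha
  have hEcomm : ∀ x ∈ E, ∀ y ∈ E, x * y = y * x := by
    intro x hx y hy
    have := hE.1.is_comm.comm ⟨x, hx⟩ ⟨y, hy⟩
    exact congrArg Subtype.val this
  have hmem : ∀ x ∈ F, x * (a * x * a⁻¹) ∈ F := by
    rintro x ⟨hx1, hx2⟩
    refine ⟨E.mul_mem hx1 (hEn.conj_mem x hx1 a), ?_⟩
    exact Subgroup.mul_mem _ hx2 (Subgroup.mul_mem _ (Subgroup.mul_mem _ hc hx2) (Subgroup.inv_mem _ hc))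
  let ψ : ↥F →* ↥F :=
    { toFun := fun x => ⟨(x : X) * (a * x * a⁻¹), hmem x x.2⟩
      map_one' := by
        apply Subtype.ext
        simp
      map_mul' := by
        intro x y
        apply Subtype.ext
        have h1 : (y : X) * (a * x * a⁻¹) = (a * x * a⁻¹) * y :=
          hEcomm _ y.2.1 _ (hEn.conj_mem _ x.2.1 a)
        change (x : X) * y * (a * ((x : X) * y) * a⁻¹) = (x : X) * (a * x * a⁻¹) * ((y : X) * (a * y * a⁻¹))
        calc (x : X) * y * (a * ((x : X) * y) * a⁻¹)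
            = (x : X) * ((y : X) * (a * x * a⁻¹)) * (a * y * a⁻¹) := by group
          _ = (x : X) * ((a * x * a⁻¹) * y) * (a * y * a⁻¹) := by rw [h1]
          _ = (x : X) * (a * x * a⁻¹) * ((y : X) * (a * y * a⁻¹)) := by group }
  have hker : ψ.ker ≤ F'.subgroupOf F := by
    intro x hx
    rw [MonoidHom.mem_ker] at hx
    have h1 : (x : X) * (a * x * a⁻¹) = 1 := congrArg Subtype.val hx
    rw [Subgroup.mem_subgroupOf]
    refine ⟨x.2.1, mem_centralizer_sup_zpowers.mpr ⟨x.2.2, ?_⟩⟩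
    have hx2 : (x : X) ^ 2 = 1 := hE.2 _ x.2.1
    have hxinv : (x : X)⁻¹ = x := by
      rw [inv_eq_iff_mul_eq_one, ← pow_two]; exact hx2
    have h2 : a * x * a⁻¹ = (x : X)⁻¹ := (eq_inv_of_mul_eq_one_right h1)
    rw [hxinv] at h2
    calc a * (x : X) = (a * x * a⁻¹) * a := by group
      _ = x * a := by rw [h2]
  have hrange : ψ.range ≤ F'.subgroupOf F := by
    rintro y ⟨x, rfl⟩
    rw [Subgroup.mem_subgroupOf]
    refine ⟨(hmem x x.2).1, mem_centralizer_sup_zpowers.mpr ⟨(hmem x x.2).2, ?_⟩⟩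
    change a * ((x : X) * (a * x * a⁻¹)) = (x : X) * (a * x * a⁻¹) * a
    have h1 : (x : X) * (a * x * a⁻¹) = (a * x * a⁻¹) * x :=
      hEcomm _ x.2.1 _ (hEn.conj_mem _ x.2.1 a)
    have haa : a * a = 1 := by rw [← pow_two]; exact ha
    calc a * ((x : X) * (a * x * a⁻¹)) = (a * x * a⁻¹) * (a * a) * x * a⁻¹ := by group
      _ = (a * x * a⁻¹) * x * a := by rw [haa, mul_one, hainv]
      _ = (x : X) * (a * x * a⁻¹) * a := by rw [← h1]
  have hcard : Nat.card ↥(F'.subgroupOf F) = Nat.card ↥F' :=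
    Nat.card_congr (Subgroup.subgroupOfEquivOfLe hF'F).toEquiv
  have h1 : Nat.card ψ.ker * Nat.card ψ.range = Nat.card ↥F := by
    rw [← Subgroup.index_ker]; exact Subgroup.card_mul_index _
  have h2 := Subgroup.card_le_of_le hker
  have h3 := Subgroup.card_le_of_le hrange
  rw [hcard] at h2 h3
  rw [← h1, pow_two]
  exact Nat.mul_le_mul h2 h3


theorem le_centralizer_of_ea {V D : Subgroup X} (hV : Cfsg.IsElementaryAbelian 2 V) (hDV : D ≤ V) :
    V ≤ Subgroup.centralizer (D : Set X) := by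
  have h1 : V ≤ Subgroup.centralizer (V : Set X) := Subgroup.le_centralizer_iff_isMulCommutative.mpr hV.1
  exact fun x hx => Subgroup.centralizer_le hDV (h1 hx)

theorem chain [Finite X] {E : Subgroup X} [E.Normal] (hE : Cfsg.IsElementaryAbelian 2 E)
    {V : Subgroup X} (hV : Cfsg.IsElementaryAbelian 2 V) : ∀ n : ℕ, ∀ D : Subgroup X, D ≤ V →
    Nat.card V - Nat.card D = n → cE E D ^ Nat.card D ≤ cE E V ^ Nat.card V := by
  intro n
  induction n using Nat.strong_induction_on with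
  | _ n ih =>
  intro D hDV hn
  by_cases hD : D = V
  · rw [hD]
  · have hlt : D < V := lt_of_le_of_ne hDV hD
    obtain ⟨a, haV, haD⟩ := SetLike.exists_of_lt hlt
    have ha2 : a ^ 2 = 1 := hV.2 a haV
    have hac : a ∈ Subgroup.centralizer (D : Set X) := le_centralizer_of_ea hV hDV haV
    have hD'V : D ⊔ Subgroup.zpowers a ≤ V := sup_le hDV (by rw [Subgroup.zpowers_le]; exact haV)
    have hcard : Nat.card (D ⊔ Subgroup.zpowers a : Subgroup X) = 2 * Nat.card D :=
      card_sup_zpowers haD ha2 hac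
    have hDpos : 0 < Nat.card D := Nat.card_pos
    have hle : Nat.card (D ⊔ Subgroup.zpowers a : Subgroup X) ≤ Nat.card V :=
      Subgroup.card_le_of_le hD'V
    have h1 := ih (Nat.card V - Nat.card (D ⊔ Subgroup.zpowers a : Subgroup X)) (by omega)
      (D ⊔ Subgroup.zpowers a) hD'V rfl
    have h2 := cE_le_sq hE D ha2 hac
    calc cE E D ^ Nat.card D ≤ (cE E (D ⊔ Subgroup.zpowers a) ^ 2) ^ Nat.card D :=
          Nat.pow_le_pow_left h2 _
      _ = cE E (D ⊔ Subgroup.zpowers a) ^ Nat.card (D ⊔ Subgroup.zpowers a : Subgroup X) := by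
          rw [hcard, pow_mul]
      _ ≤ cE E V ^ Nat.card V := h1

theorem exists_ext [Finite X] {E : Subgroup X} [E.Normal] (hE : Cfsg.IsElementaryAbelian 2 E)
    (hE32 : 32 ≤ Nat.card E) {V : Subgroup X} (hV : Cfsg.IsElementaryAbelian 2 V)
    (hV8 : Nat.card V ≤ 8) : ∃ e ∈ E ⊓ Subgroup.centralizer (V : Set X), e ∉ V := by
  by_contra hcon
  push Not at hcon
  have hD : E ⊓ Subgroup.centralizer (V : Set X) = V ⊓ E := by
    apply le_antisymm
    · intro x hx
      exact ⟨hcon x hx, hx.1⟩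
    · rintro x ⟨hxV, hxE⟩
      exact ⟨hxE, le_centralizer_of_ea hV le_rfl hxV⟩
  have h1 : cE E V = Nat.card ↥(V ⊓ E) := by unfold cE; rw [hD]
  have h2 : cE E (V ⊓ E) = Nat.card E := by
    unfold cE
    have : E ⊓ Subgroup.centralizer ((V ⊓ E : Subgroup X) : Set X) = E := by
      rw [inf_eq_left]
      exact le_centralizer_of_ea hE inf_le_right
    rw [this]
  have h3 := chain hE hV _ (V ⊓ E) inf_le_left rfl
  rw [h1, h2] at h3
  have hDle : Nat.card ↥(V ⊓ E) ≤ Nat.card V := Subgroup.card_le_of_le inf_le_left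
  have hDpos : 0 < Nat.card ↥(V ⊓ E) := Nat.card_pos
  set d := Nat.card ↥(V ⊓ E) with hd
  have h4 : 32 ^ d ≤ d ^ 8 := by
    calc 32 ^ d ≤ Nat.card E ^ d := Nat.pow_le_pow_left hE32 _
      _ ≤ d ^ Nat.card V := h3
      _ ≤ d ^ 8 := Nat.pow_le_pow_right hDpos hV8
  have hd8 : d ≤ 8 := le_trans hDle hV8
  interval_cases d <;> norm_num at h4


theorem rtg_symm {α : Type*} {r : α → α → Prop} (hs : ∀ a b, r a b → r b a) {a b : α}
    (h : Relation.ReflTransGen r a b) : Relation.ReflTransGen r b a := by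
  induction h with
  | refl => exact Relation.ReflTransGen.refl
  | tail _ hbc ih => exact Relation.ReflTransGen.head (hs _ _ hbc) ih

/-- Part (b): every four-group lies in an elementary abelian subgroup of order 8. -/
theorem exists_e8_over [Finite X] {E : Subgroup X} [E.Normal] (hE : Cfsg.IsElementaryAbelian 2 E)
    (hE32 : 32 ≤ Nat.card E) {V : Subgroup X} (hV : Cfsg.IsElementaryAbelian 2 V)
    (hV4 : Nat.card V = 4) :
    ∃ A : Subgroup X, V ≤ A ∧ Cfsg.IsElementaryAbelian 2 A ∧ Nat.card ↥A = 8 := by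
  obtain ⟨e, he, heV⟩ := exists_ext hE hE32 hV (by omega)
  have he2 : e ^ 2 = 1 := hE.2 e he.1
  refine ⟨V ⊔ Subgroup.zpowers e, le_sup_left, ea_sup_zpowers hV he2 he.2, ?_⟩
  rw [card_sup_zpowers heV he2 he.2, hV4]

theorem exists_mid [Finite X] (hX : IsPGroup 2 X) {A D : Subgroup X} (hA8 : Nat.card A = 8)
    (hDA : D ≤ A) (hne : D ≠ A) : ∃ M : Subgroup X, D ≤ M ∧ M ≤ A ∧ Nat.card M = 4 := by
  obtain ⟨n, hn⟩ := (hX.to_subgroup D).exists_card_eq
  have hlt : Nat.card D < Nat.card A := by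
    refine lt_of_le_of_ne (Subgroup.card_le_of_le hDA) ?_
    intro h
    exact hne (Subgroup.eq_of_le_of_card_ge hDA (le_of_eq h.symm))
  have hn2 : n ≤ 2 := by
    by_contra hcon
    have h3 : 3 ≤ n := by omega
    have : 2 ^ 3 ≤ 2 ^ n := Nat.pow_le_pow_right (by norm_num) h3
    omega
  have hcardH : Nat.card ↥(D.subgroupOf A) = 2 ^ n := by
    rw [← hn]
    exact Nat.card_congr (Subgroup.subgroupOfEquivOfLe hDA).toEquiv
  have hdvd : 2 ^ 2 ∣ Nat.card ↥A := by rw [hA8]; norm_num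
  obtain ⟨K, hK4, hHK⟩ := Sylow.exists_subgroup_card_pow_prime_le 2 hdvd (D.subgroupOf A) hcardH hn2
  refine ⟨K.map A.subtype, ?_, Subgroup.map_subtype_le _, ?_⟩
  · intro x hx
    refine ⟨⟨x, hDA hx⟩, hHK ?_, rfl⟩
    rw [Subgroup.mem_subgroupOf]
    exact hx
  · rw [Subgroup.card_map_of_injective A.subtype_injective, hK4]
    norm_num

/-- The commuting relation on elementary abelian subgroups of order 8. -/
abbrev Rel : Subgroup X → Subgroup X → Prop := fun C D =>
  Cfsg.IsElementaryAbelian 2 C ∧ Nat.card ↥C = 8 ∧ Cfsg.IsElementaryAbelian 2 D ∧ Nat.card ↥D = 8 ∧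
    ⁅C, D⁆ = ⊥

theorem to_E0 [Finite X] (hX : IsPGroup 2 X) {E : Subgroup X} [E.Normal]
    (hE : Cfsg.IsElementaryAbelian 2 E) (hE32 : 32 ≤ Nat.card E) {E₀ : Subgroup X} (hE₀E : E₀ ≤ E)
    (hE₀8 : Nat.card E₀ = 8) : ∀ n : ℕ, ∀ A : Subgroup X, Cfsg.IsElementaryAbelian 2 A →
    Nat.card A = 8 → 8 - Nat.card ↥(A ⊓ E) = n → Relation.ReflTransGen Rel A E₀ := by
  have hE₀ : Cfsg.IsElementaryAbelian 2 E₀ := ea_of_le hE hE₀E
  intro n
  induction n using Nat.strong_induction_on with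
  | _ n ih =>
  intro A hA hA8 hn
  by_cases hAE : A ≤ E
  · apply Relation.ReflTransGen.single
    refine ⟨hA, hA8, hE₀, hE₀8, ?_⟩
    rw [Subgroup.commutator_eq_bot_iff_le_centralizer]
    exact le_trans hAE (le_centralizer_of_ea hE hE₀E)
  · obtain ⟨e, he, heA⟩ := exists_ext hE hE32 hA (by omega)
    have he2 : e ^ 2 = 1 := hE.2 e he.1
    have hDne : A ⊓ E ≠ A := by
      intro h
      exact hAE (inf_eq_left.mp h)
    obtain ⟨M, hDM, hMA, hM4⟩ := exists_mid hX hA8 inf_le_left hDne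
    have hM : Cfsg.IsElementaryAbelian 2 M := ea_of_le hA hMA
    have heM : e ∈ Subgroup.centralizer (M : Set X) := Subgroup.centralizer_le hMA he.2
    have heM' : e ∉ M := fun h => heA (hMA h)
    have hA' : Cfsg.IsElementaryAbelian 2 (M ⊔ Subgroup.zpowers e) := ea_sup_zpowers hM he2 heM
    have hA'8 : Nat.card ↥(M ⊔ Subgroup.zpowers e) = 8 := by
      rw [card_sup_zpowers heM' he2 heM, hM4]
    have hrel : Rel A (M ⊔ Subgroup.zpowers e) := by
      refine ⟨hA, hA8, hA', hA'8, ?_⟩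
      rw [Subgroup.commutator_eq_bot_iff_le_centralizer]
      intro x hx
      rw [mem_centralizer_sup_zpowers]
      refine ⟨le_centralizer_of_ea hA hMA hx, ?_⟩
      have hec : e ∈ Subgroup.centralizer (A : Set X) := he.2
      rw [Subgroup.mem_centralizer_iff] at hec
      exact (hec x hx).symm
    have heD : e ∉ A ⊓ E := fun h => heA h.1
    have heDc : e ∈ Subgroup.centralizer ((A ⊓ E : Subgroup X) : Set X) :=
      Subgroup.centralizer_le inf_le_left he.2
    have hcardD : Nat.card ↥((A ⊓ E) ⊔ Subgroup.zpowers e) = 2 * Nat.card ↥(A ⊓ E) :=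
      card_sup_zpowers heD he2 heDc
    have hle : (A ⊓ E) ⊔ Subgroup.zpowers e ≤ (M ⊔ Subgroup.zpowers e) ⊓ E := by
      apply sup_le
      · exact le_inf (le_trans hDM le_sup_left) inf_le_right
      · rw [Subgroup.zpowers_le]
        exact ⟨(le_sup_right : Subgroup.zpowers e ≤ M ⊔ Subgroup.zpowers e) (Subgroup.mem_zpowers e),
          he.1⟩
    have h1 := Subgroup.card_le_of_le hle
    have h2 : Nat.card ↥((M ⊔ Subgroup.zpowers e) ⊓ E) ≤ 8 := by
      rw [← hA'8]; exact Subgroup.card_le_of_le inf_le_left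
    have hDpos : 0 < Nat.card ↥(A ⊓ E) := Nat.card_pos
    have hDlt : Nat.card ↥(A ⊓ E) < 8 := by
      rw [← hA8]
      refine lt_of_le_of_ne (Subgroup.card_le_of_le inf_le_left) ?_
      intro h
      exact hDne (Subgroup.eq_of_le_of_card_ge inf_le_left (le_of_eq h.symm))
    have h3 := ih (8 - Nat.card ↥((M ⊔ Subgroup.zpowers e) ⊓ E)) (by omega) _ hA' hA'8 rfl
    exact Relation.ReflTransGen.head hrel h3

/-- Part (a): any two elementary abelian subgroups of order 8 are connected. -/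
theorem connected [Finite X] (hX : IsPGroup 2 X) {E : Subgroup X} [E.Normal]
    (hE : Cfsg.IsElementaryAbelian 2 E) (hE32 : 32 ≤ Nat.card E) {A B : Subgroup X}
    (hA : Cfsg.IsElementaryAbelian 2 A) (hA8 : Nat.card A = 8)
    (hB : Cfsg.IsElementaryAbelian 2 B) (hB8 : Nat.card B = 8) : Relation.ReflTransGen Rel A B := by
  obtain ⟨E₀, hE₀E, hE₀8⟩ := Sylow.exists_subgroup_le_card_pow_prime_of_le_card (n := 3) Nat.prime_two hX
    (H := E) (by omega)
  have h1 := to_E0 hX hE hE32 hE₀E (by rw [hE₀8]; norm_num) _ A hA hA8 rfl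
  have h2 := to_E0 hX hE hE32 hE₀E (by rw [hE₀8]; norm_num) _ B hB hB8 rfl
  refine h1.trans (rtg_symm ?_ h2)
  rintro C D ⟨h1, h2, h3, h4, h5⟩
  refine ⟨h3, h4, h1, h2, ?_⟩
  rw [Subgroup.commutator_comm]; exact h5

end Cfsg.Agent.Lib.Helper18.E8C
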