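import Mathlib
import Cfsg.Agent.Lib.Helper1.Nilp
import Cfsg.Agent.Lib.Helper18.E8Connected
import Cfsg.Agent.Lib.Helper18.SylowBasic
import Cfsg.Agent.S0111

set_option autoImplicit false

namespace Cfsg.Agent.Lib.Helper18.NormalFour

variable {X : Type*} [Group X]

theorem half_card (E T : Subgroup X) [Finite E]
    (hprod : ∀ g ∈ E, ∀ h ∈ E, g ∉ T → h ∉ T → g * h ∈ T) :
    Nat.card E ≤ 2 * Nat.card ↥(E ⊓ T) := by
  by_cases hET : E ≤ T
  · have : E ⊓ T = E := inf_eq_left.mpr hET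
    rw [this]; omega
  · obtain ⟨e₀, he₀E, he₀T⟩ := SetLike.not_le_iff_exists.mp hET
    have hidx : ((E ⊓ T).subgroupOf E).index = 2 := by
      rw [Subgroup.index_eq_two_iff]
      refine ⟨⟨e₀, he₀E⟩, ?_⟩
      intro b
      by_cases hb : (b : X) ∈ T
      · right
        refine ⟨?_, ?_⟩
        · rw [Subgroup.mem_subgroupOf]; exact ⟨b.2, hb⟩
        · rw [Subgroup.mem_subgroupOf]
          intro h
          have h1 : (b : X) * e₀ ∈ T := h.2
          apply he₀T
          have : e₀ = (b : X)⁻¹ * ((b : X) * e₀) := by group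
          rw [this]; exact T.mul_mem (T.inv_mem hb) h1
      · left
        refine ⟨?_, ?_⟩
        · rw [Subgroup.mem_subgroupOf]
          exact ⟨E.mul_mem b.2 he₀E, hprod _ b.2 _ he₀E hb he₀T⟩
        · rw [Subgroup.mem_subgroupOf]
          intro h; exact hb h.2
    have h1 := Subgroup.card_mul_index ((E ⊓ T).subgroupOf E)
    rw [hidx, Nat.card_congr (Subgroup.subgroupOfEquivOfLe (inf_le_left : E ⊓ T ≤ E)).toEquiv] at h1
    omega

theorem swap_prod {z w : X} (hz : ∀ g : X, g * z = z * g) (hz2 : z * z = 1)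
    (hconj : ∀ g : X, g * w * g⁻¹ = w ∨ g * w * g⁻¹ = z * w) {g h : X}
    (hg : g * w ≠ w * g) (hh : h * w ≠ w * h) : (g * h) * w = w * (g * h) := by
  have h1 : g * w * g⁻¹ = z * w := by
    rcases hconj g with h | h
    · exfalso; apply hg
      calc g * w = (g * w * g⁻¹) * g := by group
        _ = w * g := by rw [h]
    · exact h
  have h2 : h * w * h⁻¹ = z * w := by
    rcases hconj h with h' | h'
    · exfalso; apply hh
      calc h * w = (h * w * h⁻¹) * h := by group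
        _ = w * h := by rw [h']
    · exact h'
  have h3 : (g * h) * w * (g * h)⁻¹ = w := by
    calc (g * h) * w * (g * h)⁻¹ = g * (h * w * h⁻¹) * g⁻¹ := by group
      _ = g * (z * w) * g⁻¹ := by rw [h2]
      _ = (g * z) * w * g⁻¹ := by group
      _ = (z * g) * w * g⁻¹ := by rw [hz g]
      _ = z * (g * w * g⁻¹) := by group
      _ = z * (z * w) := by rw [h1]
      _ = (z * z) * w := by group
      _ = w := by rw [hz2, one_mul]
  calc (g * h) * w = ((g * h) * w * (g * h)⁻¹) * (g * h) := by group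
    _ = w * (g * h) := by rw [h3]

theorem comm_of_sq {a b : X} (ha : a * a = 1) (hb : b * b = 1) (hab : (a * b) * (a * b) = 1) :
    a * b = b * a := by
  have h1 : a⁻¹ = a := inv_eq_of_mul_eq_one_left ha
  have h2 : b⁻¹ = b := inv_eq_of_mul_eq_one_left hb
  have h3 : (a * b)⁻¹ = a * b := inv_eq_of_mul_eq_one_left hab
  rw [← h3, mul_inv_rev, h1, h2]

theorem exists_not_pair (E : Subgroup X) [Finite E] (hE : 3 ≤ Nat.card E) (z : X) :
    ∃ e ∈ E, e ≠ 1 ∧ e ≠ z := by
  by_contra hcon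
  push Not at hcon
  have hsub : (E : Set X) ⊆ {1, z} := by
    intro e he
    by_cases h : e = 1
    · left; exact h
    · right; exact hcon e he h
  have h1 : Nat.card E = (E : Set X).ncard := (Nat.card_coe_set_eq (E : Set X))
  have h2 : (E : Set X).ncard ≤ ({1, z} : Set X).ncard :=
    Set.ncard_le_ncard hsub (Set.toFinite _)
  have h3 : ({1, z} : Set X).ncard ≤ 2 := by
    calc ({1, z} : Set X).ncard ≤ ({z} : Set X).ncard + 1 := Set.ncard_insert_le _ _
      _ = 2 := by rw [Set.ncard_singleton]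
  omega

theorem zpowers_normal_of_central {z : X} (hz : ∀ g : X, g * z = z * g) :
    (Subgroup.zpowers z).Normal := by
  constructor
  intro n hn g
  obtain ⟨k, rfl⟩ := hn
  have hc : Commute g z := hz g
  have : g * z ^ k * g⁻¹ = z ^ k := by
    rw [(hc.zpow_right k).eq]; group
  rw [this]
  exact Subgroup.zpow_mem_zpowers z k

theorem four_of_omega [Finite X] (hX : IsPGroup 2 X) (Ω : Subgroup X) [hΩn : Ω.Normal]
    (hΩ2 : ∀ a ∈ Ω, a * a = 1) (a b : X) (ha : a ∈ Ω) (hb : b ∈ Ω) (ha1 : a ≠ 1) (hb1 : b ≠ 1)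
    (hab : a ≠ b) :
    ∃ z w : X, (∀ g : X, g * z = z * g) ∧ z ≠ 1 ∧ z * z = 1 ∧ w * w = 1 ∧ w ≠ 1 ∧ w ≠ z ∧
      ∀ g : X, g * w * g⁻¹ = w ∨ g * w * g⁻¹ = z * w := by
  have : Fact (Nat.Prime 2) := ⟨Nat.prime_two⟩
  have hnil : Group.IsNilpotent X := hX.isNilpotent
  have hΩne : Ω ≠ ⊥ := by
    intro h; rw [h, Subgroup.mem_bot] at ha; exact ha1 ha
  have h1 := Cfsg.Agent.Lib.Helper1.normal_inf_center_ne_bot Ω hΩne
  obtain ⟨⟨z, hzΩ, hzc⟩, hz1⟩ := (Subgroup.ne_bot_iff_exists_ne_one).mp h1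
  have hz1' : z ≠ 1 := fun h => hz1 (Subtype.ext h)
  have hzcent : ∀ g : X, g * z = z * g := fun g => Subgroup.mem_center_iff.mp hzc g
  have hz2 : z * z = 1 := hΩ2 z hzΩ
  have hz2' : z ^ 2 = 1 := by rw [pow_two]; exact hz2
  have hZn : (Subgroup.zpowers z).Normal := zpowers_normal_of_central hzcent
  obtain ⟨π, hπd⟩ : ∃ π, π = QuotientGroup.mk' (Subgroup.zpowers z) := ⟨_, rfl⟩
  have hπ : Function.Surjective π := by rw [hπd]; exact QuotientGroup.mk'_surjective _
  have hπ1 : ∀ x, π x = 1 ↔ x ∈ Subgroup.zpowers z := by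
    intro x; rw [hπd]; exact QuotientGroup.eq_one_iff x
  have hΩbn : (Ω.map π).Normal := Subgroup.Normal.map hΩn π hπ
  have hΩbne : Ω.map π ≠ ⊥ := by
    intro hbot
    have hmem : ∀ c ∈ Ω, c = 1 ∨ c = z := by
      intro c hc
      have : π c ∈ Ω.map π := Subgroup.mem_map_of_mem π hc
      rw [hbot, Subgroup.mem_bot, hπ1] at this
      exact Cfsg.Agent.Lib.Helper18.E8C.zpowers_eq_of_sq hz2' this
    rcases hmem a ha with h | h
    · exact ha1 h
    · rcases hmem b hb with h' | h'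
      · exact hb1 h'
      · exact hab (h.trans h'.symm)
  have h2 := Cfsg.Agent.Lib.Helper1.normal_inf_center_ne_bot (Ω.map π) hΩbne
  obtain ⟨⟨q, hqΩ, hqc⟩, hq1⟩ := (Subgroup.ne_bot_iff_exists_ne_one).mp h2
  have hq1' : q ≠ 1 := fun h => hq1 (Subtype.ext h)
  obtain ⟨w, hwΩ, rfl⟩ := hqΩ
  have hwZ : w ∉ Subgroup.zpowers z := fun h => hq1' ((hπ1 w).mpr h)
  refine ⟨z, w, hzcent, hz1', hz2, hΩ2 w hwΩ, ?_, ?_, ?_⟩
  · intro h; apply hwZ; rw [h]; exact Subgroup.one_mem _
  · intro h; apply hwZ; rw [h]; exact Subgroup.mem_zpowers z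
  · intro g
    have h3 : π (g * w * g⁻¹) = π w := by
      rw [map_mul, map_mul, map_inv]
      have := Subgroup.mem_center_iff.mp hqc (π g)
      rw [this]; group
    have h4 : w⁻¹ * (g * w * g⁻¹) ∈ Subgroup.zpowers z := by
      rw [← hπ1, map_mul, map_inv, h3, inv_mul_cancel]
    rcases Cfsg.Agent.Lib.Helper18.E8C.zpowers_eq_of_sq hz2' h4 with h | h
    · left
      have : g * w * g⁻¹ = w * (w⁻¹ * (g * w * g⁻¹)) := by group
      rw [this, h, mul_one]
    · right
      have : g * w * g⁻¹ = w * (w⁻¹ * (g * w * g⁻¹)) := by group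
      rw [this, h]
      exact hzcent w

section B2

theorem exists_order_four [Finite X] (hX : IsPGroup 2 X) (a : X) (ha : a * a ≠ 1) :
    ∃ j : ℕ, (a ^ j) * (a ^ j) ≠ 1 ∧ ((a ^ j) * (a ^ j)) * ((a ^ j) * (a ^ j)) = 1 := by
  have : Fact (Nat.Prime 2) := ⟨Nat.prime_two⟩
  obtain ⟨k, hk⟩ := (IsPGroup.iff_orderOf.mp hX) a
  have hk2 : 2 ≤ k := by
    by_contra hcon
    push Not at hcon
    interval_cases k
    · rw [pow_zero, orderOf_eq_one_iff] at hk
      apply ha; rw [hk, one_mul]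
    · rw [pow_one] at hk
      apply ha
      have := pow_orderOf_eq_one a
      rw [hk, pow_two] at this
      exact this
  obtain ⟨m, rfl⟩ : ∃ m, k = m + 2 := ⟨k - 2, by omega⟩
  refine ⟨2 ^ m, ?_, ?_⟩
  · rw [← pow_add]
    intro h
    have h1 : orderOf a ∣ 2 ^ m + 2 ^ m := orderOf_dvd_of_pow_eq_one h
    have h2 : 2 ^ m + 2 ^ m = 2 ^ (m + 1) := by ring
    rw [hk, h2, Nat.pow_dvd_pow_iff_le_right (by norm_num)] at h1
    omega
  · rw [← pow_add, ← pow_add]
    have h2 : 2 ^ m + 2 ^ m + (2 ^ m + 2 ^ m) = 2 ^ (m + 2) := by ring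
    rw [h2, ← hk]
    exact pow_orderOf_eq_one a

variable (A : Subgroup X) (hAc : ∀ a ∈ A, ∀ b ∈ A, a * b = b * a)

/-- the squares of elements of an abelian subgroup -/
def sqSub : Subgroup X where
  carrier := {x | ∃ a ∈ A, a * a = x}
  mul_mem' := by
    rintro x y ⟨a, ha, rfl⟩ ⟨b, hb, rfl⟩
    refine ⟨a * b, A.mul_mem ha hb, ?_⟩
    have h := hAc b hb a ha
    calc a * b * (a * b) = a * (b * a) * b := by group
      _ = a * (a * b) * b := by rw [h]
      _ = a * a * (b * b) := by group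
  one_mem' := ⟨1, A.one_mem, by simp⟩
  inv_mem' := by
    rintro x ⟨a, ha, rfl⟩
    exact ⟨a⁻¹, A.inv_mem ha, by group⟩

theorem sqSub_le : sqSub A hAc ≤ A := by
  rintro x ⟨a, ha, rfl⟩
  exact A.mul_mem ha ha

theorem card_le_two_mul_sqSub [Finite X] (z : X)
    (huniq : ∀ a ∈ A, a * a = 1 → a = 1 ∨ a = z) :
    Nat.card A ≤ 2 * Nat.card (sqSub A hAc) := by
  let sq : A →* sqSub A hAc := MonoidHom.mk' (fun a => ⟨(a : X) * a, a, a.2, rfl⟩) (by
    intro a b
    apply Subtype.ext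
    show ((a * b : A) : X) * ((a * b : A) : X) = (a : X) * a * ((b : X) * b)
    have h := hAc b b.2 a a.2
    calc ((a * b : A) : X) * ((a * b : A) : X) = (a : X) * ((b : X) * a) * b := by
          rw [Subgroup.coe_mul]; group
      _ = (a : X) * ((a : X) * b) * b := by rw [h]
      _ = (a : X) * a * ((b : X) * b) := by group)
  have hker : Nat.card sq.ker ≤ 2 := by
    by_contra hcon
    push Not at hcon
    by_cases hzA : z ∈ A
    · obtain ⟨e, he, he1, hez⟩ := exists_not_pair sq.ker (by omega) (⟨z, hzA⟩ : A)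
      have h1 : (e : X) * e = 1 := by
        have := MonoidHom.mem_ker.mp he
        have h2 := congrArg (fun y : sqSub A hAc => (y : X)) this
        exact h2
      rcases huniq e e.2 h1 with h | h
      · exact he1 (Subtype.ext h)
      · exact hez (Subtype.ext h)
    · obtain ⟨e, he, he1, _⟩ := exists_not_pair sq.ker (by omega) (1 : A)
      have h1 : (e : X) * e = 1 := by
        have := MonoidHom.mem_ker.mp he
        have h2 := congrArg (fun y : sqSub A hAc => (y : X)) this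
        exact h2
      rcases huniq e e.2 h1 with h | h
      · exact he1 (Subtype.ext h)
      · apply hzA; rw [← h]; exact e.2
  have h1 := Subgroup.card_mul_index sq.ker
  rw [Subgroup.index_ker] at h1
  have h2 : Nat.card sq.range ≤ Nat.card (sqSub A hAc) := Subgroup.card_le_card_group _
  calc Nat.card A = Nat.card sq.ker * Nat.card sq.range := h1.symm
    _ ≤ 2 * Nat.card (sqSub A hAc) := Nat.mul_le_mul hker h2

variable [hAn : A.Normal] (z c₂ : X) (hzc : ∀ g : X, g * z = z * g) (hz2 : z * z = 1)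
  (hc₂A : c₂ ∈ A) (hc₂ : c₂ * c₂ = z) (huniq : ∀ a ∈ A, a * a = 1 → a = 1 ∨ a = z)

omit hAn in
include hAc hc₂A hc₂ huniq in
theorem sq_eq_cases : ∀ a ∈ A, a * a = z → a = c₂ ∨ a = z * c₂ := by
  intro a ha haz
  have hd : a * c₂⁻¹ ∈ A := A.mul_mem ha (A.inv_mem hc₂A)
  have hdd : (a * c₂⁻¹) * (a * c₂⁻¹) = 1 := by
    have h := hAc _ (A.inv_mem hc₂A) a ha
    calc (a * c₂⁻¹) * (a * c₂⁻¹) = a * (c₂⁻¹ * a) * c₂⁻¹ := by group
      _ = a * (a * c₂⁻¹) * c₂⁻¹ := by rw [h]
      _ = (a * a) * (c₂ * c₂)⁻¹ := by group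
      _ = 1 := by rw [haz, hc₂, mul_inv_cancel]
  rcases huniq _ hd hdd with h | h
  · left
    exact mul_inv_eq_one.mp h
  · right
    exact mul_inv_eq_iff_eq_mul.mp h

include hAc hAn hzc hz2 hc₂A hc₂ huniq in
theorem conj_c2 (g : X) : g * c₂ * g⁻¹ = c₂ ∨ g * c₂ * g⁻¹ = z * c₂ := by
  apply sq_eq_cases A hAc z c₂ hc₂A hc₂ huniq _ (hAn.conj_mem c₂ hc₂A g)
  calc g * c₂ * g⁻¹ * (g * c₂ * g⁻¹) = g * (c₂ * c₂) * g⁻¹ := by group
    _ = (g * z) * g⁻¹ := by rw [hc₂]
    _ = z := by rw [hzc g]; group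

include hAc hzc hz2 hc₂A hc₂ huniq in
theorem inv_cases [Finite X] (hX : IsPGroup 2 X) (v : X) (hv : v * c₂ = c₂ * v) :
    ∀ a ∈ A, v * a * v⁻¹ = a⁻¹ → a = 1 ∨ a = z := by
  intro a ha hinv
  by_contra hcon
  push Not at hcon
  have haa : a * a ≠ 1 := by
    intro h
    rcases huniq a ha h with h' | h'
    · exact hcon.1 h'
    · exact hcon.2 h'
  obtain ⟨j, hj1, hj2⟩ := exists_order_four hX a haa
  obtain ⟨a', ha'⟩ : ∃ a', a' = a ^ j := ⟨_, rfl⟩
  rw [← ha'] at hj1 hj2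
  have ha'A : a' ∈ A := by rw [ha']; exact A.pow_mem ha j
  have hinv' : v * a' * v⁻¹ = a'⁻¹ := by
    rw [ha', ← conj_pow, hinv, inv_pow]
  have hz' : a' * a' = z := by
    rcases huniq _ (A.mul_mem ha'A ha'A) hj2 with h | h
    · exact absurd h hj1
    · exact h
  have hfix : v * a' * v⁻¹ = a' := by
    rcases sq_eq_cases A hAc z c₂ hc₂A hc₂ huniq a' ha'A hz' with h | h
    · rw [h, hv]; group
    · rw [h]
      calc v * (z * c₂) * v⁻¹ = (v * z) * c₂ * v⁻¹ := by group
        _ = (z * v) * c₂ * v⁻¹ := by rw [hzc v]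
        _ = z * (v * c₂) * v⁻¹ := by group
        _ = z * (c₂ * v) * v⁻¹ := by rw [hv]
        _ = z * c₂ := by group
  apply hj1
  have h3 : a'⁻¹ = a' := by rw [← hinv', hfix]
  calc a' * a' = a' * a'⁻¹ := by rw [h3]
    _ = 1 := mul_inv_cancel a'

include hAc hAn hzc hz2 hc₂A hc₂ huniq in
theorem act_cases [Finite X] (hX : IsPGroup 2 X) (v : X) (hv : v * c₂ = c₂ * v) (hv2 : v * v = 1) :
    ∀ a ∈ A, v * a * v⁻¹ = a ∨ v * a * v⁻¹ = z * a := by
  intro a ha
  obtain ⟨b, hb⟩ : ∃ b, b = v * a * v⁻¹ := ⟨_, rfl⟩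
  have hbA : b ∈ A := by rw [hb]; exact hAn.conj_mem a ha v
  have hvb : v * b * v⁻¹ = a := by
    rw [hb]
    calc v * (v * a * v⁻¹) * v⁻¹ = (v * v) * a * (v * v)⁻¹ := by group
      _ = a := by rw [hv2]; group
  have hδA : a⁻¹ * b ∈ A := A.mul_mem (A.inv_mem ha) hbA
  have hδ : v * (a⁻¹ * b) * v⁻¹ = (a⁻¹ * b)⁻¹ := by
    calc v * (a⁻¹ * b) * v⁻¹ = (v * a * v⁻¹)⁻¹ * (v * b * v⁻¹) := by group
      _ = b⁻¹ * a := by rw [← hb, hvb]
      _ = (a⁻¹ * b)⁻¹ := by group
  rw [← hb]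
  rcases inv_cases A hAc z c₂ hzc hz2 hc₂A hc₂ huniq hX v hv _ hδA hδ with h | h
  · left
    have : b = a * (a⁻¹ * b) := by group
    rw [this, h, mul_one]
  · right
    have : b = a * (a⁻¹ * b) := by group
    rw [this, h]
    exact (hzc a)

include hAn hzc hz2 hc₂A hc₂ huniq in
theorem fix_eq_sqSub [Finite X] (hX : IsPGroup 2 X)
    (hCA : Subgroup.centralizer (A : Set X) ≤ A) (v : X) (hv : v * c₂ = c₂ * v)
    (hv2 : v * v = 1) (hvA : v ∉ A) :
    A ⊓ Subgroup.centralizer {v} = sqSub A hAc := by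
  have hle : sqSub A hAc ≤ A ⊓ Subgroup.centralizer {v} := by
    rintro x ⟨a, ha, rfl⟩
    refine ⟨A.mul_mem ha ha, ?_⟩
    show a * a ∈ Subgroup.centralizer {v}
    rw [Subgroup.mem_centralizer_singleton_iff]
    have h1 : v * (a * a) * v⁻¹ = a * a := by
      have h2 : v * (a * a) * v⁻¹ = (v * a * v⁻¹) * (v * a * v⁻¹) := by group
      rw [h2]
      rcases act_cases A hAc z c₂ hzc hz2 hc₂A hc₂ huniq hX v hv hv2 a ha with h | h
      · rw [h]
      · rw [h]
        calc z * a * (z * a) = z * (a * z) * a := by group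
          _ = z * (z * a) * a := by rw [hzc a]
          _ = (z * z) * (a * a) := by group
          _ = a * a := by rw [hz2, one_mul]
    calc a * a * v = (v * (a * a) * v⁻¹) * v := by rw [h1]
      _ = v * (a * a) := by group
  have hne : A ⊓ Subgroup.centralizer {v} ≠ A := by
    intro h
    apply hvA
    apply hCA
    rw [Subgroup.mem_centralizer_iff]
    intro a ha
    have : a ∈ A ⊓ Subgroup.centralizer {v} := by rw [h]; exact ha
    exact Subgroup.mem_centralizer_singleton_iff.mp this.2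
  have hcard1 : 2 * Nat.card ↥(A ⊓ Subgroup.centralizer {v}) ≤ Nat.card A := by
    have h1 := Subgroup.card_mul_index ((A ⊓ Subgroup.centralizer {v}).subgroupOf A)
    rw [Nat.card_congr (Subgroup.subgroupOfEquivOfLe
      (inf_le_left : A ⊓ Subgroup.centralizer {v} ≤ A)).toEquiv] at h1
    have h2 : ((A ⊓ Subgroup.centralizer {v}).subgroupOf A).index ≠ 1 := by
      intro h
      rw [Subgroup.index_eq_one, Subgroup.subgroupOf_eq_top] at h
      exact hne (le_antisymm inf_le_left h)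
    have h3 : ((A ⊓ Subgroup.centralizer {v}).subgroupOf A).index ≠ 0 := Subgroup.index_ne_zero_of_finite
    have h4 : 2 ≤ ((A ⊓ Subgroup.centralizer {v}).subgroupOf A).index := by omega
    calc 2 * Nat.card ↥(A ⊓ Subgroup.centralizer {v})
        ≤ ((A ⊓ Subgroup.centralizer {v}).subgroupOf A).index *
            Nat.card ↥(A ⊓ Subgroup.centralizer {v}) := Nat.mul_le_mul_right _ h4
      _ = Nat.card A := by rw [mul_comm]; exact h1
  have hcard2 := card_le_two_mul_sqSub A hAc z huniq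
  exact (Subgroup.eq_of_le_of_card_ge hle (by omega)).symm

end B2

section Final

theorem four_of_unique [Finite X] (hX : IsPGroup 2 X) (A : Subgroup X) [hAn : A.Normal]
    (hAc : ∀ a ∈ A, ∀ b ∈ A, a * b = b * a)
    (hCA : Subgroup.centralizer (A : Set X) ≤ A)
    (hone : ∀ a ∈ A, ∀ b ∈ A, a * a = 1 → b * b = 1 → a ≠ 1 → b ≠ 1 → a = b)
    (E : Subgroup X) (hE8 : Nat.card E = 8) (hE2 : ∀ e ∈ E, e * e = 1) :
    ∃ z w : X, (∀ g : X, g * z = z * g) ∧ z ≠ 1 ∧ z * z = 1 ∧ w * w = 1 ∧ w ≠ 1 ∧ w ≠ z ∧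
      ∀ g : X, g * w * g⁻¹ = w ∨ g * w * g⁻¹ = z * w := by
  -- an element of A whose square is not 1
  have hex : ∃ a₀ ∈ A, a₀ * a₀ ≠ 1 := by
    by_contra hall
    push Not at hall
    have hcent : ∀ a ∈ A, ∀ g : X, g * a = a * g := by
      intro a ha g
      by_cases ha1 : a = 1
      · rw [ha1, mul_one, one_mul]
      · have hb : g * a * g⁻¹ ∈ A := hAn.conj_mem a ha g
        have hb1 : g * a * g⁻¹ ≠ 1 := by
          intro h
          apply ha1
          have : a = g⁻¹ * (g * a * g⁻¹) * g := by group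
          rw [this, h]; group
        have := hone a ha _ hb (hall a ha) (hall _ hb) ha1 hb1
        calc g * a = (g * a * g⁻¹) * g := by group
          _ = a * g := by rw [← this]
    have htop : ∀ g : X, g ∈ A := by
      intro g
      apply hCA
      rw [Subgroup.mem_centralizer_iff]
      intro a ha
      exact (hcent a ha g).symm
    obtain ⟨e, he, he1, _⟩ := exists_not_pair E (by omega) 1
    obtain ⟨e', he', he'1, hee'⟩ := exists_not_pair E (by omega) e
    exact hee' (hone e' (htop e') e (htop e) (hE2 e' he') (hE2 e he) he'1 he1)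
  obtain ⟨a₀, ha₀, ha₀2⟩ := hex
  obtain ⟨j, hj1, hj2⟩ := exists_order_four hX a₀ ha₀2
  obtain ⟨c₂, hc₂d⟩ : ∃ c₂, c₂ = a₀ ^ j := ⟨_, rfl⟩
  rw [← hc₂d] at hj1 hj2
  have hc₂A : c₂ ∈ A := by rw [hc₂d]; exact A.pow_mem ha₀ j
  obtain ⟨z, hc₂⟩ : ∃ z, c₂ * c₂ = z := ⟨_, rfl⟩
  rw [hc₂] at hj1 hj2
  have hzA : z ∈ A := by rw [← hc₂]; exact A.mul_mem hc₂A hc₂A
  have huniq : ∀ a ∈ A, a * a = 1 → a = 1 ∨ a = z := by
    intro a ha haa
    by_cases ha1 : a = 1
    · left; exact ha1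
    · right; exact hone a ha z hzA haa hj2 ha1 hj1
  have hzc : ∀ g : X, g * z = z * g := by
    intro g
    have hb : g * z * g⁻¹ ∈ A := hAn.conj_mem z hzA g
    have hbb : g * z * g⁻¹ * (g * z * g⁻¹) = 1 := by
      calc g * z * g⁻¹ * (g * z * g⁻¹) = g * (z * z) * g⁻¹ := by group
        _ = 1 := by rw [hj2]; group
    have hb1 : g * z * g⁻¹ ≠ 1 := by
      intro h
      apply hj1
      have : z = g⁻¹ * (g * z * g⁻¹) * g := by group
      rw [this, h]; group
    have := hone _ hb z hzA hbb hj2 hb1 hj1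
    calc g * z = (g * z * g⁻¹) * g := by group
      _ = z * g := by rw [this]
  have hconjc := conj_c2 A hAc z c₂ hzc hj2 hc₂A hc₂ huniq
  -- choose w
  have hcardEC : Nat.card E ≤ 2 * Nat.card ↥(E ⊓ Subgroup.centralizer {c₂}) := by
    apply half_card
    intro g _ h _ hg hh
    rw [Subgroup.mem_centralizer_singleton_iff] at hg hh ⊢
    exact swap_prod hzc hj2 hconjc hg hh
  obtain ⟨w, hwEC, hw1, hwz⟩ := exists_not_pair (E ⊓ Subgroup.centralizer {c₂}) (by omega) z
  have hwE : w ∈ E := hwEC.1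
  have hwc : w * c₂ = c₂ * w := Subgroup.mem_centralizer_singleton_iff.mp hwEC.2
  have hw2 : w * w = 1 := hE2 w hwE
  have hwA : w ∉ A := by
    intro h
    rcases huniq w h hw2 with h' | h'
    · exact hw1 h'
    · exact hwz h'
  have hinvc := inv_cases A hAc z c₂ hzc hj2 hc₂A hc₂ huniq hX
  have hactc := act_cases A hAc z c₂ hzc hj2 hc₂A hc₂ huniq hX
  have hfixc := fix_eq_sqSub A hAc z c₂ hzc hj2 hc₂A hc₂ huniq hX hCA
  refine ⟨z, w, hzc, hj1, hj2, hw2, hw1, hwz, ?_⟩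
  intro g
  obtain ⟨w', hw'd⟩ : ∃ w', w' = g * w * g⁻¹ := ⟨_, rfl⟩
  rw [← hw'd]
  have hw'2 : w' * w' = 1 := by
    rw [hw'd]
    calc g * w * g⁻¹ * (g * w * g⁻¹) = g * (w * w) * g⁻¹ := by group
      _ = 1 := by rw [hw2]; group
  have hw'c : w' * c₂ = c₂ * w' := by
    obtain ⟨c', hc'd⟩ : ∃ c', c' = g⁻¹ * c₂ * g⁻¹⁻¹ := ⟨_, rfl⟩
    have hwc' : w * c' = c' * w := by
      rcases hconjc g⁻¹ with h | h
      · rw [hc'd, h]; exact hwc
      · rw [hc'd, h]
        calc w * (z * c₂) = (w * z) * c₂ := by group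
          _ = (z * w) * c₂ := by rw [hzc w]
          _ = z * (w * c₂) := by group
          _ = z * (c₂ * w) := by rw [hwc]
          _ = z * c₂ * w := by group
    have hc₂' : c₂ = g * c' * g⁻¹ := by rw [hc'd]; group
    rw [hw'd, hc₂']
    calc g * w * g⁻¹ * (g * c' * g⁻¹) = g * (w * c') * g⁻¹ := by group
      _ = g * (c' * w) * g⁻¹ := by rw [hwc']
      _ = g * c' * g⁻¹ * (g * w * g⁻¹) := by group
  have hw'A : w' ∉ A := by
    intro h
    apply hwA
    have h1 := hAn.conj_mem w' h g⁻¹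
    rw [hw'd] at h1
    have : g⁻¹ * (g * w * g⁻¹) * g⁻¹⁻¹ = w := by group
    rw [this] at h1
    exact h1
  have hB : A ⊓ Subgroup.centralizer {w} = A ⊓ Subgroup.centralizer {w'} := by
    rw [hfixc w hwc hw2 hwA, hfixc w' hw'c hw'2 hw'A]
  have hsame : ∀ a ∈ A, w * a * w⁻¹ = w' * a * w'⁻¹ := by
    intro a ha
    by_cases hac : a ∈ Subgroup.centralizer {w}
    · have hac' : a ∈ A ⊓ Subgroup.centralizer {w'} := by rw [← hB]; exact ⟨ha, hac⟩
      have h1 : a * w = w * a := Subgroup.mem_centralizer_singleton_iff.mp hac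
      have h2 : a * w' = w' * a := Subgroup.mem_centralizer_singleton_iff.mp hac'.2
      rw [← h1, ← h2]; group
    · have hac' : a ∉ Subgroup.centralizer {w'} := by
        intro h
        have : a ∈ A ⊓ Subgroup.centralizer {w} := by rw [hB]; exact ⟨ha, h⟩
        exact hac this.2
      have h1 : w * a * w⁻¹ = z * a := by
        rcases hactc w hwc hw2 a ha with h | h
        · exfalso; apply hac
          rw [Subgroup.mem_centralizer_singleton_iff]
          calc a * w = (w * a * w⁻¹) * w := by rw [h]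
            _ = w * a := by group
        · exact h
      have h2 : w' * a * w'⁻¹ = z * a := by
        rcases hactc w' hw'c hw'2 a ha with h | h
        · exfalso; apply hac'
          rw [Subgroup.mem_centralizer_singleton_iff]
          calc a * w' = (w' * a * w'⁻¹) * w' := by rw [h]
            _ = w' * a := by group
        · exact h
      rw [h1, h2]
  have hdA : w⁻¹ * w' ∈ A := by
    apply hCA
    rw [Subgroup.mem_centralizer_iff]
    intro a ha
    have h := hsame a ha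
    calc a * (w⁻¹ * w') = w⁻¹ * (w * a * w⁻¹) * w' := by group
      _ = w⁻¹ * (w' * a * w'⁻¹) * w' := by rw [h]
      _ = w⁻¹ * w' * a := by group
  have hwinv : w⁻¹ = w := inv_eq_of_mul_eq_one_left hw2
  have hdinv : w * (w⁻¹ * w') * w⁻¹ = (w⁻¹ * w')⁻¹ := by
    have h1 : w * (w⁻¹ * w') * w⁻¹ = w' * w := by
      calc w * (w⁻¹ * w') * w⁻¹ = w' * w⁻¹ := by group
        _ = w' * w := by rw [hwinv]
    have h2 : (w⁻¹ * w')⁻¹ = w'⁻¹ * w := by group
    have h3 : w'⁻¹ = w' := inv_eq_of_mul_eq_one_left hw'2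
    rw [h1, h2, h3]
  rcases hinvc w hwc _ hdA hdinv with h | h
  · left
    have : w' = w * (w⁻¹ * w') := by group
    rw [this, h, mul_one]
  · right
    have : w' = w * (w⁻¹ * w') := by group
    rw [this, h]
    exact hzc w

/-- the elements of order at most two in an abelian subgroup -/
def omegaSub (A : Subgroup X) (hAc : ∀ a ∈ A, ∀ b ∈ A, a * b = b * a) : Subgroup X where
  carrier := {a | a ∈ A ∧ a * a = 1}
  mul_mem' := by
    rintro a b ⟨ha, ha2⟩ ⟨hb, hb2⟩
    refine ⟨A.mul_mem ha hb, ?_⟩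
    have h := hAc b hb a ha
    calc a * b * (a * b) = a * (b * a) * b := by group
      _ = a * (a * b) * b := by rw [h]
      _ = a * a * (b * b) := by group
      _ = 1 := by rw [ha2, hb2, one_mul]
  one_mem' := ⟨A.one_mem, by simp⟩
  inv_mem' := by
    rintro a ⟨ha, ha2⟩
    refine ⟨A.inv_mem ha, ?_⟩
    calc a⁻¹ * a⁻¹ = (a * a)⁻¹ := by group
      _ = 1 := by rw [ha2, inv_one]

theorem exists_normal_four [Finite X] (hX : IsPGroup 2 X)
    (E : Subgroup X) (hE8 : Nat.card E = 8) (hE2 : ∀ e ∈ E, e * e = 1) :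
    ∃ z w : X, (∀ g : X, g * z = z * g) ∧ z ≠ 1 ∧ z * z = 1 ∧ w * w = 1 ∧ w ≠ 1 ∧ w ≠ z ∧
      ∀ g : X, g * w * g⁻¹ = w ∨ g * w * g⁻¹ = z * w := by
  have : Fact (Nat.Prime 2) := ⟨Nat.prime_two⟩
  have hnil : Group.IsNilpotent X := hX.isNilpotent
  obtain ⟨A, hAmem, hAmax⟩ := (Set.toFinite {A : Subgroup X | A.Normal ∧ IsMulCommutative A}).exists_maximal
    ⟨⊥, inferInstance, inferInstance⟩
  obtain ⟨hAn, hAcomm⟩ := hAmem
  have hCA : Subgroup.centralizer (A : Set X) = A :=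
    Cfsg.Agent.Lib.Helper1.centralizer_eq_self_of_max_abelian_normal A (by
      intro M hMn hMc hAM
      exact le_antisymm (hAmax ⟨hMn, hMc⟩ hAM) hAM)
  have hAc : ∀ a ∈ A, ∀ b ∈ A, a * b = b * a :=
    (Cfsg.Agent.Lib.Helper1.isMulCommutative_subgroup_iff A).mp hAcomm
  by_cases h : ∃ a ∈ A, ∃ b ∈ A, a * a = 1 ∧ b * b = 1 ∧ a ≠ 1 ∧ b ≠ 1 ∧ a ≠ b
  · obtain ⟨a, ha, b, hb, ha2, hb2, ha1, hb1, hab⟩ := h
    have hΩn : (omegaSub A hAc).Normal := by
      constructor
      rintro x ⟨hx, hx2⟩ g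
      refine ⟨hAn.conj_mem x hx g, ?_⟩
      calc g * x * g⁻¹ * (g * x * g⁻¹) = g * (x * x) * g⁻¹ := by group
        _ = 1 := by rw [hx2]; group
    exact four_of_omega hX (omegaSub A hAc) (fun x hx => hx.2) a b ⟨ha, ha2⟩ ⟨hb, hb2⟩ ha1 hb1 hab
  · push Not at h
    exact four_of_unique hX A hAc hCA.le
      (fun a ha b hb ha2 hb2 ha1 hb1 => h a ha b hb ha2 hb2 ha1 hb1) E hE8 hE2

end Final

section M1

open Cfsg.Agent.Lib.Helper18.E8C

theorem ea_of_exp_two (E : Subgroup X) (hE2 : ∀ e ∈ E, e * e = 1) :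
    Cfsg.IsElementaryAbelian 2 E := by
  refine ⟨?_, fun e he => by rw [pow_two]; exact hE2 e he⟩
  rw [Cfsg.Agent.Lib.Helper1.isMulCommutative_subgroup_iff]
  intro a ha b hb
  exact comm_of_sq (hE2 a ha) (hE2 b hb) (hE2 _ (E.mul_mem ha hb))

theorem comm_of_ea {F : Subgroup X} (hF : Cfsg.IsElementaryAbelian 2 F) {a b : X} (ha : a ∈ F)
    (hb : b ∈ F) : a * b = b * a :=
  (Cfsg.Agent.Lib.Helper1.isMulCommutative_subgroup_iff F).mp hF.1 a ha b hb

theorem sq_of_ea {F : Subgroup X} (hF : Cfsg.IsElementaryAbelian 2 F) {a : X} (ha : a ∈ F) :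
    a * a = 1 := by
  have := hF.2 a ha
  rwa [pow_two] at this

theorem centralizer_rank_three [Finite X] (hX : IsPGroup 2 X)
    (E : Subgroup X) (hE8 : Nat.card E = 8) (hE2 : ∀ e ∈ E, e * e = 1) :
    ∃ T : Subgroup X, (∀ g h : X, g ∉ T → h ∉ T → g * h ∈ T) ∧
      ∀ t ∈ T, t * t = 1 → ∃ F : Subgroup X, Nat.card F = 8 ∧ (∀ e ∈ F, e * e = 1) ∧
        ∀ e ∈ F, e * t = t * e := by
  obtain ⟨z, w, hzc, hz1, hz2, hw2, hw1, hwz, hconj⟩ := exists_normal_four hX E hE8 hE2
  have hprod : ∀ g h : X, g ∉ Subgroup.centralizer {w} → h ∉ Subgroup.centralizer {w} →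
      g * h ∈ Subgroup.centralizer {w} := by
    intro g h hg hh
    rw [Subgroup.mem_centralizer_singleton_iff] at hg hh ⊢
    exact swap_prod hzc hz2 hconj hg hh
  refine ⟨Subgroup.centralizer {w}, hprod, ?_⟩
  intro t htT ht2
  have htw : t * w = w * t := Subgroup.mem_centralizer_singleton_iff.mp htT
  have hEea : Cfsg.IsElementaryAbelian 2 E := ea_of_exp_two E hE2
  have hz2' : z ^ 2 = 1 := by rw [pow_two]; exact hz2
  have hw2' : w ^ 2 = 1 := by rw [pow_two]; exact hw2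
  have ht2' : t ^ 2 = 1 := by rw [pow_two]; exact ht2
  -- the four-group V
  have hZea : Cfsg.IsElementaryAbelian 2 (Subgroup.zpowers z) := by
    refine ⟨isMulCommutative_zpowers_h18 z, ?_⟩
    intro a ha
    rcases zpowers_eq_of_sq hz2' ha with h | h
    · rw [h, one_pow]
    · rw [h, hz2']
  have hZcard : Nat.card (Subgroup.zpowers z) = 2 := by
    rw [Nat.card_zpowers]
    exact orderOf_eq_prime hz2' hz1
  have hwZ : w ∉ Subgroup.zpowers z := by
    intro h
    rcases zpowers_eq_of_sq hz2' h with h' | h'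
    · exact hw1 h'
    · exact hwz h'
  have hcentZ : ∀ g : X, g ∈ Subgroup.centralizer ((Subgroup.zpowers z : Subgroup X) : Set X) := by
    intro g
    rw [Subgroup.mem_centralizer_iff]
    intro a ha
    rcases zpowers_eq_of_sq hz2' ha with h | h
    · rw [h, one_mul, mul_one]
    · rw [h]; exact (hzc g).symm
  obtain ⟨V, hVd⟩ : ∃ V, V = Subgroup.zpowers z ⊔ Subgroup.zpowers w := ⟨_, rfl⟩
  have hVea : Cfsg.IsElementaryAbelian 2 V := by
    rw [hVd]; exact ea_sup_zpowers hZea hw2' (hcentZ w)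
  have hVcard : Nat.card V = 4 := by
    rw [hVd, card_sup_zpowers hwZ hw2' (hcentZ w), hZcard]
  have hwV : w ∈ V := by
    rw [hVd]; exact (le_sup_right : Subgroup.zpowers w ≤ _) (Subgroup.mem_zpowers w)
  have hTV : ∀ g ∈ Subgroup.centralizer {w}, ∀ v ∈ V, g * v = v * g := by
    intro g hg v hv
    have hgw : g * w = w * g := Subgroup.mem_centralizer_singleton_iff.mp hg
    have : g ∈ Subgroup.centralizer ((Subgroup.zpowers z ⊔ Subgroup.zpowers w : Subgroup X) : Set X) := by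
      rw [mem_centralizer_sup_zpowers]
      exact ⟨hcentZ g, hgw.symm⟩
    rw [← hVd, Subgroup.mem_centralizer_iff] at this
    exact (this v hv).symm
  have hmk : ∀ (B : Subgroup X), Cfsg.IsElementaryAbelian 2 B → Nat.card B = 4 →
      ∀ u : X, u * u = 1 → u ∉ B → (∀ b ∈ B, b * u = u * b) → (t ∈ B ∨ t = u) →
      ∃ F : Subgroup X, Nat.card F = 8 ∧ (∀ e ∈ F, e * e = 1) ∧ ∀ e ∈ F, e * t = t * e := by
    intro B hBea hBcard u hu2 huB hBu htBu
    have hu2' : u ^ 2 = 1 := by rw [pow_two]; exact hu2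
    have huc : u ∈ Subgroup.centralizer (B : Set X) := by
      rw [Subgroup.mem_centralizer_iff]
      exact hBu
    have hFea : Cfsg.IsElementaryAbelian 2 (B ⊔ Subgroup.zpowers u) := ea_sup_zpowers hBea hu2' huc
    refine ⟨B ⊔ Subgroup.zpowers u, ?_, fun e he => sq_of_ea hFea he, ?_⟩
    · rw [card_sup_zpowers huB hu2' huc, hBcard]
    · intro e he
      have htF : t ∈ B ⊔ Subgroup.zpowers u := by
        rcases htBu with h | h
        · exact (le_sup_left : B ≤ _) h
        · rw [h]; exact (le_sup_right : Subgroup.zpowers u ≤ _) (Subgroup.mem_zpowers u)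
      exact comm_of_ea hFea he htF
  by_cases htV : t ∈ V
  · by_cases hET : E ≤ Subgroup.centralizer {w}
    · exact ⟨E, hE8, hE2, fun e he => hTV e (hET he) t htV⟩
    · -- E₁ = E ⊓ T has order 4
      obtain ⟨E₁, hE₁d⟩ : ∃ E₁, E₁ = E ⊓ Subgroup.centralizer {w} := ⟨_, rfl⟩
      have hE₁E : E₁ ≤ E := by rw [hE₁d]; exact inf_le_left
      have hE₁T : E₁ ≤ Subgroup.centralizer {w} := by rw [hE₁d]; exact inf_le_right
      have hE₁ea : Cfsg.IsElementaryAbelian 2 E₁ := ea_of_le hEea hE₁E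
      have hE₁card : Nat.card E₁ = 4 := by
        have h1 : Nat.card E ≤ 2 * Nat.card E₁ := by
          rw [hE₁d]
          exact half_card E _ (fun g _ h _ hg hh => hprod g h hg hh)
        have h2 : Nat.card E₁ ∣ Nat.card E := Subgroup.card_dvd_of_le hE₁E
        have h3 : Nat.card E₁ ≠ Nat.card E := by
          intro h
          apply hET
          have : E₁ = E := Subgroup.eq_of_le_of_card_ge hE₁E (le_of_eq h.symm)
          rw [← this]; exact hE₁T
        have h4 : Nat.card E₁ ≤ Nat.card E := Subgroup.card_le_of_le hE₁E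
        rw [hE8] at h1 h2 h3 h4
        have h5 : Nat.card E₁ < 8 := lt_of_le_of_ne h4 h3
        have h6 : 4 ≤ Nat.card E₁ := by omega
        interval_cases (Nat.card E₁) <;> omega
      by_cases htE₁ : t ∈ E₁
      · -- pick u in V outside E₁
        have hexu : ∃ u ∈ V, u ∉ E₁ := by
          by_contra hcon
          push Not at hcon
          have hVE : V = E₁ := Subgroup.eq_of_le_of_card_ge hcon (by rw [hVcard, hE₁card])
          apply hET
          intro e he
          rw [Subgroup.mem_centralizer_singleton_iff]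
          have hwE : w ∈ E := hE₁E (hVE ▸ hwV)
          exact comm_of_ea hEea he hwE
        obtain ⟨u, huV, huE₁⟩ := hexu
        exact hmk E₁ hE₁ea hE₁card u (sq_of_ea hVea huV) huE₁
          (fun b hb => hTV b (hE₁T hb) u huV) (Or.inl htE₁)
      · exact hmk E₁ hE₁ea hE₁card t ht2 htE₁
          (fun b hb => hTV b (hE₁T hb) t htV) (Or.inr rfl)
  · exact hmk V hVea hVcard t ht2 htV (fun b hb => (hTV t htT b hb).symm) (Or.inr rfl)

end M1

section GLevel

variable {G : Type*} [Group G] [Finite G]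

theorem sylow_claim (hno : ∀ H : Subgroup G, H.index ≠ 2) (P : Sylow 2 G) (E₀ : Subgroup G)
    (hE₀P : E₀ ≤ (P : Subgroup G)) (hE₀8 : Nat.card E₀ = 8) (hE₀2 : ∀ e ∈ E₀, e * e = 1)
    (t : G) (htP : t ∈ (P : Subgroup G)) (ht2 : t * t = 1) :
    ∃ F : Subgroup G, Nat.card F = 8 ∧ (∀ e ∈ F, e * e = 1) ∧ ∀ e ∈ F, e * t = t * e := by
  have hX : IsPGroup 2 (P : Subgroup G) := P.isPGroup'
  obtain ⟨T', hT'prod, hT'F⟩ := centralizer_rank_three hX (E₀.subgroupOf (P : Subgroup G))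
    (by rw [Nat.card_congr (Subgroup.subgroupOfEquivOfLe hE₀P).toEquiv]; exact hE₀8)
    (by
      intro e he
      rw [Subgroup.mem_subgroupOf] at he
      exact Subtype.ext (hE₀2 _ he))
  have key : ∀ s : G, ∀ hs : s ∈ (P : Subgroup G), (⟨s, hs⟩ : (P : Subgroup G)) ∈ T' → s * s = 1 →
      ∃ F : Subgroup G, Nat.card F = 8 ∧ (∀ e ∈ F, e * e = 1) ∧ ∀ e ∈ F, e * s = s * e := by
    intro s hs hsT hs2
    obtain ⟨F', hF'8, hF'2, hF'c⟩ := hT'F ⟨s, hs⟩ hsT (Subtype.ext hs2)
    refine ⟨F'.map (P : Subgroup G).subtype, ?_, ?_, ?_⟩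
    · rw [Subgroup.card_map_of_injective (Subgroup.subtype_injective _)]; exact hF'8
    · rintro _ ⟨e, he, rfl⟩
      exact congrArg Subtype.val (hF'2 e he)
    · rintro _ ⟨e, he, rfl⟩
      exact congrArg Subtype.val (hF'c e he)
  by_cases htT : (⟨t, htP⟩ : (P : Subgroup G)) ∈ T'
  · exact key t htP htT ht2
  · have ht1 : t ≠ 1 := by
      intro h
      apply htT
      have : (⟨t, htP⟩ : (P : Subgroup G)) = 1 := Subtype.ext h
      rw [this]; exact T'.one_mem
    have hidx : T'.index = 2 := by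
      rw [Subgroup.index_eq_two_iff]
      refine ⟨⟨t, htP⟩, ?_⟩
      intro b
      by_cases hb : b ∈ T'
      · right
        refine ⟨hb, ?_⟩
        intro h
        apply htT
        have : (⟨t, htP⟩ : (P : Subgroup G)) = b⁻¹ * (b * ⟨t, htP⟩) := by group
        rw [this]; exact T'.mul_mem (T'.inv_mem hb) h
      · left
        exact ⟨hT'prod b _ hb htT, hb⟩
    have hrel : (T'.map (P : Subgroup G).subtype).relIndex (P : Subgroup G) = 2 := by
      rw [Subgroup.relIndex, Subgroup.subgroupOf,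
        Subgroup.comap_map_eq_self_of_injective (Subgroup.subtype_injective _)]
      exact hidx
    have hTP : T'.map (P : Subgroup G).subtype ≤ (P : Subgroup G) := Subgroup.map_subtype_le _
    have htT'' : t ∉ T'.map (P : Subgroup G).subtype := by
      rintro ⟨t', ht', h⟩
      apply htT
      have : (⟨t, htP⟩ : (P : Subgroup G)) = t' := Subtype.ext h.symm
      rw [this]; exact ht'
    have hord : orderOf t = 2 := orderOf_eq_prime (by rw [pow_two]; exact ht2) ht1
    rcases Cfsg.Agent.S0111.result P _ hTP hrel t hord htP htT'' with ⟨M, _, hM, _⟩ | ⟨g, s', hs'T, hs'⟩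
    · exact absurd hM (hno M)
    · have hs'eq : (s' : G) = g * t * g⁻¹ := hs'
      have hs2 : (s' : G) * s' = 1 := by
        rw [hs'eq]
        calc g * t * g⁻¹ * (g * t * g⁻¹) = g * (t * t) * g⁻¹ := by group
          _ = 1 := by rw [ht2]; group
      obtain ⟨F, hF8, hF2, hFc⟩ := key (s' : G) s'.2 hs'T hs2
      refine ⟨F.map (MulAut.conj g⁻¹).toMonoidHom, ?_, ?_, ?_⟩
      · rw [Subgroup.card_map_of_injective (MulAut.conj g⁻¹).injective]; exact hF8
      · rintro _ ⟨e, he, rfl⟩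
        show (MulAut.conj g⁻¹) e * (MulAut.conj g⁻¹) e = 1
        rw [← map_mul, hF2 e he, map_one]
      · rintro _ ⟨e, he, rfl⟩
        show (MulAut.conj g⁻¹) e * t = t * (MulAut.conj g⁻¹) e
        have h1 := hFc e he
        rw [hs'eq] at h1
        rw [MulAut.conj_apply, inv_inv]
        calc g⁻¹ * e * g * t = g⁻¹ * (e * (g * t * g⁻¹)) * g := by group
          _ = g⁻¹ * (g * t * g⁻¹ * e) * g := by rw [h1]
          _ = t * (g⁻¹ * e * g) := by group

theorem rank_three_centralizer (hno : ∀ H : Subgroup G, H.index ≠ 2)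
    (hrank : ∃ E : Subgroup G, Nat.card E = 8 ∧ ∀ e ∈ E, e ^ 2 = 1) (x : G) (hx : orderOf x = 2) :
    ∃ E : Subgroup G, E ≤ Subgroup.centralizer ({x} : Set G) ∧ Nat.card E = 8 ∧
      ∀ e ∈ E, e ^ 2 = 1 := by
  have : Fact (Nat.Prime 2) := ⟨Nat.prime_two⟩
  obtain ⟨E₀, hE₀8, hE₀2⟩ := hrank
  have hE₀p : IsPGroup 2 E₀ := IsPGroup.of_card (n := 3) (by rw [hE₀8]; norm_num)
  obtain ⟨P, hE₀P⟩ := hE₀p.exists_le_sylow
  have hxp : IsPGroup 2 (Subgroup.zpowers x) :=
    IsPGroup.of_card (n := 1) (by rw [Nat.card_zpowers, hx]; norm_num)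
  obtain ⟨P', hxP'⟩ := hxp.exists_le_sylow
  obtain ⟨g, hg⟩ := MulAction.exists_smul_eq G P' P
  have hx2 : x * x = 1 := by
    have := pow_orderOf_eq_one x
    rwa [hx, pow_two] at this
  have htP : g * x * g⁻¹ ∈ (P : Subgroup G) := by
    have h1 : g * x * g⁻¹ ∈ g • P' := by
      rw [Cfsg.Agent.Lib.Helper18.mem_smul_sylow_iff]
      have : g⁻¹ * (g * x * g⁻¹) * g = x := by group
      rw [this]
      exact hxP' (Subgroup.mem_zpowers x)
    rw [hg] at h1
    exact h1
  have ht2 : (g * x * g⁻¹) * (g * x * g⁻¹) = 1 := by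
    calc g * x * g⁻¹ * (g * x * g⁻¹) = g * (x * x) * g⁻¹ := by group
      _ = 1 := by rw [hx2]; group
  obtain ⟨F, hF8, hF2, hFc⟩ := sylow_claim hno P E₀ hE₀P hE₀8
    (fun e he => by have := hE₀2 e he; rwa [pow_two] at this) _ htP ht2
  refine ⟨F.map (MulAut.conj g⁻¹).toMonoidHom, ?_, ?_, ?_⟩
  · rintro _ ⟨e, he, rfl⟩
    rw [Subgroup.mem_centralizer_singleton_iff]
    show (MulAut.conj g⁻¹) e * x = x * (MulAut.conj g⁻¹) e
    have h1 := hFc e he
    rw [MulAut.conj_apply, inv_inv]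
    calc g⁻¹ * e * g * x = g⁻¹ * (e * (g * x * g⁻¹)) * g := by group
      _ = g⁻¹ * (g * x * g⁻¹ * e) * g := by rw [h1]
      _ = x * (g⁻¹ * e * g) := by group
  · rw [Subgroup.card_map_of_injective (MulAut.conj g⁻¹).injective]; exact hF8
  · rintro _ ⟨e, he, rfl⟩
    show ((MulAut.conj g⁻¹) e) ^ 2 = 1
    rw [← map_pow, pow_two, hF2 e he, map_one]

end GLevel

end Cfsg.Agent.Lib.Helper18.NormalFour
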