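import Mathlib
import Cfsg.Prelude.Def_OddOrderLocal
import Cfsg.Agent.Lib.Helper1.NPC2
import Cfsg.Agent.Lib.Helper9.RankComp3
import Cfsg.Agent.Lib.Helper24.POrderFourClass
import Cfsg.Agent.Lib.helper17.SPE2
import Cfsg.Agent.Lib.Helper18.BGTwelveC
import Cfsg.Agent.S1414
import Cfsg.Agent.S1452

set_option autoImplicit false
open scoped commutatorElement Pointwise

/-!
# B & G, Corollary 12.14

conditional on Lemma 12.13
-/

namespace Cfsg.Agent.Lib.Helper18.BGTwelveD

open Cfsg.Agent.Lib.Helper18 Cfsg.Agent.Lib.Helper11.BenderM Cfsg.Agent.Lib.Helper11.MaxSubD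
open Cfsg.Agent.Lib.Helper18.BGTwelveB Cfsg.Agent.Lib.Helper18.BGTwelveC

section general

variable {H : Type*} [Group H]

/-- if `K` is a normal complement to `P` then `H' ∩ P = P'` -/
theorem commutator_inf_le_of_normal_compl (K P : Subgroup H) [K.Normal]
    (hdis : K ⊓ P = ⊥) (hsup : K ⊔ P = ⊤) : commutator H ⊓ P ≤ ⁅P, P⁆ := by
  rintro x ⟨hx1, hx2⟩
  have hx1 : x ∈ commutator H := hx1
  have hx2 : x ∈ P := hx2
  have hK : K.map (QuotientGroup.mk' K) = ⊥ := by
    rw [Subgroup.map_eq_bot_iff, QuotientGroup.ker_mk']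
  have htop : (⊤ : Subgroup H).map (QuotientGroup.mk' K) = P.map (QuotientGroup.mk' K) := by
    rw [← hsup, Subgroup.map_sup, hK, bot_sup_eq]
  have h1 : (commutator H).map (QuotientGroup.mk' K) =
      (⁅P, P⁆ : Subgroup H).map (QuotientGroup.mk' K) := by
    rw [commutator_def, Subgroup.map_commutator, Subgroup.map_commutator, htop]
  have h2 : QuotientGroup.mk' K x ∈ (⁅P, P⁆ : Subgroup H).map (QuotientGroup.mk' K) := by
    rw [← h1]
    exact Subgroup.mem_map_of_mem _ hx1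
  obtain ⟨y, hy, hyx⟩ := h2
  have hyP : y ∈ P := Subgroup.commutator_le_self P hy
  have h3 : y⁻¹ * x ∈ K := by
    rw [← QuotientGroup.ker_mk' K, MonoidHom.mem_ker, map_mul, map_inv, hyx, inv_mul_cancel]
  have h4 : y⁻¹ * x ∈ K ⊓ P := ⟨h3, P.mul_mem (P.inv_mem hyP) hx2⟩
  rw [hdis, Subgroup.mem_bot, inv_mul_eq_one] at h4
  rw [← h4]
  exact hy

/-- in a `p`-group the derived subgroup centralizes every normal subgroup of order `p ^ 2` -/
theorem commutator_le_centralizer_of_normal_sq [Finite H] {p : ℕ} [hp : Fact p.Prime]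
    (hH : IsPGroup p H) (N : Subgroup H) [hN : N.Normal] (hNc : Nat.card N = p ^ 2) :
    commutator H ≤ Subgroup.centralizer (N : Set H) := by
  haveI : Group.IsNilpotent H := hH.isNilpotent
  have hD_le : ⁅N, (⊤ : Subgroup H)⁆ ≤ N := Subgroup.commutator_le_left N ⊤
  have hDne : ⁅N, (⊤ : Subgroup H)⁆ ≠ N := by
    intro h
    have h0 := Cfsg.Agent.Lib.Helper24.pf_eq_bot_of_comm_top_eq N h
    rw [h0, Subgroup.card_bot] at hNc
    have : 1 < p ^ 2 := Nat.one_lt_pow (by norm_num) hp.out.one_lt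
    omega
  have hDcenter : ⁅N, (⊤ : Subgroup H)⁆ ≤ Subgroup.center H := by
    have hdvd : Nat.card (⁅N, (⊤ : Subgroup H)⁆ : Subgroup H) ∣ p ^ 2 :=
      hNc ▸ Subgroup.card_dvd_of_le hD_le
    obtain ⟨k, hk2, hk⟩ := (Nat.dvd_prime_pow hp.out).mp hdvd
    have hk2' : k ≠ 2 := by
      rintro rfl
      exact hDne (Subgroup.eq_of_le_of_card_ge hD_le (by rw [hk, hNc]))
    have hk01 : k = 0 ∨ k = 1 := by omega
    rcases hk01 with rfl | rfl
    · rw [pow_zero] at hk
      rw [Subgroup.card_eq_one.mp hk]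
      exact bot_le
    · rw [pow_one] at hk
      exact Cfsg.Agent.Lib.Helper24.pf_le_center_of_card_prime hH _ hk
  have h2 : ⁅⁅N, (⊤ : Subgroup H)⁆, (⊤ : Subgroup H)⁆ = ⊥ :=
    (Cfsg.Agent.Lib.Helper24.pf_comm_top_eq_bot_iff _).mpr hDcenter
  have h1 : ⁅⁅(⊤ : Subgroup H), N⁆, (⊤ : Subgroup H)⁆ = ⊥ := by
    rw [Subgroup.commutator_comm ⊤ N]
    exact h2
  have h3 := Subgroup.commutator_commutator_eq_bot_of_rotate h1 h2
  rw [commutator_def]
  exact Subgroup.commutator_eq_bot_iff_le_centralizer.mp h3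

theorem mem_sup_of_commute {A B : Subgroup H} (h : ∀ a ∈ A, ∀ b ∈ B, a * b = b * a) {g : H}
    (hg : g ∈ A ⊔ B) : ∃ a ∈ A, ∃ b ∈ B, g = a * b := by
  rw [Subgroup.sup_eq_closure] at hg
  induction hg using Subgroup.closure_induction with
  | mem x hx =>
    rcases hx with hx | hx
    · exact ⟨x, hx, 1, B.one_mem, (mul_one x).symm⟩
    · exact ⟨1, A.one_mem, x, hx, (one_mul x).symm⟩
  | one => exact ⟨1, A.one_mem, 1, B.one_mem, (mul_one 1).symm⟩
  | mul x y _ _ ihx ihy =>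
    obtain ⟨a, ha, b, hb, rfl⟩ := ihx
    obtain ⟨a', ha', b', hb', rfl⟩ := ihy
    refine ⟨a * a', A.mul_mem ha ha', b * b', B.mul_mem hb hb', ?_⟩
    rw [mul_assoc, ← mul_assoc b, ← h a' ha' b hb, mul_assoc, mul_assoc]
  | inv x _ ih =>
    obtain ⟨a, ha, b, hb, rfl⟩ := ih
    refine ⟨a⁻¹, A.inv_mem ha, b⁻¹, B.inv_mem hb, ?_⟩
    rw [mul_inv_rev]
    exact (h a⁻¹ (A.inv_mem ha) b⁻¹ (B.inv_mem hb)).symm

/-- the derived subgroup of a central product with an abelian group -/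
theorem commutator_sup_le {A B : Subgroup H} (hcomm : ∀ a ∈ A, ∀ b ∈ B, a * b = b * a)
    (hab : ∀ b ∈ B, ∀ b' ∈ B, b * b' = b' * b) : ⁅A ⊔ B, A ⊔ B⁆ ≤ ⁅A, A⁆ := by
  rw [Subgroup.commutator_le]
  intro g hg h hh
  obtain ⟨a, ha, b, hb, rfl⟩ := mem_sup_of_commute hcomm hg
  obtain ⟨a', ha', b', hb', rfl⟩ := mem_sup_of_commute hcomm hh
  have hb1 : Commute b (a' * b') :=
    Commute.mul_right (hcomm a' ha' b hb).symm (hab b hb b' hb')
  have hb2 : Commute b' a⁻¹ := Commute.inv_right (hcomm a ha b' hb').symm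
  have e : ⁅a * b, a' * b'⁆ = ⁅a, a'⁆ := by
    rw [commutatorElement_def, commutatorElement_def]
    calc a * b * (a' * b') * (a * b)⁻¹ * (a' * b')⁻¹
        = a * (b * (a' * b') * b⁻¹) * a⁻¹ * (a' * b')⁻¹ := by group
      _ = a * (a' * b') * a⁻¹ * (a' * b')⁻¹ := by rw [hb1.mul_inv_cancel]
      _ = a * a' * (b' * a⁻¹ * b'⁻¹) * a'⁻¹ := by group
      _ = a * a' * a⁻¹ * a'⁻¹ := by rw [hb2.mul_inv_cancel]
  rw [e]
  exact Subgroup.commutator_mem_commutator ha ha'

end general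

variable {G : Type*} [Group G] [Finite G]

omit [Finite G] in
theorem centralizer_conjSub_le' (g : G) {X K : Subgroup G}
    (h : Subgroup.centralizer (X : Set G) ≤ K) :
    Subgroup.centralizer ((conjSub g X : Subgroup G) : Set G) ≤ conjSub g K := by
  intro u hu
  rw [mem_conjSub]
  apply h
  rw [Subgroup.mem_centralizer_iff]
  intro x hx
  have h1 : g * x * g⁻¹ ∈ conjSub g X := conj_mem_conjSub hx
  have h2 := Subgroup.mem_centralizer_iff.mp hu _ h1
  have e1 : x * (g⁻¹ * u * g) = g⁻¹ * (g * x * g⁻¹ * u) * g := by group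
  have e2 : g⁻¹ * u * g * x = g⁻¹ * (u * (g * x * g⁻¹)) * g := by group
  rw [e1, e2, h2]

/-- an overgroup of a uniqueness subgroup -/
theorem uniq_of_ge {B K M : Subgroup G} (hB : Cfsg.InUniqueMaximal B) (hM : IsCoatom M)
    (hBM : B ≤ M) (hBK : B ≤ K) (hK : K ≠ ⊤) :
    K ≤ M ∧ ∀ L : Subgroup G, IsCoatom L → K ≤ L → L = M := by
  have hu : ∀ L : Subgroup G, IsCoatom L → B ≤ L → L = M :=
    fun L hL hBL => hB.unique ⟨hL, hBL⟩ ⟨hM, hBM⟩
  obtain ⟨L, hL, hKL⟩ := Cfsg.Agent.Lib.Helper11.BenderE.exists_coatom_ge K hK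
  have := hu L hL (hBK.trans hKL)
  exact ⟨this ▸ hKL, fun L' hL' hKL' => hu L' hL' (hBK.trans hKL')⟩

/-- the conclusion on `C_G(X)` is invariant under conjugation by elements of `M` -/
theorem centralizer_uniq_of_conj {X M : Subgroup G} {m : G} (hm : m ∈ M)
    (h : Subgroup.centralizer ((conjSub m X : Subgroup G) : Set G) ≤ M ∧
      ∀ L : Subgroup G, IsCoatom L →
        Subgroup.centralizer ((conjSub m X : Subgroup G) : Set G) ≤ L → L = M) :
    Subgroup.centralizer (X : Set G) ≤ M ∧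
      ∀ L : Subgroup G, IsCoatom L → Subgroup.centralizer (X : Set G) ≤ L → L = M := by
  have hmM : conjSub m M = M := conjSub_eq_of_mem_normalizer (Subgroup.le_normalizer hm)
  have hmM' : conjSub m⁻¹ M = M :=
    conjSub_eq_of_mem_normalizer (Subgroup.le_normalizer (M.inv_mem hm))
  have hX : conjSub m⁻¹ (conjSub m X) = X := by
    rw [conjSub_mul, inv_mul_cancel, conjSub_one]
  constructor
  · have := centralizer_conjSub_le' m⁻¹ h.1
    rwa [hX, hmM'] at this
  · intro L hL hXL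
    have h1 := centralizer_conjSub_le' m hXL
    have h2 := h.2 _ (Cfsg.Agent.Lib.Helper11.BenderF.isCoatom_conjSub m hL) h1
    have h3 : L = conjSub m⁻¹ (conjSub m L) := by
      rw [conjSub_mul, inv_mul_cancel, conjSub_one]
    rw [h3, h2, hmM']

/-- an elementary abelian subgroup of order more than `p ^ 2` is a uniqueness subgroup -/
theorem unique_of_elemAb_cube (hG : Cfsg.IsMinSimpleOddOrder G) {p : ℕ} [hp : Fact p.Prime]
    {B : Subgroup G} (hBe : Cfsg.IsElementaryAbelian p B) (hc : p ^ 2 < Nat.card B) :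
    Cfsg.InUniqueMaximal B := by
  have hBp : IsPGroup p B := fun ⟨y, hy⟩ => ⟨1, Subtype.ext (by rw [pow_one]; exact hBe.2 y hy)⟩
  have hBtop := pgroup_ne_top hG p B hBp
  have h2 : ¬ Cfsg.PRankLE p 2 B := not_pRankLE_of_elemAb le_rfl hBe hc
  have h1 : ¬ Cfsg.PRankLE p 1 B :=
    not_pRankLE_of_elemAb le_rfl hBe
      (lt_trans (Nat.pow_lt_pow_right hp.out.one_lt (by norm_num)) hc)
  exact Cfsg.Agent.S1403.result hG B hBtop (fun h => h1 (h p hp.out))
    (Or.inl (fun h => h2 (h p hp.out)))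

/-- the case of an ideal prime -/
theorem beta_case (hG : Cfsg.IsMinSimpleOddOrder G) (p : ℕ) [hp : Fact p.Prime]
    (hideal : Cfsg.IsIdealPrime p G) (S : Subgroup G) (hStop : IsSylowIn p S ⊤)
    (X : Subgroup G) (hXS : X ≤ S) (hX : Nat.card X = p) :
    ∃ B : Subgroup G, B ≤ S ∧ B ≤ Subgroup.centralizer (X : Set G) ∧ Cfsg.InUniqueMaximal B := by
  obtain ⟨-, hrG, hext⟩ := hideal
  have hSp := hStop.isPGroup
  by_cases hXc : X ≤ Subgroup.centralizer (S : Set G)
  · unfold Cfsg.PRankLE at hrG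
    push Not at hrG
    obtain ⟨A₀, hA₀c, hA₀p, hA₀card⟩ := hrG
    have hA₀e : Cfsg.IsElementaryAbelian p A₀ := ⟨hA₀c, hA₀p⟩
    have hA₀pg : IsPGroup p A₀ :=
      fun ⟨y, hy⟩ => ⟨1, Subtype.ext (by rw [pow_one]; exact hA₀p y hy)⟩
    obtain ⟨g, -, hle⟩ := hStop.exists_conj_le le_top hA₀pg
    refine ⟨conjSub g A₀, hle, ?_, unique_of_elemAb_cube hG
      (Cfsg.Agent.Lib.Helper11.BenderF.elemAb_conjSub p g hA₀e)
      (by rw [card_conjSub]; exact hA₀card)⟩
    exact hle.trans (Subgroup.le_centralizer_iff.mp hXc)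
  · have hX1 : X ≠ ⊥ := Cfsg.Agent.Lib.Helper18.BGThirteenA.ne_bot_of_card_prime hp.out hX
    have hS1 : S ≠ ⊥ := by
      rintro rfl
      exact hX1 (eq_bot_iff.mpr hXS)
    obtain ⟨z, hzS, hzo, hzc⟩ := Cfsg.Agent.Lib.helper17.exists_central_orderOf_eq_prime hSp hS1
    obtain ⟨x₀, hx₀⟩ := Subgroup.ne_bot_iff_exists_ne_one.mp hX1
    have hx₀X : (x₀ : G) ∈ X := x₀.2
    have hx₀1 : (x₀ : G) ≠ 1 := fun h => hx₀ (Subtype.ext h)
    have hXgen := zpowers_eq_of_card_prime hp.out hX hx₀X hx₀1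
    have hx₀p : (x₀ : G) ^ p = 1 := by
      haveI : Finite X := Nat.finite_of_card_ne_zero (by rw [hX]; exact hp.out.ne_zero)
      have := pow_card_eq_one' (G := X) (x := x₀)
      rw [hX] at this
      exact congrArg Subtype.val this
    have hzp : z ^ p = 1 := hzo ▸ pow_orderOf_eq_one z
    have hz1 : z ≠ 1 := by
      intro h
      rw [h, orderOf_one] at hzo
      exact hp.out.one_lt.ne hzo
    have hcomm : Commute (x₀ : G) z := hzc x₀ (hXS hx₀X)
    have hzle : Subgroup.zpowers z ≤ Subgroup.centralizer (S : Set G) := by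
      rw [Subgroup.zpowers_le, Subgroup.mem_centralizer_iff]
      exact fun s hs => hzc s hs
    have hx₀z : (x₀ : G) ∉ Subgroup.zpowers z := by
      intro hh
      apply hXc
      rw [← hXgen, Subgroup.zpowers_le]
      exact hzle hh
    obtain ⟨hAe, hAc⟩ := elemAb_sup_zpowers hcomm hx₀p hzp hz1 hx₀z
    have hAS : Subgroup.zpowers (x₀ : G) ⊔ Subgroup.zpowers z ≤ S :=
      sup_le (by rw [Subgroup.zpowers_le]; exact hXS hx₀X) (by rw [Subgroup.zpowers_le]; exact hzS)
    have hidx : ¬ p ∣ S.index := by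
      have := hStop.not_dvd
      rwa [Subgroup.relIndex_top_right] at this
    obtain ⟨S', hS'⟩ : ∃ S' : Sylow p G, (S' : Subgroup G) = S := ⟨hSp.toSylow hidx, rfl⟩
    obtain ⟨B, hBS, hBe, hAB⟩ := hext S' _ (by rw [hS']; exact hAS) hAe hAc
    rw [hS'] at hBS
    refine ⟨B, hBS, ?_, unique_of_elemAb_cube hG hBe ?_⟩
    · have hXB : X ≤ B := by
        rw [← hXgen]
        exact le_sup_left.trans hAB.le
      exact (Cfsg.Agent.Lib.Helper9.rc_le_centralizer_self hBe).trans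
        (Subgroup.centralizer_le hXB)
    · rw [← hAc]
      by_contra hle
      push Not at hle
      exact hAB.ne (Subgroup.eq_of_le_of_card_ge hAB.le hle)

/-- the case `X ≤ S'` for a Sylow subgroup `S` of `G` -/
theorem derived_case (hG : Cfsg.IsMinSimpleOddOrder G)
    (h1422 : ∀ (q : ℕ) [Fact q.Prime] (Q : Subgroup G), IsPGroup q Q → ¬ IsMulCommutative Q →
      Cfsg.InUniqueMaximal Q)
    (p : ℕ) [hp : Fact p.Prime] (S : Subgroup G) (hStop : IsSylowIn p S ⊤)
    (X : Subgroup G) (hX : Nat.card X = p) (hXS : X ≤ ⁅S, S⁆) :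
    ∃ B : Subgroup G, B ≤ S ∧ B ≤ Subgroup.centralizer (X : Set G) ∧ Cfsg.InUniqueMaximal B := by
  have hSp := hStop.isPGroup
  have hX1 : X ≠ ⊥ := Cfsg.Agent.Lib.Helper18.BGThirteenA.ne_bot_of_card_prime hp.out hX
  have hXleS : X ≤ S := hXS.trans (Subgroup.commutator_le_self S)
  have hS1 : S ≠ ⊥ := by
    rintro rfl
    exact hX1 (eq_bot_iff.mpr hXleS)
  have hXe : Cfsg.IsElementaryAbelian p X := by
    haveI : Finite X := Nat.finite_of_card_ne_zero (by rw [hX]; exact hp.out.ne_zero)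
    constructor
    · haveI := isCyclic_of_prime_card hX
      exact IsCyclic.isMulCommutative
    · intro a ha
      have := pow_card_eq_one' (G := X) (x := ⟨a, ha⟩)
      rw [hX] at this
      exact congrArg Subtype.val this
  have hXcent : X ≤ Subgroup.centralizer (X : Set G) :=
    Cfsg.Agent.Lib.Helper9.rc_le_centralizer_self hXe
  have hSna : ¬ IsMulCommutative S := by
    intro hc
    apply hX1
    rw [eq_bot_iff]
    refine hXS.trans ?_
    rw [Subgroup.commutator_le]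
    intro a ha b hb
    rw [Subgroup.mem_bot, commutatorElement_eq_one_iff_mul_comm]
    have := hc.is_comm.comm ⟨a, ha⟩ ⟨b, hb⟩
    exact congrArg (fun t : S => (t : G)) this
  refine ⟨S ⊓ Subgroup.centralizer (X : Set G), inf_le_left, inf_le_right, ?_⟩
  obtain ⟨C, hC⟩ : ∃ C : Subgroup G, C = S ⊓ Subgroup.centralizer (X : Set G) := ⟨_, rfl⟩
  rw [← hC]
  have hCS : C ≤ S := hC ▸ inf_le_left
  have hCp : IsPGroup p C := hSp.to_le hCS
  by_cases hCna : IsMulCommutative C
  swap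
  · exact h1422 p C hCp hCna
  by_cases hr : Cfsg.PRankLE p 2 C
  swap
  · have hCtop := pgroup_ne_top hG p C hCp
    have hr1 : ¬ Cfsg.PRankLE p 1 C := fun h => hr (fun A hA hAp =>
      (h A hA hAp).trans (Nat.pow_le_pow_right hp.out.pos (by norm_num)))
    exact Cfsg.Agent.S1403.result hG C hCtop (fun h => hr1 (h p hp.out))
      (Or.inl (fun h => hr (h p hp.out)))
  exfalso
  have hCcomm : ∀ a ∈ C, ∀ b ∈ C, a * b = b * a :=
    (Cfsg.Agent.Lib.Helper1.isMulCommutative_subgroup_iff C).mp hCna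
  have hidx : ¬ p ∣ S.index := by
    have := hStop.not_dvd
    rwa [Subgroup.relIndex_top_right] at this
  obtain ⟨S', hS'⟩ : ∃ S' : Sylow p G, (S' : Subgroup G) = S := ⟨hSp.toSylow hidx, rfl⟩
  by_cases hrS : Cfsg.PRankLE p 2 S
  · rcases Cfsg.Agent.S1412.result hG p S' (hS' ▸ hrS) with
      hab | ⟨P₁, P₂, hsup, hcomm, hna, hcard, -, hcyc, -⟩
    · exact hSna (hS' ▸ hab)
    rw [hS'] at hsup
    have hP₂ab : ∀ b ∈ P₂, ∀ b' ∈ P₂, b * b' = b' * b := by
      haveI := hcyc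
      have : IsMulCommutative P₂ := IsCyclic.isMulCommutative
      exact (Cfsg.Agent.Lib.Helper1.isMulCommutative_subgroup_iff P₂).mp this
    have h1 : ⁅S, S⁆ ≤ P₁ ⊓ Subgroup.centralizer (P₁ : Set G) := by
      rw [← hsup, ← Cfsg.Agent.Lib.Helper18.BGTenD.commutator_eq_inf_centralizer p P₁ hcard hna]
      exact commutator_sup_le hcomm hP₂ab
    have hXcS : X ≤ Subgroup.centralizer (S : Set G) := by
      intro x hx
      obtain ⟨hx1, hx2⟩ := h1 (hXS hx)
      have hle : P₁ ⊔ P₂ ≤ Subgroup.centralizer ({x} : Set G) := by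
        apply sup_le
        · intro a ha
          rw [Subgroup.mem_centralizer_iff]
          intro t ht
          rw [Set.mem_singleton_iff] at ht
          subst ht
          exact (Subgroup.mem_centralizer_iff.mp hx2 a ha).symm
        · intro b hb
          rw [Subgroup.mem_centralizer_iff]
          intro t ht
          rw [Set.mem_singleton_iff] at ht
          subst ht
          exact hcomm t hx1 b hb
      rw [Subgroup.mem_centralizer_iff]
      intro s hs
      rw [← hsup] at hs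
      exact (Subgroup.mem_centralizer_iff.mp (hle hs) x rfl).symm
    apply hSna
    have hSC : S ≤ C := by
      rw [hC]
      exact le_inf le_rfl (Subgroup.le_centralizer_iff.mp hXcS)
    rw [Cfsg.Agent.Lib.Helper1.isMulCommutative_subgroup_iff]
    exact fun a ha b hb => hCcomm a (hSC ha) b (hSC hb)
  · have hp2 : p ≠ 2 := Cfsg.Agent.Lib.Helper11.BenderD.odd_prime_of_pgroup hG p S hS1 hSp
    have hnc : ¬ IsCyclic S := fun h => hSna IsCyclic.isMulCommutative
    obtain ⟨N, hNS, hSN, hNe, hNc⟩ :=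
      Cfsg.Agent.Lib.Helper11.BenderF.exists_normal_sq p hp2 S hSp hnc
    haveI hNn : (N.subgroupOf S).Normal :=
      (Subgroup.normal_subgroupOf_iff_le_normalizer hNS).mpr hSN
    have hNcard : Nat.card (N.subgroupOf S) = p ^ 2 := by
      rw [Cfsg.Agent.Lib.Helper5.card_subgroupOf_of_le hNS, hNc]
    have hSp' : IsPGroup p ↥S := hSp
    have h1 := commutator_le_centralizer_of_normal_sq hSp' (N.subgroupOf S) hNcard
    have hXN : N ≤ Subgroup.centralizer (X : Set G) := by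
      rw [Subgroup.le_centralizer_iff]
      intro x hx
      have hx' := hXS hx
      rw [← Subgroup.map_subtype_commutator] at hx'
      obtain ⟨x', hx'c, rfl⟩ := hx'
      have h2 := h1 hx'c
      rw [Subgroup.mem_centralizer_iff]
      intro n hn
      have := Subgroup.mem_centralizer_iff.mp h2 ⟨n, hNS hn⟩ (Subgroup.mem_subgroupOf.mpr hn)
      exact congrArg (fun t : S => (t : G)) this
    have hNC : N ≤ C := by
      rw [hC]
      exact le_inf hNS hXN
    have hXC : X ≤ C := by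
      rw [hC]
      exact le_inf hXleS hXcent
    have hXNe : Cfsg.IsElementaryAbelian p (X ⊔ N) :=
      Cfsg.Agent.Lib.Helper9.rc_ea_sup hXe hNe (fun a ha b hb => hCcomm a (hXC ha) b (hNC hb))
    have hXNcard : Nat.card ↥(X ⊔ N) ≤ p ^ 2 := by
      by_contra hlt
      push Not at hlt
      exact not_pRankLE_of_elemAb (sup_le hXC hNC) hXNe hlt hr
    have hXleN : X ≤ N := by
      have : N = X ⊔ N :=
        Subgroup.eq_of_le_of_card_ge le_sup_right (by rw [hNc]; exact hXNcard)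
      rw [this]
      exact le_sup_left
    have hrS' : ¬ Cfsg.PRankLE p 2 ↥S := hrS
    have hNe' : Cfsg.IsElementaryAbelian p (N.subgroupOf S) :=
      Cfsg.Agent.Lib.Helper5.elemAb_comap_of_injective S.subtype S.subtype_injective hNe
    obtain ⟨A, hNA, -, hAc, hAr⟩ :=
      Cfsg.Agent.S1452.result p hp2 hSp' hrS' (N.subgroupOf S) hNe' hNcard
    have hAab : ∀ a ∈ A, ∀ b ∈ A, a * b = b * a := by
      intro a ha b hb
      have : a ∈ Subgroup.centralizer (A : Set S) := by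
        rw [hAc]
        exact ha
      exact (Subgroup.mem_centralizer_iff.mp this b hb).symm
    have hAC : ∀ a : A, ((a : S) : G) ∈ C := by
      intro a
      rw [hC]
      refine ⟨(a : S).2, ?_⟩
      show ((a : S) : G) ∈ Subgroup.centralizer (X : Set G)
      rw [Subgroup.mem_centralizer_iff]
      intro x hx
      have hxN : (⟨x, hXleS hx⟩ : S) ∈ A := hNA (Subgroup.mem_subgroupOf.mpr (hXleN hx))
      have := hAab _ hxN a a.2
      exact congrArg (fun t : S => (t : G)) this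
    have hf : Function.Injective (((S.subtype).comp A.subtype).codRestrict C hAC) := by
      intro a b hab
      have := congrArg (fun t : C => (t : G)) hab
      exact Subtype.ext (Subtype.ext this)
    exact hAr (Cfsg.Agent.Lib.Helper11.RankTwoTower.prank_of_injective _ hf hr)

/-- **B & G, Corollary 12.14**, given Lemma 12.13 -/
theorem twelve_fourteen (hG : Cfsg.IsMinSimpleOddOrder G)
    (h1422 : ∀ (q : ℕ) [Fact q.Prime] (Q : Subgroup G), IsPGroup q Q → ¬ IsMulCommutative Q →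
      Cfsg.InUniqueMaximal Q)
    (M : Subgroup G) (hM : IsCoatom M) (p : ℕ) [hp : Fact p.Prime] (hpσ : p ∈ Cfsg.sigma M)
    (X : Subgroup G) (hXM : X ≤ M) (hX : Nat.card X = p)
    (P : Sylow p ↥(Cfsg.sigmaCore M))
    (h : p ∈ Cfsg.beta M ∨ X ≤ ⁅Cfsg.sigmaCore M, Cfsg.sigmaCore M⁆) :
    (Subgroup.centralizer (X : Set G) ≤ M ∧
      ∀ L : Subgroup G, IsCoatom L → Subgroup.centralizer (X : Set G) ≤ L → L = M) ∧
      Cfsg.InUniqueMaximal
        ((P : Subgroup ↥(Cfsg.sigmaCore M)).map (Cfsg.sigmaCore M).subtype) ∧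
      (P : Subgroup ↥(Cfsg.sigmaCore M)).map (Cfsg.sigmaCore M).subtype ≤ M := by
  haveI : IsSimpleGroup G := hG.2.1
  obtain ⟨S, hSdef⟩ : ∃ S : Subgroup G,
    S = (P : Subgroup ↥(Cfsg.sigmaCore M)).map (Cfsg.sigmaCore M).subtype := ⟨_, rfl⟩
  rw [← hSdef]
  have hSσ : IsSylowIn p S (Cfsg.sigmaCore M) := hSdef ▸ isSylowIn_of_sylow P
  have hσM := Cfsg.Agent.Lib.Helper18.BGThirteenA.sigmaCore_le M
  have hSM : S ≤ M := hSσ.le.trans hσM
  have hSp := hSσ.isPGroup
  obtain ⟨S₀, hS₀⟩ := exists_good_of_sigma M p hpσ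
  have hS₀σ : S₀ ≤ Cfsg.sigmaCore M :=
    Cfsg.Agent.Lib.Helper1.BG12.pgroup_le_sigmaCore hG M hM p hpσ S₀ hS₀.1.le hS₀.1.isPGroup
  obtain ⟨x, hx, hle⟩ := hSσ.exists_conj_le hS₀σ hS₀.1.isPGroup
  have hgx := good_conj hS₀ (hσM hx)
  have hSeq : conjSub x S₀ = S := (hgx.1.eq_of_le hSM hSp hle).symm
  have hgood : Good M p S := hSeq ▸ hgx
  have hStop := hgood.2.2
  have hStop' : S ≠ ⊤ := pgroup_ne_top hG p S hSp
  have hXp : IsPGroup p X := IsPGroup.of_card (n := 1) (by rw [hX, pow_one])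
  obtain ⟨m, hm, hmX⟩ := hgood.1.exists_conj_le hXM hXp
  have hX'card : Nat.card (conjSub m X) = p := by rw [card_conjSub, hX]
  have hX'1 : conjSub m X ≠ ⊥ :=
    Cfsg.Agent.Lib.Helper18.BGThirteenA.ne_bot_of_card_prime hp.out hX'card
  have hB : ∃ B : Subgroup G, B ≤ S ∧
      B ≤ Subgroup.centralizer ((conjSub m X : Subgroup G) : Set G) ∧
      Cfsg.InUniqueMaximal B := by
    by_cases hβ : p ∈ Cfsg.beta M
    · exact beta_case hG p hβ.2 S hStop (conjSub m X) hmX hX'card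
    · have hXd : X ≤ ⁅Cfsg.sigmaCore M, Cfsg.sigmaCore M⁆ := h.resolve_left hβ
      apply derived_case hG h1422 p S hStop (conjSub m X) hX'card
      have hnorm : M ≤ Subgroup.normalizer
          ((⁅Cfsg.sigmaCore M, Cfsg.sigmaCore M⁆ : Subgroup G) : Set G) :=
        (Cfsg.Agent.Lib.Helper1.BG12.le_normalizer_sigmaCore M).trans
          (Cfsg.Agent.Lib.Helper1.le_normalizer_commutator_self _)
      have hX'd : conjSub m X ≤ ⁅Cfsg.sigmaCore M, Cfsg.sigmaCore M⁆ := by
        have := conjSub_mono (g := m) hXd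
        rwa [conjSub_eq_of_mem_normalizer (hnorm hm)] at this
      have hnpc := ((Cfsg.Agent.S1414.result hG M hM).2.2.2.2 p hp.out hpσ.2.1 hβ).2.1
      obtain ⟨K, hKn, hKc⟩ := (Cfsg.Agent.Lib.Helper1.hasNormalPComplement_iff P).mp hnpc
      haveI := hKn
      have h1 := commutator_inf_le_of_normal_compl K (P : Subgroup ↥(Cfsg.sigmaCore M))
        hKc.disjoint.eq_bot hKc.sup_eq_top
      intro x hx
      have hx1 := hX'd hx
      rw [← Subgroup.map_subtype_commutator] at hx1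
      obtain ⟨x₁, hx₁, rfl⟩ := hx1
      have hx2 := hmX hx
      rw [hSdef] at hx2
      obtain ⟨x₂, hx₂, hx₂e⟩ := hx2
      have : x₂ = x₁ := Subtype.ext hx₂e
      subst this
      have h3 := h1 ⟨hx₁, hx₂⟩
      rw [hSdef, ← Subgroup.map_commutator]
      exact ⟨x₂, h3, rfl⟩
  obtain ⟨B, hBS, hBC, hBu⟩ := hB
  have hCtop : Subgroup.centralizer ((conjSub m X : Subgroup G) : Set G) ≠ ⊤ := by
    intro h
    have hX'top : conjSub m X ≠ ⊤ := pgroup_ne_top hG p _ (conjSub_isPGroup hXp)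
    apply Cfsg.Agent.Lib.Helper11.normalizer_ne_top_of_simple hX'1 hX'top
    rw [eq_top_iff, ← h]
    exact Subgroup.centralizer_le_normalizer _
  refine ⟨centralizer_uniq_of_conj hm (uniq_of_ge hBu hM (hBS.trans hSM) hBC hCtop), ?_, hSM⟩
  obtain ⟨-, hu⟩ := uniq_of_ge hBu hM (hBS.trans hSM) hBS hStop'
  exact ⟨M, ⟨hM, hSM⟩, fun L hL => hu L hL.1 hL.2⟩

end Cfsg.Agent.Lib.Helper18.BGTwelveD
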