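import Mathlib
import Cfsg.Agent.S1423
import Cfsg.Agent.S1426
import Cfsg.Agent.Lib.Helper18.SigPartC
import Cfsg.Agent.Lib.Helper18.BGTwelveA

/-!
# The Hall subgroup of `C_G(P)` in the asymmetric configuration
-/

set_option autoImplicit false

namespace Cfsg.Agent.Lib.Helper18.SigPartD

open Cfsg Cfsg.Agent.Lib Cfsg.Agent.Lib.Helper18 Cfsg.Agent.Lib.Helper18.SigPartB
open Cfsg.Agent.Lib.Helper18.SigPartC
open Cfsg.Agent.Lib.Helper11.BenderM

variable {G : Type*} [Group G] [Finite G]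

theorem conjSub_le_normalizer {W T : Subgroup G} (h : W ≤ Subgroup.normalizer (T : Set G)) (g : G) :
    conjSub g W ≤ Subgroup.normalizer ((conjSub g T : Subgroup G) : Set G) := by
  intro w hw
  rw [mem_conjSub] at hw
  apply mem_normalizer_of_conjSub_le
  rw [conjSub_mul]
  have e : w * g = g * (g⁻¹ * w * g) := by group
  rw [e, ← conjSub_mul, conjSub_eq_of_mem_normalizer (h hw)]

omit [Finite G] in
theorem conjSub_ne_bot {X : Subgroup G} (h : X ≠ ⊥) (g : G) : conjSub g X ≠ ⊥ := by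
  intro h1
  apply h
  rw [eq_bot_iff] at h1 ⊢
  intro x hx
  have := h1 (conj_mem_conjSub (g := g) hx)
  rw [Subgroup.mem_bot] at this ⊢
  have e : x = g⁻¹ * (g * x * g⁻¹) * g := by group
  rw [e, this]
  group

/-- an `s`-subgroup of `M` (for `s ∈ β(M)`) has its normalizer inside `M` -/
theorem normalizer_le_of_beta (hG : Cfsg.IsMinSimpleOddOrder G) {M : Subgroup G} (hM : IsCoatom M)
    {s : ℕ} [hs : Fact s.Prime] (hsβ : s ∈ Cfsg.beta M) {T : Subgroup G} (hT : IsPGroup s T)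
    (hT1 : T ≠ ⊥) (hTM : T ≤ M) : Subgroup.normalizer (T : Set G) ≤ M := by
  have hsσ : s ∈ Cfsg.sigma M := beta_sub_sigma hG hM hsβ
  have hsd : s ∣ Nat.card T := by
    obtain ⟨k, hk⟩ := IsPGroup.iff_card.mp hT
    have hk0 : k ≠ 0 := by
      rintro rfl
      rw [pow_zero] at hk
      exact hT1 (Subgroup.card_eq_one.mp hk)
    rw [hk]
    exact dvd_pow_self s hk0
  obtain ⟨x, hx⟩ := exists_prime_orderOf_dvd_card' (G := ↥T) s hsd
  have hxo : orderOf (x : G) = s := by rw [Subgroup.orderOf_coe]; exact hx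
  have hX₀ : Nat.card (Subgroup.zpowers (x : G)) = s := by rw [Nat.card_zpowers]; exact hxo
  have hX₀T : Subgroup.zpowers (x : G) ≤ T := Subgroup.zpowers_le.mpr x.2
  obtain ⟨S₀⟩ : Nonempty (Sylow s ↥(Cfsg.sigmaCore M)) := inferInstance
  have h23 := fun (X : Subgroup G) (hXM : X ≤ M) (hX : Nat.card X = s) =>
    (Cfsg.Agent.S1423.result hG M hM s hsσ X hXM hX S₀ (Or.inl hsβ)).1
  intro n hn
  have h1 := h23 _ (hX₀T.trans hTM) hX₀
  have hle : conjSub n (Subgroup.zpowers (x : G)) ≤ M := by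
    have : conjSub n (Subgroup.zpowers (x : G)) ≤ conjSub n T := conjSub_mono hX₀T
    rw [conjSub_eq_of_mem_normalizer hn] at this
    exact this.trans hTM
  have h2 := h23 _ hle (by rw [card_conjSub]; exact hX₀)
  have h3 : Subgroup.centralizer ((conjSub n (Subgroup.zpowers (x : G)) : Subgroup G) : Set G) ≤
      conjSub n M := Helper28.BGt.centralizer_conjSub_le n h1.1
  have h4 : conjSub n M = M := h2.2 _ (Helper11.BenderF.isCoatom_conjSub n hM) h3
  exact Helper28.BGt.mem_of_conjSub_coatom_eq hG hM h4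

/-- the key step: a `π`-Hall-type subgroup `W` with a normal `s`-subgroup, `s ∈ β(M)`, containing a
nontrivial subgroup of `M_β`, lies in `M`. -/
theorem key1 (hG : Cfsg.IsMinSimpleOddOrder G) {M : Subgroup G} (hM : IsCoatom M)
    {s : ℕ} [hs : Fact s.Prime] (hsβ : s ∈ Cfsg.beta M) {T W X : Subgroup G} (hT : IsPGroup s T)
    (hT1 : T ≠ ⊥) (hWT : W ≤ Subgroup.normalizer (T : Set G)) (hXW : X ≤ W) (hX1 : X ≠ ⊥)
    (hXb : X ≤ Mb M) : W ≤ M := by
  have hsσ : s ∈ Cfsg.sigma M := beta_sub_sigma hG hM hsβ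
  obtain ⟨S, hS⟩ := exists_good_of_sigma M s hsσ
  obtain ⟨g, -, hgT⟩ := hS.2.2.exists_conj_le le_top hT
  have hTgM : conjSub g T ≤ M := hgT.trans hS.1.le
  have hN : Subgroup.normalizer ((conjSub g T : Subgroup G) : Set G) ≤ M :=
    normalizer_le_of_beta hG hM hsβ (conjSub_isPGroup hT) (conjSub_ne_bot hT1 g) hTgM
  have hWg : conjSub g W ≤ M := (conjSub_le_normalizer hWT g).trans hN
  have hXg : conjSub g X ≤ M := (conjSub_mono hXW).trans hWg
  have hXgb : conjSub g X ≤ Mb M := by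
    apply le_Mb hG hM hXg
    intro r hr hd
    rw [card_conjSub] at hd
    exact Mb_prime M hr (hd.trans (Subgroup.card_dvd_of_le hXb))
  have hgM : g ∈ M := by
    by_contra hgn
    obtain ⟨E, hE⟩ := BGTwelveA.exists_complIn_sigmaCore hG M hM
    have h26 := ((Cfsg.Agent.S1426.result hG M hM E hE).2.2 g hgn).2.1
    have hne : Nat.card ↥(conjSub g X) ≠ 1 := by
      intro h
      exact conjSub_ne_bot hX1 g (Subgroup.card_eq_one.mp h)
    obtain ⟨r, hr, hrd⟩ := Nat.exists_prime_and_dvd hne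
    have hle : conjSub g X ≤ Cfsg.sigmaCore M ⊓ M.map (MulAut.conj g).toMonoidHom :=
      le_inf (hXgb.trans (Mb_le_sigmaCore hG hM))
        (conjSub_mono (hXb.trans (Mb_le M)))
    exact h26 r hr (hrd.trans (Subgroup.card_dvd_of_le hle))
      (Mb_prime M hr (hrd.trans (Subgroup.card_dvd_of_le hXgb)))
  have h1 : W ≤ conjSub g⁻¹ M := conjSub_le_iff.mp hWg
  have h2 : conjSub g⁻¹ M = M := by
    apply conjSub_eq_of_mem_normalizer
    exact Subgroup.le_normalizer (M.inv_mem hgM)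
  rwa [h2] at h1

end Cfsg.Agent.Lib.Helper18.SigPartD
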