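import Mathlib
import Cfsg.Agent.Lib.Helper18.SigPartE

/-!
# The centralizer `C_M(P) = C_{M_β}(P) C_N(P)` in the asymmetric configuration
-/

set_option autoImplicit false

namespace Cfsg.Agent.Lib.Helper18.SigPartF

open Cfsg Cfsg.Agent.Lib Cfsg.Agent.Lib.Helper18 Cfsg.Agent.Lib.Helper18.SigPartB
open Cfsg.Agent.Lib.Helper18.SigPartC Cfsg.Agent.Lib.Helper18.SigPartD
open Cfsg.Agent.Lib.Helper11.BenderM

open scoped Pointwise

variable {G : Type*} [Group G] [Finite G]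

omit [Finite G] in
theorem le_normalizer_inf {E A B : Subgroup G} (hA : E ≤ Subgroup.normalizer (A : Set G))
    (hB : E ≤ Subgroup.normalizer (B : Set G)) :
    E ≤ Subgroup.normalizer ((A ⊓ B : Subgroup G) : Set G) := by
  intro e he
  rw [Subgroup.mem_normalizer_iff]
  intro x
  rw [Subgroup.mem_inf, Subgroup.mem_inf, Subgroup.mem_normalizer_iff.mp (hA he) x,
    Subgroup.mem_normalizer_iff.mp (hB he) x]

namespace Cfg'

variable {M L Q P : Subgroup G} {q p : ℕ}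

theorem P_inf_Mb (c : Cfg M L Q P q p) : P ⊓ Mb M = ⊥ :=
  SigPartA.inf_eq_bot_of_coprime' c.cop_P.symm

theorem Mb_normalizer_le (c : Cfg M L Q P q p) :
    Mb M ⊓ Subgroup.normalizer (P : Set G) ≤ Subgroup.centralizer (P : Set G) :=
  SigPartA.le_centralizer_of_disjoint inf_le_left (c.PleM.trans (le_normalizer_Mb M)) inf_le_right
    (P_inf_Mb c)

theorem P_isPGroup (c : Cfg M L Q P q p) : IsPGroup p P := by
  haveI := c.factp
  apply IsPGroup.of_card (n := 1)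
  rw [pow_one]
  exact c.hPc

theorem cent_cover (c : Cfg M L Q P q p) :
    ∀ m ∈ M ⊓ Subgroup.centralizer (P : Set G),
      ∃ x ∈ Mb M ⊓ Subgroup.centralizer (P : Set G),
        ∃ n ∈ Subgroup.normalizer (Q : Set G) ⊓ Subgroup.centralizer (P : Set G), m = x * n := by
  haveI := c.factp
  rintro m ⟨hm, hmC⟩
  obtain ⟨a, ha, n, hn, rfl⟩ := c.cover m hm
  obtain ⟨R, hR⟩ : ∃ R : Subgroup G, R = Subgroup.normalizer (Q : Set G) ⊓ Mb M := ⟨_, rfl⟩
  have hRN : R ≤ Subgroup.normalizer (Q : Set G) := hR ▸ inf_le_left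
  have hRb : R ≤ Mb M := hR ▸ inf_le_right
  have hPR : P ≤ Subgroup.normalizer (R : Set G) := by
    rw [hR]
    exact le_normalizer_inf (c.hPN.trans Subgroup.le_normalizer) (c.PleM.trans (le_normalizer_Mb M))
  have hcopR : ¬ p ∣ Nat.card R := by
    intro hd
    have h1 : p ∣ Nat.card (Mb M) := hd.trans (Subgroup.card_dvd_of_le hRb)
    have h2 := c.cop_P
    rw [c.hPc] at h2
    exact (Nat.Prime.coprime_iff_not_dvd c.hp).mp h2.symm h1
  have hSyl : IsSylowIn p P (P ⊔ R) := by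
    refine ⟨le_sup_left, P_isPGroup c, ?_⟩
    rw [relIndex_sup_of_le_normalizer P R hPR]
    intro hd
    exact hcopR (hd.trans (Subgroup.relIndex_dvd_card P R))
  have hconj : conjSub a⁻¹ P ≤ P ⊔ R := by
    intro y hy
    rw [mem_conjSub, inv_inv] at hy
    -- `a * y * a⁻¹ ∈ P`
    obtain ⟨e, he, hey⟩ : ∃ e ∈ P, y = a⁻¹ * e * a := ⟨a * y * a⁻¹, hy, by group⟩
    have hcomm : e * (a * n) = a * n * e := (Subgroup.mem_centralizer_iff.mp hmC) e he
    have h1 : a⁻¹ * e * a = n * e * n⁻¹ := by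
      have : e * a = a * n * e * n⁻¹ := by
        rw [← hcomm]; group
      rw [mul_assoc, this]; group
    have heN : e ∈ Subgroup.normalizer (Q : Set G) := c.hPN he
    have h2 : a⁻¹ * e * a ∈ Subgroup.normalizer (Q : Set G) := by
      rw [h1]
      exact Subgroup.mul_mem _ (Subgroup.mul_mem _ hn heN) (Subgroup.inv_mem _ hn)
    have h3 : a⁻¹ * e * a * e⁻¹ ∈ R := by
      rw [hR]
      refine Subgroup.mem_inf.mpr ⟨Subgroup.mul_mem _ h2 (Subgroup.inv_mem _ heN), ?_⟩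
      have h4 : e * a * e⁻¹ ∈ Mb M :=
        (Subgroup.mem_normalizer_iff.mp (le_normalizer_Mb M (c.PleM he)) a).mp ha
      have e4 : a⁻¹ * e * a * e⁻¹ = a⁻¹ * (e * a * e⁻¹) := by group
      show a⁻¹ * e * a * e⁻¹ ∈ Mb M
      rw [e4]
      exact Subgroup.mul_mem _ (Subgroup.inv_mem _ ha) h4
    have e5 : y = (a⁻¹ * e * a * e⁻¹) * e := by rw [hey]; group
    rw [e5]
    exact mul_mem (Subgroup.mem_sup_right h3) (Subgroup.mem_sup_left he)
  obtain ⟨k, hk, hle⟩ := hSyl.exists_conj_le hconj (conjSub_isPGroup (P_isPGroup c))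
  rw [conjSub_mul] at hle
  have hkn : k * a⁻¹ ∈ Subgroup.normalizer (P : Set G) := mem_normalizer_of_conjSub_le hle
  have hk' : k⁻¹ ∈ R ⊔ P := by rw [sup_comm]; exact inv_mem hk
  obtain ⟨r, hr, e₀, he₀, hre⟩ := Helper10.SigmaJsubD.mem_sup_of_le_normalizer hPR hk'
  have hk2 : k = e₀⁻¹ * r⁻¹ := by
    have : k = (k⁻¹)⁻¹ := (inv_inv k).symm
    rw [this, hre]; group
  have harn : a * r ∈ Subgroup.normalizer (P : Set G) := by
    have h1 : e₀ * (k * a⁻¹) ∈ Subgroup.normalizer (P : Set G) :=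
      mul_mem (Subgroup.le_normalizer he₀) hkn
    have e1 : e₀ * (k * a⁻¹) = (a * r)⁻¹ := by rw [hk2]; group
    rw [e1] at h1
    exact (Subgroup.inv_mem_iff _).mp h1
  have harb : a * r ∈ Mb M := mul_mem ha (hRb hr)
  have harC : a * r ∈ Subgroup.centralizer (P : Set G) := Mb_normalizer_le c ⟨harb, harn⟩
  refine ⟨a * r, ⟨harb, harC⟩, r⁻¹ * n, ⟨Subgroup.mul_mem _ (Subgroup.inv_mem _ (hRN hr)) hn, ?_⟩, by group⟩
  have e2 : r⁻¹ * n = (a * r)⁻¹ * (a * n) := by group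
  rw [e2]
  exact Subgroup.mul_mem _ (Subgroup.inv_mem _ harC) hmC

end Cfg'

end Cfsg.Agent.Lib.Helper18.SigPartF
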