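import Mathlib
import Cfsg.Agent.Lib.Helper18.SigPartF

/-!
# The contradiction in the asymmetric configuration
-/

set_option autoImplicit false

namespace Cfsg.Agent.Lib.Helper18.SigPartG

open Cfsg Cfsg.Agent.Lib Cfsg.Agent.Lib.Helper18 Cfsg.Agent.Lib.Helper18.SigPartB
open Cfsg.Agent.Lib.Helper18.SigPartC Cfsg.Agent.Lib.Helper18.SigPartD
open Cfsg.Agent.Lib.Helper18.SigPartE Cfsg.Agent.Lib.Helper18.SigPartF
open Cfsg.Agent.Lib.Helper11.BenderM

open scoped Pointwise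

variable {G : Type*} [Group G] [Finite G]

variable {M L Q P : Subgroup G} {q p : ℕ}

theorem final (c : Cfg M L Q P q p) {z : G} (hz : z ∈ Subgroup.centralizer (P : Set G))
    (hYM : conjSub z (Mb L ⊓ Subgroup.centralizer (P : Set G)) ≤ M) : False := by
  haveI hMs : Group.IsSolvable ↥M := Helper11.MaxSubB.coatom_solvable c.hG M c.hM
  obtain ⟨Γ, hΓ⟩ : ∃ Γ : Subgroup G, Γ = M ⊓ Subgroup.centralizer (P : Set G) := ⟨_, rfl⟩
  obtain ⟨Γ', hΓ'⟩ : ∃ Γ' : Subgroup G,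
    Γ' = Subgroup.normalizer (Q : Set G) ⊓ Subgroup.centralizer (P : Set G) := ⟨_, rfl⟩
  obtain ⟨X, hX⟩ : ∃ X : Subgroup G, X = Mb M ⊓ Subgroup.centralizer (P : Set G) := ⟨_, rfl⟩
  obtain ⟨Y, hY⟩ : ∃ Y : Subgroup G, Y = Mb L ⊓ Subgroup.centralizer (P : Set G) := ⟨_, rfl⟩
  rw [← hY] at hYM
  have hΓM : Γ ≤ M := hΓ ▸ inf_le_left
  have hΓ'Γ : Γ' ≤ Γ := by
    rw [hΓ, hΓ']
    exact inf_le_inf_right _ c.hNM
  have hXΓ : X ≤ Γ := by
    rw [hΓ, hX]
    exact inf_le_inf_right _ (Mb_le M)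
  haveI hΓs : Group.IsSolvable ↥Γ := Lead.solvable_of_le hΓM
  haveI hΓ's : Group.IsSolvable ↥Γ' := Lead.solvable_of_le (hΓ'Γ.trans hΓM)
  have hsep := Helper20.piSepS_of_solvable {r | r.Prime ∧ r ∉ Cfsg.beta M} ↥Γ
  have hsep' := Helper20.piSepS_of_solvable {r | r.Prime ∧ r ∉ Cfsg.beta M} ↥Γ'
  -- a Hall subgroup `K₀` of `Γ'`
  obtain ⟨K₀, hK₀le, hK₀1, hK₀2, -⟩ := Helper20.hall_rel_dominance _ Γ' hsep' ⊥ bot_le (by
    rw [Subgroup.card_bot]; exact Helper20.piNum_one _)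
  -- `Γ = Γ' X`
  have hΓ'X : Γ' ≤ Subgroup.normalizer (X : Set G) := by
    rw [hX]
    apply le_normalizer_inf
    · exact (hΓ'Γ.trans hΓM).trans (le_normalizer_Mb M)
    · rw [hΓ']
      exact inf_le_right.trans Subgroup.le_normalizer
  have hΓeq : Γ = Γ' ⊔ X := by
    apply le_antisymm
    · intro m hm
      rw [hΓ] at hm
      obtain ⟨x, hx, n, hn, rfl⟩ := Cfg'.cent_cover c m hm
      rw [hX, hΓ']
      exact mul_mem (Subgroup.mem_sup_right hx) (Subgroup.mem_sup_left hn)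
    · exact sup_le hΓ'Γ hXΓ
  have hidx : ∀ r : ℕ, r.Prime → r ∣ Γ'.relIndex Γ → r ∈ Cfsg.beta M := by
    intro r hr hd
    rw [hΓeq, relIndex_sup_of_le_normalizer Γ' X hΓ'X] at hd
    have h1 : r ∣ Nat.card X := hd.trans (Subgroup.relIndex_dvd_card Γ' X)
    rw [hX] at h1
    exact Mb_prime M hr (h1.trans (Subgroup.card_dvd_of_le inf_le_left))
  have hK₀3 : Helper20.PiNum' {r | r.Prime ∧ r ∉ Cfsg.beta M} (K₀.relIndex Γ) := by
    intro r hr hrσ hd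
    rw [← Subgroup.relIndex_mul_relIndex K₀ Γ' Γ hK₀le hΓ'Γ] at hd
    rcases (Nat.Prime.dvd_mul hr).mp hd with h | h
    · exact hK₀2 r hr hrσ h
    · exact hrσ.2 (hidx r hr h)
  -- the conjugate of `Y` in `Γ`
  have hYC : Y ≤ Subgroup.centralizer (P : Set G) := hY ▸ inf_le_right
  have hYzΓ : conjSub z Y ≤ Γ := by
    rw [hΓ]
    exact le_inf hYM (conjSub_le_of_mem hYC hz)
  have hYprime : ∀ r : ℕ, r.Prime → r ∣ Nat.card Y → r ∈ Cfsg.beta L := by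
    intro r hr hd
    rw [hY] at hd
    exact Mb_prime L hr (hd.trans (Subgroup.card_dvd_of_le inf_le_left))
  have hYzπ : Helper20.PiNum {r | r.Prime ∧ r ∉ Cfsg.beta M} (Nat.card ↥(conjSub z Y)) := by
    intro r hr hd
    rw [card_conjSub] at hd
    exact ⟨hr, c.symm.beta_disj (hYprime r hr hd)⟩
  obtain ⟨T₁, hT₁le, hT₁1, hT₁2, hYT₁⟩ := Helper20.hall_rel_dominance _ Γ hsep _ hYzΓ hYzπ
  obtain ⟨g, hg, hgT⟩ := Helper20.hall_rel_conj _ Γ hsep T₁ K₀ hT₁le hT₁1 hT₁2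
    (hK₀le.trans hΓ'Γ) hK₀1 hK₀3
  rw [smul_eq_conjSub] at hgT
  have h1 : conjSub (g * z) Y ≤ Γ' := by
    rw [← conjSub_mul]
    exact ((conjSub_mono hYT₁).trans (le_of_eq hgT)).trans hK₀le
  have hgC : g * z ∈ Subgroup.centralizer (P : Set G) := by
    rw [hΓ] at hg
    exact Subgroup.mul_mem _ hg.2 hz
  have h2 : conjSub (g * z) Y ≤ Subgroup.normalizer (Q : Set G) := by
    rw [hΓ'] at h1
    exact h1.trans inf_le_left
  have h3 : conjSub (g * z) Y ≤ Mb L := by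
    apply le_Mb c.hG c.hL (h2.trans c.hNL)
    intro r hr hd
    rw [card_conjSub] at hd
    exact hYprime r hr hd
  have h4 : conjSub (g * z) Y ≤ Y := by
    rw [hY]
    refine le_inf (hY ▸ h3) ?_
    rw [← hY]
    exact conjSub_le_of_mem hYC hgC
  have h5 : conjSub (g * z) Y = Y := conjSub_eq_of_le h4
  have hYN : Y ≤ Subgroup.normalizer (Q : Set G) := h5 ▸ h2
  have hYb : Y ≤ Mb L := hY ▸ inf_le_left
  have hYQ : Y ≤ Subgroup.centralizer (Q : Set G) :=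
    SigPartA.le_centralizer_of_disjoint hYb (c.symm.QleM.trans (le_normalizer_Mb L)) hYN
      c.symm.Q_inf_Mb
  apply c.symm.X_not_le
  rw [← hY]
  exact hYQ

/-- **Asymmetry for σ-primes**: the configuration is impossible. -/
theorem false_of_cfg (c : Cfg M L Q P q p) : False := by
  rcases hall_step c with ⟨z, hz, h⟩ | ⟨z, hz, h⟩
  · exact final c hz h
  · exact final c.symm hz h

end Cfsg.Agent.Lib.Helper18.SigPartG
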