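import Mathlib
import Cfsg.Agent.S1411
import Cfsg.Agent.Lib.Helper18.SigPartG
import Cfsg.Agent.Lib.Helper1.CoprimeAbelian
import Cfsg.Agent.Lib.Helper1.BG12.TwelveOne
import Cfsg.Agent.Lib.Helper1.BG12.TauHall
import Cfsg.Agent.Lib.Helper11.ThirteenB

/-!
# Helper lemmas for the reduction of the sigma-partition theorem
-/

set_option autoImplicit false

namespace Cfsg.Agent.Lib.Helper18.SigPartH

open Cfsg Cfsg.Agent.Lib Cfsg.Agent.Lib.Helper18 Cfsg.Agent.Lib.Helper18.SigPartB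
open Cfsg.Agent.Lib.Helper11.BenderM

open scoped Pointwise

variable {G : Type*} [Group G] [Finite G]

/-- a subgroup `D` of `N` containing, for every prime `r`, a subgroup of `r'`-index in `N` is `N` -/
theorem le_of_forall_sylow {N D : Subgroup G}
    (h : ∀ r : ℕ, r.Prime → ∃ R : Subgroup G, R ≤ D ∧ ¬ r ∣ R.relIndex N) : N ≤ D := by
  rw [← Subgroup.relIndex_eq_one]
  by_contra hne
  obtain ⟨r, hr, hrd⟩ := Nat.exists_prime_and_dvd hne
  obtain ⟨R, hRD, hRn⟩ := h r hr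
  exact hRn (hrd.trans (Subgroup.relIndex_dvd_of_le_left N hRD))

/-- a `τ₁(M)`-subgroup of `M` is cyclic -/
theorem cyclic_of_tau1 (hG : Cfsg.IsMinSimpleOddOrder G) {M F : Subgroup G} (hFM : F ≤ M)
    (hF : ∀ r : ℕ, r.Prime → r ∣ Nat.card F → r ∈ Cfsg.tau1 M) : IsCyclic F := by
  have hodd : Odd (Nat.card ↥M) := Helper11.MaxSubB.coatom_odd hG M
  have hc : Nat.card (F.subgroupOf M) = Nat.card F := Helper5.card_subgroupOf_of_le hFM
  have := Helper1.BG12.hall_tau1_cyclic (Γ := ↥M) hodd (F.subgroupOf M) (by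
    intro r hr hrd
    rw [hc] at hrd
    obtain ⟨_, _, _, hnd, hrk⟩ := hF r hr hrd
    refine ⟨?_, hrk⟩
    rw [Helper1.BG12.card_commutator_subgroup]
    exact hnd)
  exact isCyclic_of_surjective _ (Subgroup.subgroupOfEquivOfLe hFM).surjective

/-- Schur–Zassenhaus: a Sylow subgroup has a complement in its normalizer -/
theorem exists_compl_normalizer {q : ℕ} [hq : Fact q.Prime] {Q : Subgroup G}
    (hQ : IsSylowIn q Q ⊤) :
    ∃ V : Subgroup G, Cfsg.IsComplIn Q V (Subgroup.normalizer (Q : Set G)) ∧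
      (Nat.card V).Coprime (Nat.card Q) := by
  obtain ⟨N, hN⟩ : ∃ N : Subgroup G, N = Subgroup.normalizer (Q : Set G) := ⟨_, rfl⟩
  rw [← hN]
  have hQN : Q ≤ N := hN ▸ Subgroup.le_normalizer
  haveI hn : (Q.subgroupOf N).Normal := by
    rw [hN]; exact Subgroup.normal_in_normalizer
  have hc : Nat.card (Q.subgroupOf N) = Nat.card Q := Helper5.card_subgroupOf_of_le hQN
  have hnd : ¬ q ∣ (Q.subgroupOf N).index := (hQ.of_le hQN le_top).not_dvd
  obtain ⟨k, hk⟩ := IsPGroup.iff_card.mp hQ.isPGroup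
  have hcop : (Nat.card (Q.subgroupOf N)).Coprime (Q.subgroupOf N).index := by
    rw [hc, hk]
    apply Nat.Coprime.pow_left
    exact (Nat.Prime.coprime_iff_not_dvd hq.out).mpr hnd
  obtain ⟨K, hK⟩ := Subgroup.exists_right_complement'_of_coprime hcop
  have hcardK : Nat.card K = (Q.subgroupOf N).index := by
    have h1 := hK.card_mul_card
    have h2 := (Q.subgroupOf N).card_mul_index
    have hpos : 0 < Nat.card (Q.subgroupOf N) := Nat.card_pos
    exact Nat.eq_of_mul_eq_mul_left hpos (h1.trans h2.symm)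
  refine ⟨K.map N.subtype, ⟨hQN, Subgroup.map_subtype_le _, ?_, ?_⟩, ?_⟩
  · rw [eq_bot_iff]
    rintro x ⟨hxQ, ⟨k', hk', rfl⟩⟩
    have : k' ∈ Q.subgroupOf N ⊓ K := ⟨Subgroup.mem_subgroupOf.mpr hxQ, hk'⟩
    rw [hK.disjoint.eq_bot, Subgroup.mem_bot] at this
    rw [Subgroup.mem_bot, this]
    rfl
  · intro m hm
    have hmem : (⟨m, hm⟩ : ↥N) ∈ ((Q.subgroupOf N : Subgroup ↥N) : Set ↥N) * (K : Set ↥N) := by
      rw [hK.mul_eq]
      trivial
    obtain ⟨a, ha, b, hb, hab⟩ := hmem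
    refine ⟨(a : G), Subgroup.mem_subgroupOf.mp ha, (b : G), ⟨b, hb, rfl⟩, ?_⟩
    have := congrArg Subtype.val hab
    simpa using this.symm
  · rw [Subgroup.card_map_of_injective N.subtype_injective, hcardK, hk]
    apply Nat.Coprime.pow_right
    exact ((Nat.Prime.coprime_iff_not_dvd hq.out).mpr hnd).symm

/-- for an abelian Sylow subgroup `Q` of `G`, `C_Q(N_G(Q)) = 1` -/
theorem fix_normalizer_eq_bot (hG : Cfsg.IsMinSimpleOddOrder G) {q : ℕ} [hq : Fact q.Prime]
    {Q : Subgroup G} (hQ : IsSylowIn q Q ⊤) (hab : IsMulCommutative Q) :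
    Q ⊓ Subgroup.centralizer ((Subgroup.normalizer (Q : Set G) : Subgroup G) : Set G) = ⊥ := by
  obtain ⟨V, hV, hcop⟩ := exists_compl_normalizer hQ
  have hidx : ¬ q ∣ Q.index := by
    have := hQ.not_dvd
    rwa [Subgroup.relIndex_top_right] at this
  have hcoe : ((hQ.isPGroup.toSylow hidx : Sylow q G) : Subgroup G) = Q :=
    IsPGroup.toSylow_coe _ _
  have h11 := (Cfsg.Agent.S1411.result hG q (hQ.isPGroup.toSylow hidx) V (by rw [hcoe]; exact hV)).1
  rw [hcoe] at h11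
  have h2 := Helper1.inf_centralizer_inf_commutator_eq_bot V Q hV.2.1 hcop
  rw [← h11] at h2
  rw [eq_bot_iff, ← h2]
  intro x hx
  exact ⟨⟨hx.1, Subgroup.centralizer_le (SetLike.coe_subset_coe.mpr hV.2.1) hx.2⟩, hx.1⟩

end Cfsg.Agent.Lib.Helper18.SigPartH
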