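import Mathlib.GroupTheory.Sylow
import Mathlib.GroupTheory.Nilpotent
import Cfsg.Prelude.Def_IsolatedElements
import Cfsg.Agent.Lib.Helper18.SylowIn

namespace Cfsg.Agent.Lib.Helper18

variable {G : Type*} [Group G]

theorem exists_isSylowIn_ge [Finite G] {p : ℕ} [Fact p.Prime] {R H : Subgroup G} (hR : R ≤ H)
    (hRp : IsPGroup p R) : ∃ Q : Subgroup G, IsSylowIn p Q H ∧ R ≤ Q := by
  have hRp' : IsPGroup p (R.subgroupOf H) := hRp.comap_subtype
  obtain ⟨T, hT⟩ := hRp'.exists_le_sylow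
  refine ⟨(T : Subgroup ↥H).map H.subtype, isSylowIn_of_sylow T, ?_⟩
  intro y hy
  refine ⟨⟨y, hR hy⟩, hT ?_, rfl⟩
  simpa [Subgroup.mem_subgroupOf] using hy

theorem isPGroup_zpowers_of_orderOf {p : ℕ} [Fact p.Prime] {x : G} (hx : ∃ k : ℕ, orderOf x = p ^ k) :
    IsPGroup p (Subgroup.zpowers x) := by
  obtain ⟨k, hk⟩ := hx
  rintro ⟨g, hg⟩
  obtain ⟨n, rfl⟩ := Subgroup.mem_zpowers_iff.mp hg
  refine ⟨k, Subtype.ext ?_⟩
  simp only [Subgroup.coe_pow, Subgroup.coe_one]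
  rw [← zpow_natCast, ← zpow_mul, mul_comm, zpow_mul, zpow_natCast, ← hk, pow_orderOf_eq_one, one_zpow]

theorem orderOf_conj_h18 (g x : G) : orderOf (g * x * g⁻¹) = orderOf x := by
  have := orderOf_injective (MulAut.conj g).toMonoidHom (MulAut.conj g).injective x
  simpa using this

theorem isIsolated_conj {x : G} (h : Cfsg.IsIsolated x) (a : G) : Cfsg.IsIsolated (a * x * a⁻¹) := by
  intro g hg
  have h1 : Commute x ((a⁻¹ * g * a) * x * (a⁻¹ * g * a)⁻¹) := by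
    have h2 : (a⁻¹ * g * a) * x * (a⁻¹ * g * a)⁻¹ = a⁻¹ * (g * (a * x * a⁻¹) * g⁻¹) * a := by
      simp [mul_assoc]
    rw [h2]
    have h3 : x = a⁻¹ * (a * x * a⁻¹) * a := by simp [mul_assoc]
    have : Commute (a⁻¹ * (a * x * a⁻¹) * a) (a⁻¹ * (g * (a * x * a⁻¹) * g⁻¹) * a) := by
      have := hg.eq
      unfold Commute SemiconjBy
      calc a⁻¹ * (a * x * a⁻¹) * a * (a⁻¹ * (g * (a * x * a⁻¹) * g⁻¹) * a)
          = a⁻¹ * ((a * x * a⁻¹) * (g * (a * x * a⁻¹) * g⁻¹)) * a := by simp [mul_assoc]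
        _ = a⁻¹ * ((g * (a * x * a⁻¹) * g⁻¹) * (a * x * a⁻¹)) * a := by rw [this]
        _ = a⁻¹ * (g * (a * x * a⁻¹) * g⁻¹) * a * (a⁻¹ * (a * x * a⁻¹) * a) := by simp [mul_assoc]
    rwa [← h3] at this
  have h4 := h _ h1
  have h5 : g * (a * x * a⁻¹) * g⁻¹ = a * ((a⁻¹ * g * a) * x * (a⁻¹ * g * a)⁻¹) * a⁻¹ := by
    simp [mul_assoc]
  rw [h5, h4]

theorem isIsolated_commute_of_mem_pGroup [Finite G] {p : ℕ} [Fact p.Prime] {x : G}
    (h : Cfsg.IsIsolated x) {R : Subgroup G} (hR : IsPGroup p R) (hx : x ∈ R) :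
    ∀ r ∈ R, Commute r x := by
  have hnil : Group.IsNilpotent ↥R := hR.isNilpotent
  have hnc := Group.normalizerCondition_of_isNilpotent (G := ↥R)
  set C : Subgroup ↥R := Subgroup.centralizer ({(⟨x, hx⟩ : ↥R)} : Set ↥R) with hC
  have hxC : (⟨x, hx⟩ : ↥R) ∈ C := by
    rw [hC, Subgroup.mem_centralizer_iff]
    intro y hy
    rw [Set.mem_singleton_iff] at hy
    rw [hy]
  by_cases htop : C = ⊤
  · intro r hr
    have : (⟨r, hr⟩ : ↥R) ∈ C := by rw [htop]; trivial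
    rw [hC, Subgroup.mem_centralizer_iff] at this
    have h1 := this ⟨x, hx⟩ (Set.mem_singleton _)
    have h2 := congrArg (Subtype.val) h1
    simp only [Subgroup.coe_mul] at h2
    exact h2.symm
  · exfalso
    have hlt : C < ⊤ := lt_top_iff_ne_top.mpr htop
    have h1 := hnc C hlt
    obtain ⟨z, hzN, hzC⟩ := SetLike.exists_of_lt h1
    apply hzC
    have h2 : z * ⟨x, hx⟩ * z⁻¹ ∈ C := (Subgroup.mem_normalizer_iff.mp hzN _).mp hxC
    rw [hC, Subgroup.mem_centralizer_iff] at h2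
    have h3 := h2 ⟨x, hx⟩ (Set.mem_singleton _)
    have h4 := congrArg (Subtype.val) h3
    simp only [Subgroup.coe_mul, Subgroup.coe_inv] at h4
    have h5 : Commute x ((z : G) * x * (z : G)⁻¹) := h4
    have h6 := h _ h5
    rw [hC, Subgroup.mem_centralizer_iff]
    intro y hy
    rw [Set.mem_singleton_iff] at hy
    rw [hy]
    apply Subtype.ext
    simp only [Subgroup.coe_mul]
    calc x * (z : G) = ((z : G) * x * (z : G)⁻¹) * z := by rw [h6]
      _ = z * x := by simp [mul_assoc]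

theorem isIsolated_normalizer_le_centralizer [Finite G] {p : ℕ} [Fact p.Prime] {x : G}
    (h : Cfsg.IsIsolated x) {R : Subgroup G} (hR : IsPGroup p R) (hx : x ∈ R) :
    Subgroup.normalizer (R : Set G) ≤ Subgroup.centralizer ({x} : Set G) := by
  intro n hn
  have h1 : n * x * n⁻¹ ∈ R := (Subgroup.mem_normalizer_iff.mp hn x).mp hx
  have h2 : Commute (n * x * n⁻¹) x := isIsolated_commute_of_mem_pGroup h hR hx _ h1
  have h3 := h n h2.symm
  rw [Subgroup.mem_centralizer_iff]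
  intro y hy
  rw [Set.mem_singleton_iff] at hy
  rw [hy]
  calc x * n = (n * x * n⁻¹) * n := by rw [h3]
    _ = n * x := by simp [mul_assoc]

theorem isIsolated_conj_zpow_eq [Finite G] {p : ℕ} [Fact p.Prime] {x : G}
    (h : Cfsg.IsIsolated x) (hx : ∃ k : ℕ, orderOf x = p ^ k) (k : ℤ) (g : G)
    (hc : Commute x (g * x ^ k * g⁻¹)) : g * x ^ k * g⁻¹ = x ^ k := by
  set x' : G := g * x * g⁻¹ with hx'
  have hy' : g * x ^ k * g⁻¹ = x' ^ k := by rw [hx', conj_zpow]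
  rw [hy'] at hc ⊢
  set C : Subgroup G := Subgroup.centralizer ({x' ^ k} : Set G) with hC
  have hxC : x ∈ C := by
    rw [hC, Subgroup.mem_centralizer_iff]
    intro y hy
    rw [Set.mem_singleton_iff] at hy
    rw [hy]
    exact hc.eq.symm
  have hx'C : x' ∈ C := by
    rw [hC, Subgroup.mem_centralizer_iff]
    intro y hy
    rw [Set.mem_singleton_iff] at hy
    rw [hy]
    exact ((Commute.refl x').zpow_left k).eq
  have hx'iso : Cfsg.IsIsolated x' := isIsolated_conj h g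
  have hox' : ∃ k : ℕ, orderOf x' = p ^ k := by
    obtain ⟨n, hn⟩ := hx
    refine ⟨n, ?_⟩
    rw [hx', ← hn]
    exact orderOf_conj_h18 g x
  have hzx' : Subgroup.zpowers x' ≤ C := by
    rw [Subgroup.zpowers_le]; exact hx'C
  have hzx : Subgroup.zpowers x ≤ C := by
    rw [Subgroup.zpowers_le]; exact hxC
  obtain ⟨Q, hQ, hQx'⟩ := exists_isSylowIn_ge hzx' (isPGroup_zpowers_of_orderOf hox')
  obtain ⟨c, hcC, hcle⟩ := hQ.exists_conj_le hzx (isPGroup_zpowers_of_orderOf hx)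
  have h1 : c * x * c⁻¹ ∈ Q := hcle (conj_mem_conjSub (Subgroup.mem_zpowers x))
  have h2 : x' ∈ Q := hQx' (Subgroup.mem_zpowers x')
  have h3 : Commute (c * x * c⁻¹) x' := isIsolated_commute_of_mem_pGroup hx'iso hQ.isPGroup h2 _ h1
  have h4 : Commute x ((c⁻¹ * g) * x * (c⁻¹ * g)⁻¹) := by
    have e1 : (c⁻¹ * g) * x * (c⁻¹ * g)⁻¹ = c⁻¹ * x' * c := by
      rw [hx']; simp [mul_assoc]
    rw [e1]
    unfold Commute SemiconjBy
    have := h3.eq
    calc x * (c⁻¹ * x' * c) = c⁻¹ * ((c * x * c⁻¹) * x') * c := by simp [mul_assoc]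
      _ = c⁻¹ * (x' * (c * x * c⁻¹)) * c := by rw [this]
      _ = c⁻¹ * x' * c * x := by simp [mul_assoc]
  have h5 := h _ h4
  have h6 : x' = c * x * c⁻¹ := by
    have e1 : (c⁻¹ * g) * x * (c⁻¹ * g)⁻¹ = c⁻¹ * x' * c := by
      rw [hx']; simp [mul_assoc]
    rw [e1] at h5
    calc x' = c * (c⁻¹ * x' * c) * c⁻¹ := by simp [mul_assoc]
      _ = c * x * c⁻¹ := by rw [h5]
  have h7 : x' ^ k = c * x ^ k * c⁻¹ := by rw [h6, conj_zpow]
  have h8 : c * x' ^ k = x' ^ k * c := by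
    rw [hC, Subgroup.mem_centralizer_iff] at hcC
    exact (hcC _ (Set.mem_singleton _)).symm
  calc x' ^ k = c⁻¹ * (c * x' ^ k) := by simp
    _ = c⁻¹ * (x' ^ k * c) := by rw [h8]
    _ = c⁻¹ * (c * x ^ k * c⁻¹ * c) := by rw [← h7]
    _ = x ^ k := by simp [mul_assoc]

end Cfsg.Agent.Lib.Helper18
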