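import Mathlib
import Cfsg.Agent.Lib.Helper18.SigPartH

/-!
# Elements of the normalizer of `Q` that centralize `Q`
-/

set_option autoImplicit false

namespace Cfsg.Agent.Lib.Helper18.SigPartI

open Cfsg Cfsg.Agent.Lib Cfsg.Agent.Lib.Helper18 Cfsg.Agent.Lib.Helper18.SigPartB
open Cfsg.Agent.Lib.Helper11.BenderM

open scoped Pointwise

variable {G : Type*} [Group G] [Finite G]

theorem coprime_pgroups {q r : ℕ} [hq : Fact q.Prime] [hr : Fact r.Prime] (hrq : r ≠ q)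
    {Q R : Subgroup G} (hQ : IsPGroup q Q) (hR : IsPGroup r R) :
    (Nat.card Q).Coprime (Nat.card R) := by
  obtain ⟨k, hk⟩ := IsPGroup.iff_card.mp hQ
  obtain ⟨l, hl⟩ := IsPGroup.iff_card.mp hR
  rw [hk, hl]
  apply Nat.Coprime.pow
  exact (Nat.coprime_primes hq.out hr.out).mpr (Ne.symm hrq)

/-- `σ(L)`-elements of `q'`-order in `N_G(Q)` centralize `Q` -/
theorem sigma_centralizes (hG : Cfsg.IsMinSimpleOddOrder G) {L : Subgroup G} (hL : IsCoatom L)
    {q : ℕ} [hq : Fact q.Prime] {Q : Subgroup G} (hQ : Good L q Q) (hqσ : q ∈ Cfsg.sigma L)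
    (hqβ : q ∉ Cfsg.beta L) {r : ℕ} [hr : Fact r.Prime] (hrq : r ≠ q) (hrσ : r ∈ Cfsg.sigma L)
    {R : Subgroup G} (hRN : R ≤ Subgroup.normalizer (Q : Set G)) (hR : IsPGroup r R) :
    R ≤ Subgroup.centralizer (Q : Set G) := by
  have hRL : R ≤ L := hRN.trans hQ.2.1
  have hcop := coprime_pgroups hrq hQ.1.isPGroup hR
  by_cases hrβ : r ∈ Cfsg.beta L
  · have hRb : R ≤ Mb L := by
      apply le_Mb hG hL hRL
      intro s hs hd
      rw [prime_dvd_pgroup hR hs hd]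
      exact hrβ
    have hQb : Q ⊓ Mb L = ⊥ := by
      apply SigPartA.inf_eq_bot_of_coprime'
      apply (coprime_Mb L _).symm
      intro s hs hd
      rw [prime_dvd_pgroup hQ.1.isPGroup hs hd]
      exact hqβ
    exact SigPartA.le_centralizer_of_disjoint hRb (hQ.1.le.trans (le_normalizer_Mb L)) hRN hQb
  · haveI hLs : Group.IsSolvable ↥L := Helper11.MaxSubB.coatom_solvable hG L hL
    haveI hσs : Group.IsSolvable ↥(Cfsg.sigmaCore L) :=
      Lead.solvable_of_le (Helper1.BG12.sigmaCore_le L)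
    have hQσ : Q ≤ Cfsg.sigmaCore L :=
      Helper1.BG12.pgroup_le_sigmaCore hG L hL q hqσ Q hQ.1.le hQ.1.isPGroup
    have hRσ : R ≤ Cfsg.sigmaCore L :=
      Helper1.BG12.pgroup_le_sigmaCore hG L hL r hrσ R hRL hR
    obtain ⟨-, -, -, ⟨H₀, hH₀, hH₀nil⟩, -⟩ := Cfsg.Agent.S1414.result hG L hL
    have hsep := Helper20.piSepS_of_solvable {s | s.Prime ∧ s ∉ Cfsg.beta L} ↥(Cfsg.sigmaCore L)
    have hKπ : Helper20.PiNum {s | s.Prime ∧ s ∉ Cfsg.beta L} (Nat.card ↥(Q ⊔ R)) := by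
      intro s hs hd
      refine ⟨hs, ?_⟩
      have h1 : s ∣ Nat.card Q * Nat.card R := hd.trans (Helper11.ThirteenB.card_sup_dvd Q R hRN)
      rcases (Nat.Prime.dvd_mul hs).mp h1 with h | h
      · rw [prime_dvd_pgroup hQ.1.isPGroup hs h]; exact hqβ
      · rw [prime_dvd_pgroup hR hs h]; exact hrβ
    obtain ⟨T, hTle, hT1, hT2, hKT⟩ :=
      Helper20.hall_rel_dominance _ (Cfsg.sigmaCore L) hsep (Q ⊔ R) (sup_le hQσ hRσ) hKπ
    obtain ⟨g, hg, hgT⟩ := Helper20.hall_rel_conj _ (Cfsg.sigmaCore L) hsep H₀ T hH₀.1 hH₀.2.1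
      hH₀.2.2 hTle hT1 hT2
    haveI hTnil : Group.IsNilpotent ↥T := by
      rw [← hgT]
      exact Group.nilpotent_of_mulEquiv (Subgroup.equivSMul (MulAut.conj g) H₀)
    have hKnil : Group.IsNilpotent ↥(Q ⊔ R) :=
      Group.nilpotent_of_mulEquiv (Subgroup.subgroupOfEquivOfLe hKT)
    have hRK : IsSylowIn r R (Q ⊔ R) := by
      refine ⟨le_sup_right, hR, ?_⟩
      rw [sup_comm, relIndex_sup_of_le_normalizer R Q hRN]
      intro hd
      have h1 : r ∣ Nat.card Q := hd.trans (Subgroup.relIndex_dvd_card R Q)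
      exact hrq (prime_dvd_pgroup hQ.1.isPGroup hr.out h1)
    have hKR : Q ⊔ R ≤ Subgroup.normalizer (R : Set G) :=
      Helper1.BG12.sylow_normal_of_nilpotent (Q ⊔ R) R r hKnil hRK (Q ⊔ R) Subgroup.le_normalizer
    exact SigPartA.le_centralizer_of_disjoint le_rfl (le_sup_left.trans hKR) hRN
      (SigPartA.inf_eq_bot_of_coprime' hcop)

end Cfsg.Agent.Lib.Helper18.SigPartI
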