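import Mathlib
import Cfsg.Agent.S1427
import Cfsg.Agent.Lib.Helper18.SigPartI

/-!
# Centralizers in `M_σ` of elements of prime order of a cyclic `τ₁(M)`-subgroup of a complement
-/

set_option autoImplicit false

namespace Cfsg.Agent.Lib.Helper18.SigPartJ

open Cfsg Cfsg.Agent.Lib Cfsg.Agent.Lib.Helper18 Cfsg.Agent.Lib.Helper18.SigPartB
open Cfsg.Agent.Lib.Helper18.SigPartH
open Cfsg.Agent.Lib.Helper11.BenderM

open scoped Pointwise

variable {G : Type*} [Group G] [Finite G]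

/-- the frozen form of B & G Lemma 13.4 -/
def H1428 (G : Type*) [Group G] : Prop :=
  ∀ (M : Subgroup G) (_ : IsCoatom M) (E : Subgroup G)
    (_ : Cfsg.IsComplIn E (Cfsg.sigmaCore M) M) (p : ℕ) (_ : p ∈ Cfsg.tau1 M)
    (P : Subgroup G) (_ : P ≤ E) (_ : Nat.card P = p) (R : Subgroup G)
    (_ : R ≤ E ⊓ Subgroup.centralizer (P : Set G)) (_ : (Nat.card R).Prime),
    Cfsg.sigmaCore M ⊓ Subgroup.centralizer (P : Set G) ≤
      Cfsg.sigmaCore M ⊓ Subgroup.centralizer (R : Set G)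

theorem dvd_card_of_pgroup_ne_bot {t : ℕ} [ht : Fact t.Prime] {T : Subgroup G} (hT : IsPGroup t T)
    (hT1 : T ≠ ⊥) : t ∣ Nat.card T := by
  obtain ⟨k, hk⟩ := IsPGroup.iff_card.mp hT
  have hk0 : k ≠ 0 := by
    rintro rfl
    rw [pow_zero] at hk
    exact hT1 (Subgroup.card_eq_one.mp hk)
  rw [hk]
  exact dvd_pow_self t hk0

theorem cent_prime_le (hG : Cfsg.IsMinSimpleOddOrder G) (h28 : H1428 G) {M : Subgroup G}
    (hM : IsCoatom M) {E : Subgroup G} (hE : Cfsg.IsComplIn E (Cfsg.sigmaCore M) M)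
    {E₁ : Subgroup G} (hE₁E : E₁ ≤ E)
    (hτ : ∀ r : ℕ, r.Prime → r ∣ Nat.card E₁ → r ∈ Cfsg.tau1 M) {r : ℕ} (hr : r ∈ Cfsg.tau1 M)
    {P : Subgroup G} (hPE₁ : P ≤ E₁) (hPc : Nat.card P = r) :
    Cfsg.sigmaCore M ⊓ Subgroup.centralizer (P : Set G) ≤ Subgroup.centralizer (E₁ : Set G) := by
  have hEM : E ≤ M := hE.1
  have hcyc : IsCyclic E₁ := cyclic_of_tau1 hG (hE₁E.trans hEM) hτ
  have hab : E₁ ≤ Subgroup.centralizer (E₁ : Set G) :=
    Subgroup.le_centralizer_iff_isMulCommutative.mpr IsCyclic.isMulCommutative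
  rw [Subgroup.le_centralizer_iff]
  have key : E₁ ≤ E₁ ⊓ Subgroup.centralizer
      ((Cfsg.sigmaCore M ⊓ Subgroup.centralizer (P : Set G) : Subgroup G) : Set G) := by
    apply le_of_forall_sylow
    intro t ht
    haveI : Fact t.Prime := ⟨ht⟩
    obtain ⟨S⟩ : Nonempty (Sylow t ↥E₁) := inferInstance
    have hS : IsSylowIn t ((S : Subgroup ↥E₁).map E₁.subtype) E₁ := isSylowIn_of_sylow S
    obtain ⟨T, hTdef⟩ : ∃ T : Subgroup G, T = (S : Subgroup ↥E₁).map E₁.subtype := ⟨_, rfl⟩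
    rw [← hTdef] at hS
    refine ⟨T, le_inf hS.le ?_, hS.not_dvd⟩
    by_cases hT1 : T = ⊥
    · rw [hT1]; exact bot_le
    have htd : t ∣ Nat.card T := dvd_card_of_pgroup_ne_bot hS.isPGroup hT1
    have htτ : t ∈ Cfsg.tau1 M := hτ t ht (htd.trans (Subgroup.card_dvd_of_le hS.le))
    obtain ⟨y, hy⟩ := exists_prime_orderOf_dvd_card' (G := ↥T) t htd
    have hyo : orderOf (y : G) = t := by rw [Subgroup.orderOf_coe]; exact hy
    have hy1 : (y : G) ≠ 1 := by
      intro h
      rw [h, orderOf_one] at hyo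
      exact ht.one_lt.ne hyo
    have hPt : Nat.card (Subgroup.zpowers (y : G)) = t := by rw [Nat.card_zpowers]; exact hyo
    have hPtT : Subgroup.zpowers (y : G) ≤ T := Subgroup.zpowers_le.mpr y.2
    have hPtE₁ : Subgroup.zpowers (y : G) ≤ E₁ := hPtT.trans hS.le
    have hPtC : Subgroup.zpowers (y : G) ≤ Subgroup.centralizer (P : Set G) :=
      (hPtE₁.trans hab).trans (Subgroup.centralizer_le (SetLike.coe_subset_coe.mpr hPE₁))
    have h1 := h28 M hM E hE r hr P (hPE₁.trans hE₁E) hPc (Subgroup.zpowers (y : G))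
      (le_inf (hPtE₁.trans hE₁E) hPtC) (by rw [hPt]; exact ht)
    -- a Sylow `t`-subgroup of `E` containing `T`
    have hTE : T ≤ E := hS.le.trans hE₁E
    have hTt : IsPGroup t (T.subgroupOf E) := hS.isPGroup.comap_subtype
    obtain ⟨St, hSt⟩ := hTt.exists_le_sylow
    have hTSt : T ≤ (St : Subgroup ↥E).map E.subtype := by
      intro u hu
      exact ⟨⟨u, hTE hu⟩, hSt (Subgroup.mem_subgroupOf.mpr hu), rfl⟩
    have hSt1 : (St : Subgroup ↥E) ≠ ⊥ := by
      intro h
      apply hT1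
      rw [eq_bot_iff]
      refine hTSt.trans ?_
      rw [h, Subgroup.map_bot]
    have hStc : IsCyclic (St : Subgroup ↥E) := by
      have hc : IsCyclic ((St : Subgroup ↥E).map E.subtype) := by
        apply cyclic_of_tau1 hG ((Subgroup.map_subtype_le _).trans hEM)
        intro s hs hd
        have hp : IsPGroup t ((St : Subgroup ↥E).map E.subtype) := St.isPGroup'.map _
        rw [prime_dvd_pgroup hp hs hd]
        exact htτ
      exact isCyclic_of_surjective _
        ((St : Subgroup ↥E).equivMapOfInjective E.subtype E.subtype_injective).symm.surjective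
    have h27 := Cfsg.Agent.S1427.result hG M hM E hE t St hSt1 hStc (y : G) (hTSt y.2) hy1
    -- conclusion
    rw [Subgroup.le_centralizer_iff]
    intro d hd
    have hd1 := h1 hd
    have hd2 : d ∈ Cfsg.sigmaCore M ⊓ Subgroup.centralizer ({(y : G)} : Set G) := by
      refine ⟨hd1.1, ?_⟩
      apply Subgroup.centralizer_le _ hd1.2
      intro u hu
      rw [Set.mem_singleton_iff] at hu
      rw [hu]
      exact Subgroup.mem_zpowers _
    rw [h27] at hd2
    exact Subgroup.centralizer_le (SetLike.coe_subset_coe.mpr hTSt) hd2.2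
  exact key.trans inf_le_right

end Cfsg.Agent.Lib.Helper18.SigPartJ
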