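import Mathlib
import Cfsg.Agent.S1422
import Cfsg.Agent.Lib.Helper18.SigPartJ
import Cfsg.Agent.Lib.Helper28.BGtJ

/-!
# The sigma-partition theorem: two maximal subgroups with a common `σ`-prime are conjugate
-/

set_option autoImplicit false

namespace Cfsg.Agent.Lib.Helper18.SigPartK

open Cfsg Cfsg.Agent.Lib Cfsg.Agent.Lib.Helper18 Cfsg.Agent.Lib.Helper18.SigPartB
open Cfsg.Agent.Lib.Helper18.SigPartH Cfsg.Agent.Lib.Helper18.SigPartI
open Cfsg.Agent.Lib.Helper18.SigPartJ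
open Cfsg.Agent.Lib.Helper11.BenderM

open scoped Pointwise

variable {G : Type*} [Group G] [Finite G]

theorem common_sylow_false (hG : Cfsg.IsMinSimpleOddOrder G) (h28 : H1428 G) {M L : Subgroup G}
    (hM : IsCoatom M) (hL : IsCoatom L) (hnc : ∀ g : G, L ≠ conjSub g M) {q : ℕ}
    [hq : Fact q.Prime] {Q : Subgroup G} (hQM : Good M q Q) (hQL : Good L q Q) (hQ1 : Q ≠ ⊥) :
    False := by
  have hnc' : ∀ g : G, M ≠ conjSub g L := by
    intro g h
    apply hnc g⁻¹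
    rw [h, conjSub_mul, inv_mul_cancel, conjSub_one]
  have hqσM : q ∈ Cfsg.sigma M := Helper1.BG12.sigma_of_good M q Q hQM hQ1
  have hqσL : q ∈ Cfsg.sigma L := Helper1.BG12.sigma_of_good L q Q hQL hQ1
  have hqβL : q ∉ Cfsg.beta L := by
    intro h
    obtain ⟨g, hg⟩ := Helper1.BG12.conj_of_alpha_sigma hG L M hL hM q h.1 hqσM
    exact hnc' g hg
  -- `Q` is abelian
  have hab : IsMulCommutative Q := by
    by_contra hna
    obtain ⟨X, -, huniq⟩ := Cfsg.Agent.S1422.result hG q Q hQM.1.isPGroup hna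
    have e1 : M = X := huniq M ⟨hM, hQM.1.le⟩
    have e2 : L = X := huniq L ⟨hL, hQL.1.le⟩
    apply hnc 1
    rw [conjSub_one, e1, e2]
  have habQ : Q ≤ Subgroup.centralizer (Q : Set G) :=
    Subgroup.le_centralizer_iff_isMulCommutative.mpr hab
  have hfix := fix_normalizer_eq_bot hG hQM.2.2 hab
  obtain ⟨N, hN⟩ : ∃ N : Subgroup G, N = Subgroup.normalizer (Q : Set G) := ⟨_, rfl⟩
  rw [← hN] at hfix
  have hQN : Q ≤ N := hN ▸ Subgroup.le_normalizer
  have hNM : N ≤ M := hN ▸ hQM.2.1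
  have hNL : N ≤ L := hN ▸ hQL.2.1
  have hQσL : Q ≤ Cfsg.sigmaCore L :=
    Helper1.BG12.pgroup_le_sigmaCore hG L hL q hqσL Q hQL.1.le hQL.1.isPGroup
  have hQσM : Q ≤ Cfsg.sigmaCore M :=
    Helper1.BG12.pgroup_le_sigmaCore hG M hM q hqσM Q hQM.1.le hQM.1.isPGroup
  -- elements of `N` of prime-power order for primes outside `τ₁(M) ∪ {q}` centralize `Q`
  have hcent : ∀ r : ℕ, r.Prime → r ≠ q → r ∉ Cfsg.tau1 M → ∀ R : Subgroup G, R ≤ N →
      IsPGroup r R → R ≤ Subgroup.centralizer (Q : Set G) := by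
    intro r hr hrq hrτ R hRN hR
    haveI : Fact r.Prime := ⟨hr⟩
    by_cases hrσ : r ∈ Cfsg.sigma L
    · exact sigma_centralizes hG hL hQL hqσL hqβL hrq hrσ (hN ▸ hRN) hR
    · by_cases hR1 : R = ⊥
      · rw [hR1]; exact bot_le
      have hrd : r ∣ Nat.card R := dvd_card_of_pgroup_ne_bot hR hR1
      have h13 := Helper11.ThirteenB.thirteen_one_a hG hL hM hnc'
        (hrd.trans (Subgroup.card_dvd_of_le (hRN.trans hNL))) hrσ
        (hrd.trans (Subgroup.card_dvd_of_le (hRN.trans hNM))) hrτ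
      intro x hx
      rw [Subgroup.mem_centralizer_iff]
      intro d hd
      obtain ⟨k, hk⟩ := hR ⟨x, hx⟩
      have hk' : x ^ r ^ k = 1 := by
        have := congrArg Subtype.val hk
        simpa using this
      exact (h13 x ⟨hNL (hRN hx), hNM (hRN hx)⟩ ⟨k, hk'⟩ d ⟨hQσL hd, hQM.1.le hd⟩).symm
  -- a Hall `τ₁(M)`-subgroup `E₁` of `N`
  haveI hMs : Group.IsSolvable ↥M := Helper11.MaxSubB.coatom_solvable hG M hM
  haveI hNs : Group.IsSolvable ↥N := Lead.solvable_of_le hNM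
  have hsepN := Helper20.piSepS_of_solvable (Cfsg.tau1 M) ↥N
  obtain ⟨E₁, hE₁N, hE₁1, hE₁2, -⟩ := Helper20.hall_rel_dominance _ N hsepN ⊥ bot_le (by
    rw [Subgroup.card_bot]; exact Helper20.piNum_one _)
  -- `C_Q(E₁) = 1`
  have hZ : Q ⊓ Subgroup.centralizer (E₁ : Set G) = ⊥ := by
    obtain ⟨Z, hZdef⟩ : ∃ Z : Subgroup G, Z = Q ⊓ Subgroup.centralizer (E₁ : Set G) := ⟨_, rfl⟩
    rw [← hZdef]
    have hZQ : Z ≤ Q := hZdef ▸ inf_le_left
    have hQZ : Subgroup.centralizer (Q : Set G) ≤ Subgroup.centralizer (Z : Set G) :=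
      Subgroup.centralizer_le (SetLike.coe_subset_coe.mpr hZQ)
    have hND : N ≤ N ⊓ Subgroup.centralizer (Z : Set G) := by
      apply le_of_forall_sylow
      intro r hr
      haveI : Fact r.Prime := ⟨hr⟩
      by_cases hrτ : r ∈ Cfsg.tau1 M
      · refine ⟨E₁, le_inf hE₁N ?_, hE₁2 r hr hrτ⟩
        rw [Subgroup.le_centralizer_iff, hZdef]
        exact inf_le_right
      by_cases hrq : r = q
      · subst hrq
        exact ⟨Q, le_inf hQN (habQ.trans hQZ), (hQM.2.2.of_le hQN le_top).not_dvd⟩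
      obtain ⟨S⟩ : Nonempty (Sylow r ↥N) := inferInstance
      have hS : IsSylowIn r ((S : Subgroup ↥N).map N.subtype) N := isSylowIn_of_sylow S
      exact ⟨_, le_inf hS.le ((hcent r hr hrq hrτ _ hS.le hS.isPGroup).trans hQZ), hS.not_dvd⟩
    have hZN : Z ≤ Subgroup.centralizer (N : Set G) := by
      rw [Subgroup.le_centralizer_iff]
      exact hND.trans inf_le_right
    rw [eq_bot_iff, ← hfix]
    exact le_inf hZQ hZN
  have hE₁0 : E₁ ≠ ⊥ := by
    intro h
    apply hQ1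
    rw [eq_bot_iff, ← hZ, h]
    intro x hx
    refine Subgroup.mem_inf.mpr ⟨hx, ?_⟩
    rw [Subgroup.mem_centralizer_iff]
    intro y hy
    rw [Subgroup.coe_bot, Set.mem_singleton_iff] at hy
    rw [hy, one_mul, mul_one]
  -- a complement `E ≥ E₁`
  obtain ⟨E, hE, hE₁E⟩ := Helper28.BGt.exists_compl_ge hG hM (hE₁N.trans hNM)
    (fun r hr hd => (hE₁1 r hr hd).2.1)
  -- a subgroup `P` of prime order `r` of `E₁`
  have hcard : Nat.card E₁ ≠ 1 := fun h => hE₁0 (Subgroup.card_eq_one.mp h)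
  obtain ⟨r, hr, hrd⟩ := Nat.exists_prime_and_dvd hcard
  haveI : Fact r.Prime := ⟨hr⟩
  have hrτ : r ∈ Cfsg.tau1 M := hE₁1 r hr hrd
  obtain ⟨x, hx⟩ := exists_prime_orderOf_dvd_card' (G := ↥E₁) r hrd
  have hxo : orderOf (x : G) = r := by rw [Subgroup.orderOf_coe]; exact hx
  have hPc : Nat.card (Subgroup.zpowers (x : G)) = r := by rw [Nat.card_zpowers]; exact hxo
  have hPE₁ : Subgroup.zpowers (x : G) ≤ E₁ := Subgroup.zpowers_le.mpr x.2
  have hD := cent_prime_le hG h28 hM hE hE₁E hE₁1 hrτ hPE₁ hPc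
  have hfpf : Q ⊓ Subgroup.centralizer ((Subgroup.zpowers (x : G) : Subgroup G) : Set G) = ⊥ := by
    rw [eq_bot_iff, ← hZ]
    intro u hu
    exact ⟨hu.1, hD ⟨hQσM hu.1, hu.2⟩⟩
  have c : SigPartC.Cfg M L Q (Subgroup.zpowers (x : G)) q r :=
    { hG := hG
      hM := hM
      hL := hL
      hnc := hnc
      hq := hq.out
      hp := hr
      hQ := hQM.2.2
      hQ1 := hQ1
      hNM := hQM.2.1
      hNL := hQL.2.1
      hPN := hN ▸ (hPE₁.trans hE₁N)
      hPc := hPc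
      hfpf := hfpf }
  exact SigPartG.false_of_cfg c

end Cfsg.Agent.Lib.Helper18.SigPartK
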