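import Mathlib
import Cfsg.Agent.Lib.Helper18.SigPartK
import Cfsg.Agent.Lib.Helper18.BGTenB

/-!
# The sigma-partition theorem (conditional on B & G Lemma 13.4)
-/

set_option autoImplicit false

namespace Cfsg.Agent.Lib.Helper18.SigPartL

open Cfsg Cfsg.Agent.Lib Cfsg.Agent.Lib.Helper18
open Cfsg.Agent.Lib.Helper18.SigPartJ Cfsg.Agent.Lib.Helper18.SigPartK
open Cfsg.Agent.Lib.Helper11.BenderM

variable {G : Type*} [Group G] [Finite G]

theorem sigma_partition (hG : Cfsg.IsMinSimpleOddOrder G) (h28 : H1428 G) :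
    (∀ p : ℕ, p.Prime → p ∣ Nat.card G → ∃ M : Subgroup G, IsCoatom M ∧ p ∈ Cfsg.sigma M) ∧
      ∀ M N : Subgroup G, IsCoatom M → IsCoatom N → (Cfsg.sigma M ∩ Cfsg.sigma N).Nonempty →
        ∃ g : G, N = M.map (MulAut.conj g).toMonoidHom := by
  constructor
  · intro p hp hpd
    haveI : Fact p.Prime := ⟨hp⟩
    obtain ⟨P⟩ : Nonempty (Sylow p G) := inferInstance
    have hP1 : (P : Subgroup G) ≠ ⊥ := by
      intro h
      have h1 := P.card_eq_multiplicity
      rw [h, Subgroup.card_bot] at h1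
      have h2 : (Nat.card G).factorization p = 0 := by
        by_contra hne
        have : 1 < p ^ (Nat.card G).factorization p := Nat.one_lt_pow hne hp.one_lt
        omega
      have h3 := (hp.dvd_iff_one_le_factorization Nat.card_pos.ne').mp hpd
      omega
    obtain ⟨M, hM, hgood⟩ := BGTenB.exists_coatom_good hG p P hP1
    exact ⟨M, hM, Helper1.BG12.sigma_of_good M p _ hgood hP1⟩
  · rintro M N hM hN ⟨q, hqM, hqN⟩
    by_contra hcon
    push Not at hcon
    haveI : Fact q.Prime := ⟨hqM.1⟩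
    obtain ⟨S, hS⟩ := exists_good_of_sigma M q hqM
    obtain ⟨R, hR⟩ := exists_good_of_sigma N q hqN
    have hS1 : S ≠ ⊥ := Helper1.BG12.good_ne_bot hS hqM.2.1
    obtain ⟨x, -, hle⟩ := hS.2.2.exists_conj_le le_top hR.1.isPGroup
    have hR' := Helper1.BG12.good_conjSub hR x
    have heq : conjSub x R = S := by
      apply Subgroup.eq_of_le_of_card_ge hle
      rw [card_conjSub]
      exact (hS.2.2.card_eq hR.2.2).le
    rw [heq] at hR'
    apply common_sylow_false hG h28 hM (Helper11.BenderF.isCoatom_conjSub x hN) _ hS hR' hS1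
    intro g h
    apply hcon (x⁻¹ * g)
    have h1 : conjSub x⁻¹ (conjSub x N) = conjSub x⁻¹ (conjSub g M) := by rw [h]
    rw [conjSub_mul, conjSub_mul, inv_mul_cancel, conjSub_one] at h1
    exact h1

end Cfsg.Agent.Lib.Helper18.SigPartL
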