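import Mathlib
import Cfsg.Agent.Lib.Helper18.SigPartG

/-!
# One-sided core of the asymmetry arguments (B & G 12.13 and the sigma-version)
-/

set_option autoImplicit false

namespace Cfsg.Agent.Lib.Helper18.Asym13A

open Cfsg Cfsg.Agent.Lib Cfsg.Agent.Lib.Helper18 Cfsg.Agent.Lib.Helper18.SigPartB
open Cfsg.Agent.Lib.Helper18.SigPartD Cfsg.Agent.Lib.Helper18.SigPartE
open Cfsg.Agent.Lib.Helper18.SigPartF

open scoped Pointwise

variable {G : Type*} [Group G] [Finite G]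

/-- the one-sided data: `M = M_β N_G(Q)`, `P` of prime order `p` normalizing the `q`-group `Q`,
`p, q ∉ β(M)`, and `C_{M_β}(P)` does not centralize `Q`. -/
structure Core (M Q P : Subgroup G) (q p : ℕ) : Prop where
  hG : Cfsg.IsMinSimpleOddOrder G
  hM : IsCoatom M
  hq : q.Prime
  hp : p.Prime
  hQq : IsPGroup q Q
  hQM : Q ≤ M
  hPM : P ≤ M
  hPN : P ≤ Subgroup.normalizer (Q : Set G)
  hPc : Nat.card P = p
  hqβ : q ∉ Cfsg.beta M
  hpβ : p ∉ Cfsg.beta M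
  cover : ∀ m ∈ M, ∃ a ∈ Mb M, ∃ n ∈ Subgroup.normalizer (Q : Set G), m = a * n
  hX : ¬ (Mb M ⊓ Subgroup.centralizer (P : Set G) ≤ Subgroup.centralizer (Q : Set G))

namespace Core

variable {M L Q P : Subgroup G} {q p : ℕ}

theorem factp (c : Core M Q P q p) : Fact p.Prime := ⟨c.hp⟩
theorem factq (c : Core M Q P q p) : Fact q.Prime := ⟨c.hq⟩

theorem X_ne_bot (c : Core M Q P q p) : Mb M ⊓ Subgroup.centralizer (P : Set G) ≠ ⊥ := by
  intro h
  apply c.hX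
  rw [h]
  exact bot_le

theorem P_ne_bot (c : Core M Q P q p) : P ≠ ⊥ := by
  intro h
  have h1 := c.hPc
  rw [h, Subgroup.card_bot] at h1
  exact c.hp.one_lt.ne h1

theorem cop_P (c : Core M Q P q p) : (Nat.card (Mb M)).Coprime (Nat.card P) := by
  apply coprime_Mb
  intro r hr hd
  rw [c.hPc] at hd
  rw [(Nat.prime_dvd_prime_iff_eq hr c.hp).mp hd]
  exact c.hpβ

theorem P_inf_Mb (c : Core M Q P q p) : P ⊓ Mb M = ⊥ :=
  SigPartA.inf_eq_bot_of_coprime' c.cop_P.symm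

theorem Mb_normalizer_le (c : Core M Q P q p) :
    Mb M ⊓ Subgroup.normalizer (P : Set G) ≤ Subgroup.centralizer (P : Set G) :=
  SigPartA.le_centralizer_of_disjoint inf_le_left (c.hPM.trans (le_normalizer_Mb M)) inf_le_right
    c.P_inf_Mb

theorem P_isPGroup (c : Core M Q P q p) : IsPGroup p P := by
  haveI := c.factp
  apply IsPGroup.of_card (n := 1)
  rw [pow_one]
  exact c.hPc

theorem cent_cover (c : Core M Q P q p) :
    ∀ m ∈ M ⊓ Subgroup.centralizer (P : Set G),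
      ∃ x ∈ Mb M ⊓ Subgroup.centralizer (P : Set G),
        ∃ n ∈ (M ⊓ Subgroup.normalizer (Q : Set G)) ⊓ Subgroup.centralizer (P : Set G),
          m = x * n := by
  haveI := c.factp
  rintro m ⟨hm, hmC⟩
  obtain ⟨a, ha, n, hn, rfl⟩ := c.cover m hm
  obtain ⟨R, hR⟩ : ∃ R : Subgroup G, R = Subgroup.normalizer (Q : Set G) ⊓ Mb M := ⟨_, rfl⟩
  have hRN : R ≤ Subgroup.normalizer (Q : Set G) := hR ▸ inf_le_left
  have hRb : R ≤ Mb M := hR ▸ inf_le_right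
  have hPR : P ≤ Subgroup.normalizer (R : Set G) := by
    rw [hR]
    exact le_normalizer_inf (c.hPN.trans Subgroup.le_normalizer) (c.hPM.trans (le_normalizer_Mb M))
  have hcopR : ¬ p ∣ Nat.card R := by
    intro hd
    have h1 : p ∣ Nat.card (Mb M) := hd.trans (Subgroup.card_dvd_of_le hRb)
    have h2 := c.cop_P
    rw [c.hPc] at h2
    exact (Nat.Prime.coprime_iff_not_dvd c.hp).mp h2.symm h1
  have hSyl : IsSylowIn p P (P ⊔ R) := by
    refine ⟨le_sup_left, c.P_isPGroup, ?_⟩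
    rw [relIndex_sup_of_le_normalizer P R hPR]
    intro hd
    exact hcopR (hd.trans (Subgroup.relIndex_dvd_card P R))
  have hconj : conjSub a⁻¹ P ≤ P ⊔ R := by
    intro y hy
    rw [mem_conjSub, inv_inv] at hy
    obtain ⟨e, he, hey⟩ : ∃ e ∈ P, y = a⁻¹ * e * a := ⟨a * y * a⁻¹, hy, by group⟩
    have hcomm : e * (a * n) = a * n * e := (Subgroup.mem_centralizer_iff.mp hmC) e he
    have h1 : a⁻¹ * e * a = n * e * n⁻¹ := by
      have : e * a = a * n * e * n⁻¹ := by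
        rw [← hcomm]; group
      rw [mul_assoc, this]; group
    have heN : e ∈ Subgroup.normalizer (Q : Set G) := c.hPN he
    have h2 : a⁻¹ * e * a ∈ Subgroup.normalizer (Q : Set G) := by
      rw [h1]
      exact Subgroup.mul_mem _ (Subgroup.mul_mem _ hn heN) (Subgroup.inv_mem _ hn)
    have h3 : a⁻¹ * e * a * e⁻¹ ∈ R := by
      rw [hR]
      refine Subgroup.mem_inf.mpr ⟨Subgroup.mul_mem _ h2 (Subgroup.inv_mem _ heN), ?_⟩
      have h4 : e * a * e⁻¹ ∈ Mb M :=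
        (Subgroup.mem_normalizer_iff.mp (le_normalizer_Mb M (c.hPM he)) a).mp ha
      have e4 : a⁻¹ * e * a * e⁻¹ = a⁻¹ * (e * a * e⁻¹) := by group
      show a⁻¹ * e * a * e⁻¹ ∈ Mb M
      rw [e4]
      exact Subgroup.mul_mem _ (Subgroup.inv_mem _ ha) h4
    have e5 : y = (a⁻¹ * e * a * e⁻¹) * e := by rw [hey]; group
    rw [e5]
    exact mul_mem (Subgroup.mem_sup_right h3) (Subgroup.mem_sup_left he)
  obtain ⟨k, hk, hle⟩ := hSyl.exists_conj_le hconj (conjSub_isPGroup c.P_isPGroup)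
  rw [conjSub_mul] at hle
  have hkn : k * a⁻¹ ∈ Subgroup.normalizer (P : Set G) := mem_normalizer_of_conjSub_le hle
  have hk' : k⁻¹ ∈ R ⊔ P := by rw [sup_comm]; exact inv_mem hk
  obtain ⟨r, hr, e₀, he₀, hre⟩ := Helper10.SigmaJsubD.mem_sup_of_le_normalizer hPR hk'
  have hk2 : k = e₀⁻¹ * r⁻¹ := by
    have : k = (k⁻¹)⁻¹ := (inv_inv k).symm
    rw [this, hre]; group
  have harn : a * r ∈ Subgroup.normalizer (P : Set G) := by
    have h1 : e₀ * (k * a⁻¹) ∈ Subgroup.normalizer (P : Set G) :=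
      mul_mem (Subgroup.le_normalizer he₀) hkn
    have e1 : e₀ * (k * a⁻¹) = (a * r)⁻¹ := by rw [hk2]; group
    rw [e1] at h1
    exact (Subgroup.inv_mem_iff _).mp h1
  have harb : a * r ∈ Mb M := mul_mem ha (hRb hr)
  have harC : a * r ∈ Subgroup.centralizer (P : Set G) := c.Mb_normalizer_le ⟨harb, harn⟩
  have hrnM : r⁻¹ * n ∈ M := by
    have e3 : r⁻¹ * n = (a * r)⁻¹ * (a * n) := by group
    rw [e3]
    exact M.mul_mem (M.inv_mem (Mb_le M harb)) hm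
  refine ⟨a * r, ⟨harb, harC⟩, r⁻¹ * n,
    ⟨⟨hrnM, Subgroup.mul_mem _ (Subgroup.inv_mem _ (hRN hr)) hn⟩, ?_⟩, by group⟩
  have e2 : r⁻¹ * n = (a * r)⁻¹ * (a * n) := by group
  rw [e2]
  exact Subgroup.mul_mem _ (Subgroup.inv_mem _ harC) hmC

/-- Pushing a conjugate of `Y = C_{L_β}(P)` lying in `M` back into `N_M(Q)`. -/
theorem final_gen (c : Core M Q P q p) (hL : IsCoatom L)
    (hNL : M ⊓ Subgroup.normalizer (Q : Set G) ≤ L)
    (hdisj : ∀ s : ℕ, s ∈ Cfsg.beta L → s ∉ Cfsg.beta M) {z : G}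
    (hz : z ∈ Subgroup.centralizer (P : Set G))
    (hYM : conjSub z (Mb L ⊓ Subgroup.centralizer (P : Set G)) ≤ M) :
    Mb L ⊓ Subgroup.centralizer (P : Set G) ≤ M ⊓ Subgroup.normalizer (Q : Set G) := by
  haveI hMs : Group.IsSolvable ↥M := Helper11.MaxSubB.coatom_solvable c.hG M c.hM
  obtain ⟨Γ, hΓ⟩ : ∃ Γ : Subgroup G, Γ = M ⊓ Subgroup.centralizer (P : Set G) := ⟨_, rfl⟩
  obtain ⟨Γ', hΓ'⟩ : ∃ Γ' : Subgroup G,
    Γ' = (M ⊓ Subgroup.normalizer (Q : Set G)) ⊓ Subgroup.centralizer (P : Set G) := ⟨_, rfl⟩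
  obtain ⟨X, hX⟩ : ∃ X : Subgroup G, X = Mb M ⊓ Subgroup.centralizer (P : Set G) := ⟨_, rfl⟩
  obtain ⟨Y, hY⟩ : ∃ Y : Subgroup G, Y = Mb L ⊓ Subgroup.centralizer (P : Set G) := ⟨_, rfl⟩
  rw [← hY] at hYM ⊢
  have hΓM : Γ ≤ M := hΓ ▸ inf_le_left
  have hΓ'Γ : Γ' ≤ Γ := by
    rw [hΓ, hΓ']
    exact inf_le_inf_right _ inf_le_left
  have hXΓ : X ≤ Γ := by
    rw [hΓ, hX]
    exact inf_le_inf_right _ (Mb_le M)
  haveI hΓs : Group.IsSolvable ↥Γ := Lead.solvable_of_le hΓM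
  haveI hΓ's : Group.IsSolvable ↥Γ' := Lead.solvable_of_le (hΓ'Γ.trans hΓM)
  have hsep := Helper20.piSepS_of_solvable {r | r.Prime ∧ r ∉ Cfsg.beta M} ↥Γ
  have hsep' := Helper20.piSepS_of_solvable {r | r.Prime ∧ r ∉ Cfsg.beta M} ↥Γ'
  obtain ⟨K₀, hK₀le, hK₀1, hK₀2, -⟩ := Helper20.hall_rel_dominance _ Γ' hsep' ⊥ bot_le (by
    rw [Subgroup.card_bot]; exact Helper20.piNum_one _)
  have hΓ'X : Γ' ≤ Subgroup.normalizer (X : Set G) := by
    rw [hX]
    apply le_normalizer_inf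
    · exact (hΓ'Γ.trans hΓM).trans (le_normalizer_Mb M)
    · rw [hΓ']
      exact inf_le_right.trans Subgroup.le_normalizer
  have hΓeq : Γ = Γ' ⊔ X := by
    apply le_antisymm
    · intro m hm
      rw [hΓ] at hm
      obtain ⟨x, hx, n, hn, rfl⟩ := c.cent_cover m hm
      rw [hX, hΓ']
      exact mul_mem (Subgroup.mem_sup_right hx) (Subgroup.mem_sup_left hn)
    · exact sup_le hΓ'Γ hXΓ
  have hidx : ∀ r : ℕ, r.Prime → r ∣ Γ'.relIndex Γ → r ∈ Cfsg.beta M := by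
    intro r hr hd
    rw [hΓeq, relIndex_sup_of_le_normalizer Γ' X hΓ'X] at hd
    have h1 : r ∣ Nat.card X := hd.trans (Subgroup.relIndex_dvd_card Γ' X)
    rw [hX] at h1
    exact Mb_prime M hr (h1.trans (Subgroup.card_dvd_of_le inf_le_left))
  have hK₀3 : Helper20.PiNum' {r | r.Prime ∧ r ∉ Cfsg.beta M} (K₀.relIndex Γ) := by
    intro r hr hrσ hd
    rw [← Subgroup.relIndex_mul_relIndex K₀ Γ' Γ hK₀le hΓ'Γ] at hd
    rcases (Nat.Prime.dvd_mul hr).mp hd with h | h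
    · exact hK₀2 r hr hrσ h
    · exact hrσ.2 (hidx r hr h)
  have hYC : Y ≤ Subgroup.centralizer (P : Set G) := hY ▸ inf_le_right
  have hYzΓ : conjSub z Y ≤ Γ := by
    rw [hΓ]
    exact le_inf hYM (conjSub_le_of_mem hYC hz)
  have hYprime : ∀ r : ℕ, r.Prime → r ∣ Nat.card Y → r ∈ Cfsg.beta L := by
    intro r hr hd
    rw [hY] at hd
    exact Mb_prime L hr (hd.trans (Subgroup.card_dvd_of_le inf_le_left))
  have hYzπ : Helper20.PiNum {r | r.Prime ∧ r ∉ Cfsg.beta M} (Nat.card ↥(conjSub z Y)) := by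
    intro r hr hd
    rw [card_conjSub] at hd
    exact ⟨hr, hdisj r (hYprime r hr hd)⟩
  obtain ⟨T₁, hT₁le, hT₁1, hT₁2, hYT₁⟩ := Helper20.hall_rel_dominance _ Γ hsep _ hYzΓ hYzπ
  obtain ⟨g, hg, hgT⟩ := Helper20.hall_rel_conj _ Γ hsep T₁ K₀ hT₁le hT₁1 hT₁2
    (hK₀le.trans hΓ'Γ) hK₀1 hK₀3
  rw [smul_eq_conjSub] at hgT
  have h1 : conjSub (g * z) Y ≤ Γ' := by
    rw [← conjSub_mul]
    exact ((conjSub_mono hYT₁).trans (le_of_eq hgT)).trans hK₀le
  have hgC : g * z ∈ Subgroup.centralizer (P : Set G) := by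
    rw [hΓ] at hg
    exact Subgroup.mul_mem _ hg.2 hz
  have h2 : conjSub (g * z) Y ≤ M ⊓ Subgroup.normalizer (Q : Set G) := by
    rw [hΓ'] at h1
    exact h1.trans inf_le_left
  have h3 : conjSub (g * z) Y ≤ Mb L := by
    apply le_Mb c.hG hL (h2.trans hNL)
    intro r hr hd
    rw [card_conjSub] at hd
    exact hYprime r hr hd
  have h4 : conjSub (g * z) Y ≤ Y := by
    rw [hY]
    refine le_inf (hY ▸ h3) ?_
    rw [← hY]
    exact conjSub_le_of_mem hYC hgC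
  have h5 : conjSub (g * z) Y = Y := conjSub_eq_of_le h4
  exact h5 ▸ h2

end Core

end Cfsg.Agent.Lib.Helper18.Asym13A
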