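import Mathlib
import Cfsg.Agent.Lib.Helper18.Asym13A

/-!
# The Hall-subgroup step in general form
-/

set_option autoImplicit false

namespace Cfsg.Agent.Lib.Helper18.Asym13B

open Cfsg Cfsg.Agent.Lib Cfsg.Agent.Lib.Helper18 Cfsg.Agent.Lib.Helper18.SigPartB
open Cfsg.Agent.Lib.Helper18.SigPartD Cfsg.Agent.Lib.Helper18.SigPartE

open scoped Pointwise

variable {G : Type*} [Group G] [Finite G]

theorem hall_step_gen (hG : Cfsg.IsMinSimpleOddOrder G) {M L P : Subgroup G} (hM : IsCoatom M)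
    (hL : IsCoatom L) (hP1 : P ≠ ⊥)
    (hX : Mb M ⊓ Subgroup.centralizer (P : Set G) ≠ ⊥)
    (hY : Mb L ⊓ Subgroup.centralizer (P : Set G) ≠ ⊥) :
    (∃ z ∈ Subgroup.centralizer (P : Set G),
        conjSub z (Mb L ⊓ Subgroup.centralizer (P : Set G)) ≤ M) ∨
    (∃ z ∈ Subgroup.centralizer (P : Set G),
        conjSub z (Mb M ⊓ Subgroup.centralizer (P : Set G)) ≤ L) := by
  have hCtop : Subgroup.centralizer (P : Set G) ≠ ⊤ :=
    Helper28.BGt.Tau2Ctx.centralizer_ne_top_of_ne_bot hG hP1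
  haveI hCs : Group.IsSolvable ↥(Subgroup.centralizer (P : Set G)) := hG.2.2.2 _ hCtop
  have hsep := Helper20.piSepS_of_solvable (Cfsg.beta M ∪ Cfsg.beta L)
    ↥(Subgroup.centralizer (P : Set G))
  have hXπ : Helper20.PiNum (Cfsg.beta M ∪ Cfsg.beta L)
      (Nat.card ↥(Mb M ⊓ Subgroup.centralizer (P : Set G))) := by
    intro r hr hd
    exact Or.inl (Mb_prime M hr (hd.trans (Subgroup.card_dvd_of_le inf_le_left)))
  have hYπ : Helper20.PiNum (Cfsg.beta M ∪ Cfsg.beta L)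
      (Nat.card ↥(Mb L ⊓ Subgroup.centralizer (P : Set G))) := by
    intro r hr hd
    exact Or.inr (Mb_prime L hr (hd.trans (Subgroup.card_dvd_of_le inf_le_left)))
  obtain ⟨W, hWC, hW1, hW2, hXW⟩ := Helper20.hall_rel_dominance _ _ hsep _ inf_le_right hXπ
  obtain ⟨W', hW'C, hW'1, hW'2, hYW'⟩ := Helper20.hall_rel_dominance _ _ hsep _ inf_le_right hYπ
  obtain ⟨z, hz, hzW⟩ := Helper20.hall_rel_conj _ _ hsep W' W hW'C hW'1 hW'2 hWC hW1 hW2
  rw [smul_eq_conjSub] at hzW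
  have hYW : conjSub z (Mb L ⊓ Subgroup.centralizer (P : Set G)) ≤ W := by
    rw [← hzW]; exact conjSub_mono hYW'
  have hW0 : W ≠ ⊥ := by
    intro h
    apply hX
    rw [eq_bot_iff, ← h]
    exact hXW
  haveI hWs : Group.IsSolvable ↥W := Lead.solvable_of_le hWC
  haveI hWs' : Group.IsSolvable ↥(⊤ : Subgroup ↥W) :=
    Group.isSolvable_of_isSolvable_injective (Subgroup.subtype_injective _)
  obtain ⟨T', hT'n, hT'0, -, s, hs, hsT'⟩ :=
    Helper20.exists_normal_pgroup_le (⊤ : Subgroup ↥W) (by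
      intro h
      apply hW0
      rw [eq_bot_iff]
      intro w hw
      have : (⟨w, hw⟩ : ↥W) ∈ (⊤ : Subgroup ↥W) := Subgroup.mem_top _
      rw [h, Subgroup.mem_bot] at this
      rw [Subgroup.mem_bot]
      exact congrArg Subtype.val this)
  haveI : Fact s.Prime := ⟨hs⟩
  obtain ⟨T, hTdef⟩ : ∃ T : Subgroup G, T = T'.map W.subtype := ⟨_, rfl⟩
  have hTW : T ≤ W := by rw [hTdef]; exact Subgroup.map_subtype_le _
  have hWT : W ≤ Subgroup.normalizer (T : Set G) := by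
    rw [hTdef]; exact Helper1.BG12.map_normal_le_normalizer W T'
  have hTs : IsPGroup s T := by rw [hTdef]; exact hsT'.map _
  have hT0 : T ≠ ⊥ := by
    rw [hTdef]
    intro h
    apply hT'0
    exact (Subgroup.map_eq_bot_iff_of_injective _ (Subgroup.subtype_injective _)).mp h
  have hsd : s ∣ Nat.card T := by
    obtain ⟨k, hk⟩ := IsPGroup.iff_card.mp hTs
    have hk0 : k ≠ 0 := by
      rintro rfl
      rw [pow_zero] at hk
      exact hT0 (Subgroup.card_eq_one.mp hk)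
    rw [hk]
    exact dvd_pow_self s hk0
  have hsπ : s ∈ Cfsg.beta M ∪ Cfsg.beta L := hW1 s hs (hsd.trans (Subgroup.card_dvd_of_le hTW))
  rcases hsπ with hsM | hsL
  · left
    have hWM : W ≤ M := key1 hG hM hsM hTs hT0 hWT hXW hX inf_le_left
    exact ⟨z, hz, hYW.trans hWM⟩
  · right
    have hY' : Mb L ⊓ Subgroup.centralizer (P : Set G) ≤ conjSub z⁻¹ W := conjSub_le_iff.mp hYW
    have hWL : conjSub z⁻¹ W ≤ L :=
      key1 hG hL hsL (conjSub_isPGroup hTs) (conjSub_ne_bot hT0 z⁻¹)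
        (conjSub_le_normalizer hWT z⁻¹) hY' hY inf_le_left
    exact ⟨z⁻¹, inv_mem hz, (conjSub_mono hXW).trans hWL⟩

end Cfsg.Agent.Lib.Helper18.Asym13B
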