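import Mathlib
import Cfsg.Agent.S0026
import Cfsg.Agent.Lib.Helper18.Asym13B
import Cfsg.Agent.Lib.Helper18.SigPartI
import Cfsg.Agent.Lib.Helper9.SylowConj
import Cfsg.Agent.Lib.Helper28.BGtC

/-!
# One half of the configuration of B & G Lemma 12.13
-/

set_option autoImplicit false

namespace Cfsg.Agent.Lib.Helper18.Asym13C

open Cfsg Cfsg.Agent.Lib Cfsg.Agent.Lib.Helper18 Cfsg.Agent.Lib.Helper18.SigPartB
open Cfsg.Agent.Lib.Helper18.Asym13A
open Cfsg.Agent.Lib.Helper11.BenderM Cfsg.Agent.Lib.Helper11.BenderL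
open Cfsg.Agent.Lib.Helper11.BenderF

open scoped Pointwise

variable {G : Type*} [Group G] [Finite G]

/-- a Sylow `q`-subgroup `S` of `K ≤ M` with `N_M(S) ≤ K` is a Sylow `q`-subgroup of `M` -/
theorem isSylowIn_of_normalizer_inf_le {q : ℕ} [hq : Fact q.Prime] {S K M : Subgroup G}
    (hKM : K ≤ M) (hS : IsSylowIn q S K) (hNS : M ⊓ Subgroup.normalizer (S : Set G) ≤ K) :
    IsSylowIn q S M := by
  obtain ⟨T₀⟩ : Nonempty (Sylow q ↥M) := inferInstance
  have hT₀ : IsSylowIn q ((T₀ : Subgroup ↥M).map M.subtype) M := isSylowIn_of_sylow T₀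
  obtain ⟨x, hxM, hle⟩ := hT₀.exists_conj_le (hS.le.trans hKM) hS.isPGroup
  obtain ⟨T, hTdef⟩ : ∃ T : Subgroup G,
      T = Helper18.conjSub x⁻¹ ((T₀ : Subgroup ↥M).map M.subtype) := ⟨_, rfl⟩
  have hST : S ≤ T := by
    rw [hTdef]; exact conjSub_le_iff.mp hle
  have hTM : IsSylowIn q T M := by
    have h1 := hT₀.conjSub x⁻¹
    have h2 : Helper18.conjSub x⁻¹ M = M :=
      conjSub_eq_of_le (conjSub_le_of_mem le_rfl (M.inv_mem hxM))
    rw [h2, ← hTdef] at h1
    exact h1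
  have hTS : T ≤ S := by
    by_contra hne
    obtain ⟨y, hyT, hyS, hyN⟩ :=
      Cfsg.Agent.Lib.Helper9.exists_normalizer_not_mem T S hTM.isPGroup hST hne
    have hR : T ⊓ K = S :=
      hS.eq_of_le inf_le_right (hTM.isPGroup.to_le inf_le_left) (le_inf hST hS.le)
    apply hyS
    rw [← hR]
    exact ⟨hyT, hNS ⟨hTM.le hyT, hyN⟩⟩
  have : T = S := le_antisymm hTS hST
  rw [← this]; exact hTM

/-- One half of the configuration of B & G 12.13. -/
structure Half (M L Q P : Subgroup G) (q p : ℕ) : Prop where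
  hG : Cfsg.IsMinSimpleOddOrder G
  hM : IsCoatom M
  hL : IsCoatom L
  hne : L ≠ M
  hq : q.Prime
  hp : p.Prime
  hpβ : p ∉ Cfsg.beta M
  hQ : IsSylowIn q Q (M ⊓ L)
  hQ1 : Q ≠ ⊥
  hNL : Subgroup.normalizer (Q : Set G) ≤ L
  hPM : P ≤ M ⊓ L
  hPN : P ≤ Subgroup.normalizer (Q : Set G)
  hPc : Nat.card P = p
  hfpf : Q ⊓ Subgroup.centralizer (P : Set G) = ⊥

namespace Half

variable {M L Q P : Subgroup G} {q p : ℕ}

theorem factq (c : Half M L Q P q p) : Fact q.Prime := ⟨c.hq⟩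
theorem factp (c : Half M L Q P q p) : Fact p.Prime := ⟨c.hp⟩

theorem QleM (c : Half M L Q P q p) : Q ≤ M := c.hQ.le.trans inf_le_left
theorem QleL (c : Half M L Q P q p) : Q ≤ L := c.hQ.le.trans inf_le_right
theorem PleM (c : Half M L Q P q p) : P ≤ M := c.hPM.trans inf_le_left

theorem p_not_beta (c : Half M L Q P q p) : p ∉ Cfsg.beta M := c.hpβ

theorem P_isPGroup (c : Half M L Q P q p) : IsPGroup p P := by
  haveI := c.factp
  apply IsPGroup.of_card (n := 1)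
  rw [pow_one]
  exact c.hPc

theorem P_ne_bot (c : Half M L Q P q p) : P ≠ ⊥ := by
  intro h
  have h1 := c.hPc
  rw [h, Subgroup.card_bot] at h1
  exact c.hp.one_lt.ne h1

theorem p_ne_q (c : Half M L Q P q p) : p ≠ q := by
  intro h
  haveI := c.factq
  have hPq : IsPGroup q P := h ▸ c.P_isPGroup
  have h1 : IsPGroup q (P ⊔ Q : Subgroup G) := hPq.to_sup_of_normal_right' c.hQ.isPGroup c.hPN
  have h2 : P ⊔ Q = Q := c.hQ.eq_of_le (sup_le c.hPM c.hQ.le) h1 le_sup_right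
  have hPQ : P ≤ Q := h2 ▸ le_sup_left
  have hab : P ≤ Subgroup.centralizer (P : Set G) := by
    haveI := c.factp
    haveI : IsCyclic P := isCyclic_of_prime_card c.hPc
    exact Subgroup.le_centralizer_iff_isMulCommutative.mpr IsCyclic.isMulCommutative
  have h3 : P ≤ Q ⊓ Subgroup.centralizer (P : Set G) := le_inf hPQ hab
  rw [c.hfpf] at h3
  exact c.P_ne_bot (eq_bot_iff.mpr h3)

theorem sylowM (c : Half M L Q P q p) : IsSylowIn q Q M := by
  haveI := c.factq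
  exact isSylowIn_of_normalizer_inf_le inf_le_left c.hQ
    (le_inf inf_le_left (inf_le_right.trans c.hNL))

theorem q_not_alpha (c : Half M L Q P q p) : q ∉ Cfsg.alpha M := by
  intro hqα
  haveI := c.factq
  have hS := c.sylowM
  have hr : ¬ Cfsg.PRankLE q 2 ↥Q := by
    obtain ⟨A₀, hA₀M, hA₀e, hA₀3⟩ :=
      Cfsg.Agent.Lib.Helper11.BenderF.exists_elemAb_of_not_pRankLE q M hqα.2
    obtain ⟨y, hy, hle'⟩ := hS.exists_conj_le hA₀M (Helper1.BG10.elemAb_isPGroup hA₀e)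
    exact Cfsg.Agent.Lib.Helper11.BenderB.not_pRankLE_of_le q _ _ hle' (elemAb_conjSub q y hA₀e)
      (by rw [Helper18.card_conjSub]; exact hA₀3)
  have hQtop : Q ≠ ⊤ := by
    intro h
    have := c.QleM
    rw [h] at this
    exact c.hM.1 (top_le_iff.mp this)
  obtain ⟨M', -, huniq⟩ := rank3_unique c.hG Q hQtop (fun h => hr (h q hqα.1))
  have e1 : M = M' := huniq M ⟨c.hM, c.QleM⟩
  have e2 : L = M' := huniq L ⟨c.hL, c.QleL⟩
  exact c.hne (e2.trans e1.symm)

theorem q_not_beta (c : Half M L Q P q p) : q ∉ Cfsg.beta M := fun h => c.q_not_alpha h.1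

theorem cop_PQ (c : Half M L Q P q p) : (Nat.card P).Coprime (Nat.card Q) := by
  haveI := c.factq
  haveI := c.factp
  exact SigPartI.coprime_pgroups (Ne.symm c.p_ne_q) c.P_isPGroup c.hQ.isPGroup

theorem Q_eq_comm (c : Half M L Q P q p) : ⁅Q, P⁆ = Q := by
  haveI := c.factq
  have hQs : Group.IsSolvable ↥Q := by
    haveI : Group.IsNilpotent ↥Q := c.hQ.isPGroup.isNilpotent
    infer_instance
  have h := Cfsg.Agent.S0026.result P Q c.hPN c.cop_PQ (Or.inr hQs)
  rw [c.hfpf, sup_bot_eq] at h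
  exact h

theorem Q_le_derived (c : Half M L Q P q p) : Q ≤ ⁅M, M⁆ := by
  rw [← c.Q_eq_comm]
  exact Subgroup.commutator_mono c.QleM c.PleM

/-- `M = M_β N_G(Q)` -/
theorem cover (c : Half M L Q P q p) :
    ∀ m ∈ M, ∃ a ∈ Mb M, ∃ n ∈ Subgroup.normalizer (Q : Set G), m = a * n := by
  haveI := c.factq
  have hG := c.hG
  have hM := c.hM
  have hQ := c.sylowM
  have hqβ := c.q_not_beta
  obtain ⟨D, hD⟩ : ∃ D : Subgroup G, D = ⁅M, M⁆ := ⟨_, rfl⟩
  have hDM : D ≤ M := by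
    rw [hD]; exact Subgroup.commutator_le_self M
  have hMD : M ≤ Subgroup.normalizer (D : Set G) := by
    rw [hD]
    exact Lead.le_normalizer_commutator M M M Subgroup.le_normalizer Subgroup.le_normalizer
  have hQD : Q ≤ D := hD ▸ c.Q_le_derived
  haveI hMs : Group.IsSolvable ↥M := Helper11.MaxSubB.coatom_solvable hG M hM
  haveI hDs : Group.IsSolvable ↥D := Lead.solvable_of_le hDM
  obtain ⟨-, -, ⟨H₀, hH₀, hH₀nil⟩, -, -⟩ := Cfsg.Agent.S1414.result hG M hM
  rw [← hD] at hH₀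
  have hsep := Helper20.piSepS_of_solvable {r | r.Prime ∧ r ∉ Cfsg.beta M} ↥D
  have hQπ : Helper20.PiNum {r | r.Prime ∧ r ∉ Cfsg.beta M} (Nat.card Q) := by
    intro r hr hd
    refine ⟨hr, ?_⟩
    rw [prime_dvd_pgroup hQ.isPGroup hr hd]
    exact hqβ
  obtain ⟨T, hTle, hT1, hT2, hQT⟩ := Helper20.hall_rel_dominance _ D hsep Q hQD hQπ
  obtain ⟨g, hg, hgT⟩ := Helper20.hall_rel_conj _ D hsep H₀ T hH₀.1 hH₀.2.1
    hH₀.2.2 hTle hT1 hT2
  have hTnil : Group.IsNilpotent ↥T := by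
    rw [← hgT]
    exact Group.nilpotent_of_mulEquiv (Subgroup.equivSMul (MulAut.conj g) H₀)
  have hQT' : IsSylowIn q Q T := hQ.of_le hQT (hTle.trans hDM)
  have hTN : T ≤ Subgroup.normalizer (Q : Set G) :=
    Helper1.BG12.sylow_normal_of_nilpotent T Q q hTnil hQT' T Subgroup.le_normalizer
  have hMbD : Mb M ≤ D :=
    (Mb_le_sigmaCore hG hM).trans (hD ▸ Helper28.BGt.sigmaCore_le_derived hG hM)
  have hidx : (Mb M ⊔ T).relIndex D = 1 := by
    by_contra hne
    obtain ⟨r, hr, hrd⟩ := Nat.exists_prime_and_dvd hne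
    have h1 : r ∣ T.relIndex D := hrd.trans (Subgroup.relIndex_dvd_of_le_left _ le_sup_right)
    have h2 : r ∣ (Mb M).relIndex D := hrd.trans (Subgroup.relIndex_dvd_of_le_left _ le_sup_left)
    have h3 : r ∣ (Mb M).relIndex M := by
      rw [← Subgroup.relIndex_mul_relIndex (Mb M) D M hMbD hDM]
      exact Dvd.dvd.mul_right h2 _
    have hrβ : r ∈ Cfsg.beta M := by
      by_contra hn
      exact hT2 r hr ⟨hr, hn⟩ h1
    exact Mb_index hG hM hr hrβ h3
  have hcov : D ≤ Mb M ⊔ T := Subgroup.relIndex_eq_one.mp hidx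
  intro m hm
  have hQD' : IsSylowIn q Q D := hQ.of_le hQD hDM
  obtain ⟨n, hn, hnm⟩ := hQD'.frattini (hMD hm)
  have hn' : n⁻¹ ∈ Mb M ⊔ T := hcov (inv_mem hn)
  obtain ⟨a, ha, t, ht, hat⟩ := Helper10.SigmaJsubD.mem_sup_of_le_normalizer
    ((hTle.trans hDM).trans (le_normalizer_Mb M)) hn'
  refine ⟨a, ha, t * (n * m), mul_mem (hTN ht) hnm, ?_⟩
  rw [← mul_assoc, ← hat]
  group

theorem cop_Q (c : Half M L Q P q p) : (Nat.card (Mb M)).Coprime (Nat.card Q) := by
  haveI := c.factq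
  apply coprime_Mb
  intro r hr hd
  rw [prime_dvd_pgroup c.hQ.isPGroup hr hd]
  exact c.q_not_beta

theorem cop_P (c : Half M L Q P q p) : (Nat.card (Mb M)).Coprime (Nat.card P) := by
  apply coprime_Mb
  intro r hr hd
  rw [c.hPc] at hd
  rw [(Nat.prime_dvd_prime_iff_eq hr c.hp).mp hd]
  exact c.p_not_beta

theorem fpf' (c : Half M L Q P q p) : ∀ e ∈ P, e ≠ 1 →
    Q ⊓ Subgroup.centralizer ({e} : Set G) = ⊥ := by
  intro e he he1
  haveI := c.factp
  have h1 : Subgroup.zpowers e = P := Helper28.BGt.zpowers_eq_of_card_prime c.hPc he he1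
  rw [eq_bot_iff, ← c.hfpf]
  intro x hx
  refine ⟨hx.1, ?_⟩
  rw [← h1]
  exact Helper28.BGt.centralizer_singleton_le_zpowers e hx.2

theorem X_not_le (c : Half M L Q P q p) :
    ¬ (Mb M ⊓ Subgroup.centralizer (P : Set G) ≤ Subgroup.centralizer (Q : Set G)) := by
  intro hle
  haveI := c.factq
  haveI hMs : Group.IsSolvable ↥M := Helper11.MaxSubB.coatom_solvable c.hG M c.hM
  haveI hbs : Group.IsSolvable ↥(Mb M) := Lead.solvable_of_le (Mb_le M)
  have hnil : Group.IsNilpotent ↥Q := c.hQ.isPGroup.isNilpotent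
  have h1 : Mb M ≤ Subgroup.centralizer (Q : Set G) :=
    SigPartA.le_centralizer_of_four_term (Mb M) Q P (c.QleM.trans (le_normalizer_Mb M))
      (c.PleM.trans (le_normalizer_Mb M)) c.hPN hnil c.fpf' hbs c.cop_Q c.cop_P hle
  have h2 : M ≤ Subgroup.normalizer (Q : Set G) := by
    intro m hm
    obtain ⟨a, ha, n, hn, rfl⟩ := c.cover m hm
    exact mul_mem (Subgroup.centralizer_le_normalizer _ (h1 ha)) hn
  have h3 : M ≤ L := h2.trans c.hNL
  rcases eq_or_lt_of_le h3 with h | h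
  · exact c.hne h.symm
  · exact absurd (c.hM.2 L h) c.hL.1

theorem toCore (c : Half M L Q P q p) : Core M Q P q p where
  hG := c.hG
  hM := c.hM
  hq := c.hq
  hp := c.hp
  hQq := c.hQ.isPGroup
  hQM := c.QleM
  hPM := c.PleM
  hPN := c.hPN
  hPc := c.hPc
  hqβ := c.q_not_beta
  hpβ := c.p_not_beta
  cover := c.cover
  hX := c.X_not_le

end Half

end Cfsg.Agent.Lib.Helper18.Asym13C
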