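import Mathlib
import Cfsg.Agent.S0023
import Cfsg.Agent.Lib.Helper18.Asym13C
import Cfsg.Agent.Lib.Helper18.SigPartJ
import Cfsg.Agent.Lib.Helper11.RegC

/-!
# B & G Lemma 12.13 (asymmetry), in a slightly stronger form
-/

set_option autoImplicit false

namespace Cfsg.Agent.Lib.Helper18.Asym13D

open Cfsg Cfsg.Agent.Lib Cfsg.Agent.Lib.Helper18 Cfsg.Agent.Lib.Helper18.SigPartB
open Cfsg.Agent.Lib.Helper18.Asym13A Cfsg.Agent.Lib.Helper18.Asym13B
open Cfsg.Agent.Lib.Helper18.Asym13C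

open scoped Pointwise commutatorElement

variable {G : Type*} [Group G] [Finite G]

omit [Finite G] in
/-- for `u, e` normalizing a cyclic subgroup `T`, the element `(e u)⁻¹ (u e)` centralizes `T` -/
theorem comm_centralizes_cyclic_aux {T : Subgroup G} (hT : IsCyclic T) {u e : G}
    (hu : u ∈ Subgroup.normalizer (T : Set G)) (he : e ∈ Subgroup.normalizer (T : Set G)) :
    (e * u)⁻¹ * (u * e) ∈ Subgroup.centralizer (T : Set G) := by
  obtain ⟨⟨g, hgT⟩, hgen⟩ := hT.exists_generator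
  have hu' : u * g * u⁻¹ ∈ T := (Subgroup.mem_normalizer_iff.mp hu g).mp hgT
  have he' : e * g * e⁻¹ ∈ T := (Subgroup.mem_normalizer_iff.mp he g).mp hgT
  obtain ⟨i, hi⟩ := Subgroup.mem_zpowers_iff.mp (hgen ⟨u * g * u⁻¹, hu'⟩)
  obtain ⟨j, hj⟩ := Subgroup.mem_zpowers_iff.mp (hgen ⟨e * g * e⁻¹, he'⟩)
  have hi' : g ^ i = u * g * u⁻¹ := by
    have := congrArg Subtype.val hi
    simpa using this
  have hj' : g ^ j = e * g * e⁻¹ := by
    have := congrArg Subtype.val hj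
    simpa using this
  have conj_zpow : ∀ (a b : G) (n : ℤ), a * b ^ n * a⁻¹ = (a * b * a⁻¹) ^ n := by
    intro a b n
    exact (map_zpow (MulAut.conj a) b n)
  have h1 : (u * e) * g * (u * e)⁻¹ = g ^ (i * j) := by
    have : (u * e) * g * (u * e)⁻¹ = u * (e * g * e⁻¹) * u⁻¹ := by group
    rw [this, ← hj', conj_zpow, ← hi', ← zpow_mul]
  have h2 : (e * u) * g * (e * u)⁻¹ = g ^ (i * j) := by
    have : (e * u) * g * (e * u)⁻¹ = e * (u * g * u⁻¹) * e⁻¹ := by group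
    rw [this, ← hi', conj_zpow, ← hj', ← zpow_mul, mul_comm]
  have hc : (e * u)⁻¹ * (u * e) * g = g * ((e * u)⁻¹ * (u * e)) := by
    have h3 : (u * e) * g * (u * e)⁻¹ = (e * u) * g * (e * u)⁻¹ := by rw [h1, h2]
    have h4 : (u * e) * g = (e * u) * g * (e * u)⁻¹ * (u * e) := by
      rw [← h3]; group
    calc (e * u)⁻¹ * (u * e) * g = (e * u)⁻¹ * ((u * e) * g) := by group
      _ = (e * u)⁻¹ * ((e * u) * g * (e * u)⁻¹ * (u * e)) := by rw [← h4]
      _ = g * ((e * u)⁻¹ * (u * e)) := by group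
  rw [Subgroup.mem_centralizer_iff]
  intro t ht
  obtain ⟨n, hn⟩ := Subgroup.mem_zpowers_iff.mp (hgen ⟨t, ht⟩)
  have hn' : g ^ n = t := by
    have := congrArg Subtype.val hn
    simpa using this
  rw [← hn']
  have hcomm : Commute ((e * u)⁻¹ * (u * e)) g := hc
  exact (hcomm.zpow_right n).eq.symm

omit [Finite G] in
theorem commutator_le_centralizer_cyclic {T A B : Subgroup G} (hT : IsCyclic T)
    (hA : A ≤ Subgroup.normalizer (T : Set G)) (hB : B ≤ Subgroup.normalizer (T : Set G)) :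
    ⁅A, B⁆ ≤ Subgroup.centralizer (T : Set G) := by
  rw [Subgroup.commutator_le]
  intro a ha b hb
  have h := comm_centralizes_cyclic_aux hT (Subgroup.inv_mem _ (hA ha)) (Subgroup.inv_mem _ (hB hb))
  have e : (b⁻¹ * a⁻¹)⁻¹ * (a⁻¹ * b⁻¹) = ⁅a, b⁆ := by
    rw [commutatorElement_def]; group
  rwa [e] at h

variable {M L Q Q' P : Subgroup G} {q q' p : ℕ}

/-- the end game: `C_{L_β}(P) ≤ M` is impossible -/
theorem endgame (cL : Half L M Q' P q' p) (hYM : Mb L ⊓ Subgroup.centralizer (P : Set G) ≤ M) :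
    False := by
  haveI := cL.factq
  have hG := cL.hG
  obtain ⟨D, hD⟩ : ∃ D : Subgroup G, D = M ⊓ Mb L := ⟨_, rfl⟩
  have hDM : D ≤ M := hD ▸ inf_le_left
  have hDb : D ≤ Mb L := hD ▸ inf_le_right
  obtain ⟨A, hA⟩ : ∃ A : Subgroup G, A = Q' ⊔ P := ⟨_, rfl⟩
  have hQ'M : Q' ≤ M := cL.QleL
  have hQ'L : Q' ≤ L := cL.QleM
  have hPM : P ≤ M := cL.hPM.trans inf_le_right
  have hPL : P ≤ L := cL.PleM
  have hAM : A ≤ M := hA ▸ sup_le hQ'M hPM
  have hAL : A ≤ L := hA ▸ sup_le hQ'L hPL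
  have hAD : A ≤ Subgroup.normalizer (D : Set G) := by
    rw [hD]
    exact SigPartF.le_normalizer_inf (hAM.trans Subgroup.le_normalizer)
      (hAL.trans (le_normalizer_Mb L))
  have hcop : (Nat.card A).Coprime (Nat.card D) := by
    have h1 : Nat.card A ∣ Nat.card Q' * Nat.card P := by
      rw [hA]; exact Helper11.ThirteenB.card_sup_dvd Q' P cL.hPN
    have h2 : (Nat.card Q' * Nat.card P).Coprime (Nat.card (Mb L)) :=
      Nat.Coprime.mul_left cL.cop_Q.symm cL.cop_P.symm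
    exact Nat.Coprime.coprime_dvd_right (Subgroup.card_dvd_of_le hDb)
      (Nat.Coprime.coprime_dvd_left h1 h2)
  haveI hLs : Group.IsSolvable ↥L := Helper11.MaxSubB.coatom_solvable hG L cL.hM
  haveI hAs : Group.IsSolvable ↥A := Lead.solvable_of_le hAL
  have hQ'comm : ⁅Q', P⁆ = Q' := cL.Q_eq_comm
  have key : D ≤ D ⊓ Subgroup.centralizer (Q' : Set G) := by
    apply SigPartH.le_of_forall_sylow
    intro s hs
    haveI : Fact s.Prime := ⟨hs⟩
    obtain ⟨Ds, hDs⟩ := Cfsg.Agent.S0023.result A D hAD hcop (Or.inl hAs) s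
    obtain ⟨T, hTdef⟩ : ∃ T : Subgroup G, T = (Ds : Subgroup ↥D).map D.subtype := ⟨_, rfl⟩
    have hTS : IsSylowIn s T D := by rw [hTdef]; exact isSylowIn_of_sylow Ds
    rw [← hTdef] at hDs
    refine ⟨T, le_inf hTS.le ?_, hTS.not_dvd⟩
    have hTcyc : IsCyclic T := by
      by_contra hnc
      have hT1 : T ≠ ⊥ := by
        rintro rfl
        exact hnc inferInstance
      have hsd : s ∣ Nat.card T := SigPartJ.dvd_card_of_pgroup_ne_bot hTS.isPGroup hT1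
      have hsβ : s ∈ Cfsg.beta L :=
        Mb_prime L hs (hsd.trans (Subgroup.card_dvd_of_le (hTS.le.trans hDb)))
      obtain ⟨S, hS⟩ := hTS.isPGroup.exists_le_sylow
      obtain ⟨X, -, huniq⟩ := Helper11.RegC.noncyclic_unique hG hsβ.2 (S : Subgroup G)
        (isSylowIn_top_of_sylow S) T hS hnc
      have e1 : M = X := huniq M ⟨cL.hL, hTS.le.trans hDM⟩
      have e2 : L = X := huniq L ⟨cL.hM, (hTS.le.trans hDb).trans (Mb_le L)⟩
      exact cL.hne (e1.trans e2.symm)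
    have h1 : ⁅Q', P⁆ ≤ Subgroup.centralizer (T : Set G) :=
      commutator_le_centralizer_cyclic hTcyc ((hA ▸ le_sup_left : Q' ≤ A).trans hDs)
        ((hA ▸ le_sup_right : P ≤ A).trans hDs)
    rw [hQ'comm] at h1
    exact Subgroup.le_centralizer_iff.mp h1
  apply cL.X_not_le
  intro y hy
  have hyD : y ∈ D := by
    rw [hD]
    exact ⟨hYM hy, hy.1⟩
  exact (key hyD).2

/-- **B & G, Lemma 12.13** (asymmetry), with `p ∉ β(M) ∪ β(L)` in place of `p ∈ τ₁(M) ∩ τ₁(L)`. -/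
theorem twelve_thirteen_of (hnc : ∀ g : G, L ≠ conjSub g M) (cM : Half M L Q P q p)
    (cL : Half L M Q' P q' p) : False := by
  have hG := cM.hG
  have hnc' : ∀ g : G, M ≠ conjSub g L := by
    intro g h
    apply hnc g⁻¹
    rw [h, conjSub_mul, inv_mul_cancel, conjSub_one]
  have hdisj : ∀ s : ℕ, s ∈ Cfsg.beta L → s ∉ Cfsg.beta M := by
    intro s hsL hsM
    obtain ⟨g, hg⟩ := Helper1.BG12.conj_of_alpha_sigma hG M L cM.hM cM.hL s hsM.1
      (beta_sub_sigma hG cM.hL hsL)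
    exact hnc g hg
  have hdisj' : ∀ s : ℕ, s ∈ Cfsg.beta M → s ∉ Cfsg.beta L := fun s hsM hsL => hdisj s hsL hsM
  rcases hall_step_gen hG cM.hM cM.hL cM.P_ne_bot cM.toCore.X_ne_bot cL.toCore.X_ne_bot with
    ⟨z, hz, h⟩ | ⟨z, hz, h⟩
  · have h1 := cM.toCore.final_gen cM.hL (inf_le_right.trans cM.hNL) hdisj hz h
    exact endgame cL (h1.trans inf_le_left)
  · have h1 := cL.toCore.final_gen cL.hL (inf_le_right.trans cL.hNL) hdisj' hz h
    exact endgame cM (h1.trans inf_le_left)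

/-- **B & G, Lemma 12.13** in the form of the book -/
theorem twelve_thirteen (hG : Cfsg.IsMinSimpleOddOrder G) (hM : IsCoatom M) (hL : IsCoatom L)
    (hnc : ∀ g : G, L ≠ conjSub g M) (hp : p.Prime) (hpM : p ∉ Cfsg.beta M)
    (hpL : p ∉ Cfsg.beta L) (hPc : Nat.card P = p) (hPML : P ≤ M ⊓ L)
    [hq : Fact q.Prime] [hq' : Fact q'.Prime]
    (hQ : IsSylowIn q Q (M ⊓ L)) (hQ' : IsSylowIn q' Q' (M ⊓ L)) (hQ1 : Q ≠ ⊥) (hQ'1 : Q' ≠ ⊥)
    (hPQ : P ≤ Subgroup.normalizer (Q : Set G)) (hPQ' : P ≤ Subgroup.normalizer (Q' : Set G))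
    (hf : Q ⊓ Subgroup.centralizer (P : Set G) = ⊥)
    (hf' : Q' ⊓ Subgroup.centralizer (P : Set G) = ⊥)
    (hNQ : Subgroup.normalizer (Q : Set G) ≤ L) (hNQ' : Subgroup.normalizer (Q' : Set G) ≤ M) :
    False := by
  have hne : L ≠ M := by
    have := hnc 1
    rwa [conjSub_one] at this
  have cM : Half M L Q P q p :=
    { hG := hG, hM := hM, hL := hL, hne := hne, hq := hq.out, hp := hp, hpβ := hpM, hQ := hQ,
      hQ1 := hQ1, hNL := hNQ, hPM := hPML, hPN := hPQ, hPc := hPc, hfpf := hf }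
  have cL : Half L M Q' P q' p :=
    { hG := hG, hM := hL, hL := hM, hne := hne.symm, hq := hq'.out, hp := hp, hpβ := hpL,
      hQ := by rw [inf_comm]; exact hQ'
      hQ1 := hQ'1, hNL := hNQ', hPM := by rw [inf_comm]; exact hPML
      hPN := hPQ', hPc := hPc, hfpf := hf' }
  exact twelve_thirteen_of hnc cM cL

/-- **B & G, Lemma 12.13** with `τ₁` hypotheses -/
theorem twelve_thirteen_tau1 (hG : Cfsg.IsMinSimpleOddOrder G) (hM : IsCoatom M) (hL : IsCoatom L)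
    (hnc : ∀ g : G, L ≠ conjSub g M) (hpM : p ∈ Cfsg.tau1 M) (hpL : p ∈ Cfsg.tau1 L)
    (hPc : Nat.card P = p) (hPML : P ≤ M ⊓ L)
    [hq : Fact q.Prime] [hq' : Fact q'.Prime]
    (hQ : IsSylowIn q Q (M ⊓ L)) (hQ' : IsSylowIn q' Q' (M ⊓ L)) (hQ1 : Q ≠ ⊥) (hQ'1 : Q' ≠ ⊥)
    (hPQ : P ≤ Subgroup.normalizer (Q : Set G)) (hPQ' : P ≤ Subgroup.normalizer (Q' : Set G))
    (hf : Q ⊓ Subgroup.centralizer (P : Set G) = ⊥)
    (hf' : Q' ⊓ Subgroup.centralizer (P : Set G) = ⊥)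
    (hNQ : Subgroup.normalizer (Q : Set G) ≤ L) (hNQ' : Subgroup.normalizer (Q' : Set G) ≤ M) :
    False :=
  twelve_thirteen hG hM hL hnc hpM.1
    (fun h => hpM.2.1 (beta_sub_sigma hG hM h)) (fun h => hpL.2.1 (beta_sub_sigma hG hL h))
    hPc hPML hQ hQ' hQ1 hQ'1 hPQ hPQ' hf hf' hNQ hNQ'

end Cfsg.Agent.Lib.Helper18.Asym13D
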