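import Mathlib
import Cfsg.Prelude.Def_OddOrderLocal
import Cfsg.Agent.Lib.Helper18.SylowIn
import Cfsg.Agent.Lib.Helper20.HallRel
import Cfsg.Agent.Lib.Helper21.NarrowF
import Cfsg.Agent.Lib.Helper28.BGtM

/-!
# Generic lemmas for the finish of Lemma L (B & G section 13)

* `isComplIn_of_card`: complements from orders;
* `exists_compl_ge`: a complement of a Sylow subgroup in its normalizer containing a given
  subgroup of coprime order;
* `der_centralizes`: the derived subgroup of an odd solvable group of coprime order normalizing a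
  narrow group centralizes it;
* `conj_comm_of_der`: invariance of the centralizer of an element;
* `inf_centralizer_le_commutator`: `W = [W,Q]`, coprime orders, implies `C_W(Q) ≤ W'`.
-/

set_option autoImplicit false
open scoped commutatorElement

namespace Cfsg.Agent.Lib.Helper18.NaFinish

open Cfsg Cfsg.Agent.Lib Cfsg.Agent.Lib.Helper18

variable {G : Type*} [Group G]

theorem isComplIn_of_card [Finite G] {A B N : Subgroup G} (hAN : A ≤ N) (hBN : B ≤ N)
    (hAB : A ⊓ B = ⊥) (hcard : Nat.card A * Nat.card B = Nat.card N) : Cfsg.IsComplIn A B N := by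
  refine ⟨hAN, hBN, hAB, ?_⟩
  have hdisj : Disjoint (A.subgroupOf N) (B.subgroupOf N) := by
    rw [disjoint_iff, eq_bot_iff]
    rintro ⟨y, hy⟩ ⟨h1, h2⟩
    have h3 : y ∈ A ⊓ B := ⟨Subgroup.mem_subgroupOf.mp h1, Subgroup.mem_subgroupOf.mp h2⟩
    rw [hAB, Subgroup.mem_bot] at h3
    rw [Subgroup.mem_bot]
    exact Subtype.ext h3
  have hc : Nat.card (A.subgroupOf N) * Nat.card (B.subgroupOf N) = Nat.card N := by
    rw [Nat.card_congr (Subgroup.subgroupOfEquivOfLe hAN).toEquiv,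
      Nat.card_congr (Subgroup.subgroupOfEquivOfLe hBN).toEquiv, hcard]
  have hcompl := Subgroup.isComplement'_of_card_mul_and_disjoint hc hdisj
  intro m hm
  obtain ⟨⟨a, b⟩, hab, -⟩ := hcompl.existsUnique (⟨m, hm⟩ : ↥N)
  refine ⟨(a : ↥N), Subgroup.mem_subgroupOf.mp a.2, (b : ↥N), Subgroup.mem_subgroupOf.mp b.2, ?_⟩
  have := congrArg Subtype.val hab
  simpa using this.symm


/-- a complement of the Sylow subgroup `S` in `N_G(S)` containing a given subgroup `X` of `N_G(S)`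
of order prime to `r` -/
theorem exists_compl_ge [Finite G] {r : ℕ} [hr : Fact r.Prime] {S X : Subgroup G}
    (hS : IsSylowIn r S ⊤) (hsol : Group.IsSolvable ↥(Subgroup.normalizer (S : Set G)))
    (hXN : X ≤ Subgroup.normalizer (S : Set G)) (hXr : (Nat.card X).Coprime r) :
    ∃ V : Subgroup G, Cfsg.IsComplIn S V (Subgroup.normalizer (S : Set G)) ∧
      (Nat.card V).Coprime r ∧ X ≤ V := by
  obtain ⟨Γ, hΓ⟩ : ∃ Γ : Subgroup G, Γ = Subgroup.normalizer (S : Set G) := ⟨_, rfl⟩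
  rw [← hΓ] at hsol hXN ⊢
  obtain ⟨σ, hσ⟩ : ∃ σ : Set ℕ, σ = {q | q ≠ r} := ⟨_, rfl⟩
  have hsep := Helper20.piSepS_of_solvable σ ↥Γ
  have hXσ : Helper20.PiNum σ (Nat.card X) := by
    intro q hq hd
    rw [hσ]
    rintro rfl
    exact (Nat.Prime.coprime_iff_not_dvd hq).mp hXr.symm hd
  obtain ⟨T, hTΓ, hT1, hT2, hXT⟩ := Helper20.hall_rel_dominance σ Γ hsep X hXN hXσ
  have hSΓ : S ≤ Γ := hΓ ▸ Subgroup.le_normalizer
  have hTr : (Nat.card T).Coprime r := by
    rw [Nat.coprime_comm, Nat.Prime.coprime_iff_not_dvd hr.out]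
    intro hd
    have := hT1 r hr.out hd
    rw [hσ] at this
    exact this rfl
  obtain ⟨k, hk⟩ := IsPGroup.iff_card.mp hS.isPGroup
  have hST : S ⊓ T = ⊥ := by
    rw [eq_bot_iff]
    intro y hy
    rw [Subgroup.mem_bot, ← orderOf_eq_one_iff]
    have h1 : orderOf y ∣ r ^ k := hk ▸ Subgroup.orderOf_dvd_natCard S hy.1
    have h2 : orderOf y ∣ Nat.card T := Subgroup.orderOf_dvd_natCard T hy.2
    exact Nat.eq_one_of_dvd_coprimes (Nat.Coprime.pow_right k hTr).symm h1 h2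
  -- orders
  have hb : (S.relIndex Γ).Coprime r := by
    rw [Nat.coprime_comm, Nat.Prime.coprime_iff_not_dvd hr.out]
    exact (hS.of_le hSΓ le_top).not_dvd
  have e1 : Nat.card S * S.relIndex Γ = Nat.card Γ := by
    rw [← Subgroup.relIndex_bot_left S, ← Subgroup.relIndex_bot_left Γ,
      Subgroup.relIndex_mul_relIndex _ _ _ bot_le hSΓ]
  have e2 : Nat.card T * T.relIndex Γ = Nat.card Γ := by
    rw [← Subgroup.relIndex_bot_left T, ← Subgroup.relIndex_bot_left Γ,
      Subgroup.relIndex_mul_relIndex _ _ _ bot_le hTΓ]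
  have hd_cop : ∀ n : ℕ, n.Coprime r → n.Coprime (T.relIndex Γ) := by
    intro n hn
    apply Nat.coprime_of_dvd
    intro q hq hqn hqd
    by_cases hqr : q = r
    · subst hqr
      exact (Nat.Prime.coprime_iff_not_dvd hq).mp hn.symm hqn
    · exact hT2 q hq (by rw [hσ]; exact hqr) hqd
  have h3 : Nat.card T ∣ S.relIndex Γ := by
    have : Nat.card T ∣ Nat.card S * S.relIndex Γ := by rw [e1, ← e2]; exact Dvd.intro _ rfl
    rw [hk] at this
    exact (Nat.Coprime.pow_right k hTr).dvd_of_dvd_mul_left this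
  have h4 : S.relIndex Γ ∣ Nat.card T := by
    have : S.relIndex Γ ∣ Nat.card T * T.relIndex Γ := by rw [e2, ← e1]; exact Dvd.intro_left _ rfl
    exact (hd_cop _ hb).dvd_of_dvd_mul_right this
  have h5 : Nat.card T = S.relIndex Γ := Nat.dvd_antisymm h3 h4
  refine ⟨T, isComplIn_of_card hSΓ hTΓ hST ?_, hTr, hXT⟩
  rw [h5, e1]


/-- B & G 5.5(a) in subgroup form: an odd solvable group `V` of order prime to `r` normalizing a
narrow `r`-group `S` has `[V,V] ≤ C(S)` -/
theorem der_centralizes [Finite G] {r : ℕ} [hr : Fact r.Prime] (hr2 : r ≠ 2) {S V : Subgroup G}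
    (hS : IsPGroup r S) (hn : Cfsg.IsNarrow r ↥S) (hVN : V ≤ Subgroup.normalizer (S : Set G))
    (hodd : Odd (Nat.card V)) (hsol : Group.IsSolvable ↥V) (hVr : (Nat.card V).Coprime r) :
    ⁅V, V⁆ ≤ Subgroup.centralizer (S : Set G) := by
  rw [← Subgroup.map_subtype_commutator]
  rintro _ ⟨g, hg, rfl⟩
  obtain ⟨φ, hφ⟩ : ∃ φ : ↥V →* MulAut ↥S,
      φ = S.normalizerMonoidHom.comp (Subgroup.inclusion hVN) := ⟨_, rfl⟩
  have hφa : ∀ (a : ↥V) (v : ↥S), ((φ a v : ↥S) : G) = a * v * (a : G)⁻¹ := by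
    intro a v
    rw [hφ]
    rfl
  have h1 : φ g = 1 :=
    Helper21.Narrow.narrow_der_trivial r hr2 hS hn hodd φ g hg (Nat.card ↥V) pow_card_eq_one'
      ((Nat.Prime.coprime_iff_not_dvd hr.out).mp hVr.symm)
  rw [Subgroup.mem_centralizer_iff]
  intro s hs
  have h2 := hφa g ⟨s, hs⟩
  rw [h1] at h2
  simp only [MulAut.one_apply] at h2
  show s * (g : G) = (g : G) * s
  calc s * (g : G) = ((g : G) * s * (g : G)⁻¹) * g := by rw [← h2]
    _ = g * s := by group

/-- if `[V,V]` centralizes `S`, `x ∈ V`, `v ∈ V` and `y ∈ S` commutes with `x`, then `v y v⁻¹`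
commutes with `x` -/
theorem conj_comm_of_der {S V : Subgroup G} (hder : ⁅V, V⁆ ≤ Subgroup.centralizer (S : Set G))
    {x v y : G} (hx : x ∈ V) (hv : v ∈ V) (hy : y ∈ S) (hyx : y * x = x * y) :
    (v * y * v⁻¹) * x = x * (v * y * v⁻¹) := by
  have hc : ⁅x⁻¹, v⁻¹⁆ ∈ Subgroup.centralizer (S : Set G) :=
    hder (Subgroup.commutator_mem_commutator (V.inv_mem hx) (V.inv_mem hv))
  have h1 : y * ⁅x⁻¹, v⁻¹⁆ = ⁅x⁻¹, v⁻¹⁆ * y := (Subgroup.mem_centralizer_iff.mp hc) y hy
  have h2 : v⁻¹ * x * v = x * ⁅x⁻¹, v⁻¹⁆ := by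
    rw [commutatorElement_def]; group
  have h3 : y * (v⁻¹ * x * v) = (v⁻¹ * x * v) * y := by
    rw [h2, ← mul_assoc, hyx, mul_assoc, h1, mul_assoc]
  calc (v * y * v⁻¹) * x = v * (y * (v⁻¹ * x * v)) * v⁻¹ := by group
    _ = v * ((v⁻¹ * x * v) * y) * v⁻¹ := by rw [h3]
    _ = x * (v * y * v⁻¹) := by group

/-- coprime action: if `W = [W,Q]` and the orders of `W` and `Q` are coprime then `C_W(Q) ≤ W'` -/
theorem inf_centralizer_le_commutator [Finite G] {W Q : Subgroup G}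
    (hQW : Q ≤ Subgroup.normalizer (W : Set G)) (hWQ : W ≤ ⁅W, Q⁆)
    (hcop : (Nat.card W).Coprime (Nat.card Q)) :
    W ⊓ Subgroup.centralizer (Q : Set G) ≤ ⁅W, W⁆ := by
  classical
  let instQ : Fintype ↥(Q.subgroupOf (Subgroup.normalizer (W : Set G))) := Fintype.ofFinite _
  have hnQ := Helper28.BGt.normS_eq_one W Q hQW hWQ
  have hcardQ : Fintype.card ↥(Q.subgroupOf (Subgroup.normalizer (W : Set G))) = Nat.card Q := by
    rw [← Nat.card_eq_fintype_card]
    exact Nat.card_congr (Subgroup.subgroupOfEquivOfLe hQW).toEquiv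
  rintro y ⟨hyW, hyC⟩
  rw [← Helper28.BGt.of_eq_one_iff W ⟨y, hyW⟩]
  have h1 : (Abelianization.of (⟨y, hyW⟩ : ↥W) : Abelianization ↥W) ^ Nat.card Q = 1 := by
    rw [← hcardQ, ← Helper28.BGt.normS_of_fixed (Helper28.BGt.abAct W)
      (Q.subgroupOf (Subgroup.normalizer (W : Set G))) _ ?_]
    · exact hnQ _
    · intro s hs
      rw [Helper28.BGt.abAct_of]
      congr 1
      apply Subtype.ext
      have hsQ : (s : G) ∈ Q := Subgroup.mem_subgroupOf.mp hs
      have h3 := (Subgroup.mem_centralizer_iff.mp hyC) s hsQ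
      change (s : G) * y * (s : G)⁻¹ = y
      rw [h3, mul_inv_cancel_right]
  have h2 : (Abelianization.of (⟨y, hyW⟩ : ↥W) : Abelianization ↥W) ^ Nat.card W = 1 := by
    rw [← map_pow, pow_card_eq_one', map_one]
  have h3 : orderOf (Abelianization.of (⟨y, hyW⟩ : ↥W) : Abelianization ↥W) = 1 :=
    Nat.eq_one_of_dvd_coprimes hcop (orderOf_dvd_of_pow_eq_one h2) (orderOf_dvd_of_pow_eq_one h1)
  exact orderOf_eq_one_iff.mp h3

end Cfsg.Agent.Lib.Helper18.NaFinish
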