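import Mathlib
import Cfsg.Agent.S1408
import Cfsg.Agent.S1411
import Cfsg.Agent.S1416
import Cfsg.Agent.S1417
import Cfsg.Agent.S1418
import Cfsg.Agent.S1419
import Cfsg.Agent.Lib.Helper28.BGtC
import Cfsg.Agent.Lib.Helper11.BenderP
import Cfsg.Agent.Lib.Helper11.BenderR
import Cfsg.Agent.Lib.Helper21.BG13w
import Cfsg.Agent.Lib.Helper18.NaFinishA
import Cfsg.Agent.Lib.Lead.Coprime

/-!
# The generic finish (N3) of Lemma L (B & G section 13)

`r ∈ τ₂(M)`, the Sylow `r`-subgroups of `G` nonabelian, `A ≤ E` elementary abelian of order `r²`,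
`A₀ = C_A(M_σ)`, `L` a maximal subgroup over `N_G(A)`, `x ∈ E` an `r'`-element with `C_A(x) = A₀`,
and `E ≤ C_G(A₀)`: contradiction.
-/

set_option autoImplicit false
open scoped commutatorElement

namespace Cfsg.Agent.Lib.Helper18.NaFinish

open Cfsg Cfsg.Agent.Lib Cfsg.Agent.Lib.Helper18

variable {G : Type*} [Group G] [Finite G]

/-- the data and first consequences -/
structure Ctx (M E A L : Subgroup G) (r : ℕ) (x : G) : Prop where
  hG : Cfsg.IsMinSimpleOddOrder G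
  hM : IsCoatom M
  hE : Cfsg.IsComplIn E (Cfsg.sigmaCore M) M
  hrp : r.Prime
  hr : r ∈ Cfsg.tau2 M
  hS : ∀ S : Sylow r G, ¬ IsMulCommutative (S : Subgroup G)
  hAE : A ≤ E
  hAe : Cfsg.IsElementaryAbelian r A
  hA2 : Nat.card A = r ^ 2
  hL : IsCoatom L
  hNL : Subgroup.normalizer (A : Set G) ≤ L
  hxE : x ∈ E
  hxr : (orderOf x).Coprime r
  hxL : (orderOf x).Coprime (Nat.card (Cfsg.sigmaCore L))
  hxA : ∀ a ∈ A, x * a = a * x ↔ a ∈ A ⊓ Subgroup.centralizer (Cfsg.sigmaCore M : Set G)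
  hcent : E ≤ Subgroup.centralizer
    ((A ⊓ Subgroup.centralizer (Cfsg.sigmaCore M : Set G) : Subgroup G) : Set G)

namespace Ctx

variable {M E A L : Subgroup G} {r : ℕ} {x : G}

theorem fact (c : Ctx M E A L r x) : Fact r.Prime := ⟨c.hrp⟩

theorem tctx (c : Ctx M E A L r x) : Helper28.BGt.Tau2Ctx M E r A :=
  ⟨c.hG, fun M hM p _ A hA => Cfsg.Agent.S1416.result c.hG M hM p A hA,
    fun M hM p _ hp A hA => Cfsg.Agent.S1417.result c.hG M hM p hp A hA,
    c.hM, c.hE, c.hr, c.hAE, c.hAe, c.hA2⟩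

theorem E_le_normalizer (c : Ctx M E A L r x) : E ≤ Subgroup.normalizer (A : Set G) :=
  have := c.fact
  (Cfsg.Agent.S1418.result c.hG M c.hM E c.hE r c.hr A ⟨c.hAE, c.hAe, c.hA2⟩).1.1

theorem le_A_of_card (c : Ctx M E A L r x) {X : Subgroup G} (hXE : X ≤ E)
    (hXc : Nat.card X = r) : X ≤ A :=
  have := c.fact
  (Cfsg.Agent.S1418.result c.hG M c.hM E c.hE r c.hr A ⟨c.hAE, c.hAe, c.hA2⟩).1.2 X hXE hXc

theorem normalizer_not_le (c : Ctx M E A L r x) : ¬ Subgroup.normalizer (A : Set G) ≤ M :=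
  have := c.fact
  (Cfsg.Agent.S1418.result c.hG M c.hM E c.hE r c.hr A ⟨c.hAE, c.hAe, c.hA2⟩).2.1.2.2

theorem cent_unique (c : Ctx M E A L r x) {X : Subgroup G} (hXA : X ≤ A) (hXc : Nat.card X = r)
    (hne : Cfsg.sigmaCore M ⊓ Subgroup.centralizer (X : Set G) ≠ ⊥) :
    Subgroup.centralizer (X : Set G) ≤ M ∧
      ∀ K : Subgroup G, IsCoatom K → Subgroup.centralizer (X : Set G) ≤ K → K = M :=
  have := c.fact
  (Cfsg.Agent.S1418.result c.hG M c.hM E c.hE r c.hr A ⟨c.hAE, c.hAe, c.hA2⟩).2.2 X hXA hXc hne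

theorem card_A0 (c : Ctx M E A L r x) :
    Nat.card ↥(A ⊓ Subgroup.centralizer (Cfsg.sigmaCore M : Set G)) = r :=
  have := c.fact
  (Cfsg.Agent.S1419.result c.hG M c.hM E c.hE r c.hr c.hS A ⟨c.hAE, c.hAe, c.hA2⟩).2.1.1

theorem sylow_comm (c : Ctx M E A L r x) (P : Sylow r M) : IsMulCommutative (P : Subgroup M) :=
  have := c.fact
  ((Cfsg.Agent.S1417.result c.hG M c.hM r c.hr A ⟨c.hAE.trans c.hE.1, c.hAe, c.hA2⟩).2.1 P).1

theorem inf_star (c : Ctx M E A L r x) {K : Subgroup G} (hK : IsCoatom K) (hKM : K ≠ M)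
    (hAK : A ≤ K) : Cfsg.sigmaCore M ⊓ K = ⊥ :=
  have := c.fact
  (Cfsg.Agent.S1417.result c.hG M c.hM r c.hr A
    ⟨c.hAE.trans c.hE.1, c.hAe, c.hA2⟩).2.2.2.2.1 K hK hKM hAK

theorem A0_ne_bot (c : Ctx M E A L r x) :
    A ⊓ Subgroup.centralizer (Cfsg.sigmaCore M : Set G) ≠ ⊥ := by
  intro h
  have h1 := c.card_A0
  rw [h, Subgroup.card_bot] at h1
  exact c.hrp.one_lt.ne h1

theorem A_ne_top (c : Ctx M E A L r x) : A ≠ ⊤ := by
  intro h
  have h1 : A ≤ M := c.hAE.trans c.hE.1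
  rw [h] at h1
  exact c.hM.1 (eq_top_iff.mpr h1)

theorem cent_A0 (c : Ctx M E A L r x) :
    Subgroup.centralizer
        ((A ⊓ Subgroup.centralizer (Cfsg.sigmaCore M : Set G) : Subgroup G) : Set G) ≤ M ∧
      ∀ K : Subgroup G, IsCoatom K → Subgroup.centralizer
        ((A ⊓ Subgroup.centralizer (Cfsg.sigmaCore M : Set G) : Subgroup G) : Set G) ≤ K →
        K = M := by
  apply c.cent_unique inf_le_left c.card_A0
  have h1 : Cfsg.sigmaCore M ≤ Subgroup.centralizer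
      ((A ⊓ Subgroup.centralizer (Cfsg.sigmaCore M : Set G) : Subgroup G) : Set G) := by
    rw [Subgroup.le_centralizer_iff]
    exact inf_le_right
  rw [inf_eq_left.mpr h1]
  exact Helper1.BG12.sigmaCore_ne_bot c.hG M c.hM

theorem normalizer_A0 (c : Ctx M E A L r x) :
    Subgroup.normalizer
      ((A ⊓ Subgroup.centralizer (Cfsg.sigmaCore M : Set G) : Subgroup G) : Set G) ≤ M := by
  have hne : Subgroup.normalizer
      ((A ⊓ Subgroup.centralizer (Cfsg.sigmaCore M : Set G) : Subgroup G) : Set G) ≠ ⊤ := by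
    apply Helper1.BG10.normalizer_ne_top c.hG c.A0_ne_bot
    intro h
    apply c.A_ne_top
    rw [eq_top_iff, ← h]
    exact inf_le_left
  obtain ⟨K, hK, hle⟩ := (eq_top_or_exists_le_coatom _).resolve_left hne
  have hKM := c.cent_A0.2 K hK ((Subgroup.centralizer_le_normalizer _).trans hle)
  rwa [hKM] at hle

theorem L_ne (c : Ctx M E A L r x) : L ≠ M := by
  rintro rfl
  exact c.normalizer_not_le c.hNL

theorem E_le_L (c : Ctx M E A L r x) : E ≤ L := c.E_le_normalizer.trans c.hNL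

theorem A_le_L (c : Ctx M E A L r x) : A ≤ L := Subgroup.le_normalizer.trans c.hNL

theorem sigma_inf_L (c : Ctx M E A L r x) : Cfsg.sigmaCore M ⊓ L = ⊥ :=
  c.inf_star c.hL c.L_ne c.A_le_L

theorem inf_le_E (c : Ctx M E A L r x) : M ⊓ L ≤ E := by
  rintro g ⟨hgM, hgL⟩
  obtain ⟨e, he, s, hs, rfl⟩ := c.hE.2.2.2 g hgM
  have hsL : s ∈ L := by
    have h1 : s = e⁻¹ * (e * s) := by group
    rw [h1]
    exact L.mul_mem (L.inv_mem (c.E_le_L he)) hgL
  have hs1 : s ∈ Cfsg.sigmaCore M ⊓ L := ⟨hs, hsL⟩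
  rw [c.sigma_inf_L, Subgroup.mem_bot] at hs1
  rw [hs1, mul_one]
  exact he

theorem r_sigma_L (c : Ctx M E A L r x) : r ∈ Cfsg.sigma L :=
  c.tctx.p_mem_sigma_over c.hL c.hNL

theorem A_le_sigmaCore (c : Ctx M E A L r x) : A ≤ Cfsg.sigmaCore L := by
  intro a ha
  apply Helper28.BGt.pelem_mem_sigmaCore c.hG c.hL c.r_sigma_L (c.A_le_L ha) (k := 1)
  rw [pow_one]
  exact c.hAe.2 a ha

theorem r_ne_two (c : Ctx M E A L r x) : r ≠ 2 :=
  Helper1.BG10.prime_ne_two c.hG r L c.r_sigma_L.2.1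

theorem x_mem_L (c : Ctx M E A L r x) : x ∈ L := c.E_le_L c.hxE

/-- an `x`-invariant Sylow `r`-subgroup of `L_σ` containing `A` -/
theorem exists_sylow (c : Ctx M E A L r x) :
    ∃ S : Subgroup G, IsSylowIn r S (Cfsg.sigmaCore L) ∧
      Subgroup.zpowers x ≤ Subgroup.normalizer (S : Set G) ∧ A ≤ S := by
  have := c.fact
  apply Helper11.BenderP.exists_inv_sylow_ge (Subgroup.zpowers x) (Cfsg.sigmaCore L)
  · rw [Subgroup.zpowers_le]
    exact Helper28.BGt.le_normalizer_sigmaCore L c.x_mem_L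
  · rw [Nat.card_zpowers]
    exact c.hxL
  · infer_instance
  · exact c.A_le_sigmaCore
  · exact c.tctx.isPGroup_A
  · rw [Subgroup.zpowers_le]
    exact c.E_le_normalizer c.hxE

end Ctx

namespace Ctx

variable {M E A L : Subgroup G} {r : ℕ} {x : G}

open Cfsg.Agent.Lib.Helper11.BenderM

/-- a Sylow `r`-subgroup of `L_σ` is a Sylow `r`-subgroup of `G` with normalizer in `L` -/
theorem good (c : Ctx M E A L r x) {S : Subgroup G} (hSK : IsSylowIn r S (Cfsg.sigmaCore L)) :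
    Good L r S := by
  have := c.fact
  have hσL : Cfsg.sigmaCore L ≤ L := Helper28.BGt.sigmaCore_le L
  have hSL : S ≤ L := hSK.le.trans hσL
  have hSyl : IsSylowIn r S L := by
    refine ⟨hSL, hSK.isPGroup, ?_⟩
    rw [← Subgroup.relIndex_mul_relIndex S (Cfsg.sigmaCore L) L hSK.le hσL]
    intro hd
    rcases (Nat.Prime.dvd_mul c.hrp).mp hd with h | h
    · exact hSK.not_dvd h
    · exact (Helper11.BenderO.sigma_hall c.hG L c.hL).1.2.2 r c.hrp c.r_sigma_L h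
  obtain ⟨S₀, hS₀⟩ := exists_good_of_sigma L r c.r_sigma_L
  obtain ⟨S', hS', hSS'⟩ := exists_good_ge hS₀ S hSL hSK.isPGroup
  have heq : S' = S := hSyl.eq_of_le hS'.1.le hS'.1.isPGroup hSS'
  rwa [heq] at hS'

/-- elements of `C_S(x)` of order dividing `r` that centralize `A₀` lie in `A₀` -/
theorem uniq_aux (c : Ctx M E A L r x) {S : Subgroup G} (hSL : S ≤ L) {y : G} (hyS : y ∈ S)
    (hyx : y * x = x * y) (hyr : y ^ r = 1)
    (hyA : y ∈ Subgroup.centralizer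
      ((A ⊓ Subgroup.centralizer (Cfsg.sigmaCore M : Set G) : Subgroup G) : Set G)) :
    y ∈ A ⊓ Subgroup.centralizer (Cfsg.sigmaCore M : Set G) := by
  have := c.fact
  have hyE : y ∈ E := c.inf_le_E ⟨c.cent_A0.1 hyA, hSL hyS⟩
  by_cases hy1 : y = 1
  · rw [hy1]; exact Subgroup.one_mem _
  · have ho : orderOf y = r := orderOf_eq_prime hyr hy1
    have hle : Subgroup.zpowers y ≤ A := by
      apply c.le_A_of_card
      · rw [Subgroup.zpowers_le]; exact hyE
      · rw [Nat.card_zpowers, ho]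
    have hyA' : y ∈ A := hle (Subgroup.mem_zpowers y)
    exact (c.hxA y hyA').mp hyx.symm

/-- `A₀` contains every element of `C_S(x)` of order dividing `r` -/
theorem uniq (c : Ctx M E A L r x) {S : Subgroup G} (hSr : IsPGroup r S) (hSL : S ≤ L)
    (hAS : A ≤ S) {y : G} (hyS : y ∈ S) (hyx : y * x = x * y) (hyr : y ^ r = 1) :
    y ∈ A ⊓ Subgroup.centralizer (Cfsg.sigmaCore M : Set G) := by
  have := c.fact
  obtain ⟨C, hC⟩ : ∃ C : Subgroup G, C = S ⊓ Subgroup.centralizer ({x} : Set G) := ⟨_, rfl⟩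
  have hmemC : ∀ w : G, w ∈ C ↔ w ∈ S ∧ w * x = x * w := by
    intro w
    rw [hC, Subgroup.mem_inf, Subgroup.mem_centralizer_singleton_iff]
  have hA0C : A ⊓ Subgroup.centralizer (Cfsg.sigmaCore M : Set G) ≤ C := by
    intro a ha
    rw [hmemC]
    exact ⟨hAS ha.1, ((c.hxA a ha.1).mpr ha).symm⟩
  have hCr : IsPGroup r ↥C := hSr.to_le (by rw [hC]; exact inf_le_left)
  have hCnt : Nontrivial ↥C := by
    obtain ⟨a, ha, ha1⟩ : ∃ a ∈ A ⊓ Subgroup.centralizer (Cfsg.sigmaCore M : Set G), a ≠ 1 := by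
      by_contra h
      push Not at h
      apply c.A0_ne_bot
      rw [eq_bot_iff]
      intro a ha
      exact Subgroup.mem_bot.mpr (h a ha)
    exact ⟨⟨⟨a, hA0C ha⟩, 1, fun h => ha1 (congrArg Subtype.val h)⟩⟩
  have hZnt : Nontrivial ↥(Subgroup.center ↥C) := hCr.center_nontrivial
  have hZr : IsPGroup r ↥(Subgroup.center ↥C) := hCr.to_subgroup _
  have hrd : r ∣ Nat.card ↥(Subgroup.center ↥C) := by
    obtain ⟨k, hk⟩ := IsPGroup.iff_card.mp hZr
    rw [hk]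
    apply dvd_pow_self
    rintro rfl
    rw [pow_zero] at hk
    have := Finite.one_lt_card (α := ↥(Subgroup.center ↥C))
    omega
  obtain ⟨z, hz⟩ := exists_prime_orderOf_dvd_card' r hrd
  -- `z` as an element of `G`
  have hzC : ((z : ↥C) : G) ∈ C := (z : ↥C).2
  have hzS : ((z : ↥C) : G) ∈ S := ((hmemC _).mp hzC).1
  have hzx : ((z : ↥C) : G) * x = x * ((z : ↥C) : G) := ((hmemC _).mp hzC).2
  have hzo : orderOf ((z : ↥C) : G) = r := by
    rw [Subgroup.orderOf_coe, Subgroup.orderOf_coe]; exact hz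
  have hzr : ((z : ↥C) : G) ^ r = 1 := by rw [← hzo]; exact pow_orderOf_eq_one _
  have hz1 : ((z : ↥C) : G) ≠ 1 := by
    intro h
    rw [h, orderOf_one] at hzo
    exact c.hrp.one_lt.ne hzo
  have hzcomm : ∀ w ∈ C, w * ((z : ↥C) : G) = ((z : ↥C) : G) * w := by
    intro w hw
    have h1 := (Subgroup.mem_center_iff.mp z.2) ⟨w, hw⟩
    exact congrArg Subtype.val h1
  have hzA0 : ((z : ↥C) : G) ∈ A ⊓ Subgroup.centralizer (Cfsg.sigmaCore M : Set G) := by
    apply c.uniq_aux hSL hzS hzx hzr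
    rw [Subgroup.mem_centralizer_iff]
    intro a ha
    exact hzcomm a (hA0C ha)
  apply c.uniq_aux hSL hyS hyx hyr
  exact Helper28.BGt.mem_centralizer_of_prime_card c.hrp _ c.card_A0 hzA0 hz1
    (hzcomm y ((hmemC y).mpr ⟨hyS, hyx⟩))

/-- the contradiction, given the invariant Sylow subgroup -/
theorem false_of_sylow (c : Ctx M E A L r x) {S : Subgroup G}
    (hSK : IsSylowIn r S (Cfsg.sigmaCore L))
    (hXS : Subgroup.zpowers x ≤ Subgroup.normalizer (S : Set G)) (hAS : A ≤ S) : False := by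
  have := c.fact
  obtain ⟨hSylL, hNSL, hSyl⟩ := c.good hSK
  have hSr : IsPGroup r S := hSK.isPGroup
  have hSL : S ≤ L := hSylL.le
  have hidx : ¬ r ∣ S.index := by
    rw [← Subgroup.relIndex_top_right]; exact hSyl.not_dvd
  obtain ⟨P, hP⟩ : ∃ P : Sylow r G, (P : Subgroup G) = S := ⟨hSr.toSylow hidx, rfl⟩
  have hNtop : Subgroup.normalizer (S : Set G) ≠ ⊤ := by
    intro h
    rw [h] at hNSL
    exact c.hL.1 (eq_top_iff.mpr hNSL)
  have hsolN : Group.IsSolvable ↥(Subgroup.normalizer (S : Set G)) := c.hG.2.2.2 _ hNtop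
  have hXr : (Nat.card ↥(Subgroup.zpowers x)).Coprime r := by
    rw [Nat.card_zpowers]; exact c.hxr
  obtain ⟨V, hV, hVr, hXV⟩ := exists_compl_ge hSyl hsolN hXS hXr
  have hxV : x ∈ V := hXV (Subgroup.mem_zpowers x)
  have hVN : V ≤ Subgroup.normalizer (S : Set G) := hV.2.1
  have hAM : A ≤ M := c.hAE.trans c.hE.1
  have h08 := Cfsg.Agent.S1408.result c.hG M c.hM r c.hr.2.1 c.hr.2.2.1 c.hr.2.2.2
  have hmax : ∀ B : Subgroup G, B ≤ S → Cfsg.IsElementaryAbelian r B → A ≤ B → B = A :=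
    fun B _ hBe hAB => h08.2 A hAM c.hAe c.hA2 B hBe hAB
  have hn : Cfsg.IsNarrow r ↥S :=
    Helper11.BenderR.narrow_of_max_sq_sub r c.r_ne_two S hSr A hAS c.hAe c.hA2 hmax
  have hoddV : Odd (Nat.card ↥V) := Odd.of_dvd_nat c.hG.1 (Subgroup.card_subgroup_dvd_card V)
  have hsolV : Group.IsSolvable ↥V := Lead.solvable_of_le hVN
  have hder := der_centralizes c.r_ne_two hSr hn hVN hoddV hsolV hVr
  -- `V` normalizes `A₀`
  have hVA0 : V ≤ Subgroup.normalizer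
      ((A ⊓ Subgroup.centralizer (Cfsg.sigmaCore M : Set G) : Subgroup G) : Set G) := by
    intro v hv
    apply mem_normalizer_of_conjSub_le
    rintro _ ⟨a, ha, rfl⟩
    show v * a * v⁻¹ ∈ _
    have haS : a ∈ S := hAS ha.1
    apply c.uniq hSr hSL hAS
    · exact (Subgroup.mem_normalizer_iff.mp (hVN hv) a).mp haS
    · exact conj_comm_of_der hder hxV hv haS ((c.hxA a ha.1).mpr ha).symm
    · rw [conj_pow, c.hAe.2 a ha.1]; group
  have hVE : V ≤ E := fun v hv => c.inf_le_E ⟨c.normalizer_A0 (hVA0 hv), hNSL (hVN hv)⟩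
  have hVcent := hVE.trans c.hcent
  -- `A₀ ≤ S'`
  have hV' : Cfsg.IsComplIn (P : Subgroup G) V
      (Subgroup.normalizer ((P : Subgroup G) : Set G)) := by rw [hP]; exact hV
  have h11 := (Cfsg.Agent.S1411.result c.hG r P V hV').1
  rw [hP] at h11
  obtain ⟨k, hk⟩ := IsPGroup.iff_card.mp hSr
  have hcop : (Nat.card ↥S).Coprime (Nat.card ↥V) := by
    rw [hk]; exact Nat.Coprime.pow_left k hVr.symm
  have hcomm := inf_centralizer_le_commutator hVN h11.le hcop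
  have hA0S' : A ⊓ Subgroup.centralizer (Cfsg.sigmaCore M : Set G) ≤ ⁅S, S⁆ := by
    intro a ha
    apply hcomm
    refine ⟨hAS ha.1, ?_⟩
    show a ∈ Subgroup.centralizer (V : Set G)
    rw [Subgroup.mem_centralizer_iff]
    intro v hv
    exact ((Subgroup.mem_centralizer_iff.mp (hVcent hv)) a ha).symm
  -- `A₀ ≤ Z(S)`
  have h3b := Helper21.BG13w.max_sq_inf_commutator_le_center c.hG r P A (hP ▸ hAS) c.hAe c.hA2
    (by rw [hP]; exact hmax)
  rw [hP] at h3b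
  have hSM : S ≤ M := by
    intro s hs
    apply c.cent_A0.1
    rw [Subgroup.mem_centralizer_iff]
    intro a ha
    exact h3b a ha.1 (hA0S' ha) s hs
  -- `S` is abelian, a contradiction
  apply c.hS P
  rw [hP]
  have hSp' : IsPGroup r ↥(S.subgroupOf M) := hSr.comap_subtype
  obtain ⟨Q, hQ⟩ := hSp'.exists_le_sylow
  have hQc := c.sylow_comm Q
  refine ⟨⟨fun a b => ?_⟩⟩
  have ha : (⟨a.1, hSM a.2⟩ : ↥M) ∈ (Q : Subgroup ↥M) := hQ (Subgroup.mem_subgroupOf.mpr a.2)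
  have hb : (⟨b.1, hSM b.2⟩ : ↥M) ∈ (Q : Subgroup ↥M) := hQ (Subgroup.mem_subgroupOf.mpr b.2)
  have h1 := hQc.is_comm.comm ⟨_, ha⟩ ⟨_, hb⟩
  apply Subtype.ext
  have h2 := congrArg (fun t : ↥(Q : Subgroup ↥M) => ((t : ↥M) : G)) h1
  simpa using h2

end Ctx

/-- **Generic finish (N3) of Lemma L.**  `r ∈ τ₂(M)` with nonabelian Sylow `r`-subgroups of `G`,
`A ≤ E` elementary abelian of order `r²`, `A₀ = C_A(M_σ)`, `L` a maximal subgroup containing
`N_G(A)`, `x ∈ E` an `r'`-element of order prime to `|L_σ|` with `C_A(x) = A₀`, and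
`E ≤ C_G(A₀)`: impossible. -/
theorem na_finish (hG : Cfsg.IsMinSimpleOddOrder G) {M E A L : Subgroup G} (hM : IsCoatom M)
    (hE : Cfsg.IsComplIn E (Cfsg.sigmaCore M) M) {r : ℕ} [hrp : Fact r.Prime]
    (hr : r ∈ Cfsg.tau2 M) (hS : ∀ S : Sylow r G, ¬ IsMulCommutative (S : Subgroup G))
    (hA : A ≤ E ∧ Cfsg.IsElementaryAbelian r A ∧ Nat.card A = r ^ 2)
    (hL : IsCoatom L) (hNL : Subgroup.normalizer (A : Set G) ≤ L)
    {x : G} (hxE : x ∈ E) (hxr : (orderOf x).Coprime r)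
    (hxL : (orderOf x).Coprime (Nat.card (Cfsg.sigmaCore L)))
    (hxA : ∀ a ∈ A, x * a = a * x ↔ a ∈ A ⊓ Subgroup.centralizer (Cfsg.sigmaCore M : Set G))
    (hcent : E ≤ Subgroup.centralizer
      ((A ⊓ Subgroup.centralizer (Cfsg.sigmaCore M : Set G) : Subgroup G) : Set G)) : False := by
  have c : Ctx M E A L r x :=
    ⟨hG, hM, hE, hrp.out, hr, hS, hA.1, hA.2.1, hA.2.2, hL, hNL, hxE, hxr, hxL, hxA, hcent⟩
  obtain ⟨S, hSK, hXS, hAS⟩ := c.exists_sylow
  exact c.false_of_sylow hSK hXS hAS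

end Cfsg.Agent.Lib.Helper18.NaFinish
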