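import Mathlib
import Cfsg.Agent.Lib.Helper18.NaFinish
import Cfsg.Agent.Lib.Helper11.LemLC
import Cfsg.Agent.Lib.Helper28.BGtR

set_option autoImplicit false

/-! "Lemma L" (B & G section 13): final assembly (helper11's steps, helper28's first part,
helper18's last step). -/

namespace Cfsg.Agent.Lib.Helper18.LemLFinal

open Cfsg

variable {G : Type*} [Group G] [Finite G]

/-- the generic last step, in helper11's packaged form -/
theorem hfin (hG : Cfsg.IsMinSimpleOddOrder G) : Cfsg.Agent.Lib.Helper11.LemLB.HFin G := by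
  intro M E L hM hE r hr hS A hAE hAe hA2 hL hNL x hxE hxr hxL hxA hcent
  haveI : Fact r.Prime := ⟨hr.1⟩
  refine Cfsg.Agent.Lib.Helper18.NaFinish.na_finish hG hM hE hr hS ⟨hAE, hAe, hA2⟩ hL hNL hxE
    hxr hxL ?_ hcent
  intro a ha
  rw [hxA a ha, Subgroup.mem_inf]
  exact ⟨fun h => ⟨ha, h⟩, fun h => h.2⟩

/-- the first part, in helper11's packaged form -/
theorem h012 (hG : Cfsg.IsMinSimpleOddOrder G) : Cfsg.Agent.Lib.Helper11.LemLB.H012 G := by
  intro M E hM hE p r hp hr P R A hPE hPc hK hRE hRc hAE hAe hA2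
  haveI : Fact r.Prime := ⟨hr.1⟩
  exact Cfsg.Agent.Lib.Helper28.BGt.tau2_of_tau1_kappa hG hM hE hp hr hPE hPc hK hRE hRc
    ⟨hAE, hAe, hA2⟩

/-- **Lemma L**: in a minimal simple group of odd order, let `M` be a maximal subgroup, `E` a
complement of `M_σ` in `M`, `p ∈ τ₁(M)`, `r ∈ τ₂(M)`, `P ≤ E` of order `p` with
`C_{M_σ}(P) ≠ 1`.  Then no subgroup of order `r` of `E` centralizes `P`. -/
theorem lemma_L (hG : Cfsg.IsMinSimpleOddOrder G)
    {M E : Subgroup G} (hM : IsCoatom M) (hE : Cfsg.IsComplIn E (Cfsg.sigmaCore M) M) {p r : ℕ}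
    (hp : p ∈ Cfsg.tau1 M) (hr : r ∈ Cfsg.tau2 M) {P R : Subgroup G} (hPE : P ≤ E)
    (hPc : Nat.card P = p)
    (hK : Cfsg.sigmaCore M ⊓ Subgroup.centralizer (P : Set G) ≠ ⊥)
    (hRE : R ≤ E ⊓ Subgroup.centralizer (P : Set G)) (hRc : Nat.card R = r) : False :=
  Cfsg.Agent.Lib.Helper11.LemLC.lemma_L_of (h012 hG) (hfin hG) hG hM hE hp hr hPE hPc hK hRE hRc

end Cfsg.Agent.Lib.Helper18.LemLFinal
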