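import Mathlib.GroupTheory.Sylow
import Mathlib.GroupTheory.Nilpotent
import Mathlib.GroupTheory.Index
import Cfsg.Agent.Lib.Helper18.SylowIn

set_option autoImplicit false

namespace Cfsg.Agent.Lib.Helper18.KW

open Cfsg.Agent.Lib.Helper18
open scoped Pointwise

variable {G : Type*} [Group G]

/-- the subgroup generated by the `q`-elements of `H`; for nilpotent `H` its Sylow `q`-subgroup. -/
def sp (H : Subgroup G) (q : ℕ) : Subgroup G :=
  Subgroup.closure {x | x ∈ H ∧ ∃ k : ℕ, x ^ q ^ k = 1}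

theorem sp_le (H : Subgroup G) (q : ℕ) : sp H q ≤ H :=
  (Subgroup.closure_le _).mpr (fun _ hx => hx.1)

theorem mem_sp_of_pow {H : Subgroup G} {q : ℕ} {x : G} (hx : x ∈ H) (k : ℕ) (h : x ^ q ^ k = 1) :
    x ∈ sp H q :=
  Subgroup.subset_closure ⟨hx, k, h⟩

theorem le_sp {H Q : Subgroup G} {q : ℕ} (hQ : Q ≤ H) (hQq : IsPGroup q Q) : Q ≤ sp H q := by
  intro x hx
  obtain ⟨k, hk⟩ := hQq ⟨x, hx⟩
  refine mem_sp_of_pow (hQ hx) k ?_
  have := congrArg Subtype.val hk
  simpa using this

theorem sp_mono {H K : Subgroup G} (h : H ≤ K) (q : ℕ) : sp H q ≤ sp K q :=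
  Subgroup.closure_mono (fun _ hx => ⟨h hx.1, hx.2⟩)

theorem sp_conj (g : G) (H : Subgroup G) (q : ℕ) : sp (conjSub g H) q = conjSub g (sp H q) := by
  unfold sp conjSub
  rw [MonoidHom.map_closure]
  congr 1
  ext x
  constructor
  · rintro ⟨⟨y, hy, rfl⟩, k, hk⟩
    refine ⟨y, ⟨hy, k, ?_⟩, rfl⟩
    apply (MulAut.conj g).injective
    rw [map_one]
    rw [← hk]
    simp
  · rintro ⟨y, ⟨hy, k, hk⟩, rfl⟩
    refine ⟨⟨y, hy, rfl⟩, k, ?_⟩
    rw [← map_pow, hk, map_one]

theorem normalizer_le_normalizer_sp (H : Subgroup G) (q : ℕ) :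
    Subgroup.normalizer (H : Set G) ≤ Subgroup.normalizer (sp H q : Set G) := by
  intro g hg
  rw [Subgroup.mem_normalizer_iff_map_conj_eq] at hg ⊢
  have h2 : conjSub g H = H := hg
  change conjSub g (sp H q) = sp H q
  rw [← sp_conj, h2]

theorem isPGroup_zpowers {q : ℕ} {y : G} (k : ℕ) (h : y ^ q ^ k = 1) :
    IsPGroup q (Subgroup.zpowers y) := by
  rintro ⟨g, hg⟩
  obtain ⟨n, rfl⟩ := Subgroup.mem_zpowers_iff.mp hg
  refine ⟨k, ?_⟩
  apply Subtype.ext
  change (y ^ n) ^ q ^ k = 1
  rw [← zpow_natCast, ← zpow_mul, mul_comm, zpow_mul, zpow_natCast, h, one_zpow]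

theorem sp_eq_map_sylow [Finite G] {H : Subgroup G} (nil : Group.IsNilpotent H) {q : ℕ}
    [Fact q.Prime] (S : Sylow q H) : sp H q = (S : Subgroup H).map H.subtype := by
  have hSn : (S : Subgroup H).Normal :=
    Sylow.normal_of_normalizerCondition Group.normalizerCondition_of_isNilpotent S
  apply le_antisymm
  · apply (Subgroup.closure_le _).mpr
    rintro x ⟨hx, k, hk⟩
    have h1 : IsPGroup q (Subgroup.zpowers (⟨x, hx⟩ : H)) := by
      apply isPGroup_zpowers k
      apply Subtype.ext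
      simpa using hk
    obtain ⟨Q, hQ⟩ := h1.exists_le_sylow
    have hu := Sylow.unique_of_normal S hSn
    have hQS : Q = S := Subsingleton.elim _ _
    rw [hQS] at hQ
    exact ⟨⟨x, hx⟩, hQ (Subgroup.mem_zpowers _), rfl⟩
  · apply le_sp
    · rintro _ ⟨y, _, rfl⟩; exact y.2
    · exact S.isPGroup'.map _

theorem sp_isSylowIn [Finite G] {H : Subgroup G} (nil : Group.IsNilpotent H) {q : ℕ}
    (hq : q.Prime) : IsSylowIn q (sp H q) H := by
  have := Fact.mk hq
  have S : Sylow q H := Classical.arbitrary _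
  rw [sp_eq_map_sylow nil S]
  exact isSylowIn_of_sylow S

theorem sp_isPGroup [Finite G] {H : Subgroup G} (nil : Group.IsNilpotent H) {q : ℕ}
    (hq : q.Prime) : IsPGroup q (sp H q) := (sp_isSylowIn nil hq).isPGroup

theorem sp_card [Finite G] {H : Subgroup G} (nil : Group.IsNilpotent H) {q : ℕ}
    (hq : q.Prime) : Nat.card (sp H q) = q ^ (Nat.card H).factorization q := by
  have := Fact.mk hq
  have S : Sylow q H := Classical.arbitrary _
  rw [sp_eq_map_sylow nil S]
  rw [← S.card_eq_multiplicity]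
  exact Nat.card_congr ((S : Subgroup H).equivMapOfInjective _ H.subtype_injective).toEquiv.symm

theorem sp_ne_bot [Finite G] {H : Subgroup G} (nil : Group.IsNilpotent H) {q : ℕ}
    (hq : q.Prime) (hd : q ∣ Nat.card H) : sp H q ≠ ⊥ := by
  intro h
  have h1 := sp_card nil hq
  rw [h, Subgroup.card_bot] at h1
  have h2 : 0 < (Nat.card H).factorization q :=
    hq.factorization_pos_of_dvd Nat.card_pos.ne' hd
  have h3 : 1 < q ^ (Nat.card H).factorization q := Nat.one_lt_pow h2.ne' hq.one_lt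
  omega

theorem sp_le_normalizer (H : Subgroup G) (q : ℕ) :
    H ≤ Subgroup.normalizer (sp H q : Set G) :=
  Subgroup.le_normalizer.trans (normalizer_le_normalizer_sp H q)

/-- different Sylow subgroups of a nilpotent group commute elementwise. -/
theorem sp_comm [Finite G] {H : Subgroup G} (nil : Group.IsNilpotent H) {q r : ℕ}
    (hq : q.Prime) (hr : r.Prime) (hqr : q ≠ r) {x y : G} (hx : x ∈ sp H q) (hy : y ∈ sp H r) :
    x * y = y * x := by
  have := Fact.mk hq
  have := Fact.mk hr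
  have hdis : Disjoint (sp H q) (sp H r) :=
    IsPGroup.disjoint_of_ne q r hqr _ _ (sp_isPGroup nil hq) (sp_isPGroup nil hr)
  have h1 : x * y * x⁻¹ * y⁻¹ ∈ sp H q := by
    have hyn : y ∈ Subgroup.normalizer (sp H q : Set G) := sp_le_normalizer H q (sp_le H r hy)
    have h2 : y * x⁻¹ * y⁻¹ ∈ sp H q :=
      (Subgroup.mem_normalizer_iff.mp hyn x⁻¹).mp ((sp H q).inv_mem hx)
    have : x * y * x⁻¹ * y⁻¹ = x * (y * x⁻¹ * y⁻¹) := by group
    rw [this]
    exact (sp H q).mul_mem hx h2
  have h2 : x * y * x⁻¹ * y⁻¹ ∈ sp H r := by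
    have hxn : x ∈ Subgroup.normalizer (sp H r : Set G) := sp_le_normalizer H r (sp_le H q hx)
    have h2 : x * y * x⁻¹ ∈ sp H r := (Subgroup.mem_normalizer_iff.mp hxn y).mp hy
    exact (sp H r).mul_mem h2 ((sp H r).inv_mem hy)
  have h3 : x * y * x⁻¹ * y⁻¹ ∈ sp H q ⊓ sp H r := ⟨h1, h2⟩
  rw [hdis.eq_bot, Subgroup.mem_bot] at h3
  have : x * y = (x * y * x⁻¹ * y⁻¹) * (y * x) := by group
  rw [this, h3, one_mul]

/-- a nilpotent group is generated by its Sylow subgroups. -/
theorem sp_gen [Finite G] {H M : Subgroup G} (nil : Group.IsNilpotent H)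
    (h : ∀ q : ℕ, q.Prime → sp H q ≤ M) : H ≤ M := by
  have h1 : Nat.card H ∣ Nat.card (M ⊓ H : Subgroup G) := by
    rw [← Nat.factorization_le_iff_dvd Nat.card_pos.ne' Nat.card_pos.ne']
    intro q
    by_cases hq : q.Prime
    · have h2 : Nat.card (sp H q) ∣ Nat.card (M ⊓ H : Subgroup G) :=
        Subgroup.card_dvd_of_le (le_inf (h q hq) (sp_le H q))
      rw [sp_card nil hq] at h2
      exact (hq.pow_dvd_iff_le_factorization Nat.card_pos.ne').mp h2
    · rw [Nat.factorization_eq_zero_of_not_prime _ hq]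
      exact Nat.zero_le _
  have h2 : M ⊓ H = H :=
    Subgroup.eq_of_le_of_card_ge inf_le_right (Nat.le_of_dvd Nat.card_pos h1)
  rw [← h2]
  exact inf_le_left

/-- a central element of prime order in the Sylow `q`-subgroup of a nilpotent group. -/
theorem exists_central [Finite G] {H : Subgroup G} (nil : Group.IsNilpotent H) {q : ℕ}
    (hq : q.Prime) (hd : q ∣ Nat.card H) :
    ∃ z ∈ sp H q, orderOf z = q ∧ ∀ h ∈ H, h * z = z * h := by
  have := Fact.mk hq
  have hP : IsPGroup q (sp H q) := sp_isPGroup nil hq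
  haveI : Nontrivial (sp H q) := by
    rw [Subgroup.nontrivial_iff_ne_bot]
    exact sp_ne_bot nil hq hd
  haveI := hP.center_nontrivial
  have hZ : IsPGroup q (Subgroup.center (sp H q)) := hP.to_subgroup _
  have hcard : q ∣ Nat.card (Subgroup.center (sp H q)) := by
    obtain ⟨n, hn⟩ := hZ.exists_card_eq
    rw [hn]
    have : n ≠ 0 := by
      rintro rfl
      rw [pow_zero] at hn
      have := Finite.one_lt_card (α := Subgroup.center (sp H q))
      omega
    exact dvd_pow_self q this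
  obtain ⟨z, hz⟩ := exists_prime_orderOf_dvd_card' q hcard
  refine ⟨((z : sp H q) : G), (z : sp H q).2, ?_, ?_⟩
  · rw [Subgroup.orderOf_coe, Subgroup.orderOf_coe]
    exact hz
  · have hz2 : ∀ y : sp H q, y * (z : sp H q) = (z : sp H q) * y := by
      intro y
      exact (Subgroup.mem_center_iff.mp z.2 y)
    have : H ≤ Subgroup.centralizer {((z : sp H q) : G)} := by
      apply sp_gen nil
      intro r hr
      intro y hy
      rw [Subgroup.mem_centralizer_singleton_iff]
      by_cases hrq : r = q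
      · subst hrq
        have := congrArg Subtype.val (hz2 ⟨y, hy⟩)
        simpa using this
      · exact sp_comm nil hr hq hrq hy (z : sp H q).2
    intro h hh
    have := this hh
    rw [Subgroup.mem_centralizer_singleton_iff] at this
    exact this

end Cfsg.Agent.Lib.Helper18.KW
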