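import Mathlib
import Cfsg.Agent.Lib.Helper18.KW1
import Cfsg.Agent.S0561
import Cfsg.Agent.Lib.Helper5.Card

set_option autoImplicit false

namespace Cfsg.Agent.Lib.Helper18.KW

open Cfsg.Agent.Lib.Helper18
open scoped Pointwise

variable {G : Type*} [Group G]

/-- `L` is factorized by `A` and `B`. -/
def Fz (L A B : Subgroup G) : Prop := ∀ g ∈ L, ∃ a ∈ L ⊓ A, ∃ b ∈ L ⊓ B, g = a * b

theorem Fz.symm {L A B : Subgroup G} (h : Fz L A B) : Fz L B A := by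
  intro g hg
  obtain ⟨a, ha, b, hb, h1⟩ := h g⁻¹ (L.inv_mem hg)
  refine ⟨b⁻¹, inv_mem hb, a⁻¹, inv_mem ha, ?_⟩
  rw [← mul_inv_rev, ← h1, inv_inv]

theorem fz_top {A B : Subgroup G} (h : ∀ g : G, ∃ a ∈ A, ∃ b ∈ B, g = a * b) : Fz ⊤ A B := by
  intro g _
  obtain ⟨a, ha, b, hb, h1⟩ := h g
  exact ⟨a, ⟨Subgroup.mem_top _, ha⟩, b, ⟨Subgroup.mem_top _, hb⟩, h1⟩

/-- uniqueness of factorization. -/
theorem eq_of_mul_eq {A B : Subgroup G} (hAB : A ⊓ B = ⊥) {a a' b b' : G} (ha : a ∈ A)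
    (ha' : a' ∈ A) (hb : b ∈ B) (hb' : b' ∈ B) (h1 : a * b = a' * b') : a = a' ∧ b = b' := by
  have h2 : a'⁻¹ * a = b' * b⁻¹ := by
    calc a'⁻¹ * a = a'⁻¹ * (a * b) * b⁻¹ := by group
      _ = a'⁻¹ * (a' * b') * b⁻¹ := by rw [h1]
      _ = b' * b⁻¹ := by group
  have h3 : a'⁻¹ * a ∈ A ⊓ B :=
    ⟨A.mul_mem (A.inv_mem ha') ha, by rw [h2]; exact B.mul_mem hb' (B.inv_mem hb)⟩
  rw [hAB, Subgroup.mem_bot, inv_mul_eq_one] at h3
  subst h3
  exact ⟨rfl, mul_left_cancel h1⟩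

theorem Fz.card {L A B : Subgroup G} (h : Fz L A B) (hAB : A ⊓ B = ⊥) :
    Nat.card L = Nat.card (L ⊓ A : Subgroup G) * Nat.card (L ⊓ B : Subgroup G) := by
  rw [← Nat.card_prod]
  symm
  apply Nat.card_congr
  refine Equiv.ofBijective
    (fun p : (L ⊓ A : Subgroup G) × (L ⊓ B : Subgroup G) =>
      (⟨p.1.1 * p.2.1, L.mul_mem p.1.2.1 p.2.2.1⟩ : L)) ⟨?_, ?_⟩
  · rintro ⟨⟨a, ha⟩, ⟨b, hb⟩⟩ ⟨⟨a', ha'⟩, ⟨b', hb'⟩⟩ heq
    have h1 : a * b = a' * b' := congrArg Subtype.val heq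
    obtain ⟨h2, h3⟩ := eq_of_mul_eq hAB ha.2 ha'.2 hb.2 hb'.2 h1
    subst h2
    subst h3
    rfl
  · rintro ⟨g, hg⟩
    obtain ⟨a, ha, b, hb, rfl⟩ := h g hg
    exact ⟨(⟨a, ha⟩, ⟨b, hb⟩), rfl⟩

theorem Fz.relIndex_right [Finite G] {L A B : Subgroup G} (h : Fz L A B) (hAB : A ⊓ B = ⊥) :
    (L ⊓ B).relIndex L = Nat.card (L ⊓ A : Subgroup G) := by
  have h1 := h.card hAB
  have h2 := Cfsg.Agent.Lib.Helper5.card_mul_relIndex_of_le (inf_le_left : L ⊓ B ≤ L)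
  rw [h1, mul_comm] at h2
  exact Nat.eq_of_mul_eq_mul_right Nat.card_pos h2

theorem sylowIn_coprime [Finite G] {q : ℕ} (hq : q.Prime) {Q L : Subgroup G}
    (h : IsSylowIn q Q L) : (Nat.card Q).Coprime (Q.relIndex L) := by
  have := Fact.mk hq
  obtain ⟨n, hn⟩ := h.isPGroup.exists_card_eq
  rw [hn]
  exact Nat.Coprime.pow_left n ((Nat.Prime.coprime_iff_not_dvd hq).mpr h.not_dvd)

/-- the Sylow `s`-subgroup of `L ⊓ B` is a Sylow subgroup of `L`. -/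
theorem Fz.sylow_right [Finite G] {L A B : Subgroup G} (h : Fz L A B) (hAB : A ⊓ B = ⊥)
    (nilB : Group.IsNilpotent B) {s : ℕ} (hs : s.Prime) (hsA : ¬ s ∣ Nat.card A) :
    IsSylowIn s (sp (L ⊓ B) s) L := by
  have nil : Group.IsNilpotent (L ⊓ B : Subgroup G) := by
    have := nilB
    exact Subgroup.isNilpotent_of_ker_le_center (Subgroup.inclusion (inf_le_right : L ⊓ B ≤ B))
      (by rw [(MonoidHom.ker_eq_bot_iff _).mpr (Subgroup.inclusion_injective _)]; exact bot_le)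
  have h1 := sp_isSylowIn nil hs
  refine ⟨h1.le.trans inf_le_left, h1.isPGroup, ?_⟩
  rw [← Subgroup.relIndex_mul_relIndex _ _ _ h1.le inf_le_left, h.relIndex_right hAB]
  intro hd
  rcases (Nat.Prime.dvd_mul hs).mp hd with h2 | h2
  · exact h1.not_dvd h2
  · exact hsA (h2.trans (Subgroup.card_dvd_of_le inf_le_right))

/-- In a solvable factorized group, normal Hall subgroups of the factors permute. -/
theorem perm [Finite G] (L A B Q R : Subgroup G) (hsol : Group.IsSolvable L) (fz : Fz L A B)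
    (hQ : Q ≤ L ⊓ A) (hQn : L ⊓ A ≤ Subgroup.normalizer (Q : Set G))
    (hQh : (Nat.card Q).Coprime (Q.relIndex L))
    (hR : R ≤ L ⊓ B) (hRn : L ⊓ B ≤ Subgroup.normalizer (R : Set G))
    (hRh : (Nat.card R).Coprime (R.relIndex L)) :
    ∃ S : Subgroup G, (S : Set G) = (Q : Set G) * (R : Set G) := by
  have hQL : Q ≤ L := hQ.trans inf_le_left
  have hRL : R ≤ L := hR.trans inf_le_left
  have hnorm : ∀ (X Y : Subgroup G), X ≤ L ⊓ Y → L ⊓ Y ≤ Subgroup.normalizer (X : Set G) →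
      ((X.subgroupOf L).subgroupOf (Y.subgroupOf L)).Normal := by
    intro X Y hX hXn
    have hle : X.subgroupOf L ≤ Y.subgroupOf L := by
      intro x hx
      rw [Subgroup.mem_subgroupOf] at hx ⊢
      exact (hX hx).2
    rw [Subgroup.normal_subgroupOf_iff_le_normalizer hle]
    intro x hx
    rw [Subgroup.mem_subgroupOf] at hx
    have hxn : (x : G) ∈ Subgroup.normalizer (X : Set G) := hXn ⟨x.2, hx⟩
    rw [Subgroup.mem_normalizer_iff] at hxn ⊢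
    intro h
    rw [Subgroup.mem_subgroupOf, Subgroup.mem_subgroupOf]
    exact hxn h
  have := hsol
  have hcard : ∀ X : Subgroup G, X ≤ L → Nat.card (X.subgroupOf L) = Nat.card X := fun X hX =>
    Nat.card_congr (Subgroup.subgroupOfEquivOfLe hX).toEquiv
  obtain ⟨S', hS'⟩ := Cfsg.Agent.S0561.result (G := L) (A.subgroupOf L) (B.subgroupOf L)
    (Q.subgroupOf L) (R.subgroupOf L)
    (by
      intro g
      obtain ⟨a, ha, b, hb, h1⟩ := fz g.1 g.2
      refine ⟨⟨a, ha.1⟩, ?_, ⟨b, hb.1⟩, ?_, ?_⟩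
      · rw [Subgroup.mem_subgroupOf]; exact ha.2
      · rw [Subgroup.mem_subgroupOf]; exact hb.2
      · apply Subtype.ext; exact h1)
    (by
      intro x hx
      rw [Subgroup.mem_subgroupOf] at hx ⊢
      exact (hQ hx).2)
    (hnorm Q A hQ hQn)
    (by
      intro x hx
      rw [Subgroup.mem_subgroupOf] at hx ⊢
      exact (hR hx).2)
    (hnorm R B hR hRn)
    (by rw [hcard Q hQL]; exact hQh)
    (by rw [hcard R hRL]; exact hRh)
    1 1
  rw [map_one, one_smul, one_smul] at hS'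
  refine ⟨S'.map L.subtype, ?_⟩
  ext g
  constructor
  · rintro ⟨l, hl, rfl⟩
    have h1 : l ∈ (S' : Set L) := hl
    rw [hS', Set.mem_mul] at h1
    obtain ⟨x, hx, y, hy, rfl⟩ := h1
    rw [Set.mem_mul]
    exact ⟨x.1, hx, y.1, hy, rfl⟩
  · intro hg
    rw [Set.mem_mul] at hg
    obtain ⟨x, hx, y, hy, rfl⟩ := hg
    refine ⟨⟨x, hQL hx⟩ * ⟨y, hRL hy⟩, ?_, rfl⟩
    change _ ∈ (S' : Set L)
    rw [hS', Set.mem_mul]
    exact ⟨⟨x, hQL hx⟩, hx, ⟨y, hRL hy⟩, hy, rfl⟩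

theorem mem_centralizer_conj {g z x : G} :
    x ∈ Subgroup.centralizer {g * z * g⁻¹} ↔ g⁻¹ * x * g ∈ Subgroup.centralizer {z} := by
  rw [Subgroup.mem_centralizer_singleton_iff, Subgroup.mem_centralizer_singleton_iff]
  constructor
  · intro h
    calc g⁻¹ * x * g * z = g⁻¹ * (x * (g * z * g⁻¹)) * g := by group
      _ = g⁻¹ * ((g * z * g⁻¹) * x) * g := by rw [h]
      _ = z * (g⁻¹ * x * g) := by group
  · intro h
    calc x * (g * z * g⁻¹) = g * ((g⁻¹ * x * g) * z) * g⁻¹ := by group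
      _ = g * (z * (g⁻¹ * x * g)) * g⁻¹ := by rw [h]
      _ = g * z * g⁻¹ * x := by group

theorem centralizer_conj (g z : G) :
    Subgroup.centralizer {g * z * g⁻¹} = conjSub g (Subgroup.centralizer {z}) := by
  ext x
  rw [mem_conjSub, mem_centralizer_conj]

end Cfsg.Agent.Lib.Helper18.KW
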