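import Mathlib
import Cfsg.Agent.Lib.Helper28.BGtT
import Cfsg.Agent.Lib.Helper13.BG14J
import Cfsg.Agent.Lib.Helper1.BG14.KappaCycC
import Cfsg.Agent.S1425

set_option autoImplicit false

/-! B & G Theorem 14.2 (f), (g) (statement S1431), unconditional parts (helper18):
for `K ≠ 1` a Hall `κ(M)`-subgroup of `M` and `K* = C_{M_σ}(K)`:
* `normalizer_le_of_le_kstar`: `N_G(X) ≤ M` for `X ≤ K*` of prime order;
* `clause_one`: `K* ∩ gMg⁻¹ = 1` for `g ∉ M`;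
* `clause_four`: a `σ(M)`-subgroup meeting `K*` lies in `M_σ`. -/

namespace Cfsg.Agent.Lib.Helper18.KStar

open Cfsg Cfsg.Agent.Lib.Helper18 Cfsg.Agent.Lib.Helper28.BGt

variable {G : Type*} [Group G]

/-- a prime order power of a nontrivial element -/
theorem exists_prime_pow [Finite G] {y : G} (hy1 : y ≠ 1) :
    ∃ q : ℕ, q.Prime ∧ q ∣ orderOf y ∧ orderOf (y ^ (orderOf y / q)) = q := by
  obtain ⟨q, hq, hqd⟩ := Nat.exists_prime_and_dvd
    (show orderOf y ≠ 1 from fun h => hy1 (orderOf_eq_one_iff.mp h))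
  exact ⟨q, hq, hqd, orderOf_pow_orderOf_div (orderOf_pos y).ne' hqd⟩

/-- a subgroup of prime order of a nontrivial subgroup -/
theorem exists_prime_card_le [Finite G] {K : Subgroup G} (hK1 : K ≠ ⊥) :
    ∃ (p : ℕ) (P : Subgroup G), p.Prime ∧ P ≤ K ∧ Nat.card P = p := by
  obtain ⟨k, hkK, hk1⟩ := exists_ne_one_of_ne_bot' hK1
  obtain ⟨p, hp, -, hpo⟩ := exists_prime_pow hk1
  refine ⟨p, Subgroup.zpowers (k ^ (orderOf k / p)), hp, ?_, ?_⟩
  · rw [Subgroup.zpowers_le]; exact K.pow_mem hkK _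
  · rw [Nat.card_zpowers, hpo]

/-- the centralizer of an element normalizes the cyclic group it generates -/
theorem centralizer_singleton_le_normalizer_zpowers (y : G) :
    Subgroup.centralizer ({y} : Set G) ≤
      Subgroup.normalizer ((Subgroup.zpowers y : Subgroup G) : Set G) := by
  intro c hc
  apply Subgroup.centralizer_le_normalizer
  rw [Subgroup.mem_centralizer_iff] at hc ⊢
  intro b hb
  obtain ⟨n, rfl⟩ := Subgroup.mem_zpowers_iff.mp hb
  have h0 : Commute y c := hc y (Set.mem_singleton y)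
  exact (h0.zpow_left n).eq

/-- **weak 13.5 for `K*`**: `N_G(X) ≤ M` for every subgroup `X` of prime order of
`K* = C_{M_σ}(K)` -/
theorem normalizer_le_of_le_kstar [Finite G] (hG : Cfsg.IsMinSimpleOddOrder G)
    {M K : Subgroup G} (hM : IsCoatom M) (hK : Cfsg.IsPiHallOf (Cfsg.kappa M) K M) (hK1 : K ≠ ⊥)
    {q : ℕ} [hq : Fact q.Prime] {X : Subgroup G} (hXc : Nat.card X = q)
    (hXK : X ≤ Cfsg.sigmaCore M ⊓ Subgroup.centralizer (K : Set G)) :
    Subgroup.normalizer (X : Set G) ≤ M := by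
  haveI : IsSimpleGroup G := hG.2.1
  obtain ⟨p, P, hp, hPK, hPc⟩ := exists_prime_card_le hK1
  haveI : Fact p.Prime := ⟨hp⟩
  have hpκ : p ∈ Cfsg.kappa M := hK.2.1 p hp (by rw [← hPc]; exact Subgroup.card_dvd_of_le hPK)
  have hXσ : X ≤ Cfsg.sigmaCore M := hXK.trans inf_le_left
  have hXP : X ≤ Subgroup.centralizer (P : Set G) :=
    (hXK.trans inf_le_right).trans (Subgroup.centralizer_le (by exact_mod_cast hPK))
  have hX1 : X ≠ ⊥ := ne_bot_of_card_prime' hq.out hXc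
  have hXtop : X ≠ ⊤ := fun h => hM.1 (top_le_iff.mp (h ▸ hXσ.trans (sigmaCore_le M)))
  obtain ⟨L, hL, hNL⟩ := Cfsg.Agent.Lib.Helper11.BenderE.exists_coatom_ge _
    (Cfsg.Agent.Lib.Helper11.normalizer_ne_top_of_simple hX1 hXtop)
  have hLM : L = M := eq_of_normalizer_le_of_kappa_cent hG hM hpκ.2.2.1
    (Cfsg.Agent.Lib.Helper1.BG14.kappa_pRankLE_one hpκ) hPc (hPK.trans hK.1) hXc hXσ hXP hL hNL
  rw [← hLM]
  exact hNL

/-- a nontrivial element of `K*` has a power `y₀ ≠ 1` (of prime order) with `C_G(y₀) ≤ M` -/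
theorem centralizer_pow_le [Finite G] (hG : Cfsg.IsMinSimpleOddOrder G)
    {M K : Subgroup G} (hM : IsCoatom M) (hK : Cfsg.IsPiHallOf (Cfsg.kappa M) K M) (hK1 : K ≠ ⊥)
    {y : G} (hy : y ∈ Cfsg.sigmaCore M ⊓ Subgroup.centralizer (K : Set G)) (hy1 : y ≠ 1) :
    ∃ n : ℕ, y ^ n ≠ 1 ∧ Subgroup.centralizer ({y ^ n} : Set G) ≤ M := by
  obtain ⟨q, hq, -, hqo⟩ := exists_prime_pow hy1
  haveI : Fact q.Prime := ⟨hq⟩
  refine ⟨orderOf y / q, ?_, ?_⟩
  · intro h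
    rw [h, orderOf_one] at hqo
    exact hq.one_lt.ne hqo
  · refine (centralizer_singleton_le_normalizer_zpowers _).trans ?_
    apply normalizer_le_of_le_kstar hG hM hK hK1 (q := q)
    · rw [Nat.card_zpowers, hqo]
    · rw [Subgroup.zpowers_le]
      exact Subgroup.pow_mem _ hy _

/-- **B & G 14.2(f), first half**: `K* ∩ gMg⁻¹ = 1` for `g ∉ M` -/
theorem clause_one [Finite G] (hG : Cfsg.IsMinSimpleOddOrder G)
    {M K : Subgroup G} (hM : IsCoatom M) (hK : Cfsg.IsPiHallOf (Cfsg.kappa M) K M) (hK1 : K ≠ ⊥)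
    (g : G) (hg : g ∉ M) :
    (Cfsg.sigmaCore M ⊓ Subgroup.centralizer (K : Set G)) ⊓
      M.map (MulAut.conj g).toMonoidHom = ⊥ := by
  by_contra hne
  obtain ⟨y, hy, hy1⟩ := exists_ne_one_of_ne_bot' hne
  obtain ⟨n, hn1, hC⟩ := centralizer_pow_le hG hM hK hK1 hy.1 hy1
  apply hg
  exact Cfsg.Agent.Lib.Helper13.BG14.bg14_only_conj hG hM
    (Subgroup.pow_mem _ hy.1.1 n) hn1 hC (Subgroup.pow_mem _ hy.2 n)

/-- **B & G 14.2(g)**: a `σ(M)`-subgroup of `G` meeting `K*` nontrivially lies in `M_σ` -/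
theorem clause_four [Finite G] (hG : Cfsg.IsMinSimpleOddOrder G)
    {M K : Subgroup G} (hM : IsCoatom M) (hK : Cfsg.IsPiHallOf (Cfsg.kappa M) K M) (hK1 : K ≠ ⊥)
    (Y : Subgroup G) (hYσ : ∀ p : ℕ, p.Prime → p ∣ Nat.card Y → p ∈ Cfsg.sigma M)
    (hYK : Y ⊓ (Cfsg.sigmaCore M ⊓ Subgroup.centralizer (K : Set G)) ≠ ⊥) :
    Y ≤ Cfsg.sigmaCore M := by
  obtain ⟨y, hy, hy1⟩ := exists_ne_one_of_ne_bot' hYK
  have hY1 : Y ≠ ⊥ := by
    intro h
    apply hy1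
    have h0 : y ∈ Y := hy.1
    rw [h] at h0
    exact Subgroup.mem_bot.mp h0
  obtain ⟨g, hg⟩ := Cfsg.Agent.S1425.result hG M hM Y hY1 hYσ
  have hgM : g⁻¹ ∈ M := by
    by_contra hgn
    have h1 := clause_one hG hM hK hK1 g⁻¹ hgn
    apply hy1
    rw [← Subgroup.mem_bot, ← h1]
    refine ⟨hy.2, ?_⟩
    show y ∈ conjSub g⁻¹ M
    rw [mem_conjSub, inv_inv]
    exact sigmaCore_le M (hg (conj_mem_conjSub hy.1))
  intro z hz
  have h2 : g * z * g⁻¹ ∈ Cfsg.sigmaCore M := hg (conj_mem_conjSub hz)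
  have h3 := conj_mem_of_le_normalizer (le_normalizer_sigmaCore M) hgM h2
  have e : g⁻¹ * (g * z * g⁻¹) * g⁻¹⁻¹ = z := by group
  rwa [e] at h3

end Cfsg.Agent.Lib.Helper18.KStar
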