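import Mathlib.GroupTheory.Sylow
import Cfsg.Prelude.Def_Solvable
import Cfsg.Agent.Lib.Helper18.PCore

set_option autoImplicit false

namespace Cfsg.Agent.Lib.Helper18

theorem charP_of_pCore_le_normalizer {G : Type*} [Group G] [Finite G] {p : ℕ} [Fact p.Prime] (hG : Subgroup.centralizer (Cfsg.pCore p G : Set G) ≤ Cfsg.pCore p G) (L : Subgroup G) (hL : Cfsg.pCore p G ≤ Subgroup.normalizer (L : Set G)) : Subgroup.centralizer (Cfsg.pCore p ↥L : Set ↥L) ≤ Cfsg.pCore p ↥L := by
  have hp : p.Prime := Fact.out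
  have hRn : (Cfsg.pCore p G).Normal := pCore_normal_h18 p G
  have hQn : (Cfsg.pCore p ↥L).Normal := pCore_normal_h18 p ↥L
  have hCn : (Subgroup.centralizer (Cfsg.pCore p ↥L : Set ↥L)).Normal := inferInstance
  apply le_pCore hCn
  apply isPGroup_of_forall_coprime_eq_one
  rintro ⟨x, hxC⟩ hxo
  have hxo' : (orderOf x).Coprime p := by
    have : orderOf (⟨x, hxC⟩ : Subgroup.centralizer (Cfsg.pCore p ↥L : Set ↥L)) = orderOf x :=
      Subgroup.orderOf_mk x hxC
    rwa [this] at hxo
  have hxo'' : (orderOf (x : G)).Coprime p := by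
    rwa [Subgroup.orderOf_coe]
  -- the subgroup (R ⊓ L) of L is a normal p-subgroup
  have hRL : (Cfsg.pCore p G).subgroupOf L ≤ Cfsg.pCore p ↥L := by
    apply le_pCore
    · exact Subgroup.Normal.subgroupOf hRn L
    · exact (pCore_isPGroup p G).comap_subtype
  -- x centralizes R
  have hxR : (x : G) ∈ Subgroup.centralizer (Cfsg.pCore p G : Set G) := by
    rw [Subgroup.mem_centralizer_iff]
    intro r hr
    -- d = r x r⁻¹ x⁻¹
    have hrx : r * (x : G) * r⁻¹ ∈ L := by
      have := hL hr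
      rw [Subgroup.mem_normalizer_iff] at this
      exact (this x).mp x.2
    set d : G := r * (x : G) * r⁻¹ * (x : G)⁻¹ with hd
    have hdL : d ∈ L := L.mul_mem hrx (L.inv_mem x.2)
    have hdR : d ∈ Cfsg.pCore p G := by
      have : d = r * ((x : G) * r⁻¹ * (x : G)⁻¹) := by simp [hd, mul_assoc]
      rw [this]
      exact (Cfsg.pCore p G).mul_mem hr (hRn.conj_mem _ ((Cfsg.pCore p G).inv_mem hr) _)
    have hdQ : (⟨d, hdL⟩ : L) ∈ Cfsg.pCore p ↥L := hRL (by simpa [Subgroup.mem_subgroupOf] using hdR)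
    have hcomm : Commute d (x : G) := by
      have := (Subgroup.mem_centralizer_iff.mp hxC) ⟨d, hdL⟩ hdQ
      have h2 := congrArg (Subtype.val) this
      simp only [Subgroup.coe_mul] at h2
      exact h2
    obtain ⟨k, hk⟩ := (pCore_isPGroup p G) ⟨d, hdR⟩
    have hk' : d ^ (p ^ k) = 1 := by
      have := congrArg Subtype.val hk
      simpa using this
    have hd1 : d = 1 := by
      apply eq_one_of_conj_eq_mul_of_coprime (r := r) (x := (x : G)) (m := orderOf (x : G)) (k := p ^ k)
        _ hcomm (pow_orderOf_eq_one _) hk' (Nat.Coprime.pow_right k hxo'')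
      simp [hd]
    have : r * (x : G) * r⁻¹ = (x : G) := by
      have h3 : r * (x : G) * r⁻¹ = d * (x : G) := by simp [hd]
      rw [h3, hd1, one_mul]
    calc r * (x : G) = r * (x : G) * r⁻¹ * r := by simp
      _ = (x : G) * r := by rw [this]
  have hxR' : (x : G) ∈ Cfsg.pCore p G := hG hxR
  obtain ⟨k, hk⟩ := (pCore_isPGroup p G) ⟨(x : G), hxR'⟩
  have hk' : (x : G) ^ (p ^ k) = 1 := by
    have := congrArg Subtype.val hk
    simpa using this
  have h1 : orderOf (x : G) ∣ p ^ k := orderOf_dvd_of_pow_eq_one hk'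
  have h2 : orderOf (x : G) = 1 := by
    have := Nat.Coprime.eq_one_of_dvd (Nat.Coprime.pow_right k hxo'') h1
    exact this
  have h3 : (x : G) = 1 := orderOf_eq_one_iff.mp h2
  apply Subtype.ext
  apply Subtype.ext
  simpa using h3


theorem pCore_map_mulEquiv_le {p : ℕ} {A B : Type*} [Group A] [Group B] (e : A ≃* B) :
    (Cfsg.pCore p A).map e.toMonoidHom ≤ Cfsg.pCore p B := by
  apply le_pCore
  · have := pCore_normal_h18 p A
    exact Subgroup.Normal.map inferInstance _ e.surjective
  · exact (pCore_isPGroup p A).map _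

theorem pCore_map_mulEquiv {p : ℕ} {A B : Type*} [Group A] [Group B] (e : A ≃* B) :
    (Cfsg.pCore p A).map e.toMonoidHom = Cfsg.pCore p B := by
  apply le_antisymm (pCore_map_mulEquiv_le e)
  intro b hb
  have h1 := pCore_map_mulEquiv_le e.symm (Subgroup.mem_map_of_mem _ hb)
  refine ⟨e.symm b, h1, ?_⟩
  simp

theorem charP_of_mulEquiv {p : ℕ} {A B : Type*} [Group A] [Group B] (e : A ≃* B)
    (h : Subgroup.centralizer (Cfsg.pCore p A : Set A) ≤ Cfsg.pCore p A) :
    Subgroup.centralizer (Cfsg.pCore p B : Set B) ≤ Cfsg.pCore p B := by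
  intro b hb
  have hb' : e.symm b ∈ Subgroup.centralizer (Cfsg.pCore p A : Set A) := by
    rw [Subgroup.mem_centralizer_iff]
    intro a ha
    have hea : e a ∈ Cfsg.pCore p B := by
      rw [← pCore_map_mulEquiv e]
      exact Subgroup.mem_map_of_mem _ ha
    have := (Subgroup.mem_centralizer_iff.mp hb) (e a) hea
    apply e.injective
    simpa using this
  have h2 := h hb'
  rw [← pCore_map_mulEquiv e]
  exact ⟨e.symm b, h2, by simp⟩

end Cfsg.Agent.Lib.Helper18
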