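import Mathlib
import Cfsg.Agent.Lib.Helper18.BGThirteenA
import Cfsg.Agent.Lib.Helper11.BenderQ
import Cfsg.Agent.Lib.Helper11.FrobKernelNil

set_option autoImplicit false
open scoped commutatorElement Pointwise

namespace Cfsg.Agent.Lib.Helper18.BGThirteenB

open Cfsg Cfsg.Agent.Lib.Helper18
open Cfsg.Agent.Lib.Helper11.MaxSubB Cfsg.Agent.Lib.Helper11.MaxSubD Cfsg.Agent.Lib.Helper11.BenderE
  Cfsg.Agent.Lib.Helper11.BenderM Cfsg.Agent.Lib.Helper11.BenderN Cfsg.Agent.Lib.Helper11.BenderO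
  Cfsg.Agent.Lib.Helper11.BenderP Cfsg.Agent.Lib.Helper11.BenderQ
  Cfsg.Agent.Lib.Helper11.BenderS Cfsg.Agent.Lib.Helper18.BGThirteenA

universe u

section general

variable {X : Type*} [Group X]

/-- `p`-rank bounds pass to subgroups -/
theorem pRankLE_subgroup {p k : ℕ} (H : Subgroup X) (h : Cfsg.PRankLE p k X) :
    Cfsg.PRankLE p k ↥H := by
  intro A hA hAp
  have h1 : IsMulCommutative (A.map H.subtype) := by
    refine ⟨⟨?_⟩⟩
    rintro ⟨_, a, ha, rfl⟩ ⟨_, b, hb, rfl⟩
    apply Subtype.ext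
    show H.subtype a * H.subtype b = H.subtype b * H.subtype a
    rw [← map_mul, ← map_mul]
    congr 1
    exact congrArg Subtype.val (hA.is_comm.comm ⟨a, ha⟩ ⟨b, hb⟩)
  have h2 : ∀ a ∈ A.map H.subtype, a ^ p = 1 := by
    rintro _ ⟨a, ha, rfl⟩
    rw [← map_pow, hAp a ha, map_one]
  have := h (A.map H.subtype) h1 h2
  rwa [Subgroup.card_map_of_injective (Subgroup.subtype_injective _)] at this

/-- the elements of order dividing `p` of a commutative subgroup -/
def omegaOne (p : ℕ) (S : Subgroup X) (hS : ∀ a ∈ S, ∀ b ∈ S, a * b = b * a) : Subgroup X where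
  carrier := {x | x ∈ S ∧ x ^ p = 1}
  mul_mem' := by
    rintro a b ⟨ha1, ha2⟩ ⟨hb1, hb2⟩
    refine ⟨S.mul_mem ha1 hb1, ?_⟩
    have hc : Commute a b := hS a ha1 b hb1
    rw [hc.mul_pow, ha2, hb2, one_mul]
  one_mem' := ⟨S.one_mem, one_pow _⟩
  inv_mem' := by
    rintro a ⟨ha1, ha2⟩
    exact ⟨S.inv_mem ha1, by rw [inv_pow, ha2, inv_one]⟩

theorem closure_omega_eq (p : ℕ) (S : Subgroup X) (hS : ∀ a ∈ S, ∀ b ∈ S, a * b = b * a) :
    Subgroup.closure {x : X | x ∈ S ∧ x ^ p = 1} = omegaOne p S hS :=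
  Subgroup.closure_eq (omegaOne p S hS)

end general

variable {G : Type u} [Group G] [Finite G]

/-- **B & G, Corollary 13.? (S1429)**, given Theorem 12.5 -/
theorem omega_small (hG : Cfsg.IsMinSimpleOddOrder G) (M : Subgroup G) (hM : IsCoatom M)
    (p : ℕ) [hp : Fact p.Prime]
    (h1417 : p ∈ Cfsg.tau2 M → ∀ A : Subgroup G, A ≤ M → Cfsg.IsElementaryAbelian p A →
      Nat.card A = p ^ 2 → Group.IsNilpotent (Cfsg.sigmaCore M) ∧
        (∀ P : Sylow p M, A ≤ (P : Subgroup M).map M.subtype →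
          ∀ x ∈ (P : Subgroup M).map M.subtype, x ^ p = 1 ↔ x ∈ A) ∧
        Cfsg.sigmaCore M ⊓ Subgroup.centralizer (A : Set G) = ⊥)
    (hpM : p ∣ Nat.card M) (hp' : p ∉ Cfsg.sigma M ∪ Cfsg.kappa M) (S : Sylow p M) :
    Nat.card ↥(Subgroup.closure {x : G | x ∈ (S : Subgroup M).map M.subtype ∧ x ^ p = 1}) ≤ p ^ 2 ∧
      Cfsg.sigmaCore M ⊓ Subgroup.centralizer ((Subgroup.closure
        {x : G | x ∈ (S : Subgroup M).map M.subtype ∧ x ^ p = 1} : Subgroup G) : Set G) = ⊥ ∧
      Group.IsNilpotent (Cfsg.sigmaCore M) := by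
  have hpσ : p ∉ Cfsg.sigma M := fun h => hp' (Or.inl h)
  have hpκ : p ∉ Cfsg.kappa M := fun h => hp' (Or.inr h)
  have hr2 : Cfsg.PRankLE p 2 ↥M := by
    by_contra h
    exact hpσ (alpha_sub_sigma hG M hM p ⟨hp.out, h⟩)
  obtain ⟨Sg, hSg⟩ : ∃ Sg : Subgroup G, Sg = (S : Subgroup M).map M.subtype := ⟨_, rfl⟩
  rw [← hSg]
  have hSyl : IsSylowIn p Sg M := by rw [hSg]; exact isSylowIn_of_sylow S
  have hSgM : Sg ≤ M := hSyl.le
  by_cases hr1 : Cfsg.PRankLE p 1 ↥M
  · -- rank one: `S` is cyclic and acts without fixed points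
    have hp2 : p ≠ 2 := by
      rintro rfl
      have h3 : 2 ∣ Nat.card G := hpM.trans (Subgroup.card_subgroup_dvd_card _)
      have hodd : Odd (Nat.card G) := hG.1
      rw [Nat.odd_iff] at hodd
      omega
    have hcyc : ∀ P : Sylow p M, IsCyclic (P : Subgroup M) := fun P =>
      isCyclic_of_pRankLE_one p hp2 P.isPGroup' (pRankLE_subgroup _ hr1)
    -- no element of a Sylow subgroup fixes a point of `M_σ`
    have hκ : ∃ P₀ : Sylow p M, ∀ x : M, x ∈ (P₀ : Subgroup M) → x ≠ 1 →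
        ∀ y ∈ Cfsg.sigmaCore M, (x : G) * y = y * x → y = 1 := by
      by_contra hcon
      push Not at hcon
      apply hpκ
      refine ⟨hp.out, hpM, hpσ, fun P => ⟨hcyc P, ?_⟩⟩
      obtain ⟨x, hx, hx1, y, hy, hxy, hy1⟩ := hcon P
      exact ⟨x, hx, hx1, y, hy, hy1, hxy⟩
    obtain ⟨P₀, hP₀⟩ := hκ
    have hfree : ∀ x ∈ Sg, x ≠ 1 → ∀ y ∈ Cfsg.sigmaCore M, x * y = y * x → y = 1 := by
      intro x hx hx1 y hy hxy
      obtain ⟨g, hg⟩ := MulAction.exists_smul_eq M P₀ S
      rw [hSg] at hx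
      obtain ⟨x', hx', rfl⟩ := hx
      have hx'2 : x' ∈ MulAut.conj g • (P₀ : Subgroup M) := by
        rw [← Sylow.coe_subgroup_smul, hg]
        exact hx'
      rw [Subgroup.mem_pointwise_smul_iff_inv_smul_mem] at hx'2
      have hx'' : g⁻¹ * x' * g ∈ (P₀ : Subgroup M) := by
        simpa [MulAut.smul_def, MulAut.conj_apply] using hx'2
      have hne : g⁻¹ * x' * g ≠ 1 := by
        intro h
        apply hx1
        have : x' = 1 := by
          have h2 : g * (g⁻¹ * x' * g) * g⁻¹ = x' := by group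
          rw [h] at h2
          simpa using h2.symm
        rw [this]; rfl
      have hyM : y ∈ M := sigmaCore_le M hy
      have hy' : (g : G)⁻¹ * y * (g : G) ∈ Cfsg.sigmaCore M := by
        obtain ⟨y₀, hy₀, rfl⟩ := hy
        have hn : (Cfsg.piCore (Cfsg.sigma M) ↥M).Normal := inferInstance
        have := hn.conj_mem y₀ hy₀ g⁻¹
        refine ⟨g⁻¹ * y₀ * g⁻¹⁻¹, this, ?_⟩
        simp
      have hcomm : ((g⁻¹ * x' * g : ↥M) : G) * ((g : G)⁻¹ * y * (g : G)) =
          ((g : G)⁻¹ * y * (g : G)) * ((g⁻¹ * x' * g : ↥M) : G) := by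
        have e1 : ((g⁻¹ * x' * g : ↥M) : G) = (g : G)⁻¹ * (x' : G) * (g : G) := by simp
        rw [e1]
        have h3 : (g : G)⁻¹ * (x' : G) * (g : G) * ((g : G)⁻¹ * y * (g : G)) =
            (g : G)⁻¹ * ((x' : G) * y) * (g : G) := by group
        have h4 : (g : G)⁻¹ * y * (g : G) * ((g : G)⁻¹ * (x' : G) * (g : G)) =
            (g : G)⁻¹ * (y * (x' : G)) * (g : G) := by group
        rw [h3, h4]
        have hxy' : (x' : G) * y = y * (x' : G) := hxy
        rw [hxy']
      have h5 := hP₀ _ hx'' hne _ hy' hcomm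
      have : y = (g : G) * ((g : G)⁻¹ * y * (g : G)) * (g : G)⁻¹ := by group
      rw [this, h5]
      group
    have hScomm : ∀ a ∈ Sg, ∀ b ∈ Sg, a * b = b * a := by
      intro a ha b hb
      rw [hSg] at ha hb
      obtain ⟨a', ha', rfl⟩ := ha
      obtain ⟨b', hb', rfl⟩ := hb
      have hc := hcyc S
      have hcomm : IsMulCommutative (S : Subgroup M) := by
        have := hc
        infer_instance
      have := hcomm.is_comm.comm ⟨a', ha'⟩ ⟨b', hb'⟩
      have h2 := congrArg (fun t : ↥(S : Subgroup M) => ((t : ↥M) : G)) this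
      simpa using h2
    rw [closure_omega_eq p Sg hScomm]
    obtain ⟨A, hA⟩ : ∃ A : Subgroup G, A = omegaOne p Sg hScomm := ⟨_, rfl⟩
    rw [← hA]
    have hASg : A ≤ Sg := by
      rw [hA]
      intro x hx
      exact hx.1
    have hAexp : ∀ a ∈ A, a ^ p = 1 := by
      intro a ha
      rw [hA] at ha
      exact ha.2
    -- `A ≠ 1`
    have hSne : Nat.card Sg ≠ 1 := by
      intro h1
      have h2 : Nat.card Sg = p ^ (Nat.card ↥M).factorization p := by
        rw [hSg, Subgroup.card_map_of_injective (Subgroup.subtype_injective _)]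
        exact S.card_eq_multiplicity
      rw [h1] at h2
      have hpos : 0 < (Nat.card ↥M).factorization p :=
        (hp.out.factorization_pos_of_dvd Nat.card_pos.ne' hpM)
      have : 1 < p ^ (Nat.card ↥M).factorization p := Nat.one_lt_pow hpos.ne' hp.out.one_lt
      omega
    have hpd : p ∣ Nat.card Sg := by
      obtain ⟨k, hk⟩ := IsPGroup.iff_card.mp hSyl.isPGroup
      rw [hk]
      apply dvd_pow_self
      rintro rfl
      rw [pow_zero] at hk
      exact hSne hk
    obtain ⟨B, hBS, hB⟩ := exists_card_prime_le Sg p hpd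
    have hB1 : B ≠ ⊥ := ne_bot_of_card_prime hp.out hB
    have hBA : B ≤ A := by
      intro b hb
      rw [hA]
      refine ⟨hBS hb, ?_⟩
      have : (⟨b, hb⟩ : ↥B) ^ Nat.card B = 1 := pow_card_eq_one'
      rw [hB] at this
      exact congrArg Subtype.val this
    have hA1 : A ≠ ⊥ := fun h => hB1 (eq_bot_iff.mpr (h ▸ hBA))
    refine ⟨?_, ?_, ?_⟩
    · -- `A` is elementary abelian inside `M`
      have hAc : IsMulCommutative (A.subgroupOf M) := by
        refine ⟨⟨?_⟩⟩
        rintro ⟨a, ha⟩ ⟨b, hb⟩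
        apply Subtype.ext
        apply Subtype.ext
        exact hScomm _ (hASg (Subgroup.mem_subgroupOf.mp ha)) _ (hASg (Subgroup.mem_subgroupOf.mp hb))
      have hAe : ∀ a ∈ A.subgroupOf M, a ^ p = 1 := by
        intro a ha
        apply Subtype.ext
        have := hAexp _ (Subgroup.mem_subgroupOf.mp ha)
        simpa using this
      have h1 := hr1 (A.subgroupOf M) hAc hAe
      rw [Nat.card_congr (Subgroup.subgroupOfEquivOfLe (hASg.trans hSgM)).toEquiv, pow_one] at h1
      calc Nat.card A ≤ p := h1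
        _ ≤ p ^ 2 := by nlinarith [hp.out.one_lt]
    · rw [eq_bot_iff]
      rintro y ⟨hy1, hy2⟩
      obtain ⟨b, hb, hb1⟩ : ∃ b ∈ B, b ≠ 1 := by
        by_contra hcon
        push Not at hcon
        apply hB1
        rw [eq_bot_iff]
        intro b hb
        rw [Subgroup.mem_bot]
        exact hcon b hb
      have hcomm : b * y = y * b := (Subgroup.mem_centralizer_iff.mp hy2 b (hBA hb))
      rw [Subgroup.mem_bot]
      exact hfree b (hBS hb) hb1 y hy1 hcomm
    · apply Cfsg.Agent.Lib.Helper11.FrobKernelNil.kernel_nilpotent (Cfsg.sigmaCore M) A hA1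
      · intro a ha
        have haM : a ∈ M := hSgM (hASg ha)
        rw [Subgroup.mem_normalizer_iff]
        intro y
        constructor
        · rintro ⟨y₀, hy₀, rfl⟩
          have hn : (Cfsg.piCore (Cfsg.sigma M) ↥M).Normal := inferInstance
          have := hn.conj_mem y₀ hy₀ ⟨a, haM⟩
          exact ⟨_, this, by simp⟩
        · intro hy
          obtain ⟨y₀, hy₀, hy₀e⟩ := hy
          have hn : (Cfsg.piCore (Cfsg.sigma M) ↥M).Normal := inferInstance
          have := hn.conj_mem y₀ hy₀ (⟨a, haM⟩ : ↥M)⁻¹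
          refine ⟨_, this, ?_⟩
          have e : (M.subtype y₀ : G) = a * y * a⁻¹ := hy₀e
          simp only [map_mul, map_inv, Subgroup.subtype_apply, inv_inv]
          have e' : ((y₀ : ↥M) : G) = a * y * a⁻¹ := e
          rw [e']
          group
      · intro e he he1 u hu heu
        exact hfree e (hASg he) he1 u hu heu
  · -- rank two
    have hτ : p ∈ Cfsg.tau2 M := ⟨hp.out, hpσ, hr2, hr1⟩
    unfold Cfsg.PRankLE at hr1
    push Not at hr1
    obtain ⟨B, hBc, hBexp, hBcard⟩ := hr1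
    rw [pow_one] at hBcard
    obtain ⟨B', hB'⟩ : ∃ B' : Subgroup G, B' = B.map M.subtype := ⟨_, rfl⟩
    have hB'e : Cfsg.IsElementaryAbelian p B' := by
      rw [hB']
      refine ⟨⟨⟨?_⟩⟩, ?_⟩
      · rintro ⟨_, a, ha, rfl⟩ ⟨_, b, hb, rfl⟩
        apply Subtype.ext
        show M.subtype a * M.subtype b = M.subtype b * M.subtype a
        rw [← map_mul, ← map_mul]
        congr 1
        exact congrArg Subtype.val (hBc.is_comm.comm ⟨a, ha⟩ ⟨b, hb⟩)
      · rintro _ ⟨a, ha, rfl⟩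
        rw [← map_pow, hBexp a ha, map_one]
    have hB'card : p ^ 2 ≤ Nat.card B' := by
      have hc : Nat.card B' = Nat.card B := by
        rw [hB', Subgroup.card_map_of_injective (Subgroup.subtype_injective _)]
      have hB'p : IsPGroup p B' := by
        rintro ⟨a, ha⟩
        exact ⟨1, Subtype.ext (by simpa using hB'e.2 a ha)⟩
      obtain ⟨k, hk⟩ := IsPGroup.iff_card.mp hB'p
      rw [hk]
      apply Nat.pow_le_pow_right hp.out.pos
      by_contra hk2
      have hk1 : k ≤ 1 := by omega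
      have : p ^ k ≤ p ^ 1 := Nat.pow_le_pow_right hp.out.pos hk1
      rw [pow_one, ← hk, hc] at this
      omega
    obtain ⟨E', hE'B, hE'e, hE'card⟩ := exists_sq_le p B' hB'e hB'card
    have hE'M : E' ≤ M := by
      refine hE'B.trans ?_
      rw [hB']
      exact Subgroup.map_subtype_le _
    have hE'p : IsPGroup p E' := by
      rintro ⟨a, ha⟩
      exact ⟨1, Subtype.ext (by simpa using hE'e.2 a ha)⟩
    obtain ⟨m, hm, hmE⟩ := hSyl.exists_conj_le hE'M hE'p
    obtain ⟨A', hA'⟩ : ∃ A' : Subgroup G, A' = conjSub m E' := ⟨_, rfl⟩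
    have hA'S : A' ≤ Sg := by rw [hA']; exact hmE
    have hA'e : Cfsg.IsElementaryAbelian p A' := by
      rw [hA']; exact Cfsg.Agent.Lib.Helper11.BenderF.elemAb_conjSub p m hE'e
    have hA'card : Nat.card A' = p ^ 2 := by rw [hA', card_conjSub, hE'card]
    obtain ⟨hnil, hom, hcent⟩ := h1417 hτ A' (hA'S.trans hSgM) hA'e hA'card
    have hset : {x : G | x ∈ Sg ∧ x ^ p = 1} = (A' : Set G) := by
      ext x
      constructor
      · rintro ⟨hx1, hx2⟩
        rw [hSg] at hx1
        exact (hom S (hSg ▸ hA'S) x hx1).mp hx2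
      · intro hx
        have hxS : x ∈ Sg := hA'S hx
        refine ⟨hxS, ?_⟩
        rw [hSg] at hxS
        exact (hom S (hSg ▸ hA'S) x hxS).mpr hx
    rw [hset, Subgroup.closure_eq]
    exact ⟨hA'card.le, hcent, hnil⟩

end Cfsg.Agent.Lib.Helper18.BGThirteenB
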