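import Mathlib
import Cfsg.Prelude.Def_OddOrderLocal
import Cfsg.Agent.Lib.Helper1.Schmidt2
import Cfsg.Agent.Lib.Helper1.BG12.TauHall
import Cfsg.Agent.Lib.Helper11.PiCore
import Cfsg.Agent.Lib.Helper11.TransOvergroup
import Cfsg.Agent.Lib.Helper11.MaxLocB
import Cfsg.Agent.Lib.Helper12.Local
import Cfsg.Agent.Lib.Helper18.BGTwelveC
import Cfsg.Agent.S1417

set_option autoImplicit false
open scoped commutatorElement Pointwise

/-!
# B & G, Section 15: the `σ(M)'`-part of the Fitting subgroup of a maximal subgroup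
-/

namespace Cfsg.Agent.Lib.Helper18.BGFifteenA

open Cfsg.Agent.Lib.Helper18 Cfsg.Agent.Lib.Helper11 Cfsg.Agent.Lib.Helper11.BenderM
open Cfsg.Agent.Lib.Helper11.MaxSubD Cfsg.Agent.Lib.Helper11.MaxLocB
open Cfsg.Agent.Lib.Helper18.BGTwelveA Cfsg.Agent.Lib.Helper18.BGTwelveC

variable {G : Type*} [Group G] [Finite G]

/-- a nilpotent subgroup of `Z` normalized by `Z` lies in `F(Z)` -/
theorem le_fittingOf {W Z : Subgroup G} (hWZ : W ≤ Z)
    (hZW : Z ≤ Subgroup.normalizer (W : Set G)) (hW : Group.IsNilpotent W) :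
    W ≤ Cfsg.fittingOf Z := by
  have hn : (W.subgroupOf Z).Normal := Subgroup.normal_subgroupOf_of_le_normalizer hZW
  have hnil : Group.IsNilpotent (W.subgroupOf Z) :=
    (Group.isNilpotent_congr (Subgroup.subgroupOfEquivOfLe hWZ)).mpr hW
  have hle : W.subgroupOf Z ≤ Cfsg.fittingSubgroup ↥Z :=
    Cfsg.Agent.Lib.Helper12.le_fittingSubgroup hn hnil
  intro w hw
  exact ⟨⟨w, hWZ hw⟩, hle (by rw [Subgroup.mem_subgroupOf]; exact hw), rfl⟩

/-- a subgroup containing a Sylow `p`-subgroup of `F` for every prime `p` contains `F` -/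
theorem le_of_forall_sylow_le {F H : Subgroup G} (hHF : H ≤ F)
    (h : ∀ p : ℕ, p.Prime → ∃ P : Subgroup G, IsSylowIn p P F ∧ P ≤ H) : F ≤ H := by
  rw [← Subgroup.relIndex_eq_one]
  by_contra hne
  obtain ⟨p, hp, hpd⟩ := Nat.exists_prime_and_dvd hne
  obtain ⟨P, hP, hPH⟩ := h p hp
  apply hP.not_dvd
  rw [← Subgroup.relIndex_mul_relIndex P H F hPH hHF]
  exact Dvd.dvd.mul_left hpd _

/-- if `A = Ω₁(P)` then everything normalizing a subgroup between `A` and `P` normalizes `A` -/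
theorem mem_normalizer_omega {p : ℕ} {A T P : Subgroup G} (hAT : A ≤ T) (hTP : T ≤ P)
    (hΩ : ∀ x ∈ P, x ^ p = 1 ↔ x ∈ A) {g : G} (hg : g ∈ Subgroup.normalizer (T : Set G)) :
    g ∈ Subgroup.normalizer (A : Set G) := by
  apply mem_normalizer_of_conjSub_le
  intro y hy
  rw [mem_conjSub] at hy
  have hgT : conjSub g T = T := conjSub_eq_of_mem_normalizer hg
  have hyT : y ∈ T := by
    rw [← hgT, mem_conjSub]
    exact hAT hy
  have hyp : y ^ p = 1 := by
    have h1 : (g⁻¹ * y * g) ^ p = 1 := (hΩ _ (hTP (hAT hy))).mpr hy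
    have h2 : (g⁻¹ * y * g) ^ p = g⁻¹ * y ^ p * g := by
      have := conj_pow (a := g⁻¹) (b := y) (i := p)
      rw [inv_inv] at this
      exact this
    rw [h2] at h1
    have h3 : y ^ p = g * (g⁻¹ * y ^ p * g) * g⁻¹ := by group
    rw [h3, h1]
    group
  exact (hΩ y (hTP hyT)).mp hyp

/-- a nontrivial normal `p`-subgroup of `M`, for `p ∉ σ(M)`, is cyclic and `p ∈ τ₂(M)` -/
theorem normal_pgroup_cyclic (hG : Cfsg.IsMinSimpleOddOrder G) (M : Subgroup G) (hM : IsCoatom M)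
    (p : ℕ) [hp : Fact p.Prime] (hpσ : p ∉ Cfsg.sigma M) (R : Subgroup G) (hRM : R ≤ M)
    (hRp : IsPGroup p R) (hR1 : R ≠ ⊥) (hMR : M ≤ Subgroup.normalizer (R : Set G)) :
    p ∈ Cfsg.tau2 M ∧ IsCyclic R := by
  haveI : IsSimpleGroup G := hG.2.1
  have hRtop : R ≠ ⊤ := pgroup_ne_top hG p R hRp
  have hNR : Subgroup.normalizer (R : Set G) = M := by
    have h1 := Cfsg.Agent.Lib.Helper11.normalizer_ne_top_of_simple hR1 hRtop
    rcases eq_or_lt_of_le hMR with h | h
    · exact h.symm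
    · exact absurd (hM.2 _ h) h1
  have hp2 : p ≠ 2 := Cfsg.Agent.Lib.Helper11.BenderD.odd_prime_of_pgroup hG p R hR1 hRp
  have hpM : p ∣ Nat.card M := by
    obtain ⟨k, hk⟩ := IsPGroup.iff_card.mp hRp
    have hk0 : k ≠ 0 := by
      rintro rfl
      rw [pow_zero] at hk
      exact hR1 (Subgroup.card_eq_one.mp hk)
    exact (dvd_pow_self p hk0).trans (hk ▸ Subgroup.card_dvd_of_le hRM)
  -- a Sylow subgroup of `M` containing `R`
  have hR' : IsPGroup p (R.subgroupOf M) := hRp.comap_subtype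
  obtain ⟨P, hP⟩ := hR'.exists_le_sylow
  have hRP : R ≤ (P : Subgroup M).map M.subtype := by
    intro x hx
    exact ⟨⟨x, hRM hx⟩, hP (Subgroup.mem_subgroupOf.mpr hx), rfl⟩
  have hr1 : ¬ Cfsg.PRankLE p 1 ↥M := by
    intro h1
    have hcyc : IsCyclic (P : Subgroup M) :=
      Cfsg.Agent.Lib.Helper1.BG12.cyclic_of_rank_one p hp2 (P : Subgroup M) P.isPGroup' h1
    have hcyc' : IsCyclic ((P : Subgroup M).map M.subtype) :=
      isCyclic_of_surjective ((P : Subgroup M).equivMapOfInjective M.subtype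
        M.subtype_injective).toMonoidHom
        ((P : Subgroup M).equivMapOfInjective M.subtype M.subtype_injective).surjective
    have hN := normalizer_le_of_isCyclic _ R hcyc' hRP
    rw [hNR] at hN
    exact hpσ ⟨hp.out, hpM, P, hN⟩
  have hr2 : Cfsg.PRankLE p 2 ↥M := by
    by_contra h2
    exact hpσ (Cfsg.Agent.Lib.Helper11.BenderN.alpha_sub_sigma hG M hM p ⟨hp.out, h2⟩)
  have hτ : p ∈ Cfsg.tau2 M := ⟨hp.out, hpσ, hr2, hr1⟩
  refine ⟨hτ, ?_⟩
  by_contra hnc
  obtain ⟨A₁, hA₁R, -, hA₁e, hA₁c⟩ :=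
    Cfsg.Agent.Lib.Helper11.BenderF.exists_normal_sq p hp2 R hRp hnc
  obtain ⟨-, hb, -⟩ := Cfsg.Agent.S1417.result hG M hM p hτ A₁ ⟨hA₁R.trans hRM, hA₁e, hA₁c⟩
  obtain ⟨hΩ, hN⟩ := (hb P).2 (hA₁R.trans hRP)
  apply hN
  have hNA : Subgroup.normalizer (A₁ : Set G) = M := by
    have hA₁1 : A₁ ≠ ⊥ := by
      intro h
      rw [h, Subgroup.card_bot] at hA₁c
      have : 1 < p ^ 2 := Nat.one_lt_pow (by norm_num) hp.out.one_lt
      omega
    have hA₁top : A₁ ≠ ⊤ := pgroup_ne_top hG p A₁ (hRp.to_le hA₁R)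
    have h1 := Cfsg.Agent.Lib.Helper11.normalizer_ne_top_of_simple hA₁1 hA₁top
    have hMA : M ≤ Subgroup.normalizer (A₁ : Set G) :=
      fun m hm => mem_normalizer_omega hA₁R hRP hΩ (hMR hm)
    rcases eq_or_lt_of_le hMA with h | h
    · exact h.symm
    · exact absurd (hM.2 _ h) h1
  intro g hg
  have : g ∈ Subgroup.normalizer (A₁ : Set G) :=
    mem_normalizer_omega (hA₁R.trans hRP) le_rfl hΩ hg
  rw [hNA] at this
  exact this

omit [Finite G] in
theorem normalizer_le_normalizer_fittingOf (X : Subgroup G) :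
    Subgroup.normalizer (X : Set G) ≤ Subgroup.normalizer (Cfsg.fittingOf X : Set G) := by
  unfold Cfsg.fittingOf
  have hchar : (Cfsg.fittingSubgroup ↥X).Characteristic :=
    Cfsg.Agent.Lib.Helper12.fittingSubgroup_characteristic _
  exact Cfsg.Agent.Lib.Lead.le_normalizer_map_characteristic X _ le_rfl _

/-- **B & G, Lemma 15.?**: `O_{σ(M)'}(F(M))` is a cyclic `τ₂(M)`-group and
`F(M) = F(M_σ) × O_{σ(M)'}(F(M))` -/
theorem fitting_sigma_prime (hG : Cfsg.IsMinSimpleOddOrder G) (M : Subgroup G) (hM : IsCoatom M) :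
    IsCyclic ↥(Cfsg.piCoreOf {q | q.Prime ∧ q ∉ Cfsg.sigma M} (Cfsg.fittingOf M)) ∧
      (∀ p : ℕ, p.Prime →
        p ∣ Nat.card ↥(Cfsg.piCoreOf {q | q.Prime ∧ q ∉ Cfsg.sigma M} (Cfsg.fittingOf M)) →
        p ∈ Cfsg.tau2 M) ∧
      Cfsg.fittingOf M = Cfsg.fittingOf (Cfsg.sigmaCore M) ⊔
        Cfsg.piCoreOf {q | q.Prime ∧ q ∉ Cfsg.sigma M} (Cfsg.fittingOf M) := by
  obtain ⟨F, hF⟩ : ∃ F : Subgroup G, F = Cfsg.fittingOf M := ⟨_, rfl⟩
  obtain ⟨Y, hY⟩ : ∃ Y : Subgroup G,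
    Y = Cfsg.piCoreOf {q | q.Prime ∧ q ∉ Cfsg.sigma M} F := ⟨_, rfl⟩
  rw [← hF, ← hY]
  have hFM : F ≤ M := hF ▸ fittingOf_le M
  have hYF : Y ≤ F := hY ▸ piCoreOf_le _ F
  have hMF : M ≤ Subgroup.normalizer (F : Set G) := hF ▸ le_normalizer_fittingOf M
  have hMY : M ≤ Subgroup.normalizer (Y : Set G) :=
    hMF.trans (hY ▸ normalizer_le_normalizer_piCoreOf _ F)
  have hFnil : Group.IsNilpotent F := hF ▸ fittingOf_nilpotent M
  have hYnil : Group.IsNilpotent Y := Cfsg.Agent.Lib.Helper1.nilpotent_of_le hYF hFnil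
  have hYπ : PiNum {q | q.Prime ∧ q ∉ Cfsg.sigma M} (Nat.card Y) := hY ▸ piCoreOf_piNum _ F
  have claimA : ∀ (p : ℕ) [Fact p.Prime] (R : Subgroup G), IsSylowIn p R Y → R ≠ ⊥ →
      p ∈ Cfsg.tau2 M ∧ IsCyclic R := by
    intro p hp R hR hR1
    have hMR := Cfsg.Agent.Lib.Helper1.BG12.sylow_normal_of_nilpotent Y R p hYnil hR M hMY
    have hpY : p ∣ Nat.card Y := by
      obtain ⟨k, hk⟩ := IsPGroup.iff_card.mp hR.isPGroup
      have hk0 : k ≠ 0 := by
        rintro rfl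
        rw [pow_zero] at hk
        exact hR1 (Subgroup.card_eq_one.mp hk)
      exact (dvd_pow_self p hk0).trans (hk ▸ Subgroup.card_dvd_of_le hR.le)
    have hpσ : p ∉ Cfsg.sigma M := (hYπ p hp.out hpY).2
    exact normal_pgroup_cyclic hG M hM p hpσ R (hR.le.trans (hYF.trans hFM)) hR.isPGroup hR1 hMR
  have hFσF : Cfsg.fittingOf (Cfsg.sigmaCore M) ≤ F := by
    rw [hF]
    apply le_fittingOf ((fittingOf_le _).trans (Cfsg.Agent.Lib.Helper18.BGThirteenA.sigmaCore_le M))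
    · exact (Cfsg.Agent.Lib.Helper1.BG12.le_normalizer_sigmaCore M).trans
        (normalizer_le_normalizer_fittingOf _)
    · exact fittingOf_nilpotent _
  refine ⟨?_, ?_, ?_⟩
  · haveI : IsZGroup Y := ⟨fun p hp Q => by
      haveI : Fact p.Prime := ⟨hp⟩
      by_cases hQ1 : (Q : Subgroup Y) = ⊥
      · rw [hQ1]
        infer_instance
      · have hR := isSylowIn_of_sylow Q
        have hR1 : (Q : Subgroup Y).map Y.subtype ≠ ⊥ := by
          rw [Ne, Subgroup.map_eq_bot_iff_of_injective _ Y.subtype_injective]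
          exact hQ1
        obtain ⟨-, hc⟩ := claimA p _ hR hR1
        exact isCyclic_of_surjective
          ((Q : Subgroup Y).equivMapOfInjective Y.subtype Y.subtype_injective).symm.toMonoidHom
          ((Q : Subgroup Y).equivMapOfInjective Y.subtype Y.subtype_injective).symm.surjective⟩
    haveI := hYnil
    infer_instance
  · intro p hp hpY
    haveI : Fact p.Prime := ⟨hp⟩
    obtain ⟨Q⟩ : Nonempty (Sylow p Y) := inferInstance
    have hR := isSylowIn_of_sylow Q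
    have hR1 : (Q : Subgroup Y).map Y.subtype ≠ ⊥ := by
      intro h
      apply hR.not_dvd
      rw [h, Subgroup.relIndex_bot_left]
      exact hpY
    exact (claimA p _ hR hR1).1
  · apply le_antisymm
    · apply le_of_forall_sylow_le (sup_le hFσF hYF)
      intro p hp
      haveI : Fact p.Prime := ⟨hp⟩
      obtain ⟨Q⟩ : Nonempty (Sylow p F) := inferInstance
      have hR := isSylowIn_of_sylow Q
      refine ⟨_, hR, ?_⟩
      have hFR := Cfsg.Agent.Lib.Helper1.BG12.sylow_normal_of_nilpotent F _ p hFnil hR F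
        Subgroup.le_normalizer
      have hMR := Cfsg.Agent.Lib.Helper1.BG12.sylow_normal_of_nilpotent F _ p hFnil hR M hMF
      by_cases hpσ : p ∈ Cfsg.sigma M
      · refine le_trans ?_ le_sup_left
        have h1 := Cfsg.Agent.Lib.Helper1.BG12.pgroup_le_sigmaCore hG M hM p hpσ _
          (hR.le.trans hFM) hR.isPGroup
        exact le_fittingOf h1
          ((Cfsg.Agent.Lib.Helper18.BGThirteenA.sigmaCore_le M).trans hMR)
          hR.isPGroup.isNilpotent
      · refine le_trans ?_ le_sup_right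
        rw [hY]
        apply le_piCoreOf hR.le hFR
        intro r hr hrd
        obtain ⟨k, hk⟩ := IsPGroup.iff_card.mp hR.isPGroup
        rw [hk] at hrd
        have := (Nat.prime_dvd_prime_iff_eq hr hp).mp (hr.dvd_of_dvd_pow hrd)
        exact ⟨hr, this ▸ hpσ⟩
    · exact sup_le hFσF hYF

end Cfsg.Agent.Lib.Helper18.BGFifteenA
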