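import Mathlib
import Cfsg.Agent.Lib.Helper18.NaFinishA
import Cfsg.Agent.Lib.Helper11.BenderR
import Cfsg.Agent.Lib.Helper11.BenderF
import Cfsg.Agent.Lib.Helper18.BGThirteenB

/-!
# Generic lemmas for `K* = C_{M_σ}(K)` (B & G section 14)

* `le_commutator_of_fpf`: a subgroup `U` normalized by `k` with `C_U(k) = 1` consists of commutators
  `[u, k]`;
* `mem_commutator_of_fixed_mod`: coprime action, `W = [W, Q]`: an element of `W` fixed by `Q` modulo
  `W'` lies in `W'`;
* `narrow_of_not_ideal`: a Sylow `q`-subgroup of `G` is narrow when `q` is not an ideal prime.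
-/

set_option autoImplicit false
open scoped commutatorElement

namespace Cfsg.Agent.Lib.Helper18.KStar

open Cfsg Cfsg.Agent.Lib Cfsg.Agent.Lib.Helper18

variable {G : Type*} [Group G]

/-- if `k` normalizes the finite subgroup `U` and `C_U(k) = 1` then every element of `U` is a commutator
`[u, k]`, so `U ≤ [E, E]` whenever `U ≤ E` and `k ∈ E` -/
theorem le_commutator_of_fpf [Finite G] {U E : Subgroup G} {k : G}
    (hk : k ∈ Subgroup.normalizer (U : Set G))
    (hf : U ⊓ Subgroup.centralizer ({k} : Set G) = ⊥) (hUE : U ≤ E) (hkE : k ∈ E) :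
    U ≤ ⁅E, E⁆ := by
  have hmem : ∀ u : ↥U, ⁅(u : G), k⁆ ∈ U := by
    intro u
    have h1 : k * (u : G)⁻¹ * k⁻¹ ∈ U := (hk _).mp (U.inv_mem u.2)
    have e : ⁅(u : G), k⁆ = (u : G) * (k * (u : G)⁻¹ * k⁻¹) := by
      rw [commutatorElement_def]; group
    rw [e]
    exact U.mul_mem u.2 h1
  obtain ⟨f, hfdef⟩ : ∃ f : ↥U → ↥U, ∀ u : ↥U, ((f u : ↥U) : G) = ⁅(u : G), k⁆ :=
    ⟨fun u => ⟨⁅(u : G), k⁆, hmem u⟩, fun _ => rfl⟩
  have hinj : Function.Injective f := by
    intro u v huv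
    have h1 : ⁅(u : G), k⁆ = ⁅(v : G), k⁆ := by
      rw [← hfdef u, ← hfdef v, huv]
    rw [commutatorElement_def, commutatorElement_def] at h1
    have h2 : (u : G) * k * (u : G)⁻¹ = (v : G) * k * (v : G)⁻¹ := mul_right_cancel h1
    have h3 : (v : G)⁻¹ * (u : G) ∈ U ⊓ Subgroup.centralizer ({k} : Set G) := by
      refine ⟨U.mul_mem (U.inv_mem v.2) u.2, ?_⟩
      show (v : G)⁻¹ * (u : G) ∈ Subgroup.centralizer ({k} : Set G)
      rw [Subgroup.mem_centralizer_singleton_iff]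
      have h4 : (v : G)⁻¹ * ((u : G) * k * (u : G)⁻¹) * (u : G) = (v : G)⁻¹ * (u : G) * k := by group
      have h5 : (v : G)⁻¹ * ((v : G) * k * (v : G)⁻¹) * (u : G) = k * ((v : G)⁻¹ * (u : G)) := by group
      rw [← h4, h2, h5]
    rw [hf, Subgroup.mem_bot] at h3
    apply Subtype.ext
    have : (u : G) = (v : G) := by
      have := congrArg (fun z => (v : G) * z) h3
      simpa using this
    exact this
  have hsurj : Function.Surjective f := Finite.injective_iff_surjective.mp hinj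
  intro u hu
  obtain ⟨u', hu'⟩ := hsurj ⟨u, hu⟩
  have : u = ⁅(u' : G), k⁆ := by
    rw [← hfdef u', hu']
  rw [this]
  exact Subgroup.commutator_mem_commutator (hUE u'.2) hkE

/-- coprime action with `W = [W, Q]`: an element of `W` that is fixed by `Q` modulo `W'` lies in `W'` -/
theorem mem_commutator_of_fixed_mod [Finite G] {W Q : Subgroup G}
    (hQW : Q ≤ Subgroup.normalizer (W : Set G)) (hWQ : W ≤ ⁅W, Q⁆)
    (hcop : (Nat.card W).Coprime (Nat.card Q)) {y : G} (hyW : y ∈ W)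
    (hfix : ∀ s ∈ Q, s * y * s⁻¹ * y⁻¹ ∈ ⁅W, W⁆) : y ∈ ⁅W, W⁆ := by
  classical
  let instQ : Fintype ↥(Q.subgroupOf (Subgroup.normalizer (W : Set G))) := Fintype.ofFinite _
  have hnQ := Helper28.BGt.normS_eq_one W Q hQW hWQ
  have hcardQ : Fintype.card ↥(Q.subgroupOf (Subgroup.normalizer (W : Set G))) = Nat.card Q := by
    rw [← Nat.card_eq_fintype_card]
    exact Nat.card_congr (Subgroup.subgroupOfEquivOfLe hQW).toEquiv
  rw [← Helper28.BGt.of_eq_one_iff W ⟨y, hyW⟩]
  have h1 : (Abelianization.of (⟨y, hyW⟩ : ↥W) : Abelianization ↥W) ^ Nat.card Q = 1 := by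
    rw [← hcardQ, ← Helper28.BGt.normS_of_fixed (Helper28.BGt.abAct W)
      (Q.subgroupOf (Subgroup.normalizer (W : Set G))) _ ?_]
    · exact hnQ _
    · intro s hs
      rw [Helper28.BGt.abAct_of]
      have hsQ : (s : G) ∈ Q := Subgroup.mem_subgroupOf.mp hs
      have hsy : (s : G) * y * (s : G)⁻¹ ∈ W := (s.2 y).mp hyW
      have h3 := hfix s hsQ
      have h4 : (Abelianization.of (⟨(s : G) * y * (s : G)⁻¹ * y⁻¹,
          W.mul_mem hsy (W.inv_mem hyW)⟩ : ↥W) : Abelianization ↥W) = 1 :=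
        (Helper28.BGt.of_eq_one_iff W _).mpr h3
      have h5 : (⟨(s : G) * y * (s : G)⁻¹ * y⁻¹, W.mul_mem hsy (W.inv_mem hyW)⟩ : ↥W) =
          (⟨(s : G) * y * (s : G)⁻¹, hsy⟩ : ↥W) * (⟨y, hyW⟩ : ↥W)⁻¹ := by
        apply Subtype.ext
        rfl
      rw [h5, map_mul, map_inv, mul_inv_eq_one] at h4
      exact h4
  have h2 : (Abelianization.of (⟨y, hyW⟩ : ↥W) : Abelianization ↥W) ^ Nat.card W = 1 := by
    rw [← map_pow, pow_card_eq_one', map_one]
  have h3 : orderOf (Abelianization.of (⟨y, hyW⟩ : ↥W) : Abelianization ↥W) = 1 :=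
    Nat.eq_one_of_dvd_coprimes hcop (orderOf_dvd_of_pow_eq_one h2) (orderOf_dvd_of_pow_eq_one h1)
  exact orderOf_eq_one_iff.mp h3

/-- a Sylow `q`-subgroup of `G` is narrow when `q` is not an ideal prime of `G` -/
theorem narrow_of_not_ideal [Finite G] {q : ℕ} [hq : Fact q.Prime] (hq2 : q ≠ 2)
    (hqi : ¬ Cfsg.IsIdealPrime q G) {S : Subgroup G} (hS : IsSylowIn q S ⊤) :
    Cfsg.IsNarrow q ↥S := by
  by_cases hr : Cfsg.PRankLE q 2 G
  · exact Or.inl (BGThirteenB.pRankLE_subgroup S hr)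
  unfold Cfsg.IsIdealPrime at hqi
  push Not at hqi
  obtain ⟨P, A, hAP, hAe, hA2, hAmax⟩ := hqi hq.out hr
  -- transport `A` into `S`
  have hPS : IsSylowIn q (P : Subgroup G) ⊤ := isSylowIn_top_of_sylow P
  obtain ⟨g, -, hg⟩ := hS.exists_conj_le (le_top : (P : Subgroup G) ≤ ⊤) hPS.isPGroup
  have hgS : conjSub g (P : Subgroup G) = S := by
    have h1 : IsSylowIn q (conjSub g (P : Subgroup G)) ⊤ := by
      have := hPS.conjSub g
      have e : conjSub g (⊤ : Subgroup G) = ⊤ := by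
        rw [eq_top_iff]
        intro x _
        rw [mem_conjSub]
        exact Subgroup.mem_top _
      rwa [e] at this
    exact (h1.eq_of_le le_top hS.isPGroup hg).symm
  have hAS : conjSub g A ≤ S := by
    rw [← hgS]; exact conjSub_mono hAP
  apply Helper11.BenderR.narrow_of_max_sq_sub q hq2 S hS.isPGroup (conjSub g A) hAS
    (Helper11.BenderF.elemAb_conjSub q g hAe) (by rw [card_conjSub]; exact hA2)
  intro B hBS hBe hAB
  have hB' : conjSub g⁻¹ B ≤ (P : Subgroup G) := by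
    rw [conjSub_le_iff, inv_inv, hgS]
    exact hBS
  have hAB' : A ≤ conjSub g⁻¹ B := conjSub_le_iff.mp hAB
  have hBe' := Helper11.BenderF.elemAb_conjSub q g⁻¹ hBe
  have heq : A = conjSub g⁻¹ B := by
    by_contra hne
    exact hAmax (conjSub g⁻¹ B) hB' hBe' (lt_of_le_of_ne hAB' hne)
  rw [heq, conjSub_mul, mul_inv_cancel, conjSub_one]

end Cfsg.Agent.Lib.Helper18.KStar
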