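import Mathlib
import Cfsg.Agent.Lib.Helper18.KStarA
import Cfsg.Agent.Lib.Helper18.KStarB
import Cfsg.Agent.Lib.Helper18.NaFinishA
import Cfsg.Agent.Lib.Helper18.E8Connected
import Cfsg.Agent.Lib.Helper11.ThirteenB
import Cfsg.Agent.Lib.Helper11.ExcF
import Cfsg.Agent.Lib.Helper11.BenderP
import Cfsg.Agent.Lib.Helper10.SigmaJsubA
import Cfsg.Agent.S1423
import Cfsg.Agent.S1426

set_option autoImplicit false
open scoped commutatorElement

/-! B & G Theorem 14.2 (f), (g) (statement S1431), the parts which use the conclusions of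
Theorem 14.2 (a)-(e) (statement S1430) (helper18). -/

namespace Cfsg.Agent.Lib.Helper18.KStar

open Cfsg Cfsg.Agent.Lib.Helper18 Cfsg.Agent.Lib.Helper28.BGt

variable {G : Type*} [Group G]

/-- the set of primes of `U` in Theorem 14.2 -/
abbrev rhoSet (M : Subgroup G) : Set ℕ := {q | q.Prime ∧ q ∉ Cfsg.kappa M ∧ q ∉ Cfsg.sigma M}

/-- `U K` is a complement of `M_σ` in `M`, for `K` a Hall `κ(M)`-subgroup and `U` a Hall subgroup
for the remaining primes outside `σ(M)`, normalized by `K` -/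
theorem compl_of_halls [Finite G] (hG : Cfsg.IsMinSimpleOddOrder G) {M K U : Subgroup G}
    (hM : IsCoatom M) (hK : Cfsg.IsPiHallOf (Cfsg.kappa M) K M)
    (hU : Cfsg.IsPiHallOf (rhoSet M) U M) (hKU : K ≤ Subgroup.normalizer (U : Set G)) :
    Cfsg.IsComplIn (U ⊔ K) (Cfsg.sigmaCore M) M := by
  have hUM : U ≤ M := hU.1
  have hKM : K ≤ M := hK.1
  have hEM : U ⊔ K ≤ M := sup_le hUM hKM
  have hσM : Cfsg.sigmaCore M ≤ M := sigmaCore_le M
  have hEN : U ⊔ K ≤ Subgroup.normalizer (Cfsg.sigmaCore M : Set G) :=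
    hEM.trans (le_normalizer_sigmaCore M)
  have hdvd : Nat.card ↥(U ⊔ K) ∣ Nat.card U * Nat.card K :=
    Cfsg.Agent.Lib.Helper11.ThirteenB.card_sup_dvd U K hKU
  have hcop : (Nat.card ↥(U ⊔ K)).Coprime (Nat.card (Cfsg.sigmaCore M)) := by
    apply Nat.coprime_of_dvd
    intro r hr hrE hrs
    have hrσ : r ∈ Cfsg.sigma M := prime_sigmaCore hG hM hr hrs
    rcases (Nat.Prime.dvd_mul hr).mp (hrE.trans hdvd) with h | h
    · exact (hU.2.1 r hr h).2.2 hrσ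
    · exact (hK.2.1 r hr h).2.2.1 hrσ
  have hinf : (U ⊔ K) ⊓ Cfsg.sigmaCore M = ⊥ := Subgroup.inf_eq_bot_of_coprime hcop
  apply NaFinish.isComplIn_of_card hEM hσM hinf
  -- the order
  have h1 := E8C.card_sup_mul_card_inf hEN
  rw [hinf, Subgroup.card_bot, mul_one] at h1
  rw [← h1]
  have hNM : (U ⊔ K) ⊔ Cfsg.sigmaCore M ≤ M := sup_le hEM hσM
  have hrel : ((U ⊔ K) ⊔ Cfsg.sigmaCore M).relIndex M = 1 := by
    rw [Nat.eq_one_iff_not_exists_prime_dvd]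
    intro r hr hrd
    by_cases hrσ : r ∈ Cfsg.sigma M
    · exact (Cfsg.Agent.Lib.Helper11.BenderO.sigma_hall hG M hM).1.2.2 r hr hrσ
        (hrd.trans (Subgroup.relIndex_dvd_of_le_left M le_sup_right))
    · by_cases hrκ : r ∈ Cfsg.kappa M
      · exact hK.2.2 r hr hrκ
          (hrd.trans (Subgroup.relIndex_dvd_of_le_left M (le_sup_right.trans le_sup_left)))
      · exact hU.2.2 r hr ⟨hr, hrκ, hrσ⟩
          (hrd.trans (Subgroup.relIndex_dvd_of_le_left M (le_sup_left.trans le_sup_left)))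
  have hMN : M ≤ (U ⊔ K) ⊔ Cfsg.sigmaCore M := Subgroup.relIndex_eq_one.mp hrel
  rw [le_antisymm hNM hMN]

/-- **Key Lemma**: a subgroup `X` of prime order `q` of `K* = C_{M_σ}(K)` satisfies `q ∈ β(M)` or
`X ≤ (M_σ)'` -/
theorem kstar_prime_cases [Finite G] (hG : Cfsg.IsMinSimpleOddOrder G) {M K U : Subgroup G}
    (hM : IsCoatom M) (hK : Cfsg.IsPiHallOf (Cfsg.kappa M) K M) (hK1 : K ≠ ⊥)
    (hU : Cfsg.IsPiHallOf (rhoSet M) U M) (hKU : K ≤ Subgroup.normalizer (U : Set G))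
    (hfree : ∀ k ∈ K, k ≠ 1 → U ⊓ Subgroup.centralizer ({k} : Set G) = ⊥)
    {q : ℕ} [hq : Fact q.Prime] {X : Subgroup G} (hXc : Nat.card X = q)
    (hXK : X ≤ Cfsg.sigmaCore M ⊓ Subgroup.centralizer (K : Set G)) :
    q ∈ Cfsg.beta M ∨ X ≤ ⁅Cfsg.sigmaCore M, Cfsg.sigmaCore M⁆ := by
  by_cases hqβ : q ∈ Cfsg.beta M
  · exact Or.inl hqβ
  right
  have hXσ : X ≤ Cfsg.sigmaCore M := hXK.trans inf_le_left
  have hXq : IsPGroup q X := IsPGroup.of_card (n := 1) (by rw [hXc, pow_one])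
  have hσM : Cfsg.sigmaCore M ≤ M := sigmaCore_le M
  have hqσ : q ∈ Cfsg.sigma M := by
    apply prime_sigmaCore hG hM hq.out
    rw [← hXc]
    exact Subgroup.card_dvd_of_le hXσ
  have hq2 : q ≠ 2 := Cfsg.Agent.Lib.Helper1.BG10.prime_ne_two hG q M hqσ.2.1
  -- the complement `E₀ = U K`
  obtain ⟨E₀, hE₀def⟩ : ∃ E₀ : Subgroup G, E₀ = U ⊔ K := ⟨_, rfl⟩
  have hE₀ : Cfsg.IsComplIn E₀ (Cfsg.sigmaCore M) M := by
    rw [hE₀def]; exact compl_of_halls hG hM hK hU hKU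
  have hE₀N : E₀ ≤ Subgroup.normalizer (Cfsg.sigmaCore M : Set G) :=
    hE₀.1.trans (le_normalizer_sigmaCore M)
  have hcop : (Nat.card E₀).Coprime (Nat.card (Cfsg.sigmaCore M)) := by
    apply Nat.coprime_of_dvd
    intro r hr hrE hrs
    exact compl_prime_not_sigma hG hM hE₀ hr hrE (prime_sigmaCore hG hM hr hrs)
  haveI hsolM : Group.IsSolvable ↥M := Cfsg.Agent.Lib.Helper11.MaxSubB.coatom_solvable hG M hM
  have hsolE : Group.IsSolvable ↥E₀ := Cfsg.Agent.Lib.Lead.solvable_of_le hE₀.1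
  -- an `E₀`-invariant Sylow `q`-subgroup of `M_σ`
  obtain ⟨S₀, hS₀, hES, -⟩ := Cfsg.Agent.Lib.Helper11.BenderP.exists_inv_sylow_ge E₀
    (Cfsg.sigmaCore M) hE₀N hcop hsolE q ⊥ bot_le IsPGroup.of_bot (by
      intro e _
      rw [Subgroup.mem_normalizer_iff]
      intro h
      simp [Subgroup.mem_bot])
  have hS₀G : IsSylowIn q S₀ ⊤ := by
    refine ⟨le_top, hS₀.isPGroup, ?_⟩
    rw [Subgroup.relIndex_top_right, ← Subgroup.relIndex_mul_index hS₀.le]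
    intro hd
    rcases (Nat.Prime.dvd_mul hq.out).mp hd with h | h
    · exact hS₀.not_dvd h
    · exact (Cfsg.Agent.Lib.Helper11.BenderO.sigma_hall hG M hM).2.1.2 q hq.out hqσ h
  have hn : Cfsg.IsNarrow q ↥S₀ := by
    by_cases hα : Cfsg.PRankLE q 2 ↥M
    · exact Or.inl (Cfsg.Agent.Lib.Helper1.BG12.pRankLE_of_le (hS₀.le.trans hσM) hα)
    · exact narrow_of_not_ideal hq2 (fun h => hqβ ⟨⟨hq.out, hα⟩, h⟩) hS₀G
  have hodd : Odd (Nat.card E₀) := Odd.of_dvd_nat hG.1 (Subgroup.card_subgroup_dvd_card E₀)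
  have hcopq : (Nat.card E₀).Coprime q :=
    ((Nat.Prime.coprime_iff_not_dvd hq.out).mpr
      (fun hd => compl_prime_not_sigma hG hM hE₀ hq.out hd hqσ)).symm
  have hder : ⁅E₀, E₀⁆ ≤ Subgroup.centralizer (S₀ : Set G) :=
    NaFinish.der_centralizes hq2 hS₀.isPGroup hn hES hodd hsolE hcopq
  -- `U ≤ E₀'`
  obtain ⟨k, hkK, hk1⟩ := exists_ne_one_of_ne_bot' hK1
  have hUder : U ≤ ⁅E₀, E₀⁆ := by
    rw [hE₀def]
    exact le_commutator_of_fpf (hKU hkK) (hfree k hkK hk1) le_sup_left (le_sup_right (a := U) hkK)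
  -- move `X` into `S₀`
  obtain ⟨c, hc, hcX⟩ := hS₀.exists_conj_le hXσ hXq
  have hWQ : Cfsg.sigmaCore M ≤ ⁅Cfsg.sigmaCore M, E₀⁆ :=
    ((Cfsg.Agent.S1426.result hG M hM E₀ hE₀).2.1).ge
  intro x hx
  apply mem_commutator_of_fixed_mod hE₀N hWQ hcop.symm (hXσ hx)
  intro s hs
  rw [hE₀def] at hs
  obtain ⟨u, hu, k', hk', rfl⟩ := Cfsg.Agent.Lib.Helper11.ExcF.exists_mul_of_mem_sup U K hKU s hs
  have hkx : k' * x = x * k' :=
    Subgroup.mem_centralizer_iff.mp ((hXK hx).2) k' hk'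
  obtain ⟨x', hx'def⟩ : ∃ x' : G, x' = c * x * c⁻¹ := ⟨_, rfl⟩
  have hx'S : x' ∈ S₀ := by rw [hx'def]; exact hcX (conj_mem_conjSub hx)
  have hux : x' * u = u * x' :=
    Subgroup.mem_centralizer_iff.mp (hder (hUder hu)) x' hx'S
  have huE : u ∈ E₀ := by rw [hE₀def]; exact Subgroup.mem_sup_left hu
  obtain ⟨d, hddef⟩ : ∃ d : G, d = u * c * u⁻¹ := ⟨_, rfl⟩
  have hdσ : d ∈ Cfsg.sigmaCore M := by
    rw [hddef]; exact conj_mem_of_le_normalizer hE₀N huE hc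
  have hx'σ : x' ∈ Cfsg.sigmaCore M := hS₀.le hx'S
  have e1 : u * k' * x * (u * k')⁻¹ * x⁻¹ = u * (k' * x * k'⁻¹) * u⁻¹ * x⁻¹ := by group
  have e2 : k' * x * k'⁻¹ = x := by rw [hkx, mul_inv_cancel_right]
  have e3 : u⁻¹ * x' * u = x' := by rw [mul_assoc, hux, inv_mul_cancel_left]
  have e4 : ⁅d⁻¹, x'⁆ * ⁅x', c⁻¹⁆ = u * c⁻¹ * (u⁻¹ * x' * u) * c * u⁻¹ * (c⁻¹ * x'⁻¹ * c) := by
    rw [commutatorElement_def, commutatorElement_def, hddef]; group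
  have e5 : u * x * u⁻¹ * x⁻¹ = ⁅d⁻¹, x'⁆ * ⁅x', c⁻¹⁆ := by
    rw [e4, e3, hx'def]; group
  rw [e1, e2, e5]
  exact Subgroup.mul_mem _
    (Subgroup.commutator_mem_commutator (Subgroup.inv_mem _ hdσ) hx'σ)
    (Subgroup.commutator_mem_commutator hx'σ (Subgroup.inv_mem _ hc))

end Cfsg.Agent.Lib.Helper18.KStar
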