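import Mathlib
import Cfsg.Agent.Lib.Helper18.KStarC
import Cfsg.Agent.Lib.Helper18.Isolated
import Cfsg.Agent.Lib.Helper11.BenderQ
import Cfsg.Agent.Lib.Helper21.BG13t

set_option autoImplicit false
open scoped commutatorElement

/-! B & G Theorem 14.2 (f), (g) (statement S1431) from the conclusions of Theorem 14.2 (a)-(e)
(statement S1430) (helper18). -/

namespace Cfsg.Agent.Lib.Helper18.KStar

open Cfsg Cfsg.Agent.Lib.Helper18 Cfsg.Agent.Lib.Helper28.BGt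

variable {G : Type*} [Group G]

/-- **B & G 14.2(f), third part**: for a prime `p` dividing `|K*|`, every Sylow `p`-subgroup `S` of
`M_σ` lies in `M` only, and `S` is not contained in `K*` -/
theorem clause_three [Finite G] (hG : Cfsg.IsMinSimpleOddOrder G) {M K U : Subgroup G}
    (hM : IsCoatom M) (hK : Cfsg.IsPiHallOf (Cfsg.kappa M) K M) (hK1 : K ≠ ⊥)
    (hU : Cfsg.IsPiHallOf (rhoSet M) U M) (hKU : K ≤ Subgroup.normalizer (U : Set G))
    (hfree : ∀ k ∈ K, k ≠ 1 → U ⊓ Subgroup.centralizer ({k} : Set G) = ⊥)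
    (p : ℕ) (hp : p.Prime)
    (hpd : p ∣ Nat.card ↥(Cfsg.sigmaCore M ⊓ Subgroup.centralizer (K : Set G)))
    (S : Sylow p ↥(Cfsg.sigmaCore M)) :
    Cfsg.InUniqueMaximal ((S : Subgroup ↥(Cfsg.sigmaCore M)).map (Cfsg.sigmaCore M).subtype) ∧
      (S : Subgroup ↥(Cfsg.sigmaCore M)).map (Cfsg.sigmaCore M).subtype ≤ M ∧
      ¬ (S : Subgroup ↥(Cfsg.sigmaCore M)).map (Cfsg.sigmaCore M).subtype ≤
        (Cfsg.sigmaCore M ⊓ Subgroup.centralizer (K : Set G)) := by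
  haveI : Fact p.Prime := ⟨hp⟩
  haveI : IsSimpleGroup G := hG.2.1
  obtain ⟨y, hy⟩ := exists_prime_orderOf_dvd_card' p hpd
  obtain ⟨X, hXdef⟩ : ∃ X : Subgroup G, X = Subgroup.zpowers (y : G) := ⟨_, rfl⟩
  have hXc : Nat.card X = p := by rw [hXdef, Nat.card_zpowers, Subgroup.orderOf_coe, hy]
  have hXK : X ≤ Cfsg.sigmaCore M ⊓ Subgroup.centralizer (K : Set G) := by
    rw [hXdef, Subgroup.zpowers_le]; exact y.2
  have hXσ : X ≤ Cfsg.sigmaCore M := hXK.trans inf_le_left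
  have hpσ : p ∈ Cfsg.sigma M := by
    apply prime_sigmaCore hG hM hp
    rw [← hXc]
    exact Subgroup.card_dvd_of_le hXσ
  have hcases := kstar_prime_cases hG hM hK hK1 hU hKU hfree hXc hXK
  obtain ⟨-, huniq, hSM⟩ :=
    Cfsg.Agent.S1423.result hG M hM p hpσ X (hXσ.trans (sigmaCore_le M)) hXc S hcases
  refine ⟨huniq, hSM, ?_⟩
  intro hle
  obtain ⟨r, P, hr, hPK, hPc⟩ := exists_prime_card_le hK1
  haveI : Fact r.Prime := ⟨hr⟩
  have hrκ : r ∈ Cfsg.kappa M := hK.2.1 r hr (by rw [← hPc]; exact Subgroup.card_dvd_of_le hPK)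
  have hP1 : P ≠ ⊥ := ne_bot_of_card_prime' hr hPc
  have hPM : P ≤ M := hPK.trans hK.1
  have hPtop : P ≠ ⊤ := fun h => hM.1 (top_le_iff.mp (h ▸ hPM))
  obtain ⟨L, hL, hNL⟩ := Cfsg.Agent.Lib.Helper11.BenderE.exists_coatom_ge _
    (Cfsg.Agent.Lib.Helper11.normalizer_ne_top_of_simple hP1 hPtop)
  have hCKP : Subgroup.centralizer (K : Set G) ≤ Subgroup.centralizer (P : Set G) :=
    Subgroup.centralizer_le (by exact_mod_cast hPK)
  have hSL : (S : Subgroup ↥(Cfsg.sigmaCore M)).map (Cfsg.sigmaCore M).subtype ≤ L :=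
    (hle.trans inf_le_right).trans
      (hCKP.trans ((Subgroup.centralizer_le_normalizer _).trans hNL))
  have hLM : L = M := by
    obtain ⟨M', -, hM'⟩ := huniq
    rw [hM' L ⟨hL, hSL⟩, hM' M ⟨hM, hSM⟩]
  have hKne : Cfsg.sigmaCore M ⊓ Subgroup.centralizer (P : Set G) ≠ ⊥ := by
    intro h
    apply ne_bot_of_card_prime' hp hXc
    rw [eq_bot_iff, ← h]
    exact le_inf hXσ ((hXK.trans inf_le_right).trans hCKP)
  obtain ⟨hnc, -, -⟩ := Cfsg.Agent.Lib.Helper21.BG13t.le_sigmaCore_of_normalizer_le hG hM hL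
    hrκ.2.2.1 (Cfsg.Agent.Lib.Helper1.BG14.kappa_pRankLE_one hrκ) hPc hPM hNL hKne
  apply hnc 1
  rw [conjSub_one]
  exact hLM

/-- **B & G 14.2(f), second part**: `K ∩ gKg⁻¹ = 1` for `g ∈ M ∖ K K*` -/
theorem clause_two [Finite G] (hG : Cfsg.IsMinSimpleOddOrder G) {M K : Subgroup G}
    (hK : Cfsg.IsPiHallOf (Cfsg.kappa M) K M)
    (h3 : ∀ X : Subgroup G, X ≤ K → (Nat.card X).Prime →
      M ⊓ Subgroup.normalizer (X : Set G) =
        K ⊔ (Cfsg.sigmaCore M ⊓ Subgroup.centralizer (K : Set G)))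
    (g : G) (hgM : g ∈ M)
    (hg : g ∉ K ⊔ (Cfsg.sigmaCore M ⊓ Subgroup.centralizer (K : Set G))) :
    K ⊓ K.map (MulAut.conj g).toMonoidHom = ⊥ := by
  by_contra hne
  obtain ⟨z, hz, hz1⟩ := exists_ne_one_of_ne_bot' hne
  obtain ⟨p, hp, -, hpo⟩ := exists_prime_pow hz1
  haveI : Fact p.Prime := ⟨hp⟩
  obtain ⟨z₀, hz₀def⟩ : ∃ z₀ : G, z₀ = z ^ (orderOf z / p) := ⟨_, rfl⟩
  rw [← hz₀def] at hpo
  obtain ⟨X, hXdef⟩ : ∃ X : Subgroup G, X = Subgroup.zpowers z₀ := ⟨_, rfl⟩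
  have hXc : Nat.card X = p := by rw [hXdef, Nat.card_zpowers, hpo]
  have hXK : X ≤ K := by
    rw [hXdef, Subgroup.zpowers_le, hz₀def]; exact K.pow_mem hz.1 _
  have hXgK : X ≤ conjSub g K := by
    rw [hXdef, Subgroup.zpowers_le, hz₀def]; exact Subgroup.pow_mem _ hz.2 _
  obtain ⟨X', hX'def⟩ : ∃ X' : Subgroup G, X' = conjSub g⁻¹ X := ⟨_, rfl⟩
  have hX'K : X' ≤ K := by
    rw [hX'def, conjSub_le_iff, inv_inv]; exact hXgK
  have hX'c : Nat.card X' = p := by rw [hX'def, card_conjSub, hXc]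
  have hpκ : p ∈ Cfsg.kappa M := hK.2.1 p hp (by rw [← hXc]; exact Subgroup.card_dvd_of_le hXK)
  have hp2 : p ≠ 2 := Cfsg.Agent.Lib.Helper1.BG10.prime_ne_two hG p M hpκ.2.1
  have hXpr : (Nat.card X).Prime := by rw [hXc]; exact hp
  have hX'pr : (Nat.card X').Prime := by rw [hX'c]; exact hp
  have hKNX' : K ≤ Subgroup.normalizer (X' : Set G) :=
    (le_sup_left.trans (h3 X' hX'K hX'pr).ge).trans inf_le_right
  have hXp : IsPGroup p X := IsPGroup.of_card (n := 1) (by rw [hXc, pow_one])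
  have hX'p : IsPGroup p X' := IsPGroup.of_card (n := 1) (by rw [hX'c, pow_one])
  obtain ⟨T, hT, hXT⟩ := exists_isSylowIn_ge hXK hXp
  obtain ⟨k, hk, hkX'⟩ := hT.exists_conj_le hX'K hX'p
  rw [conjSub_eq_of_mem_normalizer (hKNX' hk)] at hkX'
  have hTcyc : IsCyclic ↥T :=
    Cfsg.Agent.Lib.Helper11.BenderQ.isCyclic_of_pRankLE_one p hp2 hT.isPGroup
      (Cfsg.Agent.Lib.Helper1.BG12.pRankLE_of_le (hT.le.trans hK.1)
        (Cfsg.Agent.Lib.Helper1.BG14.kappa_pRankLE_one hpκ))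
  have hXX' : X = X' :=
    Cfsg.Agent.Lib.Helper10.SigmaJsubA.eq_of_card_eq_of_le_cyclic hTcyc hXT hkX'
      (by rw [hXc, hX'c])
  have hgN : g⁻¹ ∈ Subgroup.normalizer (X : Set G) := by
    apply mem_normalizer_of_conjSub_le
    rw [← hX'def, ← hXX']
  have hmem : g⁻¹ ∈ K ⊔ (Cfsg.sigmaCore M ⊓ Subgroup.centralizer (K : Set G)) := by
    rw [← h3 X hXK hXpr]
    exact ⟨M.inv_mem hgM, hgN⟩
  apply hg
  have := Subgroup.inv_mem _ hmem
  rwa [inv_inv] at this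

/-- **B & G Theorem 14.2 (f), (g)** (the statement of S1431), from the conclusions of
Theorem 14.2 (a)-(e) (the statement of S1430) for the same `M`, `K` -/
theorem kstar_main [Finite G] (hG : Cfsg.IsMinSimpleOddOrder G) {M K : Subgroup G}
    (hM : IsCoatom M) (hK : Cfsg.IsPiHallOf (Cfsg.kappa M) K M) (hK1 : K ≠ ⊥)
    (h30 : (∀ k ∈ K, k ≠ 1 → Cfsg.sigmaCore M ⊓ Subgroup.centralizer ({k} : Set G) =
        (Cfsg.sigmaCore M ⊓ Subgroup.centralizer (K : Set G))) ∧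
      (∃ U : Subgroup G, IsMulCommutative U ∧
        Cfsg.IsPiHallOf {q | q.Prime ∧ q ∉ Cfsg.kappa M ∧ q ∉ Cfsg.sigma M} U M ∧
        K ≤ Subgroup.normalizer (U : Set G) ∧
        ∀ k ∈ K, k ≠ 1 → U ⊓ Subgroup.centralizer ({k} : Set G) = ⊥) ∧
      ∀ X : Subgroup G, X ≤ K → (Nat.card X).Prime →
        M ⊓ Subgroup.normalizer (X : Set G) =
            K ⊔ (Cfsg.sigmaCore M ⊓ Subgroup.centralizer (K : Set G)) ∧
          M ⊓ Subgroup.normalizer (K : Set G) =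
            K ⊔ (Cfsg.sigmaCore M ⊓ Subgroup.centralizer (K : Set G)) ∧
          ∀ Mstar : Subgroup G, IsCoatom Mstar → Subgroup.normalizer (X : Set G) ≤ Mstar →
            X ≤ Cfsg.sigmaCore Mstar) :
    (∀ g : G, g ∉ M → (Cfsg.sigmaCore M ⊓ Subgroup.centralizer (K : Set G)) ⊓
        M.map (MulAut.conj g).toMonoidHom = ⊥) ∧
      (∀ g ∈ M, g ∉ K ⊔ (Cfsg.sigmaCore M ⊓ Subgroup.centralizer (K : Set G)) →
        K ⊓ K.map (MulAut.conj g).toMonoidHom = ⊥) ∧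
      (∀ (p : ℕ), p.Prime →
        p ∣ Nat.card ↥(Cfsg.sigmaCore M ⊓ Subgroup.centralizer (K : Set G)) →
        ∀ S : Sylow p ↥(Cfsg.sigmaCore M),
        Cfsg.InUniqueMaximal
          ((S : Subgroup ↥(Cfsg.sigmaCore M)).map (Cfsg.sigmaCore M).subtype) ∧
        (S : Subgroup ↥(Cfsg.sigmaCore M)).map (Cfsg.sigmaCore M).subtype ≤ M ∧
        ¬ (S : Subgroup ↥(Cfsg.sigmaCore M)).map (Cfsg.sigmaCore M).subtype ≤
          (Cfsg.sigmaCore M ⊓ Subgroup.centralizer (K : Set G))) ∧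
      ∀ Y : Subgroup G, (∀ p : ℕ, p.Prime → p ∣ Nat.card Y → p ∈ Cfsg.sigma M) →
        Y ⊓ (Cfsg.sigmaCore M ⊓ Subgroup.centralizer (K : Set G)) ≠ ⊥ →
        Y ≤ Cfsg.sigmaCore M := by
  obtain ⟨-, ⟨U, -, hU, hKU, hfree⟩, h3⟩ := h30
  refine ⟨fun g hg => clause_one hG hM hK hK1 g hg, ?_, ?_,
    fun Y hY hYK => clause_four hG hM hK hK1 Y hY hYK⟩
  · intro g hgM hg
    exact clause_two hG hK (fun X hXK hXp => (h3 X hXK hXp).1) g hgM hg
  · intro p hp hpd S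
    exact clause_three hG hM hK hK1 hU hKU hfree p hp hpd S

end Cfsg.Agent.Lib.Helper18.KStar
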