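import Mathlib
import Cfsg.Agent.Lib.Helper18.KStarD
import Cfsg.Agent.S1430

set_option autoImplicit false

/-! Unconditional forms of the `K*` lemmas (using the landed statement S1430) (helper18). -/

namespace Cfsg.Agent.Lib.Helper18.KStar

open Cfsg

variable {G : Type*} [Group G]

/-- **Key Lemma, unconditional**: a subgroup `X` of prime order `q` of `K* = C_{M_σ}(K)` (`K ≠ 1` a
Hall `κ(M)`-subgroup of `M`) satisfies `q ∈ β(M)` or `X ≤ (M_σ)'` (so `S1423.result` applies) -/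
theorem kstar_prime_cases' [Finite G] (hG : Cfsg.IsMinSimpleOddOrder G) {M K : Subgroup G}
    (hM : IsCoatom M) (hK : Cfsg.IsPiHallOf (Cfsg.kappa M) K M) (hK1 : K ≠ ⊥)
    {q : ℕ} [hq : Fact q.Prime] {X : Subgroup G} (hXc : Nat.card X = q)
    (hXK : X ≤ Cfsg.sigmaCore M ⊓ Subgroup.centralizer (K : Set G)) :
    q ∈ Cfsg.beta M ∨ X ≤ ⁅Cfsg.sigmaCore M, Cfsg.sigmaCore M⁆ := by
  obtain ⟨-, ⟨U, -, hU, hKU, hfree⟩, -⟩ := Cfsg.Agent.S1430.result hG M hM K hK hK1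
  exact kstar_prime_cases hG hM hK hK1 hU hKU hfree hXc hXK

/-- `C_G(X) ≤ M`, `M` the only maximal subgroup over `C_G(X)`, and every Sylow `q`-subgroup of `M_σ`
lies in `M` only, for `X ≤ K*` of prime order `q` -/
theorem kstar_uniq [Finite G] (hG : Cfsg.IsMinSimpleOddOrder G) {M K : Subgroup G}
    (hM : IsCoatom M) (hK : Cfsg.IsPiHallOf (Cfsg.kappa M) K M) (hK1 : K ≠ ⊥)
    {q : ℕ} [hq : Fact q.Prime] {X : Subgroup G} (hXc : Nat.card X = q)
    (hXK : X ≤ Cfsg.sigmaCore M ⊓ Subgroup.centralizer (K : Set G))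
    (P : Sylow q ↥(Cfsg.sigmaCore M)) :
    (Subgroup.centralizer (X : Set G) ≤ M ∧
      ∀ L : Subgroup G, IsCoatom L → Subgroup.centralizer (X : Set G) ≤ L → L = M) ∧
    Cfsg.InUniqueMaximal ((P : Subgroup ↥(Cfsg.sigmaCore M)).map (Cfsg.sigmaCore M).subtype) ∧
      (P : Subgroup ↥(Cfsg.sigmaCore M)).map (Cfsg.sigmaCore M).subtype ≤ M := by
  have hXσ : X ≤ Cfsg.sigmaCore M := hXK.trans inf_le_left
  have hqσ : q ∈ Cfsg.sigma M := by
    apply Cfsg.Agent.Lib.Helper28.BGt.prime_sigmaCore hG hM hq.out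
    rw [← hXc]
    exact Subgroup.card_dvd_of_le hXσ
  exact Cfsg.Agent.S1423.result hG M hM q hqσ X
    (hXσ.trans (Cfsg.Agent.Lib.Helper28.BGt.sigmaCore_le M)) hXc P
    (kstar_prime_cases' hG hM hK hK1 hXc hXK)

end Cfsg.Agent.Lib.Helper18.KStar
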