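import Mathlib
import Cfsg.Prelude.Def_OddOrderLocal
import Cfsg.Agent.Lib.Helper18.SylowIn
import Cfsg.Agent.Lib.Helper11.FrobDerived
import Cfsg.Agent.Lib.Helper11.FrobKernelNil
import Cfsg.Agent.Lib.Helper11.FrobQuot
import Cfsg.Agent.Lib.Helper11.ExcF

set_option autoImplicit false

/-! General lemmas for B & G Theorem 15.2 (helper18): a coprime group `E` acting on a solvable
group `H` with all fixed points of nonidentity elements inside a normal subgroup `N` forces
`H / N` to be nilpotent; consequences for Sylow subgroups; conjugation of centralizers. -/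

namespace Cfsg.Agent.Lib.Helper18.FifteenTwo

open Cfsg Cfsg.Agent.Lib.Helper18

section Quot

variable {X : Type*} [Group X] [Finite X]

/-- if every nonidentity element of `E` has all its fixed points on `H` inside the normal
subgroup `N`, then `H / N` is nilpotent (Thompson) -/
theorem nilpotent_map_of_fpf_mod (N H E : Subgroup X) [N.Normal]
    (hNH : N ≤ H) (hEH : E ≤ Subgroup.normalizer (H : Set X)) (hE1 : E ≠ ⊥)
    (hcop : (Nat.card E).Coprime (Nat.card H)) (hsolv : Group.IsSolvable H)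
    (hfix : ∀ e ∈ E, e ≠ 1 → H ⊓ Subgroup.centralizer ({e} : Set X) ≤ N) :
    Group.IsNilpotent ↥(H.map (QuotientGroup.mk' N)) := by
  apply Cfsg.Agent.Lib.Helper11.FrobKernelNil.kernel_nilpotent (H.map (QuotientGroup.mk' N))
    (E.map (QuotientGroup.mk' N))
  · intro hbot
    apply hE1
    have hEN : E ≤ N := by
      intro e he
      have h1 : QuotientGroup.mk' N e ∈ E.map (QuotientGroup.mk' N) :=
        Subgroup.mem_map_of_mem _ he
      rw [hbot, Subgroup.mem_bot] at h1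
      exact (QuotientGroup.eq_one_iff e).mp h1
    have hEH' : E ≤ H := hEN.trans hNH
    have hdvd : Nat.card E ∣ Nat.card H := Subgroup.card_dvd_of_le hEH'
    have h1 : Nat.card E = 1 := Nat.Coprime.eq_one_of_dvd hcop hdvd
    exact Subgroup.card_eq_one.mp h1
  · exact (Subgroup.map_mono hEH).trans (Subgroup.le_normalizer_map _)
  · rintro _ ⟨e, he, rfl⟩ he1 _ ⟨u, hu, rfl⟩ hcomm
    have he1' : e ≠ 1 := by
      intro h
      apply he1
      rw [h, map_one]
    have hzE : Subgroup.zpowers e ≤ E := (Subgroup.zpowers_le).mpr he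
    have hmq := Cfsg.Agent.Lib.Helper11.FrobDerived.map_fixed_quot N H (Subgroup.zpowers e) hNH
      (hzE.trans hEH)
      (Nat.Coprime.coprime_dvd_left (Subgroup.card_dvd_of_le hzE) hcop) hsolv
    have hmem : QuotientGroup.mk' N u ∈ H.map (QuotientGroup.mk' N) ⊓
        Subgroup.centralizer (((Subgroup.zpowers e).map (QuotientGroup.mk' N) : Subgroup (X ⧸ N)) :
          Set (X ⧸ N)) := by
      refine Subgroup.mem_inf.mpr ⟨Subgroup.mem_map_of_mem _ hu, ?_⟩
      rw [Subgroup.mem_centralizer_iff]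
      rintro _ ⟨z, hz, rfl⟩
      obtain ⟨n, rfl⟩ := Subgroup.mem_zpowers_iff.mp hz
      rw [map_zpow]
      have hc : Commute (QuotientGroup.mk' N e) (QuotientGroup.mk' N u) := hcomm
      exact (hc.zpow_left n).eq
    rw [← hmq] at hmem
    obtain ⟨c, hc, hcu⟩ := hmem
    have hcN : c ∈ N := by
      apply hfix e he he1'
      refine Subgroup.mem_inf.mpr ⟨(Subgroup.mem_inf.mp hc).1, ?_⟩
      rw [Subgroup.mem_centralizer_iff]
      intro y hy
      rw [Set.mem_singleton_iff] at hy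
      rw [hy]
      exact (Subgroup.mem_centralizer_iff.mp (Subgroup.mem_inf.mp hc).2) e
        (Subgroup.mem_zpowers e)
    rw [← hcu]
    exact (QuotientGroup.eq_one_iff c).mpr hcN

/-- under the hypotheses of `nilpotent_map_of_fpf_mod`, if `N` is the largest normal
`q`-subgroup of `H` then `N` is a Sylow `q`-subgroup of `H` -/
theorem not_dvd_relIndex_of_fpf_mod (q : ℕ) [hq : Fact q.Prime] (N H E : Subgroup X) [N.Normal]
    (hNH : N ≤ H) (hEH : E ≤ Subgroup.normalizer (H : Set X)) (hE1 : E ≠ ⊥)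
    (hcop : (Nat.card E).Coprime (Nat.card H)) (hsolv : Group.IsSolvable H)
    (hfix : ∀ e ∈ E, e ≠ 1 → H ⊓ Subgroup.centralizer ({e} : Set X) ≤ N)
    (hNq : IsPGroup q N)
    (hmax : ∀ P : Subgroup X, N ≤ P → P ≤ H → H ≤ Subgroup.normalizer (P : Set X) →
      IsPGroup q P → P ≤ N) :
    ¬ q ∣ N.relIndex H := by
  have hnil := nilpotent_map_of_fpf_mod N H E hNH hEH hE1 hcop hsolv hfix
  intro hdvd
  obtain ⟨π, hπ⟩ : ∃ π : X →* X ⧸ N, π = QuotientGroup.mk' N := ⟨_, rfl⟩
  rw [← hπ] at hnil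
  have hπ1 : ∀ x : X, π x = 1 ↔ x ∈ N := by
    intro x
    rw [hπ]
    exact QuotientGroup.eq_one_iff x
  have hker : π.ker = N := by
    rw [hπ]
    exact QuotientGroup.ker_mk' N
  have hcard : Nat.card (H.map π) = N.relIndex H := by
    have h0 := Subgroup.relIndex_ker (K := H) π
    rw [hker] at h0
    exact h0.symm
  rw [← hcard] at hdvd
  obtain ⟨Pb⟩ : Nonempty (Sylow q ↥(H.map π)) := inferInstance
  have hPbn : (Pb : Subgroup ↥(H.map π)).Normal := inferInstance
  have hPb1 : (Pb : Subgroup ↥(H.map π)) ≠ ⊥ := Pb.ne_bot_of_dvd_card hdvd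
  obtain ⟨P, hP⟩ : ∃ P : Subgroup X,
      P = H ⊓ ((Pb : Subgroup ↥(H.map π)).map (H.map π).subtype).comap π := ⟨_, rfl⟩
  have hmemP : ∀ x : X, x ∈ P ↔ x ∈ H ∧ ∃ hx : π x ∈ H.map π,
      (⟨π x, hx⟩ : ↥(H.map π)) ∈ (Pb : Subgroup ↥(H.map π)) := by
    intro x
    rw [hP, Subgroup.mem_inf, Subgroup.mem_comap]
    constructor
    · rintro ⟨hxH, y, hy, hyx⟩
      refine ⟨hxH, Subgroup.mem_map_of_mem _ hxH, ?_⟩
      have : y = ⟨π x, Subgroup.mem_map_of_mem _ hxH⟩ := Subtype.ext hyx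
      rw [← this]
      exact hy
    · rintro ⟨hxH, hx, hxP⟩
      exact ⟨hxH, ⟨π x, hx⟩, hxP, rfl⟩
  have hNP : N ≤ P := by
    intro n hn
    rw [hmemP]
    refine ⟨hNH hn, Subgroup.mem_map_of_mem _ (hNH hn), ?_⟩
    have : (⟨π n, Subgroup.mem_map_of_mem _ (hNH hn)⟩ : ↥(H.map π)) = 1 :=
      Subtype.ext ((hπ1 n).mpr hn)
    rw [this]
    exact Subgroup.one_mem _
  have hPH : P ≤ H := fun x hx => ((hmemP x).mp hx).1
  have hHP : H ≤ Subgroup.normalizer (P : Set X) := by
    intro h hh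
    apply mem_normalizer_of_conjSub_le
    intro y hy
    rw [mem_conjSub] at hy
    obtain ⟨hyH, hy1, hy2⟩ := (hmemP _).mp hy
    have hyH' : y ∈ H := by
      have := H.mul_mem (H.mul_mem hh hyH) (H.inv_mem hh)
      have e : h * (h⁻¹ * y * h) * h⁻¹ = y := by group
      rwa [e] at this
    rw [hmemP]
    refine ⟨hyH', Subgroup.mem_map_of_mem _ hyH', ?_⟩
    have hconj := hPbn.conj_mem _ hy2 ⟨π h, Subgroup.mem_map_of_mem _ hh⟩
    have e : (⟨π h, Subgroup.mem_map_of_mem _ hh⟩ : ↥(H.map π)) * ⟨π (h⁻¹ * y * h), hy1⟩ *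
        (⟨π h, Subgroup.mem_map_of_mem _ hh⟩ : ↥(H.map π))⁻¹ =
        ⟨π y, Subgroup.mem_map_of_mem _ hyH'⟩ := by
      apply Subtype.ext
      simp only [Subgroup.coe_mul, InvMemClass.coe_inv, map_mul, map_inv]
      group
    rw [e] at hconj
    exact hconj
  have hPq : IsPGroup q P := by
    rintro ⟨g, hg⟩
    obtain ⟨hgH, hg1, hg2⟩ := (hmemP g).mp hg
    obtain ⟨k, hk⟩ := Pb.isPGroup' ⟨⟨π g, hg1⟩, hg2⟩
    have hk' : π (g ^ q ^ k) = 1 := by
      have := congrArg (fun z : ↥(Pb : Subgroup ↥(H.map π)) => ((z : ↥(H.map π)) : X ⧸ N)) hk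
      simpa using this
    have hgN : g ^ q ^ k ∈ N := (hπ1 _).mp hk'
    obtain ⟨j, hj⟩ := hNq ⟨g ^ q ^ k, hgN⟩
    have hj' : (g ^ q ^ k) ^ q ^ j = 1 := by
      have := congrArg Subtype.val hj
      simpa using this
    refine ⟨k + j, Subtype.ext ?_⟩
    simp only [Subgroup.coe_pow, Subgroup.coe_one]
    rw [pow_add, pow_mul]
    exact hj'
  have hPN : P ≤ N := hmax P hNP hPH hHP hPq
  apply hPb1
  rw [eq_bot_iff]
  rintro ⟨_, ⟨h, hh, rfl⟩⟩ hyP
  rw [Subgroup.mem_bot]
  apply Subtype.ext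
  have hhP : h ∈ P := by
    rw [hmemP]
    exact ⟨hh, Subgroup.mem_map_of_mem _ hh, hyP⟩
  exact (hπ1 h).mpr (hPN hhP)

end Quot

section Conj

variable {G : Type*} [Group G]

/-- conjugation commutes with taking centralizers -/
theorem conjSub_inf_centralizer (g : G) (A K : Subgroup G) :
    conjSub g (A ⊓ Subgroup.centralizer (K : Set G)) =
      conjSub g A ⊓ Subgroup.centralizer ((conjSub g K : Subgroup G) : Set G) := by
  ext x
  rw [mem_conjSub, Subgroup.mem_inf, Subgroup.mem_inf, mem_conjSub,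
    Subgroup.mem_centralizer_iff, Subgroup.mem_centralizer_iff]
  constructor
  · rintro ⟨h1, h2⟩
    refine ⟨h1, ?_⟩
    intro y hy
    have hy' : g⁻¹ * y * g ∈ K := mem_conjSub.mp hy
    have h3 := h2 _ hy'
    calc y * x = g * ((g⁻¹ * y * g) * (g⁻¹ * x * g)) * g⁻¹ := by group
      _ = g * ((g⁻¹ * x * g) * (g⁻¹ * y * g)) * g⁻¹ := by rw [h3]
      _ = x * y := by group
  · rintro ⟨h1, h2⟩
    refine ⟨h1, ?_⟩
    intro k hk
    have h3 := h2 _ (conj_mem_conjSub (g := g) hk)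
    calc k * (g⁻¹ * x * g) = g⁻¹ * ((g * k * g⁻¹) * x) * g := by group
      _ = g⁻¹ * (x * (g * k * g⁻¹)) * g := by rw [h3]
      _ = g⁻¹ * x * g * k := by group

/-- elements normalizing `D` normalize its centralizer -/
theorem normalizer_le_normalizer_centralizer (D : Subgroup G) :
    Subgroup.normalizer (D : Set G) ≤
      Subgroup.normalizer ((Subgroup.centralizer (D : Set G) : Subgroup G) : Set G) := by
  intro g hg
  rw [Subgroup.mem_normalizer_iff]
  have key : ∀ a : G, a ∈ Subgroup.normalizer (D : Set G) → ∀ x,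
      x ∈ Subgroup.centralizer (D : Set G) → a * x * a⁻¹ ∈ Subgroup.centralizer (D : Set G) := by
    intro a ha x hx
    rw [Subgroup.mem_centralizer_iff] at hx ⊢
    intro d hd
    have hd' : a⁻¹ * d * a ∈ D := by
      have h1 := (Subgroup.mem_normalizer_iff.mp (Subgroup.inv_mem _ ha)) d
      rw [inv_inv] at h1
      exact h1.mp hd
    have h3 := hx _ hd'
    calc d * (a * x * a⁻¹) = a * ((a⁻¹ * d * a) * x) * a⁻¹ := by group
      _ = a * (x * (a⁻¹ * d * a)) * a⁻¹ := by rw [h3]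
      _ = a * x * a⁻¹ * d := by group
  intro x
  constructor
  · exact key g hg x
  · intro h
    have := key g⁻¹ (Subgroup.inv_mem _ hg) _ h
    have e : g⁻¹ * (g * x * g⁻¹) * g⁻¹⁻¹ = x := by group
    rwa [e] at this

end Conj

section Frattini

variable {G : Type*} [Group G] [Finite G]

/-- in a nilpotent group, a subgroup which together with the derived subgroup generates
everything is everything -/
theorem eq_of_commutator_sup_eq {Q Q₀ : Subgroup G} (hQn : Group.IsNilpotent Q)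
    (h : ⁅Q, Q⁆ ⊔ Q₀ = Q) : Q₀ = Q := by
  have hQ₀Q : Q₀ ≤ Q := h ▸ le_sup_right
  have hcomm : (commutator ↥Q).map Q.subtype = ⁅Q, Q⁆ := by
    rw [commutator_def, Subgroup.map_commutator, ← MonoidHom.range_eq_map, Subgroup.range_subtype]
  have h1 : Q₀.subgroupOf Q ⊔ frattini ↥Q = ⊤ := by
    rw [eq_top_iff]
    intro x _
    have hx : (x : G) ∈ ⁅Q, Q⁆ ⊔ Q₀ := by rw [h]; exact x.2
    have hn : Q₀ ≤ Subgroup.normalizer ((⁅Q, Q⁆ : Subgroup G) : Set G) := by
      intro y hy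
      have hyQ : y ∈ Q := hQ₀Q hy
      apply mem_normalizer_of_conjSub_le
      intro z hz
      rw [mem_conjSub] at hz
      have hconj : ∀ w ∈ (⁅Q, Q⁆ : Subgroup G), y * w * y⁻¹ ∈ (⁅Q, Q⁆ : Subgroup G) := by
        intro w hw
        have hle : (⁅Q, Q⁆ : Subgroup G).map (MulAut.conj y).toMonoidHom ≤ ⁅Q, Q⁆ := by
          rw [Subgroup.map_commutator]
          have hQy : Q.map (MulAut.conj y).toMonoidHom ≤ Q := by
            rintro _ ⟨a, ha, rfl⟩
            exact Q.mul_mem (Q.mul_mem hyQ ha) (Q.inv_mem hyQ)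
          exact Subgroup.commutator_mono hQy hQy
        exact hle ⟨w, hw, rfl⟩
      have := hconj _ hz
      have e : y * (y⁻¹ * z * y) * y⁻¹ = z := by group
      rwa [e] at this
    obtain ⟨b, hb, a, ha, hab⟩ :=
      Cfsg.Agent.Lib.Helper11.ExcF.exists_mul_of_mem_sup ⁅Q, Q⁆ Q₀ hn (x : G) hx
    have hbQ : b ∈ Q := (Subgroup.commutator_le_self Q) hb
    have hxe : x = (⟨b, hbQ⟩ : ↥Q) * ⟨a, hQ₀Q ha⟩ := Subtype.ext hab
    rw [hxe]
    apply Subgroup.mul_mem
    swap
    · apply Subgroup.mem_sup_left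
      rw [Subgroup.mem_subgroupOf]
      exact ha
    · apply Subgroup.mem_sup_right
      have hnl := Cfsg.Agent.Lib.Helper11.FrobQuot.nilpotent_commutator_le_frattini (G := ↥Q)
      apply hnl
      rw [← hcomm] at hb
      obtain ⟨c, hc, hcb⟩ := hb
      have : c = ⟨b, hbQ⟩ := Subtype.ext hcb
      rw [← this]
      exact hc
  have h2 : Q₀.subgroupOf Q = ⊤ := frattini_nongenerating h1
  apply le_antisymm hQ₀Q
  intro x hx
  have : (⟨x, hx⟩ : ↥Q) ∈ Q₀.subgroupOf Q := by rw [h2]; exact Subgroup.mem_top _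
  rw [Subgroup.mem_subgroupOf] at this
  exact this

end Frattini

end Cfsg.Agent.Lib.Helper18.FifteenTwo
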