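import Mathlib
import Cfsg.Prelude.Def_OddOrderLocal
import Cfsg.Agent.Lib.Helper18.FifteenTwoA
import Cfsg.Agent.Lib.Helper18.BGFifteenA
import Cfsg.Agent.Lib.Helper11.FrobFourTerm2
import Cfsg.Agent.Lib.Helper1.BG15.SigmaDecomp
import Cfsg.Agent.Lib.Helper10.TypeP
import Cfsg.Agent.Lib.Helper28.BGtT

set_option autoImplicit false

/-! The abstract core of B & G Theorem 15.2 (helper18): a group `Ms = Q ⋊ D` (`Q` a normal Sylow
`q`-subgroup) on which a group `K` acts coprimely, in a prime manner, with `C_Ms(K)` of prime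
order `q` contained in `Q`, normalizing `D`; `Ms` not nilpotent.  Then `D` is nilpotent, `|K|`
is prime, and `Q / C_Q(D)` is a chief factor of order `q ^ |K|`. -/

namespace Cfsg.Agent.Lib.Helper18.FifteenTwo

open Cfsg Cfsg.Agent.Lib.Helper18

variable {G : Type*} [Group G] [Finite G]

/-- the abstract configuration -/
structure Ctx (Ms K Q D : Subgroup G) (q : ℕ) : Prop where
  hq : q.Prime
  hsolv : Group.IsSolvable Ms
  hK1 : K ≠ ⊥
  hcop : (Nat.card Ms).Coprime (Nat.card K)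
  hcard : Nat.card ↥(Ms ⊓ Subgroup.centralizer (K : Set G)) = q
  hprime : ∀ k ∈ K, k ≠ 1 → Ms ⊓ Subgroup.centralizer ({k} : Set G) =
    Ms ⊓ Subgroup.centralizer (K : Set G)
  hQ : IsPGroup q Q
  hsyl : ¬ q ∣ Q.relIndex Ms
  hKsQ : Ms ⊓ Subgroup.centralizer (K : Set G) ≤ Q
  hMsQ : Ms ≤ Subgroup.normalizer (Q : Set G)
  hKQ : K ≤ Subgroup.normalizer (Q : Set G)
  hcompl : Cfsg.IsComplIn Q D Ms
  hKD : K ≤ Subgroup.normalizer (D : Set G)
  hnn : ¬ Group.IsNilpotent Ms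

namespace Ctx

variable {Ms K Q D : Subgroup G} {q : ℕ}

theorem Q_le (c : Ctx Ms K Q D q) : Q ≤ Ms := c.hcompl.1
theorem D_le (c : Ctx Ms K Q D q) : D ≤ Ms := c.hcompl.2.1
theorem QD_bot (c : Ctx Ms K Q D q) : Q ⊓ D = ⊥ := c.hcompl.2.2.1

theorem DQ (c : Ctx Ms K Q D q) : D ≤ Subgroup.normalizer (Q : Set G) := c.D_le.trans c.hMsQ

theorem fpf (c : Ctx Ms K Q D q) :
    ∀ e ∈ K, e ≠ 1 → D ⊓ Subgroup.centralizer ({e} : Set G) = ⊥ := by
  intro e he he1
  rw [eq_bot_iff]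
  intro x hx
  obtain ⟨hxD, hxC⟩ := Subgroup.mem_inf.mp hx
  have h1 : x ∈ Ms ⊓ Subgroup.centralizer ({e} : Set G) := Subgroup.mem_inf.mpr ⟨c.D_le hxD, hxC⟩
  rw [c.hprime e he he1] at h1
  have h2 : x ∈ Q ⊓ D := Subgroup.mem_inf.mpr ⟨c.hKsQ h1, hxD⟩
  rw [c.QD_bot] at h2
  exact h2

theorem D_nil (c : Ctx Ms K Q D q) : Group.IsNilpotent D := by
  apply Cfsg.Agent.Lib.Helper11.FrobKernelNil.kernel_nilpotent D K c.hK1 c.hKD
  intro e he he1 u hu hcomm
  have h1 : u ∈ D ⊓ Subgroup.centralizer ({e} : Set G) := by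
    refine Subgroup.mem_inf.mpr ⟨hu, ?_⟩
    rw [Subgroup.mem_centralizer_iff]
    intro y hy
    rw [Set.mem_singleton_iff] at hy
    rw [hy]
    exact hcomm
  rw [c.fpf e he he1] at h1
  exact Subgroup.mem_bot.mp h1

theorem card_Ms (c : Ctx Ms K Q D q) : Nat.card Ms = Nat.card Q * Nat.card D :=
  Cfsg.Agent.Lib.Helper1.BG15.card_of_isComplIn c.hcompl

theorem not_dvd_D (c : Ctx Ms K Q D q) : ¬ q ∣ Nat.card D := by
  intro h
  apply c.hsyl
  have h1 : Nat.card Q * Q.relIndex Ms = Nat.card Ms :=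
    Cfsg.Agent.Lib.Helper1.BG12.card_mul_relIndex_of_le c.Q_le
  rw [c.card_Ms] at h1
  have h2 : Q.relIndex Ms = Nat.card D :=
    Nat.eq_of_mul_eq_mul_left Nat.card_pos h1
  rw [h2]
  exact h

theorem cop_of_le (c : Ctx Ms K Q D q) {N : Subgroup G} (hN : N ≤ Q) :
    (Nat.card N).Coprime (Nat.card D) := by
  have hNq : IsPGroup q N := c.hQ.to_le hN
  haveI : Fact q.Prime := ⟨c.hq⟩
  obtain ⟨n, hn⟩ := IsPGroup.iff_card.mp hNq
  rw [hn]
  apply Nat.Coprime.pow_left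
  exact (Nat.Prime.coprime_iff_not_dvd c.hq).mpr c.not_dvd_D

theorem copK_of_le (c : Ctx Ms K Q D q) {N X : Subgroup G} (hN : N ≤ Ms) (hX : X ≤ K) :
    (Nat.card N).Coprime (Nat.card X) :=
  Nat.Coprime.coprime_dvd_left (Subgroup.card_dvd_of_le hN)
    (Nat.Coprime.coprime_dvd_right (Subgroup.card_dvd_of_le hX) c.hcop)

/-- prime action: the fixed points of any nontrivial subgroup of `K` are those of `K` -/
theorem cent_eq (c : Ctx Ms K Q D q) {N X : Subgroup G} (hN : N ≤ Ms) (hX : X ≤ K) (hX1 : X ≠ ⊥) :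
    N ⊓ Subgroup.centralizer (X : Set G) = N ⊓ (Ms ⊓ Subgroup.centralizer (K : Set G)) := by
  obtain ⟨x, hx, hx1⟩ := Cfsg.Agent.Lib.Helper28.BGt.exists_ne_one_of_ne_bot' hX1
  apply le_antisymm
  · intro y hy
    obtain ⟨hyN, hyC⟩ := Subgroup.mem_inf.mp hy
    refine Subgroup.mem_inf.mpr ⟨hyN, ?_⟩
    rw [← c.hprime x (hX hx) hx1]
    refine Subgroup.mem_inf.mpr ⟨hN hyN, ?_⟩
    rw [Subgroup.mem_centralizer_iff] at hyC ⊢
    intro z hz
    rw [Set.mem_singleton_iff] at hz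
    rw [hz]
    exact hyC x hx
  · intro y hy
    obtain ⟨hyN, hyK⟩ := Subgroup.mem_inf.mp hy
    refine Subgroup.mem_inf.mpr ⟨hyN, ?_⟩
    exact Subgroup.centralizer_le (fun z hz => hX hz) (Subgroup.mem_inf.mp hyK).2

/-- the Frobenius–Wielandt formula for a `DK`-invariant subgroup of `Q` -/
theorem formula (c : Ctx Ms K Q D q) {N X : Subgroup G} (hN : N ≤ Q)
    (hDN : D ≤ Subgroup.normalizer (N : Set G)) (hKN : K ≤ Subgroup.normalizer (N : Set G))
    (hX : X ≤ K) (hX1 : X ≠ ⊥) :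
    Nat.card ↥((N ⊓ Subgroup.centralizer (D : Set G)) ⊓
        (Ms ⊓ Subgroup.centralizer (K : Set G))) ^ Nat.card X * Nat.card N =
      Nat.card ↥(N ⊓ (Ms ⊓ Subgroup.centralizer (K : Set G))) ^ Nat.card X *
        Nat.card ↥(N ⊓ Subgroup.centralizer (D : Set G)) := by
  have hNMs : N ≤ Ms := hN.trans c.Q_le
  have hNsolv : Group.IsSolvable N := by
    haveI := c.hsolv
    exact solvable_of_solvable_injective (Subgroup.inclusion_injective hNMs)
  have h := Cfsg.Agent.Lib.Helper11.FrobFourTerm2.four_term_conc N D X hDN (hX.trans hKN)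
    (hX.trans c.hKD) c.D_nil (fun e he he1 => c.fpf e (hX he) he1) hNsolv (c.cop_of_le hN)
    (c.copK_of_le hNMs hX)
  rw [Cfsg.Agent.Lib.Helper11.FrobFormula2.inf_centralizer_sup,
    c.cent_eq (inf_le_left.trans hNMs) hX hX1, c.cent_eq hNMs hX hX1] at h
  exact h

/-- `K*` has prime order: it meets any subgroup trivially or lies in it -/
theorem Ks_cases (c : Ctx Ms K Q D q) (N : Subgroup G) :
    N ⊓ (Ms ⊓ Subgroup.centralizer (K : Set G)) = ⊥ ∨
      Ms ⊓ Subgroup.centralizer (K : Set G) ≤ N := by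
  by_cases h : N ⊓ (Ms ⊓ Subgroup.centralizer (K : Set G)) = ⊥
  · exact Or.inl h
  · right
    have hdvd : Nat.card ↥(N ⊓ (Ms ⊓ Subgroup.centralizer (K : Set G))) ∣ q := by
      rw [← c.hcard]
      exact Subgroup.card_dvd_of_le inf_le_right
    rcases (Nat.dvd_prime c.hq).mp hdvd with h1 | h1
    · exact absurd (Subgroup.card_eq_one.mp h1) h
    · have heq : N ⊓ (Ms ⊓ Subgroup.centralizer (K : Set G)) =
          Ms ⊓ Subgroup.centralizer (K : Set G) := by
        apply Subgroup.eq_of_le_of_card_ge inf_le_right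
        rw [h1, c.hcard]
      rw [← heq]
      exact inf_le_left

theorem card_Ks_inf_of_le (c : Ctx Ms K Q D q) {N : Subgroup G}
    (h : Ms ⊓ Subgroup.centralizer (K : Set G) ≤ N) :
    Nat.card ↥(N ⊓ (Ms ⊓ Subgroup.centralizer (K : Set G))) = q := by
  rw [inf_eq_right.mpr h, c.hcard]

/-- if `Q` centralizes `D` then `Ms` is nilpotent -/
theorem not_Q_le_cent (c : Ctx Ms K Q D q) : ¬ Q ≤ Subgroup.centralizer (D : Set G) := by
  intro h
  apply c.hnn
  have hsup : Q ⊔ D = Ms := Cfsg.Agent.Lib.Helper10.isComplIn_sup c.hcompl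
  have hQD : Q ≤ Subgroup.normalizer (D : Set G) :=
    h.trans (Subgroup.centralizer_le_normalizer _)
  have hMsD : Ms ≤ Subgroup.normalizer (D : Set G) := by
    rw [← hsup]
    exact sup_le hQD Subgroup.le_normalizer
  haveI : Fact q.Prime := ⟨c.hq⟩
  have hQF : Q ≤ Cfsg.fittingOf Ms :=
    Cfsg.Agent.Lib.Helper18.BGFifteenA.le_fittingOf c.Q_le c.hMsQ c.hQ.isNilpotent
  have hDF : D ≤ Cfsg.fittingOf Ms :=
    Cfsg.Agent.Lib.Helper18.BGFifteenA.le_fittingOf c.D_le hMsD c.D_nil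
  have hMsF : Ms ≤ Cfsg.fittingOf Ms := hsup.ge.trans (sup_le hQF hDF)
  have heq : Cfsg.fittingOf Ms = Ms :=
    le_antisymm (Cfsg.Agent.Lib.Helper11.MaxLocB.fittingOf_le Ms) hMsF
  have := Cfsg.Agent.Lib.Helper11.MaxLocB.fittingOf_nilpotent Ms
  rw [heq] at this
  exact this

/-- `K` acts without fixed points on `Q₀ = C_Q(D)` -/
theorem Q0_Ks (c : Ctx Ms K Q D q) :
    (Q ⊓ Subgroup.centralizer (D : Set G)) ⊓ (Ms ⊓ Subgroup.centralizer (K : Set G)) = ⊥ := by
  rcases c.Ks_cases (Q ⊓ Subgroup.centralizer (D : Set G)) with h | h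
  · exact h
  · exfalso
    apply c.not_Q_le_cent
    have hf := c.formula (N := Q) (X := K) le_rfl c.DQ c.hKQ le_rfl c.hK1
    rw [c.card_Ks_inf_of_le h, c.card_Ks_inf_of_le c.hKsQ] at hf
    have hpos : 0 < q ^ Nat.card K := Nat.pos_of_ne_zero (pow_ne_zero _ c.hq.ne_zero)
    have h1 : Nat.card Q = Nat.card ↥(Q ⊓ Subgroup.centralizer (D : Set G)) :=
      Nat.eq_of_mul_eq_mul_left hpos hf
    have h2 : Q ⊓ Subgroup.centralizer (D : Set G) = Q :=
      Subgroup.eq_of_le_of_card_ge inf_le_left h1.le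
    rw [← h2]
    exact inf_le_right

/-- `|Q : Q₀| = q ^ |X|` for every nontrivial subgroup `X` of `K` -/
theorem card_Q (c : Ctx Ms K Q D q) {X : Subgroup G} (hX : X ≤ K) (hX1 : X ≠ ⊥) :
    Nat.card Q = q ^ Nat.card X * Nat.card ↥(Q ⊓ Subgroup.centralizer (D : Set G)) := by
  have hf := c.formula (N := Q) (X := X) le_rfl c.DQ c.hKQ hX hX1
  rw [c.Q0_Ks, Subgroup.card_bot, one_pow, one_mul, c.card_Ks_inf_of_le c.hKsQ] at hf
  exact hf

theorem card_K_prime (c : Ctx Ms K Q D q) : (Nat.card K).Prime := by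
  have hcK : Nat.card K ≠ 1 := fun h => c.hK1 (Subgroup.card_eq_one.mp h)
  obtain ⟨r, hr, hrd⟩ := Nat.exists_prime_and_dvd hcK
  haveI : Fact r.Prime := ⟨hr⟩
  obtain ⟨x, hx⟩ := exists_prime_orderOf_dvd_card' (G := K) r hrd
  have hxo : orderOf (x : G) = r := by
    rw [← hx]
    exact Subgroup.orderOf_coe x
  have hz : Subgroup.zpowers (x : G) ≤ K := (Subgroup.zpowers_le).mpr x.2
  have hz1 : Subgroup.zpowers (x : G) ≠ ⊥ := by
    intro h
    have h1 : Nat.card (Subgroup.zpowers (x : G)) = 1 := by rw [h, Subgroup.card_bot]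
    rw [Nat.card_zpowers, hxo] at h1
    exact hr.one_lt.ne' h1
  have h1 := c.card_Q le_rfl c.hK1
  have h2 := c.card_Q hz hz1
  rw [Nat.card_zpowers, hxo] at h2
  rw [h1] at h2
  have hpos : 0 < Nat.card ↥(Q ⊓ Subgroup.centralizer (D : Set G)) := Nat.card_pos
  have h3 : q ^ Nat.card K = q ^ r := Nat.eq_of_mul_eq_mul_right hpos h2
  have h4 : Nat.card K = r := Nat.pow_right_injective c.hq.two_le h3
  rw [h4]
  exact hr

theorem card_Q' (c : Ctx Ms K Q D q) :
    Nat.card Q = Nat.card ↥(Q ⊓ Subgroup.centralizer (D : Set G)) * q ^ Nat.card K := by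
  rw [c.card_Q le_rfl c.hK1, mul_comm]

theorem Q0_lt (c : Ctx Ms K Q D q) : Q ⊓ Subgroup.centralizer (D : Set G) < Q := by
  refine lt_of_le_of_ne inf_le_left ?_
  intro h
  apply c.not_Q_le_cent
  rw [← h]
  exact inf_le_right

/-- the dichotomy for `DK`-invariant subgroups of `Q` -/
theorem dichotomy (c : Ctx Ms K Q D q) {N : Subgroup G} (hN : N ≤ Q)
    (hDN : D ≤ Subgroup.normalizer (N : Set G)) (hKN : K ≤ Subgroup.normalizer (N : Set G)) :
    (Ms ⊓ Subgroup.centralizer (K : Set G) ≤ N →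
      Nat.card N = q ^ Nat.card K * Nat.card ↥(N ⊓ Subgroup.centralizer (D : Set G))) ∧
    (¬ Ms ⊓ Subgroup.centralizer (K : Set G) ≤ N → N ≤ Subgroup.centralizer (D : Set G)) := by
  have hf := c.formula (X := K) hN hDN hKN le_rfl c.hK1
  have hb : (N ⊓ Subgroup.centralizer (D : Set G)) ⊓
      (Ms ⊓ Subgroup.centralizer (K : Set G)) = ⊥ := by
    rw [eq_bot_iff, ← c.Q0_Ks]
    exact inf_le_inf_right _ (inf_le_inf_right _ hN)
  rw [hb, Subgroup.card_bot, one_pow, one_mul] at hf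
  constructor
  · intro h
    rw [c.card_Ks_inf_of_le h] at hf
    exact hf
  · intro h
    rcases c.Ks_cases N with h1 | h1
    · rw [h1, Subgroup.card_bot, one_pow, one_mul] at hf
      have h2 : N ⊓ Subgroup.centralizer (D : Set G) = N :=
        Subgroup.eq_of_le_of_card_ge inf_le_left hf.le
      rw [← h2]
      exact inf_le_right
    · exact absurd h1 h

/-- an invariant subgroup between `Q₀` and `Q` is one of them -/
theorem eq_or_eq (c : Ctx Ms K Q D q) {N : Subgroup G}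
    (hQ0N : Q ⊓ Subgroup.centralizer (D : Set G) ≤ N) (hN : N ≤ Q)
    (hDN : D ≤ Subgroup.normalizer (N : Set G)) (hKN : K ≤ Subgroup.normalizer (N : Set G)) :
    N = Q ⊓ Subgroup.centralizer (D : Set G) ∨ N = Q := by
  have hinf : N ⊓ Subgroup.centralizer (D : Set G) = Q ⊓ Subgroup.centralizer (D : Set G) :=
    le_antisymm (inf_le_inf_right _ hN) (le_inf hQ0N inf_le_right)
  obtain ⟨h1, h2⟩ := c.dichotomy hN hDN hKN
  by_cases h : Ms ⊓ Subgroup.centralizer (K : Set G) ≤ N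
  · right
    have h3 := h1 h
    rw [hinf, ← c.card_Q le_rfl c.hK1] at h3
    exact Subgroup.eq_of_le_of_card_ge hN h3.ge
  · left
    exact le_antisymm (le_inf hN (h2 h)) hQ0N

end Ctx

end Cfsg.Agent.Lib.Helper18.FifteenTwo
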