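import Mathlib
import Cfsg.Prelude.Def_OddOrderLocal
import Cfsg.Agent.Lib.Helper18.FifteenTwoB

set_option autoImplicit false

/-! The abstract core of B & G Theorem 15.2, continued (helper18): `Q₀ = C_Q(D)` contains the
Frattini subgroup of `Q`, is normalized by `Q`, `D`, `K`, and `Q / Q₀` has no proper nontrivial
`DK`-invariant subgroup. -/

namespace Cfsg.Agent.Lib.Helper18.FifteenTwo

open Cfsg Cfsg.Agent.Lib.Helper18

section General

variable {G : Type*} [Group G]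

theorem normalizer_le_normalizer_commutator (Q : Subgroup G) :
    Subgroup.normalizer (Q : Set G) ≤ Subgroup.normalizer ((⁅Q, Q⁆ : Subgroup G) : Set G) := by
  intro g hg
  rw [Subgroup.mem_normalizer_iff_map_conj_eq] at hg ⊢
  rw [Subgroup.map_commutator, hg]

theorem mem_normalizer_sup {A B : Subgroup G} {g : G} (hA : g ∈ Subgroup.normalizer (A : Set G))
    (hB : g ∈ Subgroup.normalizer (B : Set G)) :
    g ∈ Subgroup.normalizer ((A ⊔ B : Subgroup G) : Set G) := by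
  rw [Subgroup.mem_normalizer_iff_map_conj_eq] at hA hB ⊢
  rw [Subgroup.map_sup, hA, hB]

theorem mem_normalizer_inf {A B : Subgroup G} {g : G} (hA : g ∈ Subgroup.normalizer (A : Set G))
    (hB : g ∈ Subgroup.normalizer (B : Set G)) :
    g ∈ Subgroup.normalizer ((A ⊓ B : Subgroup G) : Set G) := by
  rw [Subgroup.mem_normalizer_iff_map_conj_eq] at hA hB ⊢
  rw [Subgroup.map_inf _ _ _ (MulAut.conj g).injective, hA, hB]

/-- in a subgroup `Q` with `[Q, Q] ≤ Q₀ ⊴ Q`, `n`-th powers multiply modulo `Q₀` -/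
theorem mul_pow_mem {Q Q₀ : Subgroup G} (hn : Q ≤ Subgroup.normalizer (Q₀ : Set G))
    (hc : ⁅Q, Q⁆ ≤ Q₀) (n : ℕ) {a b : G} (ha : a ∈ Q) (hb : b ∈ Q) (han : a ^ n ∈ Q₀)
    (hbn : b ^ n ∈ Q₀) : (a * b) ^ n ∈ Q₀ := by
  haveI : (Q₀.subgroupOf Q).Normal := Subgroup.normal_subgroupOf_of_le_normalizer hn
  obtain ⟨φ, hφ⟩ : ∃ φ : ↥Q →* ↥Q ⧸ Q₀.subgroupOf Q, φ = QuotientGroup.mk' _ := ⟨_, rfl⟩
  have hφ1 : ∀ x : ↥Q, φ x = 1 ↔ (x : G) ∈ Q₀ := by
    intro x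
    rw [hφ, QuotientGroup.mk'_apply, QuotientGroup.eq_one_iff, Subgroup.mem_subgroupOf]
  have hcomm : Commute (φ ⟨a, ha⟩) (φ ⟨b, hb⟩) := by
    have h1 : φ (⟨a, ha⟩ * ⟨b, hb⟩ * ⟨a, ha⟩⁻¹ * ⟨b, hb⟩⁻¹) = 1 := by
      rw [hφ1]
      apply hc
      exact Subgroup.commutator_mem_commutator ha hb
    rw [map_mul, map_mul, map_mul, map_inv, map_inv] at h1
    show φ ⟨a, ha⟩ * φ ⟨b, hb⟩ = φ ⟨b, hb⟩ * φ ⟨a, ha⟩
    calc φ ⟨a, ha⟩ * φ ⟨b, hb⟩ = (φ ⟨a, ha⟩ * φ ⟨b, hb⟩ * (φ ⟨a, ha⟩)⁻¹ * (φ ⟨b, hb⟩)⁻¹) *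
          (φ ⟨b, hb⟩ * φ ⟨a, ha⟩) := by group
      _ = φ ⟨b, hb⟩ * φ ⟨a, ha⟩ := by rw [h1, one_mul]
  have h2 : φ ((⟨a, ha⟩ * ⟨b, hb⟩ : ↥Q) ^ n) = 1 := by
    rw [map_pow, map_mul, hcomm.mul_pow, ← map_pow, ← map_pow]
    have e1 : φ ((⟨a, ha⟩ : ↥Q) ^ n) = 1 := by
      rw [hφ1]
      simpa using han
    have e2 : φ ((⟨b, hb⟩ : ↥Q) ^ n) = 1 := by
      rw [hφ1]
      simpa using hbn
    rw [e1, e2, one_mul]
  rw [hφ1] at h2
  simpa using h2

end General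

variable {G : Type*} [Group G] [Finite G]

namespace Ctx

variable {Ms K Q D : Subgroup G} {q : ℕ}

theorem D_normalizes_Q0 (c : Ctx Ms K Q D q) :
    D ≤ Subgroup.normalizer ((Q ⊓ Subgroup.centralizer (D : Set G) : Subgroup G) : Set G) :=
  fun _ hd => mem_normalizer_inf (c.DQ hd)
    (normalizer_le_normalizer_centralizer D (Subgroup.le_normalizer hd))

theorem K_normalizes_Q0 (c : Ctx Ms K Q D q) :
    K ≤ Subgroup.normalizer ((Q ⊓ Subgroup.centralizer (D : Set G) : Subgroup G) : Set G) :=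
  fun _ hk => mem_normalizer_inf (c.hKQ hk) (normalizer_le_normalizer_centralizer D (c.hKD hk))

/-- `[Q, Q] ≤ Q₀` -/
theorem comm_le (c : Ctx Ms K Q D q) : ⁅Q, Q⁆ ≤ Q ⊓ Subgroup.centralizer (D : Set G) := by
  have hle : ⁅Q, Q⁆ ⊔ (Q ⊓ Subgroup.centralizer (D : Set G)) ≤ Q :=
    sup_le (Subgroup.commutator_le_self Q) inf_le_left
  have hD : D ≤ Subgroup.normalizer
      ((⁅Q, Q⁆ ⊔ (Q ⊓ Subgroup.centralizer (D : Set G)) : Subgroup G) : Set G) :=
    fun d hd => mem_normalizer_sup (normalizer_le_normalizer_commutator Q (c.DQ hd))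
      (c.D_normalizes_Q0 hd)
  have hK : K ≤ Subgroup.normalizer
      ((⁅Q, Q⁆ ⊔ (Q ⊓ Subgroup.centralizer (D : Set G)) : Subgroup G) : Set G) :=
    fun k hk => mem_normalizer_sup (normalizer_le_normalizer_commutator Q (c.hKQ hk))
      (c.K_normalizes_Q0 hk)
  rcases c.eq_or_eq le_sup_right hle hD hK with h | h
  · rw [← h]
    exact le_sup_left
  · exfalso
    haveI : Fact q.Prime := ⟨c.hq⟩
    have := eq_of_commutator_sup_eq c.hQ.isNilpotent h
    exact c.Q0_lt.ne this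

theorem Q_normalizes_Q0 (c : Ctx Ms K Q D q) :
    Q ≤ Subgroup.normalizer ((Q ⊓ Subgroup.centralizer (D : Set G) : Subgroup G) : Set G) := by
  intro x hx
  apply mem_normalizer_of_conjSub_le
  intro y hy
  rw [mem_conjSub] at hy
  have hyQ : x⁻¹ * y * x ∈ Q := (Subgroup.mem_inf.mp hy).1
  have hyQ' : y ∈ Q := by
    have := Q.mul_mem (Q.mul_mem hx hyQ) (Q.inv_mem hx)
    have e : x * (x⁻¹ * y * x) * x⁻¹ = y := by group
    rwa [e] at this
  have h1 : x * (x⁻¹ * y * x) * x⁻¹ * (x⁻¹ * y * x)⁻¹ ∈ (⁅Q, Q⁆ : Subgroup G) :=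
    Subgroup.commutator_mem_commutator hx hyQ
  have h2 := Subgroup.mul_mem _ (c.comm_le h1) hy
  have e : x * (x⁻¹ * y * x) * x⁻¹ * (x⁻¹ * y * x)⁻¹ * (x⁻¹ * y * x) = y := by group
  rwa [e] at h2

/-- the subgroup of elements of `Q` whose `q`-th power lies in `Q₀` -/
def powSub (c : Ctx Ms K Q D q) : Subgroup G where
  carrier := {a | a ∈ Q ∧ a ^ q ∈ Q ⊓ Subgroup.centralizer (D : Set G)}
  one_mem' := ⟨Q.one_mem, by rw [one_pow]; exact Subgroup.one_mem _⟩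
  mul_mem' := by
    rintro a b ⟨ha, haq⟩ ⟨hb, hbq⟩
    exact ⟨Q.mul_mem ha hb, mul_pow_mem c.Q_normalizes_Q0 c.comm_le q ha hb haq hbq⟩
  inv_mem' := by
    rintro a ⟨ha, haq⟩
    refine ⟨Q.inv_mem ha, ?_⟩
    rw [inv_pow]
    exact Subgroup.inv_mem _ haq

theorem mem_powSub (c : Ctx Ms K Q D q) (a : G) :
    a ∈ c.powSub ↔ a ∈ Q ∧ a ^ q ∈ Q ⊓ Subgroup.centralizer (D : Set G) := Iff.rfl

theorem powSub_normalizer (c : Ctx Ms K Q D q) {g : G} (hgQ : g ∈ Subgroup.normalizer (Q : Set G))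
    (hgQ0 : g ∈ Subgroup.normalizer
      ((Q ⊓ Subgroup.centralizer (D : Set G) : Subgroup G) : Set G)) :
    g ∈ Subgroup.normalizer (c.powSub : Set G) := by
  apply mem_normalizer_of_conjSub_le
  intro y hy
  rw [mem_conjSub, mem_powSub] at hy
  obtain ⟨h1, h2⟩ := hy
  rw [mem_powSub]
  have key : ∀ (A : Subgroup G), g ∈ Subgroup.normalizer (A : Set G) → ∀ z, g⁻¹ * z * g ∈ A →
      z ∈ A := by
    intro A hA z hz
    have h3 := (Subgroup.mem_normalizer_iff.mp hA (g⁻¹ * z * g)).mp hz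
    have e : g * (g⁻¹ * z * g) * g⁻¹ = z := by group
    rwa [e] at h3
  refine ⟨key Q hgQ y h1, key _ hgQ0 (y ^ q) ?_⟩
  have e : g⁻¹ * y ^ q * g = (g⁻¹ * y * g) ^ q := by
    have := conj_pow (a := g⁻¹) (i := q) (b := y)
    rw [inv_inv] at this
    exact this.symm
  rw [e]
  exact h2

/-- every element of `Q` has its `q`-th power in `Q₀` -/
theorem pow_mem (c : Ctx Ms K Q D q) : ∀ a ∈ Q, a ^ q ∈ Q ⊓ Subgroup.centralizer (D : Set G) := by
  have hle : c.powSub ≤ Q := fun a ha => ha.1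
  have hQ0 : Q ⊓ Subgroup.centralizer (D : Set G) ≤ c.powSub := by
    intro a ha
    exact ⟨(Subgroup.mem_inf.mp ha).1, Subgroup.pow_mem _ ha q⟩
  have hKs : Ms ⊓ Subgroup.centralizer (K : Set G) ≤ c.powSub := by
    intro a ha
    refine ⟨c.hKsQ ha, ?_⟩
    have h1 : (⟨a, ha⟩ : ↥(Ms ⊓ Subgroup.centralizer (K : Set G))) ^ q = 1 := by
      rw [← c.hcard]
      exact pow_card_eq_one'
    have h2 : a ^ q = 1 := by
      have := congrArg Subtype.val h1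
      simpa using this
    rw [h2]
    exact Subgroup.one_mem _
  have hD : D ≤ Subgroup.normalizer (c.powSub : Set G) :=
    fun d hd => c.powSub_normalizer (c.DQ hd) (c.D_normalizes_Q0 hd)
  have hK : K ≤ Subgroup.normalizer (c.powSub : Set G) :=
    fun k hk => c.powSub_normalizer (c.hKQ hk) (c.K_normalizes_Q0 hk)
  rcases c.eq_or_eq hQ0 hle hD hK with h | h
  · exfalso
    have h1 : Ms ⊓ Subgroup.centralizer (K : Set G) ≤
        (Q ⊓ Subgroup.centralizer (D : Set G)) ⊓ (Ms ⊓ Subgroup.centralizer (K : Set G)) := by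
      rw [← h]
      exact le_inf hKs le_rfl
    rw [c.Q0_Ks, le_bot_iff] at h1
    have h2 := c.hcard
    rw [h1, Subgroup.card_bot] at h2
    exact c.hq.one_lt.ne h2
  · intro a ha
    have : a ∈ c.powSub := by rw [h]; exact ha
    exact this.2

/-- no `DK`-invariant subgroup lies strictly between `Q₀` and `Q` -/
theorem no_between (c : Ctx Ms K Q D q) {N : Subgroup G}
    (h1 : Q ⊓ Subgroup.centralizer (D : Set G) < N) (h2 : N < Q)
    (hDN : D ≤ Subgroup.normalizer (N : Set G)) (hKN : K ≤ Subgroup.normalizer (N : Set G)) :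
    False := by
  rcases c.eq_or_eq h1.le h2.le hDN hKN with h | h
  · exact h1.ne h.symm
  · exact h2.ne h

end Ctx

end Cfsg.Agent.Lib.Helper18.FifteenTwo
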