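import Mathlib
import Cfsg.Prelude.Def_OddOrderLocal
import Cfsg.Agent.Lib.Helper18.FifteenTwoC
import Cfsg.Agent.Lib.Helper18.BGThirteenA
import Cfsg.Agent.Lib.Helper13.BG14M
import Cfsg.Agent.Lib.Helper1.BG14c.PairA
import Cfsg.Agent.Lib.Helper11.BenderO
import Cfsg.Agent.Lib.Helper11.BenderS
import Cfsg.Agent.S1426
import Cfsg.Agent.S1429
import Cfsg.Agent.S1430
import Cfsg.Agent.S1445

set_option autoImplicit false

/-! B & G Theorem 15.2 (helper18): the setting.  `M` maximal with `M_σ` not nilpotent, `K` a Hall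
`κ(M)`-subgroup.  Then `M` is of type `P₁`, `M = M_σ K`, `M_σ = M'`, and (given that
`K* = C_{M_σ}(K)` has prime order `q`) `K* ≤ O_q(M_σ)`, which is a Sylow `q`-subgroup of `M_σ`. -/

namespace Cfsg.Agent.Lib.Helper18.FifteenTwo

open Cfsg Cfsg.Agent.Lib.Helper18 Cfsg.Agent.Lib.Helper1.BG14c
open scoped commutatorElement

variable {G : Type*} [Group G] [Finite G]

theorem not_nilpotent_of_ne (hG : Cfsg.IsMinSimpleOddOrder G) {M : Subgroup G} (hM : IsCoatom M)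
    (hne : Cfsg.fittingHallOf M ≠ Cfsg.sigmaCore M) : ¬ Group.IsNilpotent (Cfsg.sigmaCore M) :=
  fun hnil => hne (Cfsg.Agent.Lib.Helper13.BG14.bg14_sigmaCore_eq_fittingHallOf hG hM hnil).symm

theorem typeP1_of_not_nilpotent (hG : Cfsg.IsMinSimpleOddOrder G) {M : Subgroup G}
    (hM : IsCoatom M) (hnn : ¬ Group.IsNilpotent (Cfsg.sigmaCore M)) : TypeP1 M := by
  by_contra hP1
  have hP1' := hP1
  unfold TypeP1 at hP1'
  push Not at hP1'
  obtain ⟨p, hp, hpM, hpσ, hpκ⟩ := hP1'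
  haveI : Fact p.Prime := ⟨hp⟩
  obtain ⟨S⟩ : Nonempty (Sylow p ↥M) := inferInstance
  apply hnn
  refine (Cfsg.Agent.S1429.result hG M hM hP1 p hpM ?_ S).2.2
  rintro (h | h)
  · exact hpσ h
  · exact hpκ h

/-- if `M = N K` with `N ⊴ M` and `K` abelian then `M' ≤ N` -/
theorem commutator_le_of_fac {M N K : Subgroup G} (hMN : M ≤ Subgroup.normalizer (N : Set G))
    (hKM : K ≤ M) (hK : ∀ a ∈ K, ∀ b ∈ K, a * b = b * a)
    (hfac : ∀ m ∈ M, ∃ s ∈ N, ∃ t ∈ K, m = s * t) : ⁅M, M⁆ ≤ N := by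
  rw [Subgroup.commutator_le]
  intro a ha b hb
  obtain ⟨s, hs, t, ht, rfl⟩ := hfac a ha
  obtain ⟨s', hs', t', ht', rfl⟩ := hfac b hb
  have hconj : ∀ x ∈ K, ∀ y ∈ N, x * y * x⁻¹ ∈ N := by
    intro x hx y hy
    exact (Subgroup.mem_normalizer_iff.mp (hMN (hKM hx)) y).mp hy
  have hcomm : t' * t⁻¹ = t⁻¹ * t' := by
    have h1 := hK t ht t' ht'
    calc t' * t⁻¹ = t⁻¹ * (t * t') * t⁻¹ := by group
      _ = t⁻¹ * (t' * t) * t⁻¹ := by rw [h1]
      _ = t⁻¹ * t' := by group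
  have e : ⁅s * t, s' * t'⁆ = s * (t * s' * t⁻¹) * (t' * s⁻¹ * t'⁻¹) * s'⁻¹ := by
    rw [commutatorElement_def]
    calc s * t * (s' * t') * (s * t)⁻¹ * (s' * t')⁻¹
        = s * t * s' * (t' * t⁻¹) * s⁻¹ * t'⁻¹ * s'⁻¹ := by group
      _ = s * t * s' * (t⁻¹ * t') * s⁻¹ * t'⁻¹ * s'⁻¹ := by rw [hcomm]
      _ = s * (t * s' * t⁻¹) * (t' * s⁻¹ * t'⁻¹) * s'⁻¹ := by group
  rw [e]
  exact N.mul_mem (N.mul_mem (N.mul_mem hs (hconj t ht s' hs'))
    (hconj t' ht' s⁻¹ (N.inv_mem hs))) (N.inv_mem hs')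

/-- the setting of Theorem 15.2 -/
structure Setting (M K : Subgroup G) : Prop where
  hG : Cfsg.IsMinSimpleOddOrder G
  hM : IsCoatom M
  hK : Cfsg.IsPiHallOf (Cfsg.kappa M) K M
  hnn : ¬ Group.IsNilpotent (Cfsg.sigmaCore M)

namespace Setting

variable {M K : Subgroup G}

theorem hP1 (c : Setting M K) : TypeP1 M := typeP1_of_not_nilpotent c.hG c.hM c.hnn

theorem hKM (c : Setting M K) : K ≤ M := c.hK.1

theorem fac (c : Setting M K) : ∀ m ∈ M, ∃ s ∈ Cfsg.sigmaCore M, ∃ t ∈ K, m = s * t :=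
  typeP1_fac c.hG c.hM c.hP1 c.hK

theorem MsM (c : Setting M K) : Cfsg.sigmaCore M ≤ M := BGThirteenA.sigmaCore_le M

theorem MMs (c : Setting M K) : M ≤ Subgroup.normalizer (Cfsg.sigmaCore M : Set G) :=
  Cfsg.Agent.Lib.Helper28.BGt.le_normalizer_sigmaCore M

theorem solvM (c : Setting M K) : Group.IsSolvable M :=
  Cfsg.Agent.Lib.Helper11.MaxSubB.coatom_solvable c.hG M c.hM

theorem solvMs (c : Setting M K) : Group.IsSolvable (Cfsg.sigmaCore M) := by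
  haveI := c.solvM
  exact solvable_of_solvable_injective (Subgroup.inclusion_injective c.MsM)

theorem cop (c : Setting M K) : (Nat.card (Cfsg.sigmaCore M)).Coprime (Nat.card K) := by
  obtain ⟨hσH, -, -⟩ := Cfsg.Agent.Lib.Helper11.BenderO.sigma_hall c.hG M c.hM
  apply Nat.coprime_of_dvd
  intro p hp h1 h2
  have h3 := hσH.2.1 p hp h1
  have h4 := c.hK.2.1 p hp h2
  exact h4.2.2.1 h3

theorem inf_bot (c : Setting M K) : K ⊓ Cfsg.sigmaCore M = ⊥ := by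
  rw [eq_bot_iff]
  intro x hx
  obtain ⟨h1, h2⟩ := Subgroup.mem_inf.mp hx
  have hz1 : Subgroup.zpowers x ≤ K := (Subgroup.zpowers_le).mpr h1
  have hz2 : Subgroup.zpowers x ≤ Cfsg.sigmaCore M := (Subgroup.zpowers_le).mpr h2
  have h3 : Nat.card (Subgroup.zpowers x) = 1 :=
    Nat.Coprime.eq_one_of_dvd
      (Nat.Coprime.coprime_dvd_left (Subgroup.card_dvd_of_le hz2)
        (Nat.Coprime.coprime_dvd_right (Subgroup.card_dvd_of_le hz1) c.cop))
      dvd_rfl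
  rw [Nat.card_zpowers, orderOf_eq_one_iff] at h3
  rw [Subgroup.mem_bot]
  exact h3

theorem compl (c : Setting M K) : Cfsg.IsComplIn K (Cfsg.sigmaCore M) M := by
  refine ⟨c.hKM, c.MsM, c.inf_bot, ?_⟩
  intro m hm
  obtain ⟨s, hs, t, ht, h⟩ := c.fac m⁻¹ (M.inv_mem hm)
  refine ⟨t⁻¹, K.inv_mem ht, s⁻¹, Subgroup.inv_mem _ hs, ?_⟩
  rw [← mul_inv_rev, ← h, inv_inv]

theorem comm_eq (c : Setting M K) : ⁅Cfsg.sigmaCore M, K⁆ = Cfsg.sigmaCore M :=
  (Cfsg.Agent.S1426.result c.hG M c.hM K c.compl).2.1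

theorem hK1 (c : Setting M K) : K ≠ ⊥ := by
  intro h
  apply c.hnn
  have := c.comm_eq
  rw [h, Subgroup.commutator_bot_right] at this
  rw [← this]
  infer_instance

theorem prime_act (c : Setting M K) : ∀ k ∈ K, k ≠ 1 →
    Cfsg.sigmaCore M ⊓ Subgroup.centralizer ({k} : Set G) =
      Cfsg.sigmaCore M ⊓ Subgroup.centralizer (K : Set G) :=
  (Cfsg.Agent.S1430.result c.hG M c.hM K c.hK c.hK1).1

theorem sup_eq (c : Setting M K) : Cfsg.sigmaCore M ⊔ K = M := by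
  apply le_antisymm (sup_le c.MsM c.hKM)
  intro m hm
  obtain ⟨s, hs, t, ht, rfl⟩ := c.fac m hm
  exact Subgroup.mul_mem _ (Subgroup.mem_sup_left hs) (Subgroup.mem_sup_right ht)

theorem sigmaCore_le_der (c : Setting M K) : Cfsg.sigmaCore M ≤ ⁅M, M⁆ := by
  rw [← Subgroup.map_subtype_commutator M]
  unfold Cfsg.sigmaCore
  exact Subgroup.map_mono (Cfsg.Agent.Lib.Helper11.BenderS.sigmaCore_le_commutator c.hG M c.hM)

theorem der_eq (c : Setting M K) (hKc : IsCyclic K) : Cfsg.sigmaCore M = ⁅M, M⁆ := by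
  apply le_antisymm c.sigmaCore_le_der
  apply commutator_le_of_fac c.MMs c.hKM _ c.fac
  intro a ha b hb
  have hc : IsMulCommutative ↥K := IsCyclic.isMulCommutative
  have h1 := hc.is_comm.comm (⟨a, ha⟩ : ↥K) ⟨b, hb⟩
  have h2 := congrArg Subtype.val h1
  simpa using h2

theorem U_eq_bot (c : Setting M K) {U : Subgroup G}
    (hU : Cfsg.IsComplIn U (K ⊔ Cfsg.sigmaCore M) M) : U = ⊥ := by
  rw [eq_bot_iff, ← hU.2.2.1]
  refine le_inf le_rfl ?_
  rw [sup_comm, c.sup_eq]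
  exact hU.1

end Setting

end Cfsg.Agent.Lib.Helper18.FifteenTwo
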