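import Mathlib
import Cfsg.Prelude.Def_OddOrderLocal
import Cfsg.Agent.Lib.Helper18.FifteenTwoD
import Cfsg.Agent.Lib.Helper11.MaxSubB

set_option autoImplicit false

/-! B & G Theorem 15.2 (helper18): `K*` meets `F(M_σ)` (via S1445), hence lies in `O_q(M_σ)` when
it has prime order `q`; and `O_q(M_σ)` is then a Sylow `q`-subgroup of `M_σ`. -/

namespace Cfsg.Agent.Lib.Helper18.FifteenTwo

open Cfsg Cfsg.Agent.Lib.Helper18 Cfsg.Agent.Lib.Helper1.BG14c
open Cfsg.Agent.Lib.Helper11.MaxLocB Cfsg.Agent.Lib.Helper11.MaxSubB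
open scoped commutatorElement

variable {G : Type*} [Group G] [Finite G]

namespace Setting

variable {M K : Subgroup G}

/-- some nonidentity element of `K* = C_{M_σ}(K)` lies in `F(M_σ)` -/
theorem exists_fix (c : Setting M K) :
    ∃ x : G, x ≠ 1 ∧ x ∈ Cfsg.sigmaCore M ⊓ Subgroup.centralizer (K : Set G) ∧
      x ∈ Cfsg.fittingOf (Cfsg.sigmaCore M) := by
  haveI := c.solvM
  have hodd : Odd (Nat.card ↥M) := coatom_odd c.hG M
  obtain ⟨Kσ, hKσ⟩ : ∃ Kσ : Subgroup ↥M, Kσ = (Cfsg.sigmaCore M).subgroupOf M := ⟨_, rfl⟩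
  obtain ⟨R, hR⟩ : ∃ R : Subgroup ↥M, R = K.subgroupOf M := ⟨_, rfl⟩
  haveI hKσn : Kσ.Normal := hKσ ▸ Subgroup.normal_subgroupOf_of_le_normalizer c.MMs
  have hsup : Kσ ⊔ R = ⊤ := by
    rw [hKσ, hR, ← Subgroup.subgroupOf_sup c.MsM c.hKM, c.sup_eq, Subgroup.subgroupOf_self]
  have hcardKσ : Nat.card Kσ = Nat.card (Cfsg.sigmaCore M) := by
    rw [hKσ]
    exact Nat.card_congr (Subgroup.subgroupOfEquivOfLe c.MsM).toEquiv
  have hcardR : Nat.card R = Nat.card K := by
    rw [hR]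
    exact Nat.card_congr (Subgroup.subgroupOfEquivOfLe c.hKM).toEquiv
  have hcop : (Nat.card Kσ).Coprime (Nat.card R) := by
    rw [hcardKσ, hcardR]
    exact c.cop
  have hmemKσ : ∀ y : ↥M, y ∈ Kσ ↔ (y : G) ∈ Cfsg.sigmaCore M := by
    intro y
    rw [hKσ, Subgroup.mem_subgroupOf]
  have hmemR : ∀ y : ↥M, y ∈ R ↔ (y : G) ∈ K := by
    intro y
    rw [hR, Subgroup.mem_subgroupOf]
  have hprime : ∀ x ∈ R, x ≠ 1 → Kσ ⊓ Subgroup.centralizer ({x} : Set ↥M) =
      Kσ ⊓ Subgroup.centralizer (R : Set ↥M) := by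
    intro x hx hx1
    have hxK : (x : G) ∈ K := (hmemR x).mp hx
    have hx1' : (x : G) ≠ 1 := fun h => hx1 (Subtype.ext h)
    have hpa := c.prime_act (x : G) hxK hx1'
    ext y
    rw [Subgroup.mem_inf, Subgroup.mem_inf, hmemKσ, Subgroup.mem_centralizer_singleton_iff,
      Subgroup.mem_centralizer_iff]
    constructor
    · rintro ⟨h1, h2⟩
      refine ⟨h1, ?_⟩
      have h3 : (y : G) ∈ Cfsg.sigmaCore M ⊓ Subgroup.centralizer ({(x : G)} : Set G) := by
        refine Subgroup.mem_inf.mpr ⟨h1, ?_⟩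
        rw [Subgroup.mem_centralizer_singleton_iff]
        have := congrArg Subtype.val h2
        simpa using this
      rw [hpa] at h3
      intro r hr
      have := Subgroup.mem_centralizer_iff.mp (Subgroup.mem_inf.mp h3).2 (r : G)
        ((hmemR r).mp hr)
      exact Subtype.ext (by simpa using this)
    · rintro ⟨h1, h2⟩
      exact ⟨h1, (h2 x hx).symm⟩
  have hW : (Cfsg.fittingOf Kσ).map M.subtype ≤ Cfsg.fittingOf (Cfsg.sigmaCore M) := by
    apply Cfsg.Agent.Lib.Helper18.BGFifteenA.le_fittingOf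
    · rintro _ ⟨y, hy, rfl⟩
      exact (hmemKσ y).mp (fittingOf_le Kσ hy)
    · intro s hs
      have h1 : (⟨s, c.MsM hs⟩ : ↥M) ∈ Subgroup.normalizer (Cfsg.fittingOf Kσ : Set ↥M) :=
        le_normalizer_fittingOf Kσ ((hmemKσ _).mpr hs)
      exact Subgroup.le_normalizer_map M.subtype (Subgroup.mem_map_of_mem M.subtype h1)
    · haveI := fittingOf_nilpotent Kσ
      exact Group.nilpotent_of_mulEquiv
        ((Cfsg.fittingOf Kσ).equivMapOfInjective M.subtype M.subtype_injective)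
  by_contra hcon
  push Not at hcon
  have hF : Cfsg.fittingOf Kσ ⊓ Subgroup.centralizer (R : Set ↥M) = ⊥ := by
    rw [eq_bot_iff]
    intro y hy
    obtain ⟨hy1, hy2⟩ := Subgroup.mem_inf.mp hy
    rw [Subgroup.mem_bot]
    by_contra hy0
    apply hcon (y : G) (fun h => hy0 (Subtype.ext h))
    · refine Subgroup.mem_inf.mpr ⟨(hmemKσ y).mp (fittingOf_le Kσ hy1), ?_⟩
      rw [Subgroup.mem_centralizer_iff]
      intro k hk
      have := Subgroup.mem_centralizer_iff.mp hy2 ⟨k, c.hKM hk⟩ ((hmemR _).mpr hk)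
      have h2 := congrArg Subtype.val this
      simpa using h2
    · exact hW ⟨y, hy1, rfl⟩
  have h := Cfsg.Agent.S1445.result hodd Kσ R hsup hcop hprime hF
  have hmapKσ : Kσ.map M.subtype = Cfsg.sigmaCore M := by
    rw [hKσ, Subgroup.subgroupOf_map_subtype]
    exact inf_eq_left.mpr c.MsM
  have hmapR : R.map M.subtype = K := by
    rw [hR, Subgroup.subgroupOf_map_subtype]
    exact inf_eq_left.mpr c.hKM
  have hcomm : ⁅Kσ, R⁆ = Kσ := by
    apply Subgroup.map_injective M.subtype_injective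
    rw [Subgroup.map_commutator, hmapKσ, hmapR, c.comm_eq]
  rw [hcomm] at h
  have heq : Cfsg.fittingOf Kσ = Kσ := le_antisymm (fittingOf_le Kσ) h
  have hnil : Group.IsNilpotent ↥Kσ := by
    have := fittingOf_nilpotent Kσ
    rw [heq] at this
    exact this
  apply c.hnn
  rw [hKσ] at hnil
  exact (Group.isNilpotent_congr (Subgroup.subgroupOfEquivOfLe c.MsM)).mp hnil

end Setting

end Cfsg.Agent.Lib.Helper18.FifteenTwo
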