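import Mathlib
import Cfsg.Prelude.Def_OddOrderLocal
import Cfsg.Agent.Lib.Helper18.FifteenTwoE

set_option autoImplicit false

/-! B & G Theorem 15.2 (helper18): `Q = O_q(M_σ)` contains `K*` and is a Sylow `q`-subgroup of
`M_σ`, normal in `M`, contained in `M_F`. -/

namespace Cfsg.Agent.Lib.Helper18.FifteenTwo

open Cfsg Cfsg.Agent.Lib.Helper18 Cfsg.Agent.Lib.Helper1.BG14c
open Cfsg.Agent.Lib.Helper11.MaxLocB Cfsg.Agent.Lib.Helper11.MaxSubB
open scoped commutatorElement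

variable {G : Type*} [Group G] [Finite G]

theorem normalizer_le_normalizer_fP (H : Subgroup G) (p : ℕ) [Fact p.Prime] :
    Subgroup.normalizer (H : Set G) ≤ Subgroup.normalizer (fP H p : Set G) := by
  intro h hh
  apply mem_normalizer_of_conjSub_le
  rintro _ ⟨z, hz, rfl⟩
  have hF := Cfsg.Agent.Lib.Helper18.BGFifteenA.normalizer_le_normalizer_fittingOf H hh
  obtain ⟨k, hk⟩ := hz.2
  refine ⟨(Subgroup.mem_normalizer_iff.mp hF z).mp hz.1, k, ?_⟩
  simp only [MulEquiv.coe_toMonoidHom, MulAut.conj_apply]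
  rw [conj_pow, hk]; group

theorem le_fP {H P : Subgroup G} {p : ℕ} [Fact p.Prime] (hPH : P ≤ H)
    (hHP : H ≤ Subgroup.normalizer (P : Set G)) (hP : IsPGroup p P) : P ≤ fP H p := by
  intro x hx
  refine ⟨Cfsg.Agent.Lib.Helper18.BGFifteenA.le_fittingOf hPH hHP hP.isNilpotent hx, ?_⟩
  obtain ⟨k, hk⟩ := hP ⟨x, hx⟩
  exact ⟨k, by simpa using congrArg Subtype.val hk⟩

namespace Setting

variable {M K : Subgroup G}

theorem Ks_le_fP (c : Setting M K) {q : ℕ} [hq : Fact q.Prime]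
    (hcard : Nat.card ↥(Cfsg.sigmaCore M ⊓ Subgroup.centralizer (K : Set G)) = q) :
    Cfsg.sigmaCore M ⊓ Subgroup.centralizer (K : Set G) ≤ fP (Cfsg.sigmaCore M) q := by
  obtain ⟨x, hx1, hxKs, hxF⟩ := c.exists_fix
  intro y hy
  have hx1' : (⟨x, hxKs⟩ : ↥(Cfsg.sigmaCore M ⊓ Subgroup.centralizer (K : Set G))) ≠ 1 :=
    fun h => hx1 (congrArg Subtype.val h)
  have hmem : (⟨y, hy⟩ : ↥(Cfsg.sigmaCore M ⊓ Subgroup.centralizer (K : Set G))) ∈
      Subgroup.zpowers (⟨x, hxKs⟩ : ↥(Cfsg.sigmaCore M ⊓ Subgroup.centralizer (K : Set G))) :=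
    mem_zpowers_of_prime_card hcard hx1'
  obtain ⟨n, hn⟩ := Subgroup.mem_zpowers_iff.mp hmem
  have hn' : x ^ n = y := by
    have := congrArg Subtype.val hn
    simpa using this
  refine ⟨?_, 1, ?_⟩
  · rw [← hn']
    exact Subgroup.zpow_mem _ hxF n
  · have h1 : (⟨y, hy⟩ : ↥(Cfsg.sigmaCore M ⊓ Subgroup.centralizer (K : Set G))) ^ q = 1 := by
      rw [← hcard]
      exact pow_card_eq_one'
    have := congrArg Subtype.val h1
    simpa using this

theorem MQ (c : Setting M K) (q : ℕ) [Fact q.Prime] :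
    M ≤ Subgroup.normalizer (fP (Cfsg.sigmaCore M) q : Set G) :=
  c.MMs.trans (normalizer_le_normalizer_fP _ q)

theorem Q_le (c : Setting M K) (q : ℕ) [Fact q.Prime] :
    fP (Cfsg.sigmaCore M) q ≤ Cfsg.sigmaCore M := fP_le_self _ q

/-- `O_q(M_σ)` is a Sylow `q`-subgroup of `M_σ` -/
theorem Q_sylow (c : Setting M K) {q : ℕ} [hq : Fact q.Prime]
    (hcard : Nat.card ↥(Cfsg.sigmaCore M ⊓ Subgroup.centralizer (K : Set G)) = q) :
    ¬ q ∣ (fP (Cfsg.sigmaCore M) q).relIndex (Cfsg.sigmaCore M) := by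
  obtain ⟨Q, hQ⟩ : ∃ Q : Subgroup G, Q = fP (Cfsg.sigmaCore M) q := ⟨_, rfl⟩
  rw [← hQ]
  have hQMs : Q ≤ Cfsg.sigmaCore M := hQ ▸ c.Q_le q
  have hMQ : M ≤ Subgroup.normalizer (Q : Set G) := hQ ▸ c.MQ q
  have hQq : IsPGroup q Q := hQ ▸ fP_isPGroup _ q
  have hKsQ : Cfsg.sigmaCore M ⊓ Subgroup.centralizer (K : Set G) ≤ Q := hQ ▸ c.Ks_le_fP hcard
  haveI hn : (Q.subgroupOf M).Normal := Subgroup.normal_subgroupOf_of_le_normalizer hMQ
  haveI hn2 : ((Cfsg.sigmaCore M).subgroupOf M).Normal :=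
    Subgroup.normal_subgroupOf_of_le_normalizer c.MMs
  rw [← Subgroup.relIndex_subgroupOf c.MsM]
  have hsolvM := c.solvM
  apply not_dvd_relIndex_of_fpf_mod q (Q.subgroupOf M) ((Cfsg.sigmaCore M).subgroupOf M)
    (K.subgroupOf M)
  · intro x hx
    rw [Subgroup.mem_subgroupOf] at hx ⊢
    exact hQMs hx
  · rw [Subgroup.normalizer_eq_top_iff.mpr hn2]
    exact le_top
  · intro h
    apply c.hK1
    rw [eq_bot_iff]
    intro k hk
    have : (⟨k, c.hKM hk⟩ : ↥M) ∈ K.subgroupOf M := by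
      rw [Subgroup.mem_subgroupOf]
      exact hk
    rw [h, Subgroup.mem_bot] at this
    rw [Subgroup.mem_bot]
    exact congrArg Subtype.val this
  · rw [Nat.card_congr (Subgroup.subgroupOfEquivOfLe c.hKM).toEquiv,
      Nat.card_congr (Subgroup.subgroupOfEquivOfLe c.MsM).toEquiv]
    exact c.cop.symm
  · infer_instance
  · intro e he he1 y hy
    rw [Subgroup.mem_subgroupOf] at he ⊢
    obtain ⟨hy1, hy2⟩ := Subgroup.mem_inf.mp hy
    rw [Subgroup.mem_subgroupOf] at hy1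
    have he1' : (e : G) ≠ 1 := fun h => he1 (Subtype.ext h)
    apply hKsQ
    rw [← c.prime_act (e : G) he he1']
    refine Subgroup.mem_inf.mpr ⟨hy1, ?_⟩
    rw [Subgroup.mem_centralizer_singleton_iff] at hy2 ⊢
    have := congrArg Subtype.val hy2
    simpa using this
  · exact hQq.comap_subtype
  · intro P hQP hPMs hMsP hPq
    have hPmap : P.map M.subtype ≤ Q := by
      rw [hQ]
      apply le_fP
      · rintro _ ⟨y, hy, rfl⟩
        have := hPMs hy
        rw [Subgroup.mem_subgroupOf] at this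
        exact this
      · intro s hs
        have h1 : (⟨s, c.MsM hs⟩ : ↥M) ∈ Subgroup.normalizer (P : Set ↥M) := by
          apply hMsP
          rw [Subgroup.mem_subgroupOf]
          exact hs
        exact Subgroup.le_normalizer_map M.subtype (Subgroup.mem_map_of_mem M.subtype h1)
      · exact hPq.map M.subtype
    intro y hy
    rw [Subgroup.mem_subgroupOf]
    exact hPmap ⟨y, hy, rfl⟩

end Setting

end Cfsg.Agent.Lib.Helper18.FifteenTwo
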