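import Mathlib
import Cfsg.Prelude.Def_OddOrderLocal
import Cfsg.Agent.Lib.Helper18.FifteenTwoF
import Cfsg.Agent.Lib.Helper18.NaFinishA
import Cfsg.Agent.Lib.Helper11.GlaubermanFix
import Cfsg.Agent.Lib.Helper1.BG14.SigmaATI
import Cfsg.Agent.Lib.Helper10.FittingHall

set_option autoImplicit false

/-! B & G Theorem 15.2 (helper18): every complement `D` of `Q` in `M_σ` is normalized by a
conjugate of `K`; the configuration `Ctx` for that conjugate. -/

namespace Cfsg.Agent.Lib.Helper18.FifteenTwo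

open Cfsg Cfsg.Agent.Lib.Helper18 Cfsg.Agent.Lib.Helper1.BG14c
open Cfsg.Agent.Lib.Helper11.MaxLocB Cfsg.Agent.Lib.Helper11.MaxSubB
open scoped commutatorElement

variable {G : Type*} [Group G] [Finite G]

/-- a complement `D` of the normal Sylow `q`-subgroup `Q` of the solvable group `Ms`, and a
coprime operator group `K`: some `Ms`-conjugate of `K` normalizes `D` -/
theorem exists_conj_normalizing {Ms K Q D : Subgroup G} {q : ℕ} (hq : q.Prime)
    (hsolv : Group.IsSolvable Ms) (hKMs : K ≤ Subgroup.normalizer (Ms : Set G))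
    (hcop : (Nat.card Ms).Coprime (Nat.card K)) (hQ : IsPGroup q Q)
    (hsyl : ¬ q ∣ Q.relIndex Ms) (hcompl : Cfsg.IsComplIn Q D Ms) :
    ∃ g ∈ Ms, conjSub g K ≤ Subgroup.normalizer (D : Set G) := by
  have hQMs : Q ≤ Ms := hcompl.1
  have hDMs : D ≤ Ms := hcompl.2.1
  have hcard : Nat.card Ms = Nat.card Q * Nat.card D :=
    Cfsg.Agent.Lib.Helper1.BG15.card_of_isComplIn hcompl
  have hqD : ¬ q ∣ Nat.card D := by
    intro h
    apply hsyl
    have h1 : Nat.card Q * Q.relIndex Ms = Nat.card Ms :=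
      Cfsg.Agent.Lib.Helper1.BG12.card_mul_relIndex_of_le hQMs
    rw [hcard] at h1
    rw [Nat.eq_of_mul_eq_mul_left Nat.card_pos h1]
    exact h
  have hcopDQ : (Nat.card D).Coprime (Nat.card Q) := by
    haveI : Fact q.Prime := ⟨hq⟩
    obtain ⟨n, hn⟩ := IsPGroup.iff_card.mp hQ
    rw [hn]
    apply Nat.Coprime.pow_right
    exact ((Nat.Prime.coprime_iff_not_dvd hq).mpr hqD).symm
  have horb : ∀ a ∈ K, ∃ k ∈ Ms,
      Cfsg.Agent.Lib.Helper11.conjSub a D = Cfsg.Agent.Lib.Helper11.conjSub k D := by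
    intro a ha
    show ∃ k ∈ Ms, conjSub a D = conjSub k D
    have hYMs : conjSub a D ≤ Ms := by
      have h1 : conjSub a D ≤ conjSub a Ms := conjSub_mono hDMs
      rwa [conjSub_eq_of_mem_normalizer (hKMs ha)] at h1
    obtain ⟨m, hm, hmY⟩ := Cfsg.Agent.Lib.Helper1.BG14.hall_conj_into hsolv hDMs hYMs
      (n := Nat.card Q) (by rw [hcard, mul_comm]) hcopDQ (by rw [card_conjSub]; exact hcopDQ)
    refine ⟨m, hm, ?_⟩
    have hle : conjSub m⁻¹ (conjSub a D) ≤ D := by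
      intro x hx
      rw [mem_conjSub, inv_inv] at hx
      have := hmY _ hx
      have e : m⁻¹ * (m * x * m⁻¹) * m = x := by group
      rwa [e] at this
    have heq : conjSub m⁻¹ (conjSub a D) = D := by
      apply Subgroup.eq_of_le_of_card_ge hle
      rw [card_conjSub, card_conjSub]
    calc conjSub a D = conjSub (m * m⁻¹) (conjSub a D) := by rw [mul_inv_cancel, conjSub_one]
      _ = conjSub m (conjSub m⁻¹ (conjSub a D)) := (conjSub_mul m m⁻¹ _).symm
      _ = conjSub m D := by rw [heq]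
  obtain ⟨k, hk, hKinv⟩ := Cfsg.Agent.Lib.Helper11.exists_invariant_conj K Ms hKMs hcop.symm
    (Or.inr hsolv) D horb
  refine ⟨k⁻¹, Ms.inv_mem hk, ?_⟩
  intro x hx
  rw [mem_conjSub, inv_inv] at hx
  have h1 : k * x * k⁻¹ ∈ Subgroup.normalizer ((conjSub k D : Subgroup G) : Set G) := hKinv hx
  have h2 : conjSub (k * x * k⁻¹) (conjSub k D) = conjSub k D :=
    conjSub_eq_of_mem_normalizer h1
  rw [conjSub_mul] at h2
  have e : k * x * k⁻¹ * k = k * x := by group
  rw [e, ← conjSub_mul] at h2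
  have h3 : conjSub x D = D :=
    Subgroup.map_injective (MulAut.conj k).injective h2
  exact mem_normalizer_of_conjSub_le h3.le

namespace Setting

variable {M K : Subgroup G}

/-- conjugates of `K` in `M` are again Hall `κ(M)`-subgroups -/
theorem conj (c : Setting M K) {g : G} (hg : g ∈ M) : Setting M (conjSub g K) := by
  refine ⟨c.hG, c.hM, ⟨conjSub_le_of_mem c.hKM hg, ?_, ?_⟩, c.hnn⟩
  · intro p hp hpd
    rw [card_conjSub] at hpd
    exact c.hK.2.1 p hp hpd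
  · intro p hp hpκ hpd
    apply c.hK.2.2 p hp hpκ
    have h1 := Cfsg.Agent.Lib.Helper1.BG12.card_mul_relIndex_of_le
      (conjSub_le_of_mem c.hKM hg : conjSub g K ≤ M)
    have h2 := Cfsg.Agent.Lib.Helper1.BG12.card_mul_relIndex_of_le c.hKM
    rw [card_conjSub, ← h2] at h1
    rw [← Nat.eq_of_mul_eq_mul_left Nat.card_pos h1]
    exact hpd

theorem cent_conj (c : Setting M K) {g : G} (hg : g ∈ M) :
    Cfsg.sigmaCore M ⊓ Subgroup.centralizer ((conjSub g K : Subgroup G) : Set G) =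
      conjSub g (Cfsg.sigmaCore M ⊓ Subgroup.centralizer (K : Set G)) := by
  rw [conjSub_inf_centralizer, conjSub_eq_of_mem_normalizer (c.MMs hg)]

/-- the abstract configuration for a conjugate of `K` normalizing `D` -/
theorem ctx (c : Setting M K) {q : ℕ} [hq : Fact q.Prime]
    (hcard : Nat.card ↥(Cfsg.sigmaCore M ⊓ Subgroup.centralizer (K : Set G)) = q)
    {D : Subgroup G} (hD : Cfsg.IsComplIn (fP (Cfsg.sigmaCore M) q) D (Cfsg.sigmaCore M))
    {g : G} (hg : g ∈ M) (hgD : conjSub g K ≤ Subgroup.normalizer (D : Set G)) :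
    Ctx (Cfsg.sigmaCore M) (conjSub g K) (fP (Cfsg.sigmaCore M) q) D q := by
  have c' := c.conj hg
  refine
    { hq := hq.out
      hsolv := c.solvMs
      hK1 := c'.hK1
      hcop := c'.cop
      hcard := ?_
      hprime := c'.prime_act
      hQ := fP_isPGroup _ q
      hsyl := c.Q_sylow hcard
      hKsQ := ?_
      hMsQ := c.MsM.trans (c.MQ q)
      hKQ := c'.hKM.trans (c.MQ q)
      hcompl := hD
      hKD := hgD
      hnn := c.hnn }
  · rw [c.cent_conj hg, card_conjSub, hcard]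
  · rw [c.cent_conj hg]
    have h1 : conjSub g (Cfsg.sigmaCore M ⊓ Subgroup.centralizer (K : Set G)) ≤
        conjSub g (fP (Cfsg.sigmaCore M) q) := conjSub_mono (c.Ks_le_fP hcard)
    rwa [conjSub_eq_of_mem_normalizer (c.MQ q hg)] at h1

/-- for every complement `D` there is a conjugate of `K` giving the configuration -/
theorem exists_ctx (c : Setting M K) {q : ℕ} [hq : Fact q.Prime]
    (hcard : Nat.card ↥(Cfsg.sigmaCore M ⊓ Subgroup.centralizer (K : Set G)) = q)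
    {D : Subgroup G} (hD : Cfsg.IsComplIn (fP (Cfsg.sigmaCore M) q) D (Cfsg.sigmaCore M)) :
    ∃ g ∈ M, Ctx (Cfsg.sigmaCore M) (conjSub g K) (fP (Cfsg.sigmaCore M) q) D q := by
  obtain ⟨g, hg, hgD⟩ := exists_conj_normalizing hq.out c.solvMs (c.hKM.trans c.MMs) c.cop
    (fP_isPGroup _ q) (c.Q_sylow hcard) hD
  exact ⟨g, c.MsM hg, c.ctx hcard hD (c.MsM hg) hgD⟩

/-- a complement exists (Schur–Zassenhaus) -/
theorem exists_compl (c : Setting M K) {q : ℕ} [hq : Fact q.Prime]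
    (hcard : Nat.card ↥(Cfsg.sigmaCore M ⊓ Subgroup.centralizer (K : Set G)) = q) :
    ∃ D : Subgroup G, Cfsg.IsComplIn (fP (Cfsg.sigmaCore M) q) D (Cfsg.sigmaCore M) := by
  obtain ⟨Q, hQ⟩ : ∃ Q : Subgroup G, Q = fP (Cfsg.sigmaCore M) q := ⟨_, rfl⟩
  rw [← hQ]
  have hQMs : Q ≤ Cfsg.sigmaCore M := hQ ▸ c.Q_le q
  have hMsQ : Cfsg.sigmaCore M ≤ Subgroup.normalizer (Q : Set G) := hQ ▸ c.MsM.trans (c.MQ q)
  have hQq : IsPGroup q Q := hQ ▸ fP_isPGroup _ q
  have hsyl : ¬ q ∣ Q.relIndex (Cfsg.sigmaCore M) := hQ ▸ c.Q_sylow hcard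
  haveI hn : (Q.subgroupOf (Cfsg.sigmaCore M)).Normal :=
    Subgroup.normal_subgroupOf_of_le_normalizer hMsQ
  have hcQ : Nat.card (Q.subgroupOf (Cfsg.sigmaCore M)) = Nat.card Q :=
    Nat.card_congr (Subgroup.subgroupOfEquivOfLe hQMs).toEquiv
  have hcop : (Nat.card (Q.subgroupOf (Cfsg.sigmaCore M))).Coprime
      (Q.subgroupOf (Cfsg.sigmaCore M)).index := by
    rw [hcQ]
    obtain ⟨n, hn⟩ := IsPGroup.iff_card.mp hQq
    rw [hn]
    apply Nat.Coprime.pow_left
    exact (Nat.Prime.coprime_iff_not_dvd hq.out).mpr hsyl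
  obtain ⟨H, hH⟩ := Subgroup.exists_right_complement'_of_coprime hcop
  refine ⟨H.map (Cfsg.sigmaCore M).subtype, ?_⟩
  have hcH : Nat.card (H.map (Cfsg.sigmaCore M).subtype) = Nat.card H :=
    Subgroup.card_map_of_injective (Subgroup.subtype_injective _)
  have hmul := hH.card_mul_card
  rw [hcQ] at hmul
  apply Cfsg.Agent.Lib.Helper18.NaFinish.isComplIn_of_card hQMs (Subgroup.map_subtype_le _)
  · rw [eq_bot_iff]
    rintro x ⟨hxQ, y, hy, rfl⟩
    have h1 : y ∈ Q.subgroupOf (Cfsg.sigmaCore M) ⊓ H := by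
      refine Subgroup.mem_inf.mpr ⟨?_, hy⟩
      rw [Subgroup.mem_subgroupOf]
      exact hxQ
    rw [hH.disjoint.eq_bot, Subgroup.mem_bot] at h1
    rw [Subgroup.mem_bot, h1]
    rfl
  · rw [hcH]
    exact hmul

/-- `Q ≤ M_F` -/
theorem Q_le_fittingHallOf (c : Setting M K) {q : ℕ} [hq : Fact q.Prime]
    (hcard : Nat.card ↥(Cfsg.sigmaCore M ⊓ Subgroup.centralizer (K : Set G)) = q) :
    fP (Cfsg.sigmaCore M) q ≤ Cfsg.fittingHallOf M := by
  obtain ⟨Q, hQ⟩ : ∃ Q : Subgroup G, Q = fP (Cfsg.sigmaCore M) q := ⟨_, rfl⟩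
  rw [← hQ]
  have hQMs : Q ≤ Cfsg.sigmaCore M := hQ ▸ c.Q_le q
  have hMQ : M ≤ Subgroup.normalizer (Q : Set G) := hQ ▸ c.MQ q
  have hQq : IsPGroup q Q := hQ ▸ fP_isPGroup _ q
  have hsyl : ¬ q ∣ Q.relIndex (Cfsg.sigmaCore M) := hQ ▸ c.Q_sylow hcard
  have hKsQ : Cfsg.sigmaCore M ⊓ Subgroup.centralizer (K : Set G) ≤ Q := hQ ▸ c.Ks_le_fP hcard
  have hQM : Q ≤ M := hQMs.trans c.MsM
  obtain ⟨hσH, -, -⟩ := Cfsg.Agent.Lib.Helper11.BenderO.sigma_hall c.hG M c.hM
  have hqMs : q ∣ Nat.card (Cfsg.sigmaCore M) := by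
    rw [← hcard]
    exact Subgroup.card_dvd_of_le inf_le_left
  have hqσ : q ∈ Cfsg.sigma M := hσH.2.1 q hq.out hqMs
  have hq2 : ¬ q ∣ (Cfsg.sigmaCore M).relIndex M := hσH.2.2 q hq.out hqσ
  have hq3 : ¬ q ∣ Q.relIndex M := by
    rw [← Subgroup.relIndex_mul_relIndex Q (Cfsg.sigmaCore M) M hQMs c.MsM]
    intro h
    rcases (Nat.Prime.dvd_mul hq.out).mp h with h | h
    · exact hsyl h
    · exact hq2 h
  have hle : Q.subgroupOf M ≤ Cfsg.fittingHall ↥M := by
    apply Cfsg.Agent.Lib.Helper10.le_fittingHall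
    · exact Subgroup.normal_subgroupOf_of_le_normalizer hMQ
    · exact (hQq.comap_subtype (K := M)).isNilpotent
    · rw [Nat.card_congr (Subgroup.subgroupOfEquivOfLe hQM).toEquiv]
      obtain ⟨n, hn⟩ := IsPGroup.iff_card.mp hQq
      rw [hn]
      apply Nat.Coprime.pow_left
      exact (Nat.Prime.coprime_iff_not_dvd hq.out).mpr hq3
  intro x hx
  exact ⟨⟨x, hQM hx⟩, hle (by rw [Subgroup.mem_subgroupOf]; exact hx), rfl⟩

end Setting

end Cfsg.Agent.Lib.Helper18.FifteenTwo
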