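import Mathlib
import Cfsg.Prelude.Def_OddOrderLocal
import Cfsg.Agent.Lib.Helper18.FifteenTwoG
import Cfsg.Agent.S1373
import Cfsg.Agent.S1414

set_option autoImplicit false

/-! B & G Theorem 15.2 (helper18): `q ∈ β(M)` and the final assembly. -/

namespace Cfsg.Agent.Lib.Helper18.FifteenTwo

open Cfsg Cfsg.Agent.Lib.Helper18 Cfsg.Agent.Lib.Helper1.BG14c
open Cfsg.Agent.Lib.Helper11.MaxLocB Cfsg.Agent.Lib.Helper11.MaxSubB
open scoped commutatorElement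

variable {G : Type*} [Group G] [Finite G]

namespace Setting

variable {M K : Subgroup G}

theorem q_dvd_card (c : Setting M K) {q : ℕ}
    (hcard : Nat.card ↥(Cfsg.sigmaCore M ⊓ Subgroup.centralizer (K : Set G)) = q) :
    q ∣ Nat.card M := by
  rw [← hcard]
  exact Subgroup.card_dvd_of_le (inf_le_left.trans c.MsM)

/-- `q ∈ β(M)`: otherwise `M_σ` has a normal `q`-complement, which `Q` would centralize -/
theorem q_mem_beta (c : Setting M K) {q : ℕ} [hq : Fact q.Prime]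
    (hcard : Nat.card ↥(Cfsg.sigmaCore M ⊓ Subgroup.centralizer (K : Set G)) = q) :
    q ∈ Cfsg.beta M := by
  by_contra hβ
  obtain ⟨P, N, hNn, hNP⟩ :=
    ((Cfsg.Agent.S1414.result c.hG M c.hM).2.2.2.2 q hq.out (c.q_dvd_card hcard) hβ).2.1
  obtain ⟨Q, hQ⟩ : ∃ Q : Subgroup G, Q = fP (Cfsg.sigmaCore M) q := ⟨_, rfl⟩
  have hQMs : Q ≤ Cfsg.sigmaCore M := hQ ▸ c.Q_le q
  have hMsQ : Cfsg.sigmaCore M ≤ Subgroup.normalizer (Q : Set G) := hQ ▸ c.MsM.trans (c.MQ q)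
  have hQq : IsPGroup q Q := hQ ▸ fP_isPGroup _ q
  have hsyl : ¬ q ∣ Q.relIndex (Cfsg.sigmaCore M) := hQ ▸ c.Q_sylow hcard
  obtain ⟨D, hD⟩ : ∃ D : Subgroup G, D = N.map (Cfsg.sigmaCore M).subtype := ⟨_, rfl⟩
  have hDMs : D ≤ Cfsg.sigmaCore M := hD ▸ Subgroup.map_subtype_le _
  have hMsD : Cfsg.sigmaCore M ≤ Subgroup.normalizer (D : Set G) := by
    intro s hs
    have h1 : (⟨s, hs⟩ : ↥(Cfsg.sigmaCore M)) ∈ Subgroup.normalizer (N : Set ↥(Cfsg.sigmaCore M)) := by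
      rw [Subgroup.normalizer_eq_top_iff.mpr hNn]
      exact Subgroup.mem_top _
    rw [hD]
    exact Subgroup.le_normalizer_map (Cfsg.sigmaCore M).subtype
      (Subgroup.mem_map_of_mem (Cfsg.sigmaCore M).subtype h1)
  have hcD : Nat.card D = Nat.card N := by
    rw [hD]
    exact Subgroup.card_map_of_injective (Subgroup.subtype_injective _)
  have hcP : Nat.card (P : Subgroup ↥(Cfsg.sigmaCore M)) = Nat.card Q := by
    have h1 : IsSylowIn q ((P : Subgroup ↥(Cfsg.sigmaCore M)).map (Cfsg.sigmaCore M).subtype)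
        (Cfsg.sigmaCore M) := isSylowIn_of_sylow P
    have h2 : IsSylowIn q Q (Cfsg.sigmaCore M) := ⟨hQMs, hQq, hsyl⟩
    rw [← h1.card_eq h2]
    exact (Subgroup.card_map_of_injective (Subgroup.subtype_injective _)).symm
  have hmul := hNP.card_mul_card
  rw [hcP, ← hcD] at hmul
  have hqD : ¬ q ∣ Nat.card D := by
    intro h
    apply hsyl
    have h1 : Nat.card Q * Q.relIndex (Cfsg.sigmaCore M) = Nat.card (Cfsg.sigmaCore M) :=
      Cfsg.Agent.Lib.Helper1.BG12.card_mul_relIndex_of_le hQMs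
    rw [← hmul, mul_comm (Nat.card D)] at h1
    rw [Nat.eq_of_mul_eq_mul_left Nat.card_pos h1]
    exact h
  have hcopQD : (Nat.card Q).Coprime (Nat.card D) := by
    obtain ⟨n, hn⟩ := IsPGroup.iff_card.mp hQq
    rw [hn]
    apply Nat.Coprime.pow_left
    exact (Nat.Prime.coprime_iff_not_dvd hq.out).mpr hqD
  have hinf : Q ⊓ D = ⊥ := Subgroup.inf_eq_bot_of_coprime hcopQD
  have hcompl : Cfsg.IsComplIn Q D (Cfsg.sigmaCore M) :=
    Cfsg.Agent.Lib.Helper18.NaFinish.isComplIn_of_card hQMs hDMs hinf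
      (by rw [mul_comm]; exact hmul)
  rw [hQ] at hcompl
  obtain ⟨g, hg, cx⟩ := c.exists_ctx hcard hcompl
  apply cx.not_Q_le_cent
  rw [← hQ]
  intro x hx
  rw [Subgroup.mem_centralizer_iff]
  intro d hd
  have hz : d * x * d⁻¹ * x⁻¹ ∈ Q ⊓ D := by
    refine Subgroup.mem_inf.mpr ⟨?_, ?_⟩
    · have h1 : d * x * d⁻¹ ∈ Q := (Subgroup.mem_normalizer_iff.mp (hMsQ (hDMs hd)) x).mp hx
      exact Q.mul_mem h1 (Q.inv_mem hx)
    · have h1 : x * d⁻¹ * x⁻¹ ∈ D :=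
        (Subgroup.mem_normalizer_iff.mp (hMsD (hQMs hx)) d⁻¹).mp (D.inv_mem hd)
      have e : d * x * d⁻¹ * x⁻¹ = d * (x * d⁻¹ * x⁻¹) := by group
      rw [e]
      exact D.mul_mem hd h1
  rw [hinf, Subgroup.mem_bot] at hz
  calc d * x = (d * x * d⁻¹ * x⁻¹) * (x * d) := by group
    _ = x * d := by rw [hz, one_mul]

end Setting

/-- **B & G, Theorem 15.2** (the structure of `M` when `M_F ≠ M_σ`) -/
theorem fifteen_two (hG : Cfsg.IsMinSimpleOddOrder G)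
    (M : Subgroup G) (hM : IsCoatom M) (K U : Subgroup G) (hKU : Cfsg.IsSigmaDecomposition M K U)
    (hne : Cfsg.fittingHallOf M ≠ Cfsg.sigmaCore M) :
    U = ⊥ ∧ Cfsg.sigmaCore M = ⁅M, M⁆ ∧ (Nat.card K).Prime ∧ (Nat.card ↥(Cfsg.sigmaCore M ⊓ Subgroup.centralizer (K : Set G))).Prime ∧
      Nat.card ↥(Cfsg.sigmaCore M ⊓ Subgroup.centralizer (K : Set G)) ∣ Nat.card (Cfsg.fittingHallOf M) ∧ Nat.card ↥(Cfsg.sigmaCore M ⊓ Subgroup.centralizer (K : Set G)) ∈ Cfsg.beta M ∧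
      ∃ Q : Subgroup G, Q ≤ Cfsg.fittingHallOf M ∧ M ≤ Subgroup.normalizer (Q : Set G) ∧ IsPGroup (Nat.card ↥(Cfsg.sigmaCore M ⊓ Subgroup.centralizer (K : Set G))) Q ∧
        ¬ Nat.card ↥(Cfsg.sigmaCore M ⊓ Subgroup.centralizer (K : Set G)) ∣ Q.relIndex (Cfsg.sigmaCore M) ∧
        ∀ D : Subgroup G, Cfsg.IsComplIn Q D (Cfsg.sigmaCore M) →
          Group.IsNilpotent D ∧ M ≤ Subgroup.normalizer ((Q ⊓ Subgroup.centralizer (D : Set G) : Subgroup G) : Set G) ∧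
          Q ⊓ Subgroup.centralizer (D : Set G) < Q ∧
          Nat.card Q = Nat.card ↥(Q ⊓ Subgroup.centralizer (D : Set G)) * Nat.card ↥(Cfsg.sigmaCore M ⊓ Subgroup.centralizer (K : Set G)) ^ Nat.card K ∧
          (∀ a ∈ Q, ∀ b ∈ Q, a ^ Nat.card ↥(Cfsg.sigmaCore M ⊓ Subgroup.centralizer (K : Set G)) ∈ Q ⊓ Subgroup.centralizer (D : Set G) ∧
            a * b * a⁻¹ * b⁻¹ ∈ Q ⊓ Subgroup.centralizer (D : Set G)) ∧
          ∀ N : Subgroup G, Q ⊓ Subgroup.centralizer (D : Set G) < N → N < Q → ¬ M ≤ Subgroup.normalizer (N : Set G) := by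
  have hnn := not_nilpotent_of_ne hG hM hne
  have c : Setting M K := ⟨hG, hM, hKU.hall, hnn⟩
  have hU : U = ⊥ := c.U_eq_bot hKU.compl
  have hqp := Cfsg.Agent.S1373.result hG M hM K U hKU c.hK1 hU
  obtain ⟨q, hcard⟩ : ∃ q : ℕ,
      Nat.card ↥(Cfsg.sigmaCore M ⊓ Subgroup.centralizer (K : Set G)) = q := ⟨_, rfl⟩
  rw [hcard] at hqp ⊢
  haveI hq : Fact q.Prime := ⟨hqp⟩
  obtain ⟨D₀, hD₀⟩ := c.exists_compl hcard
  obtain ⟨g₀, hg₀, cx₀⟩ := c.exists_ctx hcard hD₀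
  have hKp : (Nat.card K).Prime := by
    have := cx₀.card_K_prime
    rwa [card_conjSub] at this
  refine ⟨hU, c.der_eq hKU.cyclic, hKp, hqp, ?_, c.q_mem_beta hcard,
    fP (Cfsg.sigmaCore M) q, c.Q_le_fittingHallOf hcard, c.MQ q, fP_isPGroup _ q,
    c.Q_sylow hcard, ?_⟩
  · rw [← hcard]
    exact Subgroup.card_dvd_of_le ((c.Ks_le_fP hcard).trans (c.Q_le_fittingHallOf hcard))
  · intro D hD
    obtain ⟨g, hg, cx⟩ := c.exists_ctx hcard hD
    have c' := c.conj hg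
    have hMle : M ≤ Subgroup.normalizer
        ((fP (Cfsg.sigmaCore M) q ⊓ Subgroup.centralizer (D : Set G) : Subgroup G) : Set G) := by
      have h2 := Cfsg.Agent.Lib.Helper10.isComplIn_sup hD
      exact c'.sup_eq.ge.trans (sup_le
        (h2.ge.trans (sup_le cx.Q_normalizes_Q0 cx.D_normalizes_Q0)) cx.K_normalizes_Q0)
    refine ⟨cx.D_nil, hMle, cx.Q0_lt, ?_, ?_, ?_⟩
    · have := cx.card_Q'
      rwa [card_conjSub] at this
    · intro a ha b hb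
      exact ⟨cx.pow_mem a ha, cx.comm_le (Subgroup.commutator_mem_commutator ha hb)⟩
    · intro N h1 h2 hMN
      exact cx.no_between h1 h2 ((cx.D_le.trans c.MsM).trans hMN) (c'.hKM.trans hMN)

end Cfsg.Agent.Lib.Helper18.FifteenTwo
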