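import Mathlib
import Cfsg.Prelude.Def_OddOrderLocal
import Cfsg.Agent.Lib.Helper18.FifteenTwoH

set_option autoImplicit false

/-! `K* ≤ F(M_σ)` unconditionally (helper18), for helper1's S1435. -/

namespace Cfsg.Agent.Lib.Helper18.FifteenTwo

open Cfsg Cfsg.Agent.Lib.Helper18
open Cfsg.Agent.Lib.Helper11.MaxLocB Cfsg.Agent.Lib.Helper11.MaxSubB

variable {G : Type*} [Group G] [Finite G]

/-- `K* = C_{M_σ}(K)` lies in the Fitting subgroup of `M_σ` -/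
theorem kstar_le_fittingOf (hG : Cfsg.IsMinSimpleOddOrder G) {M : Subgroup G} (hM : IsCoatom M)
    {K U : Subgroup G} (hKU : Cfsg.IsSigmaDecomposition M K U) :
    Cfsg.sigmaCore M ⊓ Subgroup.centralizer (K : Set G) ≤ Cfsg.fittingOf (Cfsg.sigmaCore M) := by
  by_cases hnil : Group.IsNilpotent (Cfsg.sigmaCore M)
  · exact inf_le_left.trans
      (Cfsg.Agent.Lib.Helper18.BGFifteenA.le_fittingOf le_rfl Subgroup.le_normalizer hnil)
  · have c : Setting M K := ⟨hG, hM, hKU.hall, hnil⟩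
    have hU : U = ⊥ := c.U_eq_bot hKU.compl
    have hqp := Cfsg.Agent.S1373.result hG M hM K U hKU c.hK1 hU
    obtain ⟨q, hcard⟩ : ∃ q : ℕ,
        Nat.card ↥(Cfsg.sigmaCore M ⊓ Subgroup.centralizer (K : Set G)) = q := ⟨_, rfl⟩
    rw [hcard] at hqp
    haveI hq : Fact q.Prime := ⟨hqp⟩
    exact (c.Ks_le_fP hcard).trans (fP_le _ q)

/-- when `M_σ` is not nilpotent, `K*` lies in a normal `q`-subgroup `Q` of `M` inside `M_σ`,
`q = |K*|` prime -/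
theorem kstar_le_normal_pgroup (hG : Cfsg.IsMinSimpleOddOrder G) {M : Subgroup G} (hM : IsCoatom M)
    {K U : Subgroup G} (hKU : Cfsg.IsSigmaDecomposition M K U)
    (hnil : ¬ Group.IsNilpotent (Cfsg.sigmaCore M)) :
    ∃ (q : ℕ) (Q : Subgroup G), q.Prime ∧
      Nat.card ↥(Cfsg.sigmaCore M ⊓ Subgroup.centralizer (K : Set G)) = q ∧
      Cfsg.sigmaCore M ⊓ Subgroup.centralizer (K : Set G) ≤ Q ∧ Q ≤ Cfsg.sigmaCore M ∧
      M ≤ Subgroup.normalizer (Q : Set G) ∧ IsPGroup q Q ∧ ¬ q ∣ Q.relIndex (Cfsg.sigmaCore M) := by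
  have c : Setting M K := ⟨hG, hM, hKU.hall, hnil⟩
  have hU : U = ⊥ := c.U_eq_bot hKU.compl
  have hqp := Cfsg.Agent.S1373.result hG M hM K U hKU c.hK1 hU
  obtain ⟨q, hcard⟩ : ∃ q : ℕ,
      Nat.card ↥(Cfsg.sigmaCore M ⊓ Subgroup.centralizer (K : Set G)) = q := ⟨_, rfl⟩
  rw [hcard] at hqp
  haveI hq : Fact q.Prime := ⟨hqp⟩
  exact ⟨q, fP (Cfsg.sigmaCore M) q, hqp, hcard, c.Ks_le_fP hcard, c.Q_le q, c.MQ q,
    fP_isPGroup _ q, c.Q_sylow hcard⟩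

end Cfsg.Agent.Lib.Helper18.FifteenTwo
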