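import Mathlib
import Cfsg.Agent.Lib.Helper18.BLK.Defs
import Cfsg.Agent.Lib.Helper20.HupK

set_option autoImplicit false

namespace Cfsg.Agent.Lib.Helper18.BLK

universe u

/-- generators adapted to a metacyclic quotient by a central subgroup -/
theorem a2x_gens {P : Type u} [Group P] [Finite P] (E : Subgroup P) [E.Normal]
    (hm : Cfsg.IsMetacyclic (P ⧸ E)) :
    ∃ (N : Subgroup P) (_ : N.Normal) (a b : P), a ∈ N ∧ E ≤ N ∧
      (∀ x ∈ N, ∃ s : ℕ, ∃ e ∈ E, x = a ^ s * e) ∧ (∀ g : P, ∃ n : ℕ, ∃ x ∈ N, g = b ^ n * x) := by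
  obtain ⟨Ab, hAbn, hAbc, hQc⟩ := hm
  obtain ⟨a0, ha0⟩ := hAbc.exists_generator
  obtain ⟨b0, hb0⟩ := hQc.exists_generator
  obtain ⟨a, ha⟩ := QuotientGroup.mk_surjective a0.1
  obtain ⟨b1, hb1⟩ := QuotientGroup.mk_surjective b0
  obtain ⟨b, hb⟩ := QuotientGroup.mk_surjective b1
  refine ⟨Ab.comap (QuotientGroup.mk' E), hAbn.comap _, a, b, ?_, ?_, ?_, ?_⟩
  · show (QuotientGroup.mk' E) a ∈ Ab
    rw [QuotientGroup.mk'_apply, ha]; exact a0.2
  · intro e he
    show (QuotientGroup.mk' E) e ∈ Ab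
    rw [QuotientGroup.mk'_apply, (QuotientGroup.eq_one_iff e).mpr he]; exact one_mem _
  · intro x hx
    have hx' : (QuotientGroup.mk x : P ⧸ E) ∈ Ab := hx
    obtain ⟨s, hs⟩ := ha0 ⟨_, hx'⟩
    have hs' : (QuotientGroup.mk a : P ⧸ E) ^ s = QuotientGroup.mk x := by
      have := congrArg Subtype.val hs
      rw [ha]
      simpa using this
    obtain ⟨s', hs''⟩ := Cfsg.Agent.Lib.Helper20.Hup.zpow_eq_pow_nat a s
    have h1 : (a ^ s')⁻¹ * x ∈ E := by
      rw [← QuotientGroup.eq, ← hs', ← hs'', QuotientGroup.mk_zpow]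
    exact ⟨s', _, h1, by group⟩
  · intro g
    obtain ⟨n, hn⟩ := hb0 (QuotientGroup.mk (QuotientGroup.mk g))
    replace hn : b0 ^ n = QuotientGroup.mk (QuotientGroup.mk g) := hn
    obtain ⟨n', hn'⟩ := Cfsg.Agent.Lib.Helper20.Hup.zpow_eq_pow_nat b n
    refine ⟨n', (b ^ n')⁻¹ * g, ?_, by group⟩
    show (QuotientGroup.mk' E) ((b ^ n')⁻¹ * g) ∈ Ab
    rw [QuotientGroup.mk'_apply, QuotientGroup.mk_mul, QuotientGroup.mk_inv, ← QuotientGroup.eq, ← hn,
      ← hb1, ← hb, ← hn', QuotientGroup.mk_zpow, QuotientGroup.mk_zpow]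

/-- **A2x**. central extension of a metacyclic group has cyclic derived subgroup. -/
theorem cyclic_commutator_of_quotient {P : Type u} [Group P] [Finite P] (E : Subgroup P) [E.Normal]
    (hEc : E ≤ Subgroup.center P) (hm : Cfsg.IsMetacyclic (P ⧸ E)) :
    IsCyclic (commutator P) := by
  obtain ⟨N, hNn, a, b, haN, hEN, hN, hb⟩ := a2x_gens E hm
  have hcen : ∀ e ∈ E, ∀ g : P, Commute e g := fun e he g =>
    (Subgroup.mem_center_iff.mp (hEc he) g).symm
  -- `b⁻¹ a b = a^r e₁`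
  have hconj : b⁻¹ * a * b ∈ N := by
    have := hNn.conj_mem a haN b⁻¹
    rwa [inv_inv] at this
  obtain ⟨r, e₁, he₁, hr⟩ := hN _ hconj
  -- the element `t = rc a b`
  set t : P := rc a b with ht
  have ht' : t = a⁻¹ * (a ^ r * e₁) := by
    rw [ht, ← hr]; unfold rc; group
  have hae : Commute a e₁ := (hcen e₁ he₁ a).symm
  -- `a` commutes with `t`
  have hat : Commute a t := by
    rw [ht']
    exact ((Commute.refl a).inv_right).mul_right (((Commute.refl a).pow_right r).mul_right hae)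
  -- `rc (a^s e) b = t^s`
  have hrcN : ∀ (s : ℕ) (e : P), e ∈ E → rc (a ^ s * e) b = t ^ s := by
    intro s e he
    have h1 : rc (a ^ s) b = t ^ s := rc_pow_left_of_commute a b hat s
    have h2 : rc e b = 1 := (rc_eq_one_iff e b).mpr (hcen e he b).eq
    rw [rc_mul_left_of_commute _ _ _ (hcen e he _), h1, h2, mul_one]
  -- `b⁻¹ t b = t^r`
  have hbt : b⁻¹ * t * b = t ^ r := by
    have h1 : b⁻¹ * t * b = rc (b⁻¹ * a * b) b := by rw [ht]; unfold rc; group
    rw [h1, hr, hrcN r e₁ he₁]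
  set T : Subgroup P := Subgroup.zpowers t with hT
  -- elements of `N` commute with `t`
  have hNt : ∀ x ∈ N, Commute x t := by
    intro x hx
    obtain ⟨s, e, he, rfl⟩ := hN x hx
    exact (hat.pow_left s).mul_left (hcen e he t)
  -- right conjugation by `g` preserves `T` as soon as it maps `t` into `T`
  have hPr : ∀ g : P, g⁻¹ * t * g ∈ T → ∀ h ∈ T, g⁻¹ * h * g ∈ T := by
    intro g hg h hh
    obtain ⟨k, rfl⟩ := hh
    have : g⁻¹ * t ^ k * g = (g⁻¹ * t * g) ^ k := by
      have := map_zpow (MulAut.conj g⁻¹) t k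
      simpa [MulAut.conj_apply] using this
    rw [this]
    exact T.zpow_mem hg k
  have hPrb : ∀ h ∈ T, b⁻¹ * h * b ∈ T := hPr b (by rw [hbt]; exact T.pow_mem (Subgroup.mem_zpowers t) r)
  have hPrbn : ∀ n : ℕ, ∀ h ∈ T, (b ^ n)⁻¹ * h * b ^ n ∈ T := by
    intro n
    induction n with
    | zero => intro h hh; simpa using hh
    | succ n ih =>
      intro h hh
      have : (b ^ (n + 1))⁻¹ * h * b ^ (n + 1) = b⁻¹ * ((b ^ n)⁻¹ * h * b ^ n) * b := by
        rw [pow_succ]; group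
      rw [this]
      exact hPrb _ (ih h hh)
  have hPrN : ∀ x ∈ N, ∀ h ∈ T, x⁻¹ * h * x ∈ T := by
    intro x hx
    apply hPr
    have := (hNt x hx).eq
    have h2 : x⁻¹ * t * x = t := by rw [mul_assoc, ← this, ← mul_assoc, inv_mul_cancel, one_mul]
    rw [h2]; exact Subgroup.mem_zpowers t
  have hPrall : ∀ g : P, ∀ h ∈ T, g⁻¹ * h * g ∈ T := by
    intro g h hh
    obtain ⟨n, x, hx, rfl⟩ := hb g
    have : (b ^ n * x)⁻¹ * h * (b ^ n * x) = x⁻¹ * ((b ^ n)⁻¹ * h * b ^ n) * x := by group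
    rw [this]
    exact hPrN x hx _ (hPrbn n h hh)
  have hTn : T.Normal := ⟨fun h hh g => by
    have := hPrall g⁻¹ h hh
    rwa [inv_inv] at this⟩
  -- the quotient by `T` is commutative
  have hcomm : IsMulCommutative (P ⧸ T) := by
    -- images of `a`, `b` commute
    have hAB : Commute (QuotientGroup.mk a : P ⧸ T) (QuotientGroup.mk b) := by
      show (QuotientGroup.mk a : P ⧸ T) * QuotientGroup.mk b = QuotientGroup.mk b * QuotientGroup.mk a
      rw [← QuotientGroup.mk_mul, ← QuotientGroup.mk_mul, QuotientGroup.eq]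
      have : (a * b)⁻¹ * (b * a) = (rc a b)⁻¹ := by unfold rc; group
      rw [this]
      exact T.inv_mem (Subgroup.mem_zpowers t)
    have hE' : ∀ e ∈ E, ∀ q : P ⧸ T, Commute (QuotientGroup.mk e : P ⧸ T) q := by
      intro e he q
      obtain ⟨g, rfl⟩ := QuotientGroup.mk_surjective q
      show (QuotientGroup.mk e : P ⧸ T) * QuotientGroup.mk g = QuotientGroup.mk g * QuotientGroup.mk e
      rw [← QuotientGroup.mk_mul, ← QuotientGroup.mk_mul, (hcen e he g).eq]
    -- every element is `B^n A^s ē`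
    have hform : ∀ q : P ⧸ T, ∃ (n s : ℕ) (e : P), e ∈ E ∧
        q = (QuotientGroup.mk b) ^ n * ((QuotientGroup.mk a) ^ s * QuotientGroup.mk e) := by
      intro q
      obtain ⟨g, rfl⟩ := QuotientGroup.mk_surjective q
      obtain ⟨n, x, hx, rfl⟩ := hb g
      obtain ⟨s, e, he, rfl⟩ := hN x hx
      exact ⟨n, s, e, he, by simp [QuotientGroup.mk_mul, QuotientGroup.mk_pow]⟩
    refine ⟨⟨fun q q' => ?_⟩⟩
    obtain ⟨n, s, e, he, rfl⟩ := hform q
    obtain ⟨n', s', e', he', rfl⟩ := hform q'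
    have c1 : Commute ((QuotientGroup.mk b : P ⧸ T) ^ n) ((QuotientGroup.mk b) ^ n') :=
      (Commute.refl _).pow_pow n n'
    have c2 : Commute ((QuotientGroup.mk b : P ⧸ T) ^ n) ((QuotientGroup.mk a) ^ s') :=
      (hAB.symm).pow_pow n s'
    have c3 : Commute ((QuotientGroup.mk a : P ⧸ T) ^ s) ((QuotientGroup.mk b) ^ n') :=
      hAB.pow_pow s n'
    have c4 : Commute ((QuotientGroup.mk a : P ⧸ T) ^ s) ((QuotientGroup.mk a) ^ s') :=
      (Commute.refl _).pow_pow s s'
    have key : Commute ((QuotientGroup.mk b : P ⧸ T) ^ n * ((QuotientGroup.mk a) ^ s * QuotientGroup.mk e))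
        ((QuotientGroup.mk b) ^ n' * ((QuotientGroup.mk a) ^ s' * QuotientGroup.mk e')) := by
      apply Commute.mul_left
      · exact c1.mul_right (c2.mul_right (hE' e' he' _).symm)
      · apply Commute.mul_left
        · exact c3.mul_right (c4.mul_right (hE' e' he' _).symm)
        · exact hE' e he _
    exact key.eq
  have hle : commutator P ≤ T := Subgroup.Normal.quotient_commutative_iff_commutator_le.mp hcomm
  exact isCyclic_of_injective (Subgroup.inclusion hle) (Subgroup.inclusion_injective hle)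

end Cfsg.Agent.Lib.Helper18.BLK
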