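import Mathlib
import Cfsg.Agent.Lib.Helper18.BLK.LemmaA
import Cfsg.Agent.Lib.helper6.BLKSM
import Cfsg.Agent.Lib.Helper10.BLKT1
import Cfsg.Agent.Lib.Helper20.HupE

/-! Project BLK, piece S3 : the `p`-th power map is multiplicative on `D = {c ∈ C : c^p ∈ E}`. -/

set_option autoImplicit false

namespace Cfsg.Agent.Lib.Helper18.BLK

universe u

/-- **S3**. in `C`, the `p`-th power map is multiplicative on `D = {c ∈ C : c^p ∈ E}`. -/
theorem Base.pow_mul_C {G : Type u} [Group G] [Finite G] {p : ℕ} [Fact p.Prime] {E : Subgroup G}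
    {z₀ : G} (B : Base p E z₀) (c d : G) (hc : c ∈ Subgroup.centralizer (E : Set G))
    (hd : d ∈ Subgroup.centralizer (E : Set G)) (hcp : c ^ p ∈ E) (hdp : d ^ p ∈ E) :
    (c * d) ^ p = c ^ p * d ^ p := by
  have hE : Cfsg.IsElementaryAbelian p E :=
    ⟨⟨⟨fun a b => Subtype.ext (B.cE a a.2 b b.2)⟩⟩, B.eE⟩
  set C : Subgroup G := Subgroup.centralizer (E : Set G) with hC
  -- the subgroup `E ∩ C` of the group `↥C`
  set E' : Subgroup C := E.subgroupOf C with hE'
  have hE'c : E' ≤ Subgroup.center C := by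
    intro a ha
    rw [Subgroup.mem_center_iff]
    intro b
    apply Subtype.ext
    have ha' : (a : G) ∈ E := Subgroup.mem_subgroupOf.mp ha
    have := Subgroup.mem_centralizer_iff.mp b.2 (a : G) ha'
    simpa using this.symm
  have hE'card : Nat.card E' ≤ p ^ 2 := by
    rw [← B.cardE]
    exact Cfsg.Agent.Lib.Helper20.Hup.card_subgroupOf_le E C
  have hTE : ∀ x : C, x ^ p = 1 → x ∈ E' := by
    intro x hx
    rw [hE', Subgroup.mem_subgroupOf]
    refine mem_E_of_pow B.rk E hE B.cardE _ x.2 ?_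
    have := congrArg Subtype.val hx
    simpa using this
  have key := rc_mem_of_pow_mem B.hp2 (B.pG.to_subgroup C) E' hE'c hE'card hTE
    (⟨d, hd⟩ : C) ⟨c, hc⟩ (by
      rw [hE', Subgroup.mem_subgroupOf]; simpa using hdp)
  have hrc : rc d c ∈ E := by
    have := Subgroup.mem_subgroupOf.mp key
    simpa [rc] using this
  refine pow_mul_local p B.hp2 c d ?_ ?_ (B.eE _ hrc)
  · exact (Subgroup.mem_centralizer_iff.mp hc _ hrc).symm
  · exact (Subgroup.mem_centralizer_iff.mp hd _ hrc).symm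

end Cfsg.Agent.Lib.Helper18.BLK
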