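import Mathlib
import Cfsg.Agent.Lib.Helper18.BLK.Defs

/-! Project BLK : small helper lemmas about `C = centralizer E` (used by pieces S3, S5, S6, S7). -/

set_option autoImplicit false

namespace Cfsg.Agent.Lib.Helper18.BLK

/-- membership in the centralizer of `E`, as commutation -/
theorem commute_of_mem_centralizer_h18 {G : Type*} [Group G] {E : Subgroup G} {c e : G}
    (hc : c ∈ Subgroup.centralizer (E : Set G)) (he : e ∈ E) : Commute c e := by
  have := Subgroup.mem_centralizer_iff.mp hc e he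
  exact this.symm

theorem E_le_C_h18 {G : Type*} [Group G] {p : ℕ} {E : Subgroup G} {z₀ : G} (B : Base p E z₀) :
    E ≤ Subgroup.centralizer (E : Set G) := by
  intro a ha
  rw [Subgroup.mem_centralizer_iff]
  intro b hb
  exact B.cE b hb a ha

theorem conj_mem_C_h18 {G : Type*} [Group G] {p : ℕ} {E : Subgroup G} {z₀ : G} (B : Base p E z₀)
    {c : G} (hc : c ∈ Subgroup.centralizer (E : Set G)) (g : G) :
    g⁻¹ * c * g ∈ Subgroup.centralizer (E : Set G) := by
  have hnE := B.nE
  have hn : (Subgroup.centralizer (E : Set G)).Normal := Subgroup.normal_centralizer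
  have := hn.conj_mem c hc g⁻¹
  rwa [inv_inv] at this

theorem conj_pow_h18 {G : Type*} [Group G] (g a : G) (k : ℕ) :
    (g⁻¹ * a * g) ^ k = g⁻¹ * a ^ k * g := by
  have := map_pow (MulAut.conj g⁻¹) a k
  simpa [MulAut.conj_apply] using this.symm

theorem isElementaryAbelian_h18 {G : Type*} [Group G] {p : ℕ} {E : Subgroup G} {z₀ : G}
    (B : Base p E z₀) : Cfsg.IsElementaryAbelian p E :=
  ⟨⟨⟨fun a b => Subtype.ext (B.cE a a.2 b b.2)⟩⟩, B.eE⟩

end Cfsg.Agent.Lib.Helper18.BLK
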