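import Mathlib
import Cfsg.Agent.Lib.Helper18.BLKS3
import Cfsg.Agent.Lib.Helper18.BLKS7
import Cfsg.Agent.Lib.helper6.BLKSM

/-! Project BLK, pieces S5, S6, S7 : the subgroup `D_Z = ⟨u₁⟩ E`. -/

set_option autoImplicit false

namespace Cfsg.Agent.Lib.Helper18.BLK

universe u

/-- **S6**. `[D_Z, G] ≤ E`. -/
theorem Base.rc_u1_mem_E {G : Type u} [Group G] [Finite G] {p : ℕ} [Fact p.Prime] {E : Subgroup G}
    {z₀ : G} (B : Base p E z₀) (u₁ : G) (hu : u₁ ∈ Subgroup.centralizer (E : Set G))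
    (hup : u₁ ^ p = z₀) (g : G) : rc u₁ g ∈ E := by
  have hE : Cfsg.IsElementaryAbelian p E :=
    ⟨⟨⟨fun a b => Subtype.ext (B.cE a a.2 b b.2)⟩⟩, B.eE⟩
  have hc : u₁⁻¹ ∈ Subgroup.centralizer (E : Set G) := Subgroup.inv_mem _ hu
  have hd : g⁻¹ * u₁ * g ∈ Subgroup.centralizer (E : Set G) := conj_mem_C_h18 B hu g
  have hcp : u₁⁻¹ ^ p ∈ E := by
    rw [inv_pow, hup]; exact E.inv_mem B.z₀E
  have hz : g⁻¹ * z₀ * g = z₀ := by
    have := Subgroup.mem_center_iff.mp B.z₀c g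
    rw [mul_assoc, ← this, ← mul_assoc, inv_mul_cancel, one_mul]
  have hdp : (g⁻¹ * u₁ * g) ^ p ∈ E := by
    rw [conj_pow_h18, hup, hz]; exact B.z₀E
  have hrc : rc u₁ g = u₁⁻¹ * (g⁻¹ * u₁ * g) := by unfold rc; group
  have hpow : (rc u₁ g) ^ p = 1 := by
    rw [hrc, B.pow_mul_C _ _ hc hd hcp hdp, conj_pow_h18, hup, hz, inv_pow, hup, inv_mul_cancel]
  have hmem : rc u₁ g ∈ Subgroup.centralizer (E : Set G) := by
    rw [hrc]; exact Subgroup.mul_mem _ hc hd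
  exact mem_E_of_pow B.rk E hE B.cardE _ hmem hpow

/-- **S7**. `rc (·) g` is multiplicative on `D_Z`. -/
theorem Base.rc_DZ {G : Type u} [Group G] [Finite G] {p : ℕ} [Fact p.Prime] {E : Subgroup G}
    {z₀ : G} (B : Base p E z₀) (u₁ : G) (hu : u₁ ∈ Subgroup.centralizer (E : Set G))
    (hup : u₁ ^ p = z₀) (j : ℕ) (e : G) (he : e ∈ E) (g : G) :
    rc (u₁ ^ j * e) g = rc u₁ g ^ j * rc e g := by
  have h1 : rc u₁ g ∈ E := Base.rc_u1_mem_E B u₁ hu hup g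
  have hc1 : Commute u₁ (rc u₁ g) := commute_of_mem_centralizer_h18 hu h1
  have h2 : rc (u₁ ^ j) g = rc u₁ g ^ j := rc_pow_left_of_commute u₁ g hc1 j
  have h3 : Commute e (rc (u₁ ^ j) g) := by
    rw [h2]
    exact B.cE e he _ (E.pow_mem h1 j)
  rw [rc_mul_left_of_commute _ _ _ h3, h2]

/-- **S5**. `D_Z = {c ∈ C : c^p ∈ Z} = ⟨u₁⟩ E`. -/
theorem Base.DZ_mem {G : Type u} [Group G] [Finite G] {p : ℕ} [Fact p.Prime] {E : Subgroup G}
    {z₀ : G} (B : Base p E z₀) (u₁ : G) (hu : u₁ ∈ Subgroup.centralizer (E : Set G))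
    (hup : u₁ ^ p = z₀) (c : G) (hc : c ∈ Subgroup.centralizer (E : Set G))
    (hcp : c ^ p ∈ Subgroup.zpowers z₀) : ∃ j : ℕ, ∃ e ∈ E, c = u₁ ^ j * e := by
  have hE : Cfsg.IsElementaryAbelian p E :=
    ⟨⟨⟨fun a b => Subtype.ext (B.cE a a.2 b b.2)⟩⟩, B.eE⟩
  have hp0 : 0 < p := (Fact.out : p.Prime).pos
  -- `c^p = z₀^i` with `i < p`
  have hfin : IsOfFinOrder z₀ := isOfFinOrder_of_finite z₀
  obtain ⟨i, hi⟩ := (hfin.mem_powers_iff_mem_zpowers.mpr hcp)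
  -- choose `j` with `i + j ≡ 0 mod p`
  have hz0p : z₀ ^ p = 1 := by rw [← B.z₀o]; exact pow_orderOf_eq_one z₀
  set j := i * (p - 1) with hj
  have hij : z₀ ^ (i + j) = 1 := by
    have : i + j = i * p := by
      rw [hj]
      have : p = (p - 1) + 1 := by omega
      conv_rhs => rw [this]
      ring
    rw [this, mul_comm, pow_mul, hz0p, one_pow]
  have hd : u₁ ^ j ∈ Subgroup.centralizer (E : Set G) := Subgroup.pow_mem _ hu j
  have hdp : (u₁ ^ j) ^ p ∈ E := by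
    rw [← pow_mul, mul_comm, pow_mul, hup]; exact E.pow_mem B.z₀E j
  have hcpE : c ^ p ∈ E := by
    have : c ^ p = z₀ ^ i := hi.symm
    rw [this]; exact E.pow_mem B.z₀E i
  have hpow : (c * u₁ ^ j) ^ p = 1 := by
    rw [B.pow_mul_C _ _ hc hd hcpE hdp, ← pow_mul u₁, mul_comm j p, pow_mul, hup]
    have : c ^ p = z₀ ^ i := hi.symm
    rw [this, ← pow_add]; exact hij
  have hmem : c * u₁ ^ j ∈ E :=
    mem_E_of_pow B.rk E hE B.cardE _ (Subgroup.mul_mem _ hc hd) hpow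
  -- `u₁^(p^2) = 1`, so `(u₁^j)⁻¹ = u₁^(j')`
  have hu1 : u₁ ^ (p * p) = 1 := by rw [pow_mul, hup, hz0p]
  refine ⟨j * (p * p - 1), c * u₁ ^ j, hmem, ?_⟩
  have hinv : u₁ ^ (j * (p * p - 1)) * u₁ ^ j = 1 := by
    rw [← pow_add]
    have : j * (p * p - 1) + j = j * (p * p) := by
      have h1 : 1 ≤ p * p := Nat.mul_pos hp0 hp0
      have : p * p = (p * p - 1) + 1 := by omega
      conv_rhs => rw [this]
      ring
    rw [this, mul_comm, pow_mul, hu1, one_pow]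
  have hcomm : Commute (u₁ ^ (j * (p * p - 1))) (c * u₁ ^ j) :=
    commute_of_mem_centralizer_h18 (Subgroup.pow_mem _ hu _) hmem
  calc c = (u₁ ^ (j * (p * p - 1)) * u₁ ^ j) * c := by rw [hinv, one_mul]
    _ = u₁ ^ (j * (p * p - 1)) * (c * u₁ ^ j) := by
      have h2 : Commute (u₁ ^ j) (c * u₁ ^ j) :=
        commute_of_mem_centralizer_h18 (Subgroup.pow_mem _ hu _) hmem
      -- u₁^j * c = c * u₁^j follows from h2
      have h3 : u₁ ^ j * c = c * u₁ ^ j := by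
        have := h2.eq
        -- u₁^j * (c * u₁^j) = (c * u₁^j) * u₁^j
        have h4 : u₁ ^ j * c * u₁ ^ j = c * u₁ ^ j * u₁ ^ j := by rw [mul_assoc]; exact this
        exact mul_right_cancel h4
      rw [mul_assoc, h3]

end Cfsg.Agent.Lib.Helper18.BLK
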