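import Mathlib
import Cfsg.Agent.Lib.helper15.PSL.Defs

/-!
# Project PSL (S4504), piece LNN : `subtype_not_normal`
-/

set_option autoImplicit false
set_option linter.unusedVariables false
set_option linter.unusedSectionVars false
set_option linter.style.haveILetI false
open scoped ComplexConjugate
open Classical

namespace Cfsg.Agent.Lib.helper15.PSL

open Cfsg.Agent.Lib.helper7 Cfsg.Agent.Lib.helper7.BR Cfsg.Agent.Lib.helper2 Cfsg.Agent.Lib.Helper25
  Cfsg.Agent.Lib.Helper29 Cfsg.Agent.Lib.helper15.BH

universe u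

variable {G : Type u} [Group G] [Fintype G] {p : ℕ} [Fact p.Prime]

/-- LNN : `P` is not normal in a normal subgroup `K ≥ P` if it is not normal in `G` -/
theorem subtype_not_normal (K : Subgroup G) [K.Normal] (P : Sylow p G)
    (hPK : (P : Subgroup G) ≤ K) (hPn : ¬ (P : Subgroup G).Normal) :
    ¬ ((P.subtype hPK : Sylow p ↥K) : Subgroup ↥K).Normal := by
  intro hnorm
  apply hPn
  haveI : ((P.subtype hPK : Sylow p ↥K) : Subgroup ↥K).Characteristic :=
    Sylow.characteristic_of_normal (P.subtype hPK) hnorm
  have hmap : (((P.subtype hPK : Sylow p ↥K) : Subgroup ↥K).map K.subtype).Normal :=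
    inferInstance
  have heq : ((P.subtype hPK : Sylow p ↥K) : Subgroup ↥K).map K.subtype = (P : Subgroup G) :=
    Subgroup.map_subgroupOf_eq_of_le hPK
  rw [heq] at hmap
  exact hmap

end Cfsg.Agent.Lib.helper15.PSL
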