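import Mathlib
import Cfsg.Agent.Lib.helper15.PSL.Defs

/-!
# Project PSL (S4504), piece LRED : `closure_noK`
-/

set_option autoImplicit false
set_option linter.unusedVariables false
set_option linter.unusedSectionVars false
set_option linter.style.haveILetI false
open scoped ComplexConjugate
open Classical

namespace Cfsg.Agent.Lib.helper15.PSL

open Cfsg.Agent.Lib.helper7 Cfsg.Agent.Lib.helper7.BR Cfsg.Agent.Lib.helper2 Cfsg.Agent.Lib.Helper25
  Cfsg.Agent.Lib.Helper29 Cfsg.Agent.Lib.helper15.BH

universe u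

variable {G : Type u} [Group G] [Fintype G] {p : ℕ} [Fact p.Prime]

/-- a normal subgroup of `K` containing one Sylow `p`-subgroup of `K` contains all of them -/
theorem psllred_sylow_le {K : Type*} [Group K] [Finite K] (P' : Sylow p K) (L : Subgroup K)
    (hL : L.Normal) (hPL : (P' : Subgroup K) ≤ L) (Q : Sylow p K) : (Q : Subgroup K) ≤ L := by
  obtain ⟨k, hk⟩ := MulAction.exists_smul_eq K P' Q
  rw [← hk]
  intro x hx
  rw [Sylow.coe_subgroup_smul, Subgroup.mem_pointwise_smul_iff_inv_smul_mem] at hx
  have h1 : (MulAut.conj k)⁻¹ • x ∈ L := hPL hx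
  rw [MulAut.smul_def, MulAut.conj_inv_apply] at h1
  have h2 := hL.conj_mem _ h1 k
  have h3 : k * (k⁻¹ * x * k) * k⁻¹ = x := by group
  rwa [h3] at h2

/-- LRED : no proper normal subgroup of the normal closure `K` of `P` contains `P` -/
theorem closure_noK (P : Sylow p G)
    (hPK : (P : Subgroup G) ≤ Subgroup.normalClosure ((P : Subgroup G) : Set G)) :
    ∀ L : Subgroup ↥(Subgroup.normalClosure ((P : Subgroup G) : Set G)), L.Normal →
      ((P.subtype hPK : Sylow p ↥(Subgroup.normalClosure ((P : Subgroup G) : Set G))) :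
        Subgroup ↥(Subgroup.normalClosure ((P : Subgroup G) : Set G))) ≤ L → L = ⊤ := by
  intro L hL hPL
  have hKn : (Subgroup.normalClosure ((P : Subgroup G) : Set G)).Normal :=
    Subgroup.normalClosure_normal
  have hsyl := psllred_sylow_le (P.subtype hPK) L hL hPL
  have hle : Subgroup.normalClosure ((P : Subgroup G) : Set G) ≤
      L.map (Subgroup.normalClosure ((P : Subgroup G) : Set G)).subtype := by
    change Subgroup.closure (Group.conjugatesOfSet ((P : Subgroup G) : Set G)) ≤ _
    rw [Subgroup.closure_le]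
    intro y hy
    obtain ⟨x, hx, hc⟩ := Group.mem_conjugatesOfSet_iff.mp hy
    obtain ⟨g, hg⟩ := isConj_iff.mp hc
    -- the Sylow subgroup `g • P`
    have hQK : ((g • P : Sylow p G) : Subgroup G) ≤
        Subgroup.normalClosure ((P : Subgroup G) : Set G) := by
      intro z hz
      rw [Sylow.coe_subgroup_smul, Subgroup.mem_pointwise_smul_iff_inv_smul_mem] at hz
      rw [MulAut.smul_def, MulAut.conj_inv_apply] at hz
      have h2 := hKn.conj_mem _ (hPK hz) g
      have h3 : g * (g⁻¹ * z * g) * g⁻¹ = z := by group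
      rwa [h3] at h2
    have hyQ : y ∈ ((g • P : Sylow p G) : Subgroup G) := by
      rw [Sylow.coe_subgroup_smul, Subgroup.mem_pointwise_smul_iff_inv_smul_mem,
        MulAut.smul_def, MulAut.conj_inv_apply, ← hg]
      have h3 : g⁻¹ * (g * x * g⁻¹) * g = x := by group
      rw [h3]
      exact hx
    have hyK : y ∈ Subgroup.normalClosure ((P : Subgroup G) : Set G) := hQK hyQ
    have hyL : (⟨y, hyK⟩ : ↥(Subgroup.normalClosure ((P : Subgroup G) : Set G))) ∈ L := by
      apply hsyl ((g • P : Sylow p G).subtype hQK)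
      rw [Sylow.coe_subtype, Subgroup.mem_subgroupOf]
      exact hyQ
    exact ⟨⟨y, hyK⟩, hyL, rfl⟩
  rw [eq_top_iff]
  intro k _
  obtain ⟨l, hl, hlk⟩ := hle k.2
  have : l = k := Subtype.ext hlk
  rw [← this]
  exact hl

end Cfsg.Agent.Lib.helper15.PSL
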