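import Mathlib
import Cfsg.Agent.Lib.Helper22.C3L.Defs

set_option autoImplicit false
set_option linter.unusedVariables false
set_option linter.unusedSectionVars false

/-!
# Project C3L, piece BORB (helper18): core of `b_orbit`, with the statement of `u_orb` as a hypothesis.
-/

namespace Cfsg.Agent.Lib.Helper22.C3L

open Module

variable {F K V : Type*} [Field F] [Field K] [Algebra F K] [AddCommGroup V] [Module F V] [Module K V]
  [IsScalarTower F K V]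

/-- the conjugate `h U h⁻¹` of the group of UORB: fixes `h ℓ` pointwise and moves `y ∉ h ℓ` to any point of
`y + h ℓ`. -/
theorem c3lborb_conj
    (huorb : ∀ {v y z : V}, y ∉ Kl F K v → z ∈ Kl F K v →
      ∃ u ∈ C1 F K V, (∀ x ∈ Kl F K v, u x = x) ∧ u y = y + z ∧ ∀ x, u x - x ∈ Kl F K v)
    (H : Subgroup (V ≃ₗ[F] V)) (hC : C1 F K V ≤ H) {v : V} {h : V ≃ₗ[F] V} (hh : h ∈ H) {y z : V}
    (hy : y ∉ (Kl F K v).map (h : V →ₗ[F] V)) (hz : z ∈ (Kl F K v).map (h : V →ₗ[F] V)) :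
    ∃ u ∈ H, (∀ d ∈ (Kl F K v).map (h : V →ₗ[F] V), u d = d) ∧ u y = y + z := by
  obtain ⟨z0, hz0, rfl⟩ := Submodule.mem_map.mp hz
  have hy0 : h.symm y ∉ Kl F K v := by
    intro hc
    apply hy
    exact Submodule.mem_map.mpr ⟨h.symm y, hc, by simp⟩
  obtain ⟨u, huC, hu1, hu2, -⟩ := huorb hy0 hz0
  refine ⟨h * u * h⁻¹, H.mul_mem (H.mul_mem hh (hC huC)) (H.inv_mem hh), ?_, ?_⟩
  · intro d hd
    obtain ⟨d0, hd0, rfl⟩ := Submodule.mem_map.mp hd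
    rw [LinearEquiv.mul_apply, LinearEquiv.mul_apply]
    have : (h⁻¹ : V ≃ₗ[F] V) ((h : V →ₗ[F] V) d0) = d0 := by
      change h.symm (h d0) = d0
      simp
    rw [this, hu1 d0 hd0]
    rfl
  · rw [LinearEquiv.mul_apply, LinearEquiv.mul_apply]
    have : (h⁻¹ : V ≃ₗ[F] V) y = h.symm y := rfl
    rw [this, hu2, map_add]
    simp

/-- core of BORB. -/
theorem c3lborb_core
    (huorb : ∀ {v y z : V}, y ∉ Kl F K v → z ∈ Kl F K v →
      ∃ u ∈ C1 F K V, (∀ x ∈ Kl F K v, u x = x) ∧ u y = y + z ∧ ∀ x, u x - x ∈ Kl F K v)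
    (H : Subgroup (V ≃ₗ[F] V)) (hC : C1 F K V ≤ H)
    {v : V} {h : V ≃ₗ[F] V} (hh : h ∈ H)
    (hne : ¬ (Kl F K v).map (h : V →ₗ[F] V) ≤ Kl F K v) {x x' : V}
    (hx : x ∈ Kl F K v) (hx2 : x ∉ (Kl F K v).map (h : V →ₗ[F] V))
    (hx' : x' ∈ Kl F K v) (hx'2 : x' ∉ (Kl F K v).map (h : V →ₗ[F] V)) :
    ∃ g ∈ H, g x = x' ∧ ∀ d ∈ Kl F K v, d ∈ (Kl F K v).map (h : V →ₗ[F] V) → g d = d := by
  obtain ⟨y', hy'1, hy'2⟩ := SetLike.not_le_iff_exists.mp hne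
  -- u₁
  obtain ⟨u1, hu1H, hu1fix, hu1x⟩ := c3lborb_conj huorb H hC hh hx2 hy'1
  -- u₂
  have hxy : x + y' ∉ Kl F K v := by
    intro hc
    apply hy'2
    have := (Kl F K v).sub_mem hc hx
    simpa using this
  obtain ⟨u2, hu2C, hu2fix, hu2x, -⟩ := huorb hxy ((Kl F K v).sub_mem hx' hx)
  -- u₃
  have hx'y : x' + y' ∉ (Kl F K v).map (h : V →ₗ[F] V) := by
    intro hc
    apply hx'2
    have := ((Kl F K v).map (h : V →ₗ[F] V)).sub_mem hc hy'1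
    simpa using this
  obtain ⟨u3, hu3H, hu3fix, hu3x⟩ := c3lborb_conj huorb H hC hh hx'y
    (((Kl F K v).map (h : V →ₗ[F] V)).neg_mem hy'1)
  refine ⟨u3 * u2 * u1, H.mul_mem (H.mul_mem hu3H (hC hu2C)) hu1H, ?_, ?_⟩
  · rw [LinearEquiv.mul_apply, LinearEquiv.mul_apply, hu1x, hu2x]
    have : x + y' + (x' - x) = x' + y' := by abel
    rw [this, hu3x]
    abel
  · intro d hd1 hd2
    rw [LinearEquiv.mul_apply, LinearEquiv.mul_apply, hu1fix d hd2, hu2fix d hd1, hu3fix d hd2]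

end Cfsg.Agent.Lib.Helper22.C3L
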