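import Mathlib
import Cfsg.Agent.Lib.Helper22.C3L.Defs
import Cfsg.Agent.Lib.Helper24.C3LGEN

set_option autoImplicit false
set_option linter.unusedVariables false
set_option linter.unusedSectionVars false

/-!
# Project C3L, piece UTR (helper18, second writer): `u_orb`, `c1_trans`.
-/

namespace Cfsg.Agent.Lib.Helper22.C3L

open Module

variable {F K V : Type*} [Field F] [Field K] [Algebra F K] [AddCommGroup V] [Module F V] [Module K V]
  [IsScalarTower F K V]

/-- a `K`-linear functional vanishing on `K v` with value `1` at `y ∉ K v`. -/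
theorem c3lutr_dual {v y : V} (hy : y ∉ Kl F K v) :
    ∃ ψ : Module.Dual K V, ψ v = 0 ∧ ψ y = 1 := by
  have hy' : y ∉ Submodule.span K {v} := hy
  obtain ⟨f, hf, hf'⟩ := Submodule.exists_dual_map_eq_bot_of_notMem hy' inferInstance
  have hfv : f v = 0 := by
    have : f v ∈ (Submodule.span K {v}).map f :=
      Submodule.mem_map_of_mem (Submodule.mem_span_singleton_self v)
    rw [hf'] at this
    exact (Submodule.mem_bot K).mp this
  refine ⟨(f y)⁻¹ • f, ?_, ?_⟩
  · rw [LinearMap.smul_apply, hfv, smul_zero]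
  · rw [LinearMap.smul_apply, smul_eq_mul, inv_mul_cancel₀ hf]

/-- UORB [S-M] the `K`-transvections with centre in `K v` and axis containing `K v`: they fix `K v` pointwise and
move `y ∉ K v` to any point of `y + K v`.  (`ψ` a `K`-linear functional with `ψ v = 0`, `ψ y = 1`; `u x = x + ψ x • z`.) -/
theorem u_orb [FiniteDimensional F K] [FiniteDimensional K V] {v y z : V} (hy : y ∉ Kl F K v) (hz : z ∈ Kl F K v) :
    ∃ u ∈ C1 F K V, (∀ x ∈ Kl F K v, u x = x) ∧ u y = y + z ∧ ∀ x, u x - x ∈ Kl F K v := by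
  obtain ⟨ψ, hψv, hψy⟩ := c3lutr_dual hy
  obtain ⟨a, rfl⟩ := (mem_Kl F K).mp hz
  have h : ψ (a • v) = 0 := by rw [map_smul, hψv, smul_zero]
  refine ⟨(LinearEquiv.transvection h).restrictScalars F, ktv_mem h, ?_, ?_, ?_⟩
  · intro x hx
    obtain ⟨b, rfl⟩ := (mem_Kl F K).mp hx
    change LinearEquiv.transvection h (b • v) = b • v
    rw [LinearEquiv.transvection.apply, map_smul, hψv, smul_zero, zero_smul, add_zero]
  · change LinearEquiv.transvection h y = y + a • v
    rw [LinearEquiv.transvection.apply, hψy, one_smul]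
  · intro x
    change LinearEquiv.transvection h x - x ∈ Kl F K v
    rw [LinearEquiv.transvection.apply, add_sub_cancel_left, smul_smul]
    exact smul_mem_Kl F K _ v

/-- `C1` moves `v` to `w` when `w ∉ K v`. -/
theorem c3lutr_trans1 [FiniteDimensional F K] [FiniteDimensional K V] {v w : V} (hv : v ≠ 0)
    (hw : w ∉ Kl F K v) : ∃ g ∈ C1 F K V, g v = w := by
  have hvw : v ∉ Kl F K w := by
    intro hc
    obtain ⟨a, ha⟩ := (mem_Kl F K).mp hc
    have ha0 : a ≠ 0 := by
      rintro rfl
      rw [zero_smul] at ha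
      exact hv ha.symm
    apply hw
    rw [mem_Kl]
    exact ⟨a⁻¹, by rw [← ha, smul_smul, inv_mul_cancel₀ ha0, one_smul]⟩
  obtain ⟨u1, hu1, -, hu1v, -⟩ := u_orb (F := F) (K := K) hvw (self_mem_Kl F K w)
  have hvw2 : v + w ∉ Kl F K v := by
    intro hc
    apply hw
    have := (Kl F K v).sub_mem hc (self_mem_Kl F K v)
    simpa using this
  obtain ⟨u2, hu2, -, hu2v, -⟩ := u_orb (F := F) (K := K) hvw2 ((Kl F K v).neg_mem (self_mem_Kl F K v))
  refine ⟨u2 * u1, (C1 F K V).mul_mem hu2 hu1, ?_⟩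
  rw [LinearEquiv.mul_apply, hu1v, hu2v]
  abel

/-- TRANS [M] `C1` is transitive on the non-zero vectors (`dim_K V ≥ 2`).  (If `w ∉ K v`: one `K`-transvection
`x ↦ x + ψ x • (w - v)`, `ψ v = 1 = ψ w`.  If `w ∈ K v`: go through a vector outside `K v`.) -/
theorem c1_trans [FiniteDimensional F K] [FiniteDimensional K V] (hm : 2 ≤ finrank K V) {v w : V} (hv : v ≠ 0)
    (hw : w ≠ 0) : ∃ g ∈ C1 F K V, g v = w := by
  by_cases hwv : w ∈ Kl F K v
  · -- a vector outside `K v`
    obtain ⟨y, hy⟩ : ∃ y : V, y ∉ Kl F K v := by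
      by_contra hall0
      have hall : ∀ x : V, x ∈ Kl F K v := fun x => by
        by_contra hx
        exact hall0 ⟨x, hx⟩
      have htop : Submodule.span K {v} = ⊤ := by
        rw [eq_top_iff]
        intro x _
        exact hall x
      have h1 : finrank K (Submodule.span K {v}) = 1 := finrank_span_singleton hv
      rw [htop, finrank_top] at h1
      omega
    have hy0 : y ≠ 0 := by
      rintro rfl
      exact hy ((Kl F K v).zero_mem)
    obtain ⟨a, ha⟩ := (mem_Kl F K).mp hwv
    have ha0 : a ≠ 0 := by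
      rintro rfl
      rw [zero_smul] at ha
      exact hw ha.symm
    have hwy : w ∉ Kl F K y := by
      intro hc
      obtain ⟨b, hb⟩ := (mem_Kl F K).mp hc
      have hb0 : b ≠ 0 := by
        rintro rfl
        rw [zero_smul] at hb
        exact hw hb.symm
      apply hy
      rw [mem_Kl]
      refine ⟨b⁻¹ * a, ?_⟩
      rw [← smul_smul, ha, ← hb, smul_smul, inv_mul_cancel₀ hb0, one_smul]
    obtain ⟨g1, hg1, hg1v⟩ := c3lutr_trans1 (F := F) (K := K) hv hy
    obtain ⟨g2, hg2, hg2v⟩ := c3lutr_trans1 (F := F) (K := K) hy0 hwy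
    exact ⟨g2 * g1, (C1 F K V).mul_mem hg2 hg1, by rw [LinearEquiv.mul_apply, hg1v, hg2v]⟩
  · exact c3lutr_trans1 hv hwv

end Cfsg.Agent.Lib.Helper22.C3L
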