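import Mathlib
import Cfsg.Agent.Lib.Helper22.C3L.Defs
import Cfsg.Agent.Lib.Helper18.C3LBORBcore
import Cfsg.Agent.Lib.Helper18.C3LUTR

set_option autoImplicit false
set_option linter.unusedVariables false
set_option linter.unusedSectionVars false

/-!
# Project C3L, piece BORB (helper18): `b_orbit`.
-/

namespace Cfsg.Agent.Lib.Helper22.C3L

open Module

variable {F K V : Type*} [Field F] [Field K] [Algebra F K] [AddCommGroup V] [Module F V] [Module K V]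
  [IsScalarTower F K V]

/-- BORB [M] `ℓ = K v`, `ℓ' = h ℓ ⊄ ℓ` (`h ∈ H`): any two points `x, x'` of `ℓ ∖ ℓ'` are conjugate under an element of `H`
that fixes `ℓ ∩ ℓ'` pointwise.  (`y' ∈ ℓ' ∖ ℓ`; `u₁ ∈ h U h⁻¹` (`U` as in UORB), `u₁ x = x + y'`; `u₂ ∈ U`,
`u₂ (x + y') = x' + y'`; `u₃ ∈ h U h⁻¹`, `u₃ (x' + y') = x'`; `U` fixes `ℓ` pointwise, `h U h⁻¹` fixes `ℓ'` pointwise.) -/
theorem b_orbit [FiniteDimensional F K] [FiniteDimensional K V] (H : Subgroup (V ≃ₗ[F] V)) (hC : C1 F K V ≤ H)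
    {v : V} {h : V ≃ₗ[F] V} (hh : h ∈ H)
    (hne : ¬ (Kl F K v).map (h : V →ₗ[F] V) ≤ Kl F K v) {x x' : V}
    (hx : x ∈ Kl F K v) (hx2 : x ∉ (Kl F K v).map (h : V →ₗ[F] V))
    (hx' : x' ∈ Kl F K v) (hx'2 : x' ∉ (Kl F K v).map (h : V →ₗ[F] V)) :
    ∃ g ∈ H, g x = x' ∧ ∀ d ∈ Kl F K v, d ∈ (Kl F K v).map (h : V →ₗ[F] V) → g d = d :=
  c3lborb_core (fun hy hz => u_orb hy hz) H hC hh hne hx hx2 hx' hx'2

end Cfsg.Agent.Lib.Helper22.C3L
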