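import Mathlib
import Cfsg.Agent.Lib.helper3.CEUO.Defs2
import Cfsg.Agent.Lib.Helper27.STU.Defs3
import Cfsg.Agent.Lib.helper8.STULA1
import Cfsg.Agent.Lib.Helper25.STULA2

/-!
# Project CEUO (sub-designer helper3, the odd case of CEU / S2089), rows A2 `eq_of_v` and A3 `lift_unique` (helper18), VERBATIM.
Self-contained on `CEUO/Defs2.lean` + `Lam` lemmas (A1 `exists_tr_of_v` is helper22's row: an own-name copy `ceuoa2_exists_tr_of_v` is used here).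
-/

set_option autoImplicit false

namespace Cfsg.Agent.Lib.helper3.CEUO

open Cfsg.Agent.Lib.helper15.St2 Cfsg.Agent.Lib.helper7.Ce Cfsg.Agent.Lib.helper3.STC Cfsg.Agent.Lib.Helper27.STU
  Cfsg.Agent.Lib.helper7.CEU

open Cfsg.Agent.Lib.helper7.CEC (I2 I3 I4 U2 U3)

section A

variable {F : Type*} [Field F] [StarRing F] {od : Prop}

/-- own-name copy of A1: the elements with `v = 0` are traces -/
theorem ceuoa2_exists_tr_of_v (hF : Hyp F) (ζ : Lam F od) (hv : ζ.v = 0) : ∃ x : F, ζ = Lam.tr x := by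
  obtain ⟨γ, hγ0, hγ⟩ := hF.ex_skew
  have hc : star ζ.c = -ζ.c := by
    have := ζ.h
    rw [hv, zero_mul, add_zero] at this
    exact eq_neg_of_add_eq_zero_right this
  have hfix : star (ζ.c / γ) = ζ.c / γ := by
    rw [star_div₀, hc, hγ, neg_div_neg_eq]
  obtain ⟨y, hy⟩ := hF.trace_surj (ζ.c / γ) hfix
  refine ⟨γ * y, ?_⟩
  apply Lam.ext
  · show ζ.v = 0
    exact hv
  · show ζ.c = γ * y - star (γ * y)
    rw [star_mul', hγ]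
    have : ζ.c = γ * (ζ.c / γ) := by field_simp
    rw [this, ← hy]
    ring

/-- a multiplicative map sends `1` to `1` -/
theorem ceuoa2_map_one {Δ : Type*} [Group Δ] (f : Lam F od → Δ) (hf : ∀ ξ η, f (ξ * η) = f ξ * f η) : f 1 = 1 := by
  have := hf 1 1
  rw [mul_one] at this
  exact (mul_eq_left.mp this.symm)

/-- a multiplicative map commutes with inverses -/
theorem ceuoa2_map_inv {Δ : Type*} [Group Δ] (f : Lam F od → Δ) (hf : ∀ ξ η, f (ξ * η) = f ξ * f η) (ξ : Lam F od) :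
    f ξ⁻¹ = (f ξ)⁻¹ := by
  apply eq_inv_of_mul_eq_one_left
  rw [← hf, inv_mul_cancel, ceuoa2_map_one f hf]

/-- A2 [S-M]  a multiplicative map with commuting values only depends on the `v`-part. -/
theorem eq_of_v {Δ : Type*} [Group Δ] (hF : Hyp F) (hod : od) (f : Lam F od → Δ) (hf : ∀ ξ η, f (ξ * η) = f ξ * f η)
    (hc : ∀ ξ η, f ξ * f η = f η * f ξ) {ξ η : Lam F od} (hv : ξ.v = η.v) : f ξ = f η := by
  have hζv : (η⁻¹ * ξ).v = 0 := by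
    rw [Lam.mul_v, Lam.inv_v, hv, neg_add_cancel]
  obtain ⟨x, hx⟩ := ceuoa2_exists_tr_of_v hF (η⁻¹ * ξ) hζv
  have hcomm : (Lam.tr x : Lam F od) = ofV hF hod (-x) * ofV hF hod 1 * (ofV hF hod (-x))⁻¹ * (ofV hF hod 1)⁻¹ := by
    rw [Lam.comm_eq, ofV_v, ofV_v, star_one, mul_one, neg_neg]
  have h1 : f (η⁻¹ * ξ) = 1 := by
    rw [hx, hcomm, hf, hf, hf, ceuoa2_map_inv f hf, ceuoa2_map_inv f hf, hc (ofV hF hod (-x)) (ofV hF hod 1)]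
    group
  have : ξ = η * (η⁻¹ * ξ) := by rw [mul_inv_cancel_left]
  rw [this, hf, h1, mul_one]

/-- A3 [M]  UNIQUENESS of multiplicative lifts which are equivariant under one torus element with a scalar `s ≠ 1`. -/
theorem lift_unique {Γ G : Type*} [Group Γ] [Group G] {σ : Γ →* G} (h : IsCE σ) (hF : Hyp F) (hod : od) (f f' : Lam F od → Γ)
    (hf : ∀ ξ η, f (ξ * η) = f ξ * f η) (hf' : ∀ ξ η, f' (ξ * η) = f' ξ * f' η) (hσ : ∀ ξ, σ (f ξ) = σ (f' ξ))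
    (e : Γ) {s : F} (hs : s ≠ 1) (he : ∀ ξ, cj e (f ξ) = f (Lam.act s ξ)) (he' : ∀ ξ, cj e (f' ξ) = f' (Lam.act s ξ)) :
    ∀ ξ, f ξ = f' ξ := by
  have hδσ : ∀ ξ, σ (f ξ * (f' ξ)⁻¹) = 1 := by
    intro ξ
    rw [map_mul, map_inv, hσ, mul_inv_cancel]
  have hcen : ∀ ξ (a : Γ), f ξ * (f' ξ)⁻¹ * a = a * (f ξ * (f' ξ)⁻¹) := fun ξ a => h.comm_of_map_one (hδσ ξ) a
  have hδmul : ∀ ξ η, f (ξ * η) * (f' (ξ * η))⁻¹ = f ξ * (f' ξ)⁻¹ * (f η * (f' η)⁻¹) := by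
    intro ξ η
    rw [hf, hf', mul_inv_rev]
    calc f ξ * f η * ((f' η)⁻¹ * (f' ξ)⁻¹) = f ξ * ((f η * (f' η)⁻¹) * (f' ξ)⁻¹) := by group
      _ = f ξ * ((f' ξ)⁻¹ * (f η * (f' η)⁻¹)) := by rw [hcen η]
      _ = f ξ * (f' ξ)⁻¹ * (f η * (f' η)⁻¹) := by group
  have hδc : ∀ ξ η, f ξ * (f' ξ)⁻¹ * (f η * (f' η)⁻¹) = f η * (f' η)⁻¹ * (f ξ * (f' ξ)⁻¹) := fun ξ η => hcen ξ _
  have hδv : ∀ {ξ η : Lam F od}, ξ.v = η.v → f ξ * (f' ξ)⁻¹ = f η * (f' η)⁻¹ := fun hv =>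
    eq_of_v hF hod (fun ξ => f ξ * (f' ξ)⁻¹) hδmul hδc hv
  have hδ1 : f (1 : Lam F od) * (f' 1)⁻¹ = 1 := ceuoa2_map_one (fun ξ => f ξ * (f' ξ)⁻¹) hδmul
  have hδinv : ∀ ξ, f ξ⁻¹ * (f' ξ⁻¹)⁻¹ = (f ξ * (f' ξ)⁻¹)⁻¹ := ceuoa2_map_inv (fun ξ => f ξ * (f' ξ)⁻¹) hδmul
  have hδe : ∀ ξ, f (Lam.act s ξ) * (f' (Lam.act s ξ))⁻¹ = f ξ * (f' ξ)⁻¹ := by
    intro ξ
    rw [← he, ← he', ← cj_inv, ← cj_mul]
    exact h.cj_of_map_one (hδσ ξ) e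
  have hkey : ∀ ξ, f (Lam.act s ξ * ξ⁻¹) * (f' (Lam.act s ξ * ξ⁻¹))⁻¹ = 1 := by
    intro ξ
    rw [hδmul, hδe, hδinv, mul_inv_cancel]
  intro η
  have hs1 : s - 1 ≠ 0 := sub_ne_zero.mpr hs
  have hv : (Lam.act s (ofV hF hod ((s - 1)⁻¹ * η.v)) * (ofV hF hod ((s - 1)⁻¹ * η.v))⁻¹).v = η.v := by
    rw [Lam.mul_v, Lam.inv_v]
    show s * (ofV hF hod ((s - 1)⁻¹ * η.v)).v + -(ofV hF hod ((s - 1)⁻¹ * η.v)).v = η.v
    rw [ofV_v]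
    field_simp
    ring
  have := hδv hv
  rw [hkey] at this
  exact (mul_inv_eq_one.mp this.symm)

end A

end Cfsg.Agent.Lib.helper3.CEUO
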