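import Mathlib

set_option autoImplicit false

namespace Cfsg.Agent.Lib.Helper18.Fpf4

variable {M : Type*} [CommGroup M] [Finite M]

/-- The trace map of a finite group of automorphisms of an abelian group. -/
noncomputable def trP (P : Subgroup (MulAut M)) : M →* M :=
  letI : Fintype ↥P := Fintype.ofFinite _
  ∏ y : ↥P, ((y : MulAut M) : M ≃* M).toMonoidHom

theorem trP_apply (P : Subgroup (MulAut M)) [Fintype ↥P] (m : M) :
    trP P m = ∏ y : ↥P, (y : MulAut M) m := by
  unfold trP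
  rw [MonoidHom.finset_prod_apply]
  apply Finset.prod_congr
  · ext x; simp
  · intro y _
    rfl

theorem trP_apply_mem (P : Subgroup (MulAut M)) (y : MulAut M) (hy : y ∈ P) (m : M) :
    trP P (y m) = trP P m := by
  classical
  haveI : Fintype ↥P := Fintype.ofFinite _
  rw [trP_apply, trP_apply]
  have h1 : ∀ z : ↥P, (z : MulAut M) (y m) = (((z * ⟨y, hy⟩ : ↥P)) : MulAut M) m := by
    intro z
    rfl
  simp_rw [h1]
  exact (Group.mulRight_bijective (⟨y, hy⟩ : ↥P)).prod_comp (fun z : ↥P => (z : MulAut M) m)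

theorem mem_apply_trP (P : Subgroup (MulAut M)) (y : MulAut M) (hy : y ∈ P) (m : M) :
    y (trP P m) = trP P m := by
  classical
  haveI : Fintype ↥P := Fintype.ofFinite _
  rw [trP_apply, map_prod]
  have h1 : ∀ z : ↥P, y ((z : MulAut M) m) = (((⟨y, hy⟩ * z : ↥P)) : MulAut M) m := by
    intro z
    rfl
  simp_rw [h1]
  exact (Group.mulLeft_bijective (⟨y, hy⟩ : ↥P)).prod_comp (fun z : ↥P => (z : MulAut M) m)

theorem trP_conj (P : Subgroup (MulAut M)) (s : MulAut M)
    (hs : ∀ y ∈ P, s * y * s⁻¹ ∈ P) (m : M) :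
    trP P (s m) = s (trP P m) := by
  classical
  haveI : Fintype ↥P := Fintype.ofFinite _
  rw [trP_apply, trP_apply, map_prod]
  let e : ↥P → ↥P := fun y => ⟨s * (y : MulAut M) * s⁻¹, hs y y.2⟩
  have he : Function.Injective e := by
    intro a b hab
    have h1 : s * (a : MulAut M) * s⁻¹ = s * (b : MulAut M) * s⁻¹ := congrArg Subtype.val hab
    apply Subtype.ext
    have h2 := mul_right_cancel h1
    exact mul_left_cancel h2
  have hb : Function.Bijective e := Finite.injective_iff_bijective.mp he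
  rw [← hb.prod_comp (fun z : ↥P => (z : MulAut M) (s m))]
  apply Finset.prod_congr rfl
  intro y _
  show (s * (y : MulAut M) * s⁻¹) (s m) = s ((y : MulAut M) m)
  simp [MulAut.mul_apply]

theorem trP_of_fixed (P : Subgroup (MulAut M)) (m : M) (hm : ∀ y ∈ P, y m = m) :
    trP P m = m ^ Nat.card ↥P := by
  classical
  haveI : Fintype ↥P := Fintype.ofFinite _
  rw [trP_apply, Nat.card_eq_fintype_card]
  have h1 : ∀ y ∈ (Finset.univ : Finset ↥P), (y : MulAut M) m = m := fun y _ => hm _ y.2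
  rw [Finset.prod_congr rfl h1]
  simp

/-- The Frobenius-type averaging argument. -/
theorem frob_sum (N : Subgroup M) (P : Subgroup (MulAut M)) (s : MulAut M) (r : ℕ) (hr : 0 < r)
    (hPN : ∀ y ∈ P, ∀ n ∈ N, y n ∈ N)
    (hsN : ∀ n ∈ N, s n ∈ N)
    (hsP : ∀ y ∈ P, s * y * s⁻¹ ∈ P)
    (hsr : ∀ n ∈ N, (s ^ r) n = n)
    (hfpfP : ∀ k, 0 < k → k < r → ∀ y ∈ P, s ^ k * y = y * s ^ k → y = 1)
    (hCP : ∀ n ∈ N, (∀ y ∈ P, y n = n) → n = 1)
    (hCs : ∀ n ∈ N, s n = n → n = 1)
    (hcop : ∀ n ∈ N, n ^ Nat.card ↥P = 1 → n = 1) :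
    ∀ n ∈ N, n = 1 := by
  classical
  letI : Fintype ↥P := Fintype.ofFinite _
  -- powers of s preserve N and normalise P
  have hskN : ∀ k : ℕ, ∀ n ∈ N, (s ^ k) n ∈ N := by
    intro k
    induction k with
    | zero => intro n hn; simpa using hn
    | succ k ih =>
      intro n hn
      rw [pow_succ, MulAut.mul_apply]
      exact ih _ (hsN n hn)
  have hskP : ∀ k : ℕ, ∀ y ∈ P, s ^ k * y * (s ^ k)⁻¹ ∈ P := by
    intro k
    induction k with
    | zero => intro y hy; simpa using hy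
    | succ k ih =>
      intro y hy
      have h1 := hsP _ (ih y hy)
      have h2 : s * (s ^ k * y * (s ^ k)⁻¹) * s⁻¹ = s ^ (k + 1) * y * (s ^ (k + 1))⁻¹ := by
        rw [pow_succ']
        group
      rw [← h2]
      exact h1
  -- the norm along s vanishes on N
  have hNm : ∀ u ∈ N, ∏ k ∈ Finset.range r, (s ^ k) u = 1 := by
    intro u hu
    apply hCs
    · exact Subgroup.prod_mem N (fun k _ => hskN k u hu)
    · rw [map_prod]
      have h1 : ∀ k ∈ Finset.range r, s ((s ^ k) u) = (s ^ (k + 1)) u := by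
        intro k _
        rw [pow_succ', MulAut.mul_apply]
      rw [Finset.prod_congr rfl h1]
      have h2 := Finset.prod_range_succ (fun k => (s ^ k) u) r
      have h3 := Finset.prod_range_succ' (fun k => (s ^ k) u) r
      rw [h2] at h3
      have h4 : (s ^ r) u = (s ^ 0) u := by rw [hsr u hu]; simp
      rw [h4] at h3
      exact (mul_right_cancel h3).symm
  -- the trace along P vanishes on N
  have hT : ∀ u ∈ N, trP P u = 1 := by
    intro u hu
    apply hCP
    · rw [trP_apply]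
      exact Subgroup.prod_mem N (fun y _ => hPN _ y.2 u hu)
    · intro y hy
      exact mem_apply_trP P y hy u
  intro n hn
  apply hcop n hn
  -- the double product
  have hmain : ∏ y : ↥P, (y : MulAut M) (∏ k ∈ Finset.range r, (s ^ k) ((y : MulAut M)⁻¹ n)) = 1 := by
    apply Finset.prod_eq_one
    intro y _
    have h1 : ((y : MulAut M)⁻¹) n ∈ N := hPN _ (P.inv_mem y.2) n hn
    rw [hNm _ h1, map_one]
  have hexp : ∀ y : ↥P, (y : MulAut M) (∏ k ∈ Finset.range r, (s ^ k) ((y : MulAut M)⁻¹ n)) =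
      ∏ k ∈ Finset.range r, ((y : MulAut M) * s ^ k * (y : MulAut M)⁻¹) n := by
    intro y
    rw [map_prod]
    rfl
  simp_rw [hexp] at hmain
  rw [Finset.prod_comm] at hmain
  have hk : ∀ k ∈ Finset.range r, k ≠ 0 →
      ∏ y : ↥P, ((y : MulAut M) * s ^ k * (y : MulAut M)⁻¹) n = 1 := by
    intro k hkr hk0
    have hk1 : 0 < k := Nat.pos_of_ne_zero hk0
    have hk2 : k < r := Finset.mem_range.mp hkr
    let e : ↥P → ↥P := fun y => ⟨(y : MulAut M) * (s ^ k * (y : MulAut M)⁻¹ * (s ^ k)⁻¹),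
      P.mul_mem y.2 (hskP k _ (P.inv_mem y.2))⟩
    have he : Function.Injective e := by
      intro a b hab
      have h1 : (a : MulAut M) * (s ^ k * (a : MulAut M)⁻¹ * (s ^ k)⁻¹) =
          (b : MulAut M) * (s ^ k * (b : MulAut M)⁻¹ * (s ^ k)⁻¹) := congrArg Subtype.val hab
      have h2 : s ^ k * ((b : MulAut M)⁻¹ * (a : MulAut M)) =
          ((b : MulAut M)⁻¹ * (a : MulAut M)) * s ^ k := by
        have h3 : (a : MulAut M) * s ^ k * (a : MulAut M)⁻¹ =
            (b : MulAut M) * s ^ k * (b : MulAut M)⁻¹ := by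
          have h4 : (a : MulAut M) * (s ^ k * (a : MulAut M)⁻¹ * (s ^ k)⁻¹) * s ^ k =
              (b : MulAut M) * (s ^ k * (b : MulAut M)⁻¹ * (s ^ k)⁻¹) * s ^ k := by rw [h1]
          calc (a : MulAut M) * s ^ k * (a : MulAut M)⁻¹
              = (a : MulAut M) * (s ^ k * (a : MulAut M)⁻¹ * (s ^ k)⁻¹) * s ^ k := by group
            _ = (b : MulAut M) * (s ^ k * (b : MulAut M)⁻¹ * (s ^ k)⁻¹) * s ^ k := h4
            _ = (b : MulAut M) * s ^ k * (b : MulAut M)⁻¹ := by group
        calc s ^ k * ((b : MulAut M)⁻¹ * (a : MulAut M))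
            = (b : MulAut M)⁻¹ * ((b : MulAut M) * s ^ k * (b : MulAut M)⁻¹) * (a : MulAut M) := by
              group
          _ = (b : MulAut M)⁻¹ * ((a : MulAut M) * s ^ k * (a : MulAut M)⁻¹) * (a : MulAut M) := by
              rw [h3]
          _ = ((b : MulAut M)⁻¹ * (a : MulAut M)) * s ^ k := by group
      have h5 := hfpfP k hk1 hk2 _ (P.mul_mem (P.inv_mem b.2) a.2) h2
      apply Subtype.ext
      have h6 : (a : MulAut M) = (b : MulAut M) * ((b : MulAut M)⁻¹ * (a : MulAut M)) := by group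
      rw [h6, h5, mul_one]
    have hb : Function.Bijective e := Finite.injective_iff_bijective.mp he
    have h7 : ∏ y : ↥P, ((y : MulAut M) * s ^ k * (y : MulAut M)⁻¹) n =
        ∏ y : ↥P, ((e y : ↥P) : MulAut M) ((s ^ k) n) := by
      apply Finset.prod_congr rfl
      intro y _
      show _ = ((y : MulAut M) * (s ^ k * (y : MulAut M)⁻¹ * (s ^ k)⁻¹)) ((s ^ k) n)
      simp only [MulAut.mul_apply, MulAut.inv_apply_self]
    rw [h7, hb.prod_comp (fun z : ↥P => (z : MulAut M) ((s ^ k) n)), ← trP_apply]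
    exact hT _ (hskN k n hn)
  have h0mem : 0 ∈ Finset.range r := Finset.mem_range.mpr hr
  rw [Finset.prod_eq_single_of_mem 0 h0mem (fun k hk' hk0 => hk k hk' hk0)] at hmain
  rw [Nat.card_eq_fintype_card]
  simpa using hmain

end Cfsg.Agent.Lib.Helper18.Fpf4
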