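import Mathlib
import Cfsg.Agent.Lib.Helper18.Fpf4Sum

set_option autoImplicit false

namespace Cfsg.Agent.Lib.Helper18.Fpf4

variable {M : Type*} [CommGroup M] [Finite M]

/-- Common fixed points of a set of automorphisms. -/
def fixSub (S : Set (MulAut M)) : Subgroup M where
  carrier := {m | ∀ y ∈ S, y m = m}
  one_mem' := by intro y _; simp
  mul_mem' := by
    intro a b ha hb y hy
    rw [map_mul, ha y hy, hb y hy]
  inv_mem' := by
    intro a ha y hy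
    rw [map_inv, ha y hy]

theorem mem_fixSub (S : Set (MulAut M)) (m : M) : m ∈ fixSub S ↔ ∀ y ∈ S, y m = m := Iff.rfl

theorem conj_pow_mem' {A : Type*} [Group A] (P : Subgroup A) (s : A)
    (h : ∀ y ∈ P, s * y * s⁻¹ ∈ P) (k : ℕ) : ∀ y ∈ P, s ^ k * y * (s ^ k)⁻¹ ∈ P := by
  induction k with
  | zero => intro y hy; simpa using hy
  | succ k ih =>
    intro y hy
    have h1 := h _ (ih y hy)
    have h2 : s * (s ^ k * y * (s ^ k)⁻¹) * s⁻¹ = s ^ (k + 1) * y * (s ^ (k + 1))⁻¹ := by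
      rw [pow_succ']
      group
    rw [← h2]
    exact h1

theorem conj_inv_mem' {A : Type*} [Group A] (P : Subgroup A) (s : A) (hs4 : s ^ 4 = 1)
    (h : ∀ y ∈ P, s * y * s⁻¹ ∈ P) : ∀ y ∈ P, s⁻¹ * y * s ∈ P := by
  intro y hy
  have h1 := conj_pow_mem' P s h 3 y hy
  have h2 : s ^ 3 = s⁻¹ := by
    have : s ^ 3 * s = 1 := by rw [← pow_succ]; exact hs4
    exact eq_inv_of_mul_eq_one_left this
  rw [h2, inv_inv] at h1
  exact h1

/-- The module step: an irreducible situation. -/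
theorem fpf4_module (p : ℕ) [Fact p.Prime] (hM : IsPGroup p M)
    (s : MulAut M) (hs4 : s ^ 4 = 1) (hsfix : ∀ m : M, s m = m → m = 1)
    (Γ : Subgroup (MulAut M)) (hΓnil : Group.IsNilpotent ↥Γ) (hΓodd : Odd (Nat.card ↥Γ))
    (hsΓ : ∀ γ ∈ Γ, s * γ * s⁻¹ ∈ Γ)
    (hΓfix : ∀ γ ∈ Γ, s * γ = γ * s → γ = 1)
    (hirr : ∀ N : Subgroup M, (∀ γ ∈ Γ, ∀ n ∈ N, γ n ∈ N) → (∀ n ∈ N, s n ∈ N) →
      N = ⊥ ∨ N = ⊤) :
    ∀ γ ∈ Γ, s ^ 2 * γ = γ * s ^ 2 := by
  classical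
  by_cases hΓ : Γ = ⊥
  · intro γ hγ
    rw [hΓ, Subgroup.mem_bot] at hγ
    rw [hγ, mul_one, one_mul]
  have hntΓ : Nontrivial ↥Γ := (Subgroup.nontrivial_iff_ne_bot Γ).mpr hΓ
  have hcen := Group.IsNilpotent.center_ne_bot (G := ↥Γ)
  obtain ⟨z0', hz01'⟩ := (Subgroup.ne_bot_iff_exists_ne_one).mp hcen
  obtain ⟨z0, hz0, hz01⟩ : ∃ z0 : ↥Γ, z0 ∈ Subgroup.center ↥Γ ∧ z0 ≠ 1 :=
    ⟨z0'.1, z0'.2, fun h => hz01' (Subtype.ext h)⟩
  -- the centre as a subgroup of the automorphism group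
  obtain ⟨Z, hZdef⟩ : ∃ Z : Subgroup (MulAut M),
      Z = Γ ⊓ Subgroup.centralizer (Γ : Set (MulAut M)) := ⟨_, rfl⟩
  have hmemZ : ∀ z : MulAut M, z ∈ Z ↔ z ∈ Γ ∧ ∀ γ ∈ Γ, γ * z = z * γ := by
    intro z
    rw [hZdef, Subgroup.mem_inf, Subgroup.mem_centralizer_iff]
    rfl
  have hZΓ : ∀ z ∈ Z, z ∈ Γ := fun z hz => ((hmemZ z).mp hz).1
  have hZc : ∀ z ∈ Z, ∀ γ ∈ Γ, γ * z = z * γ := fun z hz => ((hmemZ z).mp hz).2
  have hz0Z : ((z0 : ↥Γ) : MulAut M) ∈ Z := by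
    rw [hmemZ]
    refine ⟨(z0 : ↥Γ).2, ?_⟩
    intro γ hγ
    have h1 := Subgroup.mem_center_iff.mp hz0 ⟨γ, hγ⟩
    exact congrArg Subtype.val h1
  have hz0ne : ((z0 : ↥Γ) : MulAut M) ≠ 1 := by
    intro h
    apply hz01
    apply Subtype.ext
    exact h
  have hsΓ' : ∀ γ ∈ Γ, s⁻¹ * γ * s ∈ Γ := conj_inv_mem' Γ s hs4 hsΓ
  have hZs : ∀ z ∈ Z, s * z * s⁻¹ ∈ Z := by
    intro z hz
    rw [hmemZ]
    refine ⟨hsΓ z (hZΓ z hz), ?_⟩
    intro γ hγ
    have h1 := hZc z hz _ (hsΓ' γ hγ)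
    calc γ * (s * z * s⁻¹) = s * ((s⁻¹ * γ * s) * z) * s⁻¹ := by group
      _ = s * (z * (s⁻¹ * γ * s)) * s⁻¹ := by rw [h1]
      _ = s * z * s⁻¹ * γ := by group
  have hZs' : ∀ z ∈ Z, s⁻¹ * z * s ∈ Z := conj_inv_mem' Z s hs4 hZs
  have hZcomm : ∀ z ∈ Z, ∀ z' ∈ Z, z * z' = z' * z := fun z hz z' hz' => hZc z' hz' z (hZΓ z hz)
  -- tau
  have hτ2 : s ^ 2 * s ^ 2 = 1 := by rw [← pow_add]; exact hs4
  have hτinv : (s ^ 2)⁻¹ = s ^ 2 := (eq_inv_of_mul_eq_one_left hτ2).symm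
  have hZτ : ∀ z ∈ Z, s ^ 2 * z * (s ^ 2)⁻¹ ∈ Z := conj_pow_mem' Z s hZs 2
  -- M is nontrivial and p divides its order
  have hMnt : Nontrivial M := by
    by_contra hnt
    rw [not_nontrivial_iff_subsingleton] at hnt
    apply hz0ne
    ext m
    exact Subsingleton.elim _ _
  have hpM : p ∣ Nat.card M := by
    obtain ⟨n, hn⟩ := hM.exists_card_eq
    have hn0 : n ≠ 0 := by
      intro h0
      rw [h0, pow_zero] at hn
      have := Finite.one_lt_card (α := M)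
      omega
    rw [hn]
    exact dvd_pow_self p hn0
  -- invariance of fixed subgroups of invariant central subgroups
  have hfixinv : ∀ Y : Subgroup (MulAut M), (∀ y ∈ Y, y ∈ Z) → (∀ y ∈ Y, s⁻¹ * y * s ∈ Y) →
      (∃ y ∈ Y, y ≠ 1) → fixSub (Y : Set (MulAut M)) = ⊥ := by
    intro Y hYZ hYs hYne
    have h1 : ∀ γ ∈ Γ, ∀ n ∈ fixSub (Y : Set (MulAut M)), γ n ∈ fixSub (Y : Set (MulAut M)) := by
      intro γ hγ n hn y hy
      have h2 := hZc y (hYZ y hy) γ hγ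
      have h3 : y (γ n) = (y * γ) n := rfl
      rw [h3, ← h2]
      show γ (y n) = γ n
      rw [hn y hy]
    have h2 : ∀ n ∈ fixSub (Y : Set (MulAut M)), s n ∈ fixSub (Y : Set (MulAut M)) := by
      intro n hn y hy
      have h3 := hn _ (hYs y hy)
      have h4 : y (s n) = s ((s⁻¹ * y * s) n) := by
        simp only [MulAut.mul_apply, MulAut.apply_inv_self]
      rw [h4, h3]
    rcases hirr _ h1 h2 with h3 | h3
    · exact h3
    · exfalso
      obtain ⟨y, hy, hy1⟩ := hYne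
      apply hy1
      ext m
      have : m ∈ fixSub (Y : Set (MulAut M)) := by rw [h3]; exact Subgroup.mem_top m
      exact this y hy
  -- no p-torsion in Z
  have hZ3 : ∀ z ∈ Z, z ^ p = 1 → z = 1 := by
    intro z hz hzp
    by_contra hz1
    let Zp : Subgroup (MulAut M) :=
      { carrier := {y | y ∈ Z ∧ y ^ p = 1}
        one_mem' := ⟨Z.one_mem, one_pow p⟩
        mul_mem' := by
          intro a b ha hb
          refine ⟨Z.mul_mem ha.1 hb.1, ?_⟩
          have hc : Commute a b := hZcomm a ha.1 b hb.1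
          rw [hc.mul_pow, ha.2, hb.2, one_mul]
        inv_mem' := by
          intro a ha
          refine ⟨Z.inv_mem ha.1, ?_⟩
          rw [inv_pow, ha.2, inv_one] }
    have hZpZ : ∀ y ∈ Zp, y ∈ Z := fun y hy => hy.1
    have hZps : ∀ y ∈ Zp, s⁻¹ * y * s ∈ Zp := by
      intro y hy
      refine ⟨hZs' y hy.1, ?_⟩
      have h1 : s⁻¹ * y * s = s⁻¹ * y * (s⁻¹)⁻¹ := by rw [inv_inv]
      rw [h1, conj_pow, hy.2]
      group
    have hbot := hfixinv Zp hZpZ hZps ⟨z, ⟨hz, hzp⟩, hz1⟩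
    have hZpp : IsPGroup p ↥Zp := by
      intro g
      refine ⟨1, ?_⟩
      apply Subtype.ext
      rw [pow_one, Subgroup.coe_pow]
      exact g.2.2
    have h1fix : (1 : M) ∈ MulAction.fixedPoints ↥Zp M := by
      intro g
      rw [Subgroup.smul_def, MulAut.smul_def, map_one]
    obtain ⟨b, hb, hb1⟩ := hZpp.exists_fixed_point_of_prime_dvd_card_of_fixed_point M hpM h1fix
    have hbmem : b ∈ fixSub (Zp : Set (MulAut M)) := by
      intro y hy
      have := hb ⟨y, hy⟩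
      rw [Subgroup.smul_def, MulAut.smul_def] at this
      exact this
    rw [hbot, Subgroup.mem_bot] at hbmem
    exact hb1 hbmem.symm
  -- coprimality in the needed form
  have hcop : ∀ Y : Subgroup (MulAut M), (∀ y ∈ Y, y ∈ Z) → ∀ m : M, m ^ Nat.card ↥Y = 1 → m = 1 := by
    intro Y hYZ m hm
    by_contra hm1
    have h1 : orderOf m ∣ Nat.card ↥Y := orderOf_dvd_of_pow_eq_one hm
    obtain ⟨k, hk⟩ := hM.exists_orderOf_eq_pow m
    have hk0 : k ≠ 0 := by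
      intro h0
      rw [h0, pow_zero, orderOf_eq_one_iff] at hk
      exact hm1 hk
    have h2 : p ∣ Nat.card ↥Y := by
      apply dvd_trans _ h1
      rw [hk]
      exact dvd_pow_self p hk0
    obtain ⟨y, hy⟩ := exists_prime_orderOf_dvd_card' p h2
    have h3 : ((y : ↥Y) : MulAut M) = 1 := by
      apply hZ3 _ (hYZ _ y.2)
      have : (y : ↥Y) ^ p = 1 := by rw [← hy]; exact pow_orderOf_eq_one y
      have h4 := congrArg Subtype.val this
      rw [Subgroup.coe_pow] at h4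
      exact h4
    have h4 : y = 1 := Subtype.ext h3
    rw [h4, orderOf_one] at hy
    exact (Fact.out : p.Prime).one_lt.ne hy
  -- elements of odd order squaring to one
  have hodd : ∀ γ ∈ Γ, γ * γ = 1 → γ = 1 := by
    intro γ hγ h2
    have h3 : (⟨γ, hγ⟩ : ↥Γ) ^ 2 = 1 := by
      apply Subtype.ext
      rw [Subgroup.coe_pow, pow_two]
      exact h2
    have h4 : orderOf (⟨γ, hγ⟩ : ↥Γ) ∣ 2 := orderOf_dvd_of_pow_eq_one h3
    have h5 : orderOf (⟨γ, hγ⟩ : ↥Γ) ∣ Nat.card ↥Γ := orderOf_dvd_natCard _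
    have h6 : orderOf (⟨γ, hγ⟩ : ↥Γ) = 1 := by
      have h7 : orderOf (⟨γ, hγ⟩ : ↥Γ) ∣ Nat.gcd 2 (Nat.card ↥Γ) := Nat.dvd_gcd h4 h5
      have h8 : Nat.gcd 2 (Nat.card ↥Γ) = 1 := by
        have := Nat.Coprime.gcd_eq_one (Nat.coprime_two_left.mpr hΓodd)
        exact this
      rw [h8] at h7
      exact Nat.dvd_one.mp h7
    rw [orderOf_eq_one_iff] at h6
    exact congrArg Subtype.val h6
  -- step (a): the part of Z inverted by tau is trivial
  let D : Subgroup (MulAut M) :=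
    { carrier := {y | y ∈ Z ∧ s ^ 2 * y * (s ^ 2)⁻¹ = y⁻¹}
      one_mem' := ⟨Z.one_mem, by simp⟩
      mul_mem' := by
        intro a b ha hb
        refine ⟨Z.mul_mem ha.1 hb.1, ?_⟩
        have h1 : s ^ 2 * (a * b) * (s ^ 2)⁻¹ =
            (s ^ 2 * a * (s ^ 2)⁻¹) * (s ^ 2 * b * (s ^ 2)⁻¹) := by group
        rw [h1, ha.2, hb.2, mul_inv_rev]
        exact hZcomm _ (Z.inv_mem ha.1) _ (Z.inv_mem hb.1)
      inv_mem' := by
        intro a ha
        refine ⟨Z.inv_mem ha.1, ?_⟩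
        have h1 : s ^ 2 * a⁻¹ * (s ^ 2)⁻¹ = (s ^ 2 * a * (s ^ 2)⁻¹)⁻¹ := by group
        rw [h1, ha.2] }
  have hDZ : ∀ y ∈ D, y ∈ Z := fun y hy => hy.1
  have hDs : ∀ y ∈ D, s * y * s⁻¹ ∈ D := by
    intro y hy
    refine ⟨hZs y hy.1, ?_⟩
    have h1 : s ^ 2 * (s * y * s⁻¹) * (s ^ 2)⁻¹ = s * (s ^ 2 * y * (s ^ 2)⁻¹) * s⁻¹ := by
      have h2 : s ^ 2 * s = s * s ^ 2 := by rw [← pow_succ, ← pow_succ']
      have h3 : s⁻¹ * (s ^ 2)⁻¹ = (s ^ 2)⁻¹ * s⁻¹ := by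
        rw [← mul_inv_rev, ← mul_inv_rev, h2]
      calc s ^ 2 * (s * y * s⁻¹) * (s ^ 2)⁻¹ = (s ^ 2 * s) * y * (s⁻¹ * (s ^ 2)⁻¹) := by group
        _ = (s * s ^ 2) * y * ((s ^ 2)⁻¹ * s⁻¹) := by rw [h2, h3]
        _ = s * (s ^ 2 * y * (s ^ 2)⁻¹) * s⁻¹ := by group
    rw [h1, hy.2]
    group
  have hDbot : ∀ y ∈ D, y = 1 := by
    obtain ⟨Na, hNa⟩ : ∃ Na : Subgroup M, Na = (trP D).ker := ⟨_, rfl⟩
    have hNamem : ∀ m : M, m ∈ Na ↔ trP D m = 1 := by
      intro m; rw [hNa]; exact MonoidHom.mem_ker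
    have hNa1 : ∀ n ∈ Na, n = 1 := by
      apply frob_sum Na D s 4 (by norm_num)
      · intro y hy n hn
        rw [hNamem] at hn ⊢
        rw [trP_apply_mem D y hy, hn]
      · intro n hn
        rw [hNamem] at hn ⊢
        rw [trP_conj D s hDs, hn, map_one]
      · exact hDs
      · intro n _
        rw [hs4]
        rfl
      · intro k hk0 hk4 y hy hcomm
        have hk : k = 1 ∨ k = 2 ∨ k = 3 := by omega
        rcases hk with rfl | rfl | rfl
        · rw [pow_one] at hcomm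
          exact hΓfix y (hZΓ y hy.1) hcomm
        · have h1 : s ^ 2 * y * (s ^ 2)⁻¹ = y := by rw [hcomm]; group
          rw [hy.2] at h1
          apply hodd y (hZΓ y hy.1)
          calc y * y = y * y⁻¹⁻¹ := by rw [inv_inv]
            _ = y * (y⁻¹)⁻¹ := rfl
            _ = 1 := by rw [h1]; group
        · have h1 : s ^ 3 = s⁻¹ := by
            have : s ^ 3 * s = 1 := by rw [← pow_succ]; exact hs4
            exact eq_inv_of_mul_eq_one_left this
          rw [h1] at hcomm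
          apply hΓfix y (hZΓ y hy.1)
          calc s * y = s * (y * s⁻¹) * s := by group
            _ = s * (s⁻¹ * y) * s := by rw [hcomm]
            _ = y * s := by group
      · intro n hn hfix
        rw [hNamem] at hn
        rw [trP_of_fixed D n hfix] at hn
        exact hcop D hDZ n hn
      · intro n _ h
        exact hsfix n h
      · intro n _ h
        exact hcop D hDZ n h
    intro y hy
    ext m
    have h1 : (y m) * m⁻¹ ∈ Na := by
      rw [hNamem, map_mul, map_inv, trP_apply_mem D y hy, mul_inv_cancel]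
    have h2 := hNa1 _ h1
    show y m = m
    exact mul_inv_eq_one.mp h2
  -- tau centralises Z
  have hτZ : ∀ z ∈ Z, s ^ 2 * z = z * s ^ 2 := by
    intro z hz
    have hz' := hZτ z hz
    have hw : z * (s ^ 2 * z * (s ^ 2)⁻¹)⁻¹ ∈ D := by
      refine ⟨Z.mul_mem hz (Z.inv_mem hz'), ?_⟩
      have h1 : s ^ 2 * (z * (s ^ 2 * z * (s ^ 2)⁻¹)⁻¹) * (s ^ 2)⁻¹ =
          (s ^ 2 * z * (s ^ 2)⁻¹) * ((s ^ 2 * s ^ 2) * z * (s ^ 2 * s ^ 2)⁻¹)⁻¹ := by group
      rw [h1, hτ2, one_mul, inv_one, mul_one, mul_inv_rev, inv_inv]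
    have h2 := hDbot _ hw
    have h3 : z = s ^ 2 * z * (s ^ 2)⁻¹ := by
      have := mul_inv_eq_one.mp h2
      exact this
    calc s ^ 2 * z = (s ^ 2 * z * (s ^ 2)⁻¹) * s ^ 2 := by group
      _ = z * s ^ 2 := by rw [← h3]
  -- step (b): fixed points of tau are fixed by Z
  have hMplus : ∀ m : M, (s ^ 2) m = m → ∀ z ∈ Z, z m = m := by
    obtain ⟨Mp, hMp⟩ : ∃ Mp : Subgroup M, Mp = fixSub ({s ^ 2} : Set (MulAut M)) := ⟨_, rfl⟩
    have hMpmem : ∀ m : M, m ∈ Mp ↔ (s ^ 2) m = m := by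
      intro m
      rw [hMp, mem_fixSub]
      constructor
      · intro h; exact h _ rfl
      · intro h y hy
        rw [Set.mem_singleton_iff] at hy
        rw [hy]; exact h
    obtain ⟨Nb, hNb⟩ : ∃ Nb : Subgroup M, Nb = (trP Z).ker ⊓ Mp := ⟨_, rfl⟩
    have hNbmem : ∀ m : M, m ∈ Nb ↔ trP Z m = 1 ∧ (s ^ 2) m = m := by
      intro m; rw [hNb, Subgroup.mem_inf, MonoidHom.mem_ker, hMpmem]
    have hNb1 : ∀ n ∈ Nb, n = 1 := by
      apply frob_sum Nb Z s 2 (by norm_num)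
      · intro y hy n hn
        rw [hNbmem] at hn ⊢
        refine ⟨by rw [trP_apply_mem Z y hy, hn.1], ?_⟩
        have h1 : (s ^ 2) (y n) = (s ^ 2 * y) n := rfl
        rw [h1, hτZ y hy]
        show y ((s ^ 2) n) = y n
        rw [hn.2]
      · intro n hn
        rw [hNbmem] at hn ⊢
        refine ⟨by rw [trP_conj Z s hZs, hn.1, map_one], ?_⟩
        have h1 : (s ^ 2) (s n) = s ((s ^ 2) n) := by
          have h2 : s ^ 2 * s = s * s ^ 2 := by rw [← pow_succ, ← pow_succ']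
          show (s ^ 2 * s) n = (s * s ^ 2) n
          rw [h2]
        rw [h1, hn.2]
      · exact hZs
      · intro n hn
        exact ((hNbmem n).mp hn).2
      · intro k hk0 hk2 y hy hcomm
        have hk : k = 1 := by omega
        rw [hk, pow_one] at hcomm
        exact hΓfix y (hZΓ y hy) hcomm
      · intro n hn hfix
        rw [hNbmem] at hn
        have h1 := hn.1
        rw [trP_of_fixed Z n hfix] at h1
        exact hcop Z (fun y hy => hy) n h1
      · intro n _ h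
        exact hsfix n h
      · intro n _ h
        exact hcop Z (fun y hy => hy) n h
    intro m hm z hz
    have h1 : (z m) * m⁻¹ ∈ Nb := by
      rw [hNbmem]
      refine ⟨by rw [map_mul, map_inv, trP_apply_mem Z z hz, mul_inv_cancel], ?_⟩
      rw [map_mul, map_inv, hm]
      have h2 : (s ^ 2) (z m) = (s ^ 2 * z) m := rfl
      rw [h2, hτZ z hz]
      show z ((s ^ 2) m) * m⁻¹ = _
      rw [hm]
    have h2 := hNb1 _ h1
    exact mul_inv_eq_one.mp h2
  -- step (c)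
  have hfixZ : fixSub (Z : Set (MulAut M)) = ⊥ :=
    hfixinv Z (fun y hy => hy) hZs' ⟨_, hz0Z, hz0ne⟩
  have hτfix : ∀ m : M, (s ^ 2) m = m → m = 1 := by
    intro m hm
    have h1 : m ∈ fixSub (Z : Set (MulAut M)) := fun z hz => hMplus m hm z hz
    rw [hfixZ, Subgroup.mem_bot] at h1
    exact h1
  have hτinvert : ∀ m : M, (s ^ 2) m = m⁻¹ := by
    intro m
    have h1 : (s ^ 2) (m * (s ^ 2) m) = m * (s ^ 2) m := by
      rw [map_mul]
      have h2 : (s ^ 2) ((s ^ 2) m) = (s ^ 2 * s ^ 2) m := rfl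
      rw [h2, hτ2]
      show (s ^ 2) m * m = _
      exact mul_comm _ _
    have h3 := hτfix _ h1
    exact (eq_inv_of_mul_eq_one_right h3)
  intro γ _
  ext m
  show (s ^ 2) (γ m) = γ ((s ^ 2) m)
  rw [hτinvert, hτinvert, map_inv]

end Cfsg.Agent.Lib.Helper18.Fpf4
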