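import Mathlib
import Cfsg.Prelude.Def_ClassicalGeometry
import Cfsg.Prelude.Def_GeometricClasses
import Cfsg.Agent.Lib.Helper16.CDG

/-!
# Isometries of odd order lie in `Ω` (odd characteristic)

By Cartan–Dieudonné (`Helper16.CDG.cartan_dieudonne`) the isometry group `O(Q)` of a non-degenerate
quadratic form over a field with `2 ≠ 0` is generated by reflections, which are involutions; hence
`O(Q) / O(Q)'` is an elementary abelian 2-group, every square lies in `Ω(Q) = O(Q)'`, and so does
every element of odd order.  Stated for `Cfsg.Geo.omegaGL`.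
-/

set_option autoImplicit false
open scoped MatrixGroups

namespace Cfsg.Agent.Lib.Helper18.OmegaOdd

open Cfsg.Agent.Lib.Helper16.CDG

variable {ι : Type} [Fintype ι] [DecidableEq ι] {F : Type*} [Field F]

/-- in a group generated by involutions every square is a product of commutators -/
theorem omegaodd_sq_mem_commutator {G : Type*} [Group G] (S : Set G) (hS : Subgroup.closure S = ⊤)
    (hinv : ∀ s ∈ S, s * s = 1) (g : G) : g * g ∈ commutator G := by
  let φ : G →* Abelianization G := Abelianization.of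
  have hker : ∀ a : G, φ a = 1 → a ∈ commutator G := by
    intro a ha
    have h1 : a ∈ φ.ker := ha
    rwa [Abelianization.ker_of] at h1
  let H : Subgroup G := (powMonoidHom 2 : Abelianization G →* Abelianization G).ker.comap φ
  have hH : H = ⊤ := by
    rw [eq_top_iff, ← hS, Subgroup.closure_le]
    intro s hs
    show φ s ∈ (powMonoidHom 2 : Abelianization G →* Abelianization G).ker
    rw [MonoidHom.mem_ker, powMonoidHom_apply, pow_two, ← map_mul, hinv s hs, map_one]
  have hg : g ∈ H := hH ▸ Subgroup.mem_top g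
  have hg' : φ g ∈ (powMonoidHom 2 : Abelianization G →* Abelianization G).ker := hg
  rw [MonoidHom.mem_ker, powMonoidHom_apply, pow_two, ← map_mul] at hg'
  exact hker _ hg'

/-- an element of odd order of a group generated by involutions lies in the commutator subgroup -/
theorem omegaodd_odd_mem_commutator {G : Type*} [Group G] (S : Set G)
    (hS : Subgroup.closure S = ⊤) (hinv : ∀ s ∈ S, s * s = 1) (g : G) (r : ℕ) (hr : Odd r)
    (hgr : g ^ r = 1) : g ∈ commutator G := by
  obtain ⟨k, hk⟩ := hr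
  have h1 : g = g ^ (k + 1) * g ^ (k + 1) := by
    rw [← pow_add]
    have : k + 1 + (k + 1) = r + 1 := by omega
    rw [this, pow_succ, hgr, one_mul]
  rw [h1]
  exact omegaodd_sq_mem_commutator S hS hinv _

/-- the square of an isometry lies in `Ω` -/
theorem omegaodd_sq_mem (h2 : (2 : F) ≠ 0) (Q : QuadraticForm F (ι → F))
    (hQ : (QuadraticMap.polarBilin Q).Nondegenerate) (x : GL ι F)
    (hx : x ∈ Cfsg.isometryGroup F ⇑Q) : x * x ∈ Cfsg.Geo.omegaGL (⇑Q) := by
  have h := omegaodd_sq_mem_commutator (Rset Q) (cartan_dieudonne h2 Q hQ) (Rset_sq Q)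
    (⟨x, hx⟩ : ↥(Cfsg.isometryGroup F ⇑Q))
  exact ⟨_, h, rfl⟩

/-- an isometry of odd order lies in `Ω` -/
theorem omegaodd_mem (h2 : (2 : F) ≠ 0) (Q : QuadraticForm F (ι → F))
    (hQ : (QuadraticMap.polarBilin Q).Nondegenerate) (x : GL ι F)
    (hx : x ∈ Cfsg.isometryGroup F ⇑Q) (r : ℕ) (hr : Odd r) (hxr : x ^ r = 1) :
    x ∈ Cfsg.Geo.omegaGL (⇑Q) := by
  have hxr' : (⟨x, hx⟩ : ↥(Cfsg.isometryGroup F ⇑Q)) ^ r = 1 := Subtype.ext (by
    rw [SubgroupClass.coe_pow]
    exact hxr)
  have h := omegaodd_odd_mem_commutator (Rset Q) (cartan_dieudonne h2 Q hQ) (Rset_sq Q)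
    (⟨x, hx⟩ : ↥(Cfsg.isometryGroup F ⇑Q)) r hr hxr'
  exact ⟨_, h, rfl⟩

/-- elements of `Ω` are isometries -/
theorem omegaodd_le (Q : (ι → F) → F) : Cfsg.Geo.omegaGL Q ≤ Cfsg.isometryGroup F Q := by
  rintro _ ⟨g, _, rfl⟩
  exact g.2

end Cfsg.Agent.Lib.Helper18.OmegaOdd
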