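import Mathlib
import Cfsg.Agent.Lib.Helper18.ONE.Defs
import Cfsg.Agent.Lib.Helper16.OStd
import Cfsg.Agent.Lib.helper6.PlusCoords
import Cfsg.Agent.Lib.helper17.ONETYBOT

set_option autoImplicit false

namespace Cfsg.Agent.Lib.Helper18.ONE

open Polynomial Module Cfsg.Agent.Lib.Helper13.S5955 Cfsg.Agent.Lib.helper15.S5972
open Cfsg.Agent.Lib.Helper16.OSemi

/-- the quadratic form `w ↦ B w w` on `↥W` -/
noncomputable def onetyclass_Q {F : Type*} [Field F] {V : Type*} [AddCommGroup V] [Module F V]
    (B : LinearMap.BilinForm F V) (W : Submodule F V) : QuadraticForm F ↥W :=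
  (B.restrict W).toQuadraticMap

theorem onetyclass_Q_apply {F : Type*} [Field F] {V : Type*} [AddCommGroup V] [Module F V]
    (B : LinearMap.BilinForm F V) (W : Submodule F V) (w : ↥W) :
    onetyclass_Q B W w = B (w : V) (w : V) := rfl

theorem onetyclass_polar {F : Type*} [Field F] {V : Type*} [AddCommGroup V] [Module F V]
    (B : LinearMap.BilinForm F V) (hsymm : ∀ u v, B u v = B v u) (W : Submodule F V) (u v : ↥W) :
    QuadraticMap.polarBilin (onetyclass_Q B W) u v = 2 * B (u : V) (v : V) := by
  rw [QuadraticMap.polarBilin_apply_apply]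
  unfold QuadraticMap.polar
  rw [onetyclass_Q_apply, onetyclass_Q_apply, onetyclass_Q_apply]
  simp only [Submodule.coe_add, map_add, LinearMap.add_apply]
  rw [hsymm (v : V) (u : V)]
  ring

theorem onetyclass_nd {F : Type*} [Field F] (h2 : (2 : F) ≠ 0) {V : Type*} [AddCommGroup V]
    [Module F V] (B : LinearMap.BilinForm F V) (hsymm : ∀ u v, B u v = B v u)
    (W : Submodule F V) (hW : SND B W) :
    (QuadraticMap.polarBilin (onetyclass_Q B W)).Nondegenerate := by
  have hleft : ∀ u : ↥W, (∀ v, QuadraticMap.polarBilin (onetyclass_Q B W) u v = 0) → u = 0 := by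
    intro u hu
    apply Subtype.ext
    apply hW _ u.2
    intro v hv
    have := hu ⟨v, hv⟩
    rw [onetyclass_polar B hsymm] at this
    exact (mul_eq_zero.mp this).resolve_left h2
  constructor
  · exact hleft
  · intro v hv
    apply hleft
    intro u
    have := hv u
    rw [onetyclass_polar B hsymm] at this ⊢
    rw [hsymm]
    exact this

/-- a subspace on which `B w w` vanishes is totally isotropic (`2 ≠ 0`) -/
theorem onetyclass_sti {F : Type*} [Field F] (h2 : (2 : F) ≠ 0) {V : Type*} [AddCommGroup V]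
    [Module F V] (B : LinearMap.BilinForm F V) (hsymm : ∀ u v, B u v = B v u)
    (U : Submodule F V) (hU : ∀ u ∈ U, B u u = 0) : STI B U := by
  intro u hu v hv
  have h1 := hU (u + v) (U.add_mem hu hv)
  simp only [map_add, LinearMap.add_apply] at h1
  rw [hU u hu, hU v hv, hsymm v u] at h1
  have h3 : 2 * B u v = 0 := by linear_combination h1
  exact (mul_eq_zero.mp h3).resolve_left h2

/-- a linear isometry from the standard plus space gives a hyperbolic structure -/
theorem onetyclass_hyp_of_plus {F : Type*} [Field F] (h2 : (2 : F) ≠ 0) {V : Type*}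
    [AddCommGroup V] [Module F V] [FiniteDimensional F V] (B : LinearMap.BilinForm F V)
    (hsymm : ∀ u v, B u v = B v u) (W : Submodule F V) (h : ℕ) (hdim : finrank F W = 2 * h)
    (T : (Fin h ⊕ Fin h → F) ≃ₗ[F] ↥W)
    (hT : ∀ v, B ((T v : ↥W) : V) ((T v : ↥W) : V) = Cfsg.quadFormPlus h F v) : SHyp B W := by
  let U₀ : Submodule F (Fin h ⊕ Fin h → F) :=
    LinearMap.ker (LinearMap.funLeft F F (Sum.inr : Fin h → Fin h ⊕ Fin h))
  have hU₀ : ∀ v ∈ U₀, ∀ j, v (Sum.inr j) = 0 := by
    intro v hv j
    have := congrFun (LinearMap.mem_ker.mp hv) j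
    simpa [LinearMap.funLeft_apply] using this
  have hU₀dim : finrank F U₀ = h := by
    have h1 := LinearMap.finrank_range_add_finrank_ker
      (LinearMap.funLeft F F (Sum.inr : Fin h → Fin h ⊕ Fin h))
    have h2' : LinearMap.range (LinearMap.funLeft F F (Sum.inr : Fin h → Fin h ⊕ Fin h)) = ⊤ :=
      LinearMap.range_eq_top.mpr
        (LinearMap.funLeft_surjective_of_injective F F _ Sum.inr_injective)
    rw [h2', finrank_top, Module.finrank_fintype_fun_eq_card, Module.finrank_fintype_fun_eq_card,
      Fintype.card_sum, Fintype.card_fin] at h1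
    show finrank F ↥(LinearMap.ker (LinearMap.funLeft F F (Sum.inr : Fin h → Fin h ⊕ Fin h))) = h
    omega
  let U : Submodule F V := (U₀.map T.toLinearMap).map W.subtype
  refine ⟨U, ?_, ?_, ?_⟩
  · rintro _ ⟨w, _, rfl⟩
    exact w.2
  · apply onetyclass_sti h2 B hsymm
    rintro _ ⟨_, ⟨v, hv, rfl⟩, rfl⟩
    show B ((T v : ↥W) : V) ((T v : ↥W) : V) = 0
    rw [hT]
    unfold Cfsg.quadFormPlus
    apply Finset.sum_eq_zero
    intro j _
    rw [hU₀ v hv j, mul_zero]
  · have h1 : finrank F U = finrank F ↥(U₀.map T.toLinearMap) :=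
      Submodule.finrank_map_subtype_eq W _
    have h3 : finrank F ↥(U₀.map T.toLinearMap) = finrank F U₀ :=
      LinearEquiv.finrank_map_eq T U₀
    rw [h1, h3, hU₀dim, hdim]

theorem ty_class {F : Type*} [Field F] [Fintype F] (h2 : (2 : F) ≠ 0)
    {V : Type*} [AddCommGroup V] [Module F V] [FiniteDimensional F V]
    (B : LinearMap.BilinForm F V) (hsymm : ∀ u v, B u v = B v u)
    (W : Submodule F V) (hW : SND B W) (hev : Even (finrank F W)) :
    (SHyp B W ∧ OTy B W 1) ∨ (¬ SHyp B W ∧ OTy B W (-1)) := by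
  classical
  obtain ⟨h, hh⟩ := hev
  have hdim : finrank F W = 2 * h := by omega
  have hdiv : finrank F W / 2 = h := by omega
  rcases Nat.eq_zero_or_pos h with h0 | hpos
  · -- W = ⊥
    have hbot : W = ⊥ := Submodule.finrank_eq_zero.mp (by omega)
    left
    subst hbot
    refine ⟨⟨⊥, le_rfl, ?_, by simp⟩, (ty_bot B 1).mpr rfl⟩
    intro u hu v _
    rw [(Submodule.mem_bot F).mp hu, map_zero, LinearMap.zero_apply]
  · have hnd := onetyclass_nd h2 B hsymm W hW
    by_cases hS : SHyp B W
    · left
      refine ⟨hS, ?_⟩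
      obtain ⟨U, hUW, hUti, hUdim⟩ := hS
      let U' : Submodule F ↥W := U.comap W.subtype
      have hU'dim : finrank F U' = h := by
        have h1 : finrank F U' = finrank F U :=
          (Submodule.comapSubtypeEquivOfLe hUW).finrank_eq
        rw [h1]
        omega
      have hU's : ∀ u ∈ U', onetyclass_Q B W u = 0 := by
        intro u hu
        rw [onetyclass_Q_apply]
        exact hUti _ hu _ hu
      obtain ⟨T, hT⟩ := Cfsg.Agent.Lib.helper6.Plus.exists_hyp_coords (onetyclass_Q B W) hnd U'
        hU's h hU'dim hdim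
      unfold OTy
      rw [hdiv]
      have := (isType_congr (F := F) T.toEquiv (Cfsg.quadFormPlus h F)
        (fun w : ↥W => B (w : V) (w : V)) (fun w => hT w) h 1).mp (isType_plus h)
      exact this
    · right
      refine ⟨hS, ?_⟩
      -- coordinates
      let b : Basis (Fin (2 * h)) F W := Module.finBasisOfFinrankEq F W hdim
      let e : ↥W ≃ₗ[F] (Fin (2 * h) → F) := b.equivFun
      let Q : QuadraticForm F (Fin (2 * h) → F) := (onetyclass_Q B W).comp e.symm.toLinearMap
      have hQ : ∀ v, Q v = B ((e.symm v : ↥W) : V) ((e.symm v : ↥W) : V) := fun v => rfl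
      have hQnd : (QuadraticMap.polarBilin Q).Nondegenerate :=
        nondeg_of_equiv (onetyclass_Q B W) Q e.symm (fun v => rfl) hnd
      rcases classify hpos (Fintype.card_fin _) Q hQnd with ⟨Φ, hΦ⟩ | ⟨ζ, hζ, Φ, hΦ⟩
      · exfalso
        apply hS
        apply onetyclass_hyp_of_plus h2 B hsymm W h hdim (Φ.trans e.symm)
        intro v
        rw [← hΦ v, hQ]
        rfl
      · have h1 := isType_minus (F := F) (h - 1) 1 ζ (aniso_of_irred ζ hζ)
        rw [show h - 1 + 1 = h by omega] at h1
        unfold OTy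
        rw [hdiv]
        have := (isType_congr (F := F) (Φ.trans e.symm).toEquiv
          (fun w : ↥W => B (w : V) (w : V)) (Cfsg.quadFormMinus (h - 1) F 1 ζ)
          (fun v => by rw [← hΦ v, hQ]; rfl) h (-1)).mpr h1
        exact this

end Cfsg.Agent.Lib.Helper18.ONE
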