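import Mathlib
import Cfsg.Agent.Lib.Helper1.O9L.Defs
import Cfsg.Agent.Lib.Lead.O9LSIGNFREE
import Cfsg.Agent.Lib.Helper25.ODNCNTONE
import Cfsg.Agent.Lib.Helper16.SpinB

set_option autoImplicit false
set_option linter.unusedVariables false
set_option linter.unusedSectionVars false

namespace Cfsg.Agent.Lib.Helper1.O9L

open Matrix Module Polynomial Cfsg.Agent.Lib.Helper13.OTS Cfsg.Agent.Lib.Helper16 Cfsg.Agent.Lib.Helper19.O9U

/-- the field has odd order when `2 ≠ 0` -/
theorem o9lnonmem_odd_card {F : Type*} [Field F] [Fintype F] (h2 : (2 : F) ≠ 0) : Odd (Fintype.card F) := by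
  obtain ⟨p, hpc⟩ := CharP.exists F
  have : CharP F p := hpc
  rcases Nat.even_or_odd (Fintype.card F) with he | ho
  · exfalso
    have hpp : p.Prime := CharP.char_is_prime F p
    have : Fact p.Prime := ⟨hpp⟩
    obtain ⟨k, hpk, hk⟩ := FiniteField.card F p
    have h2p : 2 ∣ p ^ (k : ℕ) := by rw [← hk]; exact even_iff_two_dvd.mp he
    have h2p' : 2 ∣ p := Nat.Prime.dvd_of_dvd_pow Nat.prime_two h2p
    have hp2 : p = 2 := ((Nat.prime_dvd_prime_iff_eq Nat.prime_two hpk).mp h2p').symm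
    apply h2
    have h3 : ((2 : ℕ) : F) = 0 := by rw [← hp2]; exact CharP.cast_eq_zero F p
    exact_mod_cast h3
  · exact ho

/-- powers of the permutation induced by an isometry on a level set -/
theorem o9lnonmem_pow_val {F : Type*} [Field F] [Fintype F] {ι : Type} [Fintype ι] [DecidableEq ι]
    (Q : (ι → F) → F) (c : F) (g : ↥(Cfsg.isometryGroup F Q)) (k : ℕ) (v : LevelSet Q c) :
    (((MulAction.toPerm g : Equiv.Perm (LevelSet Q c)) ^ k) v).1 =
      (((g : GL ι F) ^ k : GL ι F) : Matrix ι ι F) *ᵥ v.1 := by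
  have h1 : (MulAction.toPerm g : Equiv.Perm (LevelSet Q c)) ^ k = MulAction.toPerm (g ^ k) := by
    rw [← MulAction.toPermHom_apply, ← map_pow]
    rfl
  rw [h1]
  show ((g ^ k) • v).1 = _
  rw [levelSet_smul_val]
  simp

theorem free_not_mem {F : Type*} [Field F] [Fintype F] (h2 : (2 : F) ≠ 0) {ι : Type} [Fintype ι] [DecidableEq ι]
    (Qs : QuadraticForm F (ι → F)) (d : ℕ) (s : ℤ) (hs : QStd Qs d s) (hd : 1 ≤ d)
    (g : ↥(Cfsg.isometryGroup F (⇑Qs))) (N : ℕ) (hN : (N : ℤ) = (Fintype.card F : ℤ) ^ d - s)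
    (hfree : FreeG (g : GL ι F) N) : g ∉ Cfsg.Omega F (⇑Qs) := by
  intro hg
  have hker : spinSign (⇑Qs) 1 g = 1 := MonoidHom.mem_ker.mp (omega_le_ker (⇑Qs) (spinSign (⇑Qs) 1) hg)
  rw [spinSign_apply] at hker
  have hqodd := o9lnonmem_odd_card h2
  have hq3 : 3 ≤ Fintype.card F := by
    have : 2 ≤ Fintype.card F := Fintype.one_lt_card
    obtain ⟨t, ht⟩ := hqodd
    omega
  have hqd : Odd (Fintype.card F ^ d) := hqodd.pow
  have hqd3 : 3 ≤ Fintype.card F ^ d := le_trans hq3 (Nat.le_self_pow (by omega) _)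
  have hNeven : Even N := by
    obtain ⟨t, ht⟩ := hqd
    have ht' : (Fintype.card F : ℤ) ^ d = 2 * (t : ℤ) + 1 := by exact_mod_cast ht
    rcases hs.eps with h | h
    · refine ⟨t, ?_⟩
      have : (N : ℤ) = (t : ℤ) + t := by rw [hN, h, ht']; ring
      exact_mod_cast this
    · refine ⟨t + 1, ?_⟩
      have : (N : ℤ) = ((t + 1 : ℕ) : ℤ) + (t + 1 : ℕ) := by rw [hN, h, ht']; push_cast; ring
      exact_mod_cast this
  have hN0 : 0 < N := by
    have h3 : (3 : ℤ) ≤ (Fintype.card F : ℤ) ^ d := by exact_mod_cast hqd3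
    have : (0 : ℤ) < N := by
      rcases hs.eps with h | h <;> rw [hN, h] <;> linarith
    exact_mod_cast this
  have hcnt := Cfsg.Agent.Lib.Helper1.ODN.odn_cnt_one h2 Qs hs.nd d hd hs.card s hs.eps hs.ty
  have hcard : Fintype.card (LevelSet (⇑Qs) 1) = N * Fintype.card F ^ (d - 1) := by
    have h1 : (Fintype.card (LevelSet (⇑Qs) 1) : ℤ) = ((N * Fintype.card F ^ (d - 1) : ℕ) : ℤ) := by
      rw [← Nat.card_eq_fintype_card]
      change (Nat.card {v : ι → F // Qs v = 1} : ℤ) = _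
      rw [hcnt]
      push_cast
      rw [hN]
      ring
    exact_mod_cast h1
  have hm : Odd (Fintype.card F ^ (d - 1)) := hqodd.pow
  have hgN : (g : GL ι F) ^ N = 1 := by
    rw [← hfree.1]; exact pow_orderOf_eq_one _
  have hsign := sign_free (MulAction.toPerm g : Equiv.Perm (LevelSet (⇑Qs) 1)) N (Fintype.card F ^ (d - 1)) hNeven hN0 ?_ ?_ hcard hm
  · rw [hsign] at hker
    exact absurd hker (by decide)
  · ext v
    apply Subtype.ext
    rw [o9lnonmem_pow_val, hgN]
    simp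
  · intro k hk v hv
    have h1 := congrArg Subtype.val hv
    rw [o9lnonmem_pow_val] at h1
    have h3 : v.1 = 0 := hfree.2 k hk v.1 h1
    have h6 := v.2
    rw [h3, map_zero] at h6
    exact zero_ne_one h6

end Cfsg.Agent.Lib.Helper1.O9L
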