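import Mathlib
import Cfsg.Prelude.Def_Classical
import Cfsg.Agent.Lib.helper3.O9A.Defs

set_option autoImplicit false

namespace Cfsg.Agent.Lib.helper3.O9A

open Matrix Module Polynomial Cfsg.Agent.Lib.Helper1.S8U Cfsg.Agent.Lib.Helper16

/-- matrix form: `Mᵀ A M = A`, `det A ≠ 0`, `det (M - 1) ≠ 0` give `det M = (-1)^n`. -/
theorem o9adetm_matrix {F : Type*} [Field F] {n : ℕ} (M A : Matrix (Fin n) (Fin n) F)
    (hMAM : Mᵀ * A * M = A) (hA : A.det ≠ 0) (hM1 : (M - 1).det ≠ 0) : M.det = (-1) ^ n := by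
  have key : Mᵀ * A * (M - 1) = (1 - Mᵀ) * A := by
    rw [mul_sub, hMAM, mul_one, sub_mul, one_mul]
  have h1 : (1 - Mᵀ : Matrix (Fin n) (Fin n) F) = (-(M - 1))ᵀ := by
    rw [transpose_neg, transpose_sub, transpose_one]; abel
  have h := congrArg Matrix.det key
  rw [det_mul, det_mul, det_mul, det_transpose, h1, det_transpose, det_neg, Fintype.card_fin] at h
  have h3 : (M.det - (-1) ^ n) * (A.det * (M - 1).det) = 0 := by
    linear_combination h
  rcases mul_eq_zero.mp h3 with h4 | h4
  · exact sub_eq_zero.mp h4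
  · exact absurd h4 (mul_ne_zero hA hM1)

theorem det_fpf {F : Type*} [Field F] {V : Type*} [AddCommGroup V] [Module F V] [FiniteDimensional F V] (Q : QuadraticForm F V)
    (hQ : (QuadraticMap.polarBilin Q).Nondegenerate) (y : Module.End F V) (hy : ∀ v, Q (y v) = Q v)
    (hfix : LinearMap.ker (y - 1) = ⊥) : LinearMap.det y = (-1) ^ finrank F V := by
  classical
  let b := Module.finBasis F V
  have hcomp : LinearMap.BilinForm.comp (QuadraticMap.polarBilin Q) y y = QuadraticMap.polarBilin Q := by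
    ext u v
    simp only [LinearMap.BilinForm.comp_apply, QuadraticMap.polarBilin_apply_apply]
    unfold QuadraticMap.polar
    rw [← map_add, hy, hy, hy]
  have hMAM : (LinearMap.toMatrix b b y)ᵀ * LinearMap.BilinForm.toMatrix b (QuadraticMap.polarBilin Q) * LinearMap.toMatrix b b y
      = LinearMap.BilinForm.toMatrix b (QuadraticMap.polarBilin Q) := by
    rw [← LinearMap.BilinForm.toMatrix_comp b b, hcomp]
  have hA : (LinearMap.BilinForm.toMatrix b (QuadraticMap.polarBilin Q)).det ≠ 0 :=
    (LinearMap.BilinForm.nondegenerate_iff_det_ne_zero b).1 hQ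
  have hM1 : (LinearMap.toMatrix b b y - 1).det ≠ 0 := by
    have : LinearMap.toMatrix b b y - 1 = LinearMap.toMatrix b b (y - 1) := by
      rw [map_sub, LinearMap.toMatrix_one]
    rw [this, LinearMap.det_toMatrix]
    intro h
    have h' := LinearMap.bot_lt_ker_of_det_eq_zero h
    rw [hfix] at h'
    exact lt_irrefl _ h'
  rw [← LinearMap.det_toMatrix b y]
  exact o9adetm_matrix _ _ hMAM hA hM1

end Cfsg.Agent.Lib.helper3.O9A
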