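import Mathlib
import Cfsg.Agent.Lib.Helper1.O9L.Defs
import Cfsg.Agent.Lib.helper6.SO8SMINUS

set_option autoImplicit false
set_option linter.unusedVariables false
set_option linter.unusedSectionVars false

namespace Cfsg.Agent.Lib.Helper1.O9L

open Matrix Module Polynomial Cfsg.Agent.Lib.Helper13.OTS Cfsg.Agent.Lib.Helper16 Cfsg.Agent.Lib.Helper19.O9U
open Cfsg.Agent.Lib.Helper19.SO8 Cfsg.Agent.Lib.Helper13.S5955 Cfsg.Agent.Lib.helper15.S5972 Cfsg.Agent.Lib.helper14.Singer

/-- an odd number `> 1` dividing `q^n + 1` (`q` odd, `n ≥ 2`) -/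
theorem o9lsminusm_odd_factor (q n : ℕ) (hq : Odd q) (hq3 : 3 ≤ q) (hn : 2 ≤ n) :
    ∃ M : ℕ, Odd M ∧ 1 < M ∧ M ∣ q ^ n + 1 := by
  rcases Nat.even_or_odd n with ⟨j, hj⟩ | hodd
  · -- n = j + j
    have hj1 : 1 ≤ j := by omega
    obtain ⟨t, ht⟩ := Odd.pow (n := j) hq
    have h3 : 3 ≤ q ^ j := le_trans hq3 (Nat.le_self_pow (by omega) q)
    have ht1 : 1 ≤ t := by omega
    refine ⟨2 * (t * t) + 2 * t + 1, ⟨t * t + t, by ring⟩, ?_, ⟨2, ?_⟩⟩
    · have : 1 ≤ t * t := Nat.mul_le_mul ht1 ht1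
      omega
    · rw [hj, pow_add, ht]; ring
  · -- n odd
    have hdvd : q + 1 ∣ q ^ n + 1 := by
      have := Odd.nat_add_dvd_pow_add_pow q 1 hodd
      rwa [one_pow] at this
    obtain ⟨S, hS⟩ := hdvd
    obtain ⟨j, hj⟩ := hodd
    have hj1 : 1 ≤ j := by omega
    -- q^2 ≡ 1 mod 2(q+1)
    obtain ⟨t, ht⟩ := hq
    have hsq : q ^ 2 ≡ 1 [MOD 2 * (q + 1)] := by
      have h1 : q ^ 2 = 1 + (2 * (q + 1)) * t := by rw [ht]; ring
      rw [h1]
      exact (Nat.modEq_iff_dvd' (by omega)).mpr (by rw [Nat.add_sub_cancel_left]; exact dvd_mul_right _ _) |>.symm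
    have hqn : q ^ n ≡ q [MOD 2 * (q + 1)] := by
      have h1 : q ^ n = (q ^ 2) ^ j * q := by rw [hj, pow_succ, pow_mul]
      rw [h1]
      have h2 := (hsq.pow j).mul_right q
      rwa [one_pow, one_mul] at h2
    have hqn1 : (q + 1) * S ≡ q + 1 [MOD 2 * (q + 1)] := by
      rw [← hS]
      exact hqn.add_right 1
    have hSodd : Odd S := by
      rcases Nat.even_or_odd S with ⟨s, hs⟩ | h
      · exfalso
        have h1 : (q + 1) * S ≡ 0 [MOD 2 * (q + 1)] := by
          rw [hs]
          exact (Nat.modEq_zero_iff_dvd).mpr ⟨s, by ring⟩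
        have h2 : q + 1 ≡ 0 [MOD 2 * (q + 1)] := hqn1.symm.trans h1
        have h3 := (Nat.modEq_zero_iff_dvd).mp h2
        have h4 := Nat.le_of_dvd (by omega) h3
        omega
      · exact h
    refine ⟨S, hSodd, ?_, ⟨q + 1, by rw [hS]; ring⟩⟩
    by_contra hle
    push Not at hle
    have h1 : q ^ n + 1 ≤ (q + 1) * 1 := by rw [hS]; exact Nat.mul_le_mul_left _ hle
    have h2 : q ^ 2 ≤ q ^ n := Nat.pow_le_pow_right (by omega) hn
    have h3 : q * 3 ≤ q * q := Nat.mul_le_mul_left q hq3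
    rw [pow_two] at h2
    omega

/-- an odd prime dividing `q^n + 1` (`q` odd, `n ≥ 2`) -/
theorem o9lsminusm_odd_prime (q n : ℕ) (hq : Odd q) (hq3 : 3 ≤ q) (hn : 2 ≤ n) :
    ∃ r : ℕ, r.Prime ∧ r ≠ 2 ∧ r ∣ q ^ n + 1 := by
  obtain ⟨M, hM, hM1, hMd⟩ := o9lsminusm_odd_factor q n hq hq3 hn
  refine ⟨M.minFac, Nat.minFac_prime (by omega), ?_, (Nat.minFac_dvd M).trans hMd⟩
  intro h2
  have h3 : 2 ∣ M := by rw [← h2]; exact Nat.minFac_dvd M
  obtain ⟨t, ht⟩ := hM
  omega

section model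

variable {F : Type*} [Field F] [Fintype F] (K : Type*) [Field K] [Finite K] [Algebra F K]

/-- the polar form of `x ↦ Tr (x x^(q^n))` is `2 Tr (x y^(q^n))` -/
theorem o9lsminusm_polar (n : ℕ) (hinv : ∀ x : K, (x ^ (Fintype.card F ^ n)) ^ (Fintype.card F ^ n) = x) (x y : K) :
    QuadraticMap.polar (so8sminus_Q (F := F) K n (1 : K)) x y = twForm (F := F) K n ((2 : K) * x) y := by
  rw [so8sminus_polar' K n hinv, one_pow, one_add_one_eq_two]

theorem o9lsminusm_two_ne (h2 : (2 : F) ≠ 0) : (2 : K) ≠ 0 := by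
  intro h
  apply h2
  apply (algebraMap F K).injective
  rw [map_zero, map_ofNat]
  exact h

theorem o9lsminusm_nd (h2 : (2 : F) ≠ 0) (n : ℕ)
    (hinv : ∀ x : K, (x ^ (Fintype.card F ^ n)) ^ (Fintype.card F ^ n) = x) :
    ∀ u, (∀ v, QuadraticMap.polar (so8sminus_Q (F := F) K n (1 : K)) u v = 0) → u = 0 := by
  intro u hu
  have h1 : (2 : K) * u = 0 := by
    apply (twForm_nondegenerate (F := F) K n).1
    intro v
    rw [← o9lsminusm_polar K n hinv]
    exact hu v
  exact (mul_eq_zero.mp h1).resolve_left (o9lsminusm_two_ne K h2)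

/-- for `n = 1` the form `Tr (x x^q)` is anisotropic -/
theorem o9lsminusm_aniso (h2 : (2 : F) ≠ 0) (hfr : finrank F K = 2) (x : K)
    (hx : so8sminus_Q (F := F) K 1 (1 : K) x = 0) : x = 0 := by
  by_contra hx0
  letI : Fintype K := Fintype.ofFinite K
  have hc : Fintype.card K = Fintype.card F ^ 2 := by
    rw [← hfr, ← Nat.card_eq_fintype_card, ← Nat.card_eq_fintype_card]
    exact Module.natCard_eq_pow_finrank (K := F) (V := K)
  have hq : 2 ≤ Fintype.card F := Fintype.one_lt_card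
  have hpow : (x * x ^ (Fintype.card F ^ 1)) ^ (Fintype.card F - 1) = 1 := by
    rw [pow_one, ← pow_succ', ← pow_mul]
    have h1 : (Fintype.card F + 1) * (Fintype.card F - 1) = Fintype.card K - 1 := by
      rw [hc]
      obtain ⟨k, hk⟩ : ∃ k, Fintype.card F = k + 1 := ⟨Fintype.card F - 1, by omega⟩
      rw [hk]
      simp only [Nat.add_sub_cancel]
      have : (k + 1) ^ 2 = (k + 1 + 1) * k + 1 := by ring
      rw [this, Nat.add_sub_cancel]
    rw [h1]
    exact FiniteField.pow_card_sub_one_eq_one x hx0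
  obtain ⟨c, hc'⟩ := Cfsg.Agent.Lib.helper15.Spec3.torsion_mem (F := F) (x * x ^ (Fintype.card F ^ 1)) hpow
  rw [so8sminus_Q_apply, twForm_apply, one_mul, ← hc', Algebra.trace_algebraMap, hfr, two_smul] at hx
  have hc0 : c = 0 := by
    have : (2 : F) * c = 0 := by rw [two_mul]; exact hx
    exact (mul_eq_zero.mp this).resolve_left h2
  rw [hc0, map_zero] at hc'
  rcases mul_eq_zero.mp hc'.symm with h | h
  · exact hx0 h
  · exact hx0 (pow_eq_zero_iff (by positivity) |>.mp h)

end model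

theorem free_minus_model {F : Type*} [Field F] [Fintype F] (h2 : (2 : F) ≠ 0) (K : Type*) [Field K] [Finite K] [Algebra F K]
    (n : ℕ) (hn : 1 ≤ n) (hfr : finrank F K = 2 * n) :
    ∃ (Q : QuadraticForm F K) (x : Module.End F K),
      (∀ u, (∀ v, QuadraticMap.polar Q u v = 0) → u = 0) ∧ FreeE Q x (Fintype.card F ^ n + 1) ∧
        QTy Q ⊤ (-1) := by
  classical
  obtain ⟨γ, hγ⟩ := so8sminus_gamma (F := F) K n hn hfr
  have hinv := so8sminus_hinv (F := F) K n hfr
  obtain ⟨p, hpc⟩ := CharP.exists F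
  have : CharP F p := hpc
  have : Fact p.Prime := ⟨CharP.char_is_prime F p⟩
  have hpq : p ∣ Fintype.card F := char_dvd_card p
  have hqodd : Odd (Fintype.card F) := by
    rcases Nat.even_or_odd (Fintype.card F) with he | ho
    · exfalso
      obtain ⟨k, hpk, hk⟩ := FiniteField.card F p
      have h2p : 2 ∣ p ^ (k : ℕ) := by rw [← hk]; exact even_iff_two_dvd.mp he
      have h2p' : 2 ∣ p := Nat.Prime.dvd_of_dvd_pow Nat.prime_two h2p
      have hp2 : p = 2 := ((Nat.prime_dvd_prime_iff_eq Nat.prime_two hpk).mp h2p').symm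
      apply h2
      have h3 : ((2 : ℕ) : F) = 0 := by rw [← hp2]; exact CharP.cast_eq_zero F p
      exact_mod_cast h3
    · exact ho
  have h2q : 2 ≤ Fintype.card F := Fintype.one_lt_card
  have h3q : 3 ≤ Fintype.card F := by
    obtain ⟨t, ht⟩ := hqodd
    omega
  have hQ2 : 2 ≤ Fintype.card F ^ n := by
    have h3 : 2 ^ n ≤ Fintype.card F ^ n := Nat.pow_le_pow_left h2q n
    have h4 : 2 ^ 1 ≤ 2 ^ n := Nat.pow_le_pow_right (by norm_num) hn
    omega
  have hγpow : γ ^ (Fintype.card F ^ n + 1) = 1 := by rw [← hγ]; exact pow_orderOf_eq_one γ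
  have hγN : (γ : K) * (γ : K) ^ (Fintype.card F ^ n) = 1 := by
    rw [← pow_succ', ← Units.val_pow_eq_pow_val, hγpow, Units.val_one]
  have hnd := o9lsminusm_nd K h2 n hinv
  have hpowiff : ∀ k, (Algebra.lmul F K (γ : K) : Module.End F K) ^ k = 1 ↔ (Fintype.card F ^ n + 1) ∣ k := by
    intro k
    rw [so8sminus_lmul_pow, so8sminus_lmul_eq_one, ← hγ, orderOf_dvd_iff_pow_eq_one,
      ← Units.val_pow_eq_pow_val, Units.val_eq_one]
  refine ⟨so8sminus_Q (F := F) K n (1 : K), Algebra.lmul F K (γ : K), hnd,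
    ⟨so8sminus_pres K n (1 : K) (γ : K) hγN, hpowiff, ?_⟩, ?_⟩
  · -- free
    intro k hk v hv
    rw [so8sminus_lmul_pow] at hv
    have hv' : (γ : K) ^ k * v = v := hv
    have h1 : ((γ : K) ^ k - 1) * v = 0 := by rw [sub_mul, hv', one_mul, sub_self]
    rcases mul_eq_zero.mp h1 with h | h
    · exfalso
      apply hk
      rw [← hpowiff, so8sminus_lmul_pow, so8sminus_lmul_eq_one]
      exact sub_eq_zero.mp h
    · exact h
  · -- the type
    have hSND : SND (qB (so8sminus_Q (F := F) K n (1 : K))) ⊤ := by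
      intro u _ hu
      apply hnd u
      intro v
      have := hu v Submodule.mem_top
      rwa [QuadraticMap.polarBilin_apply_apply] at this
    have hft : finrank F (⊤ : Submodule F K) = 2 * n := by rw [finrank_top, hfr]
    have hev : Even (finrank F (⊤ : Submodule F K)) := by rw [hft]; exact even_two_mul n
    rcases Nat.lt_or_ge n 2 with hn1 | hn2
    · -- n = 1: anisotropic
      have hn1' : n = 1 := by omega
      subst hn1'
      unfold QTy Cfsg.Agent.Lib.Helper16.OSemi.IsType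
      rw [hft]
      have hcnt : Cfsg.Agent.Lib.Helper16.OSemi.cnt
          (fun w : ↥(⊤ : Submodule F K) => so8sminus_Q (F := F) K 1 (1 : K) (w : K)) 0 = 1 := by
        unfold Cfsg.Agent.Lib.Helper16.OSemi.cnt
        rw [Nat.card_eq_one_iff_unique]
        refine ⟨⟨?_⟩, ⟨⟨0, by simp⟩⟩⟩
        rintro ⟨a, ha⟩ ⟨b, hb⟩
        apply Subtype.ext
        apply Subtype.ext
        rw [o9lsminusm_aniso K h2 (by omega) (a : K) ha, o9lsminusm_aniso K h2 (by omega) (b : K) hb]
      rw [hcnt]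
      norm_num
    · rcases q_ty_class (so8sminus_Q (F := F) K n (1 : K)) ⊤ hSND hev with ⟨_, h1⟩ | ⟨_, hm, _⟩
      · exfalso
        obtain ⟨r, hr, hr2, hrN⟩ := o9lsminusm_odd_prime (Fintype.card F) n hqodd h3q hn2
        have : Fact r.Prime := ⟨hr⟩
        have hrp : r ≠ p := by
          rintro rfl
          have h3 : r ∣ Fintype.card F ^ n := dvd_pow hpq (by omega)
          have h4 : r ∣ 1 := (Nat.dvd_add_right h3).mp hrN
          exact hr.one_lt.ne' (Nat.dvd_one.mp h4)
        obtain ⟨t, ht⟩ := hrN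
        have ht0 : t ≠ 0 := by
          rintro rfl
          omega
        have hζord : orderOf (γ ^ t) = r := by
          rw [orderOf_pow_of_dvd ht0 (by rw [hγ, ht]; exact dvd_mul_left _ _), hγ, ht]
          exact Nat.mul_div_cancel _ (Nat.pos_of_ne_zero ht0)
        have hζr : ((γ ^ t : Kˣ) : K) ^ r = 1 := by
          rw [← Units.val_pow_eq_pow_val, ← hζord, pow_orderOf_eq_one, Units.val_one]
        have hζ1 : ((γ ^ t : Kˣ) : K) ≠ 1 := by
          intro h
          have h1' : γ ^ t = 1 := Units.ext (by rw [h, Units.val_one])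
          rw [h1', orderOf_one] at hζord
          exact hr.one_lt.ne hζord
        have hζN : ((γ ^ t : Kˣ) : K) * ((γ ^ t : Kˣ) : K) ^ (Fintype.card F ^ n) = 1 := by
          rw [← pow_succ', ← Units.val_pow_eq_pow_val, ← pow_mul, mul_comm, pow_mul, hγpow, one_pow,
            Units.val_one]
        have hctx : QCtx r (so8sminus_Q (F := F) K n (1 : K)) (Algebra.lmul F K ((γ ^ t : Kˣ) : K)) := by
          refine ⟨hnd, so8sminus_pres K n (1 : K) _ hζN, ?_⟩
          rw [so8sminus_lmul_pow, hζr, map_one]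
        have hSInv : SInv (Algebra.lmul F K ((γ ^ t : Kˣ) : K) : Module.End F K) ⊤ :=
          fun w _ => Submodule.mem_top
        have hcyc : (⊤ : Submodule F K) ≤ cycS r (Algebra.lmul F K ((γ ^ t : Kˣ) : K) : Module.End F K) := by
          intro v _
          unfold cycS
          rw [LinearMap.mem_ker, Polynomial.aeval_algHom_apply]
          have h0 : aeval ((γ ^ t : Kˣ) : K) (cyclotomic r F) = 0 := by
            rw [cyclotomic_prime, map_sum]
            simp only [map_pow, aeval_X]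
            have h3 := geom_sum_mul ((γ ^ t : Kˣ) : K) r
            rw [hζr, sub_self] at h3
            exact (mul_eq_zero.mp h3).resolve_right (sub_ne_zero.mpr hζ1)
          rw [h0, map_zero]
          rfl
        have hM0 : (⊤ : Submodule F K) ≠ ⊥ := by
          intro h
          rw [h, finrank_bot] at hft
          omega
        have h5 := q_ty_fpf (p := p) hrp hctx ⊤ hSInv hSND hcyc hM0 hev 1 h1
        rw [hft, Nat.mul_div_cancel_left n (by norm_num)] at h5
        have h6 : ((Fintype.card F ^ n + 1 : ℕ) : ZMod r) = 0 := by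
          rw [ZMod.natCast_eq_zero_iff, ht]
          exact dvd_mul_right _ _
        rw [Nat.cast_add, Nat.cast_pow, h5] at h6
        have h7 : ((2 : ℕ) : ZMod r) = 0 := by
          rw [← h6]
          push_cast
          norm_num
        rw [ZMod.natCast_eq_zero_iff] at h7
        exact hr2 ((Nat.prime_dvd_prime_iff_eq hr Nat.prime_two).mp h7)
      · exact hm

end Cfsg.Agent.Lib.Helper1.O9L
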