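import Mathlib
import Cfsg.Agent.Lib.Helper18.ONE.Defs
import Cfsg.Agent.Lib.Helper24.S5972SPLIT
import Cfsg.Agent.Lib.Helper16.OCnt2

set_option autoImplicit false

namespace Cfsg.Agent.Lib.Helper18.ONE

open Polynomial Module Cfsg.Agent.Lib.Helper13.S5955 Cfsg.Agent.Lib.helper15.S5972
open Cfsg.Agent.Lib.Helper16.OSemi

/-- a fixed-point-free isometry of prime order `r` on `M`: `r` divides the number of `w ∈ M` with `B w w = 1` -/
theorem onetyfpf_dvd {F : Type*} [Field F] [Fintype F] {p : ℕ} [Fact p.Prime] [CharP F p]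
    {V : Type*} [AddCommGroup V] [Module F V] [FiniteDimensional F V]
    {r : ℕ} [Fact r.Prime] (hrp : r ≠ p) {B : LinearMap.BilinForm F V} {x : Module.End F V}
    (h : OCtx r B x) (M : Submodule F V) (hM : SInv x M) (hMc : M ≤ cycS r x) :
    r ∣ Nat.card {w : ↥M // B (w : V) (w : V) = 1} := by
  classical
  have hr : r.Prime := Fact.out
  obtain ⟨t, ht⟩ : ∃ t, r = t + 1 := ⟨r - 1, by have := hr.pos; omega⟩
  have h1 : x ^ t * x = 1 := by rw [← pow_succ, ← ht, h.pow]
  have h2 : x * x ^ t = 1 := by rw [← pow_succ', ← ht, h.pow]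
  have hMpow : ∀ (j : ℕ) (w : V), w ∈ M → (x ^ j) w ∈ M := by
    intro j
    induction j with
    | zero => intro w hw; rw [pow_zero, Module.End.one_apply]; exact hw
    | succ j ih =>
      intro w hw
      rw [pow_succ, Module.End.mul_apply]
      exact ih _ (hM w hw)
  have hpres : ∀ (j : ℕ) (u v : V), B ((x ^ j) u) ((x ^ j) v) = B u v :=
    fun j u v => s5972split_pres_pow h j u v
  obtain ⟨_, hcompl, _, _⟩ := o_split (p := p) hrp h
  have hfpf : ∀ w : V, w ∈ M → x w = w → w = 0 := by
    intro w hw hxw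
    have hfix : w ∈ fixS x := by
      unfold fixS
      rw [LinearMap.mem_ker, map_sub, aeval_X, map_one, LinearMap.sub_apply, Module.End.one_apply,
        hxw, sub_self]
    have : w ∈ fixS x ⊓ cycS r x := Submodule.mem_inf.mpr ⟨hfix, hMc hw⟩
    rw [hcompl.inf_eq_bot] at this
    exact (Submodule.mem_bot F).mp this
  let S := {w : ↥M // B (w : V) (w : V) = 1}
  have : Finite V := Module.finite_of_finite F
  have : Fintype S := Fintype.ofFinite S
  let σ : Equiv.Perm S :=
    ⟨fun w => ⟨⟨x w.1.1, hM _ w.1.2⟩, by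
        have := hpres 1 w.1.1 w.1.1
        rw [pow_one] at this
        show B (x w.1.1) (x w.1.1) = 1
        rw [this]; exact w.2⟩,
     fun w => ⟨⟨(x ^ t) w.1.1, hMpow t _ w.1.2⟩, by
        show B ((x ^ t) w.1.1) ((x ^ t) w.1.1) = 1
        rw [hpres t]; exact w.2⟩,
     fun w => by
        apply Subtype.ext; apply Subtype.ext
        show (x ^ t) (x w.1.1) = w.1.1
        rw [← Module.End.mul_apply, h1, Module.End.one_apply],
     fun w => by
        apply Subtype.ext; apply Subtype.ext
        show x ((x ^ t) w.1.1) = w.1.1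
        rw [← Module.End.mul_apply, h2, Module.End.one_apply]⟩
  have hσpow : ∀ (j : ℕ) (w : S), (((σ ^ j) w).1 : V) = (x ^ j) w.1.1 := by
    intro j
    induction j with
    | zero => intro w; rw [pow_zero, pow_zero, Module.End.one_apply]; rfl
    | succ j ih =>
      intro w
      rw [pow_succ, Equiv.Perm.mul_apply, ih, pow_succ, Module.End.mul_apply]
      rfl
  have hσr : σ ^ r ^ 1 = 1 := by
    rw [pow_one]
    ext w : 1
    apply Subtype.ext; apply Subtype.ext
    rw [hσpow, h.pow, Module.End.one_apply]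
    rfl
  rw [Nat.card_eq_fintype_card]
  by_contra hnd
  obtain ⟨w, hw⟩ := Equiv.Perm.exists_fixed_point_of_prime hnd hσr
  have h3 : x w.1.1 = w.1.1 := congrArg (fun z : S => (z.1 : V)) hw
  have h4 := hfpf w.1.1 w.1.2 h3
  have h5 := w.2
  rw [h4] at h5
  simp at h5

theorem ty_fpf {F : Type*} [Field F] [Fintype F] {p : ℕ} [Fact p.Prime] [CharP F p]
    (h2 : (2 : F) ≠ 0) {V : Type*} [AddCommGroup V] [Module F V] [FiniteDimensional F V]
    {r : ℕ} [Fact r.Prime] (hrp : r ≠ p) {B : LinearMap.BilinForm F V} {x : Module.End F V}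
    (h : OCtx r B x) (M : Submodule F V) (hM : SInv x M) (hMnd : SND B M) (hMc : M ≤ cycS r x)
    (hM0 : M ≠ ⊥) (hev : Even (finrank F M)) (s : ℤ) (hs : OTy B M s) :
    ((Fintype.card F : ℕ) : ZMod r) ^ (finrank F M / 2) = (s : ZMod r) := by
  classical
  have hr : r.Prime := Fact.out
  obtain ⟨m, hm⟩ := hev
  have hm2 : finrank F M = 2 * m := by omega
  have hm1 : 1 ≤ m := by
    rcases Nat.eq_zero_or_pos m with h0 | h0
    · exfalso
      apply hM0
      apply Submodule.finrank_eq_zero.mp
      omega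
    · exact h0
  have hdiv : finrank F M / 2 = m := by omega
  -- coordinates
  let b : Basis (Fin (2 * m)) F M := Module.finBasisOfFinrankEq F M hm2
  let e : ↥M ≃ₗ[F] (Fin (2 * m) → F) := b.equivFun
  let Bm : LinearMap.BilinForm F (Fin (2 * m) → F) :=
    (B.restrict M).compl₁₂ e.symm.toLinearMap e.symm.toLinearMap
  have hBm : ∀ u v, Bm u v = B ((e.symm u : ↥M) : V) ((e.symm v : ↥M) : V) := fun u v => rfl
  let Q : QuadraticForm F (Fin (2 * m) → F) := Bm.toQuadraticMap
  have hQ : ∀ v, Q v = B ((e.symm v : ↥M) : V) ((e.symm v : ↥M) : V) := by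
    intro v
    show Bm v v = _
    rw [hBm]
  have hpolar : ∀ u v, QuadraticMap.polarBilin Q u v = 2 * Bm u v := by
    intro u v
    rw [QuadraticMap.polarBilin_apply_apply]
    unfold QuadraticMap.polar
    rw [hQ, hQ, hQ, hBm, map_add]
    simp only [Submodule.coe_add, map_add, LinearMap.add_apply]
    rw [h.symm ((e.symm v : ↥M) : V) ((e.symm u : ↥M) : V)]
    ring
  have hQnd : (QuadraticMap.polarBilin Q).Nondegenerate := by
    have hleft : ∀ u, (∀ v, QuadraticMap.polarBilin Q u v = 0) → u = 0 := by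
      intro u hu
      have h0 : (e.symm u : ↥M) = 0 := by
        apply Subtype.ext
        apply hMnd _ (e.symm u).2
        intro v hv
        have := hu (e ⟨v, hv⟩)
        rw [hpolar, hBm, LinearEquiv.symm_apply_apply] at this
        exact (mul_eq_zero.mp this).resolve_left h2
      exact e.symm.map_eq_zero_iff.mp h0
    constructor
    · exact hleft
    · intro v hv
      apply hleft
      intro u
      have := hv u
      rw [hpolar, hBm] at this ⊢
      rw [h.symm] at this
      exact this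
  -- the type in coordinates
  have hsQ : IsType (⇑Q) m s := by
    have := (isType_congr (F := F) e.symm.toEquiv (fun w : ↥M => B (w : V) (w : V)) (⇑Q)
      (fun v => (hQ v).symm) m s).mp
    apply this
    unfold OTy at hs
    rw [hdiv] at hs
    exact hs
  have hcard : Fintype.card (Fin (2 * m)) = 2 * m := Fintype.card_fin _
  have hN := isType_N1 Q hQnd m hm1 hcard s hsQ
  -- the divisibility
  have hdvd : r ∣ cnt (⇑Q) 1 := by
    have h1 := onetyfpf_dvd (p := p) hrp h M hM hMc
    have h2 : cnt (⇑Q) 1 = Nat.card {w : ↥M // B (w : V) (w : V) = 1} := by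
      have := cnt_congr (F := F) e.symm.toEquiv (fun w : ↥M => B (w : V) (w : V)) (⇑Q)
        (fun v => (hQ v).symm) 1
      rw [this]
      rfl
    rw [h2]
    exact h1
  have hrq : ¬ r ∣ Fintype.card F := by
    obtain ⟨k, hk⟩ := FiniteField.card F p
    rw [hk.2]
    intro hd
    have := hr.dvd_of_dvd_pow hd
    exact hrp ((Nat.prime_dvd_prime_iff_eq hr (Fact.out : p.Prime)).mp this)
  rw [hdiv]
  have h3 := congrArg (fun z : ℤ => (z : ZMod r)) hN
  simp only [Int.cast_mul, Int.cast_natCast, Int.cast_sub, Int.cast_pow] at h3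
  have h4 : ((cnt (⇑Q) 1 : ℕ) : ZMod r) = 0 := (ZMod.natCast_eq_zero_iff _ _).mpr hdvd
  rw [h4, mul_zero] at h3
  have hx : ((Fintype.card F : ℕ) : ZMod r) ≠ 0 := by
    intro h0
    exact hrq ((ZMod.natCast_eq_zero_iff _ _).mp h0)
  have h5 : ((Fintype.card F : ℕ) : ZMod r) ^ m * (((Fintype.card F : ℕ) : ZMod r) ^ m - (s : ZMod r)) = 0 := by
    rw [h3]; ring
  rcases mul_eq_zero.mp h5 with h0 | h0
  · exact absurd h0 (pow_ne_zero m hx)
  · exact sub_eq_zero.mp h0

end Cfsg.Agent.Lib.Helper18.ONE
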