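import Mathlib
import Cfsg.Agent.Lib.Helper13.S5955.Defs2

/-!
# S5955 rows N4 (osum_ctx) and N5 (osum_fix): the orthogonal sum of contexts
-/

set_option autoImplicit false

namespace Cfsg.Agent.Lib.Helper13.S5955

open Polynomial Module

theorem s5955h18_osumX_pow {F : Type*} [Field F] {A h : ℕ} (w : ℕ)
    (y : Fin A → Module.End F (Fin h ⊕ Fin h → F)) (k : ℕ) (u : OSum F A h w) :
    ((osumX w y) ^ k) u = (fun a => ((y a) ^ k) (u.1 a), u.2) := by
  induction k generalizing u with
  | zero => simp only [pow_zero, Module.End.one_apply]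
  | succ k ih =>
    rw [pow_succ, Module.End.mul_apply, ih, osumX_apply]
    simp only [pow_succ, Module.End.mul_apply]

/-- N4 [M] OSUMCTX: the orthogonal sum is a context of dimension `2(Ah + w)`. -/
theorem osum_ctx {F : Type*} [Field F] {A h : ℕ} (w r : ℕ)
    (y : Fin A → Module.End F (Fin h ⊕ Fin h → F)) (hy : ∀ a, SCtx r (stdB h F) (y a)) :
    SCtx r (osumB F A h w) (osumX w y) ∧ finrank F (OSum F A h w) = 2 * (A * h + w) := by
  classical
  refine ⟨⟨?_, ?_, ?_, ?_⟩, ?_⟩
  · intro v
    rw [osumB_apply, Cfsg.Agent.Lib.helper6.sympForm_self w, add_zero]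
    apply Finset.sum_eq_zero
    intro a _
    exact Cfsg.Agent.Lib.helper6.sympForm_self h _
  · intro u hu
    have h1 : ∀ a, u.1 a = 0 := by
      intro a
      apply (hy a).nd
      intro z
      have h2 := hu (Pi.single a z, 0)
      rw [osumB_apply, Cfsg.Agent.Lib.helper6.sympForm_zero_right w, add_zero,
        Finset.sum_eq_single a] at h2
      · rw [stdB_apply]
        simpa using h2
      · intro b _ hba
        show Cfsg.sympForm h F (u.1 b) ((Pi.single a z : Fin A → (Fin h ⊕ Fin h → F)) b) = 0
        rw [Pi.single_eq_of_ne hba, Cfsg.Agent.Lib.helper6.sympForm_zero_right h]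
      · intro ha
        exact absurd (Finset.mem_univ a) ha
    have h3 : u.2 = 0 := by
      by_contra hne
      obtain ⟨z, hz⟩ := Cfsg.Agent.Lib.helper6.sympForm_nondeg w u.2 hne
      apply hz
      have h2 := hu (0, z)
      rw [osumB_apply] at h2
      have h4 : ∑ a, Cfsg.sympForm h F (u.1 a) ((((0, z) : OSum F A h w).1) a) = 0 := by
        apply Finset.sum_eq_zero
        intro a _
        exact Cfsg.Agent.Lib.helper6.sympForm_zero_right h _
      rw [h4, zero_add] at h2
      exact h2
    exact Prod.ext (funext h1) h3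
  · intro u v
    rw [osumB_apply, osumB_apply, osumX_apply, osumX_apply]
    congr 1
    apply Finset.sum_congr rfl
    intro a _
    exact (hy a).pres (u.1 a) (v.1 a)
  · apply LinearMap.ext
    intro u
    rw [s5955h18_osumX_pow, Module.End.one_apply]
    apply Prod.ext
    · funext a
      show ((y a) ^ r) (u.1 a) = u.1 a
      rw [(hy a).pow, Module.End.one_apply]
    · rfl
  · rw [Module.finrank_prod, Module.finrank_pi_fintype, Module.finrank_fintype_fun_eq_card,
      Module.finrank_fintype_fun_eq_card]
    simp only [Fintype.card_sum, Fintype.card_fin, Finset.sum_const, Finset.card_univ,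
      smul_eq_mul]
    ring

/-- N5 [M] OSUMFIX: fixed-point-free blocks: the fixed space is the last summand. -/
theorem osum_fix {F : Type*} [Field F] {A h : ℕ} (w : ℕ)
    (y : Fin A → Module.End F (Fin h ⊕ Fin h → F)) (hy : ∀ a, fixS (y a) = ⊥) :
    finrank F (fixS (osumX w y)) = 2 * w ∧ (1 ≤ A → 1 ≤ h → osumX w y ≠ 1) := by
  classical
  have hmem : ∀ u : OSum F A h w, u ∈ fixS (osumX w y) ↔ u.1 = 0 := by
    intro u
    unfold fixS
    rw [LinearMap.mem_ker, map_sub, aeval_X, map_one, LinearMap.sub_apply, Module.End.one_apply,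
      sub_eq_zero, osumX_apply]
    constructor
    · intro hu
      funext a
      have h1 : y a (u.1 a) = u.1 a := congrFun (congrArg Prod.fst hu) a
      have h2 : u.1 a ∈ fixS (y a) := by
        unfold fixS
        rw [LinearMap.mem_ker, map_sub, aeval_X, map_one, LinearMap.sub_apply,
          Module.End.one_apply, sub_eq_zero]
        exact h1
      rw [hy a, Submodule.mem_bot] at h2
      exact h2
    · intro hu
      apply Prod.ext
      · funext a
        show y a (u.1 a) = u.1 a
        rw [hu]
        simp
      · rfl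
  constructor
  · have h1 : fixS (osumX w y) =
        LinearMap.range (LinearMap.inr F (Fin A → (Fin h ⊕ Fin h → F)) (Fin w ⊕ Fin w → F)) := by
      ext u
      rw [hmem, LinearMap.mem_range]
      constructor
      · intro hu
        exact ⟨u.2, Prod.ext hu.symm rfl⟩
      · rintro ⟨z, rfl⟩
        rfl
    rw [h1, LinearMap.finrank_range_of_inj LinearMap.inr_injective,
      Module.finrank_fintype_fun_eq_card, Fintype.card_sum, Fintype.card_fin]
    ring
  · intro hA hh heq
    let e : Fin h ⊕ Fin h → F := Pi.single (Sum.inl ⟨0, hh⟩) 1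
    let u : OSum F A h w := (Pi.single ⟨0, hA⟩ e, 0)
    have hu : u ∈ fixS (osumX w y) := by
      unfold fixS
      rw [LinearMap.mem_ker, map_sub, aeval_X, map_one, LinearMap.sub_apply, Module.End.one_apply,
        heq, Module.End.one_apply, sub_self]
    rw [hmem] at hu
    have h1 : e = 0 := by
      have := congrFun hu ⟨0, hA⟩
      simpa [u] using this
    have h2 := congrFun h1 (Sum.inl ⟨0, hh⟩)
    simp [e] at h2

end Cfsg.Agent.Lib.Helper13.S5955
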