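import Mathlib
import Cfsg.Agent.Lib.Helper18.ONE.Defs
import Cfsg.Agent.Lib.Helper24.S5972SPLIT

set_option autoImplicit false

namespace Cfsg.Agent.Lib.Helper18.ONE

open Polynomial Module Cfsg.Agent.Lib.Helper13.S5955 Cfsg.Agent.Lib.helper15.S5972

theorem o_split_w {F : Type*} [Field F] [Fintype F] {p : ℕ} [Fact p.Prime] [CharP F p]
    {V : Type*} [AddCommGroup V] [Module F V] [FiniteDimensional F V]
    {r : ℕ} [Fact r.Prime] (hrp : r ≠ p) {B : LinearMap.BilinForm F V} {x : Module.End F V}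
    (h : OCtx r B x) (W : Submodule F V) (hW : SInv x W) (hWnd : SND B W) :
    SND B (W ⊓ fixS x) ∧ SND B (W ⊓ cycS r x) ∧ SInv x (W ⊓ cycS r x) ∧
      (W ⊓ fixS x) ⊔ (W ⊓ cycS r x) = W ∧
      finrank F W = finrank F ↥(W ⊓ fixS x) + finrank F ↥(W ⊓ cycS r x) := by
  obtain ⟨horth, hcompl, _, _⟩ := o_split (p := p) hrp h
  have hcop : IsCoprime (X - 1 : F[X]) (cyclotomic r F) :=
    Cfsg.Agent.Lib.Helper24.el_cyc_coprime (F := F) (p := p) r hrp
  have hkill : aeval x ((X - 1) * cyclotomic r F) = 0 :=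
    Cfsg.Agent.Lib.Helper24.el_cyc_kill r x h.pow
  have hdim : finrank F W = finrank F ↥(W ⊓ fixS x) + finrank F ↥(W ⊓ cycS r x) :=
    Cfsg.Agent.Lib.Helper24.el_split_W x (cyclotomic r F) hcop hkill W hW
  have hinf : (W ⊓ fixS x) ⊓ (W ⊓ cycS r x) = ⊥ := by
    rw [eq_bot_iff]
    intro v hv
    have h1 : v ∈ fixS x ⊓ cycS r x :=
      Submodule.mem_inf.mpr ⟨(Submodule.mem_inf.mp (Submodule.mem_inf.mp hv).1).2,
        (Submodule.mem_inf.mp (Submodule.mem_inf.mp hv).2).2⟩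
    rw [hcompl.inf_eq_bot] at h1
    exact h1
  have hsup : (W ⊓ fixS x) ⊔ (W ⊓ cycS r x) = W := by
    apply Submodule.eq_of_le_of_finrank_eq (sup_le inf_le_left inf_le_left)
    have h1 := Submodule.finrank_sup_add_finrank_inf_eq (W ⊓ fixS x) (W ⊓ cycS r x)
    rw [hinf, finrank_bot, add_zero] at h1
    rw [h1, hdim]
  have hdecomp : ∀ w ∈ W, ∃ w0 ∈ W ⊓ fixS x, ∃ w1 ∈ W ⊓ cycS r x, w = w0 + w1 := by
    intro w hw
    rw [← hsup] at hw
    obtain ⟨w0, hw0, w1, hw1, rfl⟩ := Submodule.mem_sup.mp hw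
    exact ⟨w0, hw0, w1, hw1, rfl⟩
  refine ⟨?_, ?_, Cfsg.Agent.Lib.Helper24.el_inv_inf hW (Cfsg.Agent.Lib.Helper24.el_inv_ker x _),
    hsup, hdim⟩
  · intro u hu hu0
    apply hWnd u (Submodule.mem_inf.mp hu).1
    intro w hw
    obtain ⟨w0, hw0, w1, hw1, rfl⟩ := hdecomp w hw
    rw [map_add, hu0 w0 hw0, zero_add]
    exact horth u (Submodule.mem_inf.mp hu).2 w1 (Submodule.mem_inf.mp hw1).2
  · intro u hu hu0
    apply hWnd u (Submodule.mem_inf.mp hu).1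
    intro w hw
    obtain ⟨w0, hw0, w1, hw1, rfl⟩ := hdecomp w hw
    rw [map_add, hu0 w1 hw1, add_zero, h.symm]
    exact horth w0 (Submodule.mem_inf.mp hw0).2 u (Submodule.mem_inf.mp hu).2

end Cfsg.Agent.Lib.Helper18.ONE
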