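import Mathlib
import Cfsg.Agent.Lib.Lead.STB.Defs

/-!
# Project STB (designer lead, family of S2094): matrix lemmas on `TbL`, `TbS`, `JB` for the representation block (helper18, OWN NAMES `stbr0_*`,
written before Skel3 exists: type `B` twins of STD R0 `Td_mulVec`, `vecMul_Td`, `Td_form` and R2 `eq_one_of_Yshape`).
Basis vectors are written `Pi.single c 1`.
-/

set_option autoImplicit false

namespace Cfsg.Agent.Lib.Lead.STB

open Cfsg.Agent.Lib.helper15.St2 Cfsg.Agent.Lib.helper3.STC Cfsg.Agent.Lib.Lead.STD Matrix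

universe v w

section R0
variable {l : Type*} [Fintype l] [DecidableEq l] {K : Type*} [Field K]

theorem stbr0x_single_mulVec (a b : Ix l) (c : K) (v : Ix l → K) :
    Matrix.single a b c *ᵥ v = Pi.single a (c * v b) := by
  ext m
  simp only [Matrix.mulVec, dotProduct, Matrix.single_apply, Pi.single_apply]
  by_cases hm : m = a
  · subst hm
    simp
  · have : ∀ x, ¬ (a = m ∧ b = x) := fun x h => hm h.1.symm
    simp [hm, this]

theorem stbr0x_vecMul_single (a b : Ix l) (c : K) (v : Ix l → K) :
    v ᵥ* Matrix.single a b c = Pi.single b (c * v a) := by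
  ext m
  simp only [Matrix.vecMul, dotProduct, Matrix.single_apply, Pi.single_apply]
  by_cases hm : m = b
  · subst hm
    simp [mul_comm]
  · have : ∀ x, ¬ (a = x ∧ b = m) := fun x h => hm h.2.symm
    simp [hm, this]

omit [Fintype l] [DecidableEq l] in
theorem stbr0_ng_ng (a : l ⊕ l) : ng (ng a) = a := by cases a <;> rfl

omit [Fintype l] [DecidableEq l] in
theorem stbr0_ng_ne (a : l ⊕ l) : ng a ≠ a := by cases a <;> simp [ng]

omit [Fintype l] [DecidableEq l] in
theorem stbr0_ng_inj {a b : l ⊕ l} (h : ng a = ng b) : a = b := by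
  have := congrArg ng h
  rwa [stbr0_ng_ng, stbr0_ng_ng] at this

/-- the action of the long root matrix on column vectors -/
theorem stbr0_TbL_mulVec (a b : l ⊕ l) (t : K) (v : Ix l → K) :
    TbL a b t *ᵥ v = v + Pi.single (Sum.inr a) (t * v (Sum.inr b)) - Pi.single (Sum.inr (ng b)) (t * v (Sum.inr (ng a))) := by
  unfold TbL
  rw [Matrix.sub_mulVec, Matrix.add_mulVec, Matrix.one_mulVec, stbr0x_single_mulVec, stbr0x_single_mulVec]

/-- the action of the long root matrix on row vectors -/
theorem stbr0_vecMul_TbL (a b : l ⊕ l) (t : K) (v : Ix l → K) :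
    v ᵥ* TbL a b t = v + Pi.single (Sum.inr b) (t * v (Sum.inr a)) - Pi.single (Sum.inr (ng a)) (t * v (Sum.inr (ng b))) := by
  unfold TbL
  rw [Matrix.vecMul_sub, Matrix.vecMul_add, Matrix.vecMul_one, stbr0x_vecMul_single, stbr0x_vecMul_single]

/-- the action of the short root matrix on column vectors -/
theorem stbr0_TbS_mulVec (a : l ⊕ l) (t : K) (v : Ix l → K) :
    TbS a t *ᵥ v = v + Pi.single i0 (t * v (Sum.inr (ng a))) - Pi.single (Sum.inr a) (2 * t * v i0)
      - Pi.single (Sum.inr a) (t * t * v (Sum.inr (ng a))) := by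
  unfold TbS
  rw [Matrix.sub_mulVec, Matrix.sub_mulVec, Matrix.add_mulVec, Matrix.one_mulVec, stbr0x_single_mulVec,
    stbr0x_single_mulVec, stbr0x_single_mulVec]

/-- the action of the short root matrix on row vectors -/
theorem stbr0_vecMul_TbS (a : l ⊕ l) (t : K) (v : Ix l → K) :
    v ᵥ* TbS a t = v + Pi.single (Sum.inr (ng a)) (t * v i0) - Pi.single i0 (2 * t * v (Sum.inr a))
      - Pi.single (Sum.inr (ng a)) (t * t * v (Sum.inr a)) := by
  unfold TbS
  rw [Matrix.vecMul_sub, Matrix.vecMul_sub, Matrix.vecMul_add, Matrix.vecMul_one, stbr0x_vecMul_single,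
    stbr0x_vecMul_single, stbr0x_vecMul_single]

theorem stbr0_JB_mul_single_inr (x : l ⊕ l) (y : Ix l) (c : K) :
    (JB : Matrix (Ix l) (Ix l) K) * Matrix.single (Sum.inr x) y c = Matrix.single (Sum.inr (ng x)) y c := by
  ext i j
  rw [Matrix.mul_apply, Finset.sum_eq_single (Sum.inr x)]
  · rcases i with u | i
    · simp [JB, Matrix.single_apply]
    · simp only [JB, Matrix.single_apply]
      by_cases h : x = ng i
      · subst h
        simp [stbr0_ng_ng]
      · have h' : ¬ ng x = i := fun e => h (by rw [← e, stbr0_ng_ng])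
        simp [h, h']
  · intro k _ hk
    have : ¬ (Sum.inr x = k) := fun e => hk e.symm
    simp [Matrix.single_apply, this]
  · intro h
    exact absurd (Finset.mem_univ _) h

theorem stbr0_JB_mul_single_i0 (y : Ix l) (c : K) :
    (JB : Matrix (Ix l) (Ix l) K) * Matrix.single i0 y c = Matrix.single i0 y (2 * c) := by
  ext i j
  rw [Matrix.mul_apply, Finset.sum_eq_single i0]
  · rcases i with u | i
    · by_cases hj : y = j <;> simp [JB, Matrix.single_apply, hj]
    · simp [JB, Matrix.single_apply]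
  · intro k _ hk
    have : ¬ (i0 = k) := fun e => hk e.symm
    simp [Matrix.single_apply, this]
  · intro h
    exact absurd (Finset.mem_univ _) h

theorem stbr0_single_mul_JB_inr (x : Ix l) (y : l ⊕ l) (c : K) :
    Matrix.single x (Sum.inr y) c * (JB : Matrix (Ix l) (Ix l) K) = Matrix.single x (Sum.inr (ng y)) c := by
  ext i j
  rw [Matrix.mul_apply, Finset.sum_eq_single (Sum.inr y)]
  · rcases j with u | j
    · simp [JB, Matrix.single_apply]
    · simp only [JB, Matrix.single_apply]
      by_cases h : j = ng y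
      · by_cases hx : x = i <;> simp [h, hx]
      · have h' : ¬ ng y = j := fun e => h e.symm
        simp [h, h']
  · intro k _ hk
    have : ¬ (x = i ∧ Sum.inr y = k) := fun e => hk e.2.symm
    simp [Matrix.single_apply, this]
  · intro h
    exact absurd (Finset.mem_univ _) h

theorem stbr0_single_mul_JB_i0 (x : Ix l) (c : K) :
    Matrix.single x i0 c * (JB : Matrix (Ix l) (Ix l) K) = Matrix.single x i0 (2 * c) := by
  ext i j
  rw [Matrix.mul_apply, Finset.sum_eq_single i0]
  · rcases j with u | j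
    · by_cases hx : x = i <;> simp [JB, Matrix.single_apply, hx, mul_comm]
    · simp [JB, Matrix.single_apply]
  · intro k _ hk
    have : ¬ (x = i ∧ i0 = k) := fun e => hk e.2.symm
    simp [Matrix.single_apply, this]
  · intro h
    exact absurd (Finset.mem_univ _) h

/-- the long root matrices preserve the polar form -/
theorem stbr0_TbL_form {a b : l ⊕ l} (hab : a ≠ b) (t : K) :
    (TbL a b t)ᵀ * JB * TbL a b t = (JB : Matrix (Ix l) (Ix l) K) := by
  unfold TbL
  rw [Matrix.transpose_sub, Matrix.transpose_add, Matrix.transpose_one, Matrix.transpose_single,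
    Matrix.transpose_single]
  have h1 : (Sum.inr (ng a) : Ix l) ≠ Sum.inr a := fun e => stbr0_ng_ne a (Sum.inr.inj e)
  have h2 : (Sum.inr b : Ix l) ≠ Sum.inr a := fun e => hab (Sum.inr.inj e).symm
  have h3 : (Sum.inr (ng a) : Ix l) ≠ Sum.inr (ng b) := fun e => hab (stbr0_ng_inj (Sum.inr.inj e))
  have h4 : (Sum.inr b : Ix l) ≠ Sum.inr (ng b) := fun e => stbr0_ng_ne b (Sum.inr.inj e).symm
  simp only [Matrix.add_mul, Matrix.sub_mul, Matrix.mul_add, Matrix.mul_sub, Matrix.one_mul,
    Matrix.mul_one, stbr0_single_mul_JB_inr, stbr0_JB_mul_single_inr, stbr0_ng_ng,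
    Matrix.single_mul_single_of_ne _ _ _ _ h1, Matrix.single_mul_single_of_ne _ _ _ _ h2,
    Matrix.single_mul_single_of_ne _ _ _ _ h3, Matrix.single_mul_single_of_ne _ _ _ _ h4]
  abel

/-- the short root matrices preserve the polar form -/
theorem stbr0_TbS_form (a : l ⊕ l) (t : K) :
    (TbS a t)ᵀ * JB * TbS a t = (JB : Matrix (Ix l) (Ix l) K) := by
  unfold TbS
  rw [Matrix.transpose_sub, Matrix.transpose_sub, Matrix.transpose_add, Matrix.transpose_one, Matrix.transpose_single,
    Matrix.transpose_single, Matrix.transpose_single]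
  have h1 : (i0 : Ix l) ≠ Sum.inr a := fun e => by cases e
  have h2 : (Sum.inr (ng a) : Ix l) ≠ i0 := fun e => by cases e
  have h3 : (Sum.inr (ng a) : Ix l) ≠ Sum.inr a := fun e => stbr0_ng_ne a (Sum.inr.inj e)
  simp only [Matrix.add_mul, Matrix.sub_mul, Matrix.mul_add, Matrix.mul_sub, Matrix.one_mul,
    Matrix.mul_one, stbr0_single_mul_JB_inr, stbr0_single_mul_JB_i0, stbr0_JB_mul_single_inr,
    stbr0_JB_mul_single_i0, stbr0_ng_ng, Matrix.single_mul_single_same,
    Matrix.single_mul_single_of_ne _ _ _ _ h1, Matrix.single_mul_single_of_ne _ _ _ _ h2,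
    Matrix.single_mul_single_of_ne _ _ _ _ h3]
  ext i j
  simp only [Matrix.add_apply, Matrix.sub_apply, Matrix.single_apply, Matrix.zero_apply]
  split_ifs <;> ring

/-- the entries of `Aᵀ * J * A` as values of the bilinear form on the columns (any index type) -/
theorem stbr0_entry {n : Type*} [Fintype n] [DecidableEq n] (A J : Matrix n n K) (a b : n) :
    (Aᵀ * J * A) a b = (A *ᵥ Pi.single a 1) ⬝ᵥ (J *ᵥ (A *ᵥ Pi.single b 1)) := by
  rw [Matrix.mulVec_single_one, Matrix.mulVec_single_one, Matrix.mul_assoc, Matrix.mul_apply]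
  rfl

theorem stbr0_form_single {n : Type*} [Fintype n] [DecidableEq n] (J : Matrix n n K) (a b : n) :
    (Pi.single a 1 : n → K) ⬝ᵥ (J *ᵥ Pi.single b 1) = J a b := by
  rw [Matrix.mulVec_single_one, single_one_dotProduct]
  rfl

theorem stbr0_eq_one_of_cols {n : Type*} [Fintype n] [DecidableEq n] {M : Matrix n n K}
    (h : ∀ c, M *ᵥ Pi.single c 1 = Pi.single c 1) : M = 1 := by
  ext i c
  have h1 := congrFun (h c) i
  rw [Matrix.mulVec_single_one] at h1
  rw [Matrix.one_apply, ← Pi.single_apply]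
  exact h1

/-- generic form of `eq_one_of_Yshape`: any index type, any Gram matrix `J` with `J o o' = 1` -/
theorem stbr0_eq_one_of_Yshape_gen {n : Type*} [Fintype n] [DecidableEq n] {J M : Matrix n n K} {o o' : n}
    (hJ : J o o' = 1) (hM : Mᵀ * J * M = J) (h0 : M *ᵥ Pi.single o 1 = Pi.single o 1)
    (h : ∀ c, c ≠ o → ∃ r : K, M *ᵥ Pi.single c 1 = Pi.single c 1 + r • Pi.single o' 1) : M = 1 := by
  apply stbr0_eq_one_of_cols
  intro c
  by_cases hc : c = o
  · subst hc; exact h0
  · obtain ⟨r, hr⟩ := h c hc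
    have hf := stbr0_entry M J o c
    rw [hM, h0, hr, Matrix.mulVec_add, Matrix.mulVec_smul, dotProduct_add, dotProduct_smul,
      stbr0_form_single, stbr0_form_single, hJ, smul_eq_mul, mul_one] at hf
    have hr0 : r = 0 := by
      have := add_left_cancel (a := J o c) (b := r) (c := 0) (by rw [add_zero]; exact hf.symm)
      exact this
    rw [hr, hr0, zero_smul, add_zero]

/-- type `B` twin of STD R2 `eq_one_of_Yshape`: a matrix preserving the polar form `JB`, fixing `e_o`, whose other columns (`e_0` included) are `e_c + r_c e_{-o}` is the identity -/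
theorem stbr0_eq_one_of_Yshape {M : Matrix (Ix l) (Ix l) K} {o : l ⊕ l} (hM : Mᵀ * JB * M = JB)
    (h0 : M *ᵥ Pi.single (Sum.inr o) 1 = Pi.single (Sum.inr o) 1)
    (h : ∀ c : Ix l, c ≠ Sum.inr o → ∃ r : K, M *ᵥ Pi.single c 1 = Pi.single c 1 + r • Pi.single (Sum.inr (ng o)) 1) :
    M = 1 :=
  stbr0_eq_one_of_Yshape_gen (J := JB) (o := Sum.inr o) (o' := Sum.inr (ng o)) (by simp [JB]) hM h0 h

end R0

end Cfsg.Agent.Lib.Lead.STB
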