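import Mathlib
import Cfsg.Agent.Lib.Helper12.OMB.Defs
import Cfsg.Agent.Lib.Helper18.STBR0

/-!
# Project OMB (designer helper12, matrix side of S2094), row G4 (helper18), VERBATIM:
`TbL_iso`, `TbS_iso`, `EOB_iso`, `EOB_le_iso`: the generators `TbL a b t`, `TbS a t` are isometries of `Cfsg.quadFormOdd l F`.
Self-contained (own-name copies `ombg4_*` of the V0 facts used).
-/

set_option autoImplicit false

namespace Cfsg.Agent.Lib.Helper12.OMB

open Matrix Cfsg.Agent.Lib.helper15.St2 Cfsg.Agent.Lib.helper3.STC Cfsg.Agent.Lib.Lead.STD Cfsg.Agent.Lib.Lead.STB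

universe u w

section G

variable {l : ℕ} {F : Type u} [Field F]

theorem ombg4_Q_add (x y : Ix (Fin l) → F) :
    Cfsg.quadFormOdd l F (x + y) = Cfsg.quadFormOdd l F x + Cfsg.quadFormOdd l F y + bB x y := by
  unfold Cfsg.quadFormOdd bB
  simp only [Pi.add_apply]
  have : ∑ i : Fin l, (x (Sum.inr (Sum.inl i)) + y (Sum.inr (Sum.inl i))) * (x (Sum.inr (Sum.inr i)) + y (Sum.inr (Sum.inr i))) =
      ∑ i : Fin l, x (Sum.inr (Sum.inl i)) * x (Sum.inr (Sum.inr i)) + ∑ i : Fin l, y (Sum.inr (Sum.inl i)) * y (Sum.inr (Sum.inr i)) +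
        ∑ i : Fin l, (x (Sum.inr (Sum.inl i)) * y (Sum.inr (Sum.inr i)) + y (Sum.inr (Sum.inl i)) * x (Sum.inr (Sum.inr i))) := by
    rw [← Finset.sum_add_distrib, ← Finset.sum_add_distrib]
    apply Finset.sum_congr rfl
    intro i _
    ring
  rw [this]
  show (x (Sum.inl ()) + y (Sum.inl ())) ^ 2 + _ = x (Sum.inl ()) ^ 2 + _ + (y (Sum.inl ()) ^ 2 + _) +
    (2 * x (Sum.inl ()) * y (Sum.inl ()) + _)
  ring

theorem ombg4_bB_add_right (x y z : Ix (Fin l) → F) : bB x (y + z) = bB x y + bB x z := by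
  unfold bB
  simp only [Pi.add_apply]
  have : ∑ i : Fin l, (x (Sum.inr (Sum.inl i)) * (y (Sum.inr (Sum.inr i)) + z (Sum.inr (Sum.inr i))) +
        (y (Sum.inr (Sum.inl i)) + z (Sum.inr (Sum.inl i))) * x (Sum.inr (Sum.inr i))) =
      ∑ i : Fin l, (x (Sum.inr (Sum.inl i)) * y (Sum.inr (Sum.inr i)) + y (Sum.inr (Sum.inl i)) * x (Sum.inr (Sum.inr i))) +
      ∑ i : Fin l, (x (Sum.inr (Sum.inl i)) * z (Sum.inr (Sum.inr i)) + z (Sum.inr (Sum.inl i)) * x (Sum.inr (Sum.inr i))) := by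
    rw [← Finset.sum_add_distrib]
    apply Finset.sum_congr rfl
    intro i _
    ring
  rw [this]
  ring

theorem ombg4_bB_single (x : Ix (Fin l) → F) (a : Fin l ⊕ Fin l) (c : F) :
    bB x (Pi.single (Sum.inr a) c) = c * x (Sum.inr (ng a)) := by
  unfold bB
  rcases a with j | j
  · simp [Pi.single_apply, ng, i0, mul_comm]
  · simp [Pi.single_apply, ng, i0, mul_comm]

theorem ombg4_bB_single0 (x : Ix (Fin l) → F) (c : F) :
    bB x (Pi.single i0 c) = 2 * x i0 * c := by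
  unfold bB
  simp [i0]

theorem ombg4_Q_single (a : Fin l ⊕ Fin l) (c : F) :
    Cfsg.quadFormOdd l F (Pi.single (Sum.inr a) c) = 0 := by
  unfold Cfsg.quadFormOdd
  rcases a with j | j
  · simp [Pi.single_apply]
  · simp [Pi.single_apply]

theorem ombg4_Q_single0 (c : F) :
    Cfsg.quadFormOdd l F (Pi.single i0 c) = c ^ 2 := by
  unfold Cfsg.quadFormOdd
  simp [i0]

/-- G4 [S-M] -/
theorem TbL_iso {a b : Fin l ⊕ Fin l} (hab : a ≠ b) (hab' : a ≠ ng b) (t : F) (x : Ix (Fin l) → F) :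
    Cfsg.quadFormOdd l F (TbL a b t *ᵥ x) = Cfsg.quadFormOdd l F x := by
  have _ := hab'
  rw [stbr0_TbL_mulVec, sub_eq_add_neg, ← Pi.single_neg, add_assoc, ombg4_Q_add, ombg4_Q_add, ombg4_Q_single,
    ombg4_Q_single, ombg4_bB_add_right, ombg4_bB_single, ombg4_bB_single, ombg4_bB_single, stbr0_ng_ng,
    Pi.single_apply, if_neg (fun e => hab (Sum.inr.inj e).symm)]
  ring

theorem TbS_iso (a : Fin l ⊕ Fin l) (t : F) (x : Ix (Fin l) → F) :
    Cfsg.quadFormOdd l F (TbS a t *ᵥ x) = Cfsg.quadFormOdd l F x := by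
  rw [stbr0_TbS_mulVec, sub_sub, ← Pi.single_add, sub_eq_add_neg, ← Pi.single_neg, add_assoc, ombg4_Q_add, ombg4_Q_add,
    ombg4_Q_single, ombg4_Q_single0, ombg4_bB_add_right, ombg4_bB_single, ombg4_bB_single, ombg4_bB_single0,
    Pi.single_apply, if_neg (fun e => by cases e)]
  ring

theorem EOB_iso (k : Matrix.GeneralLinearGroup (Ix (Fin l)) F) (hk : k ∈ EOB l F) (x : Ix (Fin l) → F) :
    Cfsg.quadFormOdd l F ((k : Matrix (Ix (Fin l)) (Ix (Fin l)) F) *ᵥ x) = Cfsg.quadFormOdd l F x := by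
  revert x
  unfold EOB at hk
  induction hk using Subgroup.closure_induction with
  | mem M hM =>
    intro x
    rcases hM with ⟨a, b, t, hab, hab', hMt⟩ | ⟨a, t, hMt⟩
    · rw [hMt]
      exact TbL_iso hab hab' t x
    · rw [hMt]
      exact TbS_iso a t x
  | one =>
    intro x
    rw [Units.val_one, Matrix.one_mulVec]
  | mul k₁ k₂ _ _ h₁ h₂ =>
    intro x
    rw [Units.val_mul, ← Matrix.mulVec_mulVec, h₁, h₂]
  | inv k₁ _ h₁ =>
    intro x
    have h := h₁ (((k₁⁻¹ : Matrix.GeneralLinearGroup (Ix (Fin l)) F) : Matrix (Ix (Fin l)) (Ix (Fin l)) F) *ᵥ x)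
    rw [Matrix.mulVec_mulVec, ← Units.val_mul, mul_inv_cancel, Units.val_one, Matrix.one_mulVec] at h
    exact h.symm

theorem EOB_le_iso : EOB l F ≤ Cfsg.isometryGroup F (Cfsg.quadFormOdd l F) := by
  intro k hk u _
  exact EOB_iso k hk u

end G

end Cfsg.Agent.Lib.Helper12.OMB
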