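import Mathlib
import Cfsg.Agent.Lib.Helper12.OMB.Defs
import Cfsg.Agent.Lib.Helper18.OMBG4
import Cfsg.Agent.Lib.Helper29.CTDM1a
import Cfsg.Agent.Lib.helper6.CTDM1c
import Cfsg.Agent.Lib.Lead.OMMO5
import Cfsg.Agent.Lib.Helper12.OMB.Mat

/-!
# Project OMB (designer helper12, matrix side of S2094), row G8 (helper18):
`TbL_mem_omegaGL`, `TbS_mem_omegaGL` VERBATIM (`mx_comm3` of CTD through `embGL`; the core `ombg8_core_S` on the statements of M1 `TbS_zero`, `TbS_add`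
and M3 `TbL_TbS_ls` of block M, `Helper12.OMB.Mat`).
-/

set_option autoImplicit false

namespace Cfsg.Agent.Lib.Helper12.OMB

open Matrix Cfsg.Agent.Lib.helper15.St2 Cfsg.Agent.Lib.helper3.STC Cfsg.Agent.Lib.Lead.STD Cfsg.Agent.Lib.Lead.STB
  Cfsg.Agent.Lib.Helper28.CTD Cfsg.Agent.Lib.Helper28.OMM

universe u w

section G

variable {l : ℕ} {F : Type u} [Field F]

/-- `embM (Td a b t) = TbL a b t` (own-name copy of V2 `embM_Td`) -/
theorem ombg8_embM_Td {ι : Type w} [Fintype ι] [DecidableEq ι] (a b : ι ⊕ ι) (t : F) :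
    embM (Td a b t) = TbL a b t := by
  ext i j
  rcases i with u | i <;> rcases j with u' | j
  · simp [embM, TbL]
  · simp [embM, TbL]
  · simp [embM, TbL]
  · simp [embM, TbL, Td, Matrix.single_apply, Matrix.one_apply]

/-- the long root element in `GL` -/
def ombg8_gL (a b : Fin l ⊕ Fin l) (t : F) : Matrix.GeneralLinearGroup (Ix (Fin l)) F :=
  embGL F (Fin l) (Matrix.SpecialLinearGroup.toGL (mx a b t))

theorem ombg8_gL_coe {a b : Fin l ⊕ Fin l} (hab : a ≠ b) (hab' : a ≠ ng b) (t : F) :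
    ((ombg8_gL a b t : Matrix.GeneralLinearGroup (Ix (Fin l)) F) : Matrix (Ix (Fin l)) (Ix (Fin l)) F) = TbL a b t := by
  unfold ombg8_gL
  rw [embGL_coe]
  show embM ((mx a b t : Matrix.SpecialLinearGroup (Fin l ⊕ Fin l) F) : Matrix (Fin l ⊕ Fin l) (Fin l ⊕ Fin l) F) = _
  rw [mx_coe a b hab hab' t, ombg8_embM_Td]

theorem ombg8_gL_mem {a b : Fin l ⊕ Fin l} (hab : a ≠ b) (hab' : a ≠ ng b) (t : F) :
    (ombg8_gL a b t : Matrix.GeneralLinearGroup (Ix (Fin l)) F) ∈ EOB l F :=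
  Subgroup.subset_closure (Or.inl ⟨a, b, t, hab, hab', ombg8_gL_coe hab hab' t⟩)

theorem ombg8_gL_inv {a b : Fin l ⊕ Fin l} (hab : a ≠ b) (hab' : a ≠ ng b) (t : F) :
    (ombg8_gL a b t : Matrix.GeneralLinearGroup (Ix (Fin l)) F)⁻¹ = ombg8_gL a b (-t) := by
  have h0 : (mx a b (0 : F) : Matrix.SpecialLinearGroup (Fin l ⊕ Fin l) F) = 1 := by
    unfold mx
    rw [neg_zero, ctdm1a_tv_zero, ctdm1a_tv_zero, one_mul]
  have h1 : (mx a b t : Matrix.SpecialLinearGroup (Fin l ⊕ Fin l) F)⁻¹ = mx a b (-t) := by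
    apply inv_eq_of_mul_eq_one_right
    rw [mx_add a b hab hab', add_neg_cancel, h0]
  unfold ombg8_gL
  rw [← map_inv, ← map_inv, h1]

/-- a commutator of two isometries lies in `Ω` -/
theorem ombg8_comm_mem (g1 g2 : Matrix.GeneralLinearGroup (Ix (Fin l)) F)
    (h1 : g1 ∈ Cfsg.isometryGroup F (Cfsg.quadFormOdd l F)) (h2 : g2 ∈ Cfsg.isometryGroup F (Cfsg.quadFormOdd l F)) :
    g1 * g2 * g1⁻¹ * g2⁻¹ ∈ Cfsg.Geo.omegaGL (Cfsg.quadFormOdd l F) := by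
  unfold Cfsg.Geo.omegaGL
  have hMmem : g1 * g2 * g1⁻¹ * g2⁻¹ ∈ Cfsg.isometryGroup F (Cfsg.quadFormOdd l F) :=
    mul_mem (mul_mem (mul_mem h1 h2) (inv_mem h1)) (inv_mem h2)
  refine ⟨⟨g1 * g2 * g1⁻¹ * g2⁻¹, hMmem⟩, ?_, rfl⟩
  have hc := Subgroup.commutator_mem_commutator (H₁ := ⊤) (H₂ := ⊤)
    (Subgroup.mem_top (⟨g1, h1⟩ : ↥(Cfsg.isometryGroup F (Cfsg.quadFormOdd l F))))
    (Subgroup.mem_top (⟨g2, h2⟩ : ↥(Cfsg.isometryGroup F (Cfsg.quadFormOdd l F))))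
  rw [commutatorElement_def] at hc
  show (⟨g1 * g2 * g1⁻¹ * g2⁻¹, hMmem⟩ : ↥(Cfsg.isometryGroup F (Cfsg.quadFormOdd l F))) ∈
    commutator ↥(Cfsg.isometryGroup F (Cfsg.quadFormOdd l F))
  rw [commutator_def]
  convert hc using 1
  apply Subtype.ext
  rfl

/-- G8 [M], first half -/
theorem TbL_mem_omegaGL (hl : 3 ≤ l) {a b : Fin l ⊕ Fin l} (hab : a ≠ b) (hab' : a ≠ ng b) (t : F)
    (M : Matrix.GeneralLinearGroup (Ix (Fin l)) F) (hM : (M : Matrix (Ix (Fin l)) (Ix (Fin l)) F) = TbL a b t) :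
    M ∈ Cfsg.Geo.omegaGL (Cfsg.quadFormOdd l F) := by
  obtain ⟨c, hac, hac', hcb, hcb'⟩ := ommo5_third hl a b
  have h1 : ombg8_gL a c t ∈ Cfsg.isometryGroup F (Cfsg.quadFormOdd l F) := EOB_le_iso (ombg8_gL_mem hac hac' t)
  have h2 : ombg8_gL c b (1 : F) ∈ Cfsg.isometryGroup F (Cfsg.quadFormOdd l F) := EOB_le_iso (ombg8_gL_mem hcb hcb' 1)
  have hcomm : M = ombg8_gL a c t * ombg8_gL c b 1 * (ombg8_gL a c t)⁻¹ * (ombg8_gL c b 1)⁻¹ := by
    have h3 := mx_comm3 (K := F) (l := Fin l) a c b hac hac' hcb hcb' hab hab' t 1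
    rw [mul_one] at h3
    have e : (ombg8_gL a b t : Matrix.GeneralLinearGroup (Ix (Fin l)) F) =
        ombg8_gL a c t * ombg8_gL c b 1 * (ombg8_gL a c t)⁻¹ * (ombg8_gL c b 1)⁻¹ := by
      unfold ombg8_gL
      rw [← h3]
      simp only [map_mul, map_inv]
    rw [← e]
    apply Units.ext
    rw [hM, ombg8_gL_coe hab hab' t]
  rw [hcomm]
  exact ombg8_comm_mem _ _ h1 h2

/-- G8 [M], second half, CORE: `h0`, `hadd` = the statements of M1 `TbS_zero`, `TbS_add`; `hls` = the statement of M3 `TbL_TbS_ls`. -/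
theorem ombg8_core_S (hl : 3 ≤ l)
    (h0 : ∀ a : Fin l ⊕ Fin l, TbS a (0 : F) = 1)
    (hadd : ∀ (a : Fin l ⊕ Fin l) (t u : F), TbS a t * TbS a u = TbS a (t + u))
    (hls : ∀ {a b : Fin l ⊕ Fin l}, a ≠ b → a ≠ ng b → ∀ t u : F,
      TbL a b t * TbS b u * TbL a b (-t) * TbS b (-u) = TbS a (t * u) * TbL a (ng b) (t * u ^ 2))
    (a : Fin l ⊕ Fin l) (t : F)
    (M : Matrix.GeneralLinearGroup (Ix (Fin l)) F) (hM : (M : Matrix (Ix (Fin l)) (Ix (Fin l)) F) = TbS a t) :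
    M ∈ Cfsg.Geo.omegaGL (Cfsg.quadFormOdd l F) := by
  obtain ⟨b, hab, hab', -, -⟩ := ommo5_third hl a a
  have hanb : a ≠ ng (ng b) := by rw [ng_ng]; exact hab
  -- the short root element in `GL`
  set sB : Matrix.GeneralLinearGroup (Ix (Fin l)) F :=
    ⟨TbS b 1, TbS b (-1), by rw [hadd, add_neg_cancel, h0], by rw [hadd, neg_add_cancel, h0]⟩ with hsB
  have hsB1 : (sB : Matrix (Ix (Fin l)) (Ix (Fin l)) F) = TbS b 1 := rfl
  have hsBi : ((sB⁻¹ : Matrix.GeneralLinearGroup (Ix (Fin l)) F) : Matrix (Ix (Fin l)) (Ix (Fin l)) F) = TbS b (-1) := rfl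
  have hsmem : sB ∈ EOB l F := Subgroup.subset_closure (Or.inr ⟨b, 1, rfl⟩)
  have h1 : ombg8_gL a b t ∈ Cfsg.isometryGroup F (Cfsg.quadFormOdd l F) := EOB_le_iso (ombg8_gL_mem hab hab' t)
  have h2 : sB ∈ Cfsg.isometryGroup F (Cfsg.quadFormOdd l F) := EOB_le_iso hsmem
  have hN := ombg8_comm_mem _ _ h1 h2
  have h3 : ombg8_gL a (ng b) t ∈ Cfsg.Geo.omegaGL (Cfsg.quadFormOdd l F) :=
    TbL_mem_omegaGL hl hab' hanb t _ (ombg8_gL_coe hab' hanb t)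
  have hM' : M = (ombg8_gL a b t * sB * (ombg8_gL a b t)⁻¹ * sB⁻¹) * (ombg8_gL a (ng b) t)⁻¹ := by
    rw [eq_mul_inv_iff_mul_eq]
    apply Units.ext
    rw [Units.val_mul, Units.val_mul, Units.val_mul, Units.val_mul, hM, ombg8_gL_inv hab hab', ombg8_gL_coe hab hab',
      ombg8_gL_coe hab hab', ombg8_gL_coe hab' hanb, hsB1, hsBi, hls hab hab' t 1, mul_one, one_pow, mul_one]
  rw [hM']
  exact mul_mem hN (inv_mem h3)

theorem TbS_mem_omegaGL (hl : 3 ≤ l) (a : Fin l ⊕ Fin l) (t : F)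
    (M : Matrix.GeneralLinearGroup (Ix (Fin l)) F) (hM : (M : Matrix (Ix (Fin l)) (Ix (Fin l)) F) = TbS a t) :
    M ∈ Cfsg.Geo.omegaGL (Cfsg.quadFormOdd l F) :=
  ombg8_core_S hl (fun a => TbS_zero a) (fun a t u => TbS_add a t u) (fun hab hab' t u => TbL_TbS_ls hab hab' t u) a t M hM

end G

end Cfsg.Agent.Lib.Helper12.OMB
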