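import Mathlib
import Cfsg.Agent.Lib.helper17.OMP.Defs
import Cfsg.Agent.Lib.helper17.OMP.Defs2
import Cfsg.Agent.Lib.Helper22.CTATVAPI
import Cfsg.Agent.Lib.Helper11.OMPA2

/-!
# Project OMP (S2295, designer helper17), row A9 (`PP_conj NN_conj`) (helper18), VERBATIM vs `helper17/OMP/Skel.lean.txt`.
On A2 `yy_conj` (`Helper11.OMPA2`) and `conj_tv` (`Helper22.CTATVAPI`; this is E7 `Mv1.conj_tv`).
-/

set_option autoImplicit false

namespace Cfsg.Agent.Lib.helper17.OMP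

open Matrix Cfsg.Agent.Lib.helper14.CTE Cfsg.Agent.Lib.helper14.CTA Cfsg.Agent.Lib.helper17.SLN Cfsg.Agent.Lib.Helper28.CTD
  Cfsg.Agent.Lib.helper3.STC Cfsg.Agent.Lib.Lead.STD

universe u v w

variable {F : Type u} [Field F] {G : Type v} [Group G] {ι : Type w} [Fintype ι] [DecidableEq ι]

/-- conjugation distributes over a conjugate -/
theorem ompa9_conj {M : Type*} [Group M] (g Y X Y' X' : M) (hY : g * Y * g⁻¹ = Y') (hX : g * X * g⁻¹ = X') :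
    g * (Y * X * Y⁻¹) * g⁻¹ = Y' * X' * Y'⁻¹ := by
  rw [← hY, ← hX]; group

/-- A9 [S-M] (two statements, one file)  equivariance: A2 `yy_conj` (`Mv g b k b' k'` from `Mv_iff`) and E7 `Mv1.conj_tv`. -/
theorem PP_conj (h4 : 4 ≤ Fintype.card ι) (p : Pts ι) (Φ : Matrix.SpecialLinearGroup ι F →* G) (y : G) (H : OG p Φ y)
    (g : Matrix.SpecialLinearGroup ι F) (a b k a' b' k' : ι) (hab : a ≠ b) (hak : a ≠ k) (hbk : b ≠ k)
    (hab' : a' ≠ b') (hak' : a' ≠ k') (hbk' : b' ≠ k')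
    (ha : Mv1 g a a') (hb : Mv1 g b b') (hk : Mv1 g k k') (t : F) :
    Φ g * PP p Φ y a b k t * (Φ g)⁻¹ = PP p Φ y a' b' k' t := by
  unfold PP
  refine ompa9_conj _ _ _ _ _ (yy_conj h4 p Φ y H.cB g b k b' k' hbk ((Mv_iff g b k b' k').mpr ⟨hb, hk⟩)) ?_
  rw [← map_inv, ← map_mul, ← map_mul, conj_tv g a k a' k' hak hak' ha.1 hk.2]

theorem NN_conj (h4 : 4 ≤ Fintype.card ι) (p : Pts ι) (Φ : Matrix.SpecialLinearGroup ι F →* G) (y : G) (H : OG p Φ y)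
    (g : Matrix.SpecialLinearGroup ι F) (a b k a' b' k' : ι) (hab : a ≠ b) (hak : a ≠ k) (hbk : b ≠ k)
    (hab' : a' ≠ b') (hak' : a' ≠ k') (hbk' : b' ≠ k')
    (ha : Mv1 g a a') (hb : Mv1 g b b') (hk : Mv1 g k k') (t : F) :
    Φ g * NN p Φ y a b k t * (Φ g)⁻¹ = NN p Φ y a' b' k' t := by
  unfold NN
  refine ompa9_conj _ _ _ _ _ (yy_conj h4 p Φ y H.cB g b k b' k' hbk ((Mv_iff g b k b' k').mpr ⟨hb, hk⟩)) ?_
  rw [← map_inv, ← map_mul, ← map_mul, conj_tv g k a k' a' hak.symm hak'.symm hk.1 ha.2]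

end Cfsg.Agent.Lib.helper17.OMP
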