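import Mathlib
import Cfsg.Agent.Lib.helper3.SP4.Defs

/-!
# Project SP4 (designer helper3), row T3: `sq_span` (the squares of the units span a finite field additively).
-/

set_option autoImplicit false

namespace Cfsg.Agent.Lib.helper3.SP4

open Cfsg.Agent.Lib.helper17.SLP
open Polynomial

universe u v

section T

variable {F : Type u} [Field F] [Fintype F] {G : Type v} [Group G]

omit [Fintype F] in
/-- every square lies in the additive closure of the squares of the units -/
theorem sp4t3_sq_mem (x : F) : x ^ 2 ∈ AddSubgroup.closure (Set.range fun s : Fˣ => ((s : F)) ^ 2) := by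
  by_cases hx : x = 0
  · rw [hx, zero_pow (by norm_num)]
    exact zero_mem _
  · exact AddSubgroup.subset_closure ⟨Units.mk0 x hx, rfl⟩

/-- T3 [M]. -/
theorem sq_span : AddSubgroup.closure (Set.range fun s : Fˣ => ((s : F)) ^ 2) = ⊤ := by
  rw [eq_top_iff]
  intro t _
  by_cases h2 : (2 : F) = 0
  · -- characteristic 2: every element is a square
    have : CharP F 2 := CharTwo.of_one_ne_zero_of_two_eq_zero one_ne_zero h2
    have hchar : ringChar F = 2 := ringChar.eq F 2
    obtain ⟨s, hs⟩ := FiniteField.isSquare_of_char_two hchar t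
    rw [hs, ← sq]
    exact sp4t3_sq_mem s
  · -- odd characteristic: `t = ((t+1)/2)² - ((t-1)/2)²`
    have ht : t = ((t + 1) / 2) ^ 2 - ((t - 1) / 2) ^ 2 := by
      field_simp
      ring
    rw [ht]
    exact sub_mem (sp4t3_sq_mem _) (sp4t3_sq_mem _)

end T

end Cfsg.Agent.Lib.helper3.SP4
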