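import Mathlib
import Cfsg.Agent.Lib.helper17.OMP.Defs
import Cfsg.Agent.Lib.helper17.OMP.Defs2
import Cfsg.Agent.Lib.Helper22.CTATVAPI

/-!
# Project OMP (S2295, designer helper17), row A8 (`PP_add NN_add PP_neg NN_neg`) (helper18), VERBATIM vs `helper17/OMP/Skel.lean.txt`.
-/

set_option autoImplicit false

namespace Cfsg.Agent.Lib.helper17.OMP

open Matrix Cfsg.Agent.Lib.helper14.CTE Cfsg.Agent.Lib.helper14.CTA Cfsg.Agent.Lib.helper17.SLN Cfsg.Agent.Lib.Helper28.CTD
  Cfsg.Agent.Lib.helper3.STC Cfsg.Agent.Lib.Lead.STD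

universe u v w

variable {F : Type u} [Field F] {G : Type v} [Group G] {ι : Type w} [Fintype ι] [DecidableEq ι]

/-- A8 [S] (four statements, one file)  additivity (`tv_add`, `map_mul`, conjugation is multiplicative); no hypotheses. -/
theorem PP_add (p : Pts ι) (Φ : Matrix.SpecialLinearGroup ι F →* G) (y : G) (a b k : ι) (t u : F) :
    PP p Φ y a b k (t + u) = PP p Φ y a b k t * PP p Φ y a b k u := by
  unfold PP
  rw [tv_add, map_mul]
  group

theorem NN_add (p : Pts ι) (Φ : Matrix.SpecialLinearGroup ι F →* G) (y : G) (a b k : ι) (t u : F) :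
    NN p Φ y a b k (t + u) = NN p Φ y a b k t * NN p Φ y a b k u := by
  unfold NN
  rw [tv_add, map_mul]
  group

theorem PP_neg (p : Pts ι) (Φ : Matrix.SpecialLinearGroup ι F →* G) (y : G) (a b k : ι) (t : F) :
    PP p Φ y a b k (-t) = (PP p Φ y a b k t)⁻¹ := by
  unfold PP
  rw [← tv_inv, map_inv]
  group

theorem NN_neg (p : Pts ι) (Φ : Matrix.SpecialLinearGroup ι F →* G) (y : G) (a b k : ι) (t : F) :
    NN p Φ y a b k (-t) = (NN p Φ y a b k t)⁻¹ := by
  unfold NN
  rw [← tv_inv, map_inv]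
  group

end Cfsg.Agent.Lib.helper17.OMP
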