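import Mathlib
import Cfsg.Agent.Lib.helper17.SL3.Defs

/-!
# Project SL3 (designer helper17), row K5: `card_pair` (pure group theory).
-/

set_option autoImplicit false

namespace Cfsg.Agent.Lib.helper17.SL3

open Cfsg.Agent.Lib.helper17.SLP

/-- every element of the closure of two commuting elements is `a ^ i * b ^ j`. -/
theorem sl3k5_mem {G : Type*} [Group G] (a b : G) (hab : Commute a b) (g : G)
    (hg : g ∈ Subgroup.closure ({a, b} : Set G)) : ∃ i j : ℤ, g = a ^ i * b ^ j := by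
  induction hg using Subgroup.closure_induction with
  | mem x hx =>
    rcases hx with rfl | hx
    · exact ⟨1, 0, by simp⟩
    · rw [Set.mem_singleton_iff] at hx
      subst hx
      exact ⟨0, 1, by simp⟩
  | one => exact ⟨0, 0, by simp⟩
  | mul x y _ _ hx hy =>
    obtain ⟨i, j, rfl⟩ := hx
    obtain ⟨k, l, rfl⟩ := hy
    refine ⟨i + k, j + l, ?_⟩
    have h1 : Commute (b ^ j) (a ^ k) := (hab.zpow_zpow k j).symm
    calc a ^ i * b ^ j * (a ^ k * b ^ l) = a ^ i * (b ^ j * a ^ k) * b ^ l := by simp only [mul_assoc]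
      _ = a ^ i * (a ^ k * b ^ j) * b ^ l := by rw [h1.eq]
      _ = a ^ (i + k) * b ^ (j + l) := by rw [zpow_add, zpow_add]; simp only [mul_assoc]
  | inv x _ hx =>
    obtain ⟨i, j, rfl⟩ := hx
    refine ⟨-i, -j, ?_⟩
    have h1 : Commute (b ^ (-j)) (a ^ (-i)) := (hab.zpow_zpow (-i) (-j)).symm
    rw [mul_inv_rev, ← zpow_neg, ← zpow_neg, h1.eq]

/-- K5 [S-M]  pure group theory: `(i, j) ↦ a^i b^j` from `Fin m × Fin m` is onto the closure. -/
theorem card_pair {G : Type*} [Group G] (a b : G) (m : ℕ) (hm : 0 < m) (hab : Commute a b)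
    (ha : a ^ m = 1) (hb : b ^ m = 1) :
    Finite (Subgroup.closure ({a, b} : Set G)) ∧ Nat.card (Subgroup.closure ({a, b} : Set G)) ≤ m ^ 2 := by
  have hamem : a ∈ Subgroup.closure ({a, b} : Set G) := Subgroup.subset_closure (by simp)
  have hbmem : b ∈ Subgroup.closure ({a, b} : Set G) := Subgroup.subset_closure (by simp)
  let f : Fin m × Fin m → Subgroup.closure ({a, b} : Set G) := fun ij =>
    ⟨a ^ (ij.1 : ℕ) * b ^ (ij.2 : ℕ),
      mul_mem (pow_mem hamem _) (pow_mem hbmem _)⟩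
  have hmZ : (0 : ℤ) < (m : ℤ) := by exact_mod_cast hm
  have hf : Function.Surjective f := by
    rintro ⟨g, hg⟩
    obtain ⟨i, j, rfl⟩ := sl3k5_mem a b hab g hg
    have hi0 : 0 ≤ i % (m : ℤ) := Int.emod_nonneg _ hmZ.ne'
    have hj0 : 0 ≤ j % (m : ℤ) := Int.emod_nonneg _ hmZ.ne'
    have hi1 : i % (m : ℤ) < m := Int.emod_lt_of_pos _ hmZ
    have hj1 : j % (m : ℤ) < m := Int.emod_lt_of_pos _ hmZ
    refine ⟨(⟨(i % (m : ℤ)).toNat, by omega⟩, ⟨(j % (m : ℤ)).toNat, by omega⟩), ?_⟩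
    apply Subtype.ext
    show a ^ ((i % (m : ℤ)).toNat) * b ^ ((j % (m : ℤ)).toNat) = a ^ i * b ^ j
    rw [zpow_eq_zpow_emod' i ha, zpow_eq_zpow_emod' j hb]
    rw [← zpow_natCast a, ← zpow_natCast b, Int.toNat_of_nonneg hi0, Int.toNat_of_nonneg hj0]
  have hfin : Finite (Subgroup.closure ({a, b} : Set G)) := Finite.of_surjective f hf
  refine ⟨hfin, ?_⟩
  have h := Nat.card_le_card_of_surjective f hf
  rw [Nat.card_prod, Nat.card_fin] at h
  rw [sq]; exact h

end Cfsg.Agent.Lib.helper17.SL3
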