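import Mathlib
import Cfsg.Agent.Lib.helper17.SL3.Defs2

/-!
# Project SL3 (designer helper17), row E5: `rank1_B1` (from the root datum `RD`).
-/

set_option autoImplicit false

namespace Cfsg.Agent.Lib.helper17.SL3

open Cfsg.Agent.Lib.helper17.SLP

universe u

section E

variable {G : Type u} [Group G]

variable (q : ℕ) (T X01 X02 X12 X10 X21 : Subgroup G) (n1 n2 : G)

/-- E5 [M]  `g = a * τ * z * b`: `n1 * g * n1 = (n1 a n1⁻¹) * (n1 τ n1⁻¹) * (n1 z n1⁻¹) * (n1 b n1⁻¹) * n1²`. -/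
theorem rank1_B1 (D : RD q T X01 X02 X12 X10 X21 n1 n2) (B : Subgroup G)
    (hT : T ≤ B) (h01 : X01 ≤ B) (h02 : X02 ≤ B) (h12 : X12 ≤ B)
    (hB : ∀ g, g ∈ B ↔ ∃ a ∈ X01, ∃ τ ∈ T, ∃ z ∈ X02, ∃ b ∈ X12, g = a * τ * z * b) :
    ∀ g ∈ B, n1 * g * n1 ∈ B ∨ ∃ b₁ ∈ B, ∃ b₂ ∈ B, n1 * g * n1 = b₁ * n1 * b₂ := by
  intro g hg
  obtain ⟨a, ha, τ, hτ, z, hz, b, hb, rfl⟩ := (hB g).1 hg
  have hy : n1 * a * n1⁻¹ ∈ X10 := D.n1a a ha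
  have hβ : (n1 * τ * n1⁻¹) * (n1 * z * n1⁻¹) * (n1 * b * n1⁻¹) * n1 ^ 2 ∈ B :=
    mul_mem (mul_mem (mul_mem (hT (D.n1T τ hτ)) (h12 (D.n1b z hz))) (h02 (D.n1c b hb)))
      (hT D.n1sq)
  have hdec : n1 * (a * τ * z * b) * n1 =
      (n1 * a * n1⁻¹) * ((n1 * τ * n1⁻¹) * (n1 * z * n1⁻¹) * (n1 * b * n1⁻¹) * n1 ^ 2) := by
    rw [sq]; simp [mul_assoc]
  rcases D.r1 _ hy with h1 | ⟨a₁, ha₁, τ₁, hτ₁, a₂, ha₂, h1⟩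
  · left
    rw [hdec, h1, one_mul]
    exact hβ
  · right
    refine ⟨a₁ * τ₁, mul_mem (h01 ha₁) (hT hτ₁),
      a₂ * ((n1 * τ * n1⁻¹) * (n1 * z * n1⁻¹) * (n1 * b * n1⁻¹) * n1 ^ 2),
      mul_mem (h01 ha₂) hβ, ?_⟩
    rw [hdec, h1]
    simp only [mul_assoc]

end E

end Cfsg.Agent.Lib.helper17.SL3
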