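import Mathlib
import Cfsg.Agent.Lib.helper17.SL3.Defs2

/-!
# Project SL3 (designer helper17), row E3: `U_subgroup` (from the root datum `RD`).
-/

set_option autoImplicit false

namespace Cfsg.Agent.Lib.helper17.SL3

open Cfsg.Agent.Lib.helper17.SLP

universe u

section E

variable {G : Type u} [Group G]

variable (q : ℕ) (T X01 X02 X12 X10 X21 : Subgroup G) (n1 n2 : G)

/-- E3 [M]  `U := {a * z * b}` is a subgroup; surjection `X01 × X02 × X12 → U`. -/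
theorem U_subgroup (D : RD q T X01 X02 X12 X10 X21 n1 n2) :
    ∃ U : Subgroup G, (∀ g, g ∈ U ↔ ∃ a ∈ X01, ∃ z ∈ X02, ∃ b ∈ X12, g = a * z * b) ∧
      Finite U ∧ Nat.card U ≤ q ^ 3 := by
  -- the key commutation: `b * a = a * c * b` with `c ∈ X02`
  have hswap : ∀ a ∈ X01, ∀ b ∈ X12, ∃ c ∈ X02, b * a = a * c * b := by
    intro a ha b hb
    refine ⟨a⁻¹ * b * (a⁻¹)⁻¹ * b⁻¹, D.p3 a⁻¹ (inv_mem ha) b hb, ?_⟩
    group
  let U : Subgroup G :=
    { carrier := {g | ∃ a ∈ X01, ∃ z ∈ X02, ∃ b ∈ X12, g = a * z * b}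
      one_mem' := ⟨1, one_mem _, 1, one_mem _, 1, one_mem _, by simp⟩
      mul_mem' := by
        rintro _ _ ⟨a, ha, z, hz, b, hb, rfl⟩ ⟨a', ha', z', hz', b', hb', rfl⟩
        obtain ⟨c, hc, hba⟩ := hswap a' ha' b hb
        refine ⟨a * a', mul_mem ha ha', z * c * z', mul_mem (mul_mem hz hc) hz', b * b', mul_mem hb hb', ?_⟩
        have h1 : z * a' = a' * z := ((D.p1 a' ha' z hz).eq).symm
        have h2 : b * z' = z' * b := (D.p2 b hb z' hz').eq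
        calc a * z * b * (a' * z' * b') = a * z * (b * a') * z' * b' := by simp only [mul_assoc]
          _ = a * z * (a' * c * b) * z' * b' := by rw [hba]
          _ = a * (z * a') * c * (b * z') * b' := by simp only [mul_assoc]
          _ = a * (a' * z) * c * (z' * b) * b' := by rw [h1, h2]
          _ = a * a' * (z * c * z') * (b * b') := by simp only [mul_assoc]
      inv_mem' := by
        rintro _ ⟨a, ha, z, hz, b, hb, rfl⟩
        obtain ⟨c, hc, hba⟩ := hswap a⁻¹ (inv_mem ha) b⁻¹ (inv_mem hb)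
        refine ⟨a⁻¹, inv_mem ha, z⁻¹ * c, mul_mem (inv_mem hz) hc, b⁻¹, inv_mem hb, ?_⟩
        have h1 : z⁻¹ * a⁻¹ = a⁻¹ * z⁻¹ :=
          ((D.p1 a⁻¹ (inv_mem ha) z⁻¹ (inv_mem hz)).eq).symm
        have h2 : b⁻¹ * z⁻¹ = z⁻¹ * b⁻¹ := (D.p2 b⁻¹ (inv_mem hb) z⁻¹ (inv_mem hz)).eq
        calc (a * z * b)⁻¹ = (b⁻¹ * z⁻¹) * a⁻¹ := by simp only [mul_inv_rev, mul_assoc]
          _ = z⁻¹ * (b⁻¹ * a⁻¹) := by rw [h2]; simp only [mul_assoc]
          _ = z⁻¹ * (a⁻¹ * c * b⁻¹) := by rw [hba]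
          _ = (z⁻¹ * a⁻¹) * c * b⁻¹ := by simp only [mul_assoc]
          _ = (a⁻¹ * z⁻¹) * c * b⁻¹ := by rw [h1]
          _ = a⁻¹ * (z⁻¹ * c) * b⁻¹ := by simp only [mul_assoc] }
  have hU : ∀ g, g ∈ U ↔ ∃ a ∈ X01, ∃ z ∈ X02, ∃ b ∈ X12, g = a * z * b := fun g => Iff.rfl
  refine ⟨U, hU, ?_⟩
  have := D.fin01.1
  have := D.fin02.1
  have := D.fin12.1
  let f : X01 × X02 × X12 → U := fun t =>
    ⟨(t.1 : G) * (t.2.1 : G) * (t.2.2 : G),
      (hU _).2 ⟨t.1, t.1.2, t.2.1, t.2.1.2, t.2.2, t.2.2.2, rfl⟩⟩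
  have hf : Function.Surjective f := by
    rintro ⟨g, hg⟩
    obtain ⟨a, ha, z, hz, b, hb, rfl⟩ := (hU g).1 hg
    exact ⟨(⟨a, ha⟩, ⟨z, hz⟩, ⟨b, hb⟩), rfl⟩
  have hfin : Finite U := Finite.of_surjective f hf
  refine ⟨hfin, ?_⟩
  have h := Nat.card_le_card_of_surjective f hf
  rw [Nat.card_prod, Nat.card_prod] at h
  calc Nat.card U ≤ Nat.card X01 * (Nat.card X02 * Nat.card X12) := h
    _ ≤ q * (q * q) := Nat.mul_le_mul D.fin01.2 (Nat.mul_le_mul D.fin02.2 D.fin12.2)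
    _ = q ^ 3 := by ring

end E

end Cfsg.Agent.Lib.helper17.SL3
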