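import Mathlib
import Cfsg.Agent.Lib.helper17.SL3.Defs

/-!
# Project SL3 (designer helper17), row C11: `dihedral` (pure group theory).
-/

set_option autoImplicit false

namespace Cfsg.Agent.Lib.helper17.SL3

open Cfsg.Agent.Lib.helper17.SLP

/-- C11 [S]  pure group theory: `cm a b = (a b)²` for involutions. -/
theorem dihedral {G : Type*} [Group G] (a b : G) (ha : a ^ 2 = 1) (hb : b ^ 2 = 1) (hc : cm a b ^ 2 = 1) :
    Commute a (cm a b) ∧ Commute b (cm a b) := by
  have haa : a * a = 1 := by rw [← sq]; exact ha
  have hbb : b * b = 1 := by rw [← sq]; exact hb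
  have ha' : a⁻¹ = a := inv_eq_of_mul_eq_one_right haa
  have hb' : b⁻¹ = b := inv_eq_of_mul_eq_one_right hbb
  have hcm : cm a b = a * b * a * b := by unfold cm; rw [ha', hb']
  rw [hcm] at hc ⊢
  have hcc : (a * b * a * b) * (a * b * a * b) = 1 := by rw [← sq]; exact hc
  have hinv : (a * b * a * b)⁻¹ = b * a * b * a := by
    rw [mul_inv_rev, mul_inv_rev, mul_inv_rev, ha', hb']; simp only [mul_assoc]
  have hflip : b * a * b * a = a * b * a * b := by
    rw [← hinv]; exact inv_eq_of_mul_eq_one_right hcc
  constructor
  · -- a * (abab) = (abab) * a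
    show a * (a * b * a * b) = (a * b * a * b) * a
    calc a * (a * b * a * b) = (a * a) * b * a * b := by simp only [mul_assoc]
      _ = b * a * b := by rw [haa, one_mul]
      _ = b * a * b * (a * a) := by rw [haa, mul_one]
      _ = (b * a * b * a) * a := by simp only [mul_assoc]
      _ = (a * b * a * b) * a := by rw [hflip]
  · show b * (a * b * a * b) = (a * b * a * b) * b
    calc b * (a * b * a * b) = (b * a * b * a) * b := by simp only [mul_assoc]
      _ = (a * b * a * b) * b := by rw [hflip]

end Cfsg.Agent.Lib.helper17.SL3
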