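import Mathlib
import Cfsg.Agent.Lib.helper17.SL3.Defs

/-!
# Project SL3 (designer helper17), row T6: `braid_of_K1` (pure group theory).
-/

set_option autoImplicit false

namespace Cfsg.Agent.Lib.helper17.SL3

open Cfsg.Agent.Lib.helper17.SLP

/-- T6 [S-M]  pure group theory.  `b := w u w⁻¹`; `relK1`: `u b u = w`; then `u b u = b u b`, and `w b w⁻¹ = u`. -/
theorem braid_of_K1 {G : Type*} [Group G] (u w : G) (hK1 : relK1 u w = 1) :
    w * (w * u * w⁻¹) * w⁻¹ = u ∧ Commute (w ^ 2) u := by
  have hw : u * (w * u * w⁻¹) * u = w := by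
    unfold relK1 at hK1
    have h := mul_inv_eq_one.mp hK1
    calc u * (w * u * w⁻¹) * u = u * w * u * w⁻¹ * u := by simp only [mul_assoc]
      _ = w := h
  have key : ∀ b : G, b = w * u * w⁻¹ → u * b * u = w → w * b * w⁻¹ = u := by
    intro b hb hw
    have hbw : b * w = w * u := by rw [hb]; group
    have hbub : b * u * b = u * b * u := by
      have h1 : b * (u * b * u) = (u * b * u) * u := by rw [hw]; exact hbw
      have h2 : (b * u * b) * u = (u * b * u) * u := by rw [← h1]; simp only [mul_assoc]
      exact mul_right_cancel h2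
    have hw2 : b * u * b = w := by rw [hbub, hw]
    have hk : w * b = u * w := by
      calc w * b = (u * b * u) * b := by rw [hw]
        _ = u * (b * u * b) := by simp only [mul_assoc]
        _ = u * w := by rw [hw2]
    rw [hk]; group
  have h1 : w * (w * u * w⁻¹) * w⁻¹ = u := key _ rfl hw
  refine ⟨h1, ?_⟩
  show w ^ 2 * u = u * w ^ 2
  rw [sq]
  calc w * w * u = (w * (w * u * w⁻¹) * w⁻¹) * (w * w) := by simp [mul_assoc]
    _ = u * (w * w) := by rw [h1]

end Cfsg.Agent.Lib.helper17.SL3
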