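import Mathlib
import Cfsg.Agent.Lib.Helper1.SLN.Defs
import Cfsg.Agent.Lib.Helper1.SLN.Defs2

/-!
# Project SL7 (S2288, designer helper1), rows Z2 (`stab_of_rel`) and Z5 (`glue3_of_rels4`) (helper18), VERBATIM.
Defs only; Z5 contains an own-name proof `sl7z5_stab01_zero` of the Z4 statement.
-/

set_option autoImplicit false

namespace Cfsg.Agent.Lib.Helper1.SLN

open Matrix Equiv

universe u v w

section Z

variable {F : Type u} [Field F] {G : Type v} [Group G]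

/-- Z2 [S-M] -/
theorem stab_of_rel (M : ℕ) (α : alternatingGroup (Fin (M + 4)) →* G)
    (β : Matrix.SpecialLinearGroup (Fin 3) F →* G) (ν x : alternatingGroup (Fin (M + 4))) (hN : NuHyp M ν x)
    (hflip : ∀ m : Matrix.SpecialLinearGroup (Fin 2) F, α ν * β (emb23 m) * (α ν)⁻¹ = β (emb23 (flip2 m)))
    (hsq : ∀ m : Matrix.SpecialLinearGroup (Fin 2) F, Commute (α (ν * ν)) (β (emb23 m)))
    (a : Matrix.SpecialLinearGroup (Fin 2) F) (ha : flip2 a = a⁻¹)
    (hr : Commute (β (emb23 a)) (α x)) :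
    ∀ τ ∈ stab01 M, Commute (α τ) (β (emb23 a)) := by
  let S : Subgroup (alternatingGroup (Fin (M + 4))) :=
    (Subgroup.centralizer ({β (emb23 a)} : Set G)).comap α
  have hmem : ∀ τ, τ ∈ S ↔ Commute (α τ) (β (emb23 a)) := by
    intro τ
    show α τ ∈ Subgroup.centralizer ({β (emb23 a)} : Set G) ↔ _
    rw [Subgroup.mem_centralizer_iff]
    constructor
    · intro h
      exact (h _ rfl).symm
    · rintro h _ rfl
      exact h.symm
  have hx : x ∈ S := (hmem x).2 hr.symm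
  have hνν : ν * ν ∈ S := (hmem _).2 (hsq a)
  have hconj : ∀ τ ∈ S, ν * τ * ν⁻¹ ∈ S := by
    intro τ hτ
    rw [hmem] at hτ ⊢
    have hb : α ν * β (emb23 a) * (α ν)⁻¹ = (β (emb23 a))⁻¹ := by
      rw [hflip a, ha, map_inv, map_inv]
    -- conjugate the commutation by `α ν`
    have h1 : Commute (α ν * α τ * (α ν)⁻¹) (α ν * β (emb23 a) * (α ν)⁻¹) := by
      unfold Commute SemiconjBy
      have e := hτ.eq
      calc α ν * α τ * (α ν)⁻¹ * (α ν * β (emb23 a) * (α ν)⁻¹)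
          = α ν * (α τ * β (emb23 a)) * (α ν)⁻¹ := by group
        _ = α ν * (β (emb23 a) * α τ) * (α ν)⁻¹ := by rw [e]
        _ = α ν * β (emb23 a) * (α ν)⁻¹ * (α ν * α τ * (α ν)⁻¹) := by group
    rw [hb] at h1
    have h2 := h1.inv_right
    rw [inv_inv] at h2
    rw [map_mul, map_mul, map_inv]
    exact h2
  intro τ hτ
  exact (hmem τ).1 (hN.gen S hx hνν hconj hτ)

/-- own-name copy of the Z4 statement -/
theorem sl7z5_stab01_zero : stab01 0 = ⊥ := by
  rw [eq_bot_iff]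
  rintro ⟨σ, hσ⟩ ⟨h0, h1⟩
  rw [Subgroup.mem_bot]
  apply Subtype.ext
  show σ = 1
  have key : ∀ σ : Equiv.Perm (Fin 4), Equiv.Perm.sign σ = 1 → σ 0 = 0 → σ 1 = 1 → σ = 1 := by
    decide
  exact key σ (Equiv.Perm.mem_alternatingGroup.1 hσ) h0 h1

/-- Z5 [S-M] -/
theorem glue3_of_rels4 (α : alternatingGroup (Fin (0 + 4)) →* G)
    (β : Matrix.SpecialLinearGroup (Fin 3) F →* G) (h2c : α (c3 0) = β cM)
    (a₁ a₂ : Matrix.SpecialLinearGroup (Fin 2) F) (ha₁ : flip2 a₁ = a₁⁻¹) (ha₂ : flip2 a₂ = a₂⁻¹)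
    (hcl : Subgroup.closure ({a₁, a₂} : Set (Matrix.SpecialLinearGroup (Fin 2) F)) = ⊤)
    (r1 : α (t23 0) * β (emb23 a₁) * (α (t23 0))⁻¹ = (β (emb23 a₁))⁻¹)
    (r2 : α (t23 0) * β (emb23 a₂) * (α (t23 0))⁻¹ = (β (emb23 a₂))⁻¹) :
    Glue3 0 α β := by
  refine ⟨h2c, ?_, ?_⟩
  · -- g3
    let φ₁ : Matrix.SpecialLinearGroup (Fin 2) F →* G :=
      ((MulAut.conj (α (t23 0))).toMonoidHom.comp β).comp emb23
    let φ₂ : Matrix.SpecialLinearGroup (Fin 2) F →* G := (β.comp emb23).comp flip2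
    have hφ : φ₁ = φ₂ := by
      apply MonoidHom.eq_of_eqOn_dense hcl
      intro m hm
      rcases hm with hm | hm
      · rw [hm]
        show α (t23 0) * β (emb23 a₁) * (α (t23 0))⁻¹ = β (emb23 (flip2 a₁))
        rw [r1, ha₁, map_inv, map_inv]
      · rw [Set.mem_singleton_iff] at hm
        rw [hm]
        show α (t23 0) * β (emb23 a₂) * (α (t23 0))⁻¹ = β (emb23 (flip2 a₂))
        rw [r2, ha₂, map_inv, map_inv]
    intro m
    exact DFunLike.congr_fun hφ m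
  · -- g4
    intro τ hτ m
    rw [sl7z5_stab01_zero, Subgroup.mem_bot] at hτ
    subst hτ
    rw [map_one, one_mul, inv_one, mul_one]

end Z

end Cfsg.Agent.Lib.Helper1.SLN
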