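import Mathlib

set_option autoImplicit false

namespace Cfsg.Agent.Lib.Helper18

/-- class equation piece: size of the conjugacy class times the order of the centralizer. -/
theorem card_isConj_mul_card_centralizer {G : Type*} [Group G] [Finite G] (g : G) :
    Nat.card {h : G // IsConj g h} * Nat.card (Subgroup.centralizer ({g} : Set G)) = Nat.card G := by
  classical
  rw [Subgroup.nat_card_centralizer_nat_card_stabilizer]
  have h1 := MulAction.index_stabilizer (ConjAct G) g
  have h2 := (MulAction.stabilizer (ConjAct G) g).card_mul_index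
  have h3 : (MulAction.orbit (ConjAct G) g) = {h : G | IsConj g h} := by
    ext h
    rw [ConjAct.mem_orbit_conjAct, Set.mem_setOf_eq, isConj_comm]
  have h4 : Nat.card {h : G // IsConj g h} = (MulAction.orbit (ConjAct G) g).ncard := by
    rw [h3, ← Nat.card_coe_set_eq]
    rfl
  have h5 : Nat.card (ConjAct G) = Nat.card G := Nat.card_congr ConjAct.ofConjAct.toEquiv
  rw [h4, ← h1, mul_comm, h2, h5]

theorem card_centralizer_eq_of_isConj {G : Type*} [Group G] [Finite G] {g h : G} (hc : IsConj g h) :
    Nat.card (Subgroup.centralizer ({g} : Set G)) = Nat.card (Subgroup.centralizer ({h} : Set G)) := by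
  have h1 := card_isConj_mul_card_centralizer g
  have h2 := card_isConj_mul_card_centralizer h
  have h3 : Nat.card {x : G // IsConj g x} = Nat.card {x : G // IsConj h x} := by
    apply Nat.card_congr
    refine Equiv.subtypeEquivRight (fun x => ?_)
    exact ⟨fun hx => hc.symm.trans hx, fun hx => hc.trans hx⟩
  rw [h3] at h1
  have hpos : 0 < Nat.card {x : G // IsConj h x} := by
    haveI : Nonempty {x : G // IsConj h x} := ⟨⟨h, IsConj.refl h⟩⟩
    exact Nat.card_pos
  exact Nat.eq_of_mul_eq_mul_left hpos (h1.trans h2.symm)

end Cfsg.Agent.Lib.Helper18
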