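import Cfsg.Agent.Lib.Helper1.SLK.Defs

set_option autoImplicit false
set_option linter.unusedSimpArgs false

namespace Cfsg.Agent.Lib.Helper1.SLK

open Polynomial
open Cfsg.Agent.Lib.Helper29.GLK

theorem slkn2_zero (q r j : ℕ) : cnt q 0 r j = if j = 0 then 1 else 0 := by
  simp [cnt]

theorem slkn2_succ (q s r j : ℕ) : cnt q (s + 1) r j =
    ∑ m ∈ Finset.range (j + 1),
        if r * m ≤ j then nMon q m * cnt q s (r + 1) (j - r * m) else 0 := by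
  simp [cnt]

theorem slkn2_nMon0 (q : ℕ) : nMon q 0 = 1 := by simp [nMon]
theorem slkn2_nMon1 (q : ℕ) : nMon q 1 = q - 1 := by simp [nMon]
theorem slkn2_nMon2 (q : ℕ) : nMon q 2 = (q - 1) * q := by simp [nMon]
theorem slkn2_nMon3 (q : ℕ) : nMon q 3 = (q - 1) * q ^ 2 := by simp [nMon]
theorem slkn2_nMon4 (q : ℕ) : nMon q 4 = (q - 1) * q ^ 3 := by simp [nMon]

theorem slkn2_c1 (q : ℕ) : cnt q 1 1 1 = q - 1 := by
  rw [slkn2_succ]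
  simp [Finset.sum_range_succ, slkn2_zero, slkn2_nMon1]

-- level 1, r = 2
theorem slkn2_c12_0 (q : ℕ) : cnt q 1 2 0 = 1 := by
  rw [slkn2_succ]; simp [Finset.sum_range_succ, slkn2_zero, slkn2_nMon0]
theorem slkn2_c12_1 (q : ℕ) : cnt q 1 2 1 = 0 := by
  rw [slkn2_succ]; simp [Finset.sum_range_succ, slkn2_zero, slkn2_nMon0]
theorem slkn2_c12_2 (q : ℕ) : cnt q 1 2 2 = q - 1 := by
  rw [slkn2_succ]; simp [Finset.sum_range_succ, slkn2_zero, slkn2_nMon0, slkn2_nMon1]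

theorem slkn2_c2 (q : ℕ) : cnt q 2 1 2 = (q - 1) + (q - 1) * q := by
  rw [slkn2_succ]
  simp [Finset.sum_range_succ, slkn2_c12_0, slkn2_c12_1, slkn2_c12_2, slkn2_nMon0, slkn2_nMon1, slkn2_nMon2]

-- level 1, r = 3
theorem slkn2_c13_0 (q : ℕ) : cnt q 1 3 0 = 1 := by
  rw [slkn2_succ]; simp [Finset.sum_range_succ, slkn2_zero, slkn2_nMon0]
theorem slkn2_c13_1 (q : ℕ) : cnt q 1 3 1 = 0 := by
  rw [slkn2_succ]; simp [Finset.sum_range_succ, slkn2_zero, slkn2_nMon0]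
theorem slkn2_c13_2 (q : ℕ) : cnt q 1 3 2 = 0 := by
  rw [slkn2_succ]; simp [Finset.sum_range_succ, slkn2_zero, slkn2_nMon0]
theorem slkn2_c13_3 (q : ℕ) : cnt q 1 3 3 = q - 1 := by
  rw [slkn2_succ]; simp [Finset.sum_range_succ, slkn2_zero, slkn2_nMon0, slkn2_nMon1]

-- level 2, r = 2
theorem slkn2_c22_0 (q : ℕ) : cnt q 2 2 0 = 1 := by
  rw [slkn2_succ]; simp [Finset.sum_range_succ, slkn2_c13_0, slkn2_nMon0]
theorem slkn2_c22_1 (q : ℕ) : cnt q 2 2 1 = 0 := by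
  rw [slkn2_succ]; simp [Finset.sum_range_succ, slkn2_c13_1, slkn2_nMon0]
theorem slkn2_c22_2 (q : ℕ) : cnt q 2 2 2 = q - 1 := by
  rw [slkn2_succ]; simp [Finset.sum_range_succ, slkn2_c13_0, slkn2_c13_2, slkn2_nMon0, slkn2_nMon1]
theorem slkn2_c22_3 (q : ℕ) : cnt q 2 2 3 = q - 1 := by
  rw [slkn2_succ]; simp [Finset.sum_range_succ, slkn2_c13_1, slkn2_c13_3, slkn2_nMon0, slkn2_nMon1]

theorem slkn2_c3 (q : ℕ) : cnt q 3 1 3 = (q - 1) + (q - 1) * (q - 1) + (q - 1) * q ^ 2 := by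
  rw [slkn2_succ]
  simp [Finset.sum_range_succ, slkn2_c22_0, slkn2_c22_1, slkn2_c22_2, slkn2_c22_3, slkn2_nMon0,
    slkn2_nMon1, slkn2_nMon2, slkn2_nMon3]

-- level 1, r = 4
theorem slkn2_c14_0 (q : ℕ) : cnt q 1 4 0 = 1 := by
  rw [slkn2_succ]; simp [Finset.sum_range_succ, slkn2_zero, slkn2_nMon0]
theorem slkn2_c14_1 (q : ℕ) : cnt q 1 4 1 = 0 := by
  rw [slkn2_succ]; simp [Finset.sum_range_succ, slkn2_zero, slkn2_nMon0]
theorem slkn2_c14_2 (q : ℕ) : cnt q 1 4 2 = 0 := by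
  rw [slkn2_succ]; simp [Finset.sum_range_succ, slkn2_zero, slkn2_nMon0]
theorem slkn2_c14_3 (q : ℕ) : cnt q 1 4 3 = 0 := by
  rw [slkn2_succ]; simp [Finset.sum_range_succ, slkn2_zero, slkn2_nMon0]
theorem slkn2_c14_4 (q : ℕ) : cnt q 1 4 4 = q - 1 := by
  rw [slkn2_succ]; simp [Finset.sum_range_succ, slkn2_zero, slkn2_nMon0, slkn2_nMon1]

-- level 2, r = 3
theorem slkn2_c23_0 (q : ℕ) : cnt q 2 3 0 = 1 := by
  rw [slkn2_succ]; simp [Finset.sum_range_succ, slkn2_c14_0, slkn2_nMon0]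
theorem slkn2_c23_1 (q : ℕ) : cnt q 2 3 1 = 0 := by
  rw [slkn2_succ]; simp [Finset.sum_range_succ, slkn2_c14_1, slkn2_nMon0]
theorem slkn2_c23_2 (q : ℕ) : cnt q 2 3 2 = 0 := by
  rw [slkn2_succ]; simp [Finset.sum_range_succ, slkn2_c14_2, slkn2_nMon0]
theorem slkn2_c23_3 (q : ℕ) : cnt q 2 3 3 = q - 1 := by
  rw [slkn2_succ]; simp [Finset.sum_range_succ, slkn2_c14_0, slkn2_c14_3, slkn2_nMon0, slkn2_nMon1]
theorem slkn2_c23_4 (q : ℕ) : cnt q 2 3 4 = q - 1 := by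
  rw [slkn2_succ]; simp [Finset.sum_range_succ, slkn2_c14_1, slkn2_c14_4, slkn2_nMon0, slkn2_nMon1]

-- level 3, r = 2
theorem slkn2_c32_0 (q : ℕ) : cnt q 3 2 0 = 1 := by
  rw [slkn2_succ]; simp [Finset.sum_range_succ, slkn2_c23_0, slkn2_nMon0]
theorem slkn2_c32_1 (q : ℕ) : cnt q 3 2 1 = 0 := by
  rw [slkn2_succ]; simp [Finset.sum_range_succ, slkn2_c23_1, slkn2_nMon0]
theorem slkn2_c32_2 (q : ℕ) : cnt q 3 2 2 = q - 1 := by
  rw [slkn2_succ]; simp [Finset.sum_range_succ, slkn2_c23_0, slkn2_c23_2, slkn2_nMon0, slkn2_nMon1]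
theorem slkn2_c32_3 (q : ℕ) : cnt q 3 2 3 = q - 1 := by
  rw [slkn2_succ]; simp [Finset.sum_range_succ, slkn2_c23_1, slkn2_c23_3, slkn2_nMon0, slkn2_nMon1]
theorem slkn2_c32_4 (q : ℕ) : cnt q 3 2 4 = (q - 1) + (q - 1) * q := by
  rw [slkn2_succ]; simp [Finset.sum_range_succ, slkn2_c23_0, slkn2_c23_2, slkn2_c23_4, slkn2_nMon0,
    slkn2_nMon1, slkn2_nMon2]

theorem slkn2_c4 (q : ℕ) : cnt q 4 1 4 =
    ((q - 1) + (q - 1) * q) + (q - 1) * (q - 1) + (q - 1) * q * (q - 1) + (q - 1) * q ^ 3 := by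
  rw [slkn2_succ]
  simp [Finset.sum_range_succ, slkn2_c32_0, slkn2_c32_1, slkn2_c32_2, slkn2_c32_3, slkn2_c32_4,
    slkn2_nMon0, slkn2_nMon1, slkn2_nMon2, slkn2_nMon3, slkn2_nMon4]

/-- N2 -/
theorem cnt_small (q : ℕ) (hq : 2 ≤ q) :
    cnt q 1 1 1 = q - 1 ∧ cnt q 2 1 2 = q ^ 2 - 1 ∧ cnt q 3 1 3 = q ^ 3 - q ∧
      cnt q 4 1 4 = q ^ 4 - q := by
  obtain ⟨a, rfl⟩ : ∃ a, q = a + 1 := ⟨q - 1, by omega⟩
  rw [slkn2_c1, slkn2_c2, slkn2_c3, slkn2_c4]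
  simp only [Nat.add_sub_cancel]
  refine ⟨trivial, ?_, ?_, ?_⟩
  · have : (a + 1) ^ 2 = (a + a * (a + 1)) + 1 := by ring
    rw [this, Nat.add_sub_cancel]
  · have : (a + 1) ^ 3 = (a + a * a + a * (a + 1) ^ 2) + (a + 1) := by ring
    rw [this, Nat.add_sub_cancel]
  · have : (a + 1) ^ 4 = (a + a * (a + 1) + a * a + a * (a + 1) * a + a * (a + 1) ^ 3) + (a + 1) := by
      ring
    rw [this, Nat.add_sub_cancel]

end Cfsg.Agent.Lib.Helper1.SLK
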