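import Mathlib
import Cfsg.Agent.Lib.Helper1.SLK.Defs

set_option autoImplicit false

namespace Cfsg.Agent.Lib.Helper1.SLK

theorem slkn3_geom (a m : ℕ) :
    a * ∑ j ∈ Finset.Icc 1 m, (a + 1) ^ j + (a + 1) = (a + 1) ^ (m + 1) := by
  induction m with
  | zero => simp
  | succ m ih =>
    rw [Finset.sum_Icc_succ_top (by omega), mul_add, pow_succ (a + 1) (m + 1), ← ih]
    ring

/-- the sum over the nontrivial divisors, bounded by the full geometric sum -/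
theorem slkn3_sum_le (n q D : ℕ) (hn : 0 < n) (hD : D ∣ n) :
    ∑ d ∈ (Nat.divisors D).filter (fun d => 1 < d), q ^ (n / d) ≤
      ∑ j ∈ Finset.Icc 1 (n / 2), q ^ j := by
  have hinj : Set.InjOn (fun d => n / d) ((Nat.divisors D).filter (fun d => 1 < d) : Finset ℕ) := by
    intro d hd d' hd' h
    rw [Finset.mem_coe, Finset.mem_filter, Nat.mem_divisors] at hd hd'
    have h1 : d ∣ n := hd.1.1.trans hD
    have h2 : d' ∣ n := hd'.1.1.trans hD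
    have e1 : n / (n / d) = d := Nat.div_div_self h1 hn.ne'
    have e2 : n / (n / d') = d' := Nat.div_div_self h2 hn.ne'
    simp only at h
    rw [← e1, ← e2, h]
  rw [← Finset.sum_image (f := fun j => q ^ j) hinj]
  apply Finset.sum_le_sum_of_subset
  intro j hj
  simp only [Finset.mem_image, Finset.mem_filter, Nat.mem_divisors] at hj
  obtain ⟨d, ⟨⟨hdD, _⟩, hd1⟩, rfl⟩ := hj
  have h1 : d ∣ n := hdD.trans hD
  have hdn : d ≤ n := Nat.le_of_dvd hn h1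
  rw [Finset.mem_Icc]
  refine ⟨Nat.div_pos hdn (by omega), ?_⟩
  exact Nat.div_le_div_left (by omega) (by omega)

/-- N3 -/
theorem div_sum_le (n q : ℕ) (hn : 5 ≤ n) (hq : 2 ≤ q) :
    ∑ d ∈ (Nat.divisors (Nat.gcd n (q - 1))).filter (fun d => 1 < d),
      (d ^ 2 - 1) * q ^ (n / d) ≤ q ^ (n - 1) := by
  obtain ⟨a, rfl⟩ : ∃ a, q = a + 1 := ⟨q - 1, by omega⟩
  have ha : 1 ≤ a := by omega
  simp only [Nat.add_sub_cancel]
  set S := (Nat.divisors (Nat.gcd n a)).filter (fun d => 1 < d) with hS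
  have hterm : ∀ d ∈ S, (d ^ 2 - 1) * (a + 1) ^ (n / d) ≤ (a ^ 2 - 1) * (a + 1) ^ (n / d) := by
    intro d hd
    rw [hS, Finset.mem_filter, Nat.mem_divisors] at hd
    have hda : d ∣ a := hd.1.1.trans (Nat.gcd_dvd_right n a)
    have hle : d ≤ a := Nat.le_of_dvd (by omega) hda
    exact Nat.mul_le_mul_right _ (Nat.sub_le_sub_right (Nat.pow_le_pow_left hle 2) 1)
  have h1 : ∑ d ∈ S, (d ^ 2 - 1) * (a + 1) ^ (n / d) ≤
      (a ^ 2 - 1) * ∑ j ∈ Finset.Icc 1 (n / 2), (a + 1) ^ j := by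
    calc ∑ d ∈ S, (d ^ 2 - 1) * (a + 1) ^ (n / d)
        ≤ ∑ d ∈ S, (a ^ 2 - 1) * (a + 1) ^ (n / d) := Finset.sum_le_sum hterm
      _ = (a ^ 2 - 1) * ∑ d ∈ S, (a + 1) ^ (n / d) := by rw [Finset.mul_sum]
      _ ≤ _ := Nat.mul_le_mul_left _
          (slkn3_sum_le n (a + 1) (Nat.gcd n a) (by omega) (Nat.gcd_dvd_left n a))
  have hg := slkn3_geom a (n / 2)
  set G := ∑ j ∈ Finset.Icc 1 (n / 2), (a + 1) ^ j with hG
  have h2 : (a ^ 2 - 1) * G ≤ (a + 1) ^ (n / 2 + 2) := by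
    apply Nat.le_of_mul_le_mul_left _ ha
    have hc : a ^ 2 - 1 ≤ a * (a + 1) := by
      have : a ^ 2 ≤ a * (a + 1) := by nlinarith
      omega
    calc a * ((a ^ 2 - 1) * G) = (a ^ 2 - 1) * (a * G) := by ring
      _ ≤ (a ^ 2 - 1) * (a + 1) ^ (n / 2 + 1) := Nat.mul_le_mul_left _ (by omega)
      _ ≤ (a * (a + 1)) * (a + 1) ^ (n / 2 + 1) := Nat.mul_le_mul_right _ hc
      _ = a * (a + 1) ^ (n / 2 + 2) := by ring
  calc ∑ d ∈ S, (d ^ 2 - 1) * (a + 1) ^ (n / d) ≤ (a ^ 2 - 1) * G := h1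
    _ ≤ (a + 1) ^ (n / 2 + 2) := h2
    _ ≤ (a + 1) ^ (n - 1) := Nat.pow_le_pow_right (by omega) (by omega)

end Cfsg.Agent.Lib.Helper1.SLK
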