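import Mathlib
import Cfsg.Agent.Lib.Helper1.SLK.Defs
import Cfsg.Agent.Lib.helper6.GLKN
import Cfsg.Agent.Lib.Helper18.SLKN2
import Cfsg.Agent.Lib.Helper18.SLKN3

set_option autoImplicit false

namespace Cfsg.Agent.Lib.Helper1.SLK

open Polynomial
open Cfsg.Agent.Lib.Helper29.GLK

theorem slkn48_filt1 : (Nat.divisors 1).filter (fun d => 1 < d) = ∅ := by decide
theorem slkn48_filt2 : (Nat.divisors 2).filter (fun d => 1 < d) = {2} := by decide
theorem slkn48_filt3 : (Nat.divisors 3).filter (fun d => 1 < d) = {3} := by decide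
theorem slkn48_filt4 : (Nat.divisors 4).filter (fun d => 1 < d) = {2, 4} := by decide

/-- the values of `cnt` in terms of `a = q - 1` -/
theorem slkn48_cnt (a : ℕ) (ha : 1 ≤ a) :
    cnt (a + 1) 1 1 1 = a ∧ cnt (a + 1) 2 1 2 = a * (a + 2) ∧
      cnt (a + 1) 3 1 3 = a * ((a + 1) * (a + 2)) ∧
      cnt (a + 1) 4 1 4 = a * ((a + 1) * (a ^ 2 + 3 * a + 3)) := by
  obtain ⟨h1, h2, h3, h4⟩ := cnt_small (a + 1) (by omega)
  refine ⟨by rw [h1]; simp, ?_, ?_, ?_⟩
  · rw [h2]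
    have : (a + 1) ^ 2 = a * (a + 2) + 1 := by ring
    omega
  · rw [h3]
    have : (a + 1) ^ 3 = a * ((a + 1) * (a + 2)) + (a + 1) := by ring
    omega
  · rw [h4]
    have : (a + 1) ^ 4 = a * ((a + 1) * (a ^ 2 + 3 * a + 3)) + (a + 1) := by ring
    omega

/-- N4 -/
theorem num_two (q k : ℕ) (K : ℕ → ℕ) (hq : 2 ≤ q) (hK : ∀ m, K m ≤ cnt q m 1 m)
    (H : (q - 1) * k ≤ K 2 +
      ∑ d ∈ (Nat.divisors (Nat.gcd 2 (q - 1))).filter (fun d => 1 < d), (d ^ 2 - 1) * K (2 / d)) :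
    2 * k ≤ 5 * q ^ (2 - 1) := by
  obtain ⟨a, rfl⟩ : ∃ a, q = a + 1 := ⟨q - 1, by omega⟩
  have ha : 1 ≤ a := by omega
  simp only [Nat.add_sub_cancel] at H
  obtain ⟨c1, c2, -, -⟩ := slkn48_cnt a ha
  have k1 := hK 1; rw [c1] at k1
  have k2 := hK 2; rw [c2] at k2
  have hmod : a % 2 < 2 := Nat.mod_lt _ (by norm_num)
  have hgr := Nat.gcd_rec 2 a
  norm_num
  interval_cases hr : a % 2
  · have hg : Nat.gcd 2 a = 2 := by rw [hgr]; rfl
    rw [hg, slkn48_filt2] at H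
    simp only [Finset.sum_singleton] at H
    norm_num at H
    have h3 : a * k ≤ a * (a + 5) := by nlinarith
    have := Nat.le_of_mul_le_mul_left h3 (by omega)
    omega
  · have hg : Nat.gcd 2 a = 1 := by rw [hgr]; rfl
    rw [hg, slkn48_filt1] at H
    simp only [Finset.sum_empty, add_zero] at H
    have h3 : a * k ≤ a * (a + 2) := by omega
    have := Nat.le_of_mul_le_mul_left h3 (by omega)
    omega

/-- N5 -/
theorem num_three (q k : ℕ) (K : ℕ → ℕ) (hq : 2 ≤ q) (hK : ∀ m, K m ≤ cnt q m 1 m)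
    (H : (q - 1) * k ≤ K 3 +
      ∑ d ∈ (Nat.divisors (Nat.gcd 3 (q - 1))).filter (fun d => 1 < d), (d ^ 2 - 1) * K (3 / d)) :
    k ≤ q ^ (3 - 1) + 3 * q ^ (3 - 2) := by
  obtain ⟨a, rfl⟩ : ∃ a, q = a + 1 := ⟨q - 1, by omega⟩
  have ha : 1 ≤ a := by omega
  simp only [Nat.add_sub_cancel] at H
  obtain ⟨c1, -, c3, -⟩ := slkn48_cnt a ha
  have k1 := hK 1; rw [c1] at k1
  have k3 := hK 3; rw [c3] at k3
  have hmod : a % 3 < 3 := Nat.mod_lt _ (by norm_num)
  have hgr := Nat.gcd_rec 3 a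
  norm_num
  interval_cases hr : a % 3
  · have hg : Nat.gcd 3 a = 3 := by rw [hgr]; rfl
    rw [hg, slkn48_filt3] at H
    simp only [Finset.sum_singleton] at H
    norm_num at H
    have ha3 : 3 ≤ a := by omega
    have h3 : a * k ≤ a * ((a + 1) * (a + 2) + 8) := by nlinarith
    have := Nat.le_of_mul_le_mul_left h3 (by omega)
    nlinarith
  · have hg : Nat.gcd 3 a = 1 := by rw [hgr]; rfl
    rw [hg, slkn48_filt1] at H
    simp only [Finset.sum_empty, add_zero] at H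
    have h3 : a * k ≤ a * ((a + 1) * (a + 2)) := by omega
    have := Nat.le_of_mul_le_mul_left h3 (by omega)
    nlinarith
  · have hg : Nat.gcd 3 a = 1 := by rw [hgr]; rfl
    rw [hg, slkn48_filt1] at H
    simp only [Finset.sum_empty, add_zero] at H
    have h3 : a * k ≤ a * ((a + 1) * (a + 2)) := by omega
    have := Nat.le_of_mul_le_mul_left h3 (by omega)
    nlinarith

/-- N6 -/
theorem num_four (q k : ℕ) (K : ℕ → ℕ) (hq : 2 ≤ q) (hK : ∀ m, K m ≤ cnt q m 1 m)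
    (H : (q - 1) * k ≤ K 4 +
      ∑ d ∈ (Nat.divisors (Nat.gcd 4 (q - 1))).filter (fun d => 1 < d), (d ^ 2 - 1) * K (4 / d)) :
    k ≤ q ^ (4 - 1) + 3 * q ^ (4 - 2) := by
  obtain ⟨a, rfl⟩ : ∃ a, q = a + 1 := ⟨q - 1, by omega⟩
  have ha : 1 ≤ a := by omega
  simp only [Nat.add_sub_cancel] at H
  obtain ⟨c1, c2, -, c4⟩ := slkn48_cnt a ha
  have k1 := hK 1; rw [c1] at k1
  have k2 := hK 2; rw [c2] at k2
  have k4 := hK 4; rw [c4] at k4
  have hmod : a % 4 < 4 := Nat.mod_lt _ (by norm_num)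
  have hgr := Nat.gcd_rec 4 a
  norm_num
  interval_cases hr : a % 4
  · have hg : Nat.gcd 4 a = 4 := by rw [hgr]; rfl
    rw [hg, slkn48_filt4] at H
    rw [Finset.sum_pair (by norm_num)] at H
    norm_num at H
    have ha3 : 4 ≤ a := by omega
    have h3 : a * k ≤ a * ((a + 1) * (a ^ 2 + 3 * a + 3) + 3 * (a + 2) + 15) := by nlinarith
    have := Nat.le_of_mul_le_mul_left h3 (by omega)
    nlinarith
  · have hg : Nat.gcd 4 a = 1 := by rw [hgr]; rfl
    rw [hg, slkn48_filt1] at H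
    simp only [Finset.sum_empty, add_zero] at H
    have h3 : a * k ≤ a * ((a + 1) * (a ^ 2 + 3 * a + 3)) := by omega
    have := Nat.le_of_mul_le_mul_left h3 (by omega)
    nlinarith
  · have hg : Nat.gcd 4 a = 2 := by rw [hgr]; rfl
    rw [hg, slkn48_filt2] at H
    simp only [Finset.sum_singleton] at H
    norm_num at H
    have ha3 : 2 ≤ a := by omega
    have h3 : a * k ≤ a * ((a + 1) * (a ^ 2 + 3 * a + 3) + 3 * (a + 2)) := by nlinarith
    have := Nat.le_of_mul_le_mul_left h3 (by omega)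
    nlinarith
  · have hg : Nat.gcd 4 a = 1 := by rw [hgr]; rfl
    rw [hg, slkn48_filt1] at H
    simp only [Finset.sum_empty, add_zero] at H
    have h3 : a * k ≤ a * ((a + 1) * (a ^ 2 + 3 * a + 3)) := by omega
    have := Nat.le_of_mul_le_mul_left h3 (by omega)
    nlinarith

/-- N7 -/
theorem num_big (n q k : ℕ) (K : ℕ → ℕ) (hn : 5 ≤ n) (hq : 2 ≤ q)
    (hK : ∀ m, K m ≤ cnt q m 1 m)
    (H : (q - 1) * k ≤ K n +
      ∑ d ∈ (Nat.divisors (Nat.gcd n (q - 1))).filter (fun d => 1 < d), (d ^ 2 - 1) * K (n / d)) :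
    k ≤ q ^ (n - 1) + 3 * q ^ (n - 2) := by
  have hKq : ∀ m, K m ≤ q ^ m := fun m => (hK m).trans (cnt_le q m hq)
  have hsum : ∑ d ∈ (Nat.divisors (Nat.gcd n (q - 1))).filter (fun d => 1 < d),
      (d ^ 2 - 1) * K (n / d) ≤ q ^ (n - 1) :=
    (Finset.sum_le_sum (fun d _ => Nat.mul_le_mul_left _ (hKq (n / d)))).trans
      (div_sum_le n q hn hq)
  obtain ⟨a, rfl⟩ : ∃ a, q = a + 1 := ⟨q - 1, by omega⟩
  have ha : 1 ≤ a := by omega
  simp only [Nat.add_sub_cancel] at H hsum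
  obtain ⟨m, rfl⟩ : ∃ m, n = m + 2 := ⟨n - 2, by omega⟩
  have e1 : m + 2 - 1 = m + 1 := by omega
  have e2 : m + 2 - 2 = m := by omega
  rw [e1] at hsum
  rw [e1, e2]
  set P := (a + 1) ^ m with hP
  have p1 : (a + 1) ^ (m + 1) = (a + 1) * P := by rw [hP]; ring
  have p2 : (a + 1) ^ (m + 2) = (a + 1) ^ 2 * P := by rw [hP]; ring
  have hn2 := hKq (m + 2)
  rw [p2] at hn2
  rw [p1] at hsum ⊢
  rcases Nat.lt_or_ge a 2 with h2 | h2
  · -- q = 2 : the divisor sum is empty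
    have ha1 : a = 1 := by omega
    subst ha1
    have hg : Nat.gcd (m + 2) 1 = 1 := Nat.gcd_one_right _
    rw [hg, slkn48_filt1] at H
    simp only [Finset.sum_empty, add_zero, one_mul] at H
    nlinarith
  · have h3 : a * k ≤ a * ((a + 1) * P + 3 * P) := by
      have hPpos : 0 ≤ P := Nat.zero_le _
      nlinarith
    exact Nat.le_of_mul_le_mul_left h3 (by omega)

/-- N8 -/
theorem num_all (n q k : ℕ) (K : ℕ → ℕ) (hn : 2 ≤ n) (hq : 2 ≤ q)
    (hK : ∀ m, K m ≤ cnt q m 1 m)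
    (H : (q - 1) * k ≤ K n +
      ∑ d ∈ (Nat.divisors (Nat.gcd n (q - 1))).filter (fun d => 1 < d), (d ^ 2 - 1) * K (n / d)) :
    2 * k ≤ 5 * q ^ (n - 1) ∧ (3 ≤ n → k ≤ q ^ (n - 1) + 3 * q ^ (n - 2)) := by
  have key : 3 ≤ n → k ≤ q ^ (n - 1) + 3 * q ^ (n - 2) := by
    intro h3
    rcases Nat.lt_or_ge n 5 with h5 | h5
    · interval_cases n
      · exact num_three q k K hq hK H
      · exact num_four q k K hq hK H
    · exact num_big n q k K h5 hq hK H
  refine ⟨?_, key⟩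
  rcases Nat.lt_or_ge n 3 with h3 | h3
  · have : n = 2 := by omega
    subst this
    exact num_two q k K hq hK H
  · have hk := key h3
    obtain ⟨m, rfl⟩ : ∃ m, n = m + 2 := ⟨n - 2, by omega⟩
    have e1 : m + 2 - 1 = m + 1 := by omega
    have e2 : m + 2 - 2 = m := by omega
    rw [e1, e2] at hk
    rw [e1]
    have p1 : q ^ (m + 1) = q * q ^ m := by ring
    rw [p1] at hk ⊢
    have hPpos : 0 ≤ q ^ m := Nat.zero_le _
    nlinarith

end Cfsg.Agent.Lib.Helper1.SLK
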