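import Mathlib
import Cfsg.Prelude.Def_Characters
import Cfsg.Agent.Lib.helper7.PM2.Defs

/-!
# Project PM2 (S4705), piece REG : `pow_reg`
-/

set_option autoImplicit false
set_option linter.unusedVariables false
set_option linter.unusedSectionVars false

namespace Cfsg.Agent.Lib.helper7.PM2

open scoped ComplexConjugate

universe u

/-- generic form: in a finite group whose order is divisible by the prime `p`, the order of a `p`-regular
element divides `|G| / p` -/
theorem pm2reg_orderOf_dvd {G : Type u} [Group G] [Fintype G] {p : ℕ} (hp : p.Prime)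
    (hpn : p ∣ Nat.card G) (z : G) (hz : ¬ p ∣ orderOf z) : orderOf z ∣ Nat.card G / p := by
  have h1 : orderOf z ∣ Nat.card G := orderOf_dvd_natCard z
  have hcop : Nat.Coprime (orderOf z) p := ((Nat.Prime.coprime_iff_not_dvd hp).mpr hz).symm
  have h2 : Nat.card G = p * (Nat.card G / p) := (Nat.mul_div_cancel' hpn).symm
  rw [h2] at h1
  exact hcop.dvd_of_dvd_mul_left h1

/-- generic form of REG -/
theorem pm2reg_core {G : Type u} [Group G] [Fintype G] {p : ℕ} (hp : p.Prime)
    (hpn : p ∣ Nat.card G) (z : G) (hz : ¬ p ∣ orderOf z) (k κ : ℕ)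
    (h : k ≡ κ [MOD Nat.card G / p]) : z ^ k = z ^ κ := by
  rw [pow_eq_pow_iff_modEq]
  exact h.of_dvd (pm2reg_orderOf_dvd hp hpn z hz)

section setting

variable {G : Type u} [Group G] [Fintype G] {p : ℕ} {ζ : G → ℂ} {x : G} {ω : ℂ}

/-- `p` divides the group order in the setting -/
theorem pm2reg_p_dvd (S : Setting p ζ x ω) : p ∣ Nat.card G := by
  rw [← S.ordx]
  exact orderOf_dvd_natCard x

/-- REG : on `p`-regular elements only `k mod |G|/p` matters -/
theorem pow_reg (S : Setting p ζ x ω) (z : G) (hz : ¬ p ∣ orderOf z) (k κ : ℕ)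
    (h : k ≡ κ [MOD Nat.card G / p]) : z ^ k = z ^ κ :=
  pm2reg_core S.hp (pm2reg_p_dvd S) z hz k κ h

end setting

end Cfsg.Agent.Lib.helper7.PM2
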