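import Mathlib
import Cfsg.Prelude.Def_Characters
import Cfsg.Agent.Lib.helper7.PM2.Defs
import Cfsg.Agent.Lib.helper2.CharNat
import Cfsg.Agent.Lib.helper7.CharTools
import Cfsg.Agent.Lib.Helper20.PM2SQ
import Cfsg.Agent.Lib.Helper18.PM2REG

/-!
# Project PM2 (S4705), piece DECA : core form `pm2deca_core` (lower statements as hypotheses)
-/

set_option autoImplicit false
set_option linter.unusedVariables false
set_option linter.unusedSectionVars false

namespace Cfsg.Agent.Lib.helper7.PM2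

open scoped ComplexConjugate

universe u

section setting

variable {G : Type u} [Group G] [Fintype G] {p : ℕ} {ζ : G → ℂ} {x : G} {ω : ℂ}

/-- split of a sum over the group into `p`-singular and `p`-regular part -/
theorem pm2deca_split (p : ℕ) (F : G → ℂ) :
    ∑ g : G, F g = ∑ g ∈ sing p G, F g + ∑ g ∈ reg p G, F g := by
  classical
  unfold sing reg
  exact (Finset.sum_filter_add_sum_filter_not Finset.univ (fun g => p ∣ orderOf g) F).symm

/-- the difference of the inner products with two power conjugates agreeing on the regular elements -/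
theorem pm2deca_diff (p : ℕ) (Ψ χ χ' : G → ℂ) (hreg : ∀ z : G, ¬ p ∣ orderOf z → χ z = χ' z) :
    (Nat.card G : ℂ) * (Cfsg.classInner Ψ χ - Cfsg.classInner Ψ χ') =
      ∑ g ∈ sing p G, Ψ g * conj (χ g) - ∑ g ∈ sing p G, Ψ g * conj (χ' g) := by
  classical
  have hne : (Nat.card G : ℂ) ≠ 0 := by exact_mod_cast Nat.card_pos.ne'
  unfold Cfsg.classInner
  rw [mul_sub, ← mul_assoc, ← mul_assoc, mul_inv_cancel₀ hne, one_mul, one_mul,
    pm2deca_split p (fun g => Ψ g * conj (χ g)), pm2deca_split p (fun g => Ψ g * conj (χ' g))]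
  have : ∑ g ∈ reg p G, Ψ g * conj (χ g) = ∑ g ∈ reg p G, Ψ g * conj (χ' g) := by
    refine Finset.sum_congr rfl fun g hg => ?_
    rw [hreg g ((mem_reg p g).mp hg)]
  rw [this]
  ring

/-- DECA, core form: the lower statements (SI2, POW, FAM, BAS3 `card_dvd`) as hypotheses -/
theorem pm2deca_core (S : Setting p ζ x ω) (κ : ℕ) (hκ : Nat.Coprime κ (Nat.card G / p))
    (hκ2 : κ ≡ 2 [MOD Nat.card (Subgroup.center G)])
    (hSI2 : ∀ k : ℕ, ¬ p ∣ k → k ≡ 2 [MOD Nat.card (Subgroup.center G)] →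
      ∑ g ∈ sing p G, altSq ζ g * conj (pw ζ k g) =
        (Nat.card G : ℂ) * (3 / (p : ℂ) - (if k ≡ 2 [MOD p] ∨ k + 2 ≡ 0 [MOD p] then 1 else 0)))
    (hPOW : ∀ k : ℕ, Nat.Coprime k (Nat.card G) → Cfsg.IsIrrCharacter G (pw ζ k))
    (hFAM : ∃ k : ℕ, Nat.Coprime k (Nat.card G) ∧ k ≡ 2 [MOD p] ∧ k ≡ κ [MOD Nat.card G / p])
    (hdvd : 2 * p * Nat.card (Subgroup.center G) ∣ Nat.card G) :
    ∃ A : ℕ, ∀ k : ℕ, Nat.Coprime k (Nat.card G) → k ≡ κ [MOD Nat.card G / p] →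
      Cfsg.classInner (altSq ζ) (pw ζ k) =
        (A : ℂ) + (if k ≡ 2 [MOD p] ∨ k + 2 ≡ 0 [MOD p] then 0 else 1) := by
  have hne : (Nat.card G : ℂ) ≠ 0 := by exact_mod_cast Nat.card_pos.ne'
  have hpn : p ∣ Nat.card G := pm2reg_p_dvd S
  have hp := S.hp
  -- `o ∣ n / p`
  have hoDvd : Nat.card (Subgroup.center G) ∣ Nat.card G / p := by
    obtain ⟨c, hc⟩ := hdvd
    have h1 : Nat.card G / p = 2 * Nat.card (Subgroup.center G) * c := by
      rw [hc]
      have : 2 * p * Nat.card (Subgroup.center G) * c = p * (2 * Nat.card (Subgroup.center G) * c) := by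
        ring
      rw [this, Nat.mul_div_cancel_left _ hp.pos]
    rw [h1]
    exact ⟨2 * c, by ring⟩
  have haltChar : Cfsg.IsCharacter G (altSq ζ) := pm2_altSq (h7_irr_isCharacter S.irr)
  -- general facts about admissible `k`
  have hkp : ∀ k : ℕ, Nat.Coprime k (Nat.card G) → ¬ p ∣ k := by
    intro k hk hpk
    have : p ∣ Nat.gcd k (Nat.card G) := Nat.dvd_gcd hpk hpn
    rw [hk] at this
    exact hp.one_lt.ne' (Nat.dvd_one.mp this)
  have hk2 : ∀ k : ℕ, k ≡ κ [MOD Nat.card G / p] → k ≡ 2 [MOD Nat.card (Subgroup.center G)] :=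
    fun k hk => (hk.of_dvd hoDvd).trans hκ2
  obtain ⟨k0, hk0c, hk0p, hk0κ⟩ := hFAM
  obtain ⟨A, hA⟩ := Cfsg.Agent.Lib.helper2.classInner_character_nat haltChar
    (h7_irr_isCharacter (hPOW k0 hk0c))
  refine ⟨A, fun k hk hkκ => ?_⟩
  have hreg : ∀ z : G, ¬ p ∣ orderOf z → pw ζ k z = pw ζ k0 z := by
    intro z hz
    rw [pw_apply, pw_apply, pow_reg S z hz k κ hkκ, pow_reg S z hz k0 κ hk0κ]
  have hdiff := pm2deca_diff p (altSq ζ) (pw ζ k) (pw ζ k0) hreg
  rw [hSI2 k (hkp k hk) (hk2 k hkκ), hSI2 k0 (hkp k0 hk0c) (hk2 k0 hk0κ), hA,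
    if_pos (Or.inl hk0p)] at hdiff
  have h3 : Cfsg.classInner (altSq ζ) (pw ζ k) - (A : ℂ) =
      1 - (if k ≡ 2 [MOD p] ∨ k + 2 ≡ 0 [MOD p] then (1 : ℂ) else 0) := by
    apply mul_left_cancel₀ hne
    rw [hdiff]
    ring
  by_cases hc : k ≡ 2 [MOD p] ∨ k + 2 ≡ 0 [MOD p]
  · rw [if_pos hc] at h3 ⊢
    linear_combination h3
  · rw [if_neg hc] at h3 ⊢
    linear_combination h3

end setting

end Cfsg.Agent.Lib.helper7.PM2
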