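import Mathlib
import Cfsg.Prelude.Def_TwoFusion
import Cfsg.Prelude.Def_Solvable
import Cfsg.Prelude.Def_Local
import Cfsg.Agent.Lib.Helper9.Isolated
import Cfsg.Agent.Lib.Helper18.PPrimeCore
import Cfsg.Agent.S1180
import Cfsg.Agent.S0208
import Cfsg.Agent.S0209

set_option autoImplicit false

namespace Cfsg.Agent.Lib.Helper18.ZStar

open Cfsg.Agent.Lib.Helper9 Cfsg.Agent.Lib.Helper18

variable {G : Type*} [Group G]

/-- An isolated involution of `G` lying in a subgroup `H` is isolated in `H`. -/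
theorem zs_isolated_subtype {x : G} (hx : Cfsg.IsIsolatedInvolution x) (H : Subgroup G)
    (hxH : x ∈ H) : Cfsg.IsIsolatedInvolution (⟨x, hxH⟩ : H) := by
  refine ⟨?_, ?_⟩
  · rw [← hx.1]
    exact Subgroup.orderOf_mk x hxH
  · intro g hg
    have h1 : Commute x ((g : G) * x * (g : G)⁻¹) := by
      have h0 := congrArg Subtype.val hg.eq
      show x * ((g : G) * x * (g : G)⁻¹) = (g : G) * x * (g : G)⁻¹ * x
      simpa using h0
    have h2 := hx.2 (g : G) h1
    apply Subtype.ext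
    simpa using h2

/-- `b * r^k = (r^k)⁻¹ * b` for involutions `a, b` and `r = a * b`. -/
theorem zs_invol_pow {a b : G} (ha : a * a = 1) (hb : b * b = 1) (k : ℕ) :
    b * (a * b) ^ k = ((a * b) ^ k)⁻¹ * b := by
  have hbi : b⁻¹ = b := inv_eq_of_mul_eq_one_right hb
  have hai : a⁻¹ = a := inv_eq_of_mul_eq_one_right ha
  induction k with
  | zero => simp
  | succ k ih =>
    have h1 : b * (a * b) = (a * b)⁻¹ * b := by
      rw [mul_inv_rev, hai, hbi]; group
    calc b * (a * b) ^ (k + 1) = b * (a * b) ^ k * (a * b) := by rw [pow_succ, mul_assoc]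
      _ = ((a * b) ^ k)⁻¹ * (b * (a * b)) := by rw [ih, mul_assoc]
      _ = ((a * b) ^ k)⁻¹ * ((a * b)⁻¹ * b) := by rw [h1]
      _ = ((a * b) ^ (k + 1))⁻¹ * b := by
        have e : ((a * b) ^ (k + 1))⁻¹ = ((a * b) ^ k)⁻¹ * (a * b)⁻¹ := by
          rw [pow_succ', mul_inv_rev]
        rw [e, mul_assoc]

/-- In the dihedral group generated by involutions `a, b`, the element `a * (a*b)^(2k+1)` is
conjugate to `b` by `((a*b)^k)⁻¹`. -/
theorem zs_dihedral_conj {a b : G} (ha : a * a = 1) (hb : b * b = 1) (k : ℕ) :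
    a * (a * b) ^ (2 * k + 1) = ((a * b) ^ k)⁻¹ * b * (((a * b) ^ k)⁻¹)⁻¹ := by
  have h1 := zs_invol_pow ha hb k
  have h2 : a * (a * b) ^ (2 * k + 1) = b * (a * b) ^ k * (a * b) ^ k := by
    rw [pow_succ', two_mul, pow_add, ← mul_assoc, ← mul_assoc, ← mul_assoc, ha, one_mul]
  rw [h2, h1, inv_inv]

/-- Fusion lemma: if `σ, σ₁` are conjugate and both commute with the isolated involution `x`,
then `x * σ` and `x * σ₁` are conjugate. -/
theorem zs_conj_mul_of_conj [Finite G] {x σ σ₁ : G} (hx : Cfsg.IsIsolatedInvolution x)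
    (hc : Commute x σ) (hc1 : Commute x σ₁) (hconj : IsConj σ σ₁) : IsConj (x * σ) (x * σ₁) := by
  obtain ⟨h, hh⟩ := isConj_iff.mp hconj
  have hxC : x ∈ Subgroup.centralizer ({σ} : Set G) := by
    rw [Subgroup.mem_centralizer_singleton_iff]
    exact hc.eq
  have hx1 : h⁻¹ * x * (h⁻¹)⁻¹ ∈ Subgroup.centralizer ({σ} : Set G) := by
    rw [Subgroup.mem_centralizer_singleton_iff, inv_inv]
    have e := hc1.eq
    rw [← hh] at e
    have e2 : h⁻¹ * (x * (h * σ * h⁻¹)) * h = h⁻¹ * (h * σ * h⁻¹ * x) * h := by rw [e]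
    calc h⁻¹ * x * h * σ = h⁻¹ * (x * (h * σ * h⁻¹)) * h := by group
      _ = h⁻¹ * (h * σ * h⁻¹ * x) * h := e2
      _ = σ * (h⁻¹ * x * h) := by group
  obtain ⟨c, hcH, hcx⟩ := Cfsg.Agent.S1180.result x hx _ hxC h⁻¹ hx1
  rw [Subgroup.mem_centralizer_singleton_iff] at hcH
  refine isConj_iff.mpr ⟨h * c, ?_⟩
  have e1 : h * (c * x * c⁻¹) * h⁻¹ = x := by rw [hcx]; group
  have e2 : c * σ * c⁻¹ = σ := by rw [hcH]; group
  calc h * c * (x * σ) * (h * c)⁻¹ = (h * (c * x * c⁻¹) * h⁻¹) * (h * (c * σ * c⁻¹) * h⁻¹) := by group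
    _ = x * σ₁ := by rw [e1, e2, hh]


/-- The inductive hypothesis on proper subgroups. -/
def ZsIH (G : Type*) [Group G] : Prop :=
  ∀ H : Subgroup G, H ≠ ⊤ → ∀ y : H, Cfsg.IsIsolatedInvolution y → ∀ g : H,
    y * g * y⁻¹ * g⁻¹ ∈ Cfsg.pPrimeCore 2 H

theorem zs_card_centralizerPPrimeCore [Finite G] (z : G) :
    (Nat.card (Cfsg.centralizerPPrimeCore 2 z)).Coprime 2 := by
  unfold Cfsg.centralizerPPrimeCore
  rw [Subgroup.card_map_of_injective (Subgroup.subtype_injective _)]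
  exact pPrimeCore_card_coprime_h18 2

/-- Key product lemma: for `a ~ x`, `b ~ σ` the product `a * b` is `z0 * ρ` with `z0 ~ x * σ` an
involution and `ρ ∈ O(C(z0))`. -/
theorem zs_key_product [Finite G] {x σ : G} (hx : Cfsg.IsIsolatedInvolution x)
    (hσ : orderOf σ = 2) (hc : Commute x σ) (hne : σ ≠ x)
    (hZ : ∀ z : G, orderOf z = 2 → z ∉ Subgroup.center G) (IH : ZsIH G)
    (a b : G) (ha : IsConj x a) (hb : IsConj σ b) :
    ∃ z0 ρ : G, orderOf z0 = 2 ∧ ρ ∈ Cfsg.centralizerPPrimeCore 2 z0 ∧ a * b = z0 * ρ ∧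
      IsConj (x * σ) z0 := by
  obtain ⟨g1, hg1⟩ := isConj_iff.mp ha
  obtain ⟨g2, hg2⟩ := isConj_iff.mp hb
  have haI : Cfsg.IsIsolatedInvolution a := by rw [← hg1]; exact isolated_conj hx g1
  have ha2 : orderOf a = 2 := haI.1
  have hb2 : orderOf b = 2 := by rw [← hg2]; exact conj_orderOf_two hσ g2
  have haa : a * a = 1 := mul_self_of_orderOf_two ha2
  have hbb : b * b = 1 := mul_self_of_orderOf_two hb2
  have hai : a⁻¹ = a := inv_eq_self_of_orderOf_two ha2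
  have hbi : b⁻¹ = b := inv_eq_self_of_orderOf_two hb2
  have hnc : ¬ IsConj a b := by
    intro h
    have h' : IsConj x σ := (ha.trans h).trans hb.symm
    obtain ⟨g, hg⟩ := isConj_iff.mp h'
    have h3 := hx.2 g (by rw [hg]; exact hc)
    exact hne (hg.symm.trans h3)
  have heven : Even (orderOf (a * b)) := by
    by_contra hodd
    rw [Nat.not_even_iff_odd] at hodd
    obtain ⟨d, _, hd⟩ := Cfsg.Agent.S0208.result a b ha2 hb2 hodd
    exact hnc (isConj_iff.mpr ⟨d, hd⟩)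
  obtain ⟨hz2, hza, hzb⟩ := Cfsg.Agent.S0209.result a b ha2 hb2 heven
  obtain ⟨m, hm⟩ := heven
  have hnm : orderOf (a * b) / 2 = m := by omega
  rw [hnm] at hz2 hza hzb
  have hHtop : Subgroup.centralizer ({(a * b) ^ m} : Set G) ≠ ⊤ := by
    intro h
    apply hZ _ hz2
    rw [Subgroup.mem_center_iff]
    intro g
    have h1 : g ∈ Subgroup.centralizer ({(a * b) ^ m} : Set G) := h ▸ Subgroup.mem_top g
    rw [Subgroup.mem_centralizer_singleton_iff] at h1
    exact h1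
  have haH : a ∈ Subgroup.centralizer ({(a * b) ^ m} : Set G) := by
    rw [Subgroup.mem_centralizer_singleton_iff]; exact hza.eq.symm
  have hbH : b ∈ Subgroup.centralizer ({(a * b) ^ m} : Set G) := by
    rw [Subgroup.mem_centralizer_singleton_iff]; exact hzb.eq.symm
  have hIH := IH _ hHtop ⟨a, haH⟩ (zs_isolated_subtype haI _ haH) ⟨b, hbH⟩
  have hmem : a * b * a⁻¹ * b⁻¹ ∈ Cfsg.centralizerPPrimeCore 2 ((a * b) ^ m) := by
    unfold Cfsg.centralizerPPrimeCore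
    exact ⟨_, hIH, by simp⟩
  have hr2 : (a * b) ^ 2 ∈ Cfsg.centralizerPPrimeCore 2 ((a * b) ^ m) := by
    have e : a * b * a⁻¹ * b⁻¹ = (a * b) ^ 2 := by rw [hai, hbi, pow_two, mul_assoc]
    rwa [e] at hmem
  have hOodd := zs_card_centralizerPPrimeCore ((a * b) ^ m)
  have hmodd : Odd m := by
    have h1 : ((a * b) ^ 2) ^ Nat.card (Cfsg.centralizerPPrimeCore 2 ((a * b) ^ m)) = 1 := by
      have h0 := pow_card_eq_one' (G := Cfsg.centralizerPPrimeCore 2 ((a * b) ^ m))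
        (x := ⟨(a * b) ^ 2, hr2⟩)
      have h00 := congrArg Subtype.val h0
      simpa only [SubmonoidClass.coe_pow, OneMemClass.coe_one] using h00
    rw [← pow_mul] at h1
    have h2 := orderOf_dvd_of_pow_eq_one h1
    rw [hm, ← two_mul] at h2
    have h3 : m ∣ Nat.card (Cfsg.centralizerPPrimeCore 2 ((a * b) ^ m)) :=
      Nat.dvd_of_mul_dvd_mul_left (by norm_num) h2
    have h4 : Odd (Nat.card (Cfsg.centralizerPPrimeCore 2 ((a * b) ^ m))) :=
      Nat.Coprime.odd_of_right hOodd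
    exact Odd.of_dvd_nat h4 h3
  obtain ⟨k, hk⟩ := hmodd
  refine ⟨(a * b) ^ m, (a * b) ^ (m + 1), hz2, ?_, ?_, ?_⟩
  · have e : (a * b) ^ (m + 1) = ((a * b) ^ 2) ^ (k + 1) := by
      rw [← pow_mul]; congr 1; omega
    rw [e]; exact Subgroup.pow_mem _ hr2 _
  · rw [← pow_add]
    have e : m + (m + 1) = orderOf (a * b) + 1 := by omega
    rw [e, pow_succ, pow_orderOf_eq_one, one_mul]
  · have hb'' : a * (a * b) ^ m = ((a * b) ^ k)⁻¹ * b * (((a * b) ^ k)⁻¹)⁻¹ := by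
      rw [hk]; exact zs_dihedral_conj haa hbb k
    have hz0 : (a * b) ^ m = a * (a * (a * b) ^ m) := by rw [← mul_assoc, haa, one_mul]
    have hxa : x = g1⁻¹ * a * g1 := by rw [← hg1]; group
    have h1 : g1⁻¹ * (a * b) ^ m * g1 = x * (g1⁻¹ * (a * (a * b) ^ m) * g1) := by
      rw [hxa]
      nth_rewrite 1 [hz0]
      group
    have hσ₁conj : IsConj σ (g1⁻¹ * (a * (a * b) ^ m) * g1) := by
      refine isConj_iff.mpr ⟨g1⁻¹ * ((a * b) ^ k)⁻¹ * g2, ?_⟩
      rw [hb'', ← hg2]; group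
    have hcomm1 : Commute x (g1⁻¹ * (a * (a * b) ^ m) * g1) := by
      have h0 : Commute a (a * (a * b) ^ m) := (Commute.refl a).mul_right hza.symm
      show x * (g1⁻¹ * (a * (a * b) ^ m) * g1) = g1⁻¹ * (a * (a * b) ^ m) * g1 * x
      rw [hxa]
      calc g1⁻¹ * a * g1 * (g1⁻¹ * (a * (a * b) ^ m) * g1)
          = g1⁻¹ * (a * (a * (a * b) ^ m)) * g1 := by group
        _ = g1⁻¹ * ((a * (a * b) ^ m) * a) * g1 := by rw [h0.eq]
        _ = g1⁻¹ * (a * (a * b) ^ m) * g1 * (g1⁻¹ * a * g1) := by group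
    have h2 := zs_conj_mul_of_conj hx hc hcomm1 hσ₁conj
    rw [← h1] at h2
    exact h2.trans (isConj_iff.mpr ⟨g1, by group⟩)

end Cfsg.Agent.Lib.Helper18.ZStar
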