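import Mathlib
import Cfsg.Agent.Lib.Helper18.ZStarGroup
import Cfsg.Agent.Lib.helper2.PModular2
import Cfsg.Agent.Lib.Helper25.Gagola
import Cfsg.Agent.Lib.helper7.BlockEval
import Cfsg.Agent.S0942
import Cfsg.Agent.S0943
import Cfsg.Agent.S0907
import Cfsg.Agent.S0925

set_option autoImplicit false

namespace Cfsg.Agent.Lib.Helper18.ZStar

open Cfsg.Agent.Lib.Helper9 Cfsg.Agent.Lib.Helper25 Cfsg.Agent.Lib.helper7 Cfsg.Agent.Lib.helper2
open scoped ComplexConjugate

variable {G : Type*} [Group G] [Finite G]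

theorem zs_triv_mem (M : Ideal Cfsg.AlgInt) (hMp : M.IsPrime) :
    trivIrr G ∈ Cfsg.principalBlock M G := by
  show Cfsg.SameBlock M (fun _ : G => (1 : ℂ)) ((trivIrr G : Cfsg.IrrCharacter G) : G → ℂ)
  intro g
  have e : Cfsg.centralChar (fun _ : G => (1 : ℂ)) g
      - Cfsg.centralChar ((trivIrr G : Cfsg.IrrCharacter G) : G → ℂ) g = 0 := sub_self _
  rw [e]
  exact h7_memLocalIdeal_zero hMp

/-- An irreducible character with `x` in its kernel, where the normal closure of `x` is everything,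
is trivial. -/
theorem zs_eq_triv_of_mem_ker {x : G} (hgen : Subgroup.normalClosure ({x} : Set G) = ⊤)
    (χ : Cfsg.IrrCharacter G) (h : (χ : G → ℂ) x = (χ : G → ℂ) 1) : χ = trivIrr G := by
  classical
  have := Fintype.ofFinite G
  have hx : x ∈ irrKer χ := (mem_irrKer χ x).2 h
  have hle : Subgroup.normalClosure ({x} : Set G) ≤ irrKer χ :=
    Subgroup.normalClosure_le_normal (by simpa using hx)
  rw [hgen] at hle
  have hall : ∀ g : G, (χ : G → ℂ) g = (χ : G → ℂ) 1 := fun g =>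
    (mem_irrKer χ g).1 (hle (Subgroup.mem_top g))
  have h1 := irr_classInner χ (trivIrr G)
  by_contra hne
  rw [if_neg hne] at h1
  unfold Cfsg.classInner at h1
  simp only [hall, trivIrr_apply, map_one, mul_one, Finset.sum_const, Finset.card_univ,
    nsmul_eq_mul] at h1
  rw [← Nat.card_eq_fintype_card, ← mul_assoc, inv_mul_cancel₀, one_mul] at h1
  · exact irr_one_ne_zero χ h1
  · exact_mod_cast Nat.card_pos.ne'

/-- The character-theoretic heart of the `Z*`-theorem: a second involution in `C(x)` is impossible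
in a minimal configuration. -/
theorem zs_char_contra {x σ : G} (hx : Cfsg.IsIsolatedInvolution x)
    (hσ : orderOf σ = 2) (hc : Commute x σ) (hne : σ ≠ x)
    (hZ : ∀ z : G, orderOf z = 2 → z ∉ Subgroup.center G) (IH : ZsIH G)
    (hgen : Subgroup.normalClosure ({x} : Set G) = ⊤) : False := by
  classical
  have : Fact (Nat.Prime 2) := ⟨Nat.prime_two⟩
  obtain ⟨M, hM⟩ := exists_isPModular 2 Nat.prime_two
  have hMp : M.IsPrime := hM.2.1.isPrime
  have hB : Cfsg.IsPBlock M (Cfsg.principalBlock M G) := ⟨trivIrr G, rfl⟩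
  have key : ∀ σ' : G, orderOf σ' = 2 → Commute x σ' → σ' ≠ x →
      ∀ χ ∈ Cfsg.principalBlock M G,
        (χ : G → ℂ) x * (χ : G → ℂ) σ' = (χ : G → ℂ) 1 * (χ : G → ℂ) (x * σ') := by
    intro σ' h1 h2 h3 χ hχ
    apply Cfsg.Agent.S0943.result χ x σ'
    intro a b ha hb
    obtain ⟨z0, ρ, hz0, hρ, hab, hconj⟩ := zs_key_product hx h1 h2 h3 hZ IH a b ha hb
    rw [hab, Cfsg.Agent.S0942.result 2 M hM z0 ⟨1, by rw [hz0, pow_one]⟩ ρ hρ χ hχ]
    exact (irr_isConj_eq χ hconj).symm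
  have hxx : x * x = 1 := mul_self_of_orderOf_two hx.1
  have hσσ : σ * σ = 1 := mul_self_of_orderOf_two hσ
  have hσ1 : σ ≠ 1 := ne_one_of_orderOf_two hσ
  have hxσ2 : orderOf (x * σ) = 2 := by
    apply orderOf_eq_prime
    · rw [pow_two]
      calc x * σ * (x * σ) = x * (σ * x) * σ := by group
        _ = x * (x * σ) * σ := by rw [hc.eq]
        _ = (x * x) * (σ * σ) := by group
        _ = 1 := by rw [hxx, hσσ, one_mul]
    · intro h
      apply hne
      have h2 : σ = x⁻¹ := eq_inv_of_mul_eq_one_right h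
      rw [h2, inv_eq_self_of_orderOf_two hx.1]
  have hcxσ : Commute x (x * σ) := (Commute.refl x).mul_right hc
  have hxσne : x * σ ≠ x := by
    intro h
    apply hσ1
    have : x * σ = x * 1 := by rw [h, mul_one]
    exact mul_left_cancel this
  have k1 := key σ hσ hc hne
  have k2 := key (x * σ) hxσ2 hcxσ hxσne
  have e : x * (x * σ) = σ := by rw [← mul_assoc, hxx, one_mul]
  rw [e] at k2
  have hσi : σ⁻¹ = σ := inv_eq_self_of_orderOf_two hσ
  have hreal : ∀ χ : Cfsg.IrrCharacter G, conj ((χ : G → ℂ) σ) = (χ : G → ℂ) σ := by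
    intro χ
    rw [← irr_inv, hσi]
  have hnotconj : ¬ IsConj x σ := by
    intro h
    obtain ⟨g, hg⟩ := isConj_iff.mp h
    have h3 := hx.2 g (by rw [hg]; exact hc)
    exact hne (hg.symm.trans h3)
  have O1 := Cfsg.Agent.S0907.result 2 M hM _ hB (1 : G) σ (by rw [orderOf_one]; norm_num)
    (by rw [hσ])
  have hpx : Cfsg.IsPPart 2 x x :=
    ⟨1, mul_one x, Commute.one_right x, ⟨1, by rw [hx.1, pow_one]⟩, by rw [orderOf_one]; norm_num⟩
  have hpσ : Cfsg.IsPPart 2 σ σ :=
    ⟨1, mul_one σ, Commute.one_right σ, ⟨1, by rw [hσ, pow_one]⟩, by rw [orderOf_one]; norm_num⟩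
  have O2 := (Cfsg.Agent.S0925.result 2 M hM).2 x σ x σ hpx hpσ hnotconj _ hB
  have hsum : ∑ᶠ χ ∈ Cfsg.principalBlock M G,
      (((χ : G → ℂ) 1 + (χ : G → ℂ) x) * (χ : G → ℂ) σ) = 0 := by
    have h1 : ∑ᶠ χ ∈ Cfsg.principalBlock M G,
        (((χ : G → ℂ) 1 + (χ : G → ℂ) x) * (χ : G → ℂ) σ) =
        ∑ᶠ χ ∈ Cfsg.principalBlock M G, ((χ : G → ℂ) 1 * conj ((χ : G → ℂ) σ)
          + (χ : G → ℂ) x * (χ : G → ℂ) σ⁻¹) := by
      apply finsum_mem_congr rfl
      intro χ _
      rw [hreal, hσi]; ring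
    rw [h1, finsum_mem_add_distrib (Set.toFinite _), O1, O2, add_zero]
  rw [finsum_mem_def, finsum_eq_single _ (trivIrr G)] at hsum
  · rw [Set.indicator_of_mem (zs_triv_mem M hMp)] at hsum
    simp only [trivIrr_apply] at hsum
    norm_num at hsum
  · intro χ hχne
    by_cases hχB : χ ∈ Cfsg.principalBlock M G
    · rw [Set.indicator_of_mem hχB]
      by_cases h0 : (χ : G → ℂ) σ = 0
      · rw [h0, mul_zero]
      · have h5 : ((χ : G → ℂ) x - (χ : G → ℂ) 1) * ((χ : G → ℂ) x + (χ : G → ℂ) 1) = 0 := by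
          have h6 := k1 χ hχB
          have h7 := k2 χ hχB
          have h8 : (((χ : G → ℂ) x - (χ : G → ℂ) 1) * ((χ : G → ℂ) x + (χ : G → ℂ) 1))
              * (χ : G → ℂ) σ = 0 := by
            linear_combination (χ : G → ℂ) x * h6 + (χ : G → ℂ) 1 * h7
          exact (mul_eq_zero.mp h8).resolve_right h0
        rcases mul_eq_zero.mp h5 with h9 | h9
        · exact absurd (zs_eq_triv_of_mem_ker hgen χ (sub_eq_zero.mp h9)) hχne
        · rw [add_comm, h9, zero_mul]
    · rw [Set.indicator_of_notMem hχB]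

end Cfsg.Agent.Lib.Helper18.ZStar
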