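import Mathlib
import Cfsg.Agent.Lib.Helper18.ZStarChar
import Cfsg.Agent.Lib.Helper1.PLength
import Cfsg.Agent.Lib.Helper24.SelfCentCore
import Cfsg.Agent.Lib.Helper1.TwoGroupUnique
import Cfsg.Agent.S1181
import Cfsg.Agent.S0219
import Cfsg.Agent.Lib.Helper18.Isolated

set_option autoImplicit false

namespace Cfsg.Agent.Lib.Helper18.ZStar

open Cfsg.Agent.Lib.Helper9 Cfsg.Agent.Lib.Helper18

variable {G : Type*} [Group G]

theorem zs_comm_eq_mul_conj {x : G} (hx : orderOf x = 2) (g : G) :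
    x * g * x⁻¹ * g⁻¹ = x * (g * x * g⁻¹) := by
  rw [inv_eq_self_of_orderOf_two hx]; group

theorem zs_comm_eq_one_of_conj_eq {x : G} (hx : orderOf x = 2) (g : G) (h : g * x * g⁻¹ = x) :
    x * g * x⁻¹ * g⁻¹ = 1 := by
  rw [zs_comm_eq_mul_conj hx, h, mul_self_of_orderOf_two hx]

theorem zs_not_mem_of_odd [Finite G] {x : G} (hx : orderOf x = 2) (N : Subgroup G)
    (hN : (Nat.card N).Coprime 2) : x ∉ N := by
  intro h
  have h1 : orderOf (⟨x, h⟩ : N) ∣ Nat.card N := orderOf_dvd_natCard _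
  rw [Subgroup.orderOf_mk, hx] at h1
  have h2 : (2 : ℕ) ∣ Nat.gcd (Nat.card N) 2 := Nat.dvd_gcd h1 dvd_rfl
  rw [hN] at h2
  omega

/-- Lemma A: reduce to the quotient by the odd core. -/
theorem zs_of_quotient [Finite G] {x : G} (hx : Cfsg.IsIsolatedInvolution x)
    (hq : haveI := pPrimeCore_normal_h18 2 G
      ∀ y : G ⧸ Cfsg.pPrimeCore 2 G, Cfsg.IsIsolatedInvolution y → ∀ g,
      y * g * y⁻¹ * g⁻¹ ∈ Cfsg.pPrimeCore 2 (G ⧸ Cfsg.pPrimeCore 2 G)) (g : G) :
    x * g * x⁻¹ * g⁻¹ ∈ Cfsg.pPrimeCore 2 G := by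
  haveI := pPrimeCore_normal_h18 2 G
  have hxN : x ∉ Cfsg.pPrimeCore 2 G :=
    zs_not_mem_of_odd hx.1 _ (pPrimeCore_card_coprime_h18 2)
  have h1 := (Cfsg.Agent.S1181.result x hx (Cfsg.pPrimeCore 2 G) hxN).2
  have h2 := hq _ h1 (QuotientGroup.mk g)
  have hbot := Cfsg.Agent.Lib.Helper1.pPrimeCore_quotient_eq_bot (G := G) 2
  rw [hbot, Subgroup.mem_bot] at h2
  have h3 : (QuotientGroup.mk (x * g * x⁻¹ * g⁻¹) : G ⧸ Cfsg.pPrimeCore 2 G) = 1 := by
    rw [← h2]; rfl
  exact (QuotientGroup.eq_one_iff _).mp h3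

theorem zs_pPrimeCore_subgroup_eq_bot [Finite G] (hO : Cfsg.pPrimeCore 2 G = ⊥) (N : Subgroup G)
    [N.Normal] : Cfsg.pPrimeCore 2 ↥N = ⊥ := by
  haveI : (Cfsg.pPrimeCore 2 ↥N).Characteristic :=
    Cfsg.Agent.Lib.Helper24.pPrimeCore_characteristic 2
  have h1 : ((Cfsg.pPrimeCore 2 ↥N).map N.subtype).Normal :=
    ConjAct.normal_of_characteristic_of_normal
  have h2 : (Nat.card ((Cfsg.pPrimeCore 2 ↥N).map N.subtype)).Coprime 2 := by
    rw [Subgroup.card_map_of_injective N.subtype_injective]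
    exact pPrimeCore_card_coprime_h18 2
  have h3 := le_pPrimeCore_h18 h1 h2
  rw [hO, le_bot_iff] at h3
  exact (Subgroup.map_eq_bot_iff_of_injective _ N.subtype_injective).mp h3

/-- Lemma B: reduce to the normal closure of `x`. -/
theorem zs_of_normalClosure [Finite G] {x : G} (hx : Cfsg.IsIsolatedInvolution x)
    (hO : Cfsg.pPrimeCore 2 G = ⊥)
    (hN : ∀ y : Subgroup.normalClosure ({x} : Set G), Cfsg.IsIsolatedInvolution y → ∀ g,
      y * g * y⁻¹ * g⁻¹ ∈ Cfsg.pPrimeCore 2 (Subgroup.normalClosure ({x} : Set G))) (g : G) :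
    x * g * x⁻¹ * g⁻¹ = 1 := by
  have hxN : x ∈ Subgroup.normalClosure ({x} : Set G) :=
    Subgroup.subset_normalClosure (Set.mem_singleton x)
  have hgN : g * x * g⁻¹ ∈ Subgroup.normalClosure ({x} : Set G) :=
    Subgroup.normalClosure_normal.conj_mem x hxN g
  have h1 := hN ⟨x, hxN⟩ (zs_isolated_subtype hx _ hxN) ⟨g * x * g⁻¹, hgN⟩
  rw [zs_pPrimeCore_subgroup_eq_bot hO, Subgroup.mem_bot] at h1
  have h2 := congrArg Subtype.val h1
  simp only [Subgroup.coe_mul, Subgroup.coe_inv, Subgroup.coe_one] at h2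
  -- x commutes with g x g⁻¹
  have hc : Commute x (g * x * g⁻¹) := by
    show x * (g * x * g⁻¹) = g * x * g⁻¹ * x
    have e : x * (g * x * g⁻¹) = (x * (g * x * g⁻¹) * x⁻¹ * (g * x * g⁻¹)⁻¹) * ((g * x * g⁻¹) * x) := by
      group
    rw [e, h2, one_mul]
  exact zs_comm_eq_one_of_conj_eq hx.1 g (hx.2 g hc)


theorem zs_zpowers_normal {z : G} (hzc : z ∈ Subgroup.center G) : (Subgroup.zpowers z).Normal := by
  constructor
  intro n hn g
  obtain ⟨k, rfl⟩ := Subgroup.mem_zpowers_iff.mp hn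
  have h1 : z ^ k ∈ Subgroup.center G := Subgroup.zpow_mem _ hzc k
  rw [Subgroup.mem_center_iff] at h1
  have h2 : g * z ^ k * g⁻¹ = z ^ k := by rw [h1 g]; group
  rw [h2]
  exact hn

/-- Lemma C: a central involution different from `x`. -/
theorem zs_of_central_involution [Finite G] {x z : G} (hx : Cfsg.IsIsolatedInvolution x)
    (hO : Cfsg.pPrimeCore 2 G = ⊥) (hzc : z ∈ Subgroup.center G) (hz2 : orderOf z = 2)
    (hzx : z ≠ x)
    (hq : haveI : (Subgroup.zpowers z).Normal := zs_zpowers_normal hzc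
      ∀ y : G ⧸ Subgroup.zpowers z, Cfsg.IsIsolatedInvolution y → ∀ g,
      y * g * y⁻¹ * g⁻¹ ∈ Cfsg.pPrimeCore 2 (G ⧸ Subgroup.zpowers z)) (g : G) :
    x * g * x⁻¹ * g⁻¹ = 1 := by
  haveI hNn : (Subgroup.zpowers z).Normal := zs_zpowers_normal hzc
  have hzz : z * z = 1 := mul_self_of_orderOf_two hz2
  have hxN : x ∉ Subgroup.zpowers z := by
    intro h
    obtain ⟨k, hk⟩ := Subgroup.mem_zpowers_iff.mp h
    rcases Int.even_or_odd' k with ⟨j, hj | hj⟩
    · rw [hj, zpow_mul, zpow_two, hzz, one_zpow] at hk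
      exact ne_one_of_orderOf_two hx.1 hk.symm
    · rw [hj, zpow_add, zpow_mul, zpow_two, hzz, one_zpow, one_mul, zpow_one] at hk
      exact hzx hk
  have hiso := (Cfsg.Agent.S1181.result x hx (Subgroup.zpowers z) hxN).2
  have h2 := hq _ hiso (QuotientGroup.mk g)
  have hN1n : ((Cfsg.pPrimeCore 2 (G ⧸ Subgroup.zpowers z)).comap
      (QuotientGroup.mk' (Subgroup.zpowers z))).Normal :=
    (pPrimeCore_normal_h18 2 (G ⧸ Subgroup.zpowers z)).comap _
  obtain ⟨N1, hN1⟩ : ∃ N1 : Subgroup G, N1 = (Cfsg.pPrimeCore 2 (G ⧸ Subgroup.zpowers z)).comap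
      (QuotientGroup.mk' (Subgroup.zpowers z)) := ⟨_, rfl⟩
  rw [← hN1] at hN1n
  have hcN1 : x * g * x⁻¹ * g⁻¹ ∈ N1 := by
    rw [hN1, Subgroup.mem_comap]
    exact h2
  have hcodd : Odd (orderOf (x * g * x⁻¹ * g⁻¹)) := by
    rw [zs_comm_eq_mul_conj hx.1]
    exact isolated_mul_conj_odd hx g
  have hNle : Subgroup.zpowers z ≤ N1 := by
    intro n hn
    rw [hN1, Subgroup.mem_comap]
    have h3 : QuotientGroup.mk' (Subgroup.zpowers z) n = 1 := (QuotientGroup.eq_one_iff n).mpr hn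
    rw [h3]
    exact Subgroup.one_mem _
  have hcard : Nat.card (Subgroup.zpowers z) *
      Nat.card (Cfsg.pPrimeCore 2 (G ⧸ Subgroup.zpowers z)) = Nat.card N1 := by
    have h3 := Cfsg.Agent.Lib.Helper1.card_map_mk'_of_le N1 (Subgroup.zpowers z) hNle
    rw [hN1, Subgroup.map_comap_eq_self_of_surjective
      (QuotientGroup.mk'_surjective (Subgroup.zpowers z))] at h3
    rw [hN1]
    exact h3
  have hN2 : Nat.card (Subgroup.zpowers z) = 2 := by rw [Nat.card_zpowers, hz2]
  have hObodd : (Nat.card (Cfsg.pPrimeCore 2 (G ⧸ Subgroup.zpowers z))).Coprime 2 :=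
    pPrimeCore_card_coprime_h18 2
  rw [hN2] at hcard
  have hev : Even (Nat.card N1) := by rw [← hcard]; exact even_two_mul _
  have hnd : ¬ 2 ∣ Nat.card (Cfsg.pPrimeCore 2 (G ⧸ Subgroup.zpowers z)) := by
    intro h
    have h3 : (2 : ℕ) ∣ Nat.gcd (Nat.card (Cfsg.pPrimeCore 2 (G ⧸ Subgroup.zpowers z))) 2 :=
      Nat.dvd_gcd h dvd_rfl
    rw [hObodd] at h3
    omega
  haveI : Fact (Nat.Prime 2) := ⟨Nat.prime_two⟩
  obtain ⟨T⟩ : Nonempty (Sylow 2 ↥N1) := inferInstance
  have hTcard : Nat.card (T : Subgroup ↥N1) = 2 := by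
    rw [Sylow.card_eq_multiplicity, ← hcard,
      Nat.factorization_mul two_ne_zero Nat.card_pos.ne', Finsupp.add_apply,
      Nat.prime_two.factorization_self, Nat.factorization_eq_zero_of_not_dvd hnd]
    norm_num
  have hTcyc : IsCyclic (T : Subgroup ↥N1) := isCyclic_of_prime_card (p := 2) hTcard
  obtain ⟨Q, hQ⟩ := Cfsg.Agent.S0219.result hev T hTcyc
  have hQcard : Nat.card Q * 2 = Nat.card N1 := by rw [← hQ]; exact Q.card_mul_index
  have hQodd : (Nat.card Q).Coprime 2 := by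
    have h3 : Nat.card Q = Nat.card (Cfsg.pPrimeCore 2 (G ⧸ Subgroup.zpowers z)) := by omega
    rw [h3]; exact hObodd
  have hoddQ : ∀ n : ↥N1, Odd (orderOf n) → n ∈ Q := by
    rintro n ⟨k, hk⟩
    have h3 : n ^ 2 ∈ Q := Subgroup.sq_mem_of_index_two hQ n
    have h4 : n = (n ^ 2) ^ (k + 1) := by
      rw [← pow_mul, show 2 * (k + 1) = orderOf n + 1 by omega, pow_succ, pow_orderOf_eq_one,
        one_mul]
    rw [h4]
    exact Q.pow_mem h3 _
  have hQelt : ∀ q : ↥N1, q ∈ Q → Odd (orderOf q) := by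
    intro q hq
    have h3 : orderOf (⟨q, hq⟩ : Q) ∣ Nat.card Q := orderOf_dvd_natCard _
    rw [Subgroup.orderOf_mk] at h3
    exact Odd.of_dvd_nat (Nat.Coprime.odd_of_right hQodd) h3
  have hQ'n : (Q.map N1.subtype).Normal := by
    constructor
    rintro q ⟨q0, hq0, rfl⟩ a
    have hmem : a * (q0 : G) * a⁻¹ ∈ N1 := hN1n.conj_mem _ q0.2 a
    refine ⟨⟨a * (q0 : G) * a⁻¹, hmem⟩, ?_, rfl⟩
    apply hoddQ
    rw [Subgroup.orderOf_mk, orderOf_conj_h18, Subgroup.orderOf_coe]
    exact hQelt q0 hq0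
  have hQ'odd : (Nat.card (Q.map N1.subtype)).Coprime 2 := by
    rw [Subgroup.card_map_of_injective N1.subtype_injective]; exact hQodd
  have hQ'bot : Q.map N1.subtype = ⊥ := by
    have h3 := le_pPrimeCore_h18 hQ'n hQ'odd
    rwa [hO, le_bot_iff] at h3
  have hcQ : (⟨_, hcN1⟩ : ↥N1) ∈ Q := hoddQ _ (by rw [Subgroup.orderOf_mk]; exact hcodd)
  have h5 : x * g * x⁻¹ * g⁻¹ ∈ Q.map N1.subtype := ⟨_, hcQ, rfl⟩
  rw [hQ'bot, Subgroup.mem_bot] at h5
  exact h5


/-- The Brauer--Suzuki hypothesis (the statement of S0201) for all finite groups in a universe. -/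
def BSHyp.{u} : Prop :=
  ∀ (H : Type u) [Group H] [Finite H] (S : Sylow 2 H) (n : ℕ),
    (↥(S : Subgroup H) ≃* QuaternionGroup (2 ^ (n + 1))) →
    (∀ N : Subgroup H, N.Normal → Odd (Nat.card N) → N = ⊥) → Nat.card (Subgroup.center H) = 2

/-- Burnside: with a cyclic Sylow `2`-subgroup every commutator lies in the odd core. -/
theorem zs_cyclic_sylow [Finite G] (T : Sylow 2 G) (hcyc : IsCyclic ↥(T : Subgroup G))
    (h2 : 2 ∣ Nat.card G) (x g : G) : x * g * x⁻¹ * g⁻¹ ∈ Cfsg.pPrimeCore 2 G := by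
  haveI : Fact (Nat.Prime 2) := ⟨Nat.prime_two⟩
  have hp : (Nat.card G).minFac = 2 := (Nat.minFac_eq_two_iff _).mpr h2
  have hNC := IsCyclic.normalizer_le_centralizer hp hcyc
  have hK : ¬ 2 ∣ Nat.card (MonoidHom.transferSylow T hNC).ker :=
    MonoidHom.not_dvd_card_ker_transferSylow T hNC
  have hKle : (MonoidHom.transferSylow T hNC).ker ≤ Cfsg.pPrimeCore 2 G := by
    apply le_pPrimeCore_h18 (MonoidHom.normal_ker _)
    exact ((Nat.Prime.coprime_iff_not_dvd Nat.prime_two).mpr hK).symm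
  apply hKle
  rw [MonoidHom.mem_ker]
  simp only [map_mul, map_inv]
  haveI := hcyc
  have hc : ∀ a b : ↥(T : Subgroup G), a * b = b * a := fun a b =>
    (IsCyclic.commutative (α := ↥(T : Subgroup G))).is_comm.comm a b
  rw [hc ((MonoidHom.transferSylow T hNC) x) ((MonoidHom.transferSylow T hNC) g)]
  group

/-- Lemma E: the case where `x` is the only involution of `C(x)`. -/
theorem zs_rank_one.{u} (hBS : BSHyp.{u}) {G : Type u} [Group G] [Finite G] {x : G}
    (hx : Cfsg.IsIsolatedInvolution x) (hO : Cfsg.pPrimeCore 2 G = ⊥)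
    (huniq : ∀ σ : G, orderOf σ = 2 → Commute x σ → σ = x) (g : G) :
    x * g * x⁻¹ * g⁻¹ ∈ Cfsg.pPrimeCore 2 G := by
  classical
  haveI : Fact (Nat.Prime 2) := ⟨Nat.prime_two⟩
  have hxp : IsPGroup 2 (Subgroup.zpowers x) :=
    isPGroup_zpowers_of_orderOf ⟨1, by rw [hx.1, pow_one]⟩
  obtain ⟨T, hT⟩ := hxp.exists_le_sylow
  have hxT : x ∈ (T : Subgroup G) := hT (Subgroup.mem_zpowers x)
  have h2G : 2 ∣ Nat.card G := by rw [← hx.1]; exact orderOf_dvd_natCard x
  have hTu : ∀ τ ∈ (T : Subgroup G), orderOf τ = 2 → τ = x := by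
    intro τ hτ hτ2
    apply huniq τ hτ2
    have hmem : x * (τ * x * τ⁻¹) ∈ (T : Subgroup G) :=
      Subgroup.mul_mem _ hxT (Subgroup.mul_mem _ (Subgroup.mul_mem _ hτ hxT) (Subgroup.inv_mem _ hτ))
    have hodd := isolated_mul_conj_odd hx τ
    obtain ⟨k, hk⟩ := T.isPGroup' ⟨_, hmem⟩
    have h1 : (x * (τ * x * τ⁻¹)) ^ 2 ^ k = 1 := by
      have h0 := congrArg Subtype.val hk
      simpa only [SubmonoidClass.coe_pow, OneMemClass.coe_one] using h0
    have h3 : orderOf (x * (τ * x * τ⁻¹)) ∣ 2 ^ k := orderOf_dvd_of_pow_eq_one h1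
    have h4 : orderOf (x * (τ * x * τ⁻¹)) = 1 :=
      Nat.Coprime.eq_one_of_dvd (Nat.Coprime.pow_right k (Nat.coprime_two_right.mpr hodd)) h3
    rw [orderOf_eq_one_iff] at h4
    have h5 : τ * x * τ⁻¹ = x := by
      have h6 : τ * x * τ⁻¹ = x⁻¹ := (eq_inv_of_mul_eq_one_right h4)
      rw [h6, inv_eq_self_of_orderOf_two hx.1]
    show x * τ = τ * x
    calc x * τ = (τ * x * τ⁻¹) * τ := by rw [h5]
      _ = τ * x := by group
  have hsub : ∀ H : Subgroup ↥(T : Subgroup G), Nat.card H = 2 →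
      H = Subgroup.zpowers (⟨x, hxT⟩ : ↥(T : Subgroup G)) := by
    intro H hH
    obtain ⟨h, hh⟩ := exists_prime_orderOf_dvd_card' (G := H) 2 (by rw [hH])
    have h1 : orderOf (((h : ↥(T : Subgroup G)) : G)) = 2 := by
      rw [Subgroup.orderOf_coe, Subgroup.orderOf_coe]; exact hh
    have h2 : (((h : ↥(T : Subgroup G)) : G)) = x := hTu _ (h : ↥(T : Subgroup G)).2 h1
    have h3 : (⟨x, hxT⟩ : ↥(T : Subgroup G)) ∈ H := by
      have h4 : (h : ↥(T : Subgroup G)) = ⟨x, hxT⟩ := Subtype.ext h2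
      rw [← h4]; exact h.2
    symm
    apply Subgroup.eq_of_le_of_card_ge (Subgroup.zpowers_le.mpr h3)
    rw [hH, Nat.card_zpowers, Subgroup.orderOf_mk, hx.1]
  rcases Cfsg.Agent.Lib.Helper1.cyclic_or_quaternion_of_unique (P := ↥(T : Subgroup G))
      T.isPGroup' (fun H K hH hK => (hsub H hH).trans (hsub K hK).symm) with hcyc | ⟨n, ⟨e⟩⟩
  · exact zs_cyclic_sylow T hcyc h2G x g
  · cases n with
    | zero =>
      have e' : ↥(T : Subgroup G) ≃* QuaternionGroup 1 := e
      haveI := QuaternionGroup.quaternionGroup_one_isCyclic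
      have hcyc : IsCyclic ↥(T : Subgroup G) :=
        isCyclic_of_surjective e'.symm e'.symm.surjective
      exact zs_cyclic_sylow T hcyc h2G x g
    | succ n =>
      have hO' : ∀ N : Subgroup G, N.Normal → Odd (Nat.card N) → N = ⊥ := by
        intro N hN hodd
        have h3 := le_pPrimeCore_h18 hN (Nat.coprime_two_right.mpr hodd)
        rwa [hO, le_bot_iff] at h3
      have hc := hBS G T n e hO'
      obtain ⟨z, hz⟩ := exists_prime_orderOf_dvd_card' (G := Subgroup.center G) 2 (by rw [hc])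
      have hz2 : orderOf (z : G) = 2 := by rw [Subgroup.orderOf_coe]; exact hz
      have hzc : (z : G) ∈ Subgroup.center G := z.2
      rw [Subgroup.mem_center_iff] at hzc
      have hzx : (z : G) = x := huniq _ hz2 (hzc x)
      have h5 : g * x * g⁻¹ = x := by
        rw [← hzx, hzc g]; group
      rw [zs_comm_eq_one_of_conj_eq hx.1 g h5]
      exact Subgroup.one_mem _


theorem zs_card_subgroup_lt [Finite G] (H : Subgroup G) (hH : H ≠ ⊤) : Nat.card H < Nat.card G :=
  lt_of_le_of_ne (Subgroup.card_le_card_group H) (fun h => hH (Subgroup.eq_top_of_card_eq H h))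

theorem zs_card_quotient_lt [Finite G] (N : Subgroup G) [N.Normal] (hN : N ≠ ⊥) :
    Nat.card (G ⧸ N) < Nat.card G := by
  have h1 := Subgroup.card_eq_card_quotient_mul_card_subgroup N
  have h2 : 1 < Nat.card N := (Subgroup.one_lt_card_iff_ne_bot (H := N)).mpr hN
  have h3 : 0 < Nat.card (G ⧸ N) := Nat.card_pos
  rw [h1]
  nlinarith

/-- Glauberman's `Z*`-theorem, assuming the Brauer--Suzuki theorem: an isolated involution is
central modulo the odd core. -/
theorem zs_main.{u} (hBS : BSHyp.{u}) : ∀ (n : ℕ) (G : Type u) [Group G] [Finite G],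
    Nat.card G = n → ∀ x : G, Cfsg.IsIsolatedInvolution x → ∀ g : G,
    x * g * x⁻¹ * g⁻¹ ∈ Cfsg.pPrimeCore 2 G := by
  intro n
  induction n using Nat.strong_induction_on with
  | _ n ih =>
  intro G _ _ hn x hx g
  by_cases hO : Cfsg.pPrimeCore 2 G = ⊥
  · suffices h : x * g * x⁻¹ * g⁻¹ = 1 by rw [h]; exact Subgroup.one_mem _
    by_cases hgen : Subgroup.normalClosure ({x} : Set G) = ⊤
    · by_cases hZ : ∃ z ∈ Subgroup.center G, orderOf z = 2
      · obtain ⟨z, hzc, hz2⟩ := hZ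
        by_cases hzx : z = x
        · rw [hzx, Subgroup.mem_center_iff] at hzc
          apply zs_comm_eq_one_of_conj_eq hx.1 g
          rw [hzc g]; group
        · haveI : (Subgroup.zpowers z).Normal := zs_zpowers_normal hzc
          have hne : Subgroup.zpowers z ≠ ⊥ := by
            intro h
            have h1 : z ∈ Subgroup.zpowers z := Subgroup.mem_zpowers z
            rw [h, Subgroup.mem_bot] at h1
            exact ne_one_of_orderOf_two hz2 h1
          exact zs_of_central_involution hx hO hzc hz2 hzx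
            (fun y hy g' => ih _ (hn ▸ zs_card_quotient_lt _ hne) (G ⧸ Subgroup.zpowers z) rfl y hy g') g
      · push Not at hZ
        have hZ' : ∀ z : G, orderOf z = 2 → z ∉ Subgroup.center G := fun z hz hzc => hZ z hzc hz
        have IH : ZsIH G := fun H hH y hy g' =>
          ih _ (hn ▸ zs_card_subgroup_lt H hH) ↥H rfl y hy g'
        by_cases hσ : ∃ σ : G, orderOf σ = 2 ∧ Commute x σ ∧ σ ≠ x
        · obtain ⟨σ, hσ2, hσc, hσne⟩ := hσ
          exact (zs_char_contra hx hσ2 hσc hσne hZ' IH hgen).elim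
        · push Not at hσ
          have h1 := zs_rank_one hBS hx hO hσ g
          rwa [hO, Subgroup.mem_bot] at h1
    · exact zs_of_normalClosure hx hO
        (fun y hy g' => ih _ (hn ▸ zs_card_subgroup_lt _ hgen) _ rfl y hy g') g
  · haveI := pPrimeCore_normal_h18 2 G
    exact zs_of_quotient hx
      (fun y hy g' => ih _ (hn ▸ zs_card_quotient_lt _ hO) (G ⧸ Cfsg.pPrimeCore 2 G) rfl y hy g') g

/-- The `Z*`-theorem in the shape of statement S0215, assuming Brauer--Suzuki. -/
theorem zstar_of_bs.{u} (hBS : BSHyp.{u}) {G : Type u} [Group G] [Finite G] (P : Sylow 2 G) (u : G)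
    (hu : orderOf u = 2) (huP : u ∈ P) (hiso : ∀ g : G, g * u * g⁻¹ ∈ P → g * u * g⁻¹ = u) :
    ∃ N : Subgroup G, N.Normal ∧ Odd (Nat.card N) ∧ ∀ g : G, (u * g * u⁻¹ * g⁻¹) ∈ N := by
  haveI : Fact (Nat.Prime 2) := ⟨Nat.prime_two⟩
  have hx : Cfsg.IsIsolatedInvolution u := by
    refine ⟨hu, ?_⟩
    intro g hg
    -- ⟨u, g u g⁻¹⟩ is a 2-group
    have hw2 : orderOf (g * u * g⁻¹) = 2 := conj_orderOf_two hu g
    have huu : u * u = 1 := mul_self_of_orderOf_two hu
    have hww : (g * u * g⁻¹) * (g * u * g⁻¹) = 1 := mul_self_of_orderOf_two hw2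
    have hp : IsPGroup 2 (Subgroup.closure ({u, g * u * g⁻¹} : Set G)) := by
      -- every element is u^i * w^j
      have hmem : ∀ y ∈ Subgroup.closure ({u, g * u * g⁻¹} : Set G),
          y = 1 ∨ y = u ∨ y = g * u * g⁻¹ ∨ y = u * (g * u * g⁻¹) := by
        intro y hy
        induction hy using Subgroup.closure_induction with
        | mem y hy =>
          rcases hy with hy | hy
          · right; left; exact hy
          · rw [Set.mem_singleton_iff] at hy; right; right; left; exact hy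
        | one => left; rfl
        | mul a b _ _ ha hb =>
          have e1 : (g * u * g⁻¹) * u = u * (g * u * g⁻¹) := hg.eq.symm
          rcases ha with ha | ha | ha | ha <;> rcases hb with hb | hb | hb | hb <;> rw [ha, hb]
          · left; simp
          · right; left; simp
          · right; right; left; simp
          · right; right; right; simp
          · right; left; simp
          · left; exact huu
          · right; right; right; rfl
          · right; right; left; rw [← mul_assoc, huu, one_mul]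
          · right; right; left; simp
          · right; right; right; exact e1
          · left; exact hww
          · right; left
            calc g * u * g⁻¹ * (u * (g * u * g⁻¹)) = (g * u * g⁻¹ * u) * (g * u * g⁻¹) := by group
              _ = u * ((g * u * g⁻¹) * (g * u * g⁻¹)) := by rw [e1]; group
              _ = u := by rw [hww, mul_one]
          · right; right; right; simp
          · right; right; left
            calc u * (g * u * g⁻¹) * u = u * ((g * u * g⁻¹) * u) := by group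
              _ = (u * u) * (g * u * g⁻¹) := by rw [e1]; group
              _ = g * u * g⁻¹ := by rw [huu, one_mul]
          · right; left
            calc u * (g * u * g⁻¹) * (g * u * g⁻¹) = u * ((g * u * g⁻¹) * (g * u * g⁻¹)) := by group
              _ = u := by rw [hww, mul_one]
          · left
            calc u * (g * u * g⁻¹) * (u * (g * u * g⁻¹))
                = u * ((g * u * g⁻¹) * u) * (g * u * g⁻¹) := by group
              _ = (u * u) * ((g * u * g⁻¹) * (g * u * g⁻¹)) := by rw [e1]; group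
              _ = 1 := by rw [huu, hww, one_mul]
        | inv a _ ha =>
          rcases ha with ha | ha | ha | ha <;> rw [ha]
          · left; simp
          · right; left; exact inv_eq_self_of_orderOf_two hu
          · right; right; left; exact inv_eq_self_of_orderOf_two hw2
          · right; right; right
            rw [mul_inv_rev, inv_eq_self_of_orderOf_two hu, inv_eq_self_of_orderOf_two hw2]
            exact hg.eq.symm
      rintro ⟨y, hy⟩
      refine ⟨1, Subtype.ext ?_⟩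
      simp only [pow_one, SubmonoidClass.coe_pow, OneMemClass.coe_one]
      rcases hmem y hy with hy' | hy' | hy' | hy' <;> rw [hy']
      · simp
      · rw [pow_two]; exact huu
      · rw [pow_two]; exact hww
      · rw [pow_two]
        calc u * (g * u * g⁻¹) * (u * (g * u * g⁻¹))
            = u * ((g * u * g⁻¹) * u) * (g * u * g⁻¹) := by group
          _ = (u * u) * ((g * u * g⁻¹) * (g * u * g⁻¹)) := by rw [hg.eq.symm]; group
          _ = 1 := by rw [huu, hww, one_mul]
    obtain ⟨Q, hQ⟩ := hp.exists_le_sylow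
    obtain ⟨h, hh⟩ := MulAction.exists_smul_eq G Q P
    -- h • Q = P, so h u h⁻¹ ∈ P and h (g u g⁻¹) h⁻¹ ∈ P
    have huQ : u ∈ (Q : Subgroup G) := hQ (Subgroup.subset_closure (by simp))
    have hwQ : g * u * g⁻¹ ∈ (Q : Subgroup G) := hQ (Subgroup.subset_closure (by simp))
    have hconjP : ∀ y ∈ (Q : Subgroup G), h * y * h⁻¹ ∈ (P : Subgroup G) := by
      intro y hy
      rw [← hh, Sylow.coe_subgroup_smul, Subgroup.mem_pointwise_smul_iff_inv_smul_mem]
      simpa [MulAut.smul_def, mul_assoc] using hy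
    have h1 := hiso h (hconjP u huQ)
    have h2 := hiso (h * g) (by
      have h3 := hconjP _ hwQ
      have e : h * g * u * (h * g)⁻¹ = h * (g * u * g⁻¹) * h⁻¹ := by group
      rw [e]; exact h3)
    have e : h * g * u * (h * g)⁻¹ = h * (g * u * g⁻¹) * h⁻¹ := by group
    have h5 : h * (g * u * g⁻¹) * h⁻¹ = h * u * h⁻¹ := by rw [← e, h2, h1]
    have h4 : h⁻¹ * (h * (g * u * g⁻¹) * h⁻¹) * h = h⁻¹ * (h * u * h⁻¹) * h := by rw [h5]
    calc g * u * g⁻¹ = h⁻¹ * (h * (g * u * g⁻¹) * h⁻¹) * h := by group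
      _ = h⁻¹ * (h * u * h⁻¹) * h := h4
      _ = u := by group
  refine ⟨Cfsg.pPrimeCore 2 G, pPrimeCore_normal_h18 2 G,
    Nat.Coprime.odd_of_right (pPrimeCore_card_coprime_h18 2), ?_⟩
  intro g
  exact zs_main hBS _ G rfl u hx g

end Cfsg.Agent.Lib.Helper18.ZStar
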