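import Mathlib
import Cfsg.Agent.Lib.Helper18.ZStarMain
import Cfsg.Agent.Lib.Helper18.SylowIn
import Cfsg.Agent.Lib.Helper1.Fusion

set_option autoImplicit false

namespace Cfsg.Agent.Lib.Helper18.ZStar

open Cfsg.Agent.Lib.Helper9 Cfsg.Agent.Lib.Helper18 Cfsg.Agent.Lib.Helper1
open scoped Pointwise

variable {G : Type*} [Group G]

/-- A finite cyclic group has at most one element of order two. -/
theorem zs_cyclic_invol_unique {A : Type*} [Group A] [Finite A] [IsCyclic A] {a b : A}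
    (ha : orderOf a = 2) (hb : orderOf b = 2) : a = b := by
  classical
  haveI := Fintype.ofFinite A
  have hd : 2 ∣ Fintype.card A := by rw [← ha]; exact orderOf_dvd_card
  have h1 := IsCyclic.card_orderOf_eq_totient (α := A) hd
  rw [Nat.totient_two] at h1
  have h2 := Finset.card_le_one.mp (le_of_eq h1)
  exact h2 a (by simp [ha]) b (by simp [hb])

/-- Burnside's fusion lemma for central elements of a Sylow subgroup. -/
theorem zs_burnside_elt [Finite G] (U : Sylow 2 G) {x y : G}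
    (hx : ∀ s ∈ (U : Subgroup G), s * x = x * s) (hy : ∀ s ∈ (U : Subgroup G), s * y = y * s)
    (g : G) (hg : g * x * g⁻¹ = y) :
    ∃ n ∈ Subgroup.normalizer ((U : Subgroup G) : Set G), n * x * n⁻¹ = y := by
  haveI : Fact (Nat.Prime 2) := ⟨Nat.prime_two⟩
  have hU : (U : Subgroup G) ≤ Subgroup.centralizer ({y} : Set G) := by
    intro s hs
    rw [Subgroup.mem_centralizer_singleton_iff]
    exact hy s hs
  have hgU : ((g • U : Sylow 2 G) : Subgroup G) ≤ Subgroup.centralizer ({y} : Set G) := by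
    intro s hs
    have hs' : g⁻¹ * s * g ∈ (U : Subgroup G) := (mem_sylow_smul_iff g s U).mp hs
    rw [Subgroup.mem_centralizer_singleton_iff, ← hg]
    have h1 := hx _ hs'
    calc s * (g * x * g⁻¹) = g * ((g⁻¹ * s * g) * x) * g⁻¹ := by group
      _ = g * (x * (g⁻¹ * s * g)) * g⁻¹ := by rw [h1]
      _ = g * x * g⁻¹ * s := by group
  obtain ⟨k, hk, hkU⟩ := exists_mem_smul_eq_of_le U (g • U) _ hU hgU
  rw [← mul_smul] at hkU
  refine ⟨k * g, Sylow.smul_eq_iff_mem_normalizer.mp hkU, ?_⟩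
  rw [Subgroup.mem_centralizer_singleton_iff] at hk
  calc k * g * x * (k * g)⁻¹ = k * (g * x * g⁻¹) * k⁻¹ := by group
    _ = k * y * k⁻¹ := by rw [hg]
    _ = y := by rw [hk]; group

/-- Under the hypothesis that intersections of distinct Sylow `2`-subgroups are central in some
Sylow `2`-subgroup, an element of `S` fixed by `N_G(S)` has no other conjugate in `S`. -/
theorem zs_ci_isolated [Finite G]
    (hCI : ∀ S T : Sylow 2 G, S ≠ T → ∃ U : Sylow 2 G,
      (S : Subgroup G) ⊓ (T : Subgroup G) ≤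
        (Subgroup.center ↥(U : Subgroup G)).map (U : Subgroup G).subtype)
    (S : Sylow 2 G) (c₀ : G) (hcS : c₀ ∈ (S : Subgroup G))
    (hinv : ∀ n ∈ Subgroup.normalizer ((S : Subgroup G) : Set G), n * c₀ * n⁻¹ = c₀) :
    ∀ g : G, g * c₀ * g⁻¹ ∈ (S : Subgroup G) → g * c₀ * g⁻¹ = c₀ := by
  haveI : Fact (Nat.Prime 2) := ⟨Nat.prime_two⟩
  intro g hxS
  -- c₀ is central in S
  have hcZ : ∀ s ∈ (S : Subgroup G), s * c₀ = c₀ * s := by
    intro s hs
    have h1 := hinv s (Subgroup.le_normalizer hs)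
    calc s * c₀ = (s * c₀ * s⁻¹) * s := by group
      _ = c₀ * s := by rw [h1]
  obtain ⟨x, hx⟩ : ∃ x, x = g * c₀ * g⁻¹ := ⟨_, rfl⟩
  rw [← hx] at hxS ⊢
  -- x is central in g • S
  have hxZ : ∀ s ∈ ((g • S : Sylow 2 G) : Subgroup G), s * x = x * s := by
    intro s hs
    have hs' : g⁻¹ * s * g ∈ (S : Subgroup G) := (mem_sylow_smul_iff g s S).mp hs
    have h1 := hcZ _ hs'
    rw [hx]
    calc s * (g * c₀ * g⁻¹) = g * ((g⁻¹ * s * g) * c₀) * g⁻¹ := by group
      _ = g * (c₀ * (g⁻¹ * s * g)) * g⁻¹ := by rw [h1]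
      _ = g * c₀ * g⁻¹ * s := by group
  have hgSK : ((g • S : Sylow 2 G) : Subgroup G) ≤ Subgroup.centralizer ({x} : Set G) := by
    intro s hs
    rw [Subgroup.mem_centralizer_singleton_iff]
    exact hxZ s hs
  have hsyl : IsSylowIn 2 ((g • S : Sylow 2 G) : Subgroup G) (Subgroup.centralizer ({x} : Set G)) :=
    isSylowIn_of_sylow_le (g • S) hgSK
  have hDp : IsPGroup 2 ↥((S : Subgroup G) ⊓ Subgroup.centralizer ({x} : Set G)) :=
    S.isPGroup'.to_le inf_le_left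
  obtain ⟨k, hk, hkD⟩ := hsyl.exists_conj_le (inf_le_right) hDp
  rw [Subgroup.mem_centralizer_singleton_iff] at hk
  -- h := k⁻¹ * g
  have hD : (S : Subgroup G) ⊓ Subgroup.centralizer ({x} : Set G) ≤
      (((k⁻¹ * g) • S : Sylow 2 G) : Subgroup G) := by
    intro d hd
    have h1 : k * d * k⁻¹ ∈ ((g • S : Sylow 2 G) : Subgroup G) := hkD (conj_mem_conjSub hd)
    have h2 : g⁻¹ * (k * d * k⁻¹) * g ∈ (S : Subgroup G) := (mem_sylow_smul_iff g _ S).mp h1
    apply (mem_sylow_smul_iff (k⁻¹ * g) d S).mpr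
    have e : (k⁻¹ * g)⁻¹ * d * (k⁻¹ * g) = g⁻¹ * (k * d * k⁻¹) * g := by group
    rw [e]; exact h2
  have hhx : (k⁻¹ * g) * c₀ * (k⁻¹ * g)⁻¹ = x := by
    have e : (k⁻¹ * g) * c₀ * (k⁻¹ * g)⁻¹ = k⁻¹ * (g * c₀ * g⁻¹) * k := by group
    rw [e, ← hx]
    calc k⁻¹ * x * k = k⁻¹ * (x * k) := by group
      _ = k⁻¹ * (k * x) := by rw [hk]
      _ = x := by group
  by_cases hSS : ((k⁻¹ * g) • S : Sylow 2 G) = S
  · have hn : k⁻¹ * g ∈ Subgroup.normalizer ((S : Subgroup G) : Set G) :=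
      Sylow.smul_eq_iff_mem_normalizer.mp hSS
    rw [← hhx]
    exact hinv _ hn
  · obtain ⟨U, hU⟩ := hCI S ((k⁻¹ * g) • S) (fun h => hSS h.symm)
    have hcx : c₀ * x = x * c₀ := (hcZ x hxS).symm
    have hc_in : c₀ ∈ (S : Subgroup G) ⊓ (((k⁻¹ * g) • S : Sylow 2 G) : Subgroup G) := by
      have hcc : c₀ ∈ Subgroup.centralizer ({x} : Set G) :=
        Subgroup.mem_centralizer_singleton_iff.mpr hcx
      exact Subgroup.mem_inf.mpr ⟨hcS, hD (Subgroup.mem_inf.mpr ⟨hcS, hcc⟩)⟩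
    have hx_in : x ∈ (S : Subgroup G) ⊓ (((k⁻¹ * g) • S : Sylow 2 G) : Subgroup G) := by
      refine Subgroup.mem_inf.mpr ⟨hxS, ?_⟩
      apply (mem_sylow_smul_iff (k⁻¹ * g) x S).mpr
      rw [← hhx]
      have e : (k⁻¹ * g)⁻¹ * ((k⁻¹ * g) * c₀ * (k⁻¹ * g)⁻¹) * (k⁻¹ * g) = c₀ := by group
      rw [e]; exact hcS
    have hcentral : ∀ y : G, y ∈ (Subgroup.center ↥(U : Subgroup G)).map (U : Subgroup G).subtype →
        y ∈ (U : Subgroup G) ∧ ∀ s ∈ (U : Subgroup G), s * y = y * s := by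
      rintro y ⟨y', hy', rfl⟩
      refine ⟨y'.2, ?_⟩
      intro s hs
      have hy'' : y' ∈ Subgroup.center ↥(U : Subgroup G) := hy'
      rw [Subgroup.mem_center_iff] at hy''
      have h1 := hy'' ⟨s, hs⟩
      exact congrArg Subtype.val h1
    obtain ⟨hcU, hcUZ⟩ := hcentral c₀ (hU hc_in)
    obtain ⟨hxU, hxUZ⟩ := hcentral x (hU hx_in)
    obtain ⟨n, hn, hnx⟩ := zs_burnside_elt U hcUZ hxUZ (k⁻¹ * g) hhx
    -- c₀ is invariant under N(U)
    obtain ⟨a, ha⟩ := MulAction.exists_smul_eq G S U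
    have hcU' : ∀ s ∈ (U : Subgroup G), s * (a * c₀ * a⁻¹) = (a * c₀ * a⁻¹) * s := by
      intro s hs
      rw [← ha] at hs
      have hs' : a⁻¹ * s * a ∈ (S : Subgroup G) := (mem_sylow_smul_iff a s S).mp hs
      have h1 := hcZ _ hs'
      calc s * (a * c₀ * a⁻¹) = a * ((a⁻¹ * s * a) * c₀) * a⁻¹ := by group
        _ = a * (c₀ * (a⁻¹ * s * a)) * a⁻¹ := by rw [h1]
        _ = a * c₀ * a⁻¹ * s := by group
    have hinvU : ∀ m ∈ Subgroup.normalizer ((U : Subgroup G) : Set G),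
        m * (a * c₀ * a⁻¹) * m⁻¹ = a * c₀ * a⁻¹ := by
      intro m hm
      have hm' : a⁻¹ * m * a ∈ Subgroup.normalizer ((S : Subgroup G) : Set G) := by
        apply Sylow.smul_eq_iff_mem_normalizer.mp
        have h1 : m • U = U := Sylow.smul_eq_iff_mem_normalizer.mpr hm
        rw [mul_smul, mul_smul, ha, h1, ← ha, ← mul_smul, inv_mul_cancel, one_smul]
      have h2 := hinv _ hm'
      calc m * (a * c₀ * a⁻¹) * m⁻¹ = a * ((a⁻¹ * m * a) * c₀ * (a⁻¹ * m * a)⁻¹) * a⁻¹ := by group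
        _ = a * c₀ * a⁻¹ := by rw [h2]
    obtain ⟨m, hm, hmc⟩ := zs_burnside_elt U hcUZ hcU' a rfl
    have hceq : c₀ = a * c₀ * a⁻¹ := by
      have h1 := hinvU m⁻¹ (Subgroup.inv_mem _ hm)
      rw [← hmc] at h1
      have e : m⁻¹ * (m * c₀ * m⁻¹) * m⁻¹⁻¹ = c₀ := by group
      rw [e] at h1
      rw [← hmc]
      exact h1
    have h3 := hinvU n hn
    rw [← hceq] at h3
    rw [← hnx]
    exact h3

/-- Conjugation by an element of the normalizer of `H`, as an automorphism of `H`. -/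
def zsNormConj (H : Subgroup G) (n : G) (hn : n ∈ Subgroup.normalizer (H : Set G)) : ↥H ≃* ↥H where
  toFun s := ⟨n * (s : G) * n⁻¹, (Subgroup.mem_normalizer_iff.mp hn (s : G)).mp s.2⟩
  invFun s := ⟨n⁻¹ * (s : G) * n, by
    have h1 := (Subgroup.mem_normalizer_iff.mp hn (n⁻¹ * (s : G) * n)).mpr
    apply h1
    have e : n * (n⁻¹ * (s : G) * n) * n⁻¹ = (s : G) := by group
    rw [e]; exact s.2⟩
  left_inv s := by
    apply Subtype.ext
    show n⁻¹ * (n * (s : G) * n⁻¹) * n = (s : G)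
    group
  right_inv s := by
    apply Subtype.ext
    show n * (n⁻¹ * (s : G) * n) * n⁻¹ = (s : G)
    group
  map_mul' a b := by
    apply Subtype.ext
    show n * ((a : G) * (b : G)) * n⁻¹ = (n * (a : G) * n⁻¹) * (n * (b : G) * n⁻¹)
    group

/-- The involution of a cyclic characteristic subgroup of `H` is fixed by `N_G(H)`. -/
theorem zs_char_cyclic_invol_fixed [Finite G] (H : Subgroup G) (C : Subgroup ↥H)
    (hCc : IsCyclic ↥C) (hCh : C.Characteristic) (c : ↥H) (hc : c ∈ C) (hc2 : orderOf c = 2)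
    (n : G) (hn : n ∈ Subgroup.normalizer (H : Set G)) : n * (c : G) * n⁻¹ = (c : G) := by
  have hfix := hCh.fixed (zsNormConj H n hn)
  have hmem : (zsNormConj H n hn) c ∈ C := by
    have h1 : c ∈ C.comap (zsNormConj H n hn).toMonoidHom := by rw [hfix]; exact hc
    exact h1
  have ho : orderOf ((zsNormConj H n hn) c) = 2 := by
    rw [MulEquiv.orderOf_eq]; exact hc2
  have ho1 : orderOf (⟨c, hc⟩ : ↥C) = 2 := by
    rw [← Subgroup.orderOf_coe]; exact hc2
  have ho2 : orderOf (⟨(zsNormConj H n hn) c, hmem⟩ : ↥C) = 2 := by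
    rw [← Subgroup.orderOf_coe]; exact ho
  have heq := zs_cyclic_invol_unique ho2 ho1
  have h2 : (zsNormConj H n hn) c = c := congrArg Subtype.val heq
  exact congrArg Subtype.val h2

/-- S3184 modulo Brauer–Suzuki. -/
theorem zs_s3184.{u} (hBS : BSHyp.{u}) {G : Type u} [Group G] [Finite G]
    (hCI : ∀ S T : Sylow 2 G, S ≠ T → ∃ U : Sylow 2 G,
      (S : Subgroup G) ⊓ (T : Subgroup G) ≤
        (Subgroup.center ↥(U : Subgroup G)).map (U : Subgroup G).subtype)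
    (S : Sylow 2 G) (C : Subgroup ↥(S : Subgroup G)) (hCc : IsCyclic ↥C)
    (hCh : C.Characteristic)
    (c : ↥(S : Subgroup G)) (hc : c ∈ C) (hc2 : orderOf c = 2) :
    ∀ g : G, (QuotientGroup.mk (s := Cfsg.oddCore G) (g * (c : G) * g⁻¹)) =
      QuotientGroup.mk (s := Cfsg.oddCore G) (c : G) := by
  intro g
  have hinv : ∀ n ∈ Subgroup.normalizer ((S : Subgroup G) : Set G),
      n * (c : G) * n⁻¹ = (c : G) :=
    fun n hn => zs_char_cyclic_invol_fixed (S : Subgroup G) C hCc hCh c hc hc2 n hn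
  have hiso := zs_ci_isolated hCI S (c : G) c.2 hinv
  have hcG : orderOf (c : G) = 2 := by rw [Subgroup.orderOf_coe]; exact hc2
  obtain ⟨N, hN, hodd, hcomm⟩ := zstar_of_bs hBS S (c : G) hcG c.2 hiso
  have hle : N ≤ Cfsg.oddCore G :=
    le_pPrimeCore_h18 hN (Nat.coprime_two_right.mpr hodd)
  rw [QuotientGroup.eq]
  apply hle
  have h1 := hN.conj_mem _ (hcomm g) (c : G)⁻¹
  have e : (c : G)⁻¹ * ((c : G) * g * (c : G)⁻¹ * g⁻¹) * (c : G)⁻¹⁻¹ =
      (g * (c : G) * g⁻¹)⁻¹ * (c : G) := by group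
  rw [e] at h1
  exact h1

end Cfsg.Agent.Lib.Helper18.ZStar
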