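import Mathlib
import Cfsg.Agent.Lib.Helper18.ZStarCI
import Cfsg.Prelude.Def_FusionSystem

set_option autoImplicit false

namespace Cfsg.Agent.Lib.Helper18.ZStar

open Cfsg.Agent.Lib.Helper9 Cfsg.Agent.Lib.Helper18 Cfsg.Agent.Lib.Helper1
open scoped Pointwise

variable {G : Type*} [Group G]

/-- An element of a Sylow `2`-subgroup lying in a subgroup of odd order is trivial. -/
theorem zs_sylow_inf_odd [Finite G] (S : Sylow 2 G) (N : Subgroup G)
    (hN : (Nat.card N).Coprime 2) {s : G} (hsS : s ∈ (S : Subgroup G)) (hsN : s ∈ N) : s = 1 := by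
  haveI : Fact (Nat.Prime 2) := ⟨Nat.prime_two⟩
  obtain ⟨k, hk⟩ := (IsPGroup.iff_orderOf.mp S.isPGroup') ⟨s, hsS⟩
  rw [Subgroup.orderOf_mk] at hk
  have h1 : orderOf (⟨s, hsN⟩ : N) ∣ Nat.card N := orderOf_dvd_natCard _
  rw [Subgroup.orderOf_mk, hk] at h1
  have h2 : (Nat.card N).Coprime (2 ^ k) := Nat.Coprime.pow_right k hN
  have h3 : 2 ^ k ∣ Nat.gcd (Nat.card N) (2 ^ k) := Nat.dvd_gcd h1 dvd_rfl
  rw [h2] at h3
  have h4 : 2 ^ k = 1 := Nat.dvd_one.mp h3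
  rw [h4] at hk
  exact orderOf_eq_one_iff.mp hk

/-- Two elements of a Sylow `2`-subgroup congruent modulo a subgroup of odd order are equal. -/
theorem zs_sylow_eq_of_mul_inv_mem [Finite G] (S : Sylow 2 G) (N : Subgroup G)
    (hN : (Nat.card N).Coprime 2) {s t : G} (hsS : s ∈ (S : Subgroup G))
    (htS : t ∈ (S : Subgroup G)) (h : s * t⁻¹ ∈ N) : s = t := by
  have h1 := zs_sylow_inf_odd S N hN ((S : Subgroup G).mul_mem hsS ((S : Subgroup G).inv_mem htS)) h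
  exact mul_inv_eq_one.mp h1

/-- A `2`-subgroup of `N S` (with `N` normal) is conjugate into `S` by an element of `N`. -/
theorem zs_conj_into_sylow [Finite G] (S : Sylow 2 G) (N : Subgroup G) [N.Normal]
    (T : Subgroup G) (hT : IsPGroup 2 T) (hTle : T ≤ N ⊔ (S : Subgroup G)) :
    ∃ a ∈ N, ∀ t ∈ T, a * t * a⁻¹ ∈ (S : Subgroup G) := by
  haveI : Fact (Nat.Prime 2) := ⟨Nat.prime_two⟩
  have hsyl : IsSylowIn 2 (S : Subgroup G) (N ⊔ (S : Subgroup G)) :=
    isSylowIn_of_sylow_le S le_sup_right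
  obtain ⟨x, hx, hxT⟩ := hsyl.exists_conj_le hTle hT
  have hx' : x ∈ ((N ⊔ (S : Subgroup G) : Subgroup G) : Set G) := hx
  rw [sup_comm, Subgroup.mul_normal] at hx'
  obtain ⟨s, hs, a, ha, rfl⟩ := Set.mem_mul.mp hx'
  refine ⟨a, ha, ?_⟩
  intro t ht
  have h1 : (s * a) * t * (s * a)⁻¹ ∈ (S : Subgroup G) := hxT (conj_mem_conjSub ht)
  have h2 : s⁻¹ * ((s * a) * t * (s * a)⁻¹) * s ∈ (S : Subgroup G) :=
    (S : Subgroup G).mul_mem ((S : Subgroup G).mul_mem ((S : Subgroup G).inv_mem hs) h1) hs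
  have e : s⁻¹ * ((s * a) * t * (s * a)⁻¹) * s = a * t * a⁻¹ := by group
  rw [e] at h2
  exact h2

/-- If `O(G) = 1` and `z` is a central involution then `O(G/⟨z⟩) = 1`. -/
theorem zs_oddCore_quot_central_eq_bot [Finite G] {z : G}
    (hO : Cfsg.pPrimeCore 2 G = ⊥) (hzc : z ∈ Subgroup.center G) (hz2 : orderOf z = 2) :
    haveI : (Subgroup.zpowers z).Normal := zs_zpowers_normal hzc
    Cfsg.pPrimeCore 2 (G ⧸ Subgroup.zpowers z) = ⊥ := by
  haveI hNn : (Subgroup.zpowers z).Normal := zs_zpowers_normal hzc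
  have hN1n : ((Cfsg.pPrimeCore 2 (G ⧸ Subgroup.zpowers z)).comap
      (QuotientGroup.mk' (Subgroup.zpowers z))).Normal :=
    (pPrimeCore_normal_h18 2 (G ⧸ Subgroup.zpowers z)).comap _
  obtain ⟨N1, hN1⟩ : ∃ N1 : Subgroup G, N1 = (Cfsg.pPrimeCore 2 (G ⧸ Subgroup.zpowers z)).comap
      (QuotientGroup.mk' (Subgroup.zpowers z)) := ⟨_, rfl⟩
  rw [← hN1] at hN1n
  have hNle : Subgroup.zpowers z ≤ N1 := by
    intro n hn
    rw [hN1, Subgroup.mem_comap]
    have h3 : QuotientGroup.mk' (Subgroup.zpowers z) n = 1 := (QuotientGroup.eq_one_iff n).mpr hn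
    rw [h3]
    exact Subgroup.one_mem _
  have hcard : Nat.card (Subgroup.zpowers z) *
      Nat.card (Cfsg.pPrimeCore 2 (G ⧸ Subgroup.zpowers z)) = Nat.card N1 := by
    have h3 := Cfsg.Agent.Lib.Helper1.card_map_mk'_of_le N1 (Subgroup.zpowers z) hNle
    rw [hN1, Subgroup.map_comap_eq_self_of_surjective
      (QuotientGroup.mk'_surjective (Subgroup.zpowers z))] at h3
    rw [hN1]
    exact h3
  have hN2 : Nat.card (Subgroup.zpowers z) = 2 := by rw [Nat.card_zpowers, hz2]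
  have hObodd : (Nat.card (Cfsg.pPrimeCore 2 (G ⧸ Subgroup.zpowers z))).Coprime 2 :=
    pPrimeCore_card_coprime_h18 2
  rw [hN2] at hcard
  have hev : Even (Nat.card N1) := by rw [← hcard]; exact even_two_mul _
  have hnd : ¬ 2 ∣ Nat.card (Cfsg.pPrimeCore 2 (G ⧸ Subgroup.zpowers z)) := by
    intro h
    have h3 : (2 : ℕ) ∣ Nat.gcd (Nat.card (Cfsg.pPrimeCore 2 (G ⧸ Subgroup.zpowers z))) 2 :=
      Nat.dvd_gcd h dvd_rfl
    rw [hObodd] at h3
    omega
  haveI : Fact (Nat.Prime 2) := ⟨Nat.prime_two⟩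
  obtain ⟨T⟩ : Nonempty (Sylow 2 ↥N1) := inferInstance
  have hTcard : Nat.card (T : Subgroup ↥N1) = 2 := by
    rw [Sylow.card_eq_multiplicity, ← hcard,
      Nat.factorization_mul two_ne_zero Nat.card_pos.ne', Finsupp.add_apply,
      Nat.prime_two.factorization_self, Nat.factorization_eq_zero_of_not_dvd hnd]
    norm_num
  have hTcyc : IsCyclic (T : Subgroup ↥N1) := isCyclic_of_prime_card (p := 2) hTcard
  obtain ⟨Q, hQ⟩ := Cfsg.Agent.S0219.result hev T hTcyc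
  have hQcard : Nat.card Q * 2 = Nat.card N1 := by rw [← hQ]; exact Q.card_mul_index
  have hQeq : Nat.card Q = Nat.card (Cfsg.pPrimeCore 2 (G ⧸ Subgroup.zpowers z)) := by omega
  have hQodd : (Nat.card Q).Coprime 2 := by
    rw [hQeq]; exact hObodd
  have hoddQ : ∀ n : ↥N1, Odd (orderOf n) → n ∈ Q := by
    rintro n ⟨k, hk⟩
    have h3 : n ^ 2 ∈ Q := Subgroup.sq_mem_of_index_two hQ n
    have h4 : n = (n ^ 2) ^ (k + 1) := by
      rw [← pow_mul, show 2 * (k + 1) = orderOf n + 1 by omega, pow_succ, pow_orderOf_eq_one,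
        one_mul]
    rw [h4]
    exact Q.pow_mem h3 _
  have hQelt : ∀ q : ↥N1, q ∈ Q → Odd (orderOf q) := by
    intro q hq
    have h3 : orderOf (⟨q, hq⟩ : Q) ∣ Nat.card Q := orderOf_dvd_natCard _
    rw [Subgroup.orderOf_mk] at h3
    exact Odd.of_dvd_nat (Nat.Coprime.odd_of_right hQodd) h3
  have hQ'n : (Q.map N1.subtype).Normal := by
    constructor
    rintro q ⟨q0, hq0, rfl⟩ a
    have hmem : a * (q0 : G) * a⁻¹ ∈ N1 := hN1n.conj_mem _ q0.2 a
    refine ⟨⟨a * (q0 : G) * a⁻¹, hmem⟩, ?_, rfl⟩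
    apply hoddQ
    rw [Subgroup.orderOf_mk, orderOf_conj_h18, Subgroup.orderOf_coe]
    exact hQelt q0 hq0
  have hQ'odd : (Nat.card (Q.map N1.subtype)).Coprime 2 := by
    rw [Subgroup.card_map_of_injective N1.subtype_injective]; exact hQodd
  have hQ'bot : Q.map N1.subtype = ⊥ := by
    have h3 := le_pPrimeCore_h18 hQ'n hQ'odd
    rwa [hO, le_bot_iff] at h3
  have hQ1 : Nat.card Q = 1 := by
    have h3 : Nat.card (Q.map N1.subtype) = Nat.card Q :=
      Subgroup.card_map_of_injective N1.subtype_injective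
    rw [← h3, hQ'bot]
    exact Subgroup.card_bot
  rw [hQ1] at hQeq
  exact Subgroup.card_eq_one.mp hQeq.symm

/-- Isolation of the elements of `Q` in `S` passes to any quotient. -/
theorem zs_iso_quotient [Finite G] (S : Sylow 2 G) (Q : Subgroup G)
    (hQS : Q ≤ (S : Subgroup G))
    (hiso : ∀ y ∈ Q, ∀ g : G, g * y * g⁻¹ ∈ (S : Subgroup G) → g * y * g⁻¹ = y)
    (N : Subgroup G) [N.Normal] :
    ∀ y ∈ Q.map (QuotientGroup.mk' N), ∀ g : G ⧸ N,
      g * y * g⁻¹ ∈ (S : Subgroup G).map (QuotientGroup.mk' N) → g * y * g⁻¹ = y := by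
  haveI : Fact (Nat.Prime 2) := ⟨Nat.prime_two⟩
  rintro _ ⟨y, hy, rfl⟩ g' hmem
  obtain ⟨g, rfl⟩ := QuotientGroup.mk_surjective g'
  obtain ⟨s, hs, hsg⟩ := hmem
  have hsg' : (QuotientGroup.mk s : G ⧸ N) = QuotientGroup.mk (g * y * g⁻¹) := hsg
  rw [QuotientGroup.eq] at hsg'
  -- g y g⁻¹ ∈ N ⊔ S
  have hin : g * y * g⁻¹ ∈ N ⊔ (S : Subgroup G) := by
    have e : g * y * g⁻¹ = s * (s⁻¹ * (g * y * g⁻¹)) := by group
    rw [e]
    exact Subgroup.mul_mem _ (Subgroup.mem_sup_right hs) (Subgroup.mem_sup_left hsg')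
  have hp : IsPGroup 2 (Subgroup.zpowers (g * y * g⁻¹)) := by
    apply isPGroup_zpowers_of_orderOf
    rw [orderOf_conj_h18]
    obtain ⟨k, hk⟩ := (IsPGroup.iff_orderOf.mp S.isPGroup') ⟨y, hQS hy⟩
    rw [Subgroup.orderOf_mk] at hk
    exact ⟨k, hk⟩
  obtain ⟨a, ha, haT⟩ := zs_conj_into_sylow S N _ hp
    ((Subgroup.zpowers_le).mpr hin)
  have h1 := haT _ (Subgroup.mem_zpowers _)
  have e1 : a * (g * y * g⁻¹) * a⁻¹ = (a * g) * y * (a * g)⁻¹ := by group
  rw [e1] at h1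
  have h2 := hiso y hy (a * g) h1
  -- so g y g⁻¹ = a⁻¹ y a
  have h3 : g * y * g⁻¹ = a⁻¹ * y * a := by
    calc g * y * g⁻¹ = a⁻¹ * ((a * g) * y * (a * g)⁻¹) * a := by group
      _ = a⁻¹ * y * a := by rw [h2]
  show (QuotientGroup.mk g : G ⧸ N) * QuotientGroup.mk y * (QuotientGroup.mk g)⁻¹ =
    QuotientGroup.mk y
  have h4 : (QuotientGroup.mk g : G ⧸ N) * QuotientGroup.mk y * (QuotientGroup.mk g)⁻¹ =
      QuotientGroup.mk (g * y * g⁻¹) := rfl
  rw [h4, h3]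
  have h5 : (QuotientGroup.mk a : G ⧸ N) = 1 := (QuotientGroup.eq_one_iff a).mpr ha
  have h6 : (QuotientGroup.mk (a⁻¹ * y * a) : G ⧸ N) =
      (QuotientGroup.mk a)⁻¹ * QuotientGroup.mk y * QuotientGroup.mk a := rfl
  rw [h6, h5, inv_one, one_mul, mul_one]

/-- A nontrivial element of `2`-power order has a power of order two. -/
theorem zs_exists_pow_orderOf_two {y : G} {k : ℕ} (hk : orderOf y = 2 ^ k) (hy : y ≠ 1) :
    ∃ m : ℕ, orderOf (y ^ m) = 2 := by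
  have hk0 : k ≠ 0 := by
    rintro rfl
    rw [pow_zero, orderOf_eq_one_iff] at hk
    exact hy hk
  obtain ⟨j, rfl⟩ := Nat.exists_eq_succ_of_ne_zero hk0
  refine ⟨2 ^ j, ?_⟩
  rw [orderOf_pow_of_dvd (by positivity) (by rw [hk]; exact pow_dvd_pow 2 (Nat.le_succ j)), hk,
    pow_succ, Nat.mul_div_cancel_left _ (by positivity)]

/-- Glauberman's theorem for subgroups of isolated `2`-elements, assuming Brauer--Suzuki. -/
theorem zs_iso_subgroup.{u} (hBS : BSHyp.{u}) : ∀ (n : ℕ) (G : Type u) [Group G] [Finite G],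
    Nat.card G = n → ∀ (S : Sylow 2 G) (Q : Subgroup G), Q ≤ (S : Subgroup G) →
    (∀ y ∈ Q, ∀ g : G, g * y * g⁻¹ ∈ (S : Subgroup G) → g * y * g⁻¹ = y) →
    ∀ y ∈ Q, ∀ g : G, y * g * y⁻¹ * g⁻¹ ∈ Cfsg.pPrimeCore 2 G := by
  intro n
  induction n using Nat.strong_induction_on with
  | _ n ih =>
  intro G _ _ hn S Q hQS hiso y hy g
  haveI : Fact (Nat.Prime 2) := ⟨Nat.prime_two⟩
  by_cases hO : Cfsg.pPrimeCore 2 G = ⊥
  · rw [hO, Subgroup.mem_bot]
    by_cases hy1 : y = 1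
    · rw [hy1]; group
    · obtain ⟨k, hk⟩ := (IsPGroup.iff_orderOf.mp S.isPGroup') ⟨y, hQS hy⟩
      rw [Subgroup.orderOf_mk] at hk
      obtain ⟨m, hm⟩ := zs_exists_pow_orderOf_two hk hy1
      have htQ : y ^ m ∈ Q := Q.pow_mem hy m
      obtain ⟨N, hN, hodd, hcomm⟩ := zstar_of_bs hBS S (y ^ m) hm (hQS htQ) (hiso _ htQ)
      have hNbot : N = ⊥ := by
        have h1 := le_pPrimeCore_h18 hN (Nat.coprime_two_right.mpr hodd)
        rwa [hO, le_bot_iff] at h1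
      have htc : y ^ m ∈ Subgroup.center G := by
        rw [Subgroup.mem_center_iff]
        intro a
        have h1 := hcomm a
        rw [hNbot, Subgroup.mem_bot] at h1
        have h2 : y ^ m * a = (y ^ m * a * (y ^ m)⁻¹ * a⁻¹) * (a * y ^ m) := by group
        rw [h2, h1, one_mul]
      haveI hNn : (Subgroup.zpowers (y ^ m)).Normal := zs_zpowers_normal htc
      have hne : Subgroup.zpowers (y ^ m) ≠ ⊥ := by
        intro h
        have h1 : y ^ m ∈ Subgroup.zpowers (y ^ m) := Subgroup.mem_zpowers _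
        rw [h, Subgroup.mem_bot] at h1
        exact ne_one_of_orderOf_two hm h1
      have hπ : Function.Surjective (QuotientGroup.mk' (Subgroup.zpowers (y ^ m))) :=
        QuotientGroup.mk'_surjective _
      have hQS' : Q.map (QuotientGroup.mk' (Subgroup.zpowers (y ^ m))) ≤
          ((S.mapSurjective hπ : Sylow 2 (G ⧸ Subgroup.zpowers (y ^ m))) :
            Subgroup (G ⧸ Subgroup.zpowers (y ^ m))) := by
        rw [Sylow.coe_mapSurjective]
        exact Subgroup.map_mono hQS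
      have hiso' : ∀ w ∈ Q.map (QuotientGroup.mk' (Subgroup.zpowers (y ^ m))),
          ∀ a : G ⧸ Subgroup.zpowers (y ^ m),
          a * w * a⁻¹ ∈ ((S.mapSurjective hπ : Sylow 2 (G ⧸ Subgroup.zpowers (y ^ m))) :
            Subgroup (G ⧸ Subgroup.zpowers (y ^ m))) → a * w * a⁻¹ = w := by
        intro w hw a ha
        rw [Sylow.coe_mapSurjective] at ha
        exact zs_iso_quotient S Q hQS hiso _ w hw a ha
      have h1 := ih _ (hn ▸ zs_card_quotient_lt _ hne) (G ⧸ Subgroup.zpowers (y ^ m)) rfl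
        (S.mapSurjective hπ) _ hQS' hiso' (QuotientGroup.mk' _ y) ⟨y, hy, rfl⟩
        (QuotientGroup.mk' _ g)
      rw [zs_oddCore_quot_central_eq_bot hO htc hm, Subgroup.mem_bot] at h1
      have h2 : (QuotientGroup.mk (y * g * y⁻¹ * g⁻¹) : G ⧸ Subgroup.zpowers (y ^ m)) = 1 := by
        rw [← h1]; rfl
      have h3 : y * g * y⁻¹ * g⁻¹ ∈ Subgroup.zpowers (y ^ m) := (QuotientGroup.eq_one_iff _).mp h2
      have h4 : y * g * y⁻¹ * g⁻¹ ∈ (S : Subgroup G) :=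
        (Subgroup.zpowers_le.mpr (hQS htQ)) h3
      have h5 : g * y * g⁻¹ ∈ (S : Subgroup G) := by
        have e : g * y * g⁻¹ = (y * g * y⁻¹ * g⁻¹)⁻¹ * y := by group
        rw [e]
        exact (S : Subgroup G).mul_mem ((S : Subgroup G).inv_mem h4) (hQS hy)
      have h6 := hiso y hy g h5
      calc y * g * y⁻¹ * g⁻¹ = y * (g * y * g⁻¹)⁻¹ := by group
        _ = 1 := by rw [h6, mul_inv_cancel]
  · haveI hOn := pPrimeCore_normal_h18 2 G
    have hπ : Function.Surjective (QuotientGroup.mk' (Cfsg.pPrimeCore 2 G)) :=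
      QuotientGroup.mk'_surjective _
    have hQS' : Q.map (QuotientGroup.mk' (Cfsg.pPrimeCore 2 G)) ≤
        ((S.mapSurjective hπ : Sylow 2 (G ⧸ Cfsg.pPrimeCore 2 G)) :
          Subgroup (G ⧸ Cfsg.pPrimeCore 2 G)) := by
      rw [Sylow.coe_mapSurjective]
      exact Subgroup.map_mono hQS
    have hiso' : ∀ w ∈ Q.map (QuotientGroup.mk' (Cfsg.pPrimeCore 2 G)),
        ∀ a : G ⧸ Cfsg.pPrimeCore 2 G,
        a * w * a⁻¹ ∈ ((S.mapSurjective hπ : Sylow 2 (G ⧸ Cfsg.pPrimeCore 2 G)) :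
          Subgroup (G ⧸ Cfsg.pPrimeCore 2 G)) → a * w * a⁻¹ = w := by
      intro w hw a ha
      rw [Sylow.coe_mapSurjective] at ha
      exact zs_iso_quotient S Q hQS hiso _ w hw a ha
    have h1 := ih _ (hn ▸ zs_card_quotient_lt _ hO) (G ⧸ Cfsg.pPrimeCore 2 G) rfl
      (S.mapSurjective hπ) _ hQS' hiso' (QuotientGroup.mk' _ y) ⟨y, hy, rfl⟩
      (QuotientGroup.mk' _ g)
    have hbot := Cfsg.Agent.Lib.Helper1.pPrimeCore_quotient_eq_bot (G := G) 2
    rw [hbot, Subgroup.mem_bot] at h1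
    have h2 : (QuotientGroup.mk (y * g * y⁻¹ * g⁻¹) : G ⧸ Cfsg.pPrimeCore 2 G) = 1 := by
      rw [← h1]; rfl
    exact (QuotientGroup.eq_one_iff _).mp h2

/-- Elements central modulo `N` have all their commutators in `N`. -/
theorem zs_comm_mem_of_central_mod (N : Subgroup G) [N.Normal] {x : G}
    (hx : x ∈ (Subgroup.center (G ⧸ N)).comap (QuotientGroup.mk' N)) (a : G) :
    a * x * a⁻¹ * x⁻¹ ∈ N := by
  rw [Subgroup.mem_comap, Subgroup.mem_center_iff] at hx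
  have h1 := hx (QuotientGroup.mk a)
  apply (QuotientGroup.eq_one_iff _).mp
  have h2 : (QuotientGroup.mk (a * x * a⁻¹ * x⁻¹) : G ⧸ N) =
      (QuotientGroup.mk a * QuotientGroup.mk' N x) * (QuotientGroup.mk a)⁻¹ *
        (QuotientGroup.mk' N x)⁻¹ := rfl
  rw [h2, h1]
  group

/-- The fusion-theoretic half: a subgroup central in the fusion system consists of elements
with no other conjugate in `S`. -/
theorem zs_fus_central_iso (S : Subgroup G) (Q : Subgroup G)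
    (hQ : (Cfsg.groupFusionSystem S).IsCentral Q) :
    ∀ y ∈ Q, ∀ g : G, g * y * g⁻¹ ∈ S → g * y * g⁻¹ = y := by
  intro y hy g hgy
  have hP : Subgroup.zpowers y ≤ S := Subgroup.zpowers_le.mpr (hQ.1 hy)
  have hPc : Subgroup.zpowers y ≤ S.comap (MulAut.conj g).toMonoidHom := by
    apply Subgroup.zpowers_le.mpr
    rw [Subgroup.mem_comap]
    exact hgy
  have hφ : Cfsg.conjHom (Subgroup.zpowers y) g ∈
      (Cfsg.groupFusionSystem S).Hom (Subgroup.zpowers y) := by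
    refine ⟨hP, ?_, g, fun x => rfl⟩
    intro x
    exact hPc x.2
  obtain ⟨ψ, -, h1, h2⟩ := hQ.2 _ _ hφ
  have h3 := h1 ⟨y, Subgroup.mem_zpowers y⟩
  have h4 := h2 ⟨y, hy⟩
  have e : (Subgroup.inclusion le_sup_left (⟨y, Subgroup.mem_zpowers y⟩ : Subgroup.zpowers y) :
      ↥(Subgroup.zpowers y ⊔ Q)) = Subgroup.inclusion le_sup_right (⟨y, hy⟩ : Q) :=
    Subtype.ext rfl
  rw [e, h4] at h3
  exact h3.symm

theorem zs_fus_center_le.{u} (hBS : BSHyp.{u}) {G : Type u} [Group G] [Finite G]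
    (S : Sylow 2 G) :
    (Cfsg.groupFusionSystem (S : Subgroup G)).center ≤
      (S : Subgroup G) ⊓ (Subgroup.center (G ⧸ Cfsg.oddCore G)).comap
        (QuotientGroup.mk' (Cfsg.oddCore G)) := by
  apply sSup_le
  intro Q hQ
  have hiso := zs_fus_central_iso (S : Subgroup G) Q hQ
  have hmain := zs_iso_subgroup hBS _ G rfl S Q hQ.1 hiso
  intro y hy
  refine Subgroup.mem_inf.mpr ⟨hQ.1 hy, ?_⟩
  rw [Subgroup.mem_comap, Subgroup.mem_center_iff]
  intro g'
  obtain ⟨g, rfl⟩ := QuotientGroup.mk_surjective g'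
  have h1 := hmain y⁻¹ (Q.inv_mem hy) g⁻¹
  rw [inv_inv, inv_inv] at h1
  have h2 : (QuotientGroup.mk (g * y) : G ⧸ Cfsg.oddCore G) = QuotientGroup.mk (y * g) := by
    rw [QuotientGroup.eq]
    have e : (g * y)⁻¹ * (y * g) = y⁻¹ * g⁻¹ * y * g := by group
    rw [e]
    exact h1
  exact h2

theorem zs_fus_le_center [Finite G] (S : Sylow 2 G) :
    (S : Subgroup G) ⊓ (Subgroup.center (G ⧸ Cfsg.oddCore G)).comap
        (QuotientGroup.mk' (Cfsg.oddCore G)) ≤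
      (Cfsg.groupFusionSystem (S : Subgroup G)).center := by
  haveI hOn : (Cfsg.oddCore G).Normal := pPrimeCore_normal_h18 2 G
  have hOodd : (Nat.card (Cfsg.oddCore G)).Coprime 2 := pPrimeCore_card_coprime_h18 2
  apply le_sSup
  refine ⟨inf_le_left, ?_⟩
  rintro P φ ⟨hP, hφS, g, hg⟩
  obtain ⟨Z, hZ⟩ : ∃ Z : Subgroup G, Z = (S : Subgroup G) ⊓
      (Subgroup.center (G ⧸ Cfsg.oddCore G)).comap (QuotientGroup.mk' (Cfsg.oddCore G)) :=
    ⟨_, rfl⟩
  rw [← hZ]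
  have hZS : Z ≤ (S : Subgroup G) := by rw [hZ]; exact inf_le_left
  have hZc : ∀ x ∈ Z, ∀ a : G, a * x * a⁻¹ * x⁻¹ ∈ Cfsg.oddCore G := by
    intro x hx a
    rw [hZ] at hx
    exact zs_comm_mem_of_central_mod _ (Subgroup.mem_inf.mp hx).2 a
  have hPZ : P ⊔ Z ≤ (S : Subgroup G) := sup_le hP hZS
  have hTp : IsPGroup 2 (conjSub g (P ⊔ Z)) := conjSub_isPGroup (S.isPGroup'.to_le hPZ)
  have hTle : conjSub g (P ⊔ Z) ≤ Cfsg.oddCore G ⊔ (S : Subgroup G) := by
    apply Subgroup.map_le_iff_le_comap.mpr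
    apply sup_le
    · intro x hx
      rw [Subgroup.mem_comap]
      apply Subgroup.mem_sup_right
      have h1 := hφS ⟨x, hx⟩
      rw [hg] at h1
      exact h1
    · intro x hx
      rw [Subgroup.mem_comap]
      have e : (MulAut.conj g).toMonoidHom x = (g * x * g⁻¹ * x⁻¹) * x := by
        show g * x * g⁻¹ = _
        group
      rw [e]
      exact Subgroup.mul_mem _ (Subgroup.mem_sup_left (hZc x hx g))
        (Subgroup.mem_sup_right (hZS hx))
  obtain ⟨a, ha, haT⟩ := zs_conj_into_sylow S (Cfsg.oddCore G) _ hTp hTle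
  have hS' : ∀ x ∈ P ⊔ Z, (a * g) * x * (a * g)⁻¹ ∈ (S : Subgroup G) := by
    intro x hx
    have h1 := haT _ (conj_mem_conjSub (g := g) hx)
    have e : a * (g * x * g⁻¹) * a⁻¹ = (a * g) * x * (a * g)⁻¹ := by group
    rw [e] at h1
    exact h1
  refine ⟨Cfsg.conjHom (P ⊔ Z) (a * g), ⟨hPZ, fun x => hS' x x.2, a * g, fun x => rfl⟩, ?_, ?_⟩
  · intro x
    show (a * g) * (x : G) * (a * g)⁻¹ = φ x
    rw [hg]
    apply zs_sylow_eq_of_mul_inv_mem S (Cfsg.oddCore G) hOodd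
      (hS' _ (Subgroup.mem_sup_left x.2)) (by rw [← hg]; exact hφS x)
    have e : (a * g) * (x : G) * (a * g)⁻¹ * (g * (x : G) * g⁻¹)⁻¹ =
        a * ((g * (x : G) * g⁻¹) * a⁻¹ * (g * (x : G) * g⁻¹)⁻¹) := by group
    rw [e]
    exact Subgroup.mul_mem _ ha (hOn.conj_mem _ (Subgroup.inv_mem _ ha) _)
  · intro x
    show (a * g) * (x : G) * (a * g)⁻¹ = (x : G)
    apply zs_sylow_eq_of_mul_inv_mem S (Cfsg.oddCore G) hOodd
      (hS' _ (Subgroup.mem_sup_right x.2)) (hZS x.2)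
    exact hZc _ x.2 _

/-- S5094 modulo Brauer--Suzuki. -/
theorem zs_s5094.{u} (hBS : BSHyp.{u}) {G : Type u} [Group G] [Finite G] (S : Sylow 2 G) :
    (Cfsg.groupFusionSystem (S : Subgroup G)).center =
      (S : Subgroup G) ⊓ (Subgroup.center (G ⧸ Cfsg.oddCore G)).comap
        (QuotientGroup.mk' (Cfsg.oddCore G)) :=
  le_antisymm (zs_fus_center_le hBS S) (zs_fus_le_center S)

end Cfsg.Agent.Lib.Helper18.ZStar
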