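import Mathlib
import Cfsg.Agent.Lib.helper7.BSFinal
import Cfsg.Agent.Lib.Helper18.ZStarFus
import Cfsg.Agent.S0950
import Cfsg.Agent.S0847

set_option autoImplicit false

namespace Cfsg.Agent.Lib.Helper18.BSQ8

open Cfsg.Agent.Lib.Helper9 Cfsg.Agent.Lib.Helper18 Cfsg.Agent.Lib.Helper1
open Cfsg.Agent.Lib.Helper21 Cfsg.Agent.Lib.helper7 Cfsg.Agent.Lib.Helper25
open QuaternionGroup

variable {G : Type*} [Group G]

/-- The involution of a generalized quaternion subgroup. -/
noncomputable def quatInvol {N : ℕ} (S : Subgroup G) (e : ↥S ≃* QuaternionGroup N) : G :=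
  ((e.symm (a (N : ZMod (2 * N))) : ↥S) : G)

theorem quatInvol_mem {N : ℕ} (S : Subgroup G) (e : ↥S ≃* QuaternionGroup N) :
    quatInvol S e ∈ S := (e.symm (a (N : ZMod (2 * N)))).2

theorem quatInvol_sq {N : ℕ} (S : Subgroup G) (e : ↥S ≃* QuaternionGroup N) :
    quatInvol S e * quatInvol S e = 1 := by
  unfold quatInvol
  rw [← Subgroup.coe_mul, ← map_mul, quat_invol_sq, map_one, Subgroup.coe_one]

theorem quatInvol_ne_one {N : ℕ} [NeZero N] (S : Subgroup G) (e : ↥S ≃* QuaternionGroup N) :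
    quatInvol S e ≠ 1 := by
  unfold quatInvol
  intro h
  have h1 : e.symm (a (N : ZMod (2 * N))) = 1 := Subtype.ext h
  have h2 := congrArg e h1
  rw [MulEquiv.apply_symm_apply, map_one] at h2
  exact quat_invol_ne_one h2

theorem quatInvol_orderOf {N : ℕ} [NeZero N] (S : Subgroup G) (e : ↥S ≃* QuaternionGroup N) :
    orderOf (quatInvol S e) = 2 :=
  h7_orderOf_two_of_sq _ (quatInvol_sq S e) (quatInvol_ne_one S e)

/-- The only involution of a generalized quaternion subgroup. -/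
theorem quatInvol_unique {N : ℕ} [NeZero N] (S : Subgroup G) (e : ↥S ≃* QuaternionGroup N)
    {s : G} (hs : s ∈ S) (hss : s * s = 1) (hs1 : s ≠ 1) : s = quatInvol S e := by
  have h1 : e ⟨s, hs⟩ * e ⟨s, hs⟩ = 1 := by
    rw [← map_mul]
    have : (⟨s, hs⟩ : ↥S) * ⟨s, hs⟩ = 1 := Subtype.ext hss
    rw [this, map_one]
  rcases quat_unique_invol _ h1 with h | h
  · exfalso
    apply hs1
    have h2 : (⟨s, hs⟩ : ↥S) = 1 := by
      apply e.injective
      rw [h, map_one]
    exact congrArg Subtype.val h2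
  · unfold quatInvol
    rw [← h, MulEquiv.symm_apply_apply]

theorem sq_of_orderOf_two {t : G} (ht : orderOf t = 2) : t * t = 1 := by
  rw [← pow_two, ← ht]; exact pow_orderOf_eq_one t

theorem ne_one_of_orderOf_two' {t : G} (ht : orderOf t = 2) : t ≠ 1 := by
  intro h; rw [h, orderOf_one] at ht; omega

/-- (g1) basic facts on the involutions of a group with generalized quaternion Sylow
`2`-subgroups. -/
theorem q8_g1 [Finite G] {N : ℕ} [NeZero N] (S : Sylow 2 G)
    (e : ↥(S : Subgroup G) ≃* QuaternionGroup N) :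
    ∃ z : G, orderOf z = 2 ∧ z ∈ (S : Subgroup G) ∧
      (∀ s ∈ (S : Subgroup G), orderOf s = 2 → s = z) ∧
      (∀ t : G, orderOf t = 2 → IsConj z t) ∧
      (∀ t : G, orderOf t = 2 → t * z = z * t → t = z) ∧
      Cfsg.IsIsolatedInvolution z ∧
      (∀ a b : G, IsConj z a → IsConj z b → Odd (orderOf (a * b))) := by
  haveI : Fact (Nat.Prime 2) := ⟨Nat.prime_two⟩
  have hz2 := quatInvol_orderOf (S : Subgroup G) e
  have hzS := quatInvol_mem (S : Subgroup G) e
  have huS : ∀ s ∈ (S : Subgroup G), orderOf s = 2 → s = quatInvol (S : Subgroup G) e :=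
    fun s hs hs2 => quatInvol_unique (S : Subgroup G) e hs (sq_of_orderOf_two hs2)
      (ne_one_of_orderOf_two' hs2)
  have hcomm : ∀ t : G, orderOf t = 2 → t * quatInvol (S : Subgroup G) e =
      quatInvol (S : Subgroup G) e * t → t = quatInvol (S : Subgroup G) e := by
    intro t ht hc
    exact h7_quat_commuting_invol S e t _ (sq_of_orderOf_two ht) (ne_one_of_orderOf_two' ht)
      (quatInvol_sq _ e) (quatInvol_ne_one _ e) hc
  have hiso : Cfsg.IsIsolatedInvolution (quatInvol (S : Subgroup G) e) := by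
    refine ⟨hz2, ?_⟩
    intro g hg
    apply hcomm
    · rw [orderOf_conj_h18]; exact hz2
    · exact hg.eq.symm
  refine ⟨quatInvol (S : Subgroup G) e, hz2, hzS, huS, ?_, hcomm, hiso, ?_⟩
  · intro t ht
    have hp : IsPGroup 2 (Subgroup.zpowers t) :=
      isPGroup_zpowers_of_orderOf ⟨1, by rw [ht, pow_one]⟩
    obtain ⟨T, hT⟩ := hp.exists_le_sylow
    obtain ⟨g, rfl⟩ := MulAction.exists_smul_eq G S T
    have h1 : g⁻¹ * t * g ∈ (S : Subgroup G) :=
      (mem_sylow_smul_iff g t S).mp (hT (Subgroup.mem_zpowers t))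
    have h2 : orderOf (g⁻¹ * t * g) = 2 := by
      have := orderOf_conj_h18 g⁻¹ t
      rw [inv_inv] at this
      rw [this]; exact ht
    have h3 := huS _ h1 h2
    rw [isConj_iff]
    refine ⟨g, ?_⟩
    rw [← h3]; group
  · intro x y hx hy
    obtain ⟨h, rfl⟩ := isConj_iff.mp hx
    obtain ⟨k, rfl⟩ := isConj_iff.mp hy
    have e1 : h * quatInvol (S : Subgroup G) e * h⁻¹ * (k * quatInvol (S : Subgroup G) e * k⁻¹) =
        h * (quatInvol (S : Subgroup G) e *
          ((h⁻¹ * k) * quatInvol (S : Subgroup G) e * (h⁻¹ * k)⁻¹)) * h⁻¹ := by group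
    rw [e1, orderOf_conj_h18]
    exact isolated_mul_conj_odd hiso _

/-- Every element of the quaternion group of order 8 is conjugate to its inverse. -/
theorem q8_conj_inv (q : QuaternionGroup 2) : ∃ s : QuaternionGroup 2, s * q * s⁻¹ = q⁻¹ := by
  revert q; decide

theorem q8_conj_inv_sub (S : Subgroup G) (e : ↥S ≃* QuaternionGroup 2) {x : G} (hx : x ∈ S) :
    ∃ s ∈ S, s * x * s⁻¹ = x⁻¹ := by
  obtain ⟨q, hq⟩ := q8_conj_inv (e ⟨x, hx⟩)
  refine ⟨(e.symm q : ↥S), (e.symm q).2, ?_⟩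
  have h1 : e.symm q * ⟨x, hx⟩ * (e.symm q)⁻¹ = (⟨x, hx⟩ : ↥S)⁻¹ := by
    apply e.injective
    rw [map_mul, map_mul, map_inv, map_inv, MulEquiv.apply_symm_apply]
    exact hq
  exact congrArg Subtype.val h1

/-- An element of order four in the cyclic group generated by an element `u` of order four is
`u` or its inverse. -/
theorem eq_or_eq_inv_of_mem_zpowers {u x : G} (hu : orderOf u = 4) (hx : orderOf x = 4)
    (hxu : x ∈ Subgroup.zpowers u) : x = u ∨ x = u⁻¹ := by
  obtain ⟨k, rfl⟩ := Subgroup.mem_zpowers_iff.mp hxu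
  have h4 : u ^ (4 : ℕ) = 1 := by rw [← hu]; exact pow_orderOf_eq_one u
  have hmod : u ^ (k % 4) = u ^ k := by
    have := zpow_mod_orderOf u k
    rw [hu] at this
    exact_mod_cast this
  have h0 : 0 ≤ k % 4 := Int.emod_nonneg k (by norm_num)
  have h1 : k % 4 < 4 := Int.emod_lt_of_pos k (by norm_num)
  rw [← hmod] at hx ⊢
  obtain ⟨j, hj⟩ : ∃ j : ℕ, k % 4 = j := ⟨(k % 4).toNat, (Int.toNat_of_nonneg h0).symm⟩
  rw [hj] at h1 hx ⊢
  rw [zpow_natCast] at hx ⊢
  have hj4 : j < 4 := by exact_mod_cast h1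
  interval_cases j
  · rw [pow_zero, orderOf_one] at hx; omega
  · left; rw [pow_one]
  · exfalso
    have h5 : (u ^ 2) ^ 2 = 1 := by rw [← pow_mul]; exact h4
    have h6 : orderOf (u ^ 2) ∣ 2 := orderOf_dvd_of_pow_eq_one h5
    rw [hx] at h6
    omega
  · right
    apply eq_inv_of_mul_eq_one_left
    rw [← pow_succ]; exact h4

/-- (g2) in the fused case, the centralizer of the involution has a quaternion Sylow `2`-subgroup
and all its elements of order four are conjugate. -/
theorem q8_g2 [Finite G] (S : Sylow 2 G) (e : ↥(S : Subgroup G) ≃* QuaternionGroup 2)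
    (hnc : ∀ N : Subgroup G, N.Normal → ¬ Subgroup.IsComplement' N (S : Subgroup G))
    (z : G) (hz : orderOf z = 2) (hzS : z ∈ (S : Subgroup G)) :
    ∃ hSC : (S : Subgroup G) ≤ Subgroup.centralizer ({z} : Set G),
      Nonempty (↥((S.subtype hSC : Sylow 2 ↥(Subgroup.centralizer ({z} : Set G))) :
        Subgroup ↥(Subgroup.centralizer ({z} : Set G))) ≃* QuaternionGroup 2) ∧
      ∀ u v : ↥(Subgroup.centralizer ({z} : Set G)), orderOf u = 4 → orderOf v = 4 →
        IsConj u v := by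
  haveI : Fact (Nat.Prime 2) := ⟨Nat.prime_two⟩
  haveI : NeZero (2 : ℕ) := ⟨by norm_num⟩
  have huS : ∀ s ∈ (S : Subgroup G), orderOf s = 2 → s = z := by
    intro s hs hs2
    have h1 := quatInvol_unique (S : Subgroup G) e hs (sq_of_orderOf_two hs2)
      (ne_one_of_orderOf_two' hs2)
    have h2 := quatInvol_unique (S : Subgroup G) e hzS (sq_of_orderOf_two hz)
      (ne_one_of_orderOf_two' hz)
    rw [h1, h2]
  -- the normalizer of S centralizes z
  have hNC : ∀ n ∈ Subgroup.normalizer ((S : Subgroup G) : Set G), n * z = z * n := by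
    intro n hn
    have h1 : n * z * n⁻¹ ∈ (S : Subgroup G) := (Subgroup.mem_normalizer_iff.mp hn z).mp hzS
    have h2 := huS _ h1 (by rw [orderOf_conj_h18]; exact hz)
    calc n * z = (n * z * n⁻¹) * n := by group
      _ = z * n := by rw [h2]
  have hSC : (S : Subgroup G) ≤ Subgroup.centralizer ({z} : Set G) := by
    intro s hs
    rw [Subgroup.mem_centralizer_singleton_iff]
    exact hNC s (Subgroup.le_normalizer hs)
  refine ⟨hSC, ⟨?_⟩, ?_⟩
  · rw [Sylow.coe_subtype]
    exact (Subgroup.subgroupOfEquivOfLe hSC).trans e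
  · -- every element of order 4 of C is C-conjugate into S
    have hsyl : IsSylowIn 2 (S : Subgroup G) (Subgroup.centralizer ({z} : Set G)) :=
      isSylowIn_of_sylow_le S hSC
    have hinto : ∀ u : ↥(Subgroup.centralizer ({z} : Set G)), orderOf u = 4 →
        ∃ c ∈ Subgroup.centralizer ({z} : Set G), c * (u : G) * c⁻¹ ∈ (S : Subgroup G) := by
      intro u hu
      have hp : IsPGroup 2 (Subgroup.zpowers (u : G)) :=
        isPGroup_zpowers_of_orderOf ⟨2, by rw [Subgroup.orderOf_coe, hu]; norm_num⟩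
      obtain ⟨c, hc, hcS⟩ := hsyl.exists_conj_le (Subgroup.zpowers_le.mpr u.2) hp
      exact ⟨c, hc, hcS (conj_mem_conjSub (Subgroup.mem_zpowers _))⟩
    -- any two elements of order 4 of S are C-conjugate
    have hS4 : ∀ x y : G, x ∈ (S : Subgroup G) → y ∈ (S : Subgroup G) → orderOf x = 4 →
        orderOf y = 4 → ∃ c ∈ Subgroup.centralizer ({z} : Set G), c * x * c⁻¹ = y := by
      intro x y hx hy hx4 hy4
      obtain ⟨n, hn, hB⟩ := Cfsg.Agent.S0950.result S e hnc (Subgroup.zpowers x)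
        (Subgroup.zpowers y) (Subgroup.zpowers_le.mpr hx) (Subgroup.zpowers_le.mpr hy)
        (by rw [Nat.card_zpowers, hx4]) (by rw [Nat.card_zpowers, hy4])
      have hy' : y ∈ (Subgroup.zpowers x).map (MulAut.conj n).toMonoidHom := by
        rw [← hB]; exact Subgroup.mem_zpowers y
      obtain ⟨w, hw, hwy⟩ := hy'
      have hwy' : n * w * n⁻¹ = y := hwy
      have hw4 : orderOf w = 4 := by
        rw [← orderOf_conj_h18 n w, hwy']; exact hy4
      have hnC : n ∈ Subgroup.centralizer ({z} : Set G) :=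
        Subgroup.mem_centralizer_singleton_iff.mpr (hNC n hn)
      rcases eq_or_eq_inv_of_mem_zpowers hx4 hw4 hw with h | h
      · exact ⟨n, hnC, by rw [← h]; exact hwy'⟩
      · obtain ⟨s, hs, hsx⟩ := q8_conj_inv_sub (S : Subgroup G) e hx
        refine ⟨n * s, Subgroup.mul_mem _ hnC (hSC hs), ?_⟩
        calc n * s * x * (n * s)⁻¹ = n * (s * x * s⁻¹) * n⁻¹ := by group
          _ = n * w * n⁻¹ := by rw [hsx, h]
          _ = y := hwy'
    intro u v hu hv
    obtain ⟨c₁, hc₁, hc₁S⟩ := hinto u hu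
    obtain ⟨c₂, hc₂, hc₂S⟩ := hinto v hv
    have hu4 : orderOf (c₁ * (u : G) * c₁⁻¹) = 4 := by
      rw [orderOf_conj_h18, Subgroup.orderOf_coe]; exact hu
    have hv4 : orderOf (c₂ * (v : G) * c₂⁻¹) = 4 := by
      rw [orderOf_conj_h18, Subgroup.orderOf_coe]; exact hv
    obtain ⟨c, hc, hcc⟩ := hS4 _ _ hc₁S hc₂S hu4 hv4
    rw [isConj_iff]
    refine ⟨⟨c₂⁻¹ * c * c₁, Subgroup.mul_mem _ (Subgroup.mul_mem _ (Subgroup.inv_mem _ hc₂) hc)
      hc₁⟩, ?_⟩
    apply Subtype.ext
    show (c₂⁻¹ * c * c₁) * (u : G) * (c₂⁻¹ * c * c₁)⁻¹ = (v : G)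
    calc (c₂⁻¹ * c * c₁) * (u : G) * (c₂⁻¹ * c * c₁)⁻¹
        = c₂⁻¹ * (c * (c₁ * (u : G) * c₁⁻¹) * c⁻¹) * c₂ := by group
      _ = c₂⁻¹ * (c₂ * (v : G) * c₂⁻¹) * c₂ := by rw [hcc]
      _ = (v : G) := by group

/-- `z` as a central element of its centralizer. -/
theorem q8_centralizer_center (z : G) :
    (⟨z, Subgroup.mem_centralizer_singleton_iff.mpr rfl⟩ :
      ↥(Subgroup.centralizer ({z} : Set G))) ∈
      Subgroup.center ↥(Subgroup.centralizer ({z} : Set G)) := by
  rw [Subgroup.mem_center_iff]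
  intro c
  apply Subtype.ext
  exact Subgroup.mem_centralizer_singleton_iff.mp c.2

/-- (g1)+(g2) packaged: the complete group-theoretic setup of the fused `Q8` case. -/
theorem q8_setup [Finite G] (S : Sylow 2 G) (e : ↥(S : Subgroup G) ≃* QuaternionGroup 2)
    (hnc : ∀ N : Subgroup G, N.Normal → ¬ Subgroup.IsComplement' N (S : Subgroup G)) :
    ∃ z : G, orderOf z = 2 ∧ z ∈ (S : Subgroup G) ∧
      (∀ t : G, orderOf t = 2 → IsConj z t) ∧
      (∀ t : G, orderOf t = 2 → t * z = z * t → t = z) ∧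
      Cfsg.IsIsolatedInvolution z ∧
      (∀ a b : G, IsConj z a → IsConj z b → Odd (orderOf (a * b))) ∧
      ∃ zc : ↥(Subgroup.centralizer ({z} : Set G)), (zc : G) = z ∧
        zc ∈ Subgroup.center ↥(Subgroup.centralizer ({z} : Set G)) ∧ orderOf zc = 2 ∧
        ∃ P : Sylow 2 ↥(Subgroup.centralizer ({z} : Set G)),
          Nonempty (↥(P : Subgroup ↥(Subgroup.centralizer ({z} : Set G))) ≃* QuaternionGroup 2) ∧
          ∀ u v : ↥(Subgroup.centralizer ({z} : Set G)), orderOf u = 4 → orderOf v = 4 →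
            IsConj u v := by
  haveI : NeZero (2 : ℕ) := ⟨by norm_num⟩
  obtain ⟨z, hz2, hzS, -, hconj, hcomm, hiso, hodd⟩ := q8_g1 S e
  obtain ⟨hSC, hP, h4⟩ := q8_g2 S e hnc z hz2 hzS
  refine ⟨z, hz2, hzS, hconj, hcomm, hiso, hodd,
    ⟨z, Subgroup.mem_centralizer_singleton_iff.mpr rfl⟩, rfl, q8_centralizer_center z, ?_,
    S.subtype hSC, hP, h4⟩
  rw [← Subgroup.orderOf_coe]
  exact hz2

end Cfsg.Agent.Lib.Helper18.BSQ8
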