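import Mathlib
import Cfsg.Agent.Lib.Helper18.BSQ8Group

set_option autoImplicit false

namespace Cfsg.Agent.Lib.Helper18.BSQ8

open Cfsg.Agent.Lib.Helper9 Cfsg.Agent.Lib.Helper18 Cfsg.Agent.Lib.Helper1
open Cfsg.Agent.Lib.Helper21 Cfsg.Agent.Lib.helper7 Cfsg.Agent.Lib.Helper25
open Cfsg.Agent.Lib.Helper18.ZStar
open QuaternionGroup

variable {G : Type*} [Group G]

/-- The fused `Q8` case of the Brauer--Suzuki theorem, in the form produced by the character
theory: a nontrivial irreducible character with all involutions in its kernel. -/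
def Q8Hyp.{u} : Prop :=
  ∀ (H : Type u) [Group H] [Finite H] (S : Sylow 2 H),
    (↥(S : Subgroup H) ≃* QuaternionGroup 2) →
    (∀ N : Subgroup H, N.Normal → ¬ Subgroup.IsComplement' N (S : Subgroup H)) →
    ∃ χ : Cfsg.IrrCharacter H, χ ≠ trivIrr H ∧
      ∀ t : H, orderOf t = 2 → (χ : H → ℂ) t = (χ : H → ℂ) 1

/-- The centre of a group with generalized quaternion Sylow `2`-subgroups, trivial odd core and a
unique involution has order two. -/
theorem quat_center_card' [Finite G] {N : ℕ} [NeZero N] (hN : 2 ≤ N) (S : Sylow 2 G)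
    (e : (S : Subgroup G) ≃* QuaternionGroup N)
    (hO : ∀ K : Subgroup G, K.Normal → Odd (Nat.card K) → K = ⊥)
    (huniq : ∀ t u : G, orderOf t = 2 → orderOf u = 2 → t = u) :
    Nat.card (Subgroup.center G) = 2 := by
  classical
  haveI : Fact (Nat.Prime 2) := ⟨Nat.prime_two⟩
  have h2G : 2 ∣ Nat.card G := by
    have hS := quat_card (S : Subgroup G) e
    have h3 : Nat.card (S : Subgroup G) ∣ Nat.card G := Subgroup.card_subgroup_dvd_card _
    rw [hS] at h3
    exact Dvd.dvd.trans ⟨2 * N, by ring⟩ h3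
  obtain ⟨t, ht⟩ := exists_prime_orderOf_dvd_card' 2 h2G
  have htZ : t ∈ Subgroup.center G := by
    rw [Subgroup.mem_center_iff]
    intro g
    have h1 : orderOf (g * t * g⁻¹) = 2 := by rw [h7_orderOf_conj']; exact ht
    have h2 := huniq _ _ h1 ht
    calc g * t = (g * t * g⁻¹) * g := by group
      _ = t * g := by rw [h2]
  have hoα : orderOf (quatGen (S : Subgroup G) e) = 2 * N := quat_orderOf_gen (S : Subgroup G) e
  have hsS : ((e.symm (xa 0) : (S : Subgroup G)) : G) ∈ (S : Subgroup G) := (e.symm (xa 0)).2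
  have hsA : ((e.symm (xa 0) : (S : Subgroup G)) : G) ∉
      Subgroup.zpowers (quatGen (S : Subgroup G) e) := by
    intro h
    obtain ⟨i, hi⟩ := Subgroup.mem_zpowers_iff.mp h
    have h1 : (e.symm (xa 0) : (S : Subgroup G)) = (e.symm (a 1)) ^ i := by
      apply Subtype.ext
      rw [Subgroup.coe_zpow]
      exact hi.symm
    have h2 := congrArg e h1
    rw [MulEquiv.apply_symm_apply, map_zpow, MulEquiv.apply_symm_apply] at h2
    have h3 : (xa 0 : QuaternionGroup N) ∈
        Subgroup.zpowers (a 1 : QuaternionGroup N) := by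
      rw [h2]; exact Subgroup.zpow_mem_zpowers _ i
    obtain ⟨j, hj⟩ := (quat_mem_zpowers_iff _).mp h3
    exact absurd hj (by simp)
  have hsα := h7_quat_invert (S : Subgroup G) e _ hsS hsA
  have hZ : ∀ z ∈ Subgroup.center G, z = 1 ∨ z = t := by
    intro z hz
    have hzc : ∀ g : G, g * z = z * g := Subgroup.mem_center_iff.mp hz
    obtain ⟨k, m, hm, hkm⟩ := Nat.exists_eq_two_pow_mul_odd (orderOf_pos z).ne'
    have hm1 : m = 1 := by
      have hoz' : orderOf (z ^ 2 ^ k) = m := by
        rw [orderOf_pow' z (pow_ne_zero k (by norm_num)), hkm]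
        have hg : Nat.gcd (2 ^ k * m) (2 ^ k) = 2 ^ k := Nat.gcd_eq_right (dvd_mul_right _ _)
        rw [hg, Nat.mul_div_cancel_left _ (by positivity)]
      have hz'c : ∀ g : G, g * z ^ 2 ^ k = z ^ 2 ^ k * g := by
        intro g
        have : Commute g z := hzc g
        exact (this.pow_right _).eq
      have hNn : (Subgroup.zpowers (z ^ 2 ^ k)).Normal := by
        constructor
        intro x hx g
        obtain ⟨i, rfl⟩ := Subgroup.mem_zpowers_iff.mp hx
        have hc : Commute g (z ^ 2 ^ k) := hz'c g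
        have : g * (z ^ 2 ^ k) ^ i * g⁻¹ = (z ^ 2 ^ k) ^ i := by
          rw [(hc.zpow_right i).eq]
          group
        rw [this]
        exact Subgroup.zpow_mem_zpowers _ i
      have hNodd : Odd (Nat.card (Subgroup.zpowers (z ^ 2 ^ k))) := by
        rw [Nat.card_zpowers, hoz']; exact hm
      have hbot := hO _ hNn hNodd
      have : z ^ 2 ^ k = 1 := by
        have h1 : z ^ 2 ^ k ∈ Subgroup.zpowers (z ^ 2 ^ k) := Subgroup.mem_zpowers _
        rw [hbot] at h1
        exact Subgroup.mem_bot.mp h1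
      rw [← hoz', this, orderOf_one]
    rw [hm1, mul_one] at hkm
    have hzS : z ∈ (S : Subgroup G) := by
      have hP : IsPGroup 2 (Subgroup.zpowers z) :=
        IsPGroup.of_card (n := k) (by rw [Nat.card_zpowers, hkm])
      obtain ⟨T, hT⟩ := hP.exists_le_sylow
      obtain ⟨g, rfl⟩ := MulAction.exists_smul_eq G S T
      have h3 : g⁻¹ * z * g ∈ (S : Subgroup G) :=
        (mem_sylow_smul_iff g z S).mp (hT (Subgroup.mem_zpowers z))
      have h5 : g⁻¹ * z * g = z := by
        rw [hzc g⁻¹]; group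
      rwa [h5] at h3
    have hzA : z ∈ Subgroup.zpowers (quatGen (S : Subgroup G) e) := by
      by_contra hzA
      have h1 := h7_quat_invert (S : Subgroup G) e z hzS hzA
      have h2 : z * quatGen (S : Subgroup G) e * z⁻¹ = quatGen (S : Subgroup G) e := by
        rw [← hzc (quatGen (S : Subgroup G) e)]
        group
      rw [h2] at h1
      have h3 : quatGen (S : Subgroup G) e * quatGen (S : Subgroup G) e = 1 := by
        nth_rewrite 1 [h1]
        exact inv_mul_cancel _
      have h4 : orderOf (quatGen (S : Subgroup G) e) ∣ 2 :=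
        orderOf_dvd_of_pow_eq_one (by rw [pow_two]; exact h3)
      rw [hoα] at h4
      have h5 : 2 * N ≤ 2 := Nat.le_of_dvd (by norm_num) h4
      omega
    obtain ⟨i, hi⟩ := Subgroup.mem_zpowers_iff.mp hzA
    have hzz : z * z = 1 := by
      have h1 : ((e.symm (xa 0) : (S : Subgroup G)) : G) * z *
          ((e.symm (xa 0) : (S : Subgroup G)) : G)⁻¹ = z⁻¹ := by
        rw [← hi, ← conj_zpow, hsα, inv_zpow]
      have h2 : ((e.symm (xa 0) : (S : Subgroup G)) : G) * z *
          ((e.symm (xa 0) : (S : Subgroup G)) : G)⁻¹ = z := by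
        rw [hzc _]
        group
      rw [h2] at h1
      nth_rewrite 1 [h1]
      exact inv_mul_cancel z
    by_cases hz1 : z = 1
    · left; exact hz1
    · right
      exact huniq z t (h7_orderOf_two_of_sq z hzz hz1) ht
  have hZeq : Subgroup.center G = Subgroup.zpowers t := by
    apply le_antisymm
    · intro z hz
      rcases hZ z hz with h | h
      · rw [h]; exact Subgroup.one_mem _
      · rw [h]; exact Subgroup.mem_zpowers t
    · rw [Subgroup.zpowers_le]; exact htZ
  rw [hZeq, Nat.card_zpowers, ht]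

/-- The rank one case of the `Z*` induction, from the `Q8` hypothesis and the landed case of
order at least 16. -/
theorem zs_rank_one_q8.{u} (hQ8 : Q8Hyp.{u}) {G : Type u} [Group G] [Finite G] {x : G}
    (hx : Cfsg.IsIsolatedInvolution x) (hO : Cfsg.pPrimeCore 2 G = ⊥)
    (huniq : ∀ σ : G, orderOf σ = 2 → Commute x σ → σ = x)
    (hgen : Subgroup.normalClosure ({x} : Set G) = ⊤) (g : G) :
    x * g * x⁻¹ * g⁻¹ ∈ Cfsg.pPrimeCore 2 G := by
  classical
  haveI : Fact (Nat.Prime 2) := ⟨Nat.prime_two⟩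
  have hxp : IsPGroup 2 (Subgroup.zpowers x) :=
    isPGroup_zpowers_of_orderOf ⟨1, by rw [hx.1, pow_one]⟩
  obtain ⟨T, hT⟩ := hxp.exists_le_sylow
  have hxT : x ∈ (T : Subgroup G) := hT (Subgroup.mem_zpowers x)
  have h2G : 2 ∣ Nat.card G := by rw [← hx.1]; exact orderOf_dvd_natCard x
  have hTu : ∀ τ ∈ (T : Subgroup G), orderOf τ = 2 → τ = x := by
    intro τ hτ hτ2
    apply huniq τ hτ2
    have hmem : x * (τ * x * τ⁻¹) ∈ (T : Subgroup G) :=
      Subgroup.mul_mem _ hxT (Subgroup.mul_mem _ (Subgroup.mul_mem _ hτ hxT) (Subgroup.inv_mem _ hτ))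
    have hodd := isolated_mul_conj_odd hx τ
    obtain ⟨k, hk⟩ := T.isPGroup' ⟨_, hmem⟩
    have h1 : (x * (τ * x * τ⁻¹)) ^ 2 ^ k = 1 := by
      have h0 := congrArg Subtype.val hk
      simpa only [SubmonoidClass.coe_pow, OneMemClass.coe_one] using h0
    have h3 : orderOf (x * (τ * x * τ⁻¹)) ∣ 2 ^ k := orderOf_dvd_of_pow_eq_one h1
    have h4 : orderOf (x * (τ * x * τ⁻¹)) = 1 :=
      Nat.Coprime.eq_one_of_dvd (Nat.Coprime.pow_right k (Nat.coprime_two_right.mpr hodd)) h3
    rw [orderOf_eq_one_iff] at h4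
    have h5 : τ * x * τ⁻¹ = x := by
      have h6 : τ * x * τ⁻¹ = x⁻¹ := (eq_inv_of_mul_eq_one_right h4)
      rw [h6, inv_eq_self_of_orderOf_two hx.1]
    show x * τ = τ * x
    calc x * τ = (τ * x * τ⁻¹) * τ := by rw [h5]
      _ = τ * x := by group
  have hsub : ∀ H : Subgroup ↥(T : Subgroup G), Nat.card H = 2 →
      H = Subgroup.zpowers (⟨x, hxT⟩ : ↥(T : Subgroup G)) := by
    intro H hH
    obtain ⟨h, hh⟩ := exists_prime_orderOf_dvd_card' (G := H) 2 (by rw [hH])
    have h1 : orderOf (((h : ↥(T : Subgroup G)) : G)) = 2 := by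
      rw [Subgroup.orderOf_coe, Subgroup.orderOf_coe]; exact hh
    have h2 : (((h : ↥(T : Subgroup G)) : G)) = x := hTu _ (h : ↥(T : Subgroup G)).2 h1
    have h3 : (⟨x, hxT⟩ : ↥(T : Subgroup G)) ∈ H := by
      have h4 : (h : ↥(T : Subgroup G)) = ⟨x, hxT⟩ := Subtype.ext h2
      rw [← h4]; exact h.2
    symm
    apply Subgroup.eq_of_le_of_card_ge (Subgroup.zpowers_le.mpr h3)
    rw [hH, Nat.card_zpowers, Subgroup.orderOf_mk, hx.1]
  have hO' : ∀ N : Subgroup G, N.Normal → Odd (Nat.card N) → N = ⊥ := by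
    intro N hN hodd
    have h3 := le_pPrimeCore_h18 hN (Nat.coprime_two_right.mpr hodd)
    rwa [hO, le_bot_iff] at h3
  have hcentral : Nat.card (Subgroup.center G) = 2 → x * g * x⁻¹ * g⁻¹ ∈ Cfsg.pPrimeCore 2 G := by
    intro hc
    obtain ⟨z, hz⟩ := exists_prime_orderOf_dvd_card' (G := Subgroup.center G) 2 (by rw [hc])
    have hz2 : orderOf (z : G) = 2 := by rw [Subgroup.orderOf_coe]; exact hz
    have hzc : (z : G) ∈ Subgroup.center G := z.2
    rw [Subgroup.mem_center_iff] at hzc
    have hzx : (z : G) = x := huniq _ hz2 (hzc x)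
    have h5 : g * x * g⁻¹ = x := by
      rw [← hzx, hzc g]; group
    rw [zs_comm_eq_one_of_conj_eq hx.1 g h5]
    exact Subgroup.one_mem _
  rcases Cfsg.Agent.Lib.Helper1.cyclic_or_quaternion_of_unique (P := ↥(T : Subgroup G))
      T.isPGroup' (fun H K hH hK => (hsub H hH).trans (hsub K hK).symm) with hcyc | ⟨n, ⟨e⟩⟩
  · exact zs_cyclic_sylow T hcyc h2G x g
  · cases n with
    | zero =>
      have e' : ↥(T : Subgroup G) ≃* QuaternionGroup 1 := e
      haveI := QuaternionGroup.quaternionGroup_one_isCyclic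
      have hcyc : IsCyclic ↥(T : Subgroup G) :=
        isCyclic_of_surjective e'.symm e'.symm.surjective
      exact zs_cyclic_sylow T hcyc h2G x g
    | succ n =>
      cases n with
      | zero =>
        have e' : ↥(T : Subgroup G) ≃* QuaternionGroup 2 := e
        by_cases hnc : ∀ N : Subgroup G, N.Normal → ¬ Subgroup.IsComplement' N (T : Subgroup G)
        · exfalso
          obtain ⟨χ, hχ, hχt⟩ := hQ8 G T e' hnc
          exact hχ (zs_eq_triv_of_mem_ker hgen χ (hχt x hx.1))
        · push Not at hnc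
          obtain ⟨N, hN, hcomp⟩ := hnc
          have hNodd : Odd (Nat.card N) := by
            have h1 : (T : Subgroup G).index = Nat.card N := hcomp.index_eq_card
            have h3 : ¬ 2 ∣ Nat.card N := by
              rw [← h1]; exact T.not_dvd_index
            exact Nat.odd_iff.mpr (Nat.two_dvd_ne_zero.mp h3)
          have hNbot := hO' N hN hNodd
          rw [hNbot] at hcomp
          have hTtop : (T : Subgroup G) = ⊤ := Subgroup.isComplement'_bot_left.mp hcomp
          have h5 : g * x * g⁻¹ = x := by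
            apply hTu
            · rw [hTtop]; exact Subgroup.mem_top _
            · rw [orderOf_conj_h18]; exact hx.1
          rw [zs_comm_eq_one_of_conj_eq hx.1 g h5]
          exact Subgroup.one_mem _
      | succ m =>
        exact hcentral (Cfsg.Agent.S0847.result T m e hO')

/-- Glauberman's `Z*`-theorem from the `Q8` hypothesis. -/
theorem zs_main_q8.{u} (hQ8 : Q8Hyp.{u}) : ∀ (n : ℕ) (G : Type u) [Group G] [Finite G],
    Nat.card G = n → ∀ x : G, Cfsg.IsIsolatedInvolution x → ∀ g : G,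
    x * g * x⁻¹ * g⁻¹ ∈ Cfsg.pPrimeCore 2 G := by
  intro n
  induction n using Nat.strong_induction_on with
  | _ n ih =>
  intro G _ _ hn x hx g
  by_cases hO : Cfsg.pPrimeCore 2 G = ⊥
  · suffices h : x * g * x⁻¹ * g⁻¹ = 1 by rw [h]; exact Subgroup.one_mem _
    by_cases hgen : Subgroup.normalClosure ({x} : Set G) = ⊤
    · by_cases hZ : ∃ z ∈ Subgroup.center G, orderOf z = 2
      · obtain ⟨z, hzc, hz2⟩ := hZ
        by_cases hzx : z = x
        · rw [hzx, Subgroup.mem_center_iff] at hzc
          apply zs_comm_eq_one_of_conj_eq hx.1 g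
          rw [hzc g]; group
        · haveI : (Subgroup.zpowers z).Normal := zs_zpowers_normal hzc
          have hne : Subgroup.zpowers z ≠ ⊥ := by
            intro h
            have h1 : z ∈ Subgroup.zpowers z := Subgroup.mem_zpowers z
            rw [h, Subgroup.mem_bot] at h1
            exact ne_one_of_orderOf_two hz2 h1
          exact zs_of_central_involution hx hO hzc hz2 hzx
            (fun y hy g' => ih _ (hn ▸ zs_card_quotient_lt _ hne) (G ⧸ Subgroup.zpowers z) rfl y hy g') g
      · push Not at hZ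
        have hZ' : ∀ z : G, orderOf z = 2 → z ∉ Subgroup.center G := fun z hz hzc => hZ z hzc hz
        have IH : ZsIH G := fun H hH y hy g' =>
          ih _ (hn ▸ zs_card_subgroup_lt H hH) ↥H rfl y hy g'
        by_cases hσ : ∃ σ : G, orderOf σ = 2 ∧ Commute x σ ∧ σ ≠ x
        · obtain ⟨σ, hσ2, hσc, hσne⟩ := hσ
          exact (zs_char_contra hx hσ2 hσc hσne hZ' IH hgen).elim
        · push Not at hσ
          have h1 := zs_rank_one_q8 hQ8 hx hO hσ hgen g
          rwa [hO, Subgroup.mem_bot] at h1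
    · exact zs_of_normalClosure hx hO
        (fun y hy g' => ih _ (hn ▸ zs_card_subgroup_lt _ hgen) _ rfl y hy g') g
  · haveI := pPrimeCore_normal_h18 2 G
    exact zs_of_quotient hx
      (fun y hy g' => ih _ (hn ▸ zs_card_quotient_lt _ hO) (G ⧸ Cfsg.pPrimeCore 2 G) rfl y hy g') g

/-- (g4) the Brauer--Suzuki theorem (statement S0201 for all finite groups of a universe) from
the fused `Q8` case. -/
theorem bs_of_q8.{u} (hQ8 : Q8Hyp.{u}) : BSHyp.{u} := by
  intro H _ _ S n e hO
  cases n with
  | zero =>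
    haveI : NeZero (2 : ℕ) := ⟨by norm_num⟩
    have e' : ↥(S : Subgroup H) ≃* QuaternionGroup 2 := e
    obtain ⟨z, hz2, hzS, -, hconj, -, hiso, -⟩ := q8_g1 S e'
    have hObot : Cfsg.pPrimeCore 2 H = ⊥ :=
      hO _ (pPrimeCore_normal_h18 2 H)
        (Nat.coprime_two_right.mp (pPrimeCore_card_coprime_h18 2))
    have hzc : ∀ g : H, g * z * g⁻¹ = z := by
      intro g
      have h1 := zs_main_q8 hQ8 _ H rfl z hiso g
      rw [hObot, Subgroup.mem_bot, zs_comm_eq_mul_conj hz2] at h1
      have h2 : g * z * g⁻¹ = z⁻¹ := eq_inv_of_mul_eq_one_right h1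
      rw [h2, inv_eq_self_of_orderOf_two hz2]
    have huniq : ∀ t u : H, orderOf t = 2 → orderOf u = 2 → t = u := by
      have h1 : ∀ t : H, orderOf t = 2 → t = z := by
        intro t ht
        obtain ⟨c, hc⟩ := isConj_iff.mp (hconj t ht)
        rw [← hc, hzc c]
      intro t u ht hu
      rw [h1 t ht, h1 u hu]
    exact quat_center_card' (le_refl 2) S e' hO huniq
  | succ m =>
    exact Cfsg.Agent.S0847.result S m e hO

end Cfsg.Agent.Lib.Helper18.BSQ8
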