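import Mathlib
import Cfsg.Agent.Lib.Helper18.REELA.Defs
import Cfsg.Agent.Lib.Helper25.REELA06
import Cfsg.Agent.Lib.Helper25.REELA07

/-!
# Project REE, block LA, row LA07 (helper18 copy, own name `la_commutant_ker_h18`; the verbatim
`la_commutant_ker` is helper25's, re-exported through the import of `Helper25.REELA07`)
-/

set_option autoImplicit false

namespace Cfsg.Agent.Lib.helper7.REE

open Matrix Polynomial

section general

variable {F : Type*} [Field F] {V : Type*} [AddCommGroup V] [Module F V]

theorem reela07h18_commute (f g : Module.End F V) (hg : Commute g f) (s : F[X]) (x : V) :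
    g (aeval f s x) = aeval f s (g x) := by
  have h1 : Commute g (aeval f s) := by
    induction s using Polynomial.induction_on' with
    | add a b ha hb => rw [map_add]; exact ha.add_right hb
    | monomial n c =>
      rw [← C_mul_X_pow_eq_monomial, map_mul, map_pow, aeval_X, aeval_C]
      exact (Algebra.commute_algebraMap_right c g).mul_right (hg.pow_right n)
  have := congrArg (fun φ : Module.End F V => φ x) h1.eq
  simpa [Module.End.mul_apply] using this

theorem la_commutant_ker_h18 (f : Module.End F V) (p : F[X]) (hp : Irreducible p)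
    (hW : Module.finrank F (LinearMap.ker (aeval f p)) = p.natDegree)
    (g : Module.End F V) (hg : Commute g f) :
    ∃ r : F[X], ∀ x ∈ LinearMap.ker (aeval f p), g x = aeval f r x := by
  have hpos : 0 < Module.finrank F (LinearMap.ker (aeval f p)) := by
    rw [hW]; exact hp.natDegree_pos
  have : Module.Finite F (LinearMap.ker (aeval f p)) := Module.finite_of_finrank_pos hpos
  obtain ⟨v, hv⟩ := Module.finrank_pos_iff_exists_ne_zero.mp hpos
  have hv0 : (v : V) ≠ 0 := fun h => hv (Subtype.ext h)
  have hgv : g (v : V) ∈ LinearMap.ker (aeval f p) := by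
    rw [LinearMap.mem_ker, ← reela07h18_commute f g hg, LinearMap.mem_ker.mp v.2, map_zero]
  obtain ⟨r, hr⟩ := la_cyclic_ker f p hp hW v v.2 hv0 _ hgv
  refine ⟨r, fun x hx => ?_⟩
  obtain ⟨s, hs⟩ := la_cyclic_ker f p hp hW v v.2 hv0 x hx
  rw [hs, reela07h18_commute f g hg, hr, ← Module.End.mul_apply, ← Module.End.mul_apply,
    ← map_mul, ← map_mul, mul_comm]

end general

end Cfsg.Agent.Lib.helper7.REE
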