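import Mathlib
import Cfsg.Agent.Lib.Helper18.REELA.Defs
import Cfsg.Agent.Lib.helper4.REELA05
import Cfsg.Agent.Lib.Helper18.REELA07
import Cfsg.Agent.Lib.Helper25.REELA08core
import Cfsg.Agent.Lib.Helper11.REELA13

/-!
# Project REE, block LA, row LA14 (helper18): `la_abs_cyclic`
-/

set_option autoImplicit false

namespace Cfsg.Agent.Lib.helper7.REE

open Matrix Polynomial

universe v

variable {K : Type v} [Field K] [Fintype K] {V : Type*} [AddCommGroup V] [Module K V]

/-- in the field `K[X]/(p)` every non-zero element has order dividing `|K|^(deg p) - 1` -/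
theorem reela14_pow (p : K[X]) (hp : Irreducible p) (a : AdjoinRoot p) (ha : a ≠ 0) :
    a ^ (Fintype.card K ^ p.natDegree - 1) = 1 := by
  have : Fact (Irreducible p) := ⟨hp⟩
  have hfin : Module.Finite K (AdjoinRoot p) := (AdjoinRoot.powerBasis hp.ne_zero).finite
  have : Finite (AdjoinRoot p) := Module.finite_of_finite K
  have : Fintype (AdjoinRoot p) := Fintype.ofFinite _
  have hcard : Fintype.card (AdjoinRoot p) = Fintype.card K ^ p.natDegree := by
    rw [Module.card_eq_pow_finrank (K := K) (V := AdjoinRoot p),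
      (AdjoinRoot.powerBasis hp.ne_zero).finrank, AdjoinRoot.powerBasis_dim]
  rw [← hcard]
  exact FiniteField.pow_card_sub_one_eq_one a ha

theorem la_abs_cyclic (f : Module.End K V) (p : K[X]) (hs : LaSplit f p)
    {G : Type*} [Group G] [Finite G] (ρ : G →* Module.End K V) (hρ : Function.Injective ρ)
    (hcom : ∀ g, Commute (ρ g) f) (hcop : (Nat.card G).Coprime (Fintype.card K - 1)) :
    IsCyclic G ∧ ∀ g : G, g ^ (Fintype.card K ^ p.natDegree - 1) = 1 := by
  obtain ⟨θ, hθ1, hθmul, hθiff⟩ := reela08_core f p (la_ker_dvd f p hs.irr hs.deg)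
    (la_commutant_ker f p hs.irr hs.deg)
  have hfix := la_abs_fix f p hs ρ hcom hcop
  let Θ : G →* AdjoinRoot p :=
    { toFun := fun g => θ (ρ g)
      map_one' := by rw [map_one]; exact hθ1
      map_mul' := fun a b => by rw [map_mul]; exact hθmul _ _ (hcom a) (hcom b) }
  have hΘ : ∀ g, Θ g = θ (ρ g) := fun _ => rfl
  have hinj : Function.Injective Θ := by
    rw [injective_iff_map_eq_one]
    intro g hg
    apply hρ
    rw [map_one]
    have h1 : θ (ρ g) = AdjoinRoot.mk p 1 := by rw [map_one, ← hΘ]; exact hg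
    have h2 := (hθiff (ρ g) (hcom g) 1).mp h1
    apply LinearMap.ext_on_codisjoint hs.compl.codisjoint
    · intro x hx
      show ρ g x = (1 : Module.End K V) x
      rw [hfix g x hx]; rfl
    · intro x hx
      show ρ g x = (1 : Module.End K V) x
      rw [h2 x hx, map_one]
  have : Fact (Irreducible p) := ⟨hs.irr⟩
  refine ⟨isCyclic_of_injective_ringHom Θ hinj, ?_⟩
  intro g
  apply hinj
  rw [map_pow, map_one]
  apply reela14_pow p hs.irr
  intro h0
  have h1 : Θ (g * g⁻¹) = 0 := by rw [map_mul, h0, zero_mul]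
  rw [mul_inv_cancel, map_one] at h1
  exact one_ne_zero h1

end Cfsg.Agent.Lib.helper7.REE
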