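import Mathlib
import Cfsg.Agent.Lib.Helper18.REELA.Defs
import Cfsg.Agent.Lib.helper15.REELA04
import Cfsg.Agent.Lib.Helper18.REELA14

/-!
# Project REE, block LA, row LA18 (helper18, landed since main had none): `la_cent_cyclic`
-/

set_option autoImplicit false

namespace Cfsg.Agent.Lib.helper7.REE

open Matrix Polynomial

universe v

variable {K : Type v} [Field K] [Fintype K]

theorem la_cent_cyclic (l : ℕ) (hl : l.Prime) (h6 : l ∣ Fintype.card K ^ 6 - 1)
    (hmin : ∀ i, 0 < i → i < 6 → ¬ l ∣ Fintype.card K ^ i - 1) (hlK : ¬ l ∣ Fintype.card K)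
    (M : GL (Fin 7) K) (hM : orderOf M = l)
    (C : Subgroup (GL (Fin 7) K)) [Finite C] (hC : ∀ c ∈ C, c * M = M * c)
    (hcop : (Nat.card C).Coprime (Fintype.card K - 1)) :
    IsCyclic C ∧ ∀ c ∈ C, c ^ (Fintype.card K ^ 6 - 1) = 1 := by
  obtain ⟨p, hdeg, hs⟩ := la_split l hl h6 hmin hlK M hM
  have hρ : Function.Injective ((laHom (Fin 7) K).comp C.subtype) :=
    (laHom_injective (Fin 7) K).comp Subtype.val_injective
  have hcom : ∀ g : C, Commute (((laHom (Fin 7) K).comp C.subtype) g) (laHom (Fin 7) K M) := by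
    intro g
    show laHom (Fin 7) K g.1 * laHom (Fin 7) K M = laHom (Fin 7) K M * laHom (Fin 7) K g.1
    rw [← map_mul, ← map_mul, hC g.1 g.2]
  obtain ⟨h1, h2⟩ := la_abs_cyclic (laHom (Fin 7) K M) p hs ((laHom (Fin 7) K).comp C.subtype)
    hρ hcom hcop
  refine ⟨h1, fun c hc => ?_⟩
  have := h2 ⟨c, hc⟩
  rw [hdeg] at this
  exact congrArg Subtype.val this

end Cfsg.Agent.Lib.helper7.REE
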