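import Mathlib
import Cfsg.Agent.Lib.Helper18.REELA.Defs
import Cfsg.Agent.Lib.helper4.REELA05
import Cfsg.Agent.Lib.Helper18.REELA07
import Cfsg.Agent.Lib.Helper25.REELA10
import Cfsg.Agent.Lib.helper3.REELA09
import Cfsg.Agent.Lib.Helper5.REELA11core
import Cfsg.Agent.Lib.Helper11.REELA13
import Cfsg.Agent.Lib.Helper24.REELA15core

/-!
# Project REE, block LA, row LA20 (helper18): `la_abs_norm`
-/

set_option autoImplicit false

namespace Cfsg.Agent.Lib.helper7.REE

open Matrix Polynomial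

universe v

variable {K : Type v} [Field K] [Fintype K] {V : Type*} [AddCommGroup V] [Module K V]

omit [Fintype K] in
/-- polynomials in `f` preserve `ker p(f)` -/
theorem reela20_aeval_mem (f : Module.End K V) (p r : K[X]) (x : V)
    (hx : x ∈ LinearMap.ker (aeval f p)) : aeval f r x ∈ LinearMap.ker (aeval f p) := by
  rw [LinearMap.mem_ker] at hx ⊢
  have h : aeval f p * aeval f r = aeval f r * aeval f p := by
    rw [← map_mul, ← map_mul, mul_comm]
  have h2 : (aeval f p * aeval f r) x = 0 := by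
    rw [h, Module.End.mul_apply, hx, map_zero]
  exact h2

theorem la_abs_norm [Module.Finite K V] (f : Module.End K V) (p : K[X]) (hs : LaSplit f p)
    {G : Type*} [Group G] [Finite G] (ρ : G →* Module.End K V) (hρ : Function.Injective ρ)
    (hcom : ∀ g, Commute (ρ g) f) (hcop : (Nat.card G).Coprime (Fintype.card K - 1))
    (g₀ : G) (hg₀ : ρ g₀ = f)
    (N N' : Module.End K V) (hNN' : N * N' = 1) (hN'N : N' * N = 1)
    (σ : G → G) (hσ : ∀ g, N * ρ g * N' = ρ (σ g)) :
    ∃ i, i < p.natDegree ∧ ∀ g : G, σ g = g ^ (Fintype.card K ^ i) := by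
  have hfix := la_abs_fix f p hs ρ hcom hcop
  have hg₁ : N * f * N' = ρ (σ g₀) := by rw [← hg₀]; exact hσ g₀
  obtain ⟨-, hp6⟩ := reela15_core f p hs (ρ (σ g₀)) (hcom _) (hfix (σ g₀)) N N' hNN' hN'N hg₁
  have hpg : ∀ x ∈ LinearMap.ker (aeval f p), aeval (ρ (σ g₀)) p x = 0 := by
    intro x hx
    rw [← hg₁, la_aeval_conj N N' f hNN' hN'N p]
    have h2 : N' x ∈ LinearMap.ker (aeval f p) := (hp6 x hx).2
    show N (aeval f p (N' x)) = 0
    rw [LinearMap.mem_ker.mp h2, map_zero]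
  obtain ⟨i, hi, hfrob⟩ := la_conj_frob_ker_core f p (la_ker_dvd f p hs.irr hs.deg)
    (la_root_frob p hs.irr) (fun W g h => la_agree W g h) (ρ (σ g₀))
    (la_commutant_ker f p hs.irr hs.deg (ρ (σ g₀)) (hcom _)) hpg
  refine ⟨i, hi, fun g => ?_⟩
  apply hρ
  obtain ⟨r, hr⟩ := la_commutant_ker f p hs.irr hs.deg (ρ g) (hcom g)
  apply LinearMap.ext_on_codisjoint hs.compl.codisjoint
  · intro x hx
    show ρ (σ g) x = ρ (g ^ (Fintype.card K ^ i)) x
    rw [hfix _ x hx, hfix _ x hx]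
  · intro x hx
    show ρ (σ g) x = ρ (g ^ (Fintype.card K ^ i)) x
    have hN'x : N' x ∈ LinearMap.ker (aeval f p) := (hp6 x hx).2
    -- the Frobenius power of `f` preserves `W`
    have hFW : ∀ y ∈ LinearMap.ker (aeval f p),
        (f ^ (Fintype.card K ^ i)) y ∈ LinearMap.ker (aeval f p) := by
      intro y hy
      have := reela20_aeval_mem f p (X ^ (Fintype.card K ^ i)) y hy
      rwa [map_pow, aeval_X] at this
    have h1 : ρ (σ g) x = aeval (ρ (σ g₀)) r x := by
      rw [← hσ g, ← hg₁, la_aeval_conj N N' f hNN' hN'N r]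
      show N (ρ g (N' x)) = N (aeval f r (N' x))
      rw [hr _ hN'x]
    have h2 : aeval (ρ (σ g₀)) r x = aeval (f ^ (Fintype.card K ^ i)) r x :=
      (la_agree (LinearMap.ker (aeval f p)) (ρ (σ g₀)) (f ^ (Fintype.card K ^ i)) hFW hfrob).2
        r x hx
    have h3 : aeval (f ^ (Fintype.card K ^ i)) r x = ((aeval f r) ^ (Fintype.card K ^ i)) x := by
      rw [la_aeval_frob]
    have h4 : ((ρ g) ^ (Fintype.card K ^ i)) x = ((aeval f r) ^ (Fintype.card K ^ i)) x :=
      (la_agree (LinearMap.ker (aeval f p)) (ρ g) (aeval f r)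
        (fun y hy => reela20_aeval_mem f p r y hy) hr).1 _ x hx
    rw [h1, h2, h3, ← h4, map_pow]

end Cfsg.Agent.Lib.helper7.REE
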