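import Mathlib
import Cfsg.Agent.Lib.helper2.S91Defs

set_option autoImplicit false

namespace Cfsg.Agent.Lib.helper2.S91
open Subgroup

/-- abstract independence: commuting operators `Y`, `Z` on an abelian group without `p`-torsion, `Z ^ p = 1`,
`Z` fixed-point-free: the fixed spaces of `Y * Z ^ j`, `j < p`, are independent. -/
theorem h18_indep_abstract {A : Type*} [AddCommGroup A] (p : ℕ) [Fact p.Prime]
    (Y Z : Module.End ℤ A) (hc : Commute Y Z) (hZp : Z ^ p = 1)
    (hfix : ∀ w : A, Z w = w → w = 0) (htors : ∀ w : A, p • w = 0 → w = 0)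
    (h : Fin p → A) (hh : ∀ j : Fin p, (Y * Z ^ (j : ℕ)) (h j) = h j)
    (hsum : ∑ j, h j = 0) (k : Fin p) : h k = 0 := by
  have hp := (Fact.out : p.Prime)
  set E : Module.End ℤ A := ∑ i ∈ Finset.range p, (Y * Z ^ (k : ℕ)) ^ i with hE
  have hfixpow : ∀ (T : Module.End ℤ A) (w : A), T w = w → ∀ i : ℕ, (T ^ i) w = w := by
    intro T w hT i
    induction i with
    | zero => simp
    | succ i ih => rw [pow_succ, Module.End.mul_apply, hT, ih]
  -- E on h k
  have hEk : E (h k) = p • h k := by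
    rw [hE, LinearMap.sum_apply]
    rw [Finset.sum_congr rfl (fun i _ => hfixpow _ _ (hh k) i)]
    simp
  -- E on h j, j ≠ k
  have hEj : ∀ j : Fin p, j ≠ k → E (h j) = 0 := by
    intro j hjk
    set m : ℕ := (k : ℕ) + (p - (j : ℕ)) with hm
    have hjp : (j : ℕ) < p := j.2
    have hkp : (k : ℕ) < p := k.2
    have hYU : Y * Z ^ (k : ℕ) = Z ^ m * (Y * Z ^ (j : ℕ)) := by
      have h1 : Z ^ m * (Y * Z ^ (j : ℕ)) = Y * (Z ^ m * Z ^ (j : ℕ)) := by
        rw [← mul_assoc, ← mul_assoc, (hc.pow_right m).eq]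
      rw [h1, ← pow_add, hm]
      have : (k : ℕ) + (p - (j : ℕ)) + (j : ℕ) = (k : ℕ) + p := by omega
      rw [this, pow_add, hZp, mul_one]
    have hcomm2 : Commute (Z ^ m) (Y * Z ^ (j : ℕ)) :=
      ((hc.pow_right m).symm.mul_right ((Commute.refl Z).pow_pow m j))
    have hTi : ∀ i : ℕ, ((Y * Z ^ (k : ℕ)) ^ i) (h j) = ((Z ^ m) ^ i) (h j) := by
      intro i
      rw [hYU, hcomm2.mul_pow, Module.End.mul_apply, hfixpow _ _ (hh j) i]
    set v : A := (∑ i ∈ Finset.range p, (Z ^ m) ^ i) (h j) with hv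
    have hEv : E (h j) = v := by
      rw [hE, hv, LinearMap.sum_apply, LinearMap.sum_apply]
      exact Finset.sum_congr rfl (fun i _ => hTi i)
    have hZmv : (Z ^ m) v = v := by
      have h1 : (Z ^ m - 1) * ∑ i ∈ Finset.range p, (Z ^ m) ^ i = 0 := by
        rw [mul_geom_sum, ← pow_mul, mul_comm, pow_mul, hZp, one_pow, sub_self]
      have h2 : ((Z ^ m - 1) * ∑ i ∈ Finset.range p, (Z ^ m) ^ i) (h j) = 0 := by
        rw [h1]; rfl
      rw [Module.End.mul_apply, ← hv, LinearMap.sub_apply, Module.End.one_apply, sub_eq_zero] at h2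
      exact h2
    have hZpv : (Z ^ p) v = v := by rw [hZp]; rfl
    have hcop : Nat.gcd m p = 1 := by
      have : ¬ p ∣ m := by
        rintro ⟨t, ht⟩
        have hjk' : (j : ℕ) ≠ (k : ℕ) := fun h => hjk (Fin.ext h)
        rcases t with _ | _ | t
        · omega
        · omega
        · have : p * (t + 1 + 1) = p * t + p + p := by ring
          omega
      exact Nat.Coprime.symm ((Nat.Prime.coprime_iff_not_dvd hp).mpr this)
    have hper : Function.IsPeriodicPt (⇑Z) (Nat.gcd m p) v := by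
      apply Function.IsPeriodicPt.gcd
      · rw [Function.IsPeriodicPt, Function.IsFixedPt, ← Module.End.pow_apply]; exact hZmv
      · rw [Function.IsPeriodicPt, Function.IsFixedPt, ← Module.End.pow_apply]; exact hZpv
    rw [hcop] at hper
    have hZv : Z v = v := by
      have := hper
      rwa [Function.IsPeriodicPt, Function.IsFixedPt, Function.iterate_one] at this
    rw [hEv]
    exact hfix v hZv
  have h3 : E (∑ j, h j) = 0 := by rw [hsum, map_zero]
  rw [map_sum, Finset.sum_eq_single k (fun j _ hjk => hEj j hjk) (fun hk => absurd (Finset.mem_univ k) hk),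
    hEk] at h3
  exact htors _ h3


/-- the counting form of `h18_indep_abstract` -/
theorem h18_indep_card {A : Type*} [AddCommGroup A] [Finite A] (p : ℕ) [Fact p.Prime]
    (Y Z : Module.End ℤ A) (hc : Commute Y Z) (hZp : Z ^ p = 1)
    (hfix : ∀ w : A, Z w = w → w = 0) (htors : ∀ w : A, p • w = 0 → w = 0) :
    ∏ j ∈ Finset.range p, Nat.card {w : A // (Y * Z ^ j) w = w} ≤ Nat.card A := by
  rw [Finset.prod_range, ← Nat.card_pi]
  apply Nat.card_le_card_of_injective
    (fun w : (∀ j : Fin p, {w : A // (Y * Z ^ (j : ℕ)) w = w}) => ∑ j, (w j : A))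
  intro w w' hww
  funext k
  apply Subtype.ext
  have := h18_indep_abstract p Y Z hc hZp hfix htors (fun j => (w j : A) - (w' j : A)) ?_ ?_ k
  · exact sub_eq_zero.mp this
  · intro j
    rw [map_sub, (w j).2, (w' j).2]
  · rw [Finset.sum_sub_distrib]
    exact sub_eq_zero.mpr hww

/-- conjugation by a normalizing element, as an endomorphism of `↥K` -/
def h18conj {G : Type*} [Group G] (K : Subgroup G) (g : G) (hg : g ∈ normalizer (K : Set G)) :
    ↥K →* ↥K where
  toFun k := ⟨g * k * g⁻¹, (mem_normalizer_iff.mp hg k).mp k.2⟩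
  map_one' := by ext; simp
  map_mul' a b := by ext; simp [mul_assoc]


/-- S91-IND -/
theorem indep {G : Type*} [Group G] [Finite G] (p : ℕ) [Fact p.Prime] (K : Subgroup G)
    (hab : ∀ a ∈ K, ∀ b ∈ K, a * b = b * a) (hK : (Nat.card K).Coprime p) (y z : G)
    (hy : y ∈ normalizer (K : Set G)) (hz : z ∈ normalizer (K : Set G))
    (hcomm : ∀ k ∈ K, (y * z) * k * (y * z)⁻¹ = (z * y) * k * (z * y)⁻¹)
    (hzp : ∀ k ∈ K, z ^ p * k = k * z ^ p) (hfix : K ⊓ centralizer {z} = ⊥) :
    ∏ j ∈ Finset.range p, Nat.card ↥(K ⊓ centralizer {y * z ^ j}) ≤ Nat.card K := by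
  have hp := (Fact.out : p.Prime)
  let _ : CommGroup ↥K :=
    { (inferInstance : Group ↥K) with mul_comm := fun a b => Subtype.ext (hab a a.2 b b.2) }
  let Y : Module.End ℤ (Additive ↥K) := (MonoidHom.toAdditive (h18conj K y hy)).toIntLinearMap
  let Z : Module.End ℤ (Additive ↥K) := (MonoidHom.toAdditive (h18conj K z hz)).toIntLinearMap
  have hYa : ∀ k : ↥K, Y (Additive.ofMul k) = Additive.ofMul (h18conj K y hy k) := fun k => rfl
  have hZa : ∀ k : ↥K, Z (Additive.ofMul k) = Additive.ofMul (h18conj K z hz k) := fun k => rfl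
  have hZpow : ∀ (j : ℕ) (k : ↥K),
      ((Additive.toMul ((Z ^ j) (Additive.ofMul k)) : ↥K) : G) = z ^ j * k * (z ^ j)⁻¹ := by
    intro j
    induction j with
    | zero => intro k; simp
    | succ j ih =>
      intro k
      rw [pow_succ', Module.End.mul_apply]
      have h1 : (Z ^ j) (Additive.ofMul k) =
          Additive.ofMul (Additive.toMul ((Z ^ j) (Additive.ofMul k))) := rfl
      rw [h1, hZa]
      simp only [toMul_ofMul, h18conj, MonoidHom.coe_mk, OneHom.coe_mk, ih k]
      simp [pow_succ', mul_assoc]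
  have hc : Commute Y Z := by
    apply LinearMap.ext
    intro w
    obtain ⟨k, rfl⟩ : ∃ k : ↥K, Additive.ofMul k = w := ⟨Additive.toMul w, rfl⟩
    rw [Module.End.mul_apply, Module.End.mul_apply, hZa, hYa, hYa, hZa]
    congr 1
    apply Subtype.ext
    simp only [h18conj, MonoidHom.coe_mk, OneHom.coe_mk]
    have := hcomm k k.2
    simpa [mul_assoc] using this
  have hZp : Z ^ p = 1 := by
    apply LinearMap.ext
    intro w
    obtain ⟨k, rfl⟩ : ∃ k : ↥K, Additive.ofMul k = w := ⟨Additive.toMul w, rfl⟩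
    rw [Module.End.one_apply]
    apply Additive.toMul.injective
    apply Subtype.ext
    rw [hZpow p k, toMul_ofMul, hzp k k.2, mul_inv_cancel_right]
  have hfixZ : ∀ w : Additive ↥K, Z w = w → w = 0 := by
    intro w hw
    obtain ⟨k, rfl⟩ : ∃ k : ↥K, Additive.ofMul k = w := ⟨Additive.toMul w, rfl⟩
    rw [hZa] at hw
    have h1 : h18conj K z hz k = k := Additive.ofMul.injective hw
    have h2 : z * (k : G) * z⁻¹ = k := congrArg Subtype.val h1
    have h3 : (k : G) ∈ K ⊓ centralizer {z} := by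
      refine mem_inf.mpr ⟨k.2, ?_⟩
      rw [mem_centralizer_singleton_iff]
      exact (mul_inv_eq_iff_eq_mul.mp h2).symm
    rw [hfix, mem_bot] at h3
    have h4 : k = 1 := Subtype.ext h3
    rw [h4]; rfl
  have htors : ∀ w : Additive ↥K, p • w = 0 → w = 0 := by
    intro w hw
    obtain ⟨k, rfl⟩ : ∃ k : ↥K, Additive.ofMul k = w := ⟨Additive.toMul w, rfl⟩
    have h1 : k ^ p = 1 := by
      have : Additive.ofMul (k ^ p) = 0 := by rw [ofMul_pow]; exact hw
      exact Additive.ofMul.injective this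
    have h2 : orderOf k ∣ p := orderOf_dvd_of_pow_eq_one h1
    have h3 : orderOf k ∣ Nat.card ↥K := orderOf_dvd_natCard k
    have h4 : orderOf k ∣ 1 := by
      have := Nat.dvd_gcd h3 h2
      rwa [Nat.Coprime.gcd_eq_one hK] at this
    have h5 : k = 1 := orderOf_eq_one_iff.mp (Nat.dvd_one.mp h4)
    rw [h5]; rfl
  have hYZ : ∀ (j : ℕ) (k : ↥K), ((Additive.toMul ((Y * Z ^ j) (Additive.ofMul k)) : ↥K) : G) =
      y * (z ^ j * k * (z ^ j)⁻¹) * y⁻¹ := by
    intro j k
    rw [Module.End.mul_apply]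
    have h1 : (Z ^ j) (Additive.ofMul k) =
        Additive.ofMul (Additive.toMul ((Z ^ j) (Additive.ofMul k))) := rfl
    rw [h1, hYa]
    simp only [toMul_ofMul, h18conj, MonoidHom.coe_mk, OneHom.coe_mk, hZpow j k]
  have hmem : ∀ (j : ℕ) (k : ↥K), (Y * Z ^ j) (Additive.ofMul k) = Additive.ofMul k ↔
      (k : G) ∈ centralizer {y * z ^ j} := by
    intro j k
    rw [mem_centralizer_singleton_iff]
    have h0 : y * (z ^ j * (k : G) * (z ^ j)⁻¹) * y⁻¹ = (y * z ^ j) * k * (y * z ^ j)⁻¹ := by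
      simp [mul_assoc]
    constructor
    · intro h
      have h1 := hYZ j k
      rw [h, toMul_ofMul, h0] at h1
      exact (mul_inv_eq_iff_eq_mul.mp h1.symm).symm
    · intro h
      apply Additive.toMul.injective
      apply Subtype.ext
      rw [hYZ j k, h0, toMul_ofMul]
      exact mul_inv_eq_iff_eq_mul.mpr h.symm
  have key := h18_indep_card p Y Z hc hZp hfixZ htors
  have hcardA : Nat.card (Additive ↥K) = Nat.card ↥K := rfl
  rw [hcardA] at key
  refine le_trans (le_of_eq ?_) key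
  apply Finset.prod_congr rfl
  intro j _
  apply Nat.card_congr
  exact
    { toFun := fun k => ⟨Additive.ofMul ⟨k.1, (mem_inf.mp k.2).1⟩,
        (hmem j ⟨k.1, (mem_inf.mp k.2).1⟩).mpr (mem_inf.mp k.2).2⟩
      invFun := fun w => ⟨((Additive.toMul w.1 : ↥K) : G), mem_inf.mpr ⟨(Additive.toMul w.1 : ↥K).2,
        (hmem j (Additive.toMul w.1)).mp w.2⟩⟩
      left_inv := fun k => rfl
      right_inv := fun w => rfl }

end Cfsg.Agent.Lib.helper2.S91
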