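import Mathlib
import Cfsg.Prelude.Def_Classical
import Cfsg.Prelude.Def_KGroupFacts
import Cfsg.Agent.Lib.Lead.SPN.Defs
import Cfsg.Agent.Lib.Lead.SPN.Defs2
import Cfsg.Agent.Lib.Helper18.STDR5

/-!
# Project SPN (S2096 + S2097, designer lead), row T12 (`Cov.omat_h`) (helper18), VERBATIM vs `Lead/SPN/Skel.lean.txt`.
On `Helper18.STDR5` (`M_h_fst M_h_snd M_h_nb M_h_na stdr5_M_h_of_ne`) at `R = C.rep`.
-/

set_option autoImplicit false

namespace Cfsg.Agent.Lib.Lead.SPN

open Cfsg.Agent.Lib.helper15.St2 Cfsg.Agent.Lib.helper3.STC Cfsg.Agent.Lib.Lead.STD Cfsg.Agent.Lib.Helper16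
  Cfsg.Agent.Lib.Helper1.OMP

universe u v w

namespace Cov

variable {l : ℕ} {F : Type u} [Field F] [Fintype F] {G : Type v} [Group G] (C : Cov l F G)

open Matrix in
omit [Fintype F] in
/-- the action of a torus element on the basis vectors -/
theorem spnt12_mulVec {a b : Fin l ⊕ Fin l} (hab : a ≠ b) (hab' : a ≠ ng b) (u : F) (hu : u ≠ 0) (c : Fin l ⊕ Fin l) :
    omat (C.π (C.S.h a b u)) *ᵥ ev c = dhs a b u c • ev c := by
  have e : ∀ x : Fin l ⊕ Fin l, Em C.rep.e x = x := C.rep_Em
  rw [← C.rep_M]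
  by_cases hca : c = a
  · subst hca
    have h := SysD.Rep.M_h_fst C.rep hab hab' u hu
    rw [e] at h
    rw [h]
    unfold dhs
    rw [if_pos (Or.inl rfl)]
  · by_cases hcnb : c = ng b
    · subst hcnb
      have h := SysD.Rep.M_h_nb C.rep hab hab' u hu
      rw [e] at h
      rw [h]
      unfold dhs
      rw [if_pos (Or.inr rfl)]
    · by_cases hcb : c = b
      · subst hcb
        have h := SysD.Rep.M_h_snd C.rep hab hab' u hu
        rw [e] at h
        rw [h]
        unfold dhs
        rw [if_neg (by tauto), if_pos (Or.inl rfl)]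
      · by_cases hcna : c = ng a
        · subst hcna
          have h := SysD.Rep.M_h_na C.rep hab hab' u hu
          rw [e] at h
          rw [h]
          unfold dhs
          rw [if_neg (by tauto), if_pos (Or.inr rfl)]
        · have h := SysD.Rep.stdr5_M_h_of_ne C.rep hab hab' u hu (c := c)
            (by rw [e]; exact hca) (by rw [e]; exact hcb) (by rw [e]; exact hcna) (by rw [e]; exact hcnb)
          rw [h]
          unfold dhs
          rw [if_neg (by tauto), if_neg (by tauto), one_smul]

/-- T12 [S-M]  the matrix of a torus element.  `Helper18.STDR5`: `M_h_fst M_h_snd M_h_nb M_h_na stdr5_M_h_of_ne` at `R = C.rep` (`rep_M`, `rep_Em`) give `M *ᵥ ev c = dhs a b u c • ev c`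
for every `c`; a matrix is determined by its action on the `ev c` (`Matrix.mulVec_single_one`-style; `ev c = Pi.single c 1`). -/
theorem omat_h {a b : Fin l ⊕ Fin l} (hab : a ≠ b) (hab' : a ≠ ng b) (u : F) (hu : u ≠ 0) :
    omat (C.π (C.S.h a b u)) = Matrix.diagonal (dhs a b u) := by
  ext i c
  have h := congrFun (C.spnt12_mulVec hab hab' u hu c) i
  unfold ev at h
  rw [Matrix.mulVec_single_one] at h
  rw [Matrix.col_apply] at h
  rw [h, Matrix.diagonal_apply, Pi.smul_apply, Pi.single_apply, smul_eq_mul]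
  by_cases hic : i = c
  · subst hic; simp
  · simp [hic]

end Cov

end Cfsg.Agent.Lib.Lead.SPN
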