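import Mathlib
import Cfsg.Agent.Lib.helper17.STM.Defs
import Cfsg.Agent.Lib.helper17.STM.Defs2
import Cfsg.Agent.Lib.Lead.STDB1
import Cfsg.Agent.Lib.Helper20.STMN1

/-!
# Project STM (designer helper17; family S2099), part 2, row F5 (helper18), CORE of `SysM.recell`
(port of `Helper13.STBF5`): from the statements of N6 `Yj_Pg` and F2b `NP_h` at `(o, j)`.
-/

set_option autoImplicit false

namespace Cfsg.Agent.Lib.helper17.STM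

open Cfsg.Agent.Lib.helper15.St2 Cfsg.Agent.Lib.helper3.STC Cfsg.Agent.Lib.Lead.STD

universe v w

namespace SysM

variable {F : Type*} [Field F] {A B : F} [Fact (∀ r : F, r ^ 2 ≠ -B + A * r)] {ι : Type*} [DecidableEq ι] {G : Type*} [Group G] (S : SysM F A B ι G)

section F
variable (o : ι ⊕ ι)

omit [DecidableEq ι] in
/-- the core of F5 `recell`: `hN6` is the statement of N6 `Yj_Pg` and `hF2b` that of F2b `NP_h`, at `(o, j)`. -/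
theorem stmf5_core [Finite F] {j : ι ⊕ ι} (hj : j ≠ o) (hj' : j ≠ ng o)
    (hN6 : ∀ y' ∈ S.Yj o j, ∀ s : F, ∃ y₂ ∈ S.Yg o, ∃ p ∈ S.Pg o, S.x o j s * y' = y' * y₂ * p)
    (hF2b : ∀ {t : F}, t ≠ 0 → S.NP o (S.h o j t))
    {u : F} (hu : u ≠ 0) {y' p : G} (hy' : y' ∈ S.Yj o j) (hp : p ∈ S.Phat o) :
    S.x j o u * y' * p ∈ S.cell o j := by
  have hoj : o ≠ j := hj.symm
  have hoj' : o ≠ ng j := fun h => hj' (by rw [h, ng_ng])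
  have hu' : -u⁻¹ ≠ 0 := neg_ne_zero.mpr (inv_ne_zero hu)
  have e1 : S.x j o u = S.w j o u * S.x j o (-u) * S.x o j u⁻¹ := by
    show S.x j o u = S.toSysD.w j o u * S.x j o (-u) * S.x o j u⁻¹
    unfold SysD.w
    rw [S.toSysD.x_neg j o u, S.toSysD.x_neg o j u⁻¹]
    group
  obtain ⟨y₂, hy₂, p₂, hp₂, e2⟩ := hN6 y' hy' u⁻¹
  have e3 : S.w j o u = S.w o j 1 * S.h o j (-u⁻¹)⁻¹ := by
    show S.toSysD.w j o u = S.toSysD.w o j 1 * S.toSysD.h o j (-u⁻¹)⁻¹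
    rw [S.toSysD.w_swap hoj hoj' u hu, S.toSysD.w_eq_w_one_mul_h hoj hoj' (-u⁻¹) hu']
  obtain ⟨hP, hN⟩ := hF2b (t := (-u⁻¹)⁻¹) (inv_ne_zero hu')
  have hy₃ : S.x j o (-u) * y' * y₂ ∈ S.Yg o :=
    mul_mem (mul_mem (S.x_mem_Yg o j (-u)) (S.Yj_le_Yg o j hy')) hy₂
  refine ⟨cj (S.h o j (-u⁻¹)⁻¹) (S.x j o (-u) * y' * y₂), hN _ hy₃, S.h o j (-u⁻¹)⁻¹ * (p₂ * p),
    mul_mem hP (mul_mem (S.Pg_le_Phat o hp₂) hp), ?_⟩
  calc S.x j o u * y' * p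
      = S.w o j 1 * S.h o j (-u⁻¹)⁻¹ * S.x j o (-u) * (S.x o j u⁻¹ * y') * p := by
        rw [e1, e3]; group
    _ = S.w o j 1 * cj (S.h o j (-u⁻¹)⁻¹) (S.x j o (-u) * y' * y₂) * (S.h o j (-u⁻¹)⁻¹ * (p₂ * p)) := by
        rw [e2]; unfold cj; group

end F

end SysM

end Cfsg.Agent.Lib.helper17.STM
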