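import Mathlib
import Cfsg.Agent.Lib.helper17.STM.Defs
import Cfsg.Agent.Lib.helper17.STM.Defs2
import Cfsg.Agent.Lib.Helper24.STCI1
import Cfsg.Agent.Lib.Helper20.STMN1
import Cfsg.Agent.Lib.Helper20.STMH2
import Cfsg.Agent.Lib.Helper9.STMN3
import Cfsg.Agent.Lib.Helper25.STMN6
import Cfsg.Agent.Lib.Helper18.STMF5core

/-!
# Project STM (designer helper17; family S2099), part 2, row F5 (helper18), VERBATIM vs `helper17/STM/Skel2.lean.txt`: `SysM.recell`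
= `stmf5_core` (`Helper18.STMF5core`) at N6 `Yj_Pg` (`Helper25.STMN6`) and an own-name copy `stmf5_NP_h` of F2b `NP_h` (helper5's row; on H2 `Helper20.STMH2`, N1d `Helper20.STMN1`, N3 `Helper9.STMN3`).
-/

set_option autoImplicit false

namespace Cfsg.Agent.Lib.helper17.STM

open Cfsg.Agent.Lib.helper15.St2 Cfsg.Agent.Lib.helper3.STC Cfsg.Agent.Lib.Lead.STD

universe v w

namespace SysM

variable {F : Type*} [Field F] {A B : F} [Fact (∀ r : F, r ^ 2 ≠ -B + A * r)] {ι : Type*} [DecidableEq ι] {G : Type*} [Group G] (S : SysM F A B ι G)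

section F
variable (o : ι ⊕ ι)

/-- own-name copy of F2b `NP_h` -/
theorem stmf5_NP_h [Finite F] {b : ι ⊕ ι} (hb : b ≠ o) (hb' : b ≠ ng o) {t : F} (ht : t ≠ 0) : S.NP o (S.h o b t) :=
  ⟨S.h_mem_Phat o hb hb' ht,
    SysM.IsMon.cj_mem_Yg S o (S.isMon_h (a := o) (b := b) (fun e => hb e.symm)
      (fun e => hb' (by rw [e, Cfsg.Agent.Lib.helper3.STC.ng_ng])) t ht) (Equiv.Perm.one_apply o)⟩

/-- F5 [M]  **re-celling** -/
theorem recell [Finite F] {j : ι ⊕ ι} (hj : j ≠ o) (hj' : j ≠ ng o) {u : F} (hu : u ≠ 0) {y' p : G} (hy' : y' ∈ S.Yj o j) (hp : p ∈ S.Phat o) :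
    S.x j o u * y' * p ∈ S.cell o j :=
  SysM.stmf5_core S o hj hj' (SysM.Yj_Pg S o hj hj') (fun ht => SysM.stmf5_NP_h S o hj hj' ht) hu hy' hp

end F

end SysM

end Cfsg.Agent.Lib.helper17.STM
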