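import Mathlib
import Cfsg.Agent.Lib.helper17.STM.Defs
import Cfsg.Agent.Lib.helper17.STM.Defs2
import Cfsg.Agent.Lib.helper4.STMX1
import Cfsg.Agent.Lib.Helper20.STMN1
import Cfsg.Agent.Lib.Helper5.STMN4s
import Cfsg.Agent.Lib.Helper9.STMN4a
import Cfsg.Agent.Lib.helper15.STMF6a

/-!
# Project STM (designer helper17; family S2099), part 2, row F6 (helper18), VERBATIM vs `helper17/STM/Skel2.lean.txt`:
`SysM.Yg_dich`, the dichotomy (port of `Helper13.STBF6core`): N4s, F6a at `T = Finset.univ`, N4a.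
Extras: `stmf6_Ys_le_YT`, `stmf6_YT_le_Yj`, `stmf6_xs_mem_Yj`, `stmf6_core`.
-/

set_option autoImplicit false

namespace Cfsg.Agent.Lib.helper17.STM

open Cfsg.Agent.Lib.helper15.St2 Cfsg.Agent.Lib.helper3.STC Cfsg.Agent.Lib.Lead.STD

universe v w

namespace SysM

variable {F : Type*} [Field F] {A B : F} [Fact (∀ r : F, r ^ 2 ≠ -B + A * r)] {ι : Type*} [DecidableEq ι] {G : Type*} [Group G] (S : SysM F A B ι G)

section F
variable (o : ι ⊕ ι)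

omit [DecidableEq ι] in
theorem stmf6_Ys_le_YT : S.Ys o ≤ S.YT o Set.univ := by
  unfold Ys YT
  exact S.XQ_mono (Q := fun _ b => b = o) (Q' := fun a b => b = o ∧ a ∈ (Set.univ : Set (ι ⊕ ι)))
    (Qs := fun _ => False) (Qs' := fun _ => False) (fun a b _ _ h => ⟨h, Set.mem_univ a⟩) (fun _ h => h)

omit [DecidableEq ι] in
theorem stmf6_YT_le_Yj (j : ι ⊕ ι) : S.YT o (Set.univ \ {j}) ≤ S.Yj o j := by
  unfold YT Yj
  exact S.XQ_mono (Q := fun a b => b = o ∧ a ∈ ((Set.univ : Set (ι ⊕ ι)) \ {j})) (Q' := fun a b => b = o ∧ a ≠ j)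
    (Qs := fun _ => False) (Qs' := fun a => a = ng o) (fun a b _ _ h => ⟨h.1, fun e => h.2.2 e⟩) (fun _ h => h.elim)

omit [DecidableEq ι] in
theorem stmf6_xs_mem_Yj (j : ι ⊕ ι) (u : Kq F A B) : S.xs (ng o) u ∈ S.Yj o j := by
  unfold Yj
  exact S.xs_mem_XQ (Q := fun a b => b = o ∧ a ≠ j) (Qs := fun a => a = ng o) (a := ng o) rfl u

omit [DecidableEq ι] in
/-- the core of F6: `hT` is the statement of F6a `YT_dich` for the full set. -/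
theorem stmf6_core
    (hT : ∀ y ∈ S.YT o (Set.univ : Set (ι ⊕ ι)), y = 1 ∨
      ∃ j, j ≠ o ∧ j ≠ ng o ∧ ∃ u : F, u ≠ 0 ∧ ∃ y' ∈ S.YT o ((Set.univ : Set (ι ⊕ ι)) \ {j}), y = S.x j o u * y') :
    ∀ y ∈ S.Yg o,
      (∃ j, j ≠ o ∧ j ≠ ng o ∧ ∃ u : F, u ≠ 0 ∧ ∃ y' ∈ S.Yj o j, y = S.x j o u * y') ∨ ∃ u : Kq F A B, y = S.xs (ng o) u := by
  intro y hy
  obtain ⟨u, y₁, hy₁, rfl⟩ := S.Yg_decomp_s o y hy
  rcases hT y₁ (S.stmf6_Ys_le_YT o hy₁) with h1 | ⟨j, hj, hj', u', hu', y', hy', rfl⟩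
  · right
    exact ⟨u, by rw [h1, mul_one]⟩
  · left
    refine ⟨j, hj, hj', u', hu', S.xs (ng o) u * y',
      mul_mem (S.stmf6_xs_mem_Yj o j u) (S.stmf6_YT_le_Yj o j hy'), ?_⟩
    have hc := S.Yg_comm o (S.xs (ng o) u) (S.xs_mem_Yg o u) (S.x j o u') (S.x_mem_Yg o j u')
    rw [← mul_assoc, hc, mul_assoc]

/-- F6 [S-M]  **the dichotomy** -/
theorem Yg_dich [Finite ι] : ∀ y ∈ S.Yg o,
    (∃ j, j ≠ o ∧ j ≠ ng o ∧ ∃ u : F, u ≠ 0 ∧ ∃ y' ∈ S.Yj o j, y = S.x j o u * y') ∨ ∃ u : Kq F A B, y = S.xs (ng o) u := by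
  have : Fintype ι := Fintype.ofFinite ι
  apply S.stmf6_core o
  intro y hy
  rcases S.YT_dich o (Finset.univ) y (by rwa [Finset.coe_univ]) with h | ⟨j, _, hj, hj', u, hu, y', hy', e⟩
  · left; exact h
  · right
    exact ⟨j, hj, hj', u, hu, y', by rwa [Finset.coe_univ] at hy', e⟩

end F

end SysM

end Cfsg.Agent.Lib.helper17.STM
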