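import Mathlib
import Cfsg.Agent.Lib.helper15.St2
import Cfsg.Agent.Lib.helper7.StA
import Cfsg.Agent.Lib.helper7.StC
import Cfsg.Agent.Lib.helper7.StE
import Cfsg.Agent.Lib.Helper24.STCI1
import Cfsg.Agent.Lib.helper23.STCX2
import Cfsg.Agent.Lib.Helper27.STU.Defs
import Cfsg.Agent.Lib.Helper27.STU.Defs2
import Cfsg.Agent.Lib.Helper27.STU.Defs3
import Cfsg.Agent.Lib.Helper27.STU.Sub

/-!
# Project STU (S2291, designer helper27), row R4 (`SysU.Rep.XQ_colStab`) (helper18), VERBATIM vs `Helper27/STU/Skel4.lean.txt`.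
Self-contained on the STU definitions: the facts of R1 / R3 which are used are proved under own names (`stur4_*`, EXACT statements of the Skel).
-/

set_option autoImplicit false

namespace Cfsg.Agent.Lib.Helper27.STU

open Cfsg.Agent.Lib.helper15.St2 Cfsg.Agent.Lib.helper7.St Cfsg.Agent.Lib.helper3.STC

universe u v w w₀

namespace SysU

namespace Rep

variable {F : Type*} [Field F] [StarRing F] {od : Prop} {ι : Type*} {G : Type*} [Group G] {S : SysU F od ι G}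
  {V : Type*} [AddCommGroup V] [Module F V] (R : S.Rep V)

/-! own-name copies of R1 -/

theorem stur4_B_add_right (x y z : V) : R.B x (y + z) = R.B x y + R.B x z := by
  rw [R.B_herm (y + z) x, R.B_add_left, star_add, ← R.B_herm, ← R.B_herm]

theorem stur4_B_smul_right (t : F) (x y : V) : R.B x (t • y) = star t * R.B x y := by
  rw [R.B_herm (t • y) x, R.B_smul_left, star_mul', ← R.B_herm]

theorem stur4_B_zero_left (x : V) : R.B 0 x = 0 := by
  have := R.B_smul_left 0 0 x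
  rwa [zero_smul, zero_mul] at this

theorem stur4_B_zero_right (x : V) : R.B x 0 = 0 := by
  rw [R.B_herm 0 x, stur4_B_zero_left, star_zero]

theorem stur4_B_neg_left (x z : V) : R.B (-x) z = -R.B x z := by
  have := R.B_smul_left (-1) x z
  rwa [neg_one_smul, neg_one_mul] at this

theorem stur4_B_sub_left (x y z : V) : R.B (x - y) z = R.B x z - R.B y z := by
  rw [sub_eq_add_neg, R.B_add_left, stur4_B_neg_left, ← sub_eq_add_neg]

theorem stur4_B_sub_right (x y z : V) : R.B x (y - z) = R.B x y - R.B x z := by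
  rw [R.B_herm (y - z) x, stur4_B_sub_left, star_sub, ← R.B_herm, ← R.B_herm]

theorem stur4_gram1' (a : ι ⊕ ι) : R.B (R.fr (ng a)) (R.fr a) = 1 := by
  have := R.gram1 (ng a)
  rwa [ng_ng] at this

theorem stur4_gram0' (a : ι ⊕ ι) : R.B (R.fr a) (R.fr a) = 0 := R.gram0 a a (ne_ng a)

theorem stur4_gram_d' (a : ι ⊕ ι) : R.B (R.fr a) R.dv = 0 := by
  rw [R.B_herm R.dv (R.fr a), R.gram_d, star_zero]

theorem stur4_fr_ne_zero (a : ι ⊕ ι) : R.fr a ≠ 0 := by
  intro h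
  have := R.gram1 a
  rw [h, stur4_B_zero_left] at this
  exact zero_ne_one this

theorem stur4_phi_mul_apply (g g' : G) (x : V) : R.φ (g * g') x = R.φ g (R.φ g' x) := by
  rw [map_mul]
  rfl

theorem stur4_phi_one_apply (x : V) : R.φ 1 x = x := by
  rw [map_one]
  rfl

theorem stur4_phi_inv_apply {g : G} {x x' : V} (h : R.φ g x = x') : R.φ g⁻¹ x' = x := by
  rw [← h, ← stur4_phi_mul_apply, inv_mul_cancel, stur4_phi_one_apply]

/-! own-name copies of R3 -/

theorem stur4_phi_xs_fr {a b : ι ⊕ ι} (hab : a ≠ b) (hab' : a ≠ ng b) (t : F) {c : ι ⊕ ι} (hcb : c ≠ b) (hca : c ≠ ng a) :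
    R.φ (S.xs a b t) (R.fr c) = R.fr c := by
  have h1 : R.B (R.fr c) (R.fr (ng b)) = 0 := R.gram0 c (ng b) (fun e => hcb (ng_inj.1 e).symm)
  have h2 : R.B (R.fr c) (R.fr a) = 0 := R.gram0 c a (fun e => hca (by rw [e, ng_ng]))
  rw [R.hxs a b hab hab', h1, h2, mul_zero, mul_zero, zero_smul, zero_smul, add_zero, sub_zero]

theorem stur4_phi_xs_snd {a b : ι ⊕ ι} (hab : a ≠ b) (hab' : a ≠ ng b) (t : F) :
    R.φ (S.xs a b t) (R.fr b) = R.fr b + t • R.fr a := by
  have h2 : R.B (R.fr b) (R.fr a) = 0 := R.gram0 b a hab'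
  rw [R.hxs a b hab hab', R.gram1, h2, mul_one, mul_zero, zero_smul, sub_zero]

theorem stur4_phi_xs_ng {a b : ι ⊕ ι} (hab : a ≠ b) (hab' : a ≠ ng b) (t : F) :
    R.φ (S.xs a b t) (R.fr (ng a)) = R.fr (ng a) - star t • R.fr (ng b) := by
  have h1 : R.B (R.fr (ng a)) (R.fr (ng b)) = 0 :=
    R.gram0 (ng a) (ng b) (fun e => hab' (by rw [ng_ng] at e; exact e.symm))
  rw [R.hxs a b hab hab', h1, stur4_gram1', mul_zero, mul_one, zero_smul, add_zero]

theorem stur4_phi_xs_dv {a b : ι ⊕ ι} (hab : a ≠ b) (hab' : a ≠ ng b) (t : F) : R.φ (S.xs a b t) R.dv = R.dv := by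
  rw [R.hxs a b hab hab', R.gram_d, R.gram_d, mul_zero, mul_zero, zero_smul, zero_smul, add_zero, sub_zero]

theorem stur4_phi_xl_fr (a : ι ⊕ ι) (ξ : Lam F od) {c : ι ⊕ ι} (hc : c ≠ ng a) : R.φ (S.xl a ξ) (R.fr c) = R.fr c := by
  have h2 : R.B (R.fr c) (R.fr a) = 0 := R.gram0 c a (fun e => hc (by rw [e, ng_ng]))
  rw [R.hxl, h2, stur4_gram_d', mul_zero, mul_zero, mul_zero, add_zero, zero_smul, zero_smul, add_zero, sub_zero]

theorem stur4_phi_xl_ng (a : ι ⊕ ι) (ξ : Lam F od) :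
    R.φ (S.xl a ξ) (R.fr (ng a)) = R.fr (ng a) + ξ.c • R.fr a - star ξ.v • R.dv := by
  rw [R.hxl, stur4_gram_d', stur4_gram1', mul_zero, zero_add, mul_one, mul_one]

theorem stur4_phi_xl_dv (a : ι ⊕ ι) (ξ : Lam F od) : R.φ (S.xl a ξ) R.dv = R.dv + ξ.v • R.fr a := by
  rw [R.hxl, R.gram_d, mul_zero, mul_zero, add_zero, zero_smul, sub_zero]
  by_cases hod : od
  · rw [R.gram_dd hod, mul_one]
  · rw [ξ.hv hod, zero_mul]

/-- R4 [S-M] -/
theorem XQ_colStab {Q : ι ⊕ ι → ι ⊕ ι → Prop} {c : ι ⊕ ι} (h : ∀ a b, a ≠ b → Q a b → b ≠ c ∧ ng a ≠ c) :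
    ∀ z ∈ S.XQ Q, R.φ z (R.fr c) = R.fr c := by
  intro z hz
  unfold XQ at hz
  induction hz using Subgroup.closure_induction with
  | mem g hg =>
    rcases hg with ⟨a, b, t, hab, hab', hQ, rfl⟩ | ⟨a, ξ, hQ, rfl⟩
    · obtain ⟨h1, h2⟩ := h a b hab hQ
      exact stur4_phi_xs_fr R hab hab' t h1.symm h2.symm
    · obtain ⟨h1, _⟩ := h a (ng a) (ne_ng a) hQ
      exact stur4_phi_xl_fr R a ξ h1.symm
  | one => exact stur4_phi_one_apply R _
  | mul y y' _ _ ihy ihy' => rw [stur4_phi_mul_apply, ihy', ihy]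
  | inv y _ ihy => exact stur4_phi_inv_apply R ihy

end Rep

end SysU

end Cfsg.Agent.Lib.Helper27.STU
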