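import Mathlib
import Cfsg.Agent.Lib.helper15.St2
import Cfsg.Agent.Lib.helper7.StA
import Cfsg.Agent.Lib.helper7.StC
import Cfsg.Agent.Lib.helper7.StE
import Cfsg.Agent.Lib.Helper24.STCI1
import Cfsg.Agent.Lib.helper23.STCX2
import Cfsg.Agent.Lib.Helper27.STU.Defs
import Cfsg.Agent.Lib.Helper27.STU.Defs2
import Cfsg.Agent.Lib.Helper27.STU.Defs3
import Cfsg.Agent.Lib.Helper27.STU.Sub
import Cfsg.Agent.Lib.Helper18.STUR4

/-!
# Project STU (S2291, designer helper27), row R5 (`phi_ws_fst phi_ws_snd phi_hs_fst phi_wl_fst phi_wl_snd phi_hl_fst`)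
(helper18), VERBATIM vs `Helper27/STU/Skel4.lean.txt`.  On `Helper18.STUR4` only.
-/

set_option autoImplicit false

namespace Cfsg.Agent.Lib.Helper27.STU

open Cfsg.Agent.Lib.helper15.St2 Cfsg.Agent.Lib.helper7.St Cfsg.Agent.Lib.helper3.STC

universe u v w w₀

namespace SysU

namespace Rep

variable {F : Type*} [Field F] [StarRing F] {od : Prop} {ι : Type*} {G : Type*} [Group G] {S : SysU F od ι G}
  {V : Type*} [AddCommGroup V] [Module F V] (R : S.Rep V)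

theorem stur5_ne_ng {a b : ι ⊕ ι} (h : a ≠ ng b) : b ≠ ng a := fun e => h (by rw [e, ng_ng])

/-- R5 [S-M] -/
theorem phi_ws_fst {a b : ι ⊕ ι} (hab : a ≠ b) (hab' : a ≠ ng b) (u : F) (hu : u ≠ 0) :
    R.φ (S.ws a b u) (R.fr a) = (-u⁻¹) • R.fr b := by
  have hba' := stur5_ne_ng hab'
  unfold ws
  rw [stur4_phi_mul_apply, stur4_phi_mul_apply, stur4_phi_xs_fr R hab hab' u hab (ne_ng a),
    stur4_phi_xs_snd R hab.symm hba', map_add, map_smul, stur4_phi_xs_fr R hab hab' u hab (ne_ng a),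
    stur4_phi_xs_snd R hab hab', smul_add, smul_smul]
  have e : -u⁻¹ * u = -1 := by field_simp
  rw [e]
  module

theorem phi_ws_snd {a b : ι ⊕ ι} (hab : a ≠ b) (hab' : a ≠ ng b) (u : F) (hu : u ≠ 0) :
    R.φ (S.ws a b u) (R.fr b) = u • R.fr a := by
  have hba' := stur5_ne_ng hab'
  unfold ws
  rw [stur4_phi_mul_apply, stur4_phi_mul_apply, stur4_phi_xs_snd R hab hab', map_add, map_smul,
    stur4_phi_xs_fr R hab.symm hba' _ hab.symm (ne_ng b), stur4_phi_xs_snd R hab.symm hba', smul_add, smul_smul]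
  have e : u * -u⁻¹ = -1 := by field_simp
  rw [e, map_add, map_add, map_smul, map_smul, stur4_phi_xs_snd R hab hab',
    stur4_phi_xs_fr R hab hab' u hab (ne_ng a)]
  module

theorem phi_hs_fst {a b : ι ⊕ ι} (hab : a ≠ b) (hab' : a ≠ ng b) (u : F) (hu : u ≠ 0) :
    R.φ (S.hs a b u) (R.fr a) = u • R.fr a := by
  unfold hs
  rw [stur4_phi_mul_apply, phi_ws_fst R hab hab' (-1) (by simp)]
  have e : (-(-1 : F)⁻¹) = 1 := by rw [inv_neg, inv_one, neg_neg]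
  rw [e, one_smul, phi_ws_snd R hab hab' u hu]

theorem phi_wl_fst (a : ι ⊕ ι) {ξ : Lam F od} (hc : ξ.c ≠ 0) : R.φ (S.wl a ξ) (R.fr a) = (star ξ.c)⁻¹ • R.fr (ng a) := by
  have hc' : star ξ.c ≠ 0 := fun h => hc (by simpa using congrArg star h)
  have h1 := ξ.h
  have hng := stur4_phi_xl_ng R (ng a) (Lam.mu ξ)
  rw [ng_ng] at hng
  unfold wl
  rw [stur4_phi_mul_apply, stur4_phi_mul_apply, stur4_phi_xl_fr R a _ (ne_ng a), hng, map_sub, map_add, map_smul,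
    map_smul, stur4_phi_xl_fr R a _ (ne_ng a), stur4_phi_xl_ng, stur4_phi_xl_dv]
  simp only [Lam.mu_c, Lam.mu_v, star_div₀, star_neg]
  have k1 : 1 + (star ξ.c)⁻¹ * ξ.c - (-star ξ.v / star ξ.c) * ξ.v = 0 := by
    field_simp
    linear_combination h1
  have k2 : (star ξ.c)⁻¹ * star ξ.v + (-star ξ.v / star ξ.c) = 0 := by
    field_simp
    ring
  have hE : R.fr a + (star ξ.c)⁻¹ • (R.fr (ng a) + ξ.c • R.fr a - star ξ.v • R.dv) -
      (-star ξ.v / star ξ.c) • (R.dv + ξ.v • R.fr a) =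
      (1 + (star ξ.c)⁻¹ * ξ.c - (-star ξ.v / star ξ.c) * ξ.v) • R.fr a + (star ξ.c)⁻¹ • R.fr (ng a) -
        ((star ξ.c)⁻¹ * star ξ.v + (-star ξ.v / star ξ.c)) • R.dv := by
    module
  rw [hE, k1, k2, zero_smul, zero_smul, zero_add, sub_zero]

theorem phi_wl_snd (a : ι ⊕ ι) {ξ : Lam F od} (hc : ξ.c ≠ 0) : R.φ (S.wl a ξ) (R.fr (ng a)) = ξ.c • R.fr a := by
  have hc' : star ξ.c ≠ 0 := fun h => hc (by simpa using congrArg star h)
  have h1 := ξ.h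
  have hng := stur4_phi_xl_ng R (ng a) (Lam.mu ξ)
  rw [ng_ng] at hng
  have hfix : R.φ (S.xl (ng a) (Lam.mu ξ)) (R.fr (ng a)) = R.fr (ng a) :=
    stur4_phi_xl_fr R (ng a) _ (by rw [ng_ng]; exact (ne_ng a).symm)
  unfold wl
  rw [stur4_phi_mul_apply, stur4_phi_mul_apply, stur4_phi_xl_ng, map_sub, map_add, map_smul, map_smul, hfix, hng,
    stur4_phi_xl_dv]
  simp only [Lam.mu_c, Lam.mu_v, Lam.nu_c, Lam.nu_v, star_div₀, star_neg, star_mul', star_star]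
  have k1 : 1 + ξ.c * (star ξ.c)⁻¹ - (star ξ.v * ξ.c / star ξ.c) * (-ξ.v / ξ.c) = 0 := by
    field_simp
    linear_combination h1
  have k2 : ξ.c * (-star ξ.v / star ξ.c) + star ξ.v * ξ.c / star ξ.c = 0 := by
    field_simp
    ring
  have hE : R.fr (ng a) + ξ.c • (R.fr a + (star ξ.c)⁻¹ • R.fr (ng a) - (-star ξ.v / star ξ.c) • R.dv) -
      (star ξ.v * ξ.c / star ξ.c) • (R.dv + (-ξ.v / ξ.c) • R.fr (ng a)) =
      (1 + ξ.c * (star ξ.c)⁻¹ - (star ξ.v * ξ.c / star ξ.c) * (-ξ.v / ξ.c)) • R.fr (ng a) + ξ.c • R.fr a -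
        (ξ.c * (-star ξ.v / star ξ.c) + star ξ.v * ξ.c / star ξ.c) • R.dv := by
    module
  rw [hE, k1, k2, zero_smul, zero_smul, zero_add, sub_zero, map_smul, stur4_phi_xl_fr R a _ (ne_ng a)]

theorem phi_hl_fst (a : ι ⊕ ι) {ξ η : Lam F od} (hξ : ξ.c ≠ 0) (hη : η.c ≠ 0) :
    R.φ (S.hl a ξ η) (R.fr a) = (ξ.c / η.c) • R.fr a := by
  have h1 : R.φ (S.wl a η) (η.c⁻¹ • R.fr (ng a)) = R.fr a := by
    rw [map_smul, phi_wl_snd R a hη, smul_smul, inv_mul_cancel₀ hη, one_smul]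
  unfold hl
  rw [stur4_phi_mul_apply, stur4_phi_inv_apply R h1, map_smul, phi_wl_snd R a hξ, smul_smul]
  congr 1
  field_simp

end Rep

end SysU

end Cfsg.Agent.Lib.Helper27.STU
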