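import Mathlib
import Cfsg.Agent.Lib.Helper10.TEM.Defs
import Cfsg.Agent.Lib.helper8.ChevTw7
import Cfsg.Agent.Lib.helper8.ChevTwP3

/-!
# Project TEM = S2191 (designer helper10), row A4 (helper18), VERBATIM: `XS_comm_a`, `XS_comm_other`
the commutator of a short root element `XS q r t` of level 1 with `X a 1` on `shortTriples`.
-/

set_option autoImplicit false

namespace Cfsg.Agent.Lib.Helper10.TEM

open Cfsg.Lie Cfsg.Lie.ChevalleyDatum Matrix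
open Cfsg.Agent.Lib.helper8

universe u

variable {K : Type u} [Field K] {q : ℕ} {f : K ≃+* K} {M H : Subgroup (GG K)}

/-- the group-theoretic core of A4 -/
theorem tema4_alg {G : Type*} [Group G] (x y A X1 Y1 Z : G)
    (hxA : x * A = A * x * X1) (hyA : y * A = A * y * Y1)
    (hyY1 : Commute y Y1) (hxX1 : Commute x X1) (hxY1 : x * Y1 = Y1 * x * Z)
    (hZx : Commute Z x) (hAX1 : Commute A X1) (hAY1 : Commute A Y1) (hAZ : Commute A Z) :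
    x * y * A * (x * y)⁻¹ * A⁻¹ = X1 * Y1 * Z := by
  have c1 : y * A * y⁻¹ = A * Y1 := by
    calc y * A * y⁻¹ = A * y * Y1 * y⁻¹ := by rw [hyA]
      _ = A * (y * Y1) * y⁻¹ := by group
      _ = A * (Y1 * y) * y⁻¹ := by rw [hyY1.eq]
      _ = A * Y1 := by group
  have c2 : x * A * x⁻¹ = A * X1 := by
    calc x * A * x⁻¹ = A * x * X1 * x⁻¹ := by rw [hxA]
      _ = A * (x * X1) * x⁻¹ := by group
      _ = A * (X1 * x) * x⁻¹ := by rw [hxX1.eq]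
      _ = A * X1 := by group
  have c3 : x * Y1 * x⁻¹ = Y1 * Z := by
    calc x * Y1 * x⁻¹ = Y1 * x * Z * x⁻¹ := by rw [hxY1]
      _ = Y1 * (x * (Z * x⁻¹)) := by group
      _ = Y1 * (x * (x⁻¹ * Z)) := by rw [hZx.inv_right.eq]
      _ = Y1 * Z := by group
  have hP : Commute A (X1 * (Y1 * Z)) := hAX1.mul_right (hAY1.mul_right hAZ)
  calc x * y * A * (x * y)⁻¹ * A⁻¹ = x * (y * A * y⁻¹) * x⁻¹ * A⁻¹ := by group
    _ = x * (A * Y1) * x⁻¹ * A⁻¹ := by rw [c1]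
    _ = (x * A * x⁻¹) * (x * Y1 * x⁻¹) * A⁻¹ := by group
    _ = A * X1 * (Y1 * Z) * A⁻¹ := by rw [c2, c3]
    _ = A * (X1 * (Y1 * Z)) * A⁻¹ := by group
    _ = (X1 * (Y1 * Z)) * A * A⁻¹ := by rw [hP.eq]
    _ = X1 * Y1 * Z := by group

/-- the root data used for a triple `(r, a, r')` -/
def tema4Good (r a r' : ℕ) (e1 e2 : ℤ) : Prop :=
  r < 72 ∧ a < 72 ∧ r' < 72 ∧
  chevE6.commTerms a r = [(r', e1, 1, 1)] ∧ r ≠ a ∧ r ≠ 71 - a ∧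
  chevE6.commTerms a (h8sE6 r) = [(h8sE6 r', e1, 1, 1)] ∧ h8sE6 r ≠ a ∧ h8sE6 r ≠ 71 - a ∧
  chevE6.commTerms (h8sE6 r) (h8sE6 r') = [] ∧ h8sE6 r' ≠ h8sE6 r ∧ h8sE6 r' ≠ 71 - h8sE6 r ∧
  chevE6.commTerms r r' = [] ∧ r' ≠ r ∧ r' ≠ 71 - r ∧
  chevE6.commTerms (h8sE6 r') r = [(71, e2, 1, 1)] ∧ r ≠ h8sE6 r' ∧ r ≠ 71 - h8sE6 r' ∧
  chevE6.commTerms 71 r = [] ∧ r ≠ 71 ∧ r ≠ 71 - 71 ∧
  chevE6.commTerms a r' = [] ∧ r' ≠ a ∧ r' ≠ 71 - a ∧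
  chevE6.commTerms a (h8sE6 r') = [] ∧ h8sE6 r' ≠ a ∧ h8sE6 r' ≠ 71 - a ∧
  chevE6.commTerms a 71 = [] ∧ 71 ≠ a ∧ 71 ≠ 71 - a ∧
  h8eE6 r' = h8eE6 r ∧ (e1 = 1 ∨ e1 = -1)

set_option synthInstance.maxSize 2048 in
instance (r a r' : ℕ) (e1 e2 : ℤ) : Decidable (tema4Good r a r' e1 e2) := by
  unfold tema4Good; infer_instance

theorem tema4_lt {r : ℕ} (hr : r < 72) : r < chevE6.nroots := (root_data r hr).1

theorem tema4_neg {r : ℕ} (hr : r < 72) : chevE6.negIdx.getD r 0 = 71 - r := (root_data r hr).2.1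

/-- two root elements commute (numeric form of `h8xU_commute`) -/
theorem tema4_commute {r s : ℕ} (hr : r < 72) (hs : s < 72) (hne : s ≠ r) (hneg : s ≠ 71 - r)
    (hterms : chevE6.commTerms r s = []) (t u : K) : Commute (X r t) (X s u) :=
  h8xU_commute chevE6 hB hC r s (tema4_lt hr) (tema4_lt hs) hne (by rw [tema4_neg hr]; exact hneg) hterms t u

/-- the one term commutator relation (numeric form of `h8R_pair`) -/
theorem tema4_pair {a b c : ℕ} (ha : a < 72) (hb : b < 72) (hab : b ≠ a) (habn : b ≠ 71 - a) (ε : ℤ)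
    (hct : chevE6.commTerms a b = [(c, ε, 1, 1)]) (t u : K) :
    X b u * X a t = X a t * X b u * X c (((ε : ℤ) : K) * (-t) * u) :=
  h8R_pair chevE6 hB hC a b c (tema4_lt ha) (tema4_lt hb) hab (by rw [tema4_neg ha]; exact habn) ε hct t u

/-- the generic form of `XS_comm_a` -/
theorem tema4_core (hF : Frob q f) (r a r' : ℕ) (e1 e2 : ℤ) (h : tema4Good r a r' e1 e2) :
    ∃ ε : K, (ε = 1 ∨ ε = -1) ∧ ∀ t : K, ∃ z : K,
      XS q r t * X a 1 * (XS q r t)⁻¹ * (X a 1)⁻¹ = XS q r' (ε * t) * X 71 z := by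
  obtain ⟨hr, ha, hr', h1, h1a, h1b, h2, h2a, h2b, h3, h3a, h3b, h4, h4a, h4b, h5, h5a, h5b, h6, h6a, h6b,
    h7, h7a, h7b, h8, h8a, h8b, h9, h9a, h9b, hη, he1⟩ := h
  have hs : h8sE6 r < 72 := (root_data r hr).2.2.1
  have hs' : h8sE6 r' < 72 := (root_data r' hr').2.2.1
  refine ⟨-((e1 : ℤ) : K), ?_, fun t => ?_⟩
  · rcases he1 with rfl | rfl
    · right; simp
    · left; simp
  have key := tema4_alg (X r t) (X (h8sE6 r) (((h8eE6 r : ℤ) : K) * t ^ q)) (X a (1 : K))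
    (X r' (((e1 : ℤ) : K) * (-1) * t)) (X (h8sE6 r') (((e1 : ℤ) : K) * (-1) * (((h8eE6 r : ℤ) : K) * t ^ q)))
    (X 71 (((e2 : ℤ) : K) * (-(((e1 : ℤ) : K) * (-1) * (((h8eE6 r : ℤ) : K) * t ^ q))) * t))
    (tema4_pair ha hr h1a h1b e1 h1 1 t)
    (tema4_pair ha hs h2a h2b e1 h2 1 _)
    (tema4_commute hs hs' h3a h3b h3 _ _)
    (tema4_commute hr hr' h4a h4b h4 _ _)
    (tema4_pair hs' hr h5a h5b e2 h5 _ t)
    (tema4_commute (by norm_num) hr h6a h6b h6 _ _)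
    (tema4_commute ha hr' h7a h7b h7 _ _)
    (tema4_commute ha hs' h8a h8b h8 _ _)
    (tema4_commute ha (by norm_num) h9a h9b h9 _ _)
  refine ⟨((e2 : ℤ) : K) * (-(((e1 : ℤ) : K) * (-1) * (((h8eE6 r : ℤ) : K) * t ^ q))) * t, ?_⟩
  show X r t * X (h8sE6 r) (((h8eE6 r : ℤ) : K) * t ^ q) * X a 1 * (X r t * X (h8sE6 r) (((h8eE6 r : ℤ) : K) * t ^ q))⁻¹ *
    (X a 1)⁻¹ = X r' (-((e1 : ℤ) : K) * t) * X (h8sE6 r') (((h8eE6 r' : ℤ) : K) * (-((e1 : ℤ) : K) * t) ^ q) * X 71 _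
  rw [key, hη]
  have e1q : (-((e1 : ℤ) : K)) ^ q = -((e1 : ℤ) : K) := by
    rcases he1 with rfl | rfl
    · simpa using hF.neg
    · simp
  have ea : ((e1 : ℤ) : K) * (-1) * t = -((e1 : ℤ) : K) * t := by ring
  have eb : ((e1 : ℤ) : K) * (-1) * (((h8eE6 r : ℤ) : K) * t ^ q) =
      ((h8eE6 r : ℤ) : K) * (-((e1 : ℤ) : K) * t) ^ q := by
    rw [mul_pow, e1q]; ring
  rw [ea, eb]

-- ROW A4  [M]
theorem XS_comm_a (hF : Frob q f) (r a r' : ℕ) (h : (r, a, r') ∈ shortTriples) :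
    ∃ ε : K, (ε = 1 ∨ ε = -1) ∧ ∀ t : K, ∃ z : K,
      XS q r t * X a 1 * (XS q r t)⁻¹ * (X a 1)⁻¹ = XS q r' (ε * t) * X 71 z := by
  simp only [shortTriples, List.mem_cons, Prod.mk.injEq, List.not_mem_nil, or_false] at h
  rcases h with ⟨rfl, rfl, rfl⟩ | ⟨rfl, rfl, rfl⟩ | ⟨rfl, rfl, rfl⟩ | ⟨rfl, rfl, rfl⟩ | ⟨rfl, rfl, rfl⟩ | ⟨rfl, rfl, rfl⟩
  · exact tema4_core hF 48 60 66 (-1) (-1) (by decide +kernel)
  · exact tema4_core hF 49 44 55 1 1 (by decide +kernel)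
  · exact tema4_core hF 52 39 54 1 (-1) (by decide +kernel)
  · exact tema4_core hF 54 32 52 1 1 (by decide +kernel)
  · exact tema4_core hF 55 27 49 1 (-1) (by decide +kernel)
  · exact tema4_core hF 66 11 48 (-1) 1 (by decide +kernel)

set_option synthInstance.maxSize 2048 in
theorem tema4_other_data : ∀ x ∈ shortTriples, ∀ r2 ∈ [48, 49, 52, 54, 55, 66], r2 ≠ x.1 →
    r2 < 72 ∧ x.2.1 < 72 ∧ h8sE6 r2 < 72 ∧ x.2.1 ≠ r2 ∧ x.2.1 ≠ 71 - r2 ∧ chevE6.commTerms r2 x.2.1 = [] ∧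
      x.2.1 ≠ h8sE6 r2 ∧ x.2.1 ≠ 71 - h8sE6 r2 ∧ chevE6.commTerms (h8sE6 r2) x.2.1 = [] := by
  decide +kernel

theorem XS_comm_other (r a r' : ℕ) (h : (r, a, r') ∈ shortTriples) (r2 : ℕ)
    (hr2 : r2 ∈ [48, 49, 52, 54, 55, 66]) (hne : r2 ≠ r) (t : K) :
    Commute (XS q r2 t) (X a 1) := by
  obtain ⟨h1, h2, h3, h4, h5, h6, h7, h8, h9⟩ := tema4_other_data (r, a, r') h r2 hr2 hne
  unfold XS
  exact (tema4_commute h1 h2 h4 h5 h6 _ _).mul_left (tema4_commute h3 h2 h7 h8 h9 _ _)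

end Cfsg.Agent.Lib.Helper10.TEM
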