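import Mathlib
import Cfsg.Prelude.Def_Classical
import Cfsg.Agent.Lib.helper23.P4V.Defs
import Cfsg.Agent.Lib.helper3.C3OCWQ

set_option autoImplicit false

namespace Cfsg.Agent.Lib.helper23.P4V

open Matrix

universe u

section Field

variable {F : Type u} [Field F]

/-- the bilinear form polarising the homogenised conic -/
def p4vg3a_form (τ ν β : F) : (Fin 3 → F) →ₗ[F] (Fin 3 → F) →ₗ[F] F :=
  LinearMap.mk₂ F
    (fun y y' => y 0 * y' 0 + β * y 0 * y' 1 + ν ^ 2 * y 1 * y' 1 - τ * y 0 * y' 2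
      - τ * ν * y 1 * y' 2 + ν * y 2 * y' 2)
    (by intro a b c; simp only [Pi.add_apply]; ring)
    (by intro c a b; simp only [Pi.smul_apply, smul_eq_mul]; ring)
    (by intro a b c; simp only [Pi.add_apply]; ring)
    (by intro c a b; simp only [Pi.smul_apply, smul_eq_mul]; ring)

theorem p4vg3a_form_apply (τ ν β : F) (y y' : Fin 3 → F) :
    p4vg3a_form τ ν β y y' = y 0 * y' 0 + β * y 0 * y' 1 + ν ^ 2 * y 1 * y' 1 - τ * y 0 * y' 2
      - τ * ν * y 1 * y' 2 + ν * y 2 * y' 2 := rfl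

theorem conic_irred [Fintype F] (τ ν β : F) (hirr : ∀ ρ : F, ρ ^ 2 + β * ρ + ν ^ 2 ≠ 0) :
    ∃ x z : F, x ^ 2 + β * x * z + ν ^ 2 * z ^ 2 - τ * x - τ * ν * z + ν = 0 := by
  obtain ⟨y, hy0, hy⟩ := Cfsg.Agent.Lib.Helper10.C3O.cw_quad (F := F) (Y := Fin 3 → F) (ι := Unit)
    (fun _ => p4vg3a_form τ ν β) (fun _ => 0)
    (by simp)
  have hq := hy ()
  simp only [LinearMap.zero_apply, add_zero, p4vg3a_form_apply] at hq
  by_cases hw : y 2 = 0
  · exfalso
    rw [hw] at hq
    by_cases hz : y 1 = 0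
    · rw [hz] at hq
      have hx : y 0 = 0 := by
        have : y 0 * y 0 = 0 := by linear_combination hq
        exact mul_self_eq_zero.mp this
      apply hy0
      funext i
      fin_cases i <;> simp [hx, hz, hw]
    · apply hirr (y 0 / y 1)
      field_simp
      linear_combination hq
  · refine ⟨y 0 / y 2, y 1 / y 2, ?_⟩
    field_simp
    linear_combination hq

end Field

end Cfsg.Agent.Lib.helper23.P4V
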