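import Mathlib
import Cfsg.Prelude.Def_Classical
import Cfsg.Agent.Lib.helper23.P4V.Defs

set_option autoImplicit false

namespace Cfsg.Agent.Lib.helper23.P4V

open Matrix

universe u

section Field

variable {F : Type u} [Field F]

theorem conic_split (τ ν β ρ : F) (hτ : τ ≠ 0) (hν : ν ≠ 0) (hβ : β ≠ 2 * ν)
    (hρ : ρ ^ 2 + β * ρ + ν ^ 2 = 0) :
    ∃ x z : F, x ^ 2 + β * x * z + ν ^ 2 * z ^ 2 - τ * x - τ * ν * z + ν = 0 := by
  by_cases hd : 2 * ρ + β = 0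
  · have hprod : (ρ - ν) * (ρ + ν) = 0 := by linear_combination (-1) * hρ + ρ * hd
    rcases mul_eq_zero.mp hprod with h | h
    · have h2 : (2 : F) ≠ 0 := by
        intro h2
        apply hβ
        linear_combination hd - 2 * h - 2 * ν * h2
      have hz : 2 * τ * (2 * τ)⁻¹ = 1 := mul_inv_cancel₀ (mul_ne_zero h2 hτ)
      refine ⟨ν * (2 * τ)⁻¹, (2 * τ)⁻¹, ?_⟩
      generalize (2 * τ)⁻¹ = z at hz
      linear_combination (z ^ 2 * ν) * hd - (2 * z ^ 2 * ν) * h - ν * hz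
    · exfalso
      apply hβ
      linear_combination hd - 2 * h
  · set d := 2 * ρ + β with hddef
    obtain ⟨t, ht⟩ : ∃ t : F, t * d - τ * (ρ + ν) = d := by
      refine ⟨τ * (ρ + ν) / d + 1, ?_⟩
      field_simp
      ring
    obtain ⟨z, hz⟩ : ∃ z : F, z * d = -(t ^ 2 - τ * t + ν) := by
      refine ⟨-(t ^ 2 - τ * t + ν) / d, ?_⟩
      field_simp
    refine ⟨ρ * z + t, z, ?_⟩
    -- (ρ z + t)^2 + β (ρ z + t) z + ν² z² - τ(ρ z + t) - τ ν z + ν
    -- = z² (ρ² + βρ + ν²) + z (2ρ t + β t - τρ - τν) + t² - τ t + ν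
    -- = z² hρ + z (t d - τ(ρ+ν)) + (t² - τ t + ν) = z d + ... = 0
    linear_combination z ^ 2 * hρ + z * ht + hz
  
end Field

end Cfsg.Agent.Lib.helper23.P4V
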