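import Mathlib
import Cfsg.Agent.Lib.helper23.TD4V.Defs

/-!
# Project TD4V (designer helper23), row F2 (`Ctx.irr`).
-/

set_option autoImplicit false

namespace Cfsg.Agent.Lib.helper23.TD4V

open Cfsg.Lie Cfsg.Lie.ChevalleyDatum Matrix
open Cfsg.Agent.Lib.helper8 Cfsg.Agent.Lib.helper8.TD4
open Cfsg.Agent.Lib.helper23.P4V

universe u v

section FF

variable {F K : Type u} {E : Type v} [Field F] [Field K] [Field E] [Fintype F] [Fintype K] [Fintype E]
  (j : F →+* K) (ι : K →+* E) (q : ℕ) (t τ : K) (m : E) (c θ : F)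

/-- **F2** [M]. -/
theorem Ctx.irr (hX : Ctx j ι q t τ m c θ) : ∀ x : F, x ^ 2 - (c * θ) * x + c ≠ 0 := by
  intro x hx
  have hP := hX.hP
  -- `y = ι (j x)` is fixed by the `q`-th power
  have hxq : x ^ q = x := by
    have := FiniteField.pow_card x
    rwa [hX.hF] at this
  set y : E := ι (j x) with hy
  have hyq : y ^ q = y := by
    rw [hy, ← map_pow, ← map_pow, hxq]
  -- the image of the equation
  set N : E := ι (Nm q t) with hN
  have hNm : N * m ^ (q + 1) = 1 := by
    have := hP.hN
    rw [hN]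
    unfold Nm
    rw [map_mul, map_mul, map_pow, map_pow]
    exact this
  have hm0 : m ≠ 0 := by
    intro h
    rw [h, zero_pow (Nat.succ_ne_zero q), mul_zero] at hNm
    exact zero_ne_one hNm
  have hmq0 : m ^ q ≠ 0 := pow_ne_zero _ hm0
  have heq : y ^ 2 - N * (m + m ^ q) * y + N = 0 := by
    have h1 := congrArg (fun z => ι (j z)) hx
    simp only [map_add, map_sub, map_mul, map_pow, map_zero] at h1
    rw [hX.hc, hX.hθ, hP.hτm] at h1
    rw [hy, hN]
    linear_combination h1
  -- factorisation: `(m y - 1) (m^q y - 1) = m^(q+1) (y² - N (m + m^q) y + N) = 0`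
  have hfac : (m * y - 1) * (m ^ q * y - 1) = 0 := by
    have h2 : m ^ (q + 1) = m ^ q * m := pow_succ m q
    rw [h2] at hNm
    have : (m * y - 1) * (m ^ q * y - 1) =
        (m ^ q * m) * (y ^ 2 - N * (m + m ^ q) * y + N) + (N * (m ^ q * m) - 1) * ((m + m ^ q) * y - 1) := by
      ring
    rw [this, heq, hNm]; ring
  rcases mul_eq_zero.mp hfac with h | h
  · -- `m y = 1`: `m ^ q = m`
    have h1 : m * y = 1 := sub_eq_zero.mp h
    have h2 : m ^ q * y = 1 := by
      have := congrArg (fun z => z ^ q) h1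
      simp only [mul_pow, one_pow, hyq] at this
      exact this
    have hy0 : y ≠ 0 := by
      intro h0
      rw [h0, mul_zero] at h1
      exact zero_ne_one h1
    apply hP.hmq
    have : m * y = m ^ q * y := by rw [h1, h2]
    exact mul_right_cancel₀ hy0 this
  · -- `m^q y = 1`: `m ^ (q²) = m ^ q`
    have h1 : m ^ q * y = 1 := sub_eq_zero.mp h
    have h2 : (m ^ q) ^ q * y = 1 := by
      have := congrArg (fun z => z ^ q) h1
      simp only [mul_pow, one_pow, hyq] at this
      exact this
    have hy0 : y ≠ 0 := by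
      intro h0
      rw [h0, mul_zero] at h1
      exact zero_ne_one h1
    apply hP.hmq
    have h3 : (m ^ q) ^ q = m := by
      rw [← pow_mul, ← sq]
      exact hP.hm2
    rw [h3] at h2
    have : m * y = m ^ q * y := by rw [h1, h2]
    exact mul_right_cancel₀ hy0 this

end FF

end Cfsg.Agent.Lib.helper23.TD4V
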