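import Mathlib
import Cfsg.Agent.Lib.helper23.TD4V.Defs

/-!
# Project TD4V (designer helper23), row F1 (`Ctx.t_ne`, `Ctx.c_ne`, `Ctx.tr_ne`).
-/

set_option autoImplicit false

namespace Cfsg.Agent.Lib.helper23.TD4V

open Cfsg.Lie Cfsg.Lie.ChevalleyDatum Matrix
open Cfsg.Agent.Lib.helper8 Cfsg.Agent.Lib.helper8.TD4
open Cfsg.Agent.Lib.helper23.P4V

universe u v

section FF

variable {F K : Type u} {E : Type v} [Field F] [Field K] [Field E] [Fintype F] [Fintype K] [Fintype E]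
  (j : F →+* K) (ι : K →+* E) (q : ℕ) (t τ : K) (m : E) (c θ : F)

/-- **F1** [S] (all three). -/
theorem Ctx.t_ne (hX : Ctx j ι q t τ m c θ) : t ≠ 0 := hX.hP.ht

theorem Ctx.c_ne (hX : Ctx j ι q t τ m c θ) : c ≠ 0 := by
  intro h
  have h1 : Nm q t = 0 := by rw [← hX.hc, h, map_zero]
  have ht : t ≠ 0 := hX.hP.ht
  unfold Nm at h1
  exact (mul_ne_zero (mul_ne_zero ht (pow_ne_zero _ ht)) (pow_ne_zero _ ht)) h1

theorem Ctx.tr_ne (hX : Ctx j ι q t τ m c θ) : c * θ ≠ 0 := by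
  have hc : c ≠ 0 := Ctx.c_ne j ι q t τ m c θ hX
  have hθ : θ ≠ 0 := by
    intro h
    apply hX.hτ
    rw [← hX.hθ, h, map_zero]
  exact mul_ne_zero hc hθ

end FF

end Cfsg.Agent.Lib.helper23.TD4V
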