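import Cfsg.Agent.Lib.Helper21.TS.Basic

/-!
# Project TS (S5666), piece PFIX (helper18): `pfix`
-/

set_option autoImplicit false
set_option linter.unusedSectionVars false
set_option linter.unusedVariables false

namespace Cfsg.Agent.Lib.Helper21.TS

open Matrix
open scoped Kronecker
open Cfsg.Agent.Lib.helper7.TP

variable {ι : Type*} [Fintype ι] [DecidableEq ι] {a b : ℕ} {F : Type*} [Field F]
  {J1 : Matrix (Fin a) (Fin a) F} {J2 : Matrix (Fin b) (Fin b) F}
  {M : Subgroup (Matrix.GeneralLinearGroup (Fin a × Fin b) F)}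

/-- PFIX [M-L]. a finite `p`-group `G ≤ GL_n(F)` (`char F = p`) acting by conjugation on additive groups `S ≤ Λ` of matrices,
`S ≠ Λ`: some `η ∈ Λ ∖ S` is fixed modulo `S`.
(`Λ ⧸ S` (as `AddSubgroup` quotient of `Λ`) is a finite set of `p`-power cardinality `> 1` on which `G` acts
(`QuotientAddGroup.map` of `η ↦ g η g⁻¹`); the class of `0` is fixed; `IsPGroup.exists_fixed_point_of_prime_dvd_card_of_fixed_point`
gives another fixed class `η + S`.) -/
theorem pfix [Finite F] (p : ℕ) [Fact p.Prime] [CharP F p] (G : Subgroup (Matrix.GeneralLinearGroup ι F))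
    (hG : IsPGroup p G) (Λ S : AddSubgroup (Matrix ι ι F)) (hSΛ : S ≤ Λ)
    (hΛ : ∀ g ∈ G, ∀ η ∈ Λ, (g : Matrix ι ι F) * η * ((g⁻¹ : Matrix.GeneralLinearGroup ι F) : Matrix ι ι F) ∈ Λ)
    (hS : ∀ g ∈ G, ∀ η ∈ S, (g : Matrix ι ι F) * η * ((g⁻¹ : Matrix.GeneralLinearGroup ι F) : Matrix ι ι F) ∈ S)
    (hne : ∃ η ∈ Λ, η ∉ S) :
    ∃ η ∈ Λ, η ∉ S ∧ ∀ g ∈ G,
      (g : Matrix ι ι F) * η * ((g⁻¹ : Matrix.GeneralLinearGroup ι F) : Matrix ι ι F) - η ∈ S := by
  classical
  let S' : AddSubgroup Λ := S.addSubgroupOf Λ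
  have hmemS' : ∀ x : Λ, x ∈ S' ↔ (x : Matrix ι ι F) ∈ S := fun x => AddSubgroup.mem_addSubgroupOf
  -- conjugation as an additive endomorphism of `Λ`
  let φ : G → (Λ →+ Λ) := fun g =>
    { toFun := fun η => ⟨((g : Matrix.GeneralLinearGroup ι F) : Matrix ι ι F) * (η : Matrix ι ι F) *
        (((g : Matrix.GeneralLinearGroup ι F)⁻¹ : Matrix.GeneralLinearGroup ι F) : Matrix ι ι F),
        hΛ g g.2 η η.2⟩
      map_zero' := by
        apply Subtype.ext
        simp
      map_add' := by
        intro x y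
        apply Subtype.ext
        simp [Matrix.mul_add, Matrix.add_mul] }
  have hφ : ∀ (g : G) (η : Λ), ((φ g η : Λ) : Matrix ι ι F) =
      ((g : Matrix.GeneralLinearGroup ι F) : Matrix ι ι F) * (η : Matrix ι ι F) *
        (((g : Matrix.GeneralLinearGroup ι F)⁻¹ : Matrix.GeneralLinearGroup ι F) : Matrix ι ι F) :=
    fun g η => rfl
  have hφS : ∀ g : G, S' ≤ S'.comap (φ g) := by
    intro g x hx
    rw [AddSubgroup.mem_comap, hmemS', hφ]
    exact hS g g.2 x ((hmemS' x).1 hx)
  let _inst : MulAction G (Λ ⧸ S') :=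
    { smul := fun g x => QuotientAddGroup.map S' S' (φ g) (hφS g) x
      one_smul := by
        intro x
        induction x using QuotientAddGroup.induction_on with
        | H z =>
          change QuotientAddGroup.map S' S' (φ 1) (hφS 1) (z : Λ ⧸ S') = (z : Λ ⧸ S')
          rw [QuotientAddGroup.map_mk]
          congr 1
          apply Subtype.ext
          rw [hφ]
          simp
      mul_smul := by
        intro g h x
        induction x using QuotientAddGroup.induction_on with
        | H z =>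
          change QuotientAddGroup.map S' S' (φ (g * h)) (hφS (g * h)) (z : Λ ⧸ S') =
            QuotientAddGroup.map S' S' (φ g) (hφS g)
              (QuotientAddGroup.map S' S' (φ h) (hφS h) (z : Λ ⧸ S'))
          rw [QuotientAddGroup.map_mk, QuotientAddGroup.map_mk, QuotientAddGroup.map_mk]
          congr 1
          apply Subtype.ext
          rw [hφ, hφ, hφ, Subgroup.coe_mul, _root_.mul_inv_rev, Units.val_mul, Units.val_mul]
          simp only [Matrix.mul_assoc] }
  have hsmul : ∀ (g : G) (z : Λ), g • (z : Λ ⧸ S') = ((φ g z : Λ) : Λ ⧸ S') := by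
    intro g z
    change QuotientAddGroup.map S' S' (φ g) (hφS g) (z : Λ ⧸ S') = _
    rw [QuotientAddGroup.map_mk]
  -- finiteness and cardinality
  have : Finite (Matrix ι ι F) := by
    change Finite (ι → ι → F)
    infer_instance
  have : Finite Λ := Finite.of_injective (fun x : Λ => (x : Matrix ι ι F)) Subtype.val_injective
  have : Finite (Λ ⧸ S') := Quotient.finite _
  have hpQ : IsPGroup p (Multiplicative (Λ ⧸ S')) := by
    intro x
    refine ⟨1, ?_⟩
    rw [pow_one]
    have hx : p • (Multiplicative.toAdd x) = 0 := by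
      induction (Multiplicative.toAdd x) using QuotientAddGroup.induction_on with
      | H z =>
        rw [← QuotientAddGroup.mk_nsmul]
        have : p • z = 0 := by
          apply Subtype.ext
          rw [AddSubgroup.coe_nsmul, AddSubgroup.coe_zero]
          ext i j
          rw [Matrix.smul_apply, nsmul_eq_mul, CharP.cast_eq_zero F p, zero_mul]
          rfl
        rw [this]
        rfl
    exact congrArg Multiplicative.ofAdd hx
  obtain ⟨η₀, hη₀Λ, hη₀S⟩ := hne
  have hnontriv : Nontrivial (Λ ⧸ S') := by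
    refine ⟨⟨((⟨η₀, hη₀Λ⟩ : Λ) : Λ ⧸ S'), 0, ?_⟩⟩
    intro h0
    rw [QuotientAddGroup.eq_zero_iff, hmemS'] at h0
    exact hη₀S h0
  have hcard : p ∣ Nat.card (Λ ⧸ S') := by
    rcases hpQ.card_eq_or_dvd with h1 | h1
    · exfalso
      have h2 : Nat.card (Λ ⧸ S') = 1 := h1
      rw [Nat.card_eq_one_iff_unique] at h2
      obtain ⟨hsub, _⟩ := h2
      exact not_subsingleton (Λ ⧸ S') hsub
    · exact h1
  have h0fix : (0 : Λ ⧸ S') ∈ MulAction.fixedPoints G (Λ ⧸ S') := by
    intro g
    have : (0 : Λ ⧸ S') = ((0 : Λ) : Λ ⧸ S') := rfl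
    rw [this, hsmul, map_zero]
  obtain ⟨x, hxfix, hx0⟩ :=
    hG.exists_fixed_point_of_prime_dvd_card_of_fixed_point (Λ ⧸ S') hcard h0fix
  induction x using QuotientAddGroup.induction_on with
  | H z =>
    refine ⟨(z : Matrix ι ι F), z.2, ?_, ?_⟩
    · intro hz
      apply hx0
      symm
      rw [QuotientAddGroup.eq_zero_iff, hmemS']
      exact hz
    · intro g hg
      have h1 := hxfix ⟨g, hg⟩
      rw [hsmul, QuotientAddGroup.eq] at h1
      have h2 := (hmemS' _).1 h1
      rw [AddSubgroup.coe_add, AddSubgroup.coe_neg, hφ] at h2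
      have h3 := S.neg_mem h2
      have e : ∀ A B : Matrix ι ι F, -(-A + B) = A - B := by
        intro A B
        abel
      rw [e] at h3
      exact h3
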