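import Mathlib
import Cfsg.Prelude.Def_GeometricClasses
import Cfsg.Agent.Lib.Helper27.ASC.Defs

/-! ASC piece NOSYMP (helper18): no non-degenerate alternating form in odd dimension. -/

set_option autoImplicit false
set_option linter.unusedVariables false
set_option linter.unusedSectionVars false

namespace Cfsg.Agent.Lib.Helper27.ASC

open Cfsg Cfsg.Geo
open scoped MatrixGroups Matrix

/-- An involutive permutation of an odd-size `Fin n` has a fixed point. -/
theorem ascnosymp_fix {n : ℕ} (hodd : Odd n) (σ : Equiv.Perm (Fin n)) (hσ : σ⁻¹ = σ) :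
    ∃ i, σ i = i := by
  classical
  by_contra hne
  push Not at hne
  have h2 : σ ^ 2 = 1 := by
    rw [pow_two]
    nth_rewrite 1 [← hσ]
    exact inv_mul_cancel σ
  have hdvd := Equiv.Perm.two_dvd_card_support h2
  have hsupp : σ.support = Finset.univ := by
    ext i
    simp [Equiv.Perm.mem_support, hne i]
  rw [hsupp, Finset.card_univ, Fintype.card_fin] at hdvd
  exact (Nat.not_even_iff_odd.mpr hodd) (even_iff_two_dvd.mpr hdvd)

/-- An alternating matrix of odd size has determinant zero (any characteristic). -/
theorem ascnosymp_det {n : ℕ} {F : Type*} [Field F] (hodd : Odd n) (A : Matrix (Fin n) (Fin n) F)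
    (hskew : ∀ i j, A i j = - A j i) (hdiag : ∀ i, A i i = 0) : A.det = 0 := by
  classical
  rw [Matrix.det_apply]
  refine Finset.sum_involution (fun σ _ => σ⁻¹) ?_ ?_ (fun σ _ => Finset.mem_univ _) (fun σ _ => inv_inv σ)
  · intro σ _
    have h1 : ∏ i, A (σ⁻¹ i) i = ∏ i, A i (σ i) := by
      refine (Fintype.prod_equiv σ _ _ (fun i => ?_)).symm
      simp
    have h2 : ∏ i, A i (σ i) = ∏ i, (-1 : F) * A (σ i) i := by
      refine Finset.prod_congr rfl (fun i _ => ?_)
      rw [hskew i (σ i)]; ring
    rw [Finset.prod_mul_distrib, Finset.prod_const, Finset.card_univ, Fintype.card_fin,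
      hodd.neg_one_pow] at h2
    simp only [Equiv.Perm.sign_inv]
    rw [h1, h2]
    simp
  · intro σ _ hne hσ
    obtain ⟨i, hi⟩ := ascnosymp_fix hodd σ hσ
    apply hne
    have : ∏ j, A (σ j) j = 0 := Finset.prod_eq_zero (Finset.mem_univ i) (by rw [hi]; exact hdiag i)
    rw [this]; simp

variable {n : ℕ} {F : Type*} [Field F] [Fintype F]

/-- NOSYMP -/
theorem no_symplectic_odd (hodd : Odd n) (f : (Fin n → F) → (Fin n → F) → F) : ¬ IsSymplecticForm f := by
  classical
  intro hf
  set A : Matrix (Fin n) (Fin n) F := Matrix.of (fun i j => f (Pi.single i 1) (Pi.single j 1)) with hA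
  have hdet : A.det = 0 := ascnosymp_det hodd A (fun i j => hf.skew _ _) (fun i => hf.alternating _)
  obtain ⟨v, hv0, hv⟩ := Matrix.exists_mulVec_eq_zero_iff.mpr hdet
  -- f x v = x ⬝ A v
  have hb := hf.bilinear
  let L : (Fin n → F) → ((Fin n → F) →ₗ[F] F) := fun w =>
    { toFun := fun x => f x w
      map_add' := fun x y => hb.add_left x y w
      map_smul' := fun c x => by simpa using hb.smul_left c x w }
  let R : (Fin n → F) → ((Fin n → F) →ₗ[F] F) := fun x =>
    { toFun := fun w => f x w
      map_add' := fun y z => hb.add_right x y z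
      map_smul' := fun c y => by simpa using hb.smul_right c x y }
  have hsingle : ∀ i : Fin n, (fun j => if i = j then (1 : F) else 0) = Pi.single i 1 := by
    intro i; ext j; simp [Pi.single_apply, eq_comm]
  have key : ∀ x, f x v = 0 := by
    intro x
    have h1 : f x v = ∑ i, x i * f (Pi.single i 1) v := by
      have := LinearMap.pi_apply_eq_sum_univ (L v) x
      simp only [hsingle] at this
      simpa [L] using this
    have h2 : ∀ i, f (Pi.single i 1) v = (A *ᵥ v) i := by
      intro i
      have := LinearMap.pi_apply_eq_sum_univ (R (Pi.single i 1)) v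
      have h3 : f (Pi.single i 1) v = ∑ j, v j * f (Pi.single i 1) (Pi.single j 1) := by
        simp only [hsingle] at this
        simpa [R] using this
      rw [h3, Matrix.mulVec, dotProduct]
      refine Finset.sum_congr rfl (fun j _ => ?_)
      simp [hA, mul_comm]
    rw [h1]
    refine Finset.sum_eq_zero (fun i _ => ?_)
    rw [h2 i, hv]; simp
  obtain ⟨⟨x, hx⟩, _⟩ := hf.nondegenerate v hv0
  exact hx (key x)

end Cfsg.Agent.Lib.Helper27.ASC
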