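import Mathlib
import Cfsg.Agent.Lib.Helper24.TwoInvol

set_option autoImplicit false

namespace Cfsg.Agent.Lib.Helper18

open Subgroup

/-- a group in which every element squares to one is commutative -/
theorem comm_of_sq_eq_one {K : Type*} [Group K] (h : ∀ a : K, a * a = 1) (a b : K) :
    a * b = b * a := by
  have h1 : a⁻¹ = a := inv_eq_of_mul_eq_one_left (h a)
  have h2 : b⁻¹ = b := inv_eq_of_mul_eq_one_left (h b)
  have h3 : (a * b)⁻¹ = a * b := inv_eq_of_mul_eq_one_left (h (a * b))
  rw [mul_inv_rev, h1, h2] at h3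
  exact h3.symm

/-- A non-abelian group of order 8 with more than one involution is dihedral. -/
theorem dihedral_of_card_eight {K : Type*} [Group K] (hK : Nat.card K = 8)
    (hna : ∃ a b : K, a * b ≠ b * a)
    (hnu : ¬ ∃ z : K, ∀ a : K, orderOf a = 2 → a = z) :
    ∃ x y : K, orderOf x = 2 ∧ orderOf y = 2 ∧ orderOf (x * y) = 4 ∧
      closure ({x, y} : Set K) = ⊤ ∧ Nonempty (K ≃* DihedralGroup 4) := by
  classical
  haveI : Finite K := Nat.finite_of_card_ne_zero (by rw [hK]; norm_num)
  have hord : ∀ a : K, orderOf a ∣ 8 := fun a => hK ▸ orderOf_dvd_natCard a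
  -- an element of order 4
  obtain ⟨r, hr⟩ : ∃ r : K, orderOf r = 4 := by
    by_contra hcon
    push Not at hcon
    obtain ⟨a, b, hab⟩ := hna
    apply hab
    apply comm_of_sq_eq_one
    intro c
    have h1 := hord c
    have h2 := Nat.le_of_dvd (by norm_num) h1
    have h4 := hcon c
    have h8 : orderOf c ≠ 8 := by
      intro h8
      apply hcon (c ^ 2)
      rw [orderOf_pow' c (by norm_num : 2 ≠ 0), h8]
      norm_num
    have h12 : orderOf c = 1 ∨ orderOf c = 2 := by
      have hpos := orderOf_pos c
      interval_cases (orderOf c) <;> omega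
    rw [← pow_two]
    rcases h12 with h | h
    · rw [orderOf_eq_one_iff] at h
      rw [h, one_pow]
    · rw [← h]; exact pow_orderOf_eq_one c
  set A := zpowers r with hA
  have hAc : Nat.card A = 4 := by rw [hA, Nat.card_zpowers, hr]
  have hAidx : A.index = 2 := by
    have := A.card_mul_index
    rw [hAc, hK] at this
    omega
  haveI hAn : A.Normal := normal_of_index_eq_two hAidx
  have hr4 : r ^ 4 = 1 := by rw [← hr]; exact pow_orderOf_eq_one r
  -- elements of A
  have hAmem : ∀ a ∈ A, a = 1 ∨ a = r ∨ a = r ^ 2 ∨ a = r ^ 3 := by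
    intro a ha
    rw [hA, mem_zpowers_iff_mem_range_orderOf] at ha
    rw [hr] at ha
    simp only [Finset.mem_image, Finset.mem_range] at ha
    obtain ⟨i, hi, rfl⟩ := ha
    interval_cases i
    · left; simp
    · right; left; simp
    · right; right; left; rfl
    · right; right; right; rfl
  have hr2o : orderOf (r ^ 2) = 2 := by
    rw [orderOf_pow' r (by norm_num : 2 ≠ 0), hr]; norm_num
  have hr3o : orderOf (r ^ 3) = 4 := by
    rw [orderOf_pow' r (by norm_num : 3 ≠ 0), hr]; norm_num
  -- an involution outside A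
  obtain ⟨s, hs2, hsA⟩ : ∃ s : K, orderOf s = 2 ∧ s ∉ A := by
    by_contra hcon
    push Not at hcon
    apply hnu
    refine ⟨r ^ 2, fun a ha => ?_⟩
    rcases hAmem a (hcon a ha) with h | h | h | h
    · rw [h, orderOf_one] at ha; omega
    · rw [h, hr] at ha; omega
    · exact h
    · rw [h, hr3o] at ha; omega
  have hss : s * s = 1 := by rw [← pow_two, ← hs2]; exact pow_orderOf_eq_one s
  have hsinv : s⁻¹ = s := inv_eq_of_mul_eq_one_left hss
  -- closure {s, r} = ⊤
  have hcl : ∀ H : Subgroup K, A ≤ H → s ∈ H → H = ⊤ := by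
    intro H hAH hsH
    apply Subgroup.eq_top_of_card_eq
    have h1 : 4 ∣ Nat.card H := hAc ▸ Subgroup.card_dvd_of_le hAH
    have h2 : Nat.card H ∣ 8 := hK ▸ Subgroup.card_subgroup_dvd_card H
    have h3 : Nat.card H ≠ 4 := by
      intro h4
      have : A = H := Subgroup.eq_of_le_of_card_ge hAH (by rw [h4, hAc])
      exact hsA (this ▸ hsH)
    rw [hK]
    have h5 := Nat.le_of_dvd (by norm_num) h2
    have h6 : 0 < Nat.card H := Nat.card_pos
    obtain ⟨c, hc⟩ := h1
    have hc2 : c ≤ 2 := by omega
    interval_cases c <;> omega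
  -- conjugation action of s on r
  have hconjA : s * r * s⁻¹ ∈ A := hAn.conj_mem r (mem_zpowers r) s
  have hconj_ord : orderOf (s * r * s⁻¹) = 4 := by
    have h : SemiconjBy s r (s * r * s⁻¹) := by
      unfold SemiconjBy; group
    rw [← h.orderOf_eq, hr]
  have hconj : s * r * s⁻¹ = r ^ 3 := by
    rcases hAmem _ hconjA with h | h | h | h
    · rw [h, orderOf_one] at hconj_ord; omega
    · exfalso
      -- s commutes with r: K abelian
      obtain ⟨a, b, hab⟩ := hna
      apply hab
      have hcomm : ∀ u ∈ ({s, r} : Set K), ∀ v ∈ ({s, r} : Set K), u * v = v * u := by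
        have hsr : s * r = r * s := by
          calc s * r = (s * r * s⁻¹) * s := by group
            _ = r * s := by rw [h]
        intro u hu v hv
        rcases hu with rfl | rfl <;> rcases hv with rfl | rfl
        · rfl
        · exact hsr
        · exact hsr.symm
        · rfl
      have htop : closure ({s, r} : Set K) = ⊤ := by
        apply hcl
        · rw [hA, zpowers_le]
          exact subset_closure (by simp)
        · exact subset_closure (by simp)
      have hc := Subgroup.isMulCommutative_closure hcomm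
      have ha' : a ∈ closure ({s, r} : Set K) := by rw [htop]; trivial
      have hb' : b ∈ closure ({s, r} : Set K) := by rw [htop]; trivial
      have := hc.is_comm.comm ⟨a, ha'⟩ ⟨b, hb'⟩
      exact congrArg Subtype.val this
    · rw [h, hr2o] at hconj_ord; omega
    · exact h
  -- y = s * r is an involution
  have hy2 : (s * r) * (s * r) = 1 := by
    have : (s * r) * (s * r) = (s * r * s⁻¹) * r := by rw [hsinv]; group
    rw [this, hconj, ← pow_succ, hr4]
  have hy1 : s * r ≠ 1 := by
    intro h
    apply hsA
    have : s = r⁻¹ := eq_inv_of_mul_eq_one_left h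
    rw [this]
    exact A.inv_mem (mem_zpowers r)
  have hyo : orderOf (s * r) = 2 := by
    apply orderOf_eq_prime
    · rw [pow_two]; exact hy2
    · exact hy1
  have hxy : s * (s * r) = r := by rw [← mul_assoc, hss, one_mul]
  have hxyo : orderOf (s * (s * r)) = 4 := by rw [hxy, hr]
  have htop : closure ({s, s * r} : Set K) = ⊤ := by
    apply hcl
    · rw [hA, zpowers_le]
      have h1 : s ∈ closure ({s, s * r} : Set K) := subset_closure (by simp)
      have h2 : s * r ∈ closure ({s, s * r} : Set K) := subset_closure (by simp)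
      have := (closure ({s, s * r} : Set K)).mul_mem h1 h2
      rwa [hxy] at this
    · exact subset_closure (by simp)
  refine ⟨s, s * r, hs2, hyo, hxyo, htop, ?_⟩
  have e := Cfsg.Agent.Lib.Helper24.tiEquiv hs2 hyo
  rw [hxyo] at e
  exact ⟨(Subgroup.topEquiv.symm.trans (MulEquiv.subgroupCongr htop.symm)).trans e⟩

end Cfsg.Agent.Lib.Helper18

namespace Cfsg.Agent.Lib.Helper18

open Subgroup

/-- In a non-abelian group of order 8 with more than one involution there are exactly two
elements of order 4, inverse to one another. -/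
theorem order_four_elts {K : Type*} [Group K] (hK : Nat.card K = 8)
    (hna : ∃ a b : K, a * b ≠ b * a)
    (hnu : ¬ ∃ z : K, ∀ a : K, orderOf a = 2 → a = z) :
    ∃ r : K, orderOf r = 4 ∧ r ≠ r⁻¹ ∧ ∀ u : K, orderOf u = 4 → (u = r ∨ u = r⁻¹) := by
  classical
  haveI : Finite K := Nat.finite_of_card_ne_zero (by rw [hK]; norm_num)
  obtain ⟨x, y, hx, hy, hxy, htop, _⟩ := dihedral_of_card_eight hK hna hnu
  refine ⟨x * y, hxy, ?_, fun u hu => ?_⟩
  · intro h
    have h2 : (x * y) * (x * y) = 1 := by
      nth_rewrite 2 [h]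
      exact mul_inv_cancel _
    have : orderOf (x * y) ∣ 2 := by
      apply orderOf_dvd_of_pow_eq_one
      rw [pow_two]; exact h2
    rw [hxy] at this
    omega
  · have hmem : u ∈ zpowers (x * y) := by
      by_contra hnot
      have := Cfsg.Agent.Lib.Helper24.ti_order_two_of_not_mem hx hy u (by rw [htop]; trivial) hnot
      omega
    rw [mem_zpowers_iff_mem_range_orderOf, hxy] at hmem
    simp only [Finset.mem_image, Finset.mem_range] at hmem
    obtain ⟨i, hi, rfl⟩ := hmem
    have hr4 : (x * y) ^ 4 = 1 := by rw [← hxy]; exact pow_orderOf_eq_one _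
    interval_cases i
    · rw [pow_zero, orderOf_one] at hu; omega
    · left; rw [pow_one]
    · rw [orderOf_pow' _ (by norm_num : 2 ≠ 0), hxy] at hu
      norm_num at hu
    · right
      apply eq_inv_of_mul_eq_one_left
      rw [← pow_succ, hr4]

theorem card_order_four {K : Type*} [Group K] (hK : Nat.card K = 8)
    (hna : ∃ a b : K, a * b ≠ b * a)
    (hnu : ¬ ∃ z : K, ∀ a : K, orderOf a = 2 → a = z) :
    Nat.card {u : K // orderOf u = 4} = 2 := by
  classical
  obtain ⟨r, hr, hne, hall⟩ := order_four_elts hK hna hnu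
  have hri : orderOf r⁻¹ = 4 := by rw [orderOf_inv, hr]
  rw [Nat.card_eq_two_iff]
  refine ⟨⟨r, hr⟩, ⟨r⁻¹, hri⟩, fun h => hne (congrArg Subtype.val h), ?_⟩
  ext u
  simp only [Set.mem_insert_iff, Set.mem_singleton_iff, Set.mem_univ, iff_true]
  rcases hall u.1 u.2 with h | h
  · left; exact Subtype.ext h
  · right; exact Subtype.ext h

end Cfsg.Agent.Lib.Helper18
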