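import Mathlib
import Cfsg.Agent.Lib.Helper10.BGL.FldDefs
import Cfsg.Agent.Lib.helper8.ChevK
import Cfsg.Agent.Lib.helper8.ChevW0
import Cfsg.Agent.Lib.helper8.ChevTwP1

/-!
# Project BGL (designer helper10), block FLD, row FL10 (`aset_subfield`): the core (helper18), on the STATEMENTS of FL8 (`aset_div_two`) and
FL9 (`aset_mul_odd`).
-/

set_option autoImplicit false

namespace Cfsg.Agent.Lib.Helper10.BGL

open Cfsg.Lie Cfsg.Lie.ChevalleyDatum Cfsg.Agent.Lib.helper8

universe u

variable {K : Type u} [Field K] [Finite K]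

/-- FL10 on the statements of FL8 and FL9 -/
theorem bglfl10_core (p : ℕ) [Fact p.Prime] [CharP K p] (D : ChevalleyDatum)
    (hD : D ∈ [chevG2, chevB2, chevD4, chevF4, chevE6, chevE7, chevE8]) (a : ℕ)
    (H : Subgroup (GL D.Idx K)) (hL : Lq D K (p ^ a) ≤ H) (s : ℕ) (hs : s < D.nroots)
    (h8 : p = 2 → ∀ t u : K, t ∈ Aset D H s → u ∈ Aset D H s → t ≠ 0 → u / t ∈ Aset D H s)
    (h9 : p ≠ 2 → ∀ t u : K, t ∈ Aset D H s → u ∈ Aset D H s → t * u ∈ Aset D H s) :
    ∃ F : Subfield K, ∀ t : K, t ∈ F ↔ t ∈ Aset D H s := by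
  have hB : H8Base.{u} D := h8base_all.{u} D hD
  have h1 : (1 : K) ∈ Aset D H s := aset_rat D H (p ^ a) hL hB s 1 (one_pow _)
  have hmul : ∀ t u : K, t ∈ Aset D H s → u ∈ Aset D H s → t * u ∈ Aset D H s := by
    intro t u ht hu
    by_cases hp : p = 2
    · by_cases ht0 : t = 0
      · rw [ht0, zero_mul]; exact aset_zero D hB H s
      · have hti : t⁻¹ ∈ Aset D H s := by
          have := h8 hp t 1 ht h1 ht0
          rwa [one_div] at this
        have := h8 hp t⁻¹ u hti hu (inv_ne_zero ht0)
        rwa [div_inv_eq_mul, mul_comm] at this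
    · exact h9 hp t u ht hu
  have hpow : ∀ (t : K) (n : ℕ), t ∈ Aset D H s → t ^ n ∈ Aset D H s := by
    intro t n ht
    induction n with
    | zero => rw [pow_zero]; exact h1
    | succ n ih => rw [pow_succ]; exact hmul _ _ ih ht
  have hinv : ∀ t : K, t ∈ Aset D H s → t⁻¹ ∈ Aset D H s := by
    intro t ht
    by_cases ht0 : t = 0
    · rw [ht0, inv_zero]; exact aset_zero D hB H s
    · have := Fintype.ofFinite K
      have hc : 2 ≤ Fintype.card K := Fintype.one_lt_card
      have e : t⁻¹ = t ^ (Fintype.card K - 2) := by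
        have h := FiniteField.pow_card_sub_one_eq_one t ht0
        have h2 : t ^ (Fintype.card K - 2) * t = 1 := by
          rw [← pow_succ]
          have : Fintype.card K - 2 + 1 = Fintype.card K - 1 := by omega
          rw [this, h]
        exact (eq_inv_of_mul_eq_one_left h2).symm
      rw [e]
      exact hpow t _ ht
  refine ⟨{ carrier := Aset D H s
            mul_mem' := fun {t u} ht hu => hmul t u ht hu
            one_mem' := h1
            add_mem' := fun {t u} ht hu => aset_add D hB H s hs t u ht hu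
            zero_mem' := aset_zero D hB H s
            neg_mem' := fun {t} ht => aset_neg D hB H s t ht
            inv_mem' := fun t ht => hinv t ht }, fun t => Iff.rfl⟩

end Cfsg.Agent.Lib.Helper10.BGL
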