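import Mathlib
import Cfsg.Agent.Lib.Helper10.BGL.FldDefs
import Cfsg.Agent.Lib.helper8.ChevK
import Cfsg.Agent.Lib.helper8.ChevW0
import Cfsg.Agent.Lib.helper8.ChevTwP1
import Cfsg.Agent.Lib.Helper18.BGLFL10core
import Cfsg.Agent.Lib.Helper13.BGLFL08
import Cfsg.Agent.Lib.Helper21.BGLFL09

/-!
# Project BGL (S2189 + S2190, designer helper10), block FLD, row FL10 (`aset_subfield`) (helper18), VERBATIM vs `Helper10/BGL/SkelFLD.lean.txt`.
Wrapper of `Helper18.BGLFL10core` on FL8 `aset_div_two` (`Helper13.BGLFL08`) and FL9 `aset_mul_odd` (`Helper21.BGLFL09`).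
-/

set_option autoImplicit false

namespace Cfsg.Agent.Lib.Helper10.BGL

open Cfsg.Lie Cfsg.Lie.ChevalleyDatum Cfsg.Agent.Lib.helper8

universe u

variable {K : Type u} [Field K] [Finite K]

/-- FL10 [S-M].  `A_s` is a subring (FL1, FL8 / FL9, `1 ∈ A_s`) of a finite field, hence a
subfield (`p = 2`: `u / t` gives inverses and products; `p` odd: a finite subring of a field is a
field, or `t⁻¹ = t ^ (|K| - 2)`). -/
theorem aset_subfield (p : ℕ) [Fact p.Prime] [CharP K p] (D : ChevalleyDatum)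
    (hD : D ∈ [chevG2, chevB2, chevD4, chevF4, chevE6, chevE7, chevE8]) (a : ℕ)
    (H : Subgroup (GL D.Idx K)) (hL : Lq D K (p ^ a) ≤ H) (s : ℕ) (hs : s < D.nroots) :
    ∃ F : Subfield K, ∀ t : K, t ∈ F ↔ t ∈ Aset D H s :=
  bglfl10_core p D hD a H hL s hs
    (by rintro rfl; exact fun t u ht hu ht0 => aset_div_two D hD a H hL s hs t u ht hu ht0)
    (fun hp t u ht hu => aset_mul_odd p hp D hD a H hL s hs t u ht hu)

end Cfsg.Agent.Lib.Helper10.BGL
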