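import Mathlib
import Cfsg.Agent.Lib.Helper10.BGL.FldDefs
import Cfsg.Agent.Lib.helper8.ChevK
import Cfsg.Agent.Lib.helper8.ChevW0
import Cfsg.Agent.Lib.helper8.ChevTwP1

/-!
# Project BGL (S2189 + S2190, designer helper10), block FLD, row FL12 (`fld_types`) (helper18), VERBATIM vs `Helper10/BGL/SkelFLD.lean.txt`.
Tables: by cases on `D`, explicit words, `decide`.
-/

set_option autoImplicit false

namespace Cfsg.Agent.Lib.Helper10.BGL

open Cfsg.Lie Cfsg.Lie.ChevalleyDatum Cfsg.Agent.Lib.helper8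

/-- the statement of FL12 for one datum -/
def bglfl12_P (D : ChevalleyDatum) : Prop :=
  ∃ jl js : ℕ, jl < D.rank ∧ js < D.rank ∧
      (∀ j < D.rank, ∃ w : List ℕ, (∀ i ∈ w, i < D.rank) ∧
        (h8sW D w (D.simple j) = D.simple jl ∨ h8sW D w (D.simple j) = D.simple js)) ∧
      (jl = js ∨ (h8K D (D.simple jl) (D.simple js) = -1 ∧
        (h8K D (D.simple js) (D.simple jl) = -2 ∨
          (D = chevG2 ∧ jl = 1 ∧ js = 0 ∧ h8K D (D.simple js) (D.simple jl) = -3))))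

set_option maxRecDepth 100000 in
theorem bglfl12_G2 : bglfl12_P chevG2 := by
  refine ⟨1, 0, by decide, by decide, ?_, Or.inr ⟨by decide, Or.inr ⟨rfl, rfl, rfl, by decide⟩⟩⟩
  intro j hj
  have hj' : j < 2 := hj
  interval_cases j
  · exact ⟨[], by simp, Or.inr rfl⟩
  · exact ⟨[], by simp, Or.inl rfl⟩

set_option maxRecDepth 100000 in
theorem bglfl12_B2 : bglfl12_P chevB2 := by
  refine ⟨1, 0, by decide, by decide, ?_, Or.inr ⟨by decide, Or.inl (by decide)⟩⟩
  intro j hj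
  have hj' : j < 2 := hj
  interval_cases j
  · exact ⟨[], by simp, Or.inr rfl⟩
  · exact ⟨[], by simp, Or.inl rfl⟩

set_option maxRecDepth 100000 in
theorem bglfl12_F4 : bglfl12_P chevF4 := by
  refine ⟨2, 1, by decide, by decide, ?_, Or.inr ⟨by decide, Or.inl (by decide)⟩⟩
  intro j hj
  have hj' : j < 4 := hj
  interval_cases j
  · exact ⟨[0, 1], by decide, Or.inr (by decide)⟩
  · exact ⟨[], by simp, Or.inr rfl⟩
  · exact ⟨[], by simp, Or.inl rfl⟩
  · exact ⟨[3, 2], by decide, Or.inl (by decide)⟩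

set_option maxRecDepth 100000 in
theorem bglfl12_D4 : bglfl12_P chevD4 := by
  refine ⟨0, 0, by decide, by decide, ?_, Or.inl rfl⟩
  intro j hj
  have hj' : j < 4 := hj
  interval_cases j
  · exact ⟨[], by simp, Or.inl rfl⟩
  · exact ⟨[1, 0], by decide, Or.inl (by decide)⟩
  · exact ⟨[1, 0, 2, 1], by decide, Or.inl (by decide)⟩
  · exact ⟨[1, 0, 3, 1], by decide, Or.inl (by decide)⟩

set_option maxRecDepth 100000 in
theorem bglfl12_E6 : bglfl12_P chevE6 := by
  refine ⟨0, 0, by decide, by decide, ?_, Or.inl rfl⟩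
  intro j hj
  have hj' : j < 6 := hj
  interval_cases j
  · exact ⟨[], by simp, Or.inl rfl⟩
  · exact ⟨[2, 0, 3, 2, 1, 3], by decide, Or.inl (by decide)⟩
  · exact ⟨[2, 0], by decide, Or.inl (by decide)⟩
  · exact ⟨[2, 0, 3, 2], by decide, Or.inl (by decide)⟩
  · exact ⟨[2, 0, 3, 2, 4, 3], by decide, Or.inl (by decide)⟩
  · exact ⟨[2, 0, 3, 2, 4, 3, 5, 4], by decide, Or.inl (by decide)⟩

set_option maxRecDepth 100000 in
theorem bglfl12_E7 : bglfl12_P chevE7 := by
  refine ⟨0, 0, by decide, by decide, ?_, Or.inl rfl⟩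
  intro j hj
  have hj' : j < 7 := hj
  interval_cases j
  · exact ⟨[], by simp, Or.inl rfl⟩
  · exact ⟨[2, 0, 3, 2, 1, 3], by decide, Or.inl (by decide)⟩
  · exact ⟨[2, 0], by decide, Or.inl (by decide)⟩
  · exact ⟨[2, 0, 3, 2], by decide, Or.inl (by decide)⟩
  · exact ⟨[2, 0, 3, 2, 4, 3], by decide, Or.inl (by decide)⟩
  · exact ⟨[2, 0, 3, 2, 4, 3, 5, 4], by decide, Or.inl (by decide)⟩
  · exact ⟨[2, 0, 3, 2, 4, 3, 5, 4, 6, 5], by decide, Or.inl (by decide)⟩

set_option maxRecDepth 100000 in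
theorem bglfl12_E8 : bglfl12_P chevE8 := by
  refine ⟨0, 0, by decide, by decide, ?_, Or.inl rfl⟩
  intro j hj
  have hj' : j < 8 := hj
  interval_cases j
  · exact ⟨[], by simp, Or.inl rfl⟩
  · exact ⟨[2, 0, 3, 2, 1, 3], by decide, Or.inl (by decide)⟩
  · exact ⟨[2, 0], by decide, Or.inl (by decide)⟩
  · exact ⟨[2, 0, 3, 2], by decide, Or.inl (by decide)⟩
  · exact ⟨[2, 0, 3, 2, 4, 3], by decide, Or.inl (by decide)⟩
  · exact ⟨[2, 0, 3, 2, 4, 3, 5, 4], by decide, Or.inl (by decide)⟩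
  · exact ⟨[2, 0, 3, 2, 4, 3, 5, 4, 6, 5], by decide, Or.inl (by decide)⟩
  · exact ⟨[2, 0, 3, 2, 4, 3, 5, 4, 6, 5, 7, 6], by decide, Or.inl (by decide)⟩

universe u

/-- FL12 [S] (tables, by cases on `D`, explicit words, `decide` / `rfl`): the simple roots fall into
at most two Weyl orbits, represented by `jl` (long) and `js` (short), adjacent in the diagram.
Data: simply laced: `jl = js = 0`, words from the diagram (`s_i s_j p_i = p_j` for a bond);
G2, B2: `jl = 1`, `js = 0`; F4: `jl = 2`, `js = 1` (`[0,1]`, `[3,2]` move `p_0 ↦ p_1`, `p_3 ↦ p_2`). -/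
theorem fld_types (D : ChevalleyDatum)
    (hD : D ∈ [chevG2, chevB2, chevD4, chevF4, chevE6, chevE7, chevE8]) :
    ∃ jl js : ℕ, jl < D.rank ∧ js < D.rank ∧
      (∀ j < D.rank, ∃ w : List ℕ, (∀ i ∈ w, i < D.rank) ∧
        (h8sW D w (D.simple j) = D.simple jl ∨ h8sW D w (D.simple j) = D.simple js)) ∧
      (jl = js ∨ (h8K D (D.simple jl) (D.simple js) = -1 ∧
        (h8K D (D.simple js) (D.simple jl) = -2 ∨
          (D = chevG2 ∧ jl = 1 ∧ js = 0 ∧ h8K D (D.simple js) (D.simple jl) = -3)))) := by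
  simp only [List.mem_cons, List.not_mem_nil, or_false] at hD
  rcases hD with rfl | rfl | rfl | rfl | rfl | rfl | rfl
  · exact bglfl12_G2
  · exact bglfl12_B2
  · exact bglfl12_D4
  · exact bglfl12_F4
  · exact bglfl12_E6
  · exact bglfl12_E7
  · exact bglfl12_E8

end Cfsg.Agent.Lib.Helper10.BGL
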