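import Mathlib
import Cfsg.Agent.Lib.Helper10.BGL.FldDefs
import Cfsg.Agent.Lib.helper8.ChevK
import Cfsg.Agent.Lib.helper8.ChevW0
import Cfsg.Agent.Lib.helper8.ChevTwP1
import Cfsg.Agent.Lib.helper8.ChevBNAll
import Cfsg.Agent.Lib.helper8.ChevBN3
import Cfsg.Agent.Lib.Helper22.BGLFL2
import Cfsg.Agent.Lib.Helper16.BGLFL13

/-!
# Project BGL (designer helper10), block FLD, row FL16 (`fld_main`): the core (helper18), on the STATEMENTS of FL10 (`aset_subfield`),
FL11 (`aset_torus`), FL12 (`fld_types`), FL14 (`fld_G2_two`), FL15 (`fld_exp`).  FL2 / FL3 (`Helper22.BGLFL2`) and FL13 (`Helper16.BGLFL13`) are cited.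
-/

set_option autoImplicit false

namespace Cfsg.Agent.Lib.Helper10.BGL

open Cfsg.Lie Cfsg.Lie.ChevalleyDatum Cfsg.Agent.Lib.helper8

universe u

variable {K : Type u} [Field K] [Finite K]

/-- FL16 on the statements of FL10, FL11, FL12, FL14, FL15 -/
theorem bglfl16_core (p : ℕ) [Fact p.Prime] [CharP K p] (D : ChevalleyDatum)
    (hD : D ∈ [chevG2, chevB2, chevD4, chevF4, chevE6, chevE7, chevE8]) (a : ℕ)
    (H : Subgroup (GL D.Idx K)) (hL : Lq D K (p ^ a) ≤ H)
    (h10 : ∀ s < D.nroots, ∃ F : Subfield K, ∀ t : K, t ∈ F ↔ t ∈ Aset D H s)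
    (h11 : ∀ r s : ℕ, r < D.nroots → s < D.nroots → ∀ c u : K, c ≠ 0 → c ∈ Aset D H r → c⁻¹ ∈ Aset D H r →
      u ∈ Aset D H s → c ^ (h8K D r s) * u ∈ Aset D H s)
    (h12 : ∃ jl js : ℕ, jl < D.rank ∧ js < D.rank ∧
      (∀ j < D.rank, ∃ w : List ℕ, (∀ i ∈ w, i < D.rank) ∧
        (h8sW D w (D.simple j) = D.simple jl ∨ h8sW D w (D.simple j) = D.simple js)) ∧
      (jl = js ∨ (h8K D (D.simple jl) (D.simple js) = -1 ∧
        (h8K D (D.simple js) (D.simple jl) = -2 ∨
          (D = chevG2 ∧ jl = 1 ∧ js = 0 ∧ h8K D (D.simple js) (D.simple jl) = -3)))))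
    (h14 : D = chevG2 → p = 2 → ∀ t : K, t ∈ Aset D H (D.simple 0) → t ^ 2 ∈ Aset D H (D.simple 1))
    (h15 : ∀ F : Subfield K, (∀ t : K, t ^ (p ^ a) = t → t ∈ F) →
      ∃ r : ℕ, 1 ≤ r ∧ ∀ t : K, t ∈ F ↔ t ^ ((p ^ a) ^ r) = t) :
    ∃ r : ℕ, 1 ≤ r ∧ Lq D K ((p ^ a) ^ r) ≤ H ∧ RootRat D ((p ^ a) ^ r) H := by
  have hB : H8Base.{u} D := h8base_all.{u} D hD
  have hBN : H8BN D := h8bn_all D hD
  obtain ⟨jl, js, hjl, hjs, horb, hK⟩ := h12
  have hsl : D.simple jl < D.nroots := (h8simple_pos D hBN jl hjl).1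
  have hss : D.simple js < D.nroots := (h8simple_pos D hBN js hjs).1
  obtain ⟨Fl, hFl⟩ := h10 _ hsl
  obtain ⟨Fs, hFs⟩ := h10 _ hss
  have h1 : ∀ s, (1 : K) ∈ Aset D H s := fun s => aset_rat D H (p ^ a) hL hB s 1 (one_pow _)
  -- the two subfields coincide
  have hFeq : ∀ t : K, t ∈ Fs ↔ t ∈ Fl := by
    rcases hK with rfl | ⟨hKl, hKs⟩
    · intro t
      rw [hFl, hFs]
    · have hle : Fl ≤ Fs := by
        intro c hc
        by_cases hc0 : c = 0
        · rw [hc0]; exact zero_mem Fs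
        · have h := h11 _ _ hsl hss c 1 hc0 ((hFl c).1 hc) ((hFl _).1 (inv_mem hc)) (h1 _)
          rw [hKl, mul_one, zpow_neg, zpow_one] at h
          have := inv_mem ((hFs _).2 h)
          rwa [inv_inv] at this
      have hpw : ∀ (m : ℕ) (z : ℤ), z = -(m : ℤ) → h8K D (D.simple js) (D.simple jl) = z →
          ∀ c ∈ Fs, c ^ m ∈ Fl := by
        intro m z hz hKz c hc
        by_cases hc0 : c = 0
        · by_cases hm : m = 0
          · rw [hm, pow_zero]; exact one_mem Fl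
          · rw [hc0, zero_pow hm]; exact zero_mem Fl
        · have h := h11 _ _ hss hsl c 1 hc0 ((hFs c).1 hc) ((hFs _).1 (inv_mem hc)) (h1 _)
          rw [hKz, hz, mul_one, zpow_neg, zpow_natCast] at h
          have := inv_mem ((hFl _).2 h)
          rwa [inv_inv] at this
      have hge : Fs ≤ Fl := by
        rcases hKs with hK2 | ⟨hG2, hjl1, hjs0, hK3⟩
        · exact fld_pow_sub p Fl Fs hle 2 (Or.inl rfl) (hpw 2 (-2) rfl hK2)
        · by_cases hp : p = 2
          · refine fld_pow_sub p Fl Fs hle 2 (Or.inl rfl) ?_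
            intro c hc
            have hc' : c ∈ Aset D H (D.simple 0) := by rw [← hjs0]; exact (hFs c).1 hc
            have := h14 hG2 hp c hc'
            rw [← hjl1] at this
            exact (hFl _).2 this
          · exact fld_pow_sub p Fl Fs hle 3 (Or.inr ⟨rfl, hp⟩) (hpw 3 (-3) rfl hK3)
      exact fun t => ⟨fun h => hge h, fun h => hle h⟩
  -- every `A_s` is `Fl`
  have hall : ∀ s < D.nroots, ∀ t : K, t ∈ Aset D H s ↔ t ∈ Fl := by
    intro s hs t
    obtain ⟨j, hj, hsj⟩ := aset_simple p D hD a H hL s hs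
    obtain ⟨w, hw, hw2⟩ := horb j hj
    have hsj' : D.simple j < D.nroots := (h8simple_pos D hBN j hj).1
    have h3 := aset_word p D hD a H hL w hw (D.simple j) hsj'
    rw [hsj, ← h3]
    rcases hw2 with e | e
    · rw [e, hFl]
    · rw [e, ← hFs, hFeq]
  obtain ⟨r, hr1, hr⟩ := h15 Fl (fun t ht => (hFl t).2 (aset_rat D H (p ^ a) hL hB _ t ht))
  refine ⟨r, hr1, ?_, ?_⟩
  · unfold Lq
    rw [Subgroup.closure_le]
    rintro g ⟨s, t, ht, hg⟩
    by_cases hs : s < D.nroots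
    · obtain ⟨g', hg', e⟩ := (hall s hs t).2 ((hr t).2 ht)
      have : g = g' := Units.ext (by rw [hg, e])
      rw [this]
      exact hg'
    · have : g = 1 := by
        apply Units.ext
        rw [hg]
        unfold ChevalleyDatum.x
        rw [dif_neg hs]
        rfl
      rw [this]
      exact H.one_mem
  · rw [rootRat_iff]
    intro s hs t ht
    exact (hr t).1 ((hall s hs t).1 ht)

end Cfsg.Agent.Lib.Helper10.BGL
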