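import Mathlib
import Cfsg.Agent.Lib.Helper10.BGL.FldDefs
import Cfsg.Agent.Lib.helper8.ChevK
import Cfsg.Agent.Lib.helper8.ChevW0
import Cfsg.Agent.Lib.helper8.ChevTwP1
import Cfsg.Agent.Lib.Helper18.BGLFL16core
import Cfsg.Agent.Lib.Helper18.BGLFL10
import Cfsg.Agent.Lib.Helper18.BGLFL12
import Cfsg.Agent.Lib.Helper29.BGLFL11
import Cfsg.Agent.Lib.Helper29.BGLFL14
import Cfsg.Agent.Lib.Helper16.BGLFL15

/-!
# Project BGL (S2189 + S2190, designer helper10), block FLD, row FL16 (`fld_main`) (helper18), VERBATIM vs `Helper10/BGL/SkelFLD.lean.txt`.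
Wrapper of `Helper18.BGLFL16core` on FL10 `aset_subfield` (`Helper18.BGLFL10`), FL11 `aset_torus` (`Helper29.BGLFL11`), FL12 `fld_types`
(`Helper18.BGLFL12`), FL14 `fld_G2_two` (`Helper29.BGLFL14`), FL15 `fld_exp` (`Helper16.BGLFL15`).
-/

set_option autoImplicit false

namespace Cfsg.Agent.Lib.Helper10.BGL

open Cfsg.Lie Cfsg.Lie.ChevalleyDatum Cfsg.Agent.Lib.helper8

universe u

variable {K : Type u} [Field K] [Finite K]

/-- FL16 [M] = `fld_main` of Skel0.  FL3 + FL12 + `aset_word`: every `A_s` is `A_l = A_{p_jl}` or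
`A_s = A_{p_js}`; FL10: subfields `Fl`, `Fs`; if `jl ≠ js`: FL11 with `(r, s) = (p_jl, p_js)`,
`u = 1`: `c⁻¹ ∈ Fs` for `c ∈ Fl`, so `Fl ≤ Fs`; with `(r, s) = (p_js, p_jl)`: `c^(-2) ∈ Fl`
(`c^(-3)` for G2) for `c ∈ Fs`: FL13 (FL14 + perfect for G2, `p = 2`): `Fs ≤ Fl`.  FL15 for
`F = Fl` (`aset_rat`): `r`; `Lq D K (q^r) ≤ H` (generators, `aset_iff`), `RootRat` by `rootRat_iff`. -/
theorem fld_main (p : ℕ) [Fact p.Prime] [CharP K p] (D : ChevalleyDatum)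
    (hD : D ∈ [chevG2, chevB2, chevD4, chevF4, chevE6, chevE7, chevE8]) (a : ℕ) (ha : 1 ≤ a)
    (H : Subgroup (GL D.Idx K)) (hH : H ≤ D.group K) (hL : Lq D K (p ^ a) ≤ H) :
    ∃ r : ℕ, 1 ≤ r ∧ Lq D K ((p ^ a) ^ r) ≤ H ∧ RootRat D ((p ^ a) ^ r) H :=
  bglfl16_core p D hD a H hL
    (fun s hs => aset_subfield p D hD a H hL s hs)
    (fun r s hr hs c u hc0 hc hc' hu => aset_torus p D hD a H hL r s hr hs c u hc0 hc hc' hu)
    (fld_types D hD)
    (by rintro rfl rfl; exact fun t ht => fld_G2_two a H hL t ht)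
    (fun F hk => fld_exp p a ha F hk)

end Cfsg.Agent.Lib.Helper10.BGL
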