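import Mathlib.GroupTheory.Sylow
import Cfsg.Agent.Lib.Helper18.SylowIn
import Cfsg.Agent.Lib.Helper18.PPrimeCore

set_option autoImplicit false

namespace Cfsg.Agent.Lib.Helper18

variable {G : Type*} [Group G] {p : ℕ}

/-- `H` is strongly `p`-embedded in the classical sense. -/
def IsSPE (p : ℕ) (H : Subgroup G) : Prop :=
  H ≠ ⊤ ∧ p ∣ Nat.card H ∧ ∀ g : G, g ∉ H → ¬ p ∣ Nat.card ↥(H ⊓ H.map (MulAut.conj g).toMonoidHom)

theorem IsSPE.mem_of_le [Finite G] [Fact p.Prime] {H : Subgroup G} (hH : IsSPE p H) {D : Subgroup G} {g : G}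
    (hDp : IsPGroup p D) (hD1 : D ≠ ⊥) (hDH : D ≤ H) (hDg : D ≤ conjSub g H) : g ∈ H := by
  by_contra hg
  apply hH.2.2 g hg
  have h1 : p ∣ Nat.card D := by
    rcases hDp.card_eq_or_dvd with h0 | h0
    · exact absurd (Subgroup.card_eq_one.mp h0) hD1
    · exact h0
  exact dvd_trans h1 (Subgroup.card_dvd_of_le (le_inf hDH hDg))

theorem IsSPE.normalizer_le [Finite G] [Fact p.Prime] {H : Subgroup G} (hH : IsSPE p H) {D : Subgroup G}
    (hDp : IsPGroup p D) (hD1 : D ≠ ⊥) (hDH : D ≤ H) : Subgroup.normalizer (D : Set G) ≤ H := by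
  intro g hg
  apply hH.mem_of_le hDp hD1 hDH
  calc D = conjSub g D := (conjSub_eq_of_mem_normalizer hg).symm
    _ ≤ conjSub g H := conjSub_mono hDH

theorem IsSPE.centralizer_le [Finite G] [Fact p.Prime] {H : Subgroup G} (hH : IsSPE p H) {x : G}
    (hxH : x ∈ H) (hx1 : x ≠ 1) (hxp : IsPGroup p (Subgroup.zpowers x)) :
    Subgroup.centralizer ({x} : Set G) ≤ H := by
  intro g hg
  have hD1 : Subgroup.zpowers x ≠ ⊥ := by
    intro h
    apply hx1
    have : x ∈ Subgroup.zpowers x := Subgroup.mem_zpowers x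
    rw [h, Subgroup.mem_bot] at this
    exact this
  apply hH.normalizer_le hxp hD1 (by rw [Subgroup.zpowers_le]; exact hxH)
  have hgx : g * x = x * g := ((Subgroup.mem_centralizer_iff.mp hg) x (Set.mem_singleton x)).symm
  apply mem_normalizer_of_conjSub_le
  rintro _ ⟨y, hy, rfl⟩
  obtain ⟨k, rfl⟩ := Subgroup.mem_zpowers_iff.mp hy
  have : (MulAut.conj g).toMonoidHom (x ^ k) = x ^ k := by
    show g * x ^ k * g⁻¹ = x ^ k
    have hc : Commute g x := hgx
    rw [(hc.zpow_right k).eq, mul_assoc, mul_inv_cancel, mul_one]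
  rw [this]
  exact Subgroup.zpow_mem _ (Subgroup.mem_zpowers x) k

theorem IsSPE.exists_sylow_le [Finite G] [Fact p.Prime] {H : Subgroup G} (hH : IsSPE p H) :
    ∃ S : Sylow p G, (S : Subgroup G) ≤ H := by
  obtain ⟨P⟩ := (inferInstance : Nonempty (Sylow p ↥H))
  have hP := isSylowIn_of_sylow P
  set P₀ := (P : Subgroup ↥H).map H.subtype with hP₀
  have hP1 : P₀ ≠ ⊥ := by
    intro hbot
    apply hP.not_dvd
    rw [hbot, Subgroup.relIndex_bot_left]
    exact hH.2.1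
  obtain ⟨S, hS⟩ := hP.isPGroup.exists_le_sylow
  refine ⟨S, ?_⟩
  by_contra hnot
  have hQ : (S : Subgroup G) ⊓ H = P₀ :=
    hP.eq_of_le inf_le_right (S.isPGroup'.to_le inf_le_left) (le_inf hS hP.le)
  have hlt : P₀ < (S : Subgroup G) := by
    refine lt_of_le_of_ne hS ?_
    intro he
    apply hnot
    rw [← he]; exact hP.le
  obtain ⟨z, hzS, hzN, hzP⟩ := exists_mem_normalizer_not_mem_of_lt_pGroup S.isPGroup' hlt
  have hzH : z ∉ H := by
    intro hz
    apply hzP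
    rw [← hQ]; exact ⟨hzS, hz⟩
  exact hzH (hH.normalizer_le hP.isPGroup hP1 hP.le hzN)

end Cfsg.Agent.Lib.Helper18
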