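import Mathlib
import Cfsg.Agent.Lib.Helper10.BGL.UkzRel

/-!
# Project BGL (S2189 + S2190, designer helper10), sub-block UKZ, rows UKZ0 (`ukz_yb`), UKZ1 (`ukz_step`), UKZ2 (`ukz_prod`) (helper18),
VERBATIM vs `Helper10/BGL/SkelUKZ.lean.txt`.  Plain group computations with the relations `UkzRel`.
-/

set_option autoImplicit false

namespace Cfsg.Agent.Lib.Helper10.BGL

open Cfsg.Lie Cfsg.Lie.ChevalleyDatum Cfsg.Agent.Lib.helper8

universe u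

/-- `b z = z b y`, `b, z ∈ H` ⇒ `y ∈ H` -/
theorem bglukz0_grp {G : Type*} [Group G] (H : Subgroup G) {b z y : G} (h : b * z = z * b * y)
    (hb : b ∈ H) (hz : z ∈ H) : y ∈ H := by
  have : y = b⁻¹ * z⁻¹ * (b * z) := by rw [h]; group
  rw [this]
  exact H.mul_mem (H.mul_mem (H.inv_mem hb) (H.inv_mem hz)) (H.mul_mem hb hz)

variable {K : Type u} [Field K] [Finite K]

omit [Finite K] in
/-- two elements of the same root group commute -/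
theorem bglukz0_comm_self (D : ChevalleyDatum) (hB : H8Base.{u} D) (r : ℕ) (hr : r < D.nroots)
    (s t : K) : Commute (h8xU D hB r s) (h8xU D hB r t) := by
  show _ * _ = _ * _
  rw [h8xU_add D hB r hr, h8xU_add D hB r hr, add_comm]

/-- UKZ0 [S-M]  `z = C(t1) E(t2) ∈ H ⇒ A(t1) E(t1²) ∈ H`.
`B'(1) ∈ H` (`ukz_mem`, `one_pow`).  `b'c` (`t = t1`, `v = 1`) and `eB'`, `eA`, `cE`:
`B'(1) z = z B'(1) A(t1) E(t1²)`, so `A(t1) E(t1²) = B'(1)⁻¹ z⁻¹ B'(1) z ∈ H`. -/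
theorem ukz_yb [CharP K 2] (D : ChevalleyDatum) (hB : H8Base.{u} D) (hrel : UkzRel D hB K)
    (hidx : UkzIdx D) (q : ℕ) (H : Subgroup (GL D.Idx K)) (hL : Lq D K q ≤ H) (t1 t2 : K)
    (hz : h8xU D hB (ukzC D) t1 * h8xU D hB (ukzE D) t2 ∈ H) :
    h8xU D hB (ukzA D) t1 * h8xU D hB (ukzE D) (t1 ^ 2) ∈ H := by
  obtain ⟨hA, hBi, hC, hE, hA', hB'⟩ := hidx
  have hb : h8xU D hB (ukzB' D) (1 : K) ∈ H := ukz_mem D hB q H hL _ 1 (one_pow q)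
  have hbc := hrel.b'c t1 1
  simp only [mul_one] at hbc
  have c1 : Commute (h8xU D hB (ukzB' D) (1 : K)) (h8xU D hB (ukzE D) t2) := (hrel.eB' t2 1).symm
  have c2 : Commute (h8xU D hB (ukzA D) t1 * h8xU D hB (ukzE D) (t1 ^ 2)) (h8xU D hB (ukzE D) t2) :=
    Commute.mul_left (hrel.eA t2 t1).symm (bglukz0_comm_self D hB _ hE _ _)
  refine bglukz0_grp H ?_ hb hz
  calc h8xU D hB (ukzB' D) (1 : K) * (h8xU D hB (ukzC D) t1 * h8xU D hB (ukzE D) t2)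
      = (h8xU D hB (ukzB' D) (1 : K) * h8xU D hB (ukzC D) t1) * h8xU D hB (ukzE D) t2 := by
        rw [mul_assoc]
    _ = h8xU D hB (ukzC D) t1 * h8xU D hB (ukzB' D) 1 *
          ((h8xU D hB (ukzA D) t1 * h8xU D hB (ukzE D) (t1 ^ 2)) * h8xU D hB (ukzE D) t2) := by
        rw [hbc, mul_assoc]
    _ = h8xU D hB (ukzC D) t1 * (h8xU D hB (ukzB' D) 1 * h8xU D hB (ukzE D) t2) *
          (h8xU D hB (ukzA D) t1 * h8xU D hB (ukzE D) (t1 ^ 2)) := by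
        rw [c2.eq]; simp only [mul_assoc]
    _ = h8xU D hB (ukzC D) t1 * h8xU D hB (ukzE D) t2 * h8xU D hB (ukzB' D) 1 *
          (h8xU D hB (ukzA D) t1 * h8xU D hB (ukzE D) (t1 ^ 2)) := by
        rw [c1.eq]; simp only [mul_assoc]

/-- UKZ1 [M]  `z = C(t1) E(t2) ∈ H ⇒ y(t1) = C(t1) E(t1²) ∈ H` and `t2 + t1² ∈ k`.
`yb := A(t1) E(t1²) ∈ H` (UKZ0).  `ba` (`t = t1`, `v = 1`): `C(t1) E(t1²) = B(1)⁻¹ A(t1)⁻¹ B(1) A(t1)
= B(1)⁻¹ yb⁻¹ B(1) yb` (`E(t1²)` commutes with `A`, `B`: `eA`, `eB`) `∈ H`.  Then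
`z * (ukzY t1)⁻¹ = E(t2 - t1²)` (`cE`, `h8xU_add`, `h8xU_inv`) `∈ H`, `ukz_rat`, `CharTwo`. -/
theorem ukz_step [CharP K 2] (D : ChevalleyDatum) (hB : H8Base.{u} D) (hrel : UkzRel D hB K)
    (hidx : UkzIdx D) (q : ℕ) (H : Subgroup (GL D.Idx K)) (hL : Lq D K q ≤ H)
    (hR : RootRat D q H) (t1 t2 : K)
    (hz : h8xU D hB (ukzC D) t1 * h8xU D hB (ukzE D) t2 ∈ H) :
    ukzY D hB t1 ∈ H ∧ Rt q (t2 + t1 ^ 2) := by
  have hyb := ukz_yb D hB hrel hidx q H hL t1 t2 hz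
  obtain ⟨hA, hBi, hC, hE, hA', hB'⟩ := hidx
  have hb : h8xU D hB (ukzB D) (1 : K) ∈ H := ukz_mem D hB q H hL _ 1 (one_pow q)
  have hba := hrel.ba t1 1
  simp only [mul_one] at hba
  -- `E(t1²)` commutes with `B(1)` and with `y(t1)`
  have c1 : Commute (h8xU D hB (ukzE D) (t1 ^ 2)) (h8xU D hB (ukzB D) (1 : K)) := hrel.eB _ _
  have c2 : Commute (h8xU D hB (ukzE D) (t1 ^ 2))
      (h8xU D hB (ukzC D) t1 * h8xU D hB (ukzE D) (t1 ^ 2)) :=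
    Commute.mul_right (hrel.cE _ _).symm (bglukz0_comm_self D hB _ hE _ _)
  have hY : ukzY D hB t1 ∈ H := by
    unfold ukzY
    refine bglukz0_grp H ?_ hb hyb
    calc h8xU D hB (ukzB D) (1 : K) * (h8xU D hB (ukzA D) t1 * h8xU D hB (ukzE D) (t1 ^ 2))
        = (h8xU D hB (ukzB D) (1 : K) * h8xU D hB (ukzA D) t1) * h8xU D hB (ukzE D) (t1 ^ 2) := by
          rw [mul_assoc]
      _ = h8xU D hB (ukzA D) t1 * h8xU D hB (ukzB D) 1 *
            ((h8xU D hB (ukzC D) t1 * h8xU D hB (ukzE D) (t1 ^ 2)) * h8xU D hB (ukzE D) (t1 ^ 2)) := by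
          rw [hba, mul_assoc]
      _ = h8xU D hB (ukzA D) t1 * (h8xU D hB (ukzB D) 1 * h8xU D hB (ukzE D) (t1 ^ 2)) *
            (h8xU D hB (ukzC D) t1 * h8xU D hB (ukzE D) (t1 ^ 2)) := by
          rw [← c2.eq]; simp only [mul_assoc]
      _ = h8xU D hB (ukzA D) t1 * h8xU D hB (ukzE D) (t1 ^ 2) * h8xU D hB (ukzB D) 1 *
            (h8xU D hB (ukzC D) t1 * h8xU D hB (ukzE D) (t1 ^ 2)) := by
          rw [← c1.eq]; simp only [mul_assoc]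
  refine ⟨hY, ?_⟩
  -- `z * y(t1)⁻¹ = E(t2 + t1²)`
  have hq : h8xU D hB (ukzE D) (t2 + t1 ^ 2) ∈ H := by
    have h1 : h8xU D hB (ukzE D) (t2 + t1 ^ 2) =
        (h8xU D hB (ukzC D) t1 * h8xU D hB (ukzE D) t2) * (ukzY D hB t1)⁻¹ := by
      unfold ukzY
      rw [mul_inv_rev, h8xU_inv, h8xU_inv, CharTwo.neg_eq, CharTwo.neg_eq,
        ← h8xU_add D hB _ hE t2 (t1 ^ 2)]
      have c3 : Commute (h8xU D hB (ukzC D) t1)
          (h8xU D hB (ukzE D) t2 * h8xU D hB (ukzE D) (t1 ^ 2)) :=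
        Commute.mul_right (hrel.cE _ _) (hrel.cE _ _)
      calc h8xU D hB (ukzE D) t2 * h8xU D hB (ukzE D) (t1 ^ 2)
          = h8xU D hB (ukzE D) t2 * h8xU D hB (ukzE D) (t1 ^ 2) *
              (h8xU D hB (ukzC D) t1 * h8xU D hB (ukzC D) t1) := by
            rw [h8xU_add D hB _ hC, CharTwo.add_self_eq_zero, h8xU_zero, mul_one]
        _ = h8xU D hB (ukzC D) t1 * (h8xU D hB (ukzE D) t2 * h8xU D hB (ukzE D) (t1 ^ 2)) *
              h8xU D hB (ukzC D) t1 := by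
            rw [c3.eq]; simp only [mul_assoc]
        _ = _ := by simp only [mul_assoc]
    rw [h1]
    exact H.mul_mem hz (H.inv_mem hY)
  exact ukz_rat D hB q H hR _ hE _ hq

/-- UKZ2 [M]  `y(t), y(t') ∈ H ⇒ C(t t'²) E(t² t'²) ∈ H`.
`yb := A(t) E(t²) ∈ H` (UKZ0 for `ukzY t`).  `a'e` (`t = t'²`, `v = 1`) and `cA'`:
`A'(1) y(t') = y(t') A'(1) C(t'²) B(t'²)`, so `w := C(t'²) B(t'²) ∈ H`.  `ba` (`t`, `v = t'²`):
`C(t t'²) E(t² t'²) = B(t'²)⁻¹ A(t)⁻¹ B(t'²) A(t) = w⁻¹ yb⁻¹ w yb` (`C`, `E` commute with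
`A B C E`). -/
theorem ukz_prod [CharP K 2] (D : ChevalleyDatum) (hB : H8Base.{u} D) (hrel : UkzRel D hB K)
    (hidx : UkzIdx D) (q : ℕ) (H : Subgroup (GL D.Idx K)) (hL : Lq D K q ≤ H) (t t' : K)
    (ht : ukzY D hB t ∈ H) (ht' : ukzY D hB t' ∈ H) :
    h8xU D hB (ukzC D) (t * t' ^ 2) * h8xU D hB (ukzE D) (t ^ 2 * t' ^ 2) ∈ H := by
  have hyb := ukz_yb D hB hrel hidx q H hL t (t ^ 2) ht
  obtain ⟨hA, hBi, hC, hE, hA', hB'⟩ := hidx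
  have ha' : h8xU D hB (ukzA' D) (1 : K) ∈ H := ukz_mem D hB q H hL _ 1 (one_pow q)
  have hae := hrel.a'e (t' ^ 2) 1
  simp only [mul_one, one_pow] at hae
  -- `w = C(t'²) B(t'²) ∈ H`
  have hw : h8xU D hB (ukzC D) (t' ^ 2) * h8xU D hB (ukzB D) (t' ^ 2) ∈ H := by
    refine bglukz0_grp H ?_ ha' ht'
    unfold ukzY
    have c1 : Commute (h8xU D hB (ukzA' D) (1 : K)) (h8xU D hB (ukzC D) t') := (hrel.cA' _ _).symm
    calc h8xU D hB (ukzA' D) (1 : K) * (h8xU D hB (ukzC D) t' * h8xU D hB (ukzE D) (t' ^ 2))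
        = (h8xU D hB (ukzA' D) (1 : K) * h8xU D hB (ukzC D) t') * h8xU D hB (ukzE D) (t' ^ 2) := by
          rw [mul_assoc]
      _ = h8xU D hB (ukzC D) t' * (h8xU D hB (ukzA' D) (1 : K) * h8xU D hB (ukzE D) (t' ^ 2)) := by
          rw [c1.eq, mul_assoc]
      _ = _ := by rw [hae]; simp only [mul_assoc]
  have hba := hrel.ba t (t' ^ 2)
  refine bglukz0_grp H ?_ hw hyb
  -- abbreviations
  set A := h8xU D hB (ukzA D) t with hAd
  set Et := h8xU D hB (ukzE D) (t ^ 2) with hEtd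
  set Cw := h8xU D hB (ukzC D) (t' ^ 2) with hCwd
  set Bw := h8xU D hB (ukzB D) (t' ^ 2) with hBwd
  set Cx := h8xU D hB (ukzC D) (t * t' ^ 2) with hCxd
  set Ex := h8xU D hB (ukzE D) (t ^ 2 * t' ^ 2) with hExd
  have cCwA : Commute Cw A := hrel.cA _ _
  have cEtBw : Commute Et Bw := hrel.eB _ _
  have cEtCw : Commute Et Cw := (hrel.cE _ _).symm
  have cEtX : Commute Et (Cx * Ex) :=
    Commute.mul_right (hrel.cE _ _).symm (bglukz0_comm_self D hB _ hE _ _)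
  calc Cw * Bw * (A * Et) = Cw * (Bw * A) * Et := by simp only [mul_assoc]
    _ = Cw * (A * Bw * (Cx * Ex)) * Et := by rw [hba]
    _ = (Cw * A) * Bw * ((Cx * Ex) * Et) := by simp only [mul_assoc]
    _ = (A * Cw) * Bw * (Et * (Cx * Ex)) := by rw [cCwA.eq, cEtX.eq]
    _ = A * Cw * (Bw * Et) * (Cx * Ex) := by simp only [mul_assoc]
    _ = A * (Cw * Et) * Bw * (Cx * Ex) := by rw [← cEtBw.eq]; simp only [mul_assoc]
    _ = A * Et * (Cw * Bw) * (Cx * Ex) := by rw [← cEtCw.eq]; simp only [mul_assoc]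

end Cfsg.Agent.Lib.Helper10.BGL
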