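import Mathlib
import Cfsg.Agent.Lib.Helper10.BGL.UkzRel
import Cfsg.Agent.Lib.Helper18.BGLUKZ0

/-!
# Project BGL (S2189 + S2190, designer helper10), sub-block UKZ, row UKZ3 (`ukz_T`) (helper18), VERBATIM vs `Helper10/BGL/SkelUKZ.lean.txt`.
Field arithmetic in characteristic 2 on UKZ1 `ukz_step`, UKZ2 `ukz_prod` (`Helper18.BGLUKZ0`).
-/

set_option autoImplicit false

namespace Cfsg.Agent.Lib.Helper10.BGL

open Cfsg.Lie Cfsg.Lie.ChevalleyDatum Cfsg.Agent.Lib.helper8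

universe u

/-- the arithmetic of UKZ3: in characteristic `2`, `c = t² + t⁴` and `t² c` fixed by `x ↦ x^q` (`q ≠ 0`) force `t^q = t` -/
theorem bglukz3_arith {K : Type*} [Field K] [CharP K 2] (q : ℕ) (hq : q ≠ 0) (t : K)
    (h4 : (t ^ 2 + t ^ 4) ^ q = t ^ 2 + t ^ 4)
    (h2 : (t ^ 2 * (t ^ 2 + t ^ 4)) ^ q = t ^ 2 * (t ^ 2 + t ^ 4)) : t ^ q = t := by
  by_cases hc : t ^ 2 + t ^ 4 = 0
  · have h1 : t ^ 2 * (1 + t) ^ 2 = 0 := by
      rw [CharTwo.add_sq]; rw [← hc]; ring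
    rcases mul_eq_zero.mp h1 with h | h
    · have : t = 0 := by simpa using h
      rw [this, zero_pow hq]
    · have h' : 1 + t = 0 := by simpa using h
      have : t = 1 := by
        have := CharTwo.add_eq_zero.mp h'
        exact this.symm
      rw [this, one_pow]
  · have h5 : (t ^ 2) ^ q = t ^ 2 := by
      rw [mul_pow, h4] at h2
      exact mul_right_cancel₀ hc h2
    have h6 : (t ^ q + t) ^ 2 = 0 := by
      rw [CharTwo.add_sq, ← pow_mul, mul_comm q 2, pow_mul, h5, CharTwo.add_self_eq_zero]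
    have h7 : t ^ q + t = 0 := by simpa using h6
    exact CharTwo.add_eq_zero.mp h7

variable {K : Type u} [Field K] [Finite K]

/-- UKZ3 [S-M]  `y(t) ∈ H ⇒ t ∈ k`  (field arithmetic, `q = 2^a`).
UKZ2 (`t' = t`) + UKZ1: `Rt q (t² t² + (t t²)²)`, i.e. `t² c ∈ k`, `c = t² + t⁴`;  `y(1) ∈ H`
(`ukz_mem` twice), UKZ2 (`1`, `t`) + UKZ1: `c ∈ k`.  `c ≠ 0`: `t² ∈ k` (division), `t ∈ k`
(`(t^q + t)² = 0`).  `c = 0`: `t = 0` or `t² = 1`, `t = 1`. -/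
theorem ukz_T [CharP K 2] (D : ChevalleyDatum) (hB : H8Base.{u} D) (hrel : UkzRel D hB K)
    (hidx : UkzIdx D) (a : ℕ) (H : Subgroup (GL D.Idx K)) (hL : Lq D K (2 ^ a) ≤ H)
    (hR : RootRat D (2 ^ a) H) (t : K) (ht : ukzY D hB t ∈ H) : Rt (2 ^ a) t := by
  have h1 := ukz_prod D hB hrel hidx (2 ^ a) H hL t t ht ht
  have h2 := (ukz_step D hB hrel hidx (2 ^ a) H hL hR _ _ h1).2
  have hy1 : ukzY D hB (1 : K) ∈ H :=
    H.mul_mem (ukz_mem D hB (2 ^ a) H hL _ 1 (one_pow _))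
      (ukz_mem D hB (2 ^ a) H hL _ ((1 : K) ^ 2) (by simp))
  have h3 := ukz_prod D hB hrel hidx (2 ^ a) H hL 1 t hy1 ht
  have h4 := (ukz_step D hB hrel hidx (2 ^ a) H hL hR _ _ h3).2
  unfold Rt at h2 h4 ⊢
  have e2 : t ^ 2 * t ^ 2 + (t * t ^ 2) ^ 2 = t ^ 2 * (t ^ 2 + t ^ 4) := by ring
  have e4 : (1 : K) ^ 2 * t ^ 2 + (1 * t ^ 2) ^ 2 = t ^ 2 + t ^ 4 := by ring
  rw [e2] at h2
  rw [e4] at h4
  exact bglukz3_arith (2 ^ a) (pow_ne_zero a (by norm_num)) t h4 h2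

end Cfsg.Agent.Lib.Helper10.BGL
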