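import Mathlib
import Cfsg.Agent.Lib.Helper22.C3L.Defs
import Cfsg.Agent.Lib.helper8.C3S.Defs

set_option autoImplicit false
set_option linter.unusedVariables false
set_option linter.unusedSectionVars false

/-!
# C3S / LS0 (helper18): the elements of `LS B H v` are self-adjoint for the trace form.
-/

namespace Cfsg.Agent.Lib.helper8.C3S

open Module Cfsg.Agent.Lib.Helper22.C3L

variable {F K V : Type*} [Field F] [Field K] [Algebra F K] [AddCommGroup V] [Module F V] [Module K V]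
  [IsScalarTower F K V]

/-- an alternating form is skew-symmetric -/
theorem c3sls0_skew (B : V →ₗ[K] V →ₗ[K] K) (hB0 : ∀ x, B x x = 0) (x y : V) : B y x = - B x y := by
  have h := hB0 (x + y)
  simp only [map_add, LinearMap.add_apply, hB0] at h
  linear_combination h

/-- `x ↦ B (x, v)` is onto `K` for `v ≠ 0` -/
theorem c3sls0_onto (B : V →ₗ[K] V →ₗ[K] K) (hB0 : ∀ x, B x x = 0) (hBn : ∀ x, x ≠ 0 → ∃ y, B x y ≠ 0)
    {v : V} (hv : v ≠ 0) (s : K) : ∃ x : V, B x v = s := by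
  obtain ⟨y, hy⟩ := hBn v hv
  have hy' : B y v ≠ 0 := by
    rw [c3sls0_skew B hB0 v y]
    exact neg_ne_zero.mpr hy
  refine ⟨(s / B y v) • y, ?_⟩
  rw [map_smul, LinearMap.smul_apply, smul_eq_mul, div_mul_cancel₀ _ hy']

/-- expansion of `B (x + c v, y + d v)` -/
theorem c3sls0_expand (B : V →ₗ[K] V →ₗ[K] K) (hB0 : ∀ x, B x x = 0) (x y v : V) (c d : K) :
    B (x + c • v) (y + d • v) = B x y + d * B x v - c * B y v := by
  simp only [map_add, LinearMap.add_apply, map_smul, LinearMap.smul_apply, smul_eq_mul, hB0]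
  rw [c3sls0_skew B hB0 y v]
  ring

/-- LS0 [M] the elements of `LS` are self-adjoint for the trace form (`H ≤ Spf`). -/
theorem ls_selfadj (B : V →ₗ[K] V →ₗ[K] K) (hB0 : ∀ x, B x x = 0) (hBn : ∀ x, x ≠ 0 → ∃ y, B x y ≠ 0)
    (H : Subgroup (V ≃ₗ[F] V)) (hH : H ≤ Spf F B) {v : V} (hv : v ≠ 0) {β : K →ₗ[F] K} (hβ : β ∈ LS B H v) :
    TrAdj β β := by
  obtain ⟨g, hg, hgx⟩ := hβ
  have hS := hH hg
  intro s t
  obtain ⟨x, hx⟩ := c3sls0_onto B hB0 hBn hv s
  obtain ⟨y, hy⟩ := c3sls0_onto B hB0 hBn hv t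
  have h1 := hS x y
  rw [hgx x, hgx y, c3sls0_expand B hB0, hx, hy, map_sub, map_add] at h1
  have h2 : Algebra.trace F K (β t * s) = Algebra.trace F K (β s * t) := by
    linear_combination h1
  rw [← h2, mul_comm]

end Cfsg.Agent.Lib.helper8.C3S
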