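import Mathlib
import Cfsg.Agent.Lib.Helper22.C3L.Defs
import Cfsg.Agent.Lib.helper8.C3S.Defs

set_option autoImplicit false
set_option linter.unusedVariables false
set_option linter.unusedSectionVars false

/-!
# C3S / LS1 (helper18): `LS B H v` is an additive subgroup of `End_F(K)`.
-/

namespace Cfsg.Agent.Lib.helper8.C3S

open Module Cfsg.Agent.Lib.Helper22.C3L

variable {F K V : Type*} [Field F] [Field K] [Algebra F K] [AddCommGroup V] [Module F V] [Module K V]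
  [IsScalarTower F K V]

/-- `B (x + c v, v) = B (x, v)` for an alternating form. -/
theorem c3sls1_B_add_smul (B : V →ₗ[K] V →ₗ[K] K) (hB0 : ∀ x, B x x = 0) (x v : V) (c : K) :
    B (x + c • v) v = B x v := by
  rw [map_add, LinearMap.add_apply, map_smul, LinearMap.smul_apply, hB0, smul_zero, add_zero]

/-- LS1 [S-M] `LS` is an additive subgroup (`(1 + X_β)(1 + X_β') = 1 + X_{β + β'}` since `B (v, v) = 0`). -/
theorem ls_zero (B : V →ₗ[K] V →ₗ[K] K) (H : Subgroup (V ≃ₗ[F] V)) (v : V) : (0 : K →ₗ[F] K) ∈ LS B H v := by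
  refine ⟨1, H.one_mem, fun x => ?_⟩
  rw [LinearMap.zero_apply, zero_smul, add_zero]
  rfl

theorem ls_add (B : V →ₗ[K] V →ₗ[K] K) (hB0 : ∀ x, B x x = 0) (H : Subgroup (V ≃ₗ[F] V)) (v : V) {β β' : K →ₗ[F] K}
    (hβ : β ∈ LS B H v) (hβ' : β' ∈ LS B H v) : β + β' ∈ LS B H v := by
  obtain ⟨g, hg, hgx⟩ := hβ
  obtain ⟨g', hg', hgx'⟩ := hβ'
  refine ⟨g * g', H.mul_mem hg hg', fun x => ?_⟩
  rw [LinearEquiv.mul_apply, hgx, hgx', c3sls1_B_add_smul B hB0, LinearMap.add_apply, add_smul]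
  abel

theorem ls_neg (B : V →ₗ[K] V →ₗ[K] K) (hB0 : ∀ x, B x x = 0) (H : Subgroup (V ≃ₗ[F] V)) (v : V) {β : K →ₗ[F] K}
    (hβ : β ∈ LS B H v) : -β ∈ LS B H v := by
  obtain ⟨g, hg, hgx⟩ := hβ
  refine ⟨g⁻¹, H.inv_mem hg, fun x => ?_⟩
  apply g.injective
  have h1 : g (g⁻¹ x) = x := by
    rw [← LinearEquiv.mul_apply, mul_inv_cancel]
    rfl
  rw [h1, hgx, c3sls1_B_add_smul B hB0, LinearMap.neg_apply, neg_smul]
  abel

end Cfsg.Agent.Lib.helper8.C3S
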