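import Mathlib
import Cfsg.Agent.Lib.Helper22.C3L.Defs
import Cfsg.Agent.Lib.helper8.C3S.Defs
import Cfsg.Agent.Lib.Helper18.C3SLS0

set_option autoImplicit false
set_option linter.unusedVariables false
set_option linter.unusedSectionVars false
set_option linter.style.haveILetI false

/-!
# C3S / R22 part a (helper18): the `F`-transvections `t_z : x ↦ x + Tr (B (x, z)) z`, `F = F_2`, `K = F_4`.
-/

namespace Cfsg.Agent.Lib.helper8.C3S

open Module Cfsg.Agent.Lib.Helper22.C3L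

variable {F K V : Type*} [Field F] [Field K] [Algebra F K] [AddCommGroup V] [Module F V] [Module K V]
  [IsScalarTower F K V]

variable (F) in
/-- the functional `x ↦ Tr (B (x, z))` -/
noncomputable def c3sr22k_phi (B : V →ₗ[K] V →ₗ[K] K) (z : V) : Module.Dual F V :=
  (Algebra.trace F K) ∘ₗ ((B.flip z).restrictScalars F)

theorem c3sr22k_phi_apply (B : V →ₗ[K] V →ₗ[K] K) (z x : V) :
    c3sr22k_phi F B z x = Algebra.trace F K (B x z) := rfl

theorem c3sr22k_phi_self (B : V →ₗ[K] V →ₗ[K] K) (hB0 : ∀ x, B x x = 0) (z : V) :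
    c3sr22k_phi F B z z = 0 := by
  rw [c3sr22k_phi_apply, hB0, map_zero]

variable (F) in
/-- the `F`-transvection `t_z : x ↦ x + Tr (B (x, z)) z` -/
noncomputable def c3sr22k_t (B : V →ₗ[K] V →ₗ[K] K) (hB0 : ∀ x, B x x = 0) (z : V) : V ≃ₗ[F] V :=
  LinearEquiv.transvection (c3sr22k_phi_self (F := F) B hB0 z)

theorem c3sr22k_t_apply (B : V →ₗ[K] V →ₗ[K] K) (hB0 : ∀ x, B x x = 0) (z x : V) :
    c3sr22k_t F B hB0 z x = x + Algebra.trace F K (B x z) • z := rfl

/-- `B (x, c z) = c B (x, z)` for `c : F` -/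
theorem c3sr22k_B_fsmul_right (B : V →ₗ[K] V →ₗ[K] K) (x z : V) (c : F) : B x (c • z) = c • B x z :=
  LinearMap.map_smul_of_tower (B x) c z

theorem c3sr22k_B_fsmul_left (B : V →ₗ[K] V →ₗ[K] K) (x z : V) (c : F) : B (c • x) z = c • B x z := by
  rw [LinearMap.map_smul_of_tower B c x, LinearMap.smul_apply]

/-- `Tr B (x + c u, z) = Tr B (x, z) + c Tr B (u, z)` -/
theorem c3sr22k_tr_add_smul (B : V →ₗ[K] V →ₗ[K] K) (x u z : V) (c : F) :
    Algebra.trace F K (B (x + c • u) z) = Algebra.trace F K (B x z) + c * Algebra.trace F K (B u z) := by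
  rw [map_add, LinearMap.add_apply, c3sr22k_B_fsmul_left, map_add, map_smul, smul_eq_mul]

/-- `t_z` is an isometry of `f = Tr ∘ B` -/
theorem c3sr22k_t_mem_Spf (B : V →ₗ[K] V →ₗ[K] K) (hB0 : ∀ x, B x x = 0) (z : V) :
    c3sr22k_t F B hB0 z ∈ Spf F B := by
  intro x y
  rw [c3sr22k_t_apply, c3sr22k_t_apply, c3sr22k_tr_add_smul]
  have h1 : ∀ (u : V) (c : F), Algebra.trace F K (B u (y + c • z)) =
      Algebra.trace F K (B u y) + c * Algebra.trace F K (B u z) := by
    intro u c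
    rw [map_add, c3sr22k_B_fsmul_right, map_add, map_smul, smul_eq_mul]
  rw [h1, h1, hB0, map_zero, c3sls0_skew B hB0 y z, map_neg]
  ring

/-- conjugation: `h t_z h⁻¹ = t_{h z}` for an isometry `h` of `f` -/
theorem c3sr22k_t_conj (B : V →ₗ[K] V →ₗ[K] K) (hB0 : ∀ x, B x x = 0) {h : V ≃ₗ[F] V} (hh : h ∈ Spf F B)
    (z : V) : h * c3sr22k_t F B hB0 z * h⁻¹ = c3sr22k_t F B hB0 (h z) := by
  apply LinearEquiv.ext
  intro x
  rw [LinearEquiv.mul_apply, LinearEquiv.mul_apply, c3sr22k_t_apply, c3sr22k_t_apply, map_add, map_smul]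
  have h1 : h (h⁻¹ x) = x := by
    rw [← LinearEquiv.mul_apply, mul_inv_cancel]
    rfl
  have h2 := hh (h⁻¹ x) z
  rw [h1] at h2
  rw [h1, h2]

/-- `t_0 = 1` -/
theorem c3sr22k_t_zero (B : V →ₗ[K] V →ₗ[K] K) (hB0 : ∀ x, B x x = 0) : c3sr22k_t F B hB0 0 = 1 := by
  apply LinearEquiv.ext
  intro x
  rw [c3sr22k_t_apply, smul_zero, add_zero]
  rfl

/-- in characteristic two `t_z` is an involution -/
theorem c3sr22k_t_sq (h2F : (1 : F) + 1 = 0) (B : V →ₗ[K] V →ₗ[K] K) (hB0 : ∀ x, B x x = 0) (z : V) :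
    c3sr22k_t F B hB0 z * c3sr22k_t F B hB0 z = 1 := by
  apply LinearEquiv.ext
  intro x
  rw [LinearEquiv.mul_apply, c3sr22k_t_apply, c3sr22k_t_apply, c3sr22k_tr_add_smul, hB0, map_zero, mul_zero,
    add_zero, add_assoc, ← add_smul]
  have : Algebra.trace F K (B x z) + Algebra.trace F K (B x z) = 0 := by
    linear_combination Algebra.trace F K (B x z) * h2F
  rw [this, zero_smul, add_zero]
  rfl

theorem c3sr22k_t_inv (h2F : (1 : F) + 1 = 0) (B : V →ₗ[K] V →ₗ[K] K) (hB0 : ∀ x, B x x = 0) (z : V) :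
    (c3sr22k_t F B hB0 z)⁻¹ = c3sr22k_t F B hB0 z :=
  inv_eq_of_mul_eq_one_left (c3sr22k_t_sq h2F B hB0 z)


/-! ### arithmetic of `F_2 ⊆ F_4` -/

theorem c3sr22k_twoF (hF : Nat.card F = 2) : (1 : F) + 1 = 0 := by
  have : Finite F := Nat.finite_of_card_ne_zero (by omega)
  letI := Fintype.ofFinite F
  have h1 : (Fintype.card F : F) = 0 := Nat.cast_card_eq_zero F
  rw [← Nat.card_eq_fintype_card, hF] at h1
  norm_num at h1
  linear_combination h1

theorem c3sr22k_twoK (hF : Nat.card F = 2) : (2 : K) = 0 := by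
  have h := congrArg (algebraMap F K) (c3sr22k_twoF hF)
  rw [map_add, map_one, map_zero] at h
  linear_combination h

/-- `Tr y = y + y²` -/
theorem c3sr22k_tr [Finite K] (hF : Nat.card F = 2) (h2 : finrank F K = 2) (y : K) :
    algebraMap F K (Algebra.trace F K y) = y + y ^ 2 := by
  rw [FiniteField.algebraMap_trace_eq_sum_pow F K y, h2, hF, Finset.sum_range_succ, Finset.sum_range_succ,
    Finset.sum_range_zero]
  norm_num

/-- `k³ = 1` for `k ≠ 0` in `F_4` -/
theorem c3sr22k_cube [Finite K] (hF : Nat.card F = 2) (h2 : finrank F K = 2) {k : K} (hk : k ≠ 0) :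
    k ^ 3 = 1 := by
  have : Finite F := Nat.finite_of_card_ne_zero (by omega)
  have : FiniteDimensional F K := inferInstance
  letI := Fintype.ofFinite K
  have hc : Fintype.card K = 4 := by
    rw [← Nat.card_eq_fintype_card, Module.natCard_eq_pow_finrank (K := F) (V := K), hF, h2]
    norm_num
  have h := FiniteField.pow_card_sub_one_eq_one k hk
  rwa [hc] at h

/-- the key identity: `Tr (b β) b + Tr (a β) a = a b β` for distinct non-zero `a, b ∈ F_4` -/
theorem c3sr22k_id [Finite K] (hF : Nat.card F = 2) (h2 : finrank F K = 2) {a b : K} (ha : a ≠ 0)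
    (hb : b ≠ 0) (hab : a ≠ b) (β : K) :
    Algebra.trace F K (b * β) • b + Algebra.trace F K (a * β) • a = a * b * β := by
  have h2K : (2 : K) = 0 := c3sr22k_twoK hF
  have ha3 := c3sr22k_cube hF h2 ha
  have hb3 := c3sr22k_cube hF h2 hb
  have e1 : a ^ 2 + a * b + b ^ 2 = 0 := by
    have h : (a + b) * (a ^ 2 + a * b + b ^ 2) = 0 := by
      linear_combination ha3 + hb3 + (1 + a ^ 2 * b + a * b ^ 2) * h2K
    rcases mul_eq_zero.mp h with h' | h'
    · exfalso
      apply hab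
      linear_combination h' - b * h2K
    · exact h'
  rw [Algebra.smul_def, Algebra.smul_def, c3sr22k_tr hF h2, c3sr22k_tr hF h2]
  linear_combination β * e1 + β ^ 2 * ha3 + β ^ 2 * hb3 + (β ^ 2 - a * b * β) * h2K

/-! ### points of one `K`-line -/

/-- `t_{a x} t_{b x}` is a `K`-transvection (or `1`): it lies in `SpB` -/
theorem c3sr22k_line [Finite K] (hF : Nat.card F = 2) (h2 : finrank F K = 2)
    (B : V →ₗ[K] V →ₗ[K] K) (hB0 : ∀ x, B x x = 0)
    (hktv : ∀ (u : V) (c : K), ∃ g ∈ SpB F B, ∀ x : V, g x = x + (c * B x u) • u)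
    (x : V) {a b : K} (ha : a ≠ 0) (hb : b ≠ 0) :
    c3sr22k_t F B hB0 (a • x) * c3sr22k_t F B hB0 (b • x) ∈ SpB F B := by
  by_cases hab : a = b
  · subst hab
    rw [c3sr22k_t_sq (c3sr22k_twoF hF) B hB0]
    exact (SpB F B).one_mem
  · obtain ⟨g, hg, hgx⟩ := hktv x (a * b)
    have : c3sr22k_t F B hB0 (a • x) * c3sr22k_t F B hB0 (b • x) = g := by
      apply LinearEquiv.ext
      intro y
      rw [LinearEquiv.mul_apply, c3sr22k_t_apply, c3sr22k_t_apply, c3sr22k_tr_add_smul, hgx]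
      have e0 : B (b • x) (a • x) = 0 := by
        simp only [map_smul, LinearMap.smul_apply, hB0, smul_zero]
      have e1 : B y (b • x) = b * B y x := by rw [map_smul, smul_eq_mul]
      have e2 : B y (a • x) = a * B y x := by rw [map_smul, smul_eq_mul]
      rw [e0, map_zero, mul_zero, add_zero, e1, e2, add_assoc, ← smul_assoc, ← smul_assoc, ← add_smul,
        c3sr22k_id hF h2 ha hb hab]
    rw [this]
    exact hg

end Cfsg.Agent.Lib.helper8.C3S
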