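import Mathlib
import Cfsg.Agent.Lib.Helper22.C3L.Defs
import Cfsg.Agent.Lib.helper8.C3S.Defs
import Cfsg.Agent.Lib.Helper18.C3SLS0

set_option autoImplicit false
set_option linter.unusedVariables false
set_option linter.unusedSectionVars false
set_option linter.style.haveILetI false

/-!
# C3S / R22 part b (helper18): Witt-type lemmas for `SpB` from `K`-transvections.
-/

namespace Cfsg.Agent.Lib.helper8.C3S

open Module Cfsg.Agent.Lib.Helper22.C3L

variable {F K V : Type*} [Field F] [Field K] [Algebra F K] [AddCommGroup V] [Module F V] [Module K V]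
  [IsScalarTower F K V]

/-- one `K`-transvection: `y ↦ y'` fixing `v` when `B (y, v) = B (y', v)` and `B (y, y') ≠ 0` -/
theorem c3sr22k_w1 (B : V →ₗ[K] V →ₗ[K] K) (hB0 : ∀ x, B x x = 0)
    (hktv : ∀ (u : V) (c : K), ∃ g ∈ SpB F B, ∀ x : V, g x = x + (c * B x u) • u)
    {v y y' : V} (hs : B y v = B y' v) (hyy : B y y' ≠ 0) :
    ∃ g ∈ SpB F B, g v = v ∧ g y = y' := by
  obtain ⟨g, hg, hgx⟩ := hktv (y' - y) (B y y')⁻¹
  refine ⟨g, hg, ?_, ?_⟩
  · rw [hgx]
    have : B v (y' - y) = 0 := by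
      rw [map_sub, c3sls0_skew B hB0 y' v, c3sls0_skew B hB0 y v, hs]
      ring
    rw [this, mul_zero, zero_smul, add_zero]
  · rw [hgx]
    have : B y (y' - y) = B y y' := by rw [map_sub, hB0, sub_zero]
    rw [this, inv_mul_cancel₀ hyy, one_smul]
    abel

/-- `y ∉ K v` : some `w ⊥ v` is not orthogonal to `y` -/
theorem c3sr22k_w2a (B : V →ₗ[K] V →ₗ[K] K) (hB0 : ∀ x, B x x = 0) (hBn : ∀ x, x ≠ 0 → ∃ y, B x y ≠ 0)
    {v y : V} (hy : ∀ b : K, y ≠ b • v) : ∃ w, B w v = 0 ∧ B w y ≠ 0 := by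
  by_contra hcon
  push Not at hcon
  by_cases hv : v = 0
  · have hy0 : y = 0 := by
      by_contra hy0
      obtain ⟨z, hz⟩ := hBn y hy0
      have h1 := hcon z (by rw [hv, map_zero])
      rw [c3sls0_skew B hB0 y z] at h1
      exact hz (neg_eq_zero.mp h1)
    exact hy 0 (by rw [hy0, zero_smul])
  · obtain ⟨x0, hx0⟩ := c3sls0_onto B hB0 hBn hv 1
    have h1 : ∀ w, B w y = B w v * B x0 y := by
      intro w
      have h := hcon (w - (B w v) • x0) (by
        rw [map_sub, LinearMap.sub_apply, map_smul, LinearMap.smul_apply, hx0, smul_eq_mul, mul_one, sub_self])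
      rw [map_sub, LinearMap.sub_apply, map_smul, LinearMap.smul_apply, smul_eq_mul] at h
      linear_combination h
    have h2 : y - (B x0 y) • v = 0 := by
      by_contra hne
      obtain ⟨z, hz⟩ := hBn _ hne
      apply hz
      rw [c3sls0_skew B hB0 z (y - (B x0 y) • v), map_sub, map_smul, h1 z, smul_eq_mul]
      ring
    exact hy (B x0 y) (sub_eq_zero.mp h2)

/-- two non-vanishing conditions can be met simultaneously -/
theorem c3sr22k_two (B : V →ₗ[K] V →ₗ[K] K) (P : V → Prop) (hP : ∀ a b, P a → P b → P (a + b))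
    {y y' w1 w2 : V} (h1 : P w1) (h1' : B w1 y ≠ 0) (h2 : P w2) (h2' : B w2 y' ≠ 0) :
    ∃ w, P w ∧ B w y ≠ 0 ∧ B w y' ≠ 0 := by
  by_cases ha : B w1 y' = 0
  · by_cases hb : B w2 y = 0
    · refine ⟨w1 + w2, hP _ _ h1 h2, ?_, ?_⟩
      · rw [map_add, LinearMap.add_apply, hb, add_zero]
        exact h1'
      · rw [map_add, LinearMap.add_apply, ha, zero_add]
        exact h2'
    · exact ⟨w2, h2, hb, h2'⟩
  · exact ⟨w1, h1, h1', ha⟩

/-- Witt for pairs: the stabiliser of `v` in `SpB` is transitive on `{y ∉ K v : B (y, v) = s}` -/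
theorem c3sr22k_witt (B : V →ₗ[K] V →ₗ[K] K) (hB0 : ∀ x, B x x = 0) (hBn : ∀ x, x ≠ 0 → ∃ y, B x y ≠ 0)
    (hktv : ∀ (u : V) (c : K), ∃ g ∈ SpB F B, ∀ x : V, g x = x + (c * B x u) • u)
    {v y y' : V} (hs : B y v = B y' v) (hy : ∀ b : K, y ≠ b • v) (hy' : ∀ b : K, y' ≠ b • v) :
    ∃ g ∈ SpB F B, g v = v ∧ g y = y' := by
  by_cases hyy : B y y' = 0
  · obtain ⟨w1, hw1, hw1'⟩ := c3sr22k_w2a B hB0 hBn hy
    obtain ⟨w2, hw2, hw2'⟩ := c3sr22k_w2a B hB0 hBn hy'
    obtain ⟨w, hw, hwy, hwy'⟩ := c3sr22k_two B (fun w => B w v = 0)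
      (by intro a b ha hb; rw [map_add, LinearMap.add_apply, ha, hb, add_zero]) hw1 hw1' hw2 hw2'
    have e1 : B y v = B (y + w) v := by rw [map_add, LinearMap.add_apply, hw, add_zero]
    have e2 : B y (y + w) ≠ 0 := by
      rw [map_add, hB0, zero_add, c3sls0_skew B hB0 w y]
      exact neg_ne_zero.mpr hwy
    have e3 : B (y + w) y' ≠ 0 := by
      rw [map_add, LinearMap.add_apply, hyy, zero_add]
      exact hwy'
    obtain ⟨g1, hg1, hg1v, hg1y⟩ := c3sr22k_w1 B hB0 hktv e1 e2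
    obtain ⟨g2, hg2, hg2v, hg2y⟩ := c3sr22k_w1 B hB0 hktv (e1.symm.trans hs) e3
    exact ⟨g2 * g1, (SpB F B).mul_mem hg2 hg1, by rw [LinearEquiv.mul_apply, hg1v, hg2v],
      by rw [LinearEquiv.mul_apply, hg1y, hg2y]⟩
  · exact c3sr22k_w1 B hB0 hktv hs hyy

/-- two non-zero vectors have a common non-orthogonal vector -/
theorem c3sr22k_common (B : V →ₗ[K] V →ₗ[K] K) (hB0 : ∀ x, B x x = 0) (hBn : ∀ x, x ≠ 0 → ∃ y, B x y ≠ 0)
    {x y : V} (hx : x ≠ 0) (hy : y ≠ 0) : ∃ z, B z x ≠ 0 ∧ B z y ≠ 0 := by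
  obtain ⟨z1, hz1⟩ := hBn x hx
  obtain ⟨z2, hz2⟩ := hBn y hy
  have h1 : B z1 x ≠ 0 := by
    rw [c3sls0_skew B hB0 x z1]
    exact neg_ne_zero.mpr hz1
  have h2 : B z2 y ≠ 0 := by
    rw [c3sls0_skew B hB0 y z2]
    exact neg_ne_zero.mpr hz2
  obtain ⟨z, -, hz, hz'⟩ := c3sr22k_two B (fun _ => True) (fun _ _ _ _ => trivial) trivial h1 trivial h2
  exact ⟨z, hz, hz'⟩

/-- `dim_K V ≥ 3`: some `w ⊥ v` lies outside `K v` -/
theorem c3sr22k_perp [FiniteDimensional K V] (hm : 3 ≤ finrank K V) (B : V →ₗ[K] V →ₗ[K] K)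
    (hB0 : ∀ x, B x x = 0) (hBn : ∀ x, x ≠ 0 → ∃ y, B x y ≠ 0) {v : V} (hv : v ≠ 0) :
    ∃ w, B w v = 0 ∧ ∀ b : K, w ≠ b • v := by
  classical
  by_contra hcon
  push Not at hcon
  obtain ⟨x0, hx0⟩ := c3sls0_onto B hB0 hBn hv 1
  have htop : (⊤ : Submodule K V) ≤ Submodule.span K (({v, x0} : Finset V) : Set V) := by
    intro w _
    obtain ⟨b, hb⟩ := hcon (w - (B w v) • x0) (by
      rw [map_sub, LinearMap.sub_apply, map_smul, LinearMap.smul_apply, hx0, smul_eq_mul, mul_one, sub_self])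
    have : w = b • v + (B w v) • x0 := sub_eq_iff_eq_add.mp hb
    rw [this]
    exact add_mem (Submodule.smul_mem _ _ (Submodule.subset_span (by simp)))
      (Submodule.smul_mem _ _ (Submodule.subset_span (by simp)))
  have h1 : finrank K V ≤ 2 := by
    calc finrank K V = finrank K (⊤ : Submodule K V) := (finrank_top K V).symm
      _ ≤ finrank K (Submodule.span K (({v, x0} : Finset V) : Set V)) := Submodule.finrank_mono htop
      _ ≤ ({v, x0} : Finset V).card := finrank_span_finset_le_card _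
      _ ≤ 2 := Finset.card_le_two
  omega

end Cfsg.Agent.Lib.helper8.C3S
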