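import Mathlib
import Cfsg.Agent.Lib.Helper18.C3SR22a
import Cfsg.Agent.Lib.Helper18.C3SR22b

set_option autoImplicit false
set_option linter.unusedVariables false
set_option linter.unusedSectionVars false
set_option linter.style.haveILetI false

/-!
# C3S / R22 part c (helper18): the seven-transvection identity and the core of `r22`.
-/

namespace Cfsg.Agent.Lib.helper8.C3S

open Module Cfsg.Agent.Lib.Helper22.C3L

variable {F K V : Type*} [Field F] [Field K] [Algebra F K] [AddCommGroup V] [Module F V] [Module K V]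
  [IsScalarTower F K V]

/-- the product of the seven transvections of a totally isotropic `F_2`-space of dimension three is `1` -/
theorem c3sr22k_seven (h2F : (1 : F) + 1 = 0) (B : V →ₗ[K] V →ₗ[K] K) (hB0 : ∀ x, B x x = 0)
    {a b c : V} (hab : B a b = 0) (hac : B a c = 0) (hbc : B b c = 0) :
    c3sr22k_t F B hB0 a = (c3sr22k_t F B hB0 b * c3sr22k_t F B hB0 c) *
      (c3sr22k_t F B hB0 (a + b) * c3sr22k_t F B hB0 (a + c)) *
      (c3sr22k_t F B hB0 (b + c) * c3sr22k_t F B hB0 (a + b + c)) := by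
  have hba : B b a = 0 := by rw [c3sls0_skew B hB0 a b, hab, neg_zero]
  have hca : B c a = 0 := by rw [c3sls0_skew B hB0 a c, hac, neg_zero]
  have hcb : B c b = 0 := by rw [c3sls0_skew B hB0 b c, hbc, neg_zero]
  apply LinearEquiv.ext
  intro x
  simp only [LinearEquiv.mul_apply, c3sr22k_t_apply, map_add, LinearMap.add_apply, c3sr22k_B_fsmul_left,
    hab, hac, hbc, hba, hca, hcb, hB0, smul_zero, add_zero, map_zero, zero_smul]
  have h2 : (2 : F) = 0 := by linear_combination h2F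
  generalize Algebra.trace F K (B x a) = A
  generalize Algebra.trace F K (B x b) = Bb
  generalize Algebra.trace F K (B x c) = C
  linear_combination (norm := module) (-(A + Bb + C) * h2) • a + (-(2 * Bb + A + C) * h2) • b +
    (-(2 * C + A + Bb) * h2) • c


/-- core of R22: `ktv_mem` and `spb_trans` as hypotheses -/
theorem c3sr22k_core [Finite K] [FiniteDimensional K V] (hF : Nat.card F = 2) (h2 : finrank F K = 2)
    (hm : 3 ≤ finrank K V)
    (B : V →ₗ[K] V →ₗ[K] K) (hB0 : ∀ x, B x x = 0) (hBn : ∀ x, x ≠ 0 → ∃ y, B x y ≠ 0)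
    (hktv : ∀ (u : V) (c : K), ∃ g ∈ SpB F B, ∀ x : V, g x = x + (c * B x u) • u)
    (htrans : ∀ {v w : V}, v ≠ 0 → w ≠ 0 → ∃ g ∈ SpB F B, g v = w)
    (H : Subgroup (V ≃ₗ[F] V)) (hC : SpB F B ≤ H) (hH : H ≤ Spf F B) (hA : MovesOut K H) :
    ∃ v : V, v ≠ 0 ∧ HasFtv B H v 1 := by
  have h2F : (1 : F) + 1 = 0 := c3sr22k_twoF hF
  -- the relation `x ~ y :⇔ t_x t_y ∈ H`
  have Rrefl : ∀ x : V, c3sr22k_t F B hB0 x * c3sr22k_t F B hB0 x ∈ H := by
    intro x
    rw [c3sr22k_t_sq h2F]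
    exact H.one_mem
  have Rsymm : ∀ x y : V, c3sr22k_t F B hB0 x * c3sr22k_t F B hB0 y ∈ H →
      c3sr22k_t F B hB0 y * c3sr22k_t F B hB0 x ∈ H := by
    intro x y h
    have h1 := H.inv_mem h
    rwa [mul_inv_rev, c3sr22k_t_inv h2F, c3sr22k_t_inv h2F] at h1
  have Rtrans : ∀ x y z : V, c3sr22k_t F B hB0 x * c3sr22k_t F B hB0 y ∈ H →
      c3sr22k_t F B hB0 y * c3sr22k_t F B hB0 z ∈ H → c3sr22k_t F B hB0 x * c3sr22k_t F B hB0 z ∈ H := by
    intro x y z h1 h3
    have h4 := H.mul_mem h1 h3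
    have e : c3sr22k_t F B hB0 x * c3sr22k_t F B hB0 y * (c3sr22k_t F B hB0 y * c3sr22k_t F B hB0 z) =
        c3sr22k_t F B hB0 x * (c3sr22k_t F B hB0 y * c3sr22k_t F B hB0 y) * c3sr22k_t F B hB0 z := by
      simp only [mul_assoc]
    rwa [e, c3sr22k_t_sq h2F, mul_one] at h4
  have Rconj : ∀ (h : V ≃ₗ[F] V), h ∈ H → ∀ x y : V, c3sr22k_t F B hB0 x * c3sr22k_t F B hB0 y ∈ H →
      c3sr22k_t F B hB0 (h x) * c3sr22k_t F B hB0 (h y) ∈ H := by
    intro h hh x y hxy
    have h1 : h * (c3sr22k_t F B hB0 x * c3sr22k_t F B hB0 y) * h⁻¹ ∈ H :=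
      H.mul_mem (H.mul_mem hh hxy) (H.inv_mem hh)
    have e : h * (c3sr22k_t F B hB0 x * c3sr22k_t F B hB0 y) * h⁻¹ =
        (h * c3sr22k_t F B hB0 x * h⁻¹) * (h * c3sr22k_t F B hB0 y * h⁻¹) := by
      simp only [mul_assoc, inv_mul_cancel_left]
    rwa [e, c3sr22k_t_conj B hB0 (hH hh), c3sr22k_t_conj B hB0 (hH hh)] at h1
  have Rline : ∀ (x : V) (a b : K), a ≠ 0 → b ≠ 0 →
      c3sr22k_t F B hB0 (a • x) * c3sr22k_t F B hB0 (b • x) ∈ H :=
    fun x a b ha hb => hC (c3sr22k_line hF h2 B hB0 hktv x ha hb)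
  have Rsm : ∀ (x : V) (a : K), a ≠ 0 → c3sr22k_t F B hB0 x * c3sr22k_t F B hB0 (a • x) ∈ H := by
    intro x a ha
    have h1 := Rline x 1 a one_ne_zero ha
    rwa [one_smul] at h1
  -- an element of `K` outside `F`
  have hne : (⊥ : Subalgebra F K) ≠ ⊤ := by
    intro h
    rw [Subalgebra.bot_eq_top_iff_finrank_eq_one] at h
    omega
  obtain ⟨ω, hω⟩ : ∃ ω : K, ω ∉ (⊥ : Subalgebra F K) := by
    by_contra hcon
    push Not at hcon
    exact hne (eq_top_iff.mpr fun x _ => hcon x)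
  have hω' : ω ∉ (algebraMap F K).range := by
    intro h
    apply hω
    obtain ⟨c, hc⟩ := h
    rw [← hc]
    exact Subalgebra.algebraMap_mem _ c
  have hω0 : ω ≠ 0 := by
    intro h
    apply hω'
    exact ⟨0, by rw [map_zero, h]⟩
  have hω1 : 1 + ω ≠ 0 := by
    intro h
    apply hω'
    refine ⟨-1, ?_⟩
    rw [map_neg, map_one]
    linear_combination -h
  -- a non-zero vector
  obtain ⟨v0, hv0⟩ : ∃ v0 : V, v0 ≠ 0 := by
    have : 0 < finrank K V := by omega
    exact Module.finrank_pos_iff_exists_ne_zero.mp this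
  -- Step (3): MovesOut
  obtain ⟨h0, hh0, hh0v, hh0u⟩ := hA v0 hv0 ω hω'
  have Ru0 : c3sr22k_t F B hB0 (h0 (ω • v0)) * c3sr22k_t F B hB0 v0 ∈ H := by
    have h1 := Rconj h0 hh0 _ _ (Rline v0 ω 1 hω0 one_ne_zero)
    rwa [one_smul, hh0v] at h1
  -- Step (4): the class of `v` contains `{y ∉ K v : B (y, v) = s0}`
  have Claim : ∀ v : V, v ≠ 0 → ∀ y : V, (∀ b : K, y ≠ b • v) → B y v = B (h0 (ω • v0)) v0 →
      c3sr22k_t F B hB0 y * c3sr22k_t F B hB0 v ∈ H := by
    intro v hv y hy hys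
    obtain ⟨g, hg, hgv⟩ := htrans hv0 hv
    have Ru : c3sr22k_t F B hB0 (g (h0 (ω • v0))) * c3sr22k_t F B hB0 (g v0) ∈ H :=
      Rconj g (hC hg) _ _ Ru0
    rw [hgv] at Ru
    have hunot : ∀ b : K, g (h0 (ω • v0)) ≠ b • v := by
      intro b hb
      have h1 : g (h0 (ω • v0)) = g (b • v0) := by rw [hg.1 b v0, hgv]; exact hb
      exact hh0u b (g.injective h1)
    have hBu : B (g (h0 (ω • v0))) v = B y v := by
      rw [hys, ← hgv, hg.2]
    obtain ⟨g', hg', hg'v, hg'y⟩ := c3sr22k_witt B hB0 hBn hktv hBu hunot hy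
    have h3 := Rconj g' (hC hg') _ _ Ru
    rwa [hg'v, hg'y] at h3
  -- orthogonal non-zero vectors are related
  have Rel : ∀ x y : V, x ≠ 0 → y ≠ 0 → B x y = 0 →
      c3sr22k_t F B hB0 x * c3sr22k_t F B hB0 y ∈ H := by
    by_cases hs0 : B (h0 (ω • v0)) v0 = 0
    · intro x y hx hy hxy
      by_cases hyx : ∃ b : K, y = b • x
      · obtain ⟨b, rfl⟩ := hyx
        have hb : b ≠ 0 := by
          intro hb
          apply hy
          rw [hb, zero_smul]
        exact Rsm x b hb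
      · push Not at hyx
        apply Rsymm
        apply Claim x hx y hyx
        rw [hs0, c3sls0_skew B hB0 x y, hxy, neg_zero]
    · have P1 : ∀ v : V, v ≠ 0 → ∀ y : V, B y v ≠ 0 →
          c3sr22k_t F B hB0 y * c3sr22k_t F B hB0 v ∈ H := by
        intro v hv y hyv
        have ha : B (h0 (ω • v0)) v0 / B y v ≠ 0 := div_ne_zero hs0 hyv
        have h1 : B ((B (h0 (ω • v0)) v0 / B y v) • y) v = B (h0 (ω • v0)) v0 := by
          rw [map_smul, LinearMap.smul_apply, smul_eq_mul, div_mul_cancel₀ _ hyv]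
        have h3 : ∀ b : K, (B (h0 (ω • v0)) v0 / B y v) • y ≠ b • v := by
          intro b hb
          apply hs0
          rw [← h1, hb, map_smul, LinearMap.smul_apply, hB0, smul_zero]
        exact Rtrans _ _ _ (Rsm y _ ha) (Claim v hv _ h3 h1)
      intro x y hx hy _
      obtain ⟨z, hzx, hzy⟩ := c3sr22k_common B hB0 hBn hx hy
      exact Rtrans _ _ _ (Rsymm _ _ (P1 x hx z hzx)) (P1 y hy z hzy)
  -- Step (5): a totally isotropic `F_2`-space of dimension three
  obtain ⟨w, hwv, hw⟩ := c3sr22k_perp hm B hB0 hBn hv0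
  have hvw : B v0 w = 0 := by rw [c3sls0_skew B hB0 w v0, hwv, neg_zero]
  have hab : B v0 (ω • v0) = 0 := by rw [map_smul, hB0, smul_zero]
  have hbc : B (ω • v0) w = 0 := by rw [map_smul, LinearMap.smul_apply, hvw, smul_zero]
  have hseven := c3sr22k_seven h2F B hB0 hab hvw hbc
  have n1 : ω • v0 ≠ 0 := smul_ne_zero hω0 hv0
  have n2 : w ≠ 0 := by
    intro h
    exact hw 0 (by rw [h, zero_smul])
  have n3 : v0 + ω • v0 ≠ 0 := by
    have : v0 + ω • v0 = (1 + ω) • v0 := by rw [add_smul, one_smul]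
    rw [this]
    exact smul_ne_zero hω1 hv0
  have n4 : v0 + w ≠ 0 := by
    intro h
    apply hw (-1)
    rw [neg_smul, one_smul]
    exact eq_neg_of_add_eq_zero_right h
  have n5 : ω • v0 + w ≠ 0 := by
    intro h
    apply hw (-ω)
    rw [neg_smul]
    exact eq_neg_of_add_eq_zero_right h
  have n6 : v0 + ω • v0 + w ≠ 0 := by
    intro h
    apply hw (-(1 + ω))
    rw [neg_smul, add_smul, one_smul]
    exact eq_neg_of_add_eq_zero_right h
  have o2 : B (v0 + ω • v0) (v0 + w) = 0 := by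
    simp only [map_add, LinearMap.add_apply, map_smul, LinearMap.smul_apply, hB0, hvw, smul_zero, add_zero]
  have o3 : B (ω • v0 + w) (v0 + ω • v0 + w) = 0 := by
    simp only [map_add, LinearMap.add_apply, map_smul, LinearMap.smul_apply, hB0, hvw, hwv, smul_zero,
      add_zero]
  refine ⟨v0, hv0, c3sr22k_t F B hB0 v0, ?_, fun x => by rw [c3sr22k_t_apply, one_mul]⟩
  rw [hseven]
  exact H.mul_mem (H.mul_mem (Rel _ _ n1 n2 hbc) (Rel _ _ n3 n4 o2)) (Rel _ _ n5 n6 o3)

end Cfsg.Agent.Lib.helper8.C3S
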