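import Mathlib
import Cfsg.Agent.Lib.Helper22.C3L.Defs
import Cfsg.Agent.Lib.helper8.C3S.Defs
import Cfsg.Agent.Lib.Helper24.C3SKTV
import Cfsg.Agent.Lib.Helper11.C3STRANS
import Cfsg.Agent.Lib.Helper18.C3SR22c

set_option autoImplicit false
set_option linter.unusedVariables false
set_option linter.unusedSectionVars false

/-!
# C3S / R22 (helper18): the case `(q, r) = (2, 2)`, `Sp_d(4).2 < Sp_2d(2)`, `d ≥ 3`.
-/

namespace Cfsg.Agent.Lib.helper8.C3S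

open Module Cfsg.Agent.Lib.Helper22.C3L

variable {F K V : Type*} [Field F] [Field K] [Algebra F K] [AddCommGroup V] [Module F V] [Module K V]
  [IsScalarTower F K V]

/-- R22 [L] `F = F_2`, `K = F_4`, `dim_K V ≥ 3`.  See PLAN.md. -/
theorem r22 [Finite K] [FiniteDimensional K V] (hF : Nat.card F = 2) (h2 : finrank F K = 2) (hm : 3 ≤ finrank K V)
    (B : V →ₗ[K] V →ₗ[K] K) (hB0 : ∀ x, B x x = 0) (hBn : ∀ x, x ≠ 0 → ∃ y, B x y ≠ 0)
    (H : Subgroup (V ≃ₗ[F] V)) (hC : SpB F B ≤ H) (hH : H ≤ Spf F B) (hA : MovesOut K H) :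
    ∃ v : V, v ≠ 0 ∧ HasFtv B H v 1 :=
  c3sr22k_core hF h2 hm B hB0 hBn (fun u c => ktv_mem B hB0 u c)
    (fun hv hw => spb_trans B hB0 hBn hv hw) H hC hH hA

end Cfsg.Agent.Lib.helper8.C3S
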