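import Cfsg.Agent.Lib.Helper18.C3OALLLcore
import Cfsg.Agent.Lib.Helper10.C3OTRANSO

/-!
# C3O / ALLL : `all_lines` verbatim (core in `Helper18.C3OALLLcore`, `o_trans` from `Helper10.C3OTRANSO`)
-/

set_option autoImplicit false
set_option linter.unusedVariables false
set_option linter.unusedSectionVars false

namespace Cfsg.Agent.Lib.Helper10.C3O

open Module Cfsg.Agent.Lib.Helper22.C3L

variable {F K V : Type*} [Field F] [Field K] [Algebra F K] [AddCommGroup V] [Module F V] [Module K V]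
  [IsScalarTower F K V]

/-- ALLL [M] from one singular `K`-line to all (TRANSO; `g ρ_{z,y} g⁻¹ = ρ_{g z, g y}` (`fsg_conj`), `g ∈ OmB ≤ H` is `K`-linear and preserves `B`). -/
theorem all_lines [Finite K] [FiniteDimensional K V] (h2 : (2 : F) ≠ 0) (B : V →ₗ[K] V →ₗ[K] K)
    (hBs : ∀ x y, B x y = B y x) (hBn : ∀ x, x ≠ 0 → ∃ y, B x y ≠ 0) (hd : 4 ≤ finrank K V)
    (H : Subgroup (V ≃ₗ[F] V)) (hC : OmB F B ≤ H) {v : V} (hv : v ≠ 0) (hv0 : B v v = 0)
    (h1 : LineFull B H v) : ∀ v' : V, v' ≠ 0 → B v' v' = 0 → LineFull B H v' :=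
  c3oalll_core B (fun hu hu0 hu' hu'0 => o_trans h2 B hBs hBn hd hu hu0 hu' hu'0) H hC hv hv0 h1

end Cfsg.Agent.Lib.Helper10.C3O
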