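import Mathlib
import Cfsg.Agent.Lib.Helper22.C3L.Defs

set_option autoImplicit false
set_option linter.unusedVariables false
set_option linter.unusedSectionVars false

/-!
# Project C3L, piece D1 (helper18): `tv_conj` and the core of `d1` (TRANS, D1A, D1B as hypotheses).
-/

namespace Cfsg.Agent.Lib.Helper22.C3L

open Module

variable {F K V : Type*} [Field F] [Field K] [Algebra F K] [AddCommGroup V] [Module F V] [Module K V]
  [IsScalarTower F K V]

/-- TVCONJ [S-M] conjugating a transvection. -/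
theorem tv_conj (g : V ≃ₗ[F] V) {φ : Module.Dual F V} {z : V} (h : φ z = 0)
    (h' : (φ ∘ₗ (g.symm : V →ₗ[F] V)) (g z) = 0) :
    g * LinearEquiv.transvection h * g⁻¹ = LinearEquiv.transvection (f := φ ∘ₗ (g.symm : V →ₗ[F] V)) (v := g z) h' := by
  ext x
  rw [LinearEquiv.mul_apply, LinearEquiv.mul_apply, LinearEquiv.transvection.apply,
    LinearEquiv.transvection.apply, map_add, map_smul]
  simp

/-- core of D1: `c1_trans` and the local statement (`d1a` / `d1b`) as hypotheses. -/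
theorem c3ld1_core (H : Subgroup (V ≃ₗ[F] V)) (hC : C1 F K V ≤ H)
    (htrans : ∀ {v w : V}, v ≠ 0 → w ≠ 0 → ∃ g ∈ C1 F K V, g v = w)
    (hloc : ∀ {φ₀ : Module.Dual F V} {z : V} (h0 : φ₀ z = 0), z ≠ 0 → φ₀ ≠ 0 →
      (∀ a : K, φ₀ (a • z) = 0) → LinearEquiv.transvection h0 ∈ H →
      ∀ (φ : Module.Dual F V) (h : φ z = 0), (∀ a : K, φ (a • z) = 0) →
        LinearEquiv.transvection h ∈ H)
    (hT : HasTv2 K H) : AllTv2 K H := by
  obtain ⟨φ₀, z₀, h0, hz₀, hφ₀, hK₀, hmem⟩ := hT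
  have hall := hloc h0 hz₀ hφ₀ hK₀ hmem
  intro z hz φ h hK
  obtain ⟨g, hgC, hgz⟩ := htrans hz₀ hz
  have hgK := ((mem_C1 F K).mp hgC).1
  have h1 : (φ ∘ₗ (g : V →ₗ[F] V)) z₀ = 0 := by
    rw [LinearMap.comp_apply, LinearEquiv.coe_coe, hgz, h]
  have h2 : ∀ a : K, (φ ∘ₗ (g : V →ₗ[F] V)) (a • z₀) = 0 := by
    intro a
    rw [LinearMap.comp_apply, LinearEquiv.coe_coe, hgK, hgz, hK]
  have h3 := hall (φ ∘ₗ (g : V →ₗ[F] V)) h1 h2
  have h4 : ((φ ∘ₗ (g : V →ₗ[F] V)) ∘ₗ (g.symm : V →ₗ[F] V)) (g z₀) = 0 := by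
    simp [hgz, h]
  have h5 := tv_conj g h1 h4
  have h6 : LinearEquiv.transvection h4 = LinearEquiv.transvection h := by
    ext x
    rw [LinearEquiv.transvection.apply, LinearEquiv.transvection.apply, hgz]
    simp
  rw [← h6, ← h5]
  exact H.mul_mem (H.mul_mem (hC hgC) h3) (H.inv_mem (hC hgC))

end Cfsg.Agent.Lib.Helper22.C3L
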