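import Mathlib
import Cfsg.Agent.Lib.Helper29.BSQ8Assemble
import Cfsg.Agent.Lib.Helper24.BSQC10

/-!
# The Brauer–Suzuki hypothesis `ZStar.BSHyp`, unconditionally

Assembly of the three packages: the group theory (helper18), the `G`-side (helper29, helper7)
and the `C`-side (helper24).
-/

set_option autoImplicit false

namespace Cfsg.Agent.Lib.Helper18.ZStar

universe u

/-- The Brauer–Suzuki theorem for generalized quaternion Sylow 2-subgroups, in the shape used by
the `Z*` development. -/
theorem bsHyp_holds : BSHyp.{u} :=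
  Cfsg.Agent.Lib.Helper29.BSQ8.bsHyp_of_cside
    (fun _ _ _ M hM z hz hzc P e h4 => Cfsg.Agent.Lib.Helper24.bsq_cdata M hM z hz hzc P e h4)

end Cfsg.Agent.Lib.Helper18.ZStar
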