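import Mathlib
import Cfsg.Agent.Lib.Helper10.O4320.Defs
import Cfsg.Agent.Lib.Helper25.CharLinear
import Cfsg.Agent.Lib.helper23.BRCLS

/-!
# Project O4320, piece FUSE: `|N_G(P) : C_G(P)| = p - 1`, `|P| = p` ⟹ the non-identity elements of `P` are conjugate
-/

set_option autoImplicit false
set_option linter.unusedVariables false
set_option linter.unusedSectionVars false

namespace Cfsg.Agent.Lib.Helper10.O4320

open Classical
open scoped ComplexConjugate
open Cfsg.Agent.Lib.helper7.BR Cfsg.Agent.Lib.Helper25 Cfsg.Agent.Lib.Helper29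

universe u

section generic

variable {G : Type u} [Group G] [Fintype G] {p : ℕ} [Fact p.Prime]

/-- FUSE [M]: if `|N_G(P) : C_G(P)| = p - 1` (`|P| = p`) all the non-identity elements of `P` are conjugate in `G`. -/
theorem fuse_top (P : Sylow p G) (hP : Nat.card ↥(P : Subgroup G) = p) (hrel : (cen P).relIndex (nrm P) = p - 1)
    (x y : G) (hx : x ∈ (P : Subgroup G)) (hx1 : x ≠ 1) (hy : y ∈ (P : Subgroup G)) (hy1 : y ≠ 1) : IsConj x y := by
  have hp : p.Prime := Fact.out
  -- the conjugation action of `N = nrm P` on `G`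
  let act : MulAction ↥(nrm P) G := MulAction.compHom G ((MulAut.conj).comp (nrm P).subtype)
  have hsmul : ∀ (n : ↥(nrm P)) (g : G), n • g = (n : G) * g * (n : G)⁻¹ := fun n g => rfl
  -- the stabiliser of `x`
  have hstab : MulAction.stabilizer ↥(nrm P) x = (cen P).subgroupOf (nrm P) := by
    ext n
    rw [MulAction.mem_stabilizer_iff, hsmul, Subgroup.mem_subgroupOf,
      ← centralizer_eq_cen P hP x hx hx1, Subgroup.mem_centralizer_singleton_iff]
    constructor
    · intro h
      calc (n : G) * x = ((n : G) * x * (n : G)⁻¹) * (n : G) := by group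
        _ = x * (n : G) := by rw [h]
    · intro h
      rw [h]; group
  have hidx : (MulAction.orbit ↥(nrm P) x).ncard = p - 1 := by
    rw [← MulAction.index_stabilizer, hstab, ← Subgroup.relIndex, hrel]
  -- the orbit is inside `P ∖ {1}`
  have hsub : MulAction.orbit ↥(nrm P) x ⊆ ((P : Subgroup G) : Set G) \ {1} := by
    rintro _ ⟨n, rfl⟩
    show n • x ∈ _
    rw [hsmul]
    refine ⟨?_, ?_⟩
    · have hn := n.2
      rw [Subgroup.mem_normalizer_iff] at hn
      exact (hn x).mp hx
    · intro h1
      rw [Set.mem_singleton_iff] at h1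
      apply hx1
      have : x = (n : G)⁻¹ * ((n : G) * x * (n : G)⁻¹) * (n : G) := by group
      rw [this, h1]; group
  have hS : (((P : Subgroup G) : Set G) \ {1}).ncard = p - 1 := by
    rw [Set.ncard_sdiff_singleton_of_mem (one_mem _)]
    have : (((P : Subgroup G) : Set G)).ncard = p := by
      have h1 : Nat.card ↥(P : Subgroup G) = (((P : Subgroup G) : Set G)).ncard := by
        rw [← Nat.card_coe_set_eq]; rfl
      rw [← h1, hP]
    rw [this]
  have heq : MulAction.orbit ↥(nrm P) x = ((P : Subgroup G) : Set G) \ {1} :=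
    Set.eq_of_subset_of_ncard_le hsub (by rw [hS, hidx]) (Set.toFinite _)
  have hyo : y ∈ MulAction.orbit ↥(nrm P) x := by
    rw [heq]
    exact ⟨hy, by simpa using hy1⟩
  obtain ⟨n, hn⟩ := hyo
  have hn' : (n : G) * x * (n : G)⁻¹ = y := by rw [← hsmul]; exact hn
  exact isConj_iff.mpr ⟨(n : G), hn'⟩

end generic

end Cfsg.Agent.Lib.Helper10.O4320
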