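import Mathlib
import Cfsg.Agent.Lib.helper23.OrdGen3

set_option autoImplicit false

namespace Cfsg.Agent.Lib.Helper18.J1

open Subgroup
open Cfsg.Agent.Lib.helper8 Cfsg.Agent.Lib.helper23

variable {H : Type*} [Group H]

/-- conjugate Sylow subgroups have centralizers of the same size -/
theorem card_centralizer_smul (p : ℕ) (g : H) (P : Sylow p H) :
    Nat.card (centralizer (((g • P : Sylow p H) : Subgroup H) : Set H)) =
      Nat.card (centralizer ((P : Subgroup H) : Set H)) := by
  apply Nat.card_congr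
  refine ⟨fun x => ⟨g⁻¹ * x.1 * g, ?_⟩, fun y => ⟨g * y.1 * g⁻¹, ?_⟩, ?_, ?_⟩
  · rw [mem_centralizer_iff]
    intro h hh
    have hx := mem_centralizer_iff.mp x.2 (g * h * g⁻¹) (by
      show g * h * g⁻¹ ∈ ((g • P : Sylow p H) : Subgroup H)
      rw [h8_mem_smul_sylow]
      have : g⁻¹ * (g * h * g⁻¹) * g = h := by group
      rw [this]; exact hh)
    calc h * (g⁻¹ * x.1 * g) = g⁻¹ * ((g * h * g⁻¹) * x.1) * g := by group
      _ = g⁻¹ * (x.1 * (g * h * g⁻¹)) * g := by rw [hx]
      _ = g⁻¹ * x.1 * g * h := by group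
  · rw [mem_centralizer_iff]
    intro h hh
    have hh' : g⁻¹ * h * g ∈ (P : Subgroup H) := (h8_mem_smul_sylow p g h P).mp hh
    have hy := mem_centralizer_iff.mp y.2 (g⁻¹ * h * g) hh'
    calc h * (g * y.1 * g⁻¹) = g * ((g⁻¹ * h * g) * y.1) * g⁻¹ := by group
      _ = g * (y.1 * (g⁻¹ * h * g)) * g⁻¹ := by rw [hy]
      _ = g * y.1 * g⁻¹ * h := by group
  · intro x
    apply Subtype.ext
    show g * (g⁻¹ * x.1 * g) * g⁻¹ = x.1
    group
  · intro y
    apply Subtype.ext
    show g⁻¹ * (g * y.1 * g⁻¹) * g = y.1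
    group

theorem card_centralizer_sylow [Finite H] (p : ℕ) [Fact p.Prime] (P Q : Sylow p H) :
    Nat.card (centralizer ((P : Subgroup H) : Set H)) =
      Nat.card (centralizer ((Q : Subgroup H) : Set H)) := by
  obtain ⟨g, rfl⟩ := MulAction.exists_smul_eq H Q P
  exact card_centralizer_smul p g Q

/-- Sylow data for a prime `r` dividing the group order exactly once. -/
structure SD (H : Type*) [Group H] (r nr cr dr : ℕ) : Prop where
  prime : r.Prime
  nsyl : Nat.card (Sylow r H) = nr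
  cardR : ∀ R : Sylow r H, Nat.card (R : Subgroup H) = r
  cardC : ∀ R : Sylow r H, Nat.card (centralizer ((R : Subgroup H) : Set H)) = r * cr
  cardN : ∀ R : Sylow r H, Nat.card (normalizer ((R : Subgroup H) : Set H)) = r * cr * dr
  eq : nr * r * cr * dr = Nat.card H
  mod : nr % r = 1
  ne1 : nr ≠ 1
  ddvd : dr ∣ r - 1
  dge : 2 ≤ dr

theorem sylow_le_centralizer {r : ℕ} (hr : r.Prime) (R : Subgroup H) (hR : Nat.card R = r) :
    R ≤ centralizer (R : Set H) := by
  haveI : Fact r.Prime := ⟨hr⟩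
  haveI : IsCyclic R := isCyclic_of_prime_card hR
  exact Subgroup.le_centralizer_iff_isMulCommutative.mpr inferInstance

theorem exists_SD [Finite H] [IsSimpleGroup H] (r k : ℕ) [hr : Fact r.Prime]
    (hH : Nat.card H = r * k) (hrk : ¬ r ∣ k) (hk : 1 < k) :
    ∃ nr cr dr, SD H r nr cr dr := by
  have hH' : Nat.card H = r ^ 1 * k := by rw [pow_one]; exact hH
  obtain ⟨P⟩ : Nonempty (Sylow r H) := inferInstance
  obtain ⟨hP, hN, -, d, hd1, hd2, hd3⟩ := og3_sylow_data r k hH' hrk hk P
  have hPC : (P : Subgroup H) ≤ centralizer ((P : Subgroup H) : Set H) :=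
    sylow_le_centralizer hr.out _ hP
  obtain ⟨c, hc⟩ : r ∣ Nat.card (centralizer ((P : Subgroup H) : Set H)) := by
    have := Subgroup.card_dvd_of_le hPC
    rwa [hP] at this
  have hnpos : 0 < Nat.card (Sylow r H) := Nat.card_pos
  have hcardR : ∀ R : Sylow r H, Nat.card (R : Subgroup H) = r := by
    intro R
    have := h8_sylow_card r 1 k hH' hrk R
    simpa using this
  have hd2' : 2 ≤ d := by
    rcases Nat.lt_or_ge d 2 with h | h
    · exfalso
      interval_cases d
      · rw [mul_zero] at hd3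
        have : 0 < Nat.card (normalizer ((P : Subgroup H) : Set H)) := Nat.card_pos
        omega
      · exact hd2 rfl
    · exact h
  refine ⟨Nat.card (Sylow r H), c, d, hr.out, rfl, hcardR, ?_, ?_, ?_, h8_nsylow_mod r,
    h8_simple_nsylow_ne_one r 1 k hH' hrk one_pos hk, hd1, hd2'⟩
  · intro R
    rw [card_centralizer_sylow r R P, hc]
  · intro R
    have h1 := h8_card_normalizer_sylow r R
    rw [← hN] at h1
    have h2 := Nat.eq_of_mul_eq_mul_right hnpos h1
    rw [h2, ← hd3, hc]
  · rw [← hN, ← hd3, hc]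
    ring

end Cfsg.Agent.Lib.Helper18.J1
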