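import Mathlib
import Cfsg.Agent.Lib.Helper18.ZStarMain

set_option autoImplicit false

namespace Cfsg.Agent.Lib.Helper18.ZStar

open Cfsg.Agent.Lib.Helper9 Cfsg.Agent.Lib.Helper18

variable {G : Type*} [Group G]

/-- The four-element subgroup generated by two commuting involutions. -/
def zsFour (z t : G) (hz : z * z = 1) (ht : t * t = 1) (hc : z * t = t * z) : Subgroup G where
  carrier := {y | y = 1 ∨ y = z ∨ y = t ∨ y = z * t}
  one_mem' := Or.inl rfl
  mul_mem' := by
    intro a b ha hb
    rcases ha with ha | ha | ha | ha <;> rcases hb with hb | hb | hb | hb <;> rw [ha, hb]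
    · left; simp
    · right; left; simp
    · right; right; left; simp
    · right; right; right; simp
    · right; left; simp
    · left; exact hz
    · right; right; right; rfl
    · right; right; left; rw [← mul_assoc, hz, one_mul]
    · right; right; left; simp
    · right; right; right; exact hc.symm
    · left; exact ht
    · right; left
      calc t * (z * t) = (t * z) * t := by group
        _ = z * (t * t) := by rw [← hc]; group
        _ = z := by rw [ht, mul_one]
    · right; right; right; simp
    · right; right; left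
      calc z * t * z = z * (t * z) := by group
        _ = (z * z) * t := by rw [← hc]; group
        _ = t := by rw [hz, one_mul]
    · right; left
      calc z * t * t = z * (t * t) := by group
        _ = z := by rw [ht, mul_one]
    · left
      calc z * t * (z * t) = z * (t * z) * t := by group
        _ = (z * z) * (t * t) := by rw [← hc]; group
        _ = 1 := by rw [hz, ht, one_mul]
  inv_mem' := by
    intro a ha
    rcases ha with ha | ha | ha | ha <;> rw [ha]
    · left; simp
    · right; left; exact inv_eq_of_mul_eq_one_right hz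
    · right; right; left; exact inv_eq_of_mul_eq_one_right ht
    · right; right; right
      rw [mul_inv_rev, inv_eq_of_mul_eq_one_right hz, inv_eq_of_mul_eq_one_right ht]
      exact hc.symm

theorem zsFour_isKleinFour (z t : G) (hz : z * z = 1) (ht : t * t = 1) (hc : z * t = t * z)
    (hz1 : z ≠ 1) (ht1 : t ≠ 1) (hzt : z ≠ t) : IsKleinFour ↥(zsFour z t hz ht hc) := by
  classical
  have hset : ((zsFour z t hz ht hc : Subgroup G) : Set G) = {1, z, t, z * t} := by
    ext y
    simp only [zsFour, Subgroup.coe_set_mk, Submonoid.coe_set_mk, Subsemigroup.coe_set_mk,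
      Set.mem_setOf_eq, Set.mem_insert_iff, Set.mem_singleton_iff]
  have h1 : z * t ≠ 1 := by
    intro h
    apply hzt
    have h2 : t = z⁻¹ := eq_inv_of_mul_eq_one_right h
    rw [h2, inv_eq_of_mul_eq_one_right hz]
  have h2 : z * t ≠ z := by
    intro h
    apply ht1
    have : z * t = z * 1 := by rw [h, mul_one]
    exact mul_left_cancel this
  have h3 : z * t ≠ t := by
    intro h
    apply hz1
    have : z * t = 1 * t := by rw [h, one_mul]
    exact mul_right_cancel this
  have e1 : ({t, z * t} : Set G).ncard = 2 := Set.ncard_pair (fun h => h3 h.symm)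
  have e2 : ({z, t, z * t} : Set G).ncard = 3 := by
    rw [Set.ncard_insert_of_notMem, e1]
    simp only [Set.mem_insert_iff, Set.mem_singleton_iff, not_or]
    exact ⟨hzt, fun h => h2 h.symm⟩
  have e3 : ({1, z, t, z * t} : Set G).ncard = 4 := by
    rw [Set.ncard_insert_of_notMem, e2]
    simp only [Set.mem_insert_iff, Set.mem_singleton_iff, not_or]
    exact ⟨fun h => hz1 h.symm, fun h => ht1 h.symm, fun h => h1 h.symm⟩
  have hcard : Nat.card ↥(zsFour z t hz ht hc) = 4 := by
    rw [← SetLike.coe_sort_coe, hset, Nat.card_coe_set_eq, e3]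
  refine ⟨hcard, ?_⟩
  have hexp : Monoid.exponent ↥(zsFour z t hz ht hc) ∣ 2 := by
    apply Monoid.exponent_dvd_of_forall_pow_eq_one
    rintro ⟨y, hy⟩
    apply Subtype.ext
    simp only [OneMemClass.coe_one, SubmonoidClass.mk_pow]
    rw [pow_two]
    rcases hy with hy | hy | hy | hy <;> rw [hy]
    · simp
    · exact hz
    · exact ht
    · calc z * t * (z * t) = z * (t * z) * t := by group
        _ = (z * z) * (t * t) := by rw [← hc]; group
        _ = 1 := by rw [hz, ht, one_mul]
  rcases (Nat.dvd_prime Nat.prime_two).mp hexp with h | h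
  · exfalso
    rw [Monoid.exp_eq_one_iff] at h
    have := Nat.card_eq_one_iff_unique.mpr ⟨h, ⟨1⟩⟩
    omega
  · exact h


/-- Statement S0225 (2-rank one), assuming Brauer--Suzuki. -/
theorem zs_s0225.{u} (hBS : BSHyp.{u}) {G : Type u} [Group G] [Finite G]
    (heven : Even (Nat.card G)) (hrank : ∀ E : Subgroup G, ¬ IsKleinFour E) :
    ∃ z : G, orderOf z = 2 ∧ ∃ N : Subgroup G, N.Normal ∧ Odd (Nat.card N) ∧
      ∀ g : G, z * g * z⁻¹ * g⁻¹ ∈ N := by
  haveI : Fact (Nat.Prime 2) := ⟨Nat.prime_two⟩
  obtain ⟨T⟩ : Nonempty (Sylow 2 G) := inferInstance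
  have h2 : 2 ∣ Nat.card G := even_iff_two_dvd.mp heven
  have hT2 : 2 ∣ Nat.card (T : Subgroup G) := T.dvd_card_of_dvd_card h2
  haveI : Nontrivial ↥(T : Subgroup G) := by
    rw [← Finite.one_lt_card_iff_nontrivial]
    have := Nat.le_of_dvd Nat.card_pos hT2
    omega
  have hZ : Nontrivial (Subgroup.center ↥(T : Subgroup G)) := T.isPGroup'.center_nontrivial
  have hZp : IsPGroup 2 (Subgroup.center ↥(T : Subgroup G)) := T.isPGroup'.to_subgroup _
  have hZ2 : 2 ∣ Nat.card (Subgroup.center ↥(T : Subgroup G)) := by
    rcases hZp.card_eq_or_dvd with h | h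
    · exfalso
      have := Finite.one_lt_card_iff_nontrivial.mpr hZ
      omega
    · exact h
  obtain ⟨z, hz⟩ := exists_prime_orderOf_dvd_card' (G := Subgroup.center ↥(T : Subgroup G)) 2 hZ2
  have hz2 : orderOf (((z : ↥(T : Subgroup G)) : G)) = 2 := by
    rw [Subgroup.orderOf_coe, Subgroup.orderOf_coe]; exact hz
  have hzT : (((z : ↥(T : Subgroup G)) : G)) ∈ (T : Subgroup G) := (z : ↥(T : Subgroup G)).2
  have hzc : ∀ t ∈ (T : Subgroup G), ((z : ↥(T : Subgroup G)) : G) * t = t * ((z : ↥(T : Subgroup G)) : G) := by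
    intro t ht
    have h3 := z.2
    rw [Subgroup.mem_center_iff] at h3
    have h4 := h3 ⟨t, ht⟩
    have h5 := congrArg Subtype.val h4
    simpa using h5.symm
  have huniq : ∀ t ∈ (T : Subgroup G), orderOf t = 2 → t = ((z : ↥(T : Subgroup G)) : G) := by
    intro t ht ht2
    by_contra hne
    exact hrank _ (zsFour_isKleinFour _ t (mul_self_of_orderOf_two hz2) (mul_self_of_orderOf_two ht2)
      (hzc t ht) (ne_one_of_orderOf_two hz2) (ne_one_of_orderOf_two ht2) (fun h => hne h.symm))
  refine ⟨_, hz2, zstar_of_bs hBS T _ hz2 hzT ?_⟩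
  intro g hg
  exact huniq _ hg (conj_orderOf_two hz2 g)

end Cfsg.Agent.Lib.Helper18.ZStar
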