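import Mathlib
import Cfsg.Agent.Lib.Helper18.BLKS567
import Cfsg.Agent.Lib.Helper20.BLKS0
import Cfsg.Agent.Lib.Helper20.RkTwoA
import Cfsg.Agent.Lib.Helper24.NormalRank
import Cfsg.Agent.Lib.Helper20.HupK
import Cfsg.Agent.Lib.Helper20.HupI

/-! Project BLK, piece AL2q : in Case I of (α*), `G ⧸ Z` satisfies the hypotheses of Lemma A. -/

set_option autoImplicit false

namespace Cfsg.Agent.Lib.Helper18.BLK

universe u

/-- **AL2q**. Case I: `G ⧸ Z` satisfies the hypotheses of Lemma A. -/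
theorem Base.alpha_I_quotient_hyp {G : Type u} [Group G] [Finite G] {p : ℕ} [Fact p.Prime]
    {E : Subgroup G} {z₀ : G} (B : Base p E z₀) (u₁ : G)
    (hu : u₁ ∈ Subgroup.centralizer (E : Set G)) (hup : u₁ ^ p = z₀)
    (hα : ∀ g : G, rc u₁ g ∈ Subgroup.zpowers z₀)
    (hC : ∀ v : G, v ^ p ∈ Subgroup.zpowers z₀ → v ∈ Subgroup.centralizer (E : Set G))
    [(Subgroup.zpowers z₀).Normal] :
    ∃ E' : Subgroup (G ⧸ Subgroup.zpowers z₀), E' ≤ Subgroup.center (G ⧸ Subgroup.zpowers z₀) ∧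
      Nat.card E' ≤ p ^ 2 ∧ ∀ q : G ⧸ Subgroup.zpowers z₀, q ^ p = 1 → q ∈ E' := by
  have hp0 : 0 < p := (Fact.out : p.Prime).pos
  have hp1 : 1 < p := (Fact.out : p.Prime).one_lt
  have hnE' := B.nE
  have hz1 : z₀ ≠ 1 := by
    intro h
    have := B.z₀o
    rw [h, orderOf_one] at this
    omega
  have hu1E : u₁ ∉ E := by
    intro h
    have := B.eE u₁ h
    rw [hup] at this
    exact hz1 this
  set Y : Subgroup G := E ⊔ Subgroup.zpowers u₁ with hY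
  have hYcard : Nat.card Y = p ^ 3 := by
    rw [hY, Cfsg.Agent.Lib.Helper24.nr_card_sup E u₁ hu1E (by rw [hup]; exact B.z₀E), B.cardE]
    ring
  have hzY : z₀ ∈ Y := Subgroup.mem_sup_left B.z₀E
  refine ⟨Y.map (QuotientGroup.mk' (Subgroup.zpowers z₀)), ?_, ?_, ?_⟩
  · -- central
    rintro _ ⟨y, hy, rfl⟩
    rw [Subgroup.mem_center_iff]
    intro q
    obtain ⟨g, rfl⟩ := QuotientGroup.mk_surjective q
    -- y = e * u₁^k
    obtain ⟨e, he, b, ⟨k, rfl⟩, rfl⟩ :=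
      (Cfsg.Agent.Lib.Helper20.RkTwo.mem_sup_normal E (Subgroup.zpowers u₁) y).mp hy
    obtain ⟨j, hj⟩ := Cfsg.Agent.Lib.Helper20.Hup.zpow_eq_pow_nat u₁ k
    have hcomm : e * u₁ ^ j = u₁ ^ j * e :=
      (Subgroup.mem_centralizer_iff.mp (Subgroup.pow_mem _ hu j) e he)
    have hrc : rc (e * u₁ ^ k) g ∈ Subgroup.zpowers z₀ := by
      rw [hj, hcomm, B.rc_DZ u₁ hu hup j e he g]
      exact Subgroup.mul_mem _ (Subgroup.pow_mem _ (hα g) j) (B.rc_mem_Z e he g)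
    show (QuotientGroup.mk g : G ⧸ Subgroup.zpowers z₀) * QuotientGroup.mk (e * u₁ ^ k)
      = QuotientGroup.mk (e * u₁ ^ k) * QuotientGroup.mk g
    rw [← QuotientGroup.mk_mul, ← QuotientGroup.mk_mul, QuotientGroup.eq]
    have : (g * (e * u₁ ^ k))⁻¹ * (e * u₁ ^ k * g) = rc (e * u₁ ^ k) g := by unfold rc; group
    rw [this]; exact hrc
  · exact Cfsg.Agent.Lib.Helper20.Hup.card_map_le_of_mem p 2 hp0 (Subgroup.zpowers z₀) Y
      (le_of_eq hYcard) z₀ hzY (Subgroup.mem_zpowers z₀) B.z₀o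
  · intro q hq
    obtain ⟨v, rfl⟩ := QuotientGroup.mk_surjective q
    have hv : v ^ p ∈ Subgroup.zpowers z₀ := by
      rw [← QuotientGroup.eq_one_iff, QuotientGroup.mk_pow]; exact hq
    obtain ⟨j, e, he, rfl⟩ := B.DZ_mem u₁ hu hup v (hC v hv) hv
    refine ⟨u₁ ^ j * e, ?_, rfl⟩
    exact Subgroup.mul_mem _ (Subgroup.mem_sup_right (Subgroup.pow_mem _ (Subgroup.mem_zpowers u₁) j))
      (Subgroup.mem_sup_left he)

end Cfsg.Agent.Lib.Helper18.BLK
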