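import Mathlib
import Cfsg.Agent.Lib.Helper18.BLK.Defs
import Cfsg.Agent.Lib.helper14.BLKCABcore
import Cfsg.Agent.Lib.Helper18.BLKS567
import Cfsg.Agent.Lib.helper4.BLKS1
import Cfsg.Agent.Lib.helper6.BLKSM
import Cfsg.Agent.Lib.Helper20.BLKS0
import Cfsg.Agent.Lib.Helper18.PPrimeCore

/-! Project BLK, piece AL3b : structure of the abelian group `C` in Case II of (α*). -/

set_option autoImplicit false

namespace Cfsg.Agent.Lib.Helper18.BLK

universe u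

/-- **AL3b**. Case II: structure of the abelian group `C`. -/
theorem Base.exists_c {G : Type u} [Group G] [Finite G] {p : ℕ} [Fact p.Prime]
    {E : Subgroup G} {z₀ : G} (B : Base p E z₀) (u₁ : G)
    (hu : u₁ ∈ Subgroup.centralizer (E : Set G)) (hup : u₁ ^ p = z₀) (n : ℕ)
    (hn : Nat.card G = p ^ n) (hn4 : 4 ≤ n)
    (hD : ∀ c ∈ Subgroup.centralizer (E : Set G), c ^ p ∈ E → c ^ p ∈ Subgroup.zpowers z₀) :
    ∃ c ∈ Subgroup.centralizer (E : Set G), ∃ y ∈ E, y ∉ Subgroup.zpowers z₀ ∧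
      c ^ p ^ (n - 3) = z₀ ∧
      (∀ a ∈ Subgroup.centralizer (E : Set G), ∀ b ∈ Subgroup.centralizer (E : Set G),
        a * b = b * a) ∧
      ∀ d ∈ Subgroup.centralizer (E : Set G), ∃ i j : ℕ, d = c ^ i * y ^ j := by
  have hpp : p.Prime := Fact.out
  have hp0 : 0 < p := hpp.pos
  have hp1 : 1 < p := hpp.one_lt
  have hE : Cfsg.IsElementaryAbelian p E :=
    ⟨⟨⟨fun a b => Subtype.ext (B.cE a a.2 b b.2)⟩⟩, B.eE⟩
  have hnE' := B.nE
  set C : Subgroup G := Subgroup.centralizer (E : Set G) with hC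
  have hEC : E ≤ C := by
    intro a ha
    rw [hC, Subgroup.mem_centralizer_iff]
    intro b hb
    exact B.cE b hb a ha
  have hcomm : ∀ c ∈ C, ∀ e ∈ E, c * e = e * c := fun c hc e he =>
    (Subgroup.mem_centralizer_iff.mp hc e he).symm
  obtain ⟨c₀, hc₀, hgen₀⟩ := B.blkcab_core u₁ hu hup (fun c hc hcp => B.DZ_mem u₁ hu hup c hc hcp) hD
  -- cardinalities
  have hcardC : Nat.card C = p ^ (n - 1) := by
    have h1 := Subgroup.card_mul_index C
    rw [B.index_C, hn] at h1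
    have : p ^ n = p ^ (n - 1) * p := by rw [← pow_succ]; congr 1; omega
    rw [this] at h1
    exact Nat.eq_of_mul_eq_mul_right hp0 h1
  -- the image of `C` in `G ⧸ E`
  set f : G →* G ⧸ E := QuotientGroup.mk' E with hf
  set q₀ : G ⧸ E := f c₀ with hq₀
  have hcardQ : Nat.card (C.map f) = p ^ (n - 3) := by
    have h1 : E.relIndex C = Nat.card (C.map f) := by
      rw [← Subgroup.relIndex_ker, hf, QuotientGroup.ker_mk']
    have h2 := Cfsg.Agent.Lib.Helper18.card_mul_relIndex_of_le_h18 hEC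
    rw [h1, B.cardE, hcardC] at h2
    have : p ^ (n - 1) = p ^ 2 * p ^ (n - 3) := by rw [← pow_add]; congr 1; omega
    rw [this] at h2
    exact Nat.eq_of_mul_eq_mul_left (by positivity) h2
  have hmapeq : C.map f = Subgroup.zpowers q₀ := by
    apply le_antisymm
    · rintro _ ⟨d, hd, rfl⟩
      obtain ⟨i, e, he, rfl⟩ := hgen₀ d hd
      refine ⟨(i : ℤ), ?_⟩
      show q₀ ^ (i : ℤ) = f (c₀ ^ i * e)
      rw [map_mul, map_pow, zpow_natCast]
      have : f e = 1 := by rw [hf, QuotientGroup.mk'_apply]; exact (QuotientGroup.eq_one_iff e).mpr he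
      rw [this, mul_one]
    · rw [Subgroup.zpowers_le]; exact ⟨c₀, hc₀, rfl⟩
  have hord : orderOf q₀ = p ^ (n - 3) := by
    rw [← hcardQ, hmapeq, Nat.card_zpowers]
  have hmemE : ∀ k : ℕ, c₀ ^ k ∈ E ↔ q₀ ^ k = 1 := by
    intro k
    rw [hq₀, ← map_pow, hf, QuotientGroup.mk'_apply, QuotientGroup.eq_one_iff]
  -- `c₀^(p^(n-3)) ∈ Z`
  have h3 : c₀ ^ p ^ (n - 3) ∈ E := by
    rw [hmemE, ← hord]; exact pow_orderOf_eq_one q₀
  have hsplit : p ^ (n - 3) = p ^ (n - 4) * p := by rw [← pow_succ]; congr 1; omega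
  have h4 : c₀ ^ p ^ (n - 3) ∈ Subgroup.zpowers z₀ := by
    have h5 : c₀ ^ p ^ (n - 3) = (c₀ ^ p ^ (n - 4)) ^ p := by rw [← pow_mul, ← hsplit]
    rw [h5]
    refine hD _ (Subgroup.pow_mem _ hc₀ _) ?_
    rw [← h5]; exact h3
  have h6 : c₀ ^ p ^ (n - 3) ≠ 1 := by
    intro h
    have h5 : (c₀ ^ p ^ (n - 4)) ^ p = 1 := by rw [← pow_mul, ← hsplit]; exact h
    have h7 : c₀ ^ p ^ (n - 4) ∈ E :=
      mem_E_of_pow B.rk E hE B.cardE _ (Subgroup.pow_mem _ hc₀ _) h5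
    rw [hmemE] at h7
    have h8 := orderOf_dvd_of_pow_eq_one h7
    rw [hord] at h8
    have h9 := (Nat.pow_dvd_pow_iff_le_right hp1).mp h8
    omega
  -- `c₀^(p^(n-3)) = z₀^i`, `p ∤ i`
  have hfin : IsOfFinOrder z₀ := isOfFinOrder_of_finite z₀
  obtain ⟨i, hi⟩ := (hfin.mem_powers_iff_mem_zpowers.mpr h4)
  have hi' : z₀ ^ i = c₀ ^ p ^ (n - 3) := hi
  have hz0p : z₀ ^ p = 1 := by rw [← B.z₀o]; exact pow_orderOf_eq_one z₀
  have hpi : ¬ p ∣ i := by
    rintro ⟨k, rfl⟩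
    apply h6
    rw [← hi', pow_mul, hz0p, one_pow]
  have hcop : Nat.Coprime i p := (Nat.Coprime.symm ((Nat.Prime.coprime_iff_not_dvd hpp).mpr hpi))
  -- inverse of `i` modulo `p`
  obtain ⟨i', hi'1⟩ : ∃ i' : ℕ, z₀ ^ (i * i') = z₀ := by
    have hc' : Nat.Coprime i (orderOf z₀) := by rw [B.z₀o]; exact hcop
    obtain ⟨m, hm⟩ := exists_pow_eq_self_of_coprime hc'
    exact ⟨m, by rw [pow_mul]; exact hm⟩
  have hpi' : ¬ p ∣ i' := by
    rintro ⟨k, rfl⟩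
    have : z₀ ^ (i * (p * k)) = 1 := by
      rw [show i * (p * k) = p * (i * k) by ring, pow_mul, hz0p, one_pow]
    rw [this] at hi'1
    have := B.z₀o
    rw [← hi'1, orderOf_one] at this
    omega
  set c : G := c₀ ^ i' with hc
  have hcC : c ∈ C := Subgroup.pow_mem _ hc₀ _
  have hcz : c ^ p ^ (n - 3) = z₀ := by
    rw [hc, ← pow_mul, mul_comm, pow_mul, ← hi', ← pow_mul]; exact hi'1
  -- `c₀ = c^m e₀`
  obtain ⟨m, e₀, he₀, hc₀eq⟩ : ∃ m : ℕ, ∃ e₀ ∈ E, c₀ = c ^ m * e₀ := by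
    have hc' : Nat.Coprime i' (orderOf q₀) := by
      rw [hord]
      exact Nat.Coprime.pow_right _ (Nat.Coprime.symm ((Nat.Prime.coprime_iff_not_dvd hpp).mpr hpi'))
    obtain ⟨m, hm⟩ := exists_pow_eq_self_of_coprime hc'
    refine ⟨m, (c ^ m)⁻¹ * c₀, ?_, by group⟩
    rw [← QuotientGroup.eq_one_iff (N := E), QuotientGroup.mk_mul, QuotientGroup.mk_inv]
    have h1 : (QuotientGroup.mk (c ^ m) : G ⧸ E) = q₀ := by
      rw [hc, ← pow_mul]
      show f (c₀ ^ (i' * m)) = q₀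
      rw [map_pow, ← hq₀, pow_mul]; exact hm
    have h2 : (QuotientGroup.mk c₀ : G ⧸ E) = q₀ := rfl
    rw [h1, h2, inv_mul_cancel]
  -- every element of `C` is `c^a e`
  have hgen : ∀ d ∈ C, ∃ a : ℕ, ∃ e ∈ E, d = c ^ a * e := by
    intro d hd
    obtain ⟨a, e, he, rfl⟩ := hgen₀ d hd
    refine ⟨m * a, e₀ ^ a * e, E.mul_mem (E.pow_mem he₀ a) he, ?_⟩
    have hce : Commute (c ^ m) e₀ := hcomm _ (Subgroup.pow_mem _ hcC m) e₀ he₀
    rw [hc₀eq, hce.mul_pow, ← pow_mul, mul_assoc]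
  obtain ⟨y, hy, hyz⟩ := B.exists_e1
  have hab : ∀ a ∈ C, ∀ b ∈ C, a * b = b * a := by
    intro a ha b hb
    obtain ⟨s, e, he, rfl⟩ := hgen a ha
    obtain ⟨s', e', he', rfl⟩ := hgen b hb
    have c1 : Commute (c ^ s) (c ^ s') := (Commute.refl c).pow_pow s s'
    have c2 : Commute (c ^ s) e' := hcomm _ (Subgroup.pow_mem _ hcC s) e' he'
    have c3 : Commute e (c ^ s') := (hcomm _ (Subgroup.pow_mem _ hcC s') e he).symm
    have c4 : Commute e e' := B.cE e he e' he'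
    exact ((c1.mul_right c2).mul_left (c3.mul_right c4)).eq
  refine ⟨c, hcC, y, hy, hyz, hcz, hab, ?_⟩
  intro d hd
  obtain ⟨a, e, he, rfl⟩ := hgen d hd
  obtain ⟨i₁, j₁, rfl⟩ := B.E_eq y hy hyz e he
  refine ⟨a + p ^ (n - 3) * i₁, j₁, ?_⟩
  rw [pow_add, pow_mul, hcz, mul_assoc]

end Cfsg.Agent.Lib.Helper18.BLK
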