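import Mathlib
import Cfsg.Prelude.Def_Blocks
import Cfsg.Agent.Lib.Helper16.AP3
import Cfsg.Agent.Lib.Helper10.SLB.Defs

set_option autoImplicit false

open Polynomial

namespace Cfsg.Agent.Lib.Helper10.SLB

open Cfsg.Agent.Lib.Helper16.AP

universe u

variable {F : Type u} [Field F]

/-- the action of `1 + w φᵀ` -/
theorem slba06_mulVec (n : ℕ) (w φ v : Fin n → F) :
    (1 + Matrix.vecMulVec w φ).mulVec v = v + (φ ⬝ᵥ v) • w := by
  rw [Matrix.add_mulVec, Matrix.one_mulVec, Matrix.vecMulVec_mulVec]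
  congr 1
  ext i
  simp [mul_comm]

/-- the transvection `1 + w φᵀ` (`w ∈ W`, `φ` vanishing on `W`) lies in `uW W` -/
theorem slba06_trans_mem (n : ℕ) (W : Submodule F (Fin n → F)) (w φ : Fin n → F) (hw : w ∈ W)
    (hφ : ∀ w' ∈ W, φ ⬝ᵥ w' = 0) :
    ∃ t : Matrix.SpecialLinearGroup (Fin n) F, t ∈ uW W ∧
      (t : Matrix (Fin n) (Fin n) F) = 1 + Matrix.vecMulVec w φ := by
  have hdet : (1 + Matrix.vecMulVec w φ).det = 1 := by
    rw [Matrix.vecMulVec_eq Unit, Matrix.det_one_add_replicateCol_mul_replicateRow, hφ w hw,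
      add_zero]
  refine ⟨(⟨1 + Matrix.vecMulVec w φ, hdet⟩ : Matrix.SpecialLinearGroup (Fin n) F), ?_, rfl⟩
  refine (mem_uW W _).mpr ⟨?_, ?_⟩
  · intro w' hw'
    show (1 + Matrix.vecMulVec w φ).mulVec w' = w'
    rw [slba06_mulVec, hφ w' hw', zero_smul, add_zero]
  · intro v
    show (1 + Matrix.vecMulVec w φ).mulVec v - v ∈ W
    rw [slba06_mulVec, add_sub_cancel_left]
    exact W.smul_mem _ hw

/-- the key identity from commuting with a transvection -/
theorem slba06_key (n : ℕ) (W : Submodule F (Fin n → F))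
    (x : Matrix.SpecialLinearGroup (Fin n) F) (hc : ∀ u ∈ uW W, u * x = x * u)
    (w φ : Fin n → F) (hw : w ∈ W) (hφ : ∀ w' ∈ W, φ ⬝ᵥ w' = 0) (v : Fin n → F) :
    (φ ⬝ᵥ (x : Matrix (Fin n) (Fin n) F).mulVec v) • w
      = (φ ⬝ᵥ v) • (x : Matrix (Fin n) (Fin n) F).mulVec w := by
  obtain ⟨t, ht, hte⟩ := slba06_trans_mem n W w φ hw hφ
  have h := hc t ht
  have h2 : (t : Matrix (Fin n) (Fin n) F) * (x : Matrix (Fin n) (Fin n) F)
      = (x : Matrix (Fin n) (Fin n) F) * (t : Matrix (Fin n) (Fin n) F) := by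
    rw [← Matrix.SpecialLinearGroup.coe_mul, h, Matrix.SpecialLinearGroup.coe_mul]
  have h3 : ((t : Matrix (Fin n) (Fin n) F) * (x : Matrix (Fin n) (Fin n) F)).mulVec v
      = ((x : Matrix (Fin n) (Fin n) F) * (t : Matrix (Fin n) (Fin n) F)).mulVec v := by rw [h2]
  rw [← Matrix.mulVec_mulVec, ← Matrix.mulVec_mulVec, hte, slba06_mulVec, slba06_mulVec,
    Matrix.mulVec_add, Matrix.mulVec_smul] at h3
  exact add_left_cancel h3

/-- the row vector of a functional -/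
def slba06_row {n : ℕ} (f : (Fin n → F) →ₗ[F] F) : Fin n → F :=
  fun i => f (fun j => if i = j then 1 else 0)

theorem slba06_row_dot {n : ℕ} (f : (Fin n → F) →ₗ[F] F) (v : Fin n → F) :
    slba06_row f ⬝ᵥ v = f v := by
  rw [LinearMap.pi_apply_eq_sum_univ f v]
  unfold slba06_row dotProduct
  apply Finset.sum_congr rfl
  intro i _
  rw [smul_eq_mul, mul_comm]

theorem eigen_of_centralizes_uW (n : ℕ) (W : Submodule F (Fin n → F)) (hW0 : W ≠ ⊥) (hW1 : W ≠ ⊤)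
    (x : Matrix.SpecialLinearGroup (Fin n) F) (hc : ∀ u ∈ uW W, u * x = x * u) :
    ∃ l : F, (∀ w ∈ W, (x : Matrix (Fin n) (Fin n) F).mulVec w = l • w) ∧
      ∀ v : Fin n → F, (x : Matrix (Fin n) (Fin n) F).mulVec v - l • v ∈ W := by
  obtain ⟨f0, hf0, hWf0⟩ := W.exists_le_ker_of_lt_top (lt_top_iff_ne_top.mpr hW1)
  obtain ⟨v0', hv0'⟩ : ∃ v, f0 v ≠ 0 := by
    by_contra h
    apply hf0
    apply LinearMap.ext
    intro v
    by_contra hv
    exact h ⟨v, hv⟩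
  have hv0 : f0 ((f0 v0')⁻¹ • v0') = 1 := by
    rw [map_smul, smul_eq_mul, inv_mul_cancel₀ hv0']
  have hφ0W : ∀ w' ∈ W, slba06_row f0 ⬝ᵥ w' = 0 := by
    intro w' hw'
    rw [slba06_row_dot]
    exact hWf0 hw'
  have hfirst : ∀ w ∈ W, (x : Matrix (Fin n) (Fin n) F).mulVec w
      = f0 ((x : Matrix (Fin n) (Fin n) F).mulVec ((f0 v0')⁻¹ • v0')) • w := by
    intro w hw
    have := slba06_key n W x hc w (slba06_row f0) hw hφ0W ((f0 v0')⁻¹ • v0')
    rw [slba06_row_dot, slba06_row_dot, hv0, one_smul] at this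
    exact this.symm
  refine ⟨f0 ((x : Matrix (Fin n) (Fin n) F).mulVec ((f0 v0')⁻¹ • v0')), hfirst, ?_⟩
  intro v
  by_contra hnot
  obtain ⟨f, hfv, hWf⟩ := Submodule.exists_le_ker_of_notMem hnot
  obtain ⟨w1, hw1, hw1ne⟩ := (Submodule.ne_bot_iff W).mp hW0
  have hk := slba06_key n W x hc w1 (slba06_row f) hw1
    (fun w' hw' => by rw [slba06_row_dot]; exact hWf hw') v
  rw [slba06_row_dot, slba06_row_dot, hfirst w1 hw1, smul_smul] at hk
  have h0 : (f ((x : Matrix (Fin n) (Fin n) F).mulVec v)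
      - f v * f0 ((x : Matrix (Fin n) (Fin n) F).mulVec ((f0 v0')⁻¹ • v0'))) • w1 = 0 := by
    rw [sub_smul, hk, sub_self]
  rcases smul_eq_zero.mp h0 with h | h
  · apply hfv
    rw [map_sub, map_smul, smul_eq_mul]
    linear_combination h
  · exact hw1ne h

end Cfsg.Agent.Lib.Helper10.SLB
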