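import Mathlib
import Cfsg.Prelude.Def_Blocks
import Cfsg.Agent.Lib.Helper16.AP3
import Cfsg.Agent.Lib.Helper10.SLB.Defs

set_option autoImplicit false

open Polynomial

namespace Cfsg.Agent.Lib.Helper10.SLB

open Cfsg.Agent.Lib.Helper16.AP

universe u

variable {F : Type u} [Field F]

/-- a matrix killed by `(X - l)^2` and by `X^o - 1` with `(o : F) ≠ 0` is the scalar `l` -/
theorem slba07_scalar (n : ℕ) (A : Matrix (Fin n) (Fin n) F) (l : F) (o : ℕ) (ho : (o : F) ≠ 0)
    (h1 : (A - l • 1) * (A - l • 1) = 0) (h2 : A ^ o = 1) : A = l • 1 := by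
  have hsep : (X ^ o - C (1 : F)).Separable := separable_X_pow_sub_C (1 : F) ho one_ne_zero
  have hd1 : minpoly F A ∣ (X ^ o - C (1 : F)) := by
    apply minpoly.dvd
    simp [h2]
  have hd2 : minpoly F A ∣ (X - C l) ^ 2 := by
    apply minpoly.dvd
    have : (Polynomial.aeval A) (X - C l) = A - l • 1 := by
      simp [Algebra.algebraMap_eq_smul_one]
    rw [map_pow, this, pow_two, h1]
  have hsq : Squarefree (minpoly F A) := hsep.squarefree.squarefree_of_dvd hd1
  have hd3 : minpoly F A ∣ (X - C l) :=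
    (hsq.dvd_pow_iff_dvd two_ne_zero).mp hd2
  obtain ⟨c, hc⟩ := hd3
  have h0 : (Polynomial.aeval A) (X - C l) = 0 := by
    rw [hc, map_mul, minpoly.aeval, zero_mul]
  have : (Polynomial.aeval A) (X - C l) = A - l • 1 := by
    simp [Algebra.algebraMap_eq_smul_one]
  rw [this] at h0
  exact sub_eq_zero.mp h0

theorem central_of_eigen (p : ℕ) [Fact p.Prime] [CharP F p] (n : ℕ) (W : Submodule F (Fin n → F))
    (x : Matrix.SpecialLinearGroup (Fin n) F) (hx : ¬ p ∣ orderOf x) (l : F)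
    (h1 : ∀ w ∈ W, (x : Matrix (Fin n) (Fin n) F).mulVec w = l • w)
    (h2 : ∀ v : Fin n → F, (x : Matrix (Fin n) (Fin n) F).mulVec v - l • v ∈ W) :
    x ∈ Subgroup.center (Matrix.SpecialLinearGroup (Fin n) F) := by
  have hnu : ∀ v : Fin n → F, ((x : Matrix (Fin n) (Fin n) F) - l • 1).mulVec v
      = (x : Matrix (Fin n) (Fin n) F).mulVec v - l • v := by
    intro v
    rw [Matrix.sub_mulVec, Matrix.smul_mulVec, Matrix.one_mulVec]
  have hsq : ((x : Matrix (Fin n) (Fin n) F) - l • 1) * ((x : Matrix (Fin n) (Fin n) F) - l • 1) = 0 := by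
    apply Matrix.toLin'.injective
    apply LinearMap.ext
    intro v
    rw [Matrix.toLin'_mul, LinearMap.comp_apply, Matrix.toLin'_apply, Matrix.toLin'_apply, hnu v,
      hnu, h1 _ (h2 v), sub_self]
    simp
  have ho : ((orderOf x : ℕ) : F) ≠ 0 := by
    intro h
    exact hx ((CharP.cast_eq_zero_iff F p _).mp h)
  have hpow : (x : Matrix (Fin n) (Fin n) F) ^ orderOf x = 1 := by
    rw [← Matrix.SpecialLinearGroup.coe_pow, pow_orderOf_eq_one, Matrix.SpecialLinearGroup.coe_one]
  have hA := slba07_scalar n (x : Matrix (Fin n) (Fin n) F) l (orderOf x) ho hsq hpow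
  rw [Subgroup.mem_center_iff]
  intro B
  apply Subtype.ext
  rw [Matrix.SpecialLinearGroup.coe_mul, Matrix.SpecialLinearGroup.coe_mul, hA]
  simp

end Cfsg.Agent.Lib.Helper10.SLB
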