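import Mathlib
import Cfsg.Prelude.Def_Blocks
import Cfsg.Agent.Lib.Helper16.AP3
import Cfsg.Agent.Lib.Helper10.SLB.Defs
import Cfsg.Agent.Lib.helper6.SSCONJMAIN

set_option autoImplicit false

open Polynomial

namespace Cfsg.Agent.Lib.Helper10.SLB

open Cfsg.Agent.Lib.Helper16.AP

universe u

variable {F : Type u} [Field F]

/-- `aeval` of a restriction is the restriction of `aeval` -/
theorem slbl06_aeval_restrict {V : Type*} [AddCommGroup V] [Module F V] (φ : Module.End F V)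
    (p : Submodule F V) (hp : ∀ x ∈ p, φ x ∈ p) (f : F[X]) :
    ∀ u : p, ((aeval (φ.restrict hp) f) u : V) = aeval φ f (u : V) := by
  induction f using Polynomial.induction_on with
  | C a =>
    intro u
    simp [Algebra.algebraMap_eq_smul_one]
  | add f g hf hg =>
    intro u
    rw [map_add, map_add, LinearMap.add_apply, LinearMap.add_apply, Submodule.coe_add, hf u, hg u]
  | monomial n a ih =>
    intro u
    have hsplit : (C a * X ^ (n + 1) : F[X]) = (C a * X ^ n) * X := by rw [pow_succ, mul_assoc]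
    rw [hsplit, map_mul (aeval (φ.restrict hp)), map_mul (aeval φ), aeval_X, aeval_X,
      Module.End.mul_apply, Module.End.mul_apply, ih (φ.restrict hp u),
      LinearMap.coe_restrict_apply]

/-- the projection along an invariant complement commutes with the endomorphism -/
theorem slbl06_proj {V : Type*} [AddCommGroup V] [Module F V] (φ : Module.End F V)
    (p q : Submodule F V) (h : IsCompl p q) (hp : ∀ x ∈ p, φ x ∈ p) (hq : ∀ x ∈ q, φ x ∈ q)
    (x : V) :
    Submodule.projectionOnto p q h (φ x)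
      = φ.restrict hp (Submodule.projectionOnto p q h x) := by
  obtain ⟨⟨a, b⟩, rfl⟩ := (Submodule.prodEquivOfIsCompl p q h).surjective x
  rw [Submodule.coe_prodEquivOfIsCompl', map_add, map_add, map_add]
  have e1 : φ (a : V) = ((φ.restrict hp a : p) : V) := rfl
  have e2 : φ (b : V) = ((⟨φ b, hq b b.2⟩ : q) : V) := rfl
  rw [e1, e2, Submodule.projectionOnto_apply_left, Submodule.projectionOnto_apply_right]
  show _ = (φ.restrict hp) (Submodule.projectionOnto p q h (a : V) + Submodule.projectionOnto p q h (b : V))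
  rw [Submodule.projectionOnto_apply_left, Submodule.projectionOnto_apply_right, add_zero,
    add_zero]

/-- a monic irreducible whose square divides a non-squarefree non-zero polynomial -/
theorem slbl06_exists_irr (g : F[X]) (hg0 : g ≠ 0) (hns : ¬ Squarefree g) :
    ∃ π : F[X], π.Monic ∧ Irreducible π ∧ π * π ∣ g := by
  unfold Squarefree at hns
  push Not at hns
  obtain ⟨x, hx, hxu⟩ := hns
  have hx0 : x ≠ 0 := by
    rintro rfl
    rw [mul_zero, zero_dvd_iff] at hx
    exact hg0 hx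
  obtain ⟨π₀, hπ₀, hd⟩ := WfDvdMonoid.exists_irreducible_factor hxu hx0
  have hπ₀0 : π₀ ≠ 0 := hπ₀.ne_zero
  have hlc : π₀.leadingCoeff ≠ 0 := leadingCoeff_ne_zero.mpr hπ₀0
  have hassoc : Associated π₀ (π₀ * C π₀.leadingCoeff⁻¹) := by
    refine ⟨⟨C π₀.leadingCoeff⁻¹, C π₀.leadingCoeff, ?_, ?_⟩, rfl⟩
    · rw [← C_mul, inv_mul_cancel₀ hlc, C_1]
    · rw [← C_mul, mul_inv_cancel₀ hlc, C_1]
  refine ⟨π₀ * C π₀.leadingCoeff⁻¹, monic_mul_leadingCoeff_inv hπ₀0, hassoc.irreducible hπ₀, ?_⟩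
  have hd' : π₀ * C π₀.leadingCoeff⁻¹ ∣ x := hassoc.symm.dvd.trans hd
  exact (mul_dvd_mul hd' hd').trans hx

theorem exists_nilp {V : Type*} [AddCommGroup V] [Module F V] [FiniteDimensional F V]
    (φ : Module.End F V) (hφ : φ.IsSemisimple) (hns : ¬ Squarefree φ.charpoly) :
    ∃ N : Module.End F V, N ≠ 0 ∧ N * N = 0 ∧ N * φ = φ * N := by
  obtain ⟨π, hm, hirr, hdvd⟩ := slbl06_exists_irr φ.charpoly (LinearMap.charpoly_monic φ).ne_zero hns
  have hπ0 : π ≠ 0 := hirr.ne_zero
  have hdpos : 0 < π.natDegree := Irreducible.natDegree_pos hirr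
  -- first cyclic piece
  have h1 : π ∣ minpoly F φ :=
    Cfsg.Agent.Lib.helper6.SSCONJ.irr_dvd_minpoly φ π hirr ((dvd_mul_right π π).trans hdvd)
  obtain ⟨v, hv0, hv⟩ := Cfsg.Agent.Lib.helper6.SSCONJ.exists_ker_ne φ π hirr.not_isUnit h1
  have hU := Cfsg.Agent.Lib.helper6.SSCONJ.cyc_invt φ v π hm hv
  have hcU := Cfsg.Agent.Lib.helper6.SSCONJ.cyc_charpoly φ v hv0 π hm hirr hv hU
  obtain ⟨U', hU', hc, hss', hchar⟩ := Cfsg.Agent.Lib.helper6.SSCONJ.split φ hφ _ hU
  rw [hcU] at hchar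
  have hd2 : π ∣ (φ.restrict hU').charpoly := by
    rw [hchar] at hdvd
    exact (mul_dvd_mul_iff_left hπ0).mp hdvd
  -- second cyclic piece inside U'
  have h2 : π ∣ minpoly F (φ.restrict hU') :=
    Cfsg.Agent.Lib.helper6.SSCONJ.irr_dvd_minpoly (φ.restrict hU') π hirr hd2
  obtain ⟨w, hw0, hw⟩ :=
    Cfsg.Agent.Lib.helper6.SSCONJ.exists_ker_ne (φ.restrict hU') π hirr.not_isUnit h2
  have hU₂ := Cfsg.Agent.Lib.helper6.SSCONJ.cyc_invt (φ.restrict hU') w π hm hw
  obtain ⟨U'', hU'', hc₂, -, -⟩ := Cfsg.Agent.Lib.helper6.SSCONJ.split (φ.restrict hU') hss' _ hU₂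
  obtain ⟨e, he⟩ := Cfsg.Agent.Lib.helper6.SSCONJ.ssconjcyciso_h6 (φ.restrict hU') φ w v hw0 hv0
    π hm hirr hw hv hU₂ hU
  -- the nilpotent
  set P1 := Submodule.projectionOnto U' _ hc.symm with hP1
  set P2 := Submodule.projectionOnto _ U'' hc₂ with hP2
  refine ⟨(Submodule.subtype _) ∘ₗ e.toLinearMap ∘ₗ P2 ∘ₗ P1, ?_, ?_, ?_⟩
  · -- N ≠ 0
    intro h0
    have hwmem : w ∈ Cfsg.Agent.Lib.helper6.SSCONJ.cyc (φ.restrict hU') w π.natDegree := by
      unfold Cfsg.Agent.Lib.helper6.SSCONJ.cyc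
      apply Submodule.subset_span
      exact ⟨⟨0, hdpos⟩, by simp⟩
    have hN := congrArg (fun N : Module.End F V => N (w : V)) h0
    simp only [LinearMap.comp_apply, LinearMap.zero_apply, Submodule.subtype_apply,
      LinearEquiv.coe_coe] at hN
    have e1 : P1 (w : V) = w := Submodule.projectionOnto_apply_left hc.symm w
    have e2 : P2 w = ⟨w, hwmem⟩ :=
      Submodule.projectionOnto_apply_left hc₂ (⟨w, hwmem⟩ : Cfsg.Agent.Lib.helper6.SSCONJ.cyc (φ.restrict hU') w π.natDegree)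
    rw [e1, e2] at hN
    have h3 : e ⟨w, hwmem⟩ = 0 := Subtype.ext hN
    have h4 : (⟨w, hwmem⟩ : Cfsg.Agent.Lib.helper6.SSCONJ.cyc (φ.restrict hU') w π.natDegree) = 0 :=
      e.map_eq_zero_iff.mp h3
    exact hw0 (congrArg Subtype.val h4)
  · -- N * N = 0
    apply LinearMap.ext
    intro x
    simp only [Module.End.mul_apply, LinearMap.comp_apply, LinearMap.zero_apply,
      Submodule.subtype_apply, LinearEquiv.coe_coe]
    have : P1 ((e (P2 (P1 x)) : Cfsg.Agent.Lib.helper6.SSCONJ.cyc φ v π.natDegree) : V) = 0 :=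
      Submodule.projectionOnto_apply_right hc.symm (e (P2 (P1 x)))
    rw [this, map_zero, map_zero, ZeroMemClass.coe_zero]
  · -- commutes
    apply LinearMap.ext
    intro x
    simp only [Module.End.mul_apply, LinearMap.comp_apply, Submodule.subtype_apply,
      LinearEquiv.coe_coe]
    have e1 : P1 (φ x) = φ.restrict hU' (P1 x) := slbl06_proj φ U' _ hc.symm hU' hU x
    have e2 : P2 (φ.restrict hU' (P1 x)) = (φ.restrict hU').restrict hU₂ (P2 (P1 x)) :=
      slbl06_proj (φ.restrict hU') _ U'' hc₂ hU₂ hU'' (P1 x)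
    rw [e1, e2, he]
    rfl

end Cfsg.Agent.Lib.Helper10.SLB
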