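import Mathlib
import Cfsg.Prelude.Def_Blocks
import Cfsg.Agent.Lib.Helper16.AP3
import Cfsg.Agent.Lib.Helper10.SLB.Defs
import Cfsg.Agent.Lib.Helper28.SSCONJSSPOW
import Cfsg.Agent.Lib.Helper18.SLBL06

set_option autoImplicit false

open Polynomial

namespace Cfsg.Agent.Lib.Helper10.SLB

open Cfsg.Agent.Lib.Helper16.AP

universe u

variable {F : Type u} [Field F]

/-- powers of `1 + ν` for `ν * ν = 0` -/
theorem slbl07_pow (n : ℕ) (ν : Matrix (Fin n) (Fin n) F) (h : ν * ν = 0) (k : ℕ) :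
    (1 + ν) ^ k = 1 + (k : F) • ν := by
  induction k with
  | zero => simp
  | succ k ih =>
    rw [pow_succ, ih]
    simp only [add_mul, mul_add, one_mul, mul_one, Matrix.smul_mul, h, smul_zero, add_zero,
      Nat.cast_succ, add_smul, one_smul]
    abel

/-- a `p`-regular-centraliser element has a power of order prime to `p` equal to one -/
theorem slbl07_pow_eq_one {G : Type*} [Group G] [Finite G] (p : ℕ) [Fact p.Prime] (x : G)
    (hx : PFree p x) : ∃ o' : ℕ, ¬ p ∣ o' ∧ x ^ o' = 1 := by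
  have ho : orderOf x ≠ 0 := (orderOf_pos x).ne'
  obtain ⟨k, o', hpo', ho'⟩ :=
    Nat.exists_eq_pow_mul_and_not_dvd ho p (Fact.out : p.Prime).ne_one
  refine ⟨o', hpo', ?_⟩
  have ho'0 : o' ≠ 0 := by
    rintro rfl
    exact hpo' (dvd_zero p)
  apply hx (x ^ o')
  · refine ⟨k, ?_⟩
    rw [orderOf_pow' x ho'0, ho']
    have : Nat.gcd (p ^ k * o') o' = o' := Nat.gcd_eq_right (dvd_mul_left o' (p ^ k))
    rw [this, Nat.mul_div_cancel _ (Nat.pos_of_ne_zero ho'0)]
  · rw [← pow_succ, ← pow_succ']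

theorem squarefree_of_pfree [Fintype F] (p : ℕ) [Fact p.Prime] [CharP F p] (n : ℕ)
    (x : Matrix.SpecialLinearGroup (Fin n) F) (hx : PFree p x) :
    Squarefree (x : Matrix (Fin n) (Fin n) F).charpoly := by
  classical
  obtain ⟨o', hpo', ho'⟩ := slbl07_pow_eq_one p x hx
  have ho'F : ((o' : ℕ) : F) ≠ 0 := by
    intro h
    exact hpo' ((CharP.cast_eq_zero_iff F p _).mp h)
  have hpow : (x : Matrix (Fin n) (Fin n) F) ^ o' = 1 := by
    rw [← Matrix.SpecialLinearGroup.coe_pow, ho', Matrix.SpecialLinearGroup.coe_one]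
  have hss : Module.End.IsSemisimple (Matrix.toLin' (x : Matrix (Fin n) (Fin n) F)) :=
    Cfsg.Agent.Lib.helper6.SSCONJ.ss_of_pow_eq_one _ o' ho'F hpow
  by_contra hns
  rw [← Matrix.charpoly_toLin'] at hns
  obtain ⟨N, hN0, hNN, hNφ⟩ := exists_nilp _ hss hns
  set ν : Matrix (Fin n) (Fin n) F := LinearMap.toMatrix' N with hν
  have hN : Matrix.toLin' ν = N := Matrix.toLin'_toMatrix' N
  have hν0 : ν ≠ 0 := by
    intro h
    apply hN0
    rw [← hN, h, map_zero]
  have hνν : ν * ν = 0 := by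
    rw [hν, ← LinearMap.toMatrix'_mul, hNN, map_zero]
  have hνx : ν * (x : Matrix (Fin n) (Fin n) F) = (x : Matrix (Fin n) (Fin n) F) * ν := by
    have h1 : LinearMap.toMatrix' (N * Matrix.toLin' (x : Matrix (Fin n) (Fin n) F))
        = LinearMap.toMatrix' (Matrix.toLin' (x : Matrix (Fin n) (Fin n) F) * N) := by rw [hNφ]
    rw [LinearMap.toMatrix'_mul, LinearMap.toMatrix'_mul, LinearMap.toMatrix'_toLin'] at h1
    exact h1
  have hvp : (1 + ν) ^ p = 1 := by
    rw [slbl07_pow n ν hνν p, CharP.cast_eq_zero F p, zero_smul, add_zero]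
  have hdet : (1 + ν).det = 1 := by
    have h1 : (1 + ν).det ^ p = 1 := by rw [← Matrix.det_pow, hvp, Matrix.det_one]
    have h2 : ((1 + ν).det - 1) ^ p = 0 := by rw [sub_pow_char, h1, one_pow, sub_self]
    exact sub_eq_zero.mp (pow_eq_zero_iff (Fact.out : p.Prime).ne_zero |>.mp h2)
  obtain ⟨t, ht⟩ : ∃ t : Matrix.SpecialLinearGroup (Fin n) F,
      (t : Matrix (Fin n) (Fin n) F) = 1 + ν := ⟨⟨1 + ν, hdet⟩, rfl⟩
  have hv1 : t = 1 := by
    apply hx
    · have hpow1 : t ^ p = 1 := by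
        apply Subtype.ext
        rw [Matrix.SpecialLinearGroup.coe_pow, Matrix.SpecialLinearGroup.coe_one, ht]
        exact hvp
      obtain ⟨k, -, hk⟩ := (Nat.dvd_prime_pow (Fact.out : p.Prime)).mp
        (by rw [pow_one]; exact orderOf_dvd_of_pow_eq_one hpow1 : orderOf t ∣ p ^ 1)
      exact ⟨k, hk⟩
    · apply Subtype.ext
      rw [Matrix.SpecialLinearGroup.coe_mul, Matrix.SpecialLinearGroup.coe_mul, ht]
      rw [add_mul, mul_add, one_mul, mul_one, hνx]
  apply hν0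
  have h4 : (1 : Matrix (Fin n) (Fin n) F) + ν = 1 := by
    rw [← ht, hv1, Matrix.SpecialLinearGroup.coe_one]
  exact add_eq_left.mp h4

end Cfsg.Agent.Lib.Helper10.SLB
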