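import Mathlib
import Cfsg.Agent.Lib.helper14.SQD.DefsU

/-!
Project SQD (designer helper14), block UF: `frobE_apply`, `frobE_frobE`, `exists_trace_one`, `card_fixed_ge`
(field facts for `x ↦ x ^ q`, `card F = q ^ 2`, characteristic 2).  Mathlib + DefsU only.
-/

set_option autoImplicit false

namespace Cfsg.Agent.Lib.helper14.SQD

open Cfsg Matrix

universe u v

section UF
variable {F : Type u} [Field F] [Fintype F] [CharP F 2] (e : ℕ)

/-- UF1 [E]. `iterateFrobenius_def`. -/
theorem frobE_apply (x : F) : frobE F e x = x ^ 2 ^ e := by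
  exact iterateFrobenius_def 2 e x

omit [CharP F 2] in
/-- `e ≠ 0` when `card F = (2 ^ e) ^ 2` -/
theorem sqduf_e_ne (hF : Fintype.card F = (2 ^ e) ^ 2) : e ≠ 0 := by
  intro h
  rw [h] at hF
  have := Fintype.one_lt_card (α := F)
  rw [hF] at this
  norm_num at this

omit [CharP F 2] in
/-- `x ^ (q ^ 2) = x` -/
theorem sqduf_pow_sq (hF : Fintype.card F = (2 ^ e) ^ 2) (x : F) : (x ^ 2 ^ e) ^ 2 ^ e = x := by
  rw [← pow_mul, ← sq, ← hF]
  exact FiniteField.pow_card x

/-- UF2 [E-M]. -/
theorem frobE_frobE (hF : Fintype.card F = (2 ^ e) ^ 2) (x : F) : frobE F e (frobE F e x) = x := by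
  rw [frobE_apply, frobE_apply]
  exact sqduf_pow_sq e hF x

omit [CharP F 2] in
/-- not every element is fixed by `x ↦ x ^ q` -/
theorem sqduf_exists_moved (hF : Fintype.card F = (2 ^ e) ^ 2) : ∃ b : F, b ^ 2 ^ e ≠ b := by
  classical
  by_contra hcon
  simp only [not_exists, not_not] at hcon
  have he : e ≠ 0 := sqduf_e_ne e hF
  have hp0 : (Polynomial.X ^ 2 ^ e - Polynomial.X : Polynomial F) ≠ 0 :=
    FiniteField.X_pow_card_pow_sub_X_ne_zero F he (by norm_num)
  have hdeg : (Polynomial.X ^ 2 ^ e - Polynomial.X : Polynomial F).natDegree = 2 ^ e :=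
    FiniteField.X_pow_card_pow_sub_X_natDegree_eq F he (by norm_num)
  have hsub : (Finset.univ : Finset F) ⊆
      (Polynomial.X ^ 2 ^ e - Polynomial.X : Polynomial F).roots.toFinset := by
    intro x _
    rw [Multiset.mem_toFinset, Polynomial.mem_roots hp0]
    simp [Polynomial.IsRoot, hcon x]
  have h1 := Finset.card_le_card hsub
  have h2 := Multiset.toFinset_card_le (Polynomial.X ^ 2 ^ e - Polynomial.X : Polynomial F).roots
  have h3 := Polynomial.card_roots' (Polynomial.X ^ 2 ^ e - Polynomial.X : Polynomial F)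
  rw [Finset.card_univ, hF] at h1
  rw [hdeg] at h3
  have h4 : (2 ^ e) ^ 2 ≤ 2 ^ e := le_trans h1 (le_trans h2 h3)
  have h5 : 2 ≤ 2 ^ e := by
    calc 2 = 2 ^ 1 := by norm_num
      _ ≤ 2 ^ e := Nat.pow_le_pow_right (by norm_num) (Nat.one_le_iff_ne_zero.mpr he)
  nlinarith

/-- UF3 [M]. -/
theorem exists_trace_one (hF : Fintype.card F = (2 ^ e) ^ 2) : ∃ a : F, a ^ 2 ^ e + a = 1 := by
  obtain ⟨b, hb⟩ := sqduf_exists_moved e hF
  set t : F := b ^ 2 ^ e + b with ht
  have ht0 : t ≠ 0 := by
    intro h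
    apply hb
    have h2 : b ^ 2 ^ e = -b := eq_neg_of_add_eq_zero_left h
    rw [h2]
    exact CharTwo.neg_eq b
  have htq : t ^ 2 ^ e = t := by
    rw [ht, add_pow_char_pow, sqduf_pow_sq e hF b, add_comm]
  refine ⟨b / t, ?_⟩
  rw [div_pow, htq, ← add_div, ← ht, div_self ht0]

/-- UF4 [E-M]. -/
theorem card_fixed_ge (hF : Fintype.card F = (2 ^ e) ^ 2) : 2 ^ e ≤ Nat.card {x : F // frobE F e x = x} := by
  classical
  -- the additive map `x ↦ x ^ q + x`
  let φ : F →+ F :=
    { toFun := fun x => x ^ 2 ^ e + x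
      map_zero' := by
        have : (0 : F) ^ 2 ^ e = 0 := zero_pow (by positivity)
        simp [this]
      map_add' := by
        intro x y
        rw [add_pow_char_pow]
        ring }
  let K : Set F := {x : F | frobE F e x = x}
  have hker : ∀ x : F, x ∈ φ.ker ↔ x ∈ K := by
    intro x
    rw [AddMonoidHom.mem_ker]
    show x ^ 2 ^ e + x = 0 ↔ frobE F e x = x
    rw [frobE_apply]
    constructor
    · intro h
      have h2 : x ^ 2 ^ e = -x := eq_neg_of_add_eq_zero_left h
      rw [h2]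
      exact CharTwo.neg_eq x
    · intro h
      rw [h]
      exact CharTwo.add_self_eq_zero x
  have hrange : ∀ y : F, y ∈ φ.range → y ∈ K := by
    rintro y ⟨x, rfl⟩
    show frobE F e (x ^ 2 ^ e + x) = x ^ 2 ^ e + x
    rw [frobE_apply, add_pow_char_pow, sqduf_pow_sq e hF x, add_comm]
  have hcardker : Nat.card φ.ker = Nat.card K := by
    apply Nat.card_congr
    exact Equiv.subtypeEquivRight hker
  have hcardrange : Nat.card φ.range ≤ Nat.card K := by
    apply Nat.card_le_card_of_injective (fun y : φ.range => (⟨y.1, hrange y.1 y.2⟩ : K))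
    intro a b hab
    apply Subtype.ext
    have := congrArg (fun z : K => (z : F)) hab
    exact this
  have hprod : Nat.card F = Nat.card (F ⧸ φ.ker) * Nat.card φ.ker :=
    AddSubgroup.card_eq_card_quotient_mul_card_addSubgroup φ.ker
  have hquot : Nat.card (F ⧸ φ.ker) = Nat.card φ.range :=
    Nat.card_congr (QuotientAddGroup.quotientKerEquivRange φ).toEquiv
  have hle : (2 ^ e) ^ 2 ≤ Nat.card K ^ 2 := by
    calc (2 ^ e) ^ 2 = Nat.card F := by rw [Nat.card_eq_fintype_card, hF]
      _ = Nat.card φ.range * Nat.card φ.ker := by rw [hprod, hquot]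
      _ ≤ Nat.card K * Nat.card K := by
          rw [hcardker]
          exact Nat.mul_le_mul_right _ hcardrange
      _ = Nat.card K ^ 2 := (pow_two _).symm
  exact (Nat.pow_le_pow_iff_left (by norm_num)).mp hle

end UF

end Cfsg.Agent.Lib.helper14.SQD
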