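import Cfsg.Agent.Lib.Helper18.SZCSlib

/-!
# SZC rows S2 (`V_norm`) and S3 (`V_pair`): cores

`szcs2_core` on the statements of C2, D5, D8, T8; `szcs3_core` on C2, D5, D8, D9, T9.
-/

set_option autoImplicit false
open scoped ComplexConjugate

namespace Cfsg.Agent.Lib.Helper10.SZC

section
variable {G : Type*} [Group G] [Fintype G]
variable {q r : ℕ}

/-- S2 core -/
theorem szcs2_core [Fintype (Cfsg.IrrCharacter G)] (D : SzcData G q r)
    (hC2 : SzcsC2 G) (hD5 : SzcsD5 D) (hD8 : SzcsD8 D) (hT8 : SzcsT8 D)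
    (v : Cfsg.IrrCharacter G → ℤ) (hv : v ∈ Vall D) : ∑ χ, v χ * v χ = 3 := by
  obtain ⟨i, l, hl, rfl⟩ := (szcs_mem_Vall D v).mp hv
  exact szcs_vec_norm D hC2 hD5 hD8 hT8 i l hl

/-- S3 core -/
theorem szcs3_core [Fintype (Cfsg.IrrCharacter G)] (D : SzcData G q r)
    (hC2 : SzcsC2 G) (hD5 : SzcsD5 D) (hD8 : SzcsD8 D) (hD9 : SzcsD9 D) (hT9 : SzcsT9 D)
    (v w : Cfsg.IrrCharacter G → ℤ) (hv : v ∈ Vall D) (hw : w ∈ Vall D) (hvw : v ≠ w) :
    ∑ χ, v χ * w χ = 2 := by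
  obtain ⟨i, l, hl, rfl⟩ := (szcs_mem_Vall D v).mp hv
  obtain ⟨j, l', hl', rfl⟩ := (szcs_mem_Vall D w).mp hw
  cases i <;> cases j
  · exact szcs_vec_pair_same D hC2 hD5 hD8 hT9 false l l' hl hl'
      (fun h => hvw (szcs_vec_congr D false l l' h))
  · exact szcs_vec_pair_cross D hC2 hD5 hD9 l l' hl hl'
  · rw [← szcs_vec_pair_cross D hC2 hD5 hD9 l' l hl' hl]
    exact Finset.sum_congr rfl (fun χ _ => mul_comm _ _)
  · exact szcs_vec_pair_same D hC2 hD5 hD8 hT9 true l l' hl hl'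
      (fun h => hvw (szcs_vec_congr D true l l' h))

end

end Cfsg.Agent.Lib.Helper10.SZC
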