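import Cfsg.Agent.Lib.Helper18.SZCSlib

/-!
# SZC rows S4 (`V_card`), S5 (`V_cusp`), S6 (`sumNI_V`): cores
-/

set_option autoImplicit false
open scoped ComplexConjugate

namespace Cfsg.Agent.Lib.Helper10.SZC

section
variable {G : Type*} [Group G] [Fintype G]
variable {q r : ℕ}

/-- the fibre of `l ↦ szcs_vec l` over `szcs_vec l₀` inside `{l ≠ 1}` has 4 elements -/
theorem szcs_fiber_card [Fintype (Cfsg.IrrCharacter G)] (D : SzcData G q r)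
    (hC2 : SzcsC2 G) (hD5 : SzcsD5 D) (hD8 : SzcsD8 D) (hT8 : SzcsT8 D) (hT9 : SzcsT9 D)
    (hT10 : SzcsT10 D) (i : Bool) [Fintype (↥(D.A i) →* ℂˣ)]
    [DecidableEq (↥(D.A i) →* ℂˣ)] [DecidableEq (Cfsg.IrrCharacter G → ℤ)]
    (l₀ : ↥(D.A i) →* ℂˣ) (hl₀ : l₀ ≠ 1) :
    ((Finset.univ.filter (fun l : ↥(D.A i) →* ℂˣ => l ≠ 1)).filter
      (fun l => szcs_vec D i l = szcs_vec D i l₀)).card = 4 := by
  classical
  rw [← hT10 i l₀ hl₀]
  symm
  apply Nat.subtype_card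
  intro l
  simp only [Finset.mem_filter, Finset.mem_univ, true_and]
  constructor
  · rintro ⟨hl, h⟩
    exact (szcs_vec_eq_iff D hC2 hD5 hD8 hT8 hT9 i l l₀ hl hl₀).mp h
  · intro h
    have hl := szcs_ne_one_of_phi_eq D hT8 i l₀ l hl₀ h
    exact ⟨hl, (szcs_vec_eq_iff D hC2 hD5 hD8 hT8 hT9 i l l₀ hl hl₀).mpr h⟩

/-- S4, first part -/
theorem szcs4_card_core (D : SzcData G q r)
    (hC2 : SzcsC2 G) (hD5 : SzcsD5 D) (hD8 : SzcsD8 D) (hT8 : SzcsT8 D) (hT9 : SzcsT9 D)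
    (hT10 : SzcsT10 D) (i : Bool) : 4 * (Vset D i).card = aN q r i - 1 := by
  classical
  letI : Fintype (↥(D.A i) →* ℂˣ) := Fintype.ofFinite _
  letI : Fintype (Cfsg.IrrCharacter G) := Fintype.ofFinite _
  rw [szcs_Vset_eq D i]
  have h1 := Finset.card_eq_sum_card_image (szcs_vec D i)
    (Finset.univ.filter (fun l : ↥(D.A i) →* ℂˣ => l ≠ 1))
  have h2 : ∀ b ∈ (Finset.univ.filter (fun l : ↥(D.A i) →* ℂˣ => l ≠ 1)).image (szcs_vec D i),
      ((Finset.univ.filter (fun l : ↥(D.A i) →* ℂˣ => l ≠ 1)).filter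
        (fun l => szcs_vec D i l = b)).card = 4 := by
    intro b hb
    obtain ⟨l₀, hl₀, rfl⟩ := Finset.mem_image.mp hb
    have hl₀' : l₀ ≠ 1 := (Finset.mem_filter.mp hl₀).2
    exact szcs_fiber_card D hC2 hD5 hD8 hT8 hT9 hT10 i l₀ hl₀'
  rw [Finset.sum_congr rfl h2, Finset.sum_const, smul_eq_mul] at h1
  have h3 : (Finset.univ.filter (fun l : ↥(D.A i) →* ℂˣ => l ≠ 1)).card =
      Fintype.card (↥(D.A i) →* ℂˣ) - 1 := by
    rw [Finset.filter_ne' Finset.univ (1 : ↥(D.A i) →* ℂˣ),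
      Finset.card_erase_of_mem (Finset.mem_univ _), Finset.card_univ]
  have h4 : Fintype.card (↥(D.A i) →* ℂˣ) = aN q r i := by
    rw [← Nat.card_eq_fintype_card, Cfsg.Agent.Lib.Helper29.afd_card_dual
      (fun a b : ↥(D.A i) => Subtype.ext ((D.tor i).comm a a.2 b b.2)), D.card_A i]
  rw [h3, h4] at h1
  omega

/-- S4, disjointness -/
theorem szcs4_disj_core (D : SzcData G q r)
    (hC2 : SzcsC2 G) (hD5 : SzcsD5 D) (hD8 : SzcsD8 D) (hD9 : SzcsD9 D) (hT8 : SzcsT8 D) :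
    Disjoint (Vset D false) (Vset D true) := by
  classical
  letI : Fintype (Cfsg.IrrCharacter G) := Fintype.ofFinite _
  rw [Finset.disjoint_left]
  intro v hv hv'
  obtain ⟨l, hl, rfl⟩ := (szcs_mem D false v).mp hv
  obtain ⟨l', hl', h⟩ := (szcs_mem D true _).mp hv'
  have h3 := szcs_vec_norm D hC2 hD5 hD8 hT8 false l hl
  have h2 := szcs_vec_pair_cross D hC2 hD5 hD9 l l' hl hl'
  rw [← h] at h2
  omega

/-- S4 core -/
theorem szcs4_core (D : SzcData G q r)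
    (hC2 : SzcsC2 G) (hD5 : SzcsD5 D) (hD8 : SzcsD8 D) (hD9 : SzcsD9 D) (hT8 : SzcsT8 D)
    (hT9 : SzcsT9 D) (hT10 : SzcsT10 D) (hA1 : SzcsA1 q r) (i : Bool) :
    4 * (Vset D i).card = aN q r i - 1 ∧ Disjoint (Vset D false) (Vset D true) ∧
    (Vall D).card = q / 2 := by
  classical
  have hd := szcs4_disj_core D hC2 hD5 hD8 hD9 hT8
  refine ⟨szcs4_card_core D hC2 hD5 hD8 hT8 hT9 hT10 i, hd, ?_⟩
  have hf := szcs4_card_core D hC2 hD5 hD8 hT8 hT9 hT10 false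
  have ht := szcs4_card_core D hC2 hD5 hD8 hT8 hT9 hT10 true
  obtain ⟨-, -, -, -, -, -, -, -, -, h10, -⟩ := hA1
  have hu : (Vall D).card = (Vset D false).card + (Vset D true).card := by
    unfold Vall
    convert Finset.card_union_of_disjoint hd
  rw [hu]
  omega

/-- S5 core -/
theorem szcs5_core (D : SzcData G q r) (hC1 : SzcsC1 G) (hD5 : SzcsD5 D) (hD6 : SzcsD6 D)
    (v : Cfsg.IrrCharacter G → ℤ) (hv : v ∈ Vall D)
    (χ : Cfsg.IrrCharacter G) (hχ : v χ ≠ 0) : Cusp D.Q (χ : G → ℂ) := by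
  by_contra hnc
  obtain ⟨i, l, hl, rfl⟩ := (szcs_mem_Vall D v).mp hv
  apply hχ
  have h1 := (hC1 _ (hD5 i l) χ).2
  rw [hD6 i l hl χ hnc] at h1
  have h0 : coef (Psi D.H (D.A i) l) χ = 0 := by exact_mod_cast h1
  simp [szcs_vec, h0]

/-- S6 core -/
theorem szcs6_core (D : SzcData G q r)
    (hC1 : SzcsC1 G) (hC2 : SzcsC2 G) (hD5 : SzcsD5 D) (hD7 : SzcsD7 D) (hD8 : SzcsD8 D)
    (hT5 : SzcsT5 D) (hT8 : SzcsT8 D) (hT9 : SzcsT9 D) (hT10 : SzcsT10 D)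
    (i : Bool) (χ : Cfsg.IrrCharacter G) (hχ : Cusp D.Q (χ : G → ℂ)) :
    sumNI (D.A i) (χ : G → ℂ) = ((sgn i * 4 * ∑ v ∈ Vset D i, v χ : ℤ) : ℂ) := by
  classical
  let inst : Fintype (↥(D.A i) →* ℂˣ) := Fintype.ofFinite _
  letI : Fintype (Cfsg.IrrCharacter G) := Fintype.ofFinite _
  rw [← hT5 i inst (χ : G → ℂ) (Cfsg.Agent.Lib.helper7.h7_irr_isClassFunction χ.2)]
  have hterm : ∀ l : ↥(D.A i) →* ℂˣ, Cfsg.classInner (χ : G → ℂ) (phi (D.A i) l) =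
      if l ≠ 1 then ((sgn i * szcs_vec D i l χ : ℤ) : ℂ) else 0 := by
    intro l
    split_ifs with hl
    · rw [← hD7 i l χ hχ, ← (hC1 _ (hD5 i l) χ).2]
      congr 1
      simp only [szcs_vec]
      rw [← mul_assoc, szcs_sgn_mul_self, one_mul]
    · rw [not_not.mp hl, szct10_phi_one_eq_zero]
      simp [Cfsg.classInner]
  rw [Finset.sum_congr rfl (fun l _ => hterm l), ← Finset.sum_filter, ← Int.cast_sum]
  congr 1
  rw [szcs_Vset_eq D i]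
  rw [Finset.sum_comp (fun v : Cfsg.IrrCharacter G → ℤ => sgn i * v χ) (szcs_vec D i)]
  rw [Finset.mul_sum]
  apply Finset.sum_congr rfl
  intro b hb
  obtain ⟨l₀, hl₀, rfl⟩ := Finset.mem_image.mp hb
  have hl₀' : l₀ ≠ 1 := (Finset.mem_filter.mp hl₀).2
  rw [szcs_fiber_card D hC2 hD5 hD8 hT8 hT9 hT10 i l₀ hl₀']
  simp only [nsmul_eq_mul]
  push_cast
  ring

end

end Cfsg.Agent.Lib.Helper10.SZC
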