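import Cfsg.Agent.Lib.Helper18.SZCSlib

/-!
# SZC rows S7 (`degree_shape1`), S8 (`exists_shape1`), S9 (`no_shape2`): cores
-/

set_option autoImplicit false
open scoped ComplexConjugate

namespace Cfsg.Agent.Lib.Helper10.SZC

section
variable {G : Type*} [Group G] [Fintype G]
variable {q r : ℕ}

/-- statement of S4 `V_card` -/
def SzcsS4 (D : SzcData G q r) : Prop :=
  ∀ i : Bool, 4 * (Vset D i).card = aN q r i - 1 ∧ Disjoint (Vset D false) (Vset D true) ∧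
    (Vall D).card = q / 2

/-- statement of S5 `V_cusp` -/
def SzcsS5 (D : SzcData G q r) : Prop :=
  ∀ v : Cfsg.IrrCharacter G → ℤ, v ∈ Vall D → ∀ χ : Cfsg.IrrCharacter G, v χ ≠ 0 →
    Cusp D.Q (χ : G → ℂ)

/-- statement of S6 `sumNI_V` -/
def SzcsS6 (D : SzcData G q r) : Prop :=
  ∀ (i : Bool) (χ : Cfsg.IrrCharacter G), Cusp D.Q (χ : G → ℂ) →
    sumNI (D.A i) (χ : G → ℂ) = ((sgn i * 4 * ∑ v ∈ Vset D i, v χ : ℤ) : ℂ)

/-- statement of S7 `degree_shape1` (for the given `Fintype` instance) -/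
def SzcsS7 [Fintype (Cfsg.IrrCharacter G)] (D : SzcData G q r) : Prop :=
  ∀ (R : Cfsg.IrrCharacter G → ℤ) (pt : (Cfsg.IrrCharacter G → ℤ) → Cfsg.IrrCharacter G)
    (sg : (Cfsg.IrrCharacter G → ℤ) → ℤ),
    (∑ χ, R χ * R χ = 2) →
    (∀ v ∈ Vall D, (sg v = 1 ∨ sg v = -1) ∧ R (pt v) = 0 ∧ v (pt v) = sg v ∧
      ∀ χ, χ ≠ pt v → v χ = R χ) →
    (∀ v ∈ Vall D, ∀ w ∈ Vall D, pt v = pt w → v = w) →
    ∀ χ : Cfsg.IrrCharacter G, Cusp D.Q (χ : G → ℂ) →
    (R χ = 1 ∧ (∀ v ∈ Vall D, pt v ≠ χ) ∧ (χ : G → ℂ) 1 = (((q - 1) * (r / 2) : ℕ) : ℂ)) ∨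
    (R χ = 0 ∧ (∃ v ∈ Vset D false, pt v = χ) ∧
      (χ : G → ℂ) 1 = (((q - 1) * aN q r true : ℕ) : ℂ)) ∨
    (R χ = 0 ∧ (∃ v ∈ Vset D true, pt v = χ) ∧
      (χ : G → ℂ) 1 = (((q - 1) * aN q r false : ℕ) : ℂ))

theorem szcs_mem_Vall_iff (D : SzcData G q r) (v : Cfsg.IrrCharacter G → ℤ) :
    v ∈ Vall D ↔ v ∈ Vset D false ∨ v ∈ Vset D true := by
  classical
  unfold Vall
  exact Finset.mem_union

/-- the degree of a cuspidal character as an integer combination of the coefficient sums -/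
theorem szcs_degree_int (D : SzcData G q r) (hF3 : SzcsF3 D) (hS6 : SzcsS6 D)
    (χ : Cfsg.IrrCharacter G) (hχ : Cusp D.Q (χ : G → ℂ)) (n : ℕ)
    (hn : (χ : G → ℂ) 1 = (n : ℂ)) :
    (n : ℤ) = ((q - 1 : ℕ) : ℤ) * ((aN q r true : ℤ) * ∑ v ∈ Vset D false, v χ -
      (aN q r false : ℤ) * ∑ v ∈ Vset D true, v χ) := by
  have h := hF3 χ hχ
  rw [hS6 false χ hχ, hS6 true χ hχ, hn, szcs_sgn_false, szcs_sgn_true] at h
  have h' : ((4 * (n : ℤ) : ℤ) : ℂ) = ((4 * (((q - 1 : ℕ) : ℤ) *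
      ((aN q r true : ℤ) * ∑ v ∈ Vset D false, v χ -
      (aN q r false : ℤ) * ∑ v ∈ Vset D true, v χ)) : ℤ) : ℂ) := by
    push_cast at h ⊢
    linear_combination h
  have h'' := Int.cast_injective h'
  omega

/-- S7 core -/
theorem szcs7_core [Fintype (Cfsg.IrrCharacter G)] (D : SzcData G q r)
    (hF3 : SzcsF3 D) (hS4 : SzcsS4 D) (hS6 : SzcsS6 D) (hA1 : SzcsA1 q r) : SzcsS7 D := by
  classical
  intro R pt sg hR hV hinj χ hχ
  obtain ⟨n, hn0, hn1, -⟩ := Cfsg.Agent.Lib.helper2.irr_degree_dvd_card χ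
  have hdeg := szcs_degree_int D hF3 hS6 χ hχ n hn1
  obtain ⟨hcf, hdisj, -⟩ := hS4 false
  obtain ⟨hct, -, -⟩ := hS4 true
  obtain ⟨hre, -, hr4, hrq, -, -, -, -, h5, -, haf⟩ := hA1
  have hq := D.hq
  have h5f := h5 false
  have h5t := h5 true
  have hK : (0 : ℤ) ≤ ((q - 1 : ℕ) : ℤ) := Int.natCast_nonneg _
  have hat0 : (0 : ℤ) ≤ (aN q r true : ℤ) := Int.natCast_nonneg _
  have haf0 : (0 : ℤ) ≤ (aN q r false : ℤ) := Int.natCast_nonneg _
  have hmemf : ∀ v ∈ Vset D false, v ∈ Vall D := fun v hv =>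
    (szcs_mem_Vall_iff D v).mpr (Or.inl hv)
  have hmemt : ∀ v ∈ Vset D true, v ∈ Vall D := fun v hv =>
    (szcs_mem_Vall_iff D v).mpr (Or.inr hv)
  by_cases hpt : ∃ v ∈ Vall D, pt v = χ
  · obtain ⟨v₀, hv₀, hpv⟩ := hpt
    obtain ⟨hsg, hR0, hv0, -⟩ := hV v₀ hv₀
    have hRχ : R χ = 0 := by rw [← hpv]; exact hR0
    have hv₀χ : v₀ χ = sg v₀ := by rw [← hpv]; exact hv0
    have hother : ∀ v ∈ Vall D, v ≠ v₀ → v χ = 0 := by
      intro v hv hne
      have hp : pt v ≠ χ := fun h => hne (hinj v hv v₀ hv₀ (h.trans hpv.symm))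
      rw [(hV v hv).2.2.2 χ (Ne.symm hp), hRχ]
    rcases (szcs_mem_Vall_iff D v₀).mp hv₀ with hf | ht
    · right; left
      have hSf : ∑ v ∈ Vset D false, v χ = sg v₀ := by
        rw [Finset.sum_eq_single_of_mem v₀ hf (fun v hv hne => hother v (hmemf v hv) hne), hv₀χ]
      have hSt : ∑ v ∈ Vset D true, v χ = 0 := by
        apply Finset.sum_eq_zero
        intro v hv
        exact hother v (hmemt v hv) (by rintro rfl; exact Finset.disjoint_left.mp hdisj hf hv)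
      rw [hSf, hSt] at hdeg
      refine ⟨hRχ, ⟨v₀, hf, hpv⟩, ?_⟩
      rw [hn1]
      rcases hsg with h1 | h1
      · rw [h1] at hdeg
        have h2 : (n : ℤ) = (((q - 1) * aN q r true : ℕ) : ℤ) := by
          rw [hdeg]; push_cast; ring
        exact_mod_cast h2
      · exfalso
        rw [h1] at hdeg
        have h2 : (0 : ℤ) ≤ ((q - 1 : ℕ) : ℤ) * (aN q r true : ℤ) := mul_nonneg hK hat0
        have h3 : (n : ℤ) = -(((q - 1 : ℕ) : ℤ) * (aN q r true : ℤ)) := by rw [hdeg]; ring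
        omega
    · right; right
      have hSt : ∑ v ∈ Vset D true, v χ = sg v₀ := by
        rw [Finset.sum_eq_single_of_mem v₀ ht (fun v hv hne => hother v (hmemt v hv) hne), hv₀χ]
      have hSf : ∑ v ∈ Vset D false, v χ = 0 := by
        apply Finset.sum_eq_zero
        intro v hv
        exact hother v (hmemf v hv) (by rintro rfl; exact Finset.disjoint_left.mp hdisj hv ht)
      rw [hSf, hSt] at hdeg
      refine ⟨hRχ, ⟨v₀, ht, hpv⟩, ?_⟩
      rw [hn1]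
      rcases hsg with h1 | h1
      · exfalso
        rw [h1] at hdeg
        have h2 : (0 : ℤ) ≤ ((q - 1 : ℕ) : ℤ) * (aN q r false : ℤ) := mul_nonneg hK haf0
        have h3 : (n : ℤ) = -(((q - 1 : ℕ) : ℤ) * (aN q r false : ℤ)) := by rw [hdeg]; ring
        omega
      · rw [h1] at hdeg
        have h2 : (n : ℤ) = (((q - 1) * aN q r false : ℕ) : ℤ) := by
          rw [hdeg]; push_cast; ring
        exact_mod_cast h2
  · left
    have hpt' : ∀ v ∈ Vall D, pt v ≠ χ := fun v hv h => hpt ⟨v, hv, h⟩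
    have hall : ∀ v ∈ Vall D, v χ = R χ := fun v hv => (hV v hv).2.2.2 χ (Ne.symm (hpt' v hv))
    have hSf : ∑ v ∈ Vset D false, v χ = ((Vset D false).card : ℤ) * R χ := by
      rw [Finset.sum_congr rfl (fun v hv => hall v (hmemf v hv)), Finset.sum_const, nsmul_eq_mul]
    have hSt : ∑ v ∈ Vset D true, v χ = ((Vset D true).card : ℤ) * R χ := by
      rw [Finset.sum_congr rfl (fun v hv => hall v (hmemt v hv)), Finset.sum_const, nsmul_eq_mul]
    have hR2 : R χ * R χ ≤ 2 := by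
      rw [← hR]
      exact Finset.single_le_sum (f := fun χ => R χ * R χ) (fun i _ => mul_self_nonneg _)
        (Finset.mem_univ χ)
    obtain ⟨s, hs⟩ := hre
    have e1 : (aN q r false : ℤ) = 4 * ((Vset D false).card : ℤ) + 1 := by
      have : aN q r false = 4 * (Vset D false).card + 1 := by omega
      exact_mod_cast this
    have e2 : (aN q r true : ℤ) = 4 * ((Vset D true).card : ℤ) + 1 := by
      have : aN q r true = 4 * (Vset D true).card + 1 := by omega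
      exact_mod_cast this
    have e3 : ((Vset D false).card : ℤ) = ((Vset D true).card : ℤ) + (s : ℤ) := by
      have : (Vset D false).card = (Vset D true).card + s := by omega
      exact_mod_cast this
    have hn' : (n : ℤ) = ((q - 1 : ℕ) : ℤ) * (R χ * (s : ℤ)) := by
      rw [hdeg, hSf, hSt, e1, e2, e3]; ring
    have hlo : -1 ≤ R χ := by nlinarith
    have hhi : R χ ≤ 1 := by nlinarith
    have hs0 : (0 : ℤ) ≤ (s : ℤ) := Int.natCast_nonneg _
    have hn0' : (0 : ℤ) < (n : ℤ) := by exact_mod_cast hn0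
    have hρ : R χ = 1 := by
      generalize R χ = ρ at *
      interval_cases ρ
      · exfalso
        have : (0 : ℤ) ≤ ((q - 1 : ℕ) : ℤ) * (s : ℤ) := mul_nonneg hK hs0
        have h3 : (n : ℤ) = -(((q - 1 : ℕ) : ℤ) * (s : ℤ)) := by rw [hn']; ring
        omega
      · exfalso
        rw [hn'] at hn0'
        simp at hn0'
      · rfl
    refine ⟨hρ, hpt', ?_⟩
    rw [hn1]
    rw [hρ] at hn'
    have hrs : r / 2 = s := by omega
    rw [hrs]
    have h2 : (n : ℤ) = (((q - 1) * s : ℕ) : ℤ) := by rw [hn']; push_cast; ring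
    exact_mod_cast h2

/-- S8 core -/
theorem szcs8_core [Fintype (Cfsg.IrrCharacter G)] (D : SzcData G q r)
    (hS4 : SzcsS4 D) (hS5 : SzcsS5 D) (hS7 : SzcsS7 D) (hA1 : SzcsA1 q r)
    (h1 : Shape1 (Vall D)) :
    (∀ χ : Cfsg.IrrCharacter G, Cusp D.Q (χ : G → ℂ) →
      (χ : G → ℂ) 1 = (((q - 1) * (r / 2) : ℕ) : ℂ) ∨
      (χ : G → ℂ) 1 = (((q - 1) * aN q r true : ℕ) : ℂ) ∨
      (χ : G → ℂ) 1 = (((q - 1) * aN q r false : ℕ) : ℂ)) ∧
    (∃ χ : Cfsg.IrrCharacter G, (χ : G → ℂ) 1 = (((q - 1) * (r / 2) : ℕ) : ℂ)) ∧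
    (∃ χ : Cfsg.IrrCharacter G, (χ : G → ℂ) 1 = (((q - 1) * aN q r true : ℕ) : ℂ)) ∧
    (∃ χ : Cfsg.IrrCharacter G, (χ : G → ℂ) 1 = (((q - 1) * aN q r false : ℕ) : ℂ)) := by
  classical
  obtain ⟨R, pt, sg, hR, hV, hinj⟩ := h1
  have h7 := hS7 R pt sg hR hV hinj
  obtain ⟨hcf, hdisj, -⟩ := hS4 false
  obtain ⟨hct, -, -⟩ := hS4 true
  obtain ⟨-, -, -, -, -, -, -, -, h5, -, -⟩ := hA1
  have h5f := h5 false
  have h5t := h5 true
  have hnf : (Vset D false).Nonempty := by rw [← Finset.card_pos]; omega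
  have hnt : (Vset D true).Nonempty := by rw [← Finset.card_pos]; omega
  obtain ⟨vf, hvf⟩ := hnf
  obtain ⟨vt, hvt⟩ := hnt
  have hvf' : vf ∈ Vall D := (szcs_mem_Vall_iff D vf).mpr (Or.inl hvf)
  have hvt' : vt ∈ Vall D := (szcs_mem_Vall_iff D vt).mpr (Or.inr hvt)
  refine ⟨?_, ?_, ?_, ?_⟩
  · intro χ hχ
    rcases h7 χ hχ with ⟨-, -, h⟩ | ⟨-, -, h⟩ | ⟨-, -, h⟩
    · exact Or.inl h
    · exact Or.inr (Or.inl h)
    · exact Or.inr (Or.inr h)
  · have hex : ∃ χ₀, R χ₀ ≠ 0 := by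
      by_contra hne
      have hne' : ∀ χ, R χ = 0 := fun χ => not_not.mp (fun h => hne ⟨χ, h⟩)
      rw [Finset.sum_eq_zero (fun χ _ => by rw [hne' χ]; ring)] at hR
      norm_num at hR
    obtain ⟨χ₀, hχ₀⟩ := hex
    obtain ⟨-, hR0, -, hvR⟩ := hV vf hvf'
    have hne : χ₀ ≠ pt vf := by rintro rfl; exact hχ₀ hR0
    have hc : Cusp D.Q (χ₀ : G → ℂ) := hS5 vf hvf' χ₀ (by rw [hvR χ₀ hne]; exact hχ₀)
    rcases h7 χ₀ hc with ⟨-, -, h⟩ | ⟨h0, -, -⟩ | ⟨h0, -, -⟩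
    · exact ⟨χ₀, h⟩
    · exact absurd h0 hχ₀
    · exact absurd h0 hχ₀
  · obtain ⟨hsg, -, hv0, -⟩ := hV vf hvf'
    have hc : Cusp D.Q ((pt vf : Cfsg.IrrCharacter G) : G → ℂ) :=
      hS5 vf hvf' (pt vf) (by rw [hv0]; rcases hsg with h | h <;> rw [h] <;> norm_num)
    rcases h7 (pt vf) hc with ⟨-, hno, -⟩ | ⟨-, -, h⟩ | ⟨-, ⟨w, hw, hpw⟩, -⟩
    · exact absurd rfl (hno vf hvf')
    · exact ⟨pt vf, h⟩
    · exfalso
      have hwv : w = vf := hinj w ((szcs_mem_Vall_iff D w).mpr (Or.inr hw)) vf hvf' hpw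
      subst hwv
      exact Finset.disjoint_left.mp hdisj hvf hw
  · obtain ⟨hsg, -, hv0, -⟩ := hV vt hvt'
    have hc : Cusp D.Q ((pt vt : Cfsg.IrrCharacter G) : G → ℂ) :=
      hS5 vt hvt' (pt vt) (by rw [hv0]; rcases hsg with h | h <;> rw [h] <;> norm_num)
    rcases h7 (pt vt) hc with ⟨-, hno, -⟩ | ⟨-, ⟨w, hw, hpw⟩, -⟩ | ⟨-, -, h⟩
    · exact absurd rfl (hno vt hvt')
    · exfalso
      have hwv : w = vt := hinj w ((szcs_mem_Vall_iff D w).mpr (Or.inl hw)) vt hvt' hpw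
      subst hwv
      exact Finset.disjoint_left.mp hdisj hw hvt
    · exact ⟨pt vt, h⟩

/-- S9 core -/
theorem szcs9_core [Fintype (Cfsg.IrrCharacter G)] (D : SzcData G q r)
    (hF3 : SzcsF3 D) (hS4 : SzcsS4 D) (hS5 : SzcsS5 D) (hS6 : SzcsS6 D)
    (h4 : (Vall D).card = 4) : ¬ Shape2 (Vall D) := by
  classical
  rintro ⟨x, e, vv, hx, he, hvv, hmem, hzero, hone, hout⟩
  obtain ⟨hcf, hdisj, hcard⟩ := hS4 false
  obtain ⟨hct, -, -⟩ := hS4 true
  have hq := D.hq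
  have hr := D.hr
  rw [h4] at hcard
  have hq8 : q = 8 := by
    have h89 : q = 8 ∨ q = 9 := by omega
    rcases h89 with h | h
    · exact h
    · exfalso
      rw [h] at hr
      have h45 : r ≤ 4 ∨ 5 ≤ r := by omega
      rcases h45 with h' | h' <;> nlinarith
  subst hq8
  have hr4 : r = 4 := by nlinarith
  subst hr4
  have haf : aN 8 4 false = 13 := by simp [aN]
  have hat : aN 8 4 true = 5 := by simp [aN]
  rw [haf] at hcf
  rw [hat] at hct
  have hcf3 : (Vset D false).card = 3 := by omega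
  have hct1 : (Vset D true).card = 1 := by omega
  obtain ⟨w, hw⟩ := Finset.card_eq_one.mp hct1
  have hwt : w ∈ Vset D true := by rw [hw]; exact Finset.mem_singleton_self w
  have hwall : w ∈ Vall D := (szcs_mem_Vall_iff D w).mpr (Or.inr hwt)
  obtain ⟨k₀, hk₀⟩ := (hmem w).mp hwall
  have hvalf : ∀ v ∈ Vset D false, v (x k₀) = e k₀ := by
    intro v hv
    obtain ⟨k, hk⟩ := (hmem v).mp ((szcs_mem_Vall_iff D v).mpr (Or.inl hv))
    have hkk : k₀ ≠ k := by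
      rintro rfl
      have hvw : v = w := by rw [hk, hk₀]
      subst hvw
      exact Finset.disjoint_left.mp hdisj hv hwt
    rw [hk]
    exact hone k k₀ hkk
  have hSf : ∑ v ∈ Vset D false, v (x k₀) = 3 * e k₀ := by
    rw [Finset.sum_congr rfl hvalf, Finset.sum_const, hcf3]
    simp
  have hSt : ∑ v ∈ Vset D true, v (x k₀) = 0 := by
    rw [hw, Finset.sum_singleton, hk₀]
    exact hzero k₀
  have hek : e k₀ ≠ 0 := by rcases he k₀ with h | h <;> rw [h] <;> norm_num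
  obtain ⟨vf, hvf⟩ : (Vset D false).Nonempty := by rw [← Finset.card_pos]; omega
  have hc : Cusp D.Q ((x k₀ : Cfsg.IrrCharacter G) : G → ℂ) :=
    hS5 vf ((szcs_mem_Vall_iff D vf).mpr (Or.inl hvf)) (x k₀) (by rw [hvalf vf hvf]; exact hek)
  obtain ⟨n, hn0, hn1, hdvd⟩ := Cfsg.Agent.Lib.helper2.irr_degree_dvd_card (x k₀)
  have hdeg := szcs_degree_int D hF3 hS6 (x k₀) hc n hn1
  rw [hSf, hSt, hat, haf] at hdeg
  rw [D.card_G] at hdvd
  rcases he k₀ with h | h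
  · rw [h] at hdeg
    have hn : n = 105 := by
      norm_num at hdeg
      exact_mod_cast hdeg
    subst hn
    norm_num at hdvd
  · rw [h] at hdeg
    norm_num at hdeg
    omega

end

end Cfsg.Agent.Lib.Helper10.SZC
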