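import Mathlib
import Cfsg.Agent.Lib.Helper10.TEM.Defs
import Cfsg.Agent.Lib.Helper18.TEMA4

/-!
# Project TEM = S2191 (designer helper10), row A5 (helper18), CORE of `iso_comm`:
`tema5_core` with the STATEMENTS of the cited rows C2 `comm_pairs`, C3 `norm_of_terms`, C5 `Q_comm`, P3 `one_rat`, G3 `X_mem_G1` `XS_mem_G1`,
R2 `rat_X` as hypotheses (A4 = `Helper18.TEMA4`).
-/

set_option autoImplicit false

namespace Cfsg.Agent.Lib.Helper10.TEM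

open Cfsg.Lie Cfsg.Lie.ChevalleyDatum Matrix
open Cfsg.Agent.Lib.helper8

universe u

variable {K : Type u} [Field K] {q : ℕ} {f : K ≃+* K} {M H : Subgroup (GG K)}

/-- peel a left factor commuting with `x` -/
theorem tema5_La {G : Type*} [Group G] {A x : G} (hA : Commute A x) (g : G) :
    (A * g) * x * (A * g)⁻¹ * x⁻¹ = A * (g * x * g⁻¹ * x⁻¹) * A⁻¹ := by
  have h1 : A⁻¹ * x⁻¹ = x⁻¹ * A⁻¹ := (hA.inv_left.inv_right).eq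
  calc (A * g) * x * (A * g)⁻¹ * x⁻¹ = A * g * x * g⁻¹ * (A⁻¹ * x⁻¹) := by group
    _ = A * g * x * g⁻¹ * (x⁻¹ * A⁻¹) := by rw [h1]
    _ = A * (g * x * g⁻¹ * x⁻¹) * A⁻¹ := by group

/-- peel a right factor commuting with `x` -/
theorem tema5_Lb {G : Type*} [Group G] {B x : G} (hB : Commute B x) (g : G) :
    (g * B) * x * (g * B)⁻¹ * x⁻¹ = g * x * g⁻¹ * x⁻¹ := by
  calc (g * B) * x * (g * B)⁻¹ * x⁻¹ = g * (B * x) * B⁻¹ * g⁻¹ * x⁻¹ := by group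
    _ = g * (x * B) * B⁻¹ * g⁻¹ * x⁻¹ := by rw [hB.eq]
    _ = g * x * g⁻¹ * x⁻¹ := by group

/-- the commutator of a product of six factors, exactly one of which does not commute with `x` -/
theorem tema5_phiQS {G : Type*} [Group G] (x : G) (S : ℕ → G) (j : ℕ) (hj : j ∈ [48, 49, 52, 54, 55, 66])
    (hc : ∀ r2 ∈ [48, 49, 52, 54, 55, 66], r2 ≠ j → Commute (S r2) x)
    (Q : Subgroup G) (hQ : ∀ r2 ∈ [48, 49, 52, 54, 55, 66], S r2 ∈ Q) :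
    ∃ A ∈ Q, (S 48 * S 49 * S 52 * S 54 * S 55 * S 66) * x * (S 48 * S 49 * S 52 * S 54 * S 55 * S 66)⁻¹ * x⁻¹ =
      A * (S j * x * (S j)⁻¹ * x⁻¹) * A⁻¹ := by
  have m48 : S 48 ∈ Q := hQ 48 (by simp)
  have m49 : S 49 ∈ Q := hQ 49 (by simp)
  have m52 : S 52 ∈ Q := hQ 52 (by simp)
  have m54 : S 54 ∈ Q := hQ 54 (by simp)
  have m55 : S 55 ∈ Q := hQ 55 (by simp)
  simp only [List.mem_cons, List.not_mem_nil, or_false] at hj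
  rcases hj with rfl | rfl | rfl | rfl | rfl | rfl
  · refine ⟨1, one_mem _, ?_⟩
    rw [tema5_Lb (hc 66 (by simp) (by norm_num)), tema5_Lb (hc 55 (by simp) (by norm_num)),
      tema5_Lb (hc 54 (by simp) (by norm_num)), tema5_Lb (hc 52 (by simp) (by norm_num)),
      tema5_Lb (hc 49 (by simp) (by norm_num))]
    group
  · refine ⟨S 48, m48, ?_⟩
    rw [tema5_Lb (hc 66 (by simp) (by norm_num)), tema5_Lb (hc 55 (by simp) (by norm_num)),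
      tema5_Lb (hc 54 (by simp) (by norm_num)), tema5_Lb (hc 52 (by simp) (by norm_num)),
      tema5_La (hc 48 (by simp) (by norm_num))]
  · refine ⟨S 48 * S 49, mul_mem m48 m49, ?_⟩
    rw [tema5_Lb (hc 66 (by simp) (by norm_num)), tema5_Lb (hc 55 (by simp) (by norm_num)),
      tema5_Lb (hc 54 (by simp) (by norm_num)),
      tema5_La ((hc 48 (by simp) (by norm_num)).mul_left (hc 49 (by simp) (by norm_num)))]
  · refine ⟨S 48 * S 49 * S 52, mul_mem (mul_mem m48 m49) m52, ?_⟩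
    rw [tema5_Lb (hc 66 (by simp) (by norm_num)), tema5_Lb (hc 55 (by simp) (by norm_num)),
      tema5_La (((hc 48 (by simp) (by norm_num)).mul_left (hc 49 (by simp) (by norm_num))).mul_left
        (hc 52 (by simp) (by norm_num)))]
  · refine ⟨S 48 * S 49 * S 52 * S 54, mul_mem (mul_mem (mul_mem m48 m49) m52) m54, ?_⟩
    rw [tema5_Lb (hc 66 (by simp) (by norm_num)),
      tema5_La ((((hc 48 (by simp) (by norm_num)).mul_left (hc 49 (by simp) (by norm_num))).mul_left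
        (hc 52 (by simp) (by norm_num))).mul_left (hc 54 (by simp) (by norm_num)))]
  · refine ⟨S 48 * S 49 * S 52 * S 54 * S 55, mul_mem (mul_mem (mul_mem (mul_mem m48 m49) m52) m54) m55, ?_⟩
    rw [tema5_La (((((hc 48 (by simp) (by norm_num)).mul_left (hc 49 (by simp) (by norm_num))).mul_left
        (hc 52 (by simp) (by norm_num))).mul_left (hc 54 (by simp) (by norm_num))).mul_left
        (hc 55 (by simp) (by norm_num)))]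

/-- the last step: modulo the central subgroup `Zc` -/
theorem tema5_fin {G : Type*} [Group G] (Q Zc : Subgroup G) (x : G)
    (hZc : ∀ z ∈ Zc, ∀ g ∈ Q, Commute g z)
    (hcomm : ∀ g ∈ Q, ∀ h ∈ Q, g * h * g⁻¹ * h⁻¹ ∈ Zc)
    {g ℓ A s z' : G} (hg : g ∈ Q) (hℓ : ℓ ∈ Q) (hA : A ∈ Q) (hs : s ∈ Q) (hz' : z' ∈ Zc) (hz'Q : z' ∈ Q)
    (hnorm : x * ℓ⁻¹ * x⁻¹ ∈ Q)
    (hφ : g * x * g⁻¹ * x⁻¹ = A * (s * z') * A⁻¹) :
    ∃ z ∈ Zc, (g * ℓ) * x * (g * ℓ)⁻¹ * x⁻¹ = s * ((ℓ * x * ℓ⁻¹ * x⁻¹) * z) := by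
  obtain ⟨c, hc⟩ : ∃ c, c = ℓ * x * ℓ⁻¹ * x⁻¹ := ⟨_, rfl⟩
  have hcQ : c ∈ Q := by
    have : c = ℓ * (x * ℓ⁻¹ * x⁻¹) := by rw [hc]; group
    rw [this]
    exact mul_mem hℓ hnorm
  have hdQ : s * z' ∈ Q := mul_mem hs hz'Q
  have y0 : c⁻¹ * g * (c⁻¹)⁻¹ * g⁻¹ ∈ Zc := hcomm _ (inv_mem hcQ) _ hg
  have y1 : (s * z')⁻¹ * A * ((s * z')⁻¹)⁻¹ * A⁻¹ ∈ Zc := hcomm _ (inv_mem hdQ) _ hA
  have y2 : c⁻¹ * s⁻¹ * (c⁻¹)⁻¹ * (s⁻¹)⁻¹ ∈ Zc := hcomm _ (inv_mem hcQ) _ (inv_mem hs)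
  refine ⟨c⁻¹ * s⁻¹ * (c⁻¹)⁻¹ * (s⁻¹)⁻¹ * (c⁻¹ * g * (c⁻¹)⁻¹ * g⁻¹) * z' *
    ((s * z')⁻¹ * A * ((s * z')⁻¹)⁻¹ * A⁻¹), mul_mem (mul_mem (mul_mem y2 y0) hz') y1, ?_⟩
  have e1 : (g * ℓ) * x * (g * ℓ)⁻¹ * x⁻¹ = g * c * g⁻¹ * (g * x * g⁻¹ * x⁻¹) := by rw [hc]; group
  rw [e1, hφ, ← hc]
  have hcs := (hZc _ y0 s hs).eq
  calc g * c * g⁻¹ * (A * (s * z') * A⁻¹)
      = c * ((c⁻¹ * g * (c⁻¹)⁻¹ * g⁻¹) * s) * (z' * ((s * z')⁻¹ * A * ((s * z')⁻¹)⁻¹ * A⁻¹)) := by group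
    _ = c * (s * (c⁻¹ * g * (c⁻¹)⁻¹ * g⁻¹)) * (z' * ((s * z')⁻¹ * A * ((s * z')⁻¹)⁻¹ * A⁻¹)) := by rw [hcs]
    _ = s * (c * (c⁻¹ * s⁻¹ * (c⁻¹)⁻¹ * (s⁻¹)⁻¹ * (c⁻¹ * g * (c⁻¹)⁻¹ * g⁻¹) * z' *
          ((s * z')⁻¹ * A * ((s * z')⁻¹)⁻¹ * A⁻¹))) := by group

theorem tema5_X_mem {L : List ℕ} {r : ℕ} (hr : r ∈ L) (t : K) : X r t ∈ UPsi K L :=
  Subgroup.subset_closure ⟨r, hr, t, rfl⟩

theorem tema5_XS_mem {L : List ℕ} {r : ℕ} (hr : r ∈ L) (hs : h8sE6 r ∈ L) (t : K) : XS q r t ∈ UPsi K L :=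
  mul_mem (tema5_X_mem hr _) (tema5_X_mem hs _)

theorem tema5_six_data : ∀ r ∈ [48, 49, 52, 54, 55, 66], r ∈ Psi1 ∧ h8sE6 r ∈ Psi1 ∧ r < 72 ∧ h8sE6 r ≠ r := by
  decide +kernel

set_option synthInstance.maxSize 2048 in
theorem tema5_triple_data : ∀ x ∈ shortTriples, x.1 ∈ [48, 49, 52, 54, 55, 66] ∧ x.2.2 ∈ [48, 49, 52, 54, 55, 66] ∧
    x.2.1 < 72 ∧ h8sE6 x.2.1 = x.2.1 ∧
    ∀ r ∈ [x.2.1], ∀ s ∈ Psi1, r < 72 ∧ s < 72 ∧ s ≠ r ∧ s ≠ 71 - r ∧ ∀ c ∈ chevE6.commTerms r s, c.1 ∈ Psi1 := by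
  decide +kernel

/-- the core of A5 `iso_comm` -/
theorem tema5_core (hF : Frob q f) (hM : IsM q M)
    (hC2 : ∀ (L : List ℕ) (a : ℕ), (L, a) ∈ commPairs → ∀ g : GG K, g ∈ UPsi K L → ∀ c : K, Commute g (X a c))
    (hC3 : ∀ (L L' : List ℕ), (∀ r ∈ L, ∀ s ∈ L', r < 72 ∧ s < 72 ∧ s ≠ r ∧ s ≠ 71 - r ∧
      ∀ c ∈ chevE6.commTerms r s, c.1 ∈ L') → ∀ g : GG K, g ∈ UPsi K L → ∀ b : GG K, b ∈ UPsi K L' →
      g * b * g⁻¹ ∈ UPsi K L')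
    (hC5 : ∀ g : GG K, g ∈ UPsi K Psi1 → ∀ h : GG K, h ∈ UPsi K Psi1 → g * h * g⁻¹ * h⁻¹ ∈ UPsi K [71])
    (hP3 : ∀ r ∈ [39, 71, 32, 0], ∀ g : GG K, g ∈ UPsi K [r] ⊓ twistedE6 K q → Rat q g)
    (hG3a : ∀ r < 72, h8sE6 r = r → ∀ t : K, t ^ q = t → X r t ∈ twistedE6 K q)
    (hG3b : ∀ r < 72, h8sE6 r ≠ r → ∀ t : K, XS q r t ∈ twistedE6 K q)
    (hR2 : ∀ (r : ℕ) (t : K), t ^ q = t → Rat q (X r t))
    (t : ℕ → K) (ℓ : GG K) (hℓ : ℓ ∈ UPsi K Psi1)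
    (hℓM : ℓ ∈ M) (r a r' : ℕ) (h : (r, a, r') ∈ shortTriples) :
    ∃ ε : K, (ε = 1 ∨ ε = -1) ∧ ∃ m ∈ M,
      (QS q t * ℓ) * X a 1 * (QS q t * ℓ)⁻¹ * (X a 1)⁻¹ = XS q r' (ε * t r) * m := by
  obtain ⟨hr6, hr'6, ha, hσa, hnd⟩ := tema5_triple_data (r, a, r') h
  obtain ⟨ε, hε, hA4⟩ := XS_comm_a hF r a r' h
  obtain ⟨z0, hz0⟩ := hA4 (t r)
  refine ⟨ε, hε, ?_⟩
  -- the central subgroup
  have hZc : ∀ z ∈ UPsi K [71], ∀ g ∈ UPsi K Psi1, Commute g z := by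
    intro z hz g hg
    have hle : UPsi K [71] ≤ Subgroup.centralizer {g} := by
      unfold UPsi
      rw [Subgroup.closure_le]
      rintro y ⟨r0, hr0, c, rfl⟩
      simp only [List.mem_cons, List.not_mem_nil, or_false] at hr0
      subst hr0
      rw [SetLike.mem_coe, Subgroup.mem_centralizer_iff]
      intro k hk
      rw [Set.mem_singleton_iff] at hk
      subst hk
      exact (hC2 Psi1 71 (by decide) k hg c).eq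
    have := Subgroup.mem_centralizer_iff.mp (hle hz) g (Set.mem_singleton g)
    exact this
  have hZQ : UPsi K [71] ≤ UPsi K Psi1 := by
    unfold UPsi
    apply Subgroup.closure_mono
    rintro y ⟨r0, hr0, c, rfl⟩
    simp only [List.mem_cons, List.not_mem_nil, or_false] at hr0
    subst hr0
    exact ⟨71, by decide, c, rfl⟩
  -- memberships
  have hSQ : ∀ r2 ∈ [48, 49, 52, 54, 55, 66], XS q r2 (t r2) ∈ UPsi K Psi1 := fun r2 hr2 =>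
    tema5_XS_mem (tema5_six_data r2 hr2).1 (tema5_six_data r2 hr2).2.1 _
  have hSG : ∀ r2 ∈ [48, 49, 52, 54, 55, 66], ∀ u : K, XS q r2 u ∈ twistedE6 K q := fun r2 hr2 u =>
    hG3b r2 (tema5_six_data r2 hr2).2.2.1 (tema5_six_data r2 hr2).2.2.2 u
  have hQSQ : QS q t ∈ UPsi K Psi1 := by
    unfold QS
    exact mul_mem (mul_mem (mul_mem (mul_mem (mul_mem (hSQ 48 (by simp)) (hSQ 49 (by simp))) (hSQ 52 (by simp)))
      (hSQ 54 (by simp))) (hSQ 55 (by simp))) (hSQ 66 (by simp))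
  have hQSG : QS q t ∈ twistedE6 K q := by
    unfold QS
    exact mul_mem (mul_mem (mul_mem (mul_mem (mul_mem (hSG 48 (by simp) _) (hSG 49 (by simp) _)) (hSG 52 (by simp) _))
      (hSG 54 (by simp) _)) (hSG 55 (by simp) _)) (hSG 66 (by simp) _)
  have hxG : X a (1 : K) ∈ twistedE6 K q := hG3a a ha hσa 1 (one_pow q)
  have hxM : X a (1 : K) ∈ M := (hM _).mpr ⟨hxG, hR2 a 1 (one_pow q)⟩
  have hℓG : ℓ ∈ twistedE6 K q := ((hM _).mp hℓM).1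
  have hnorm : X a (1 : K) * ℓ⁻¹ * (X a (1 : K))⁻¹ ∈ UPsi K Psi1 :=
    hC3 [a] Psi1 hnd _ (tema5_X_mem (by simp) 1) _ (inv_mem hℓ)
  -- the commutator of `QS` with `x`
  obtain ⟨A, hAQ, hφ⟩ := tema5_phiQS (X a (1 : K)) (fun r2 => XS q r2 (t r2)) r hr6
    (fun r2 hr2 hne => XS_comm_other r a r' h r2 hr2 hne (t r2)) (UPsi K Psi1) hSQ
  have hφ' : QS q t * X a 1 * (QS q t)⁻¹ * (X a 1)⁻¹ = A * (XS q r' (ε * t r) * X 71 z0) * A⁻¹ := by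
    rw [← hz0]
    exact hφ
  have hsQ : XS q r' (ε * t r) ∈ UPsi K Psi1 :=
    tema5_XS_mem (tema5_six_data r' hr'6).1 (tema5_six_data r' hr'6).2.1 _
  have hz'Z : X 71 z0 ∈ UPsi K [71] := tema5_X_mem (by simp) z0
  obtain ⟨z, hzZ, hfin⟩ := tema5_fin (UPsi K Psi1) (UPsi K [71]) (X a (1 : K)) hZc hC5 hQSQ hℓ hAQ hsQ hz'Z
    (hZQ hz'Z) hnorm hφ'
  refine ⟨(ℓ * X a 1 * ℓ⁻¹ * (X a 1)⁻¹) * z, ?_, hfin⟩
  have hcM : ℓ * X a 1 * ℓ⁻¹ * (X a 1)⁻¹ ∈ M := mul_mem (mul_mem (mul_mem hℓM hxM) (inv_mem hℓM)) (inv_mem hxM)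
  have hcG : ℓ * X a 1 * ℓ⁻¹ * (X a 1)⁻¹ ∈ twistedE6 K q := ((hM _).mp hcM).1
  have hLG : (QS q t * ℓ) * X a 1 * (QS q t * ℓ)⁻¹ * (X a 1)⁻¹ ∈ twistedE6 K q :=
    mul_mem (mul_mem (mul_mem (mul_mem hQSG hℓG) hxG) (inv_mem (mul_mem hQSG hℓG))) (inv_mem hxG)
  have hzG : z ∈ twistedE6 K q := by
    have e : z = (ℓ * X a 1 * ℓ⁻¹ * (X a 1)⁻¹)⁻¹ * ((XS q r' (ε * t r))⁻¹ *
        ((QS q t * ℓ) * X a 1 * (QS q t * ℓ)⁻¹ * (X a 1)⁻¹)) := by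
      rw [hfin]; group
    rw [e]
    exact mul_mem (inv_mem hcG) (mul_mem (inv_mem (hSG r' hr'6 _)) hLG)
  have hzM : z ∈ M := (hM _).mpr ⟨hzG, hP3 71 (by simp) z ⟨hzZ, hzG⟩⟩
  exact mul_mem hcM hzM

end Cfsg.Agent.Lib.Helper10.TEM
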