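import Mathlib

/-!
# Project U3P (S2289, designer helper19), generic rows O1 O2 O3 O4 (helper18), VERBATIM:
`inj_of_card`, `cells_top`, `cells_card_le`, `orbit_eq` (Mathlib only).
-/

set_option autoImplicit false

namespace Cfsg.Agent.Lib.Helper19.U3P

universe u v

section OG

/-- O1 [S-M] -/
theorem inj_of_card {G : Type*} {S : Type*} [Group G] [Group S] (π : G →* S) (B : Subgroup G) [Finite B]
    (hc : Nat.card B ≤ Nat.card ↥(B.map π)) : ∀ x ∈ B, ∀ y ∈ B, π x = π y → x = y := by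
  let f : B → ↥(B.map π) := fun b => ⟨π b.1, Subgroup.mem_map_of_mem π b.2⟩
  have hf : Function.Surjective f := by
    rintro ⟨s, hs⟩
    obtain ⟨b, hb, rfl⟩ := Subgroup.mem_map.mp hs
    exact ⟨⟨b, hb⟩, rfl⟩
  have hbij := hf.bijective_of_nat_card_le hc
  intro x hx y hy hxy
  have : f ⟨x, hx⟩ = f ⟨y, hy⟩ := Subtype.ext hxy
  exact congrArg Subtype.val (hbij.1 this)

/-- O2 [M] -/
theorem cells_top {G : Type*} [Group G] (B : Subgroup G) (U : Set G) (w : G) (h1 : (1 : G) ∈ U)
    (hBU : ∀ b ∈ B, ∀ x ∈ U, ∃ x' ∈ U, ∃ b' ∈ B, b * x * w = x' * w * b')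
    (hw2 : w * w ∈ B) (hR : ∀ x ∈ U, x ≠ 1 → ∃ x' ∈ U, ∃ b ∈ B, w * x * w = x' * w * b)
    (hgen : Subgroup.closure ((B : Set G) ∪ {w}) = ⊤) :
    ∀ g : G, g ∈ B ∨ ∃ x ∈ U, ∃ b ∈ B, g = x * w * b := by
  -- the set of cells
  set C : Set G := {g | g ∈ B ∨ ∃ x ∈ U, ∃ b ∈ B, g = x * w * b} with hC
  have hB : ∀ b ∈ B, ∀ y ∈ C, b * y ∈ C := by
    intro b hb y hy
    rcases hy with hy | ⟨x, hx, b', hb', rfl⟩
    · exact Or.inl (B.mul_mem hb hy)
    · obtain ⟨x', hx', b'', hb'', e⟩ := hBU b hb x hx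
      refine Or.inr ⟨x', hx', b'' * b', B.mul_mem hb'' hb', ?_⟩
      calc b * (x * w * b') = (b * x * w) * b' := by group
        _ = (x' * w * b'') * b' := by rw [e]
        _ = x' * w * (b'' * b') := by group
  have hW : ∀ y ∈ C, w * y ∈ C := by
    intro y hy
    rcases hy with hy | ⟨x, hx, b, hb, rfl⟩
    · exact Or.inr ⟨1, h1, y, hy, by rw [one_mul]⟩
    · by_cases hx1 : x = 1
      · subst hx1
        refine Or.inl ?_
        have : w * (1 * w * b) = (w * w) * b := by group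
        rw [this]
        exact B.mul_mem hw2 hb
      · obtain ⟨x', hx', b', hb', e⟩ := hR x hx hx1
        refine Or.inr ⟨x', hx', b' * b, B.mul_mem hb' hb, ?_⟩
        calc w * (x * w * b) = (w * x * w) * b := by group
          _ = (x' * w * b') * b := by rw [e]
          _ = x' * w * (b' * b) := by group
  have key : ∀ g ∈ Subgroup.closure ((B : Set G) ∪ {w}), ∀ y ∈ C, g * y ∈ C := by
    intro g hg
    induction hg using Subgroup.closure_induction'' with
    | mem x hx =>
      rcases hx with hx | hx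
      · exact hB x hx
      · rw [Set.mem_singleton_iff] at hx
        subst hx
        exact hW
    | inv_mem x hx =>
      rcases hx with hx | hx
      · exact hB x⁻¹ (B.inv_mem hx)
      · rw [Set.mem_singleton_iff] at hx
        subst hx
        intro y hy
        have : x⁻¹ * y = (x * x)⁻¹ * (x * y) := by group
        rw [this]
        exact hB _ (B.inv_mem hw2) _ (hW y hy)
    | one =>
      intro y hy
      rwa [one_mul]
    | mul a b _ _ iha ihb =>
      intro y hy
      rw [mul_assoc]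
      exact iha _ (ihb y hy)
  intro g
  have hg : g ∈ Subgroup.closure ((B : Set G) ∪ {w}) := by
    rw [hgen]
    exact Subgroup.mem_top g
  have := key g hg 1 (Or.inl B.one_mem)
  rwa [mul_one] at this

/-- O3 [S-M] -/
theorem cells_card_le {G : Type*} [Group G] (B : Subgroup G) [Finite B] (U : Set G) (hU : U.Finite)
    (w : G) (hall : ∀ g : G, g ∈ B ∨ ∃ x ∈ U, ∃ b ∈ B, g = x * w * b) :
    Finite G ∧ Nat.card G ≤ Nat.card B * (1 + U.ncard) := by
  have hBfin : (B : Set G).Finite := Set.toFinite _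
  have hPfin : (U ×ˢ (B : Set G)).Finite := hU.prod hBfin
  set I : Set G := (fun p : G × G => p.1 * w * p.2) '' (U ×ˢ (B : Set G)) with hI
  have hIfin : I.Finite := hPfin.image _
  have hsub : (Set.univ : Set G) ⊆ (B : Set G) ∪ I := by
    intro g _
    rcases hall g with hg | ⟨x, hx, b, hb, rfl⟩
    · exact Or.inl hg
    · exact Or.inr ⟨(x, b), ⟨hx, hb⟩, rfl⟩
  have hfinU : ((B : Set G) ∪ I).Finite := hBfin.union hIfin
  have huniv : (Set.univ : Set G).Finite := hfinU.subset hsub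
  have hG : Finite G := Set.finite_univ_iff.mp huniv
  refine ⟨hG, ?_⟩
  have hB : (B : Set G).ncard = Nat.card B := (_root_.Nat.card_coe_set_eq (B : Set G)).symm
  calc Nat.card G = (Set.univ : Set G).ncard := (Set.ncard_univ G).symm
    _ ≤ ((B : Set G) ∪ I).ncard := Set.ncard_le_ncard hsub hfinU
    _ ≤ (B : Set G).ncard + I.ncard := Set.ncard_union_le _ _
    _ ≤ (B : Set G).ncard + (U ×ˢ (B : Set G)).ncard := by
        gcongr
        exact Set.ncard_image_le hPfin
    _ = Nat.card B + U.ncard * Nat.card B := by rw [Set.ncard_prod, hB]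
    _ = Nat.card B * (1 + U.ncard) := by ring

/-- O4 [M] -/
theorem orbit_eq {G : Type*} [Group G] (B M : Subgroup G) [Finite M] (r c : G) (hc : c ∈ M)
    (hfix : r⁻¹ * c * r ∈ B) (n : ℕ) (hn0 : 0 < n) (hn : n ≤ orderOf c) (T : Set (G ⧸ B))
    (hTO : T ⊆ {x | ∃ m ∈ M, x = (QuotientGroup.mk (m * r) : G ⧸ B)})
    (hT : Nat.card M ≤ n * T.ncard) :
    T = {x | ∃ m ∈ M, x = (QuotientGroup.mk (m * r) : G ⧸ B)} := by
  set O : Set (G ⧸ B) := {x | ∃ m ∈ M, x = (QuotientGroup.mk (m * r) : G ⧸ B)} with hO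
  let c' : M := ⟨c, hc⟩
  let Z : Subgroup M := Subgroup.zpowers c'
  let f : M → G ⧸ B := fun m => (QuotientGroup.mk ((m : G) * r) : G ⧸ B)
  have hconj : ∀ i : ℤ, r⁻¹ * c ^ i * r ∈ B := by
    intro i
    have : r⁻¹ * c ^ i * r = (r⁻¹ * c * r) ^ i := by
      rw [show r⁻¹ * c * r = r⁻¹ * c * r⁻¹⁻¹ by rw [inv_inv], conj_zpow, inv_inv]
    rw [this]
    exact B.zpow_mem hfix i
  have hfz : ∀ m m' : M, m⁻¹ * m' ∈ Z → f m = f m' := by
    intro m m' h
    obtain ⟨i, hi⟩ := Subgroup.mem_zpowers_iff.mp h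
    show (QuotientGroup.mk ((m : G) * r) : G ⧸ B) = QuotientGroup.mk ((m' : G) * r)
    rw [QuotientGroup.eq]
    have hm' : (m' : G) = (m : G) * c ^ i := by
      have h2 : m' = m * c' ^ i := by rw [hi]; group
      rw [h2]
      simp [c']
    rw [hm']
    have : ((m : G) * r)⁻¹ * ((m : G) * c ^ i * r) = r⁻¹ * c ^ i * r := by group
    rw [this]
    exact hconj i
  let g : M ⧸ Z → G ⧸ B := fun x => Quotient.liftOn' x f (by
    intro m m' h
    exact hfz m m' (QuotientGroup.leftRel_apply.mp h))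
  have hOg : O = Set.range g := by
    ext x
    constructor
    · rintro ⟨m, hm, rfl⟩
      exact ⟨QuotientGroup.mk ⟨m, hm⟩, rfl⟩
    · rintro ⟨y, rfl⟩
      induction y using QuotientGroup.induction_on with
      | H m => exact ⟨m.1, m.2, rfl⟩
  have hOfin : O.Finite := by
    rw [hOg]
    exact Set.finite_range g
  have hOcard : O.ncard ≤ Nat.card (M ⧸ Z) := by
    rw [hOg, ← Set.image_univ]
    calc (g '' Set.univ).ncard ≤ (Set.univ : Set (M ⧸ Z)).ncard := Set.ncard_image_le Set.finite_univ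
      _ = Nat.card (M ⧸ Z) := Set.ncard_univ _
  have hZ : Nat.card Z = orderOf c := by
    rw [Nat.card_zpowers]
    exact Subgroup.orderOf_mk c hc
  have hM : Nat.card M = Nat.card (M ⧸ Z) * orderOf c := by
    rw [← hZ]
    exact Subgroup.card_eq_card_quotient_mul_card_subgroup Z
  have hle : O.ncard ≤ T.ncard := by
    have h1 : O.ncard * orderOf c ≤ n * T.ncard := by
      calc O.ncard * orderOf c ≤ Nat.card (M ⧸ Z) * orderOf c := Nat.mul_le_mul_right _ hOcard
        _ = Nat.card M := hM.symm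
        _ ≤ n * T.ncard := hT
    have h2 : n * T.ncard ≤ orderOf c * T.ncard := Nat.mul_le_mul_right _ hn
    have h3 : 0 < orderOf c := lt_of_lt_of_le hn0 hn
    have h4 : orderOf c * O.ncard ≤ orderOf c * T.ncard := by
      rw [mul_comm]
      exact le_trans h1 h2
    exact Nat.le_of_mul_le_mul_left h4 h3
  exact Set.eq_of_subset_of_ncard_le hTO hle hOfin

end OG

end Cfsg.Agent.Lib.Helper19.U3P
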