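import Mathlib
import Cfsg.Prelude.Def_GeometricClasses
import Cfsg.Agent.Lib.Helper27.ASC.Defs
import Cfsg.Agent.Lib.Helper29.ASCFORM
import Cfsg.Agent.Lib.Helper29.ASCGRAM

/-!
# Symplectic analogue of the ASC pieces QUAD / UNIT (helper18), for project ASG

* `symp_of_fixes`: `P` normal in `H`, absolutely irreducible, fixing a non-degenerate symplectic form `f`
  ==> `H ≤ similarityGroup f`.
* `bil_of_fixes`: the same for any bilinear form with non-degenerate right radical.
* `polar_symplectic_of_char_two`: in characteristic 2 the polar form of a non-degenerate quadratic form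
  is a non-degenerate symplectic form, fixed by whatever fixes the quadratic form.
-/

set_option autoImplicit false
set_option linter.unusedVariables false
set_option linter.unusedSectionVars false

namespace Cfsg.Agent.Lib.Helper27.ASC

open Cfsg Cfsg.Geo
open scoped MatrixGroups Matrix

variable {n : ℕ} {F : Type*} [Field F] [Fintype F]

/-- a bilinear form, non-degenerate on the right, fixed by an absolutely irreducible normal subgroup,
is preserved up to scalars by the whole group -/
theorem ascsymp_bil_of_fixes {H P : Subgroup (GL (Fin n) F)} (hP : NormalIn P H) (hA : AbsIrr P)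
    (f : (Fin n → F) → (Fin n → F) → F) (hb : IsBilinearForm f)
    (hnd : ∀ v : Fin n → F, v ≠ 0 → ∃ x, f x v ≠ 0)
    (hfix : FixesForm (matrixSet P) f) : H ≤ similarityGroup f := by
  classical
  have hsr : ∀ (c : F) (v x : Fin n → F), f v (c • x) = (RingHom.id F) c * f v x := by
    intro c v x
    rw [hb.smul_right]; rfl
  obtain ⟨A, hAdef⟩ : ∃ A : Matrix (Fin n) (Fin n) F, A = ascformGram f := ⟨_, rfl⟩
  have hgram : ∀ u v : Fin n → F, f u v = u ⬝ᵥ (A *ᵥ (fun j => (RingHom.id F) (v j))) := by
    intro u v
    rw [hAdef]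
    exact ascform_gram (RingHom.id F) f hb.add_left hb.smul_left hb.add_right hsr u v
  have hAu : IsUnit A.det := by
    apply ascform_gram_isUnit_det (RingEquiv.refl F) A
    intro v hv
    obtain ⟨x, hx⟩ := hnd v hv
    refine ⟨x, ?_⟩
    have h1 := hgram x v
    have e : (fun j => (RingHom.id F) (v j)) = (fun j => (RingEquiv.refl F) (v j)) := by
      ext j; rfl
    rw [e] at h1
    rw [← h1]
    exact hx
  have hinv : ∀ s ∈ P, (s : Matrix (Fin n) (Fin n) F)ᵀ * A *
      (s : Matrix (Fin n) (Fin n) F).map (RingHom.id F) = A := by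
    intro s hs
    apply ascform_ext (RingHom.id F)
    intro u v
    rw [← ascform_transport (RingHom.id F) A (s : Matrix (Fin n) (Fin n) F) u v]
    have hsm : (s : Matrix (Fin n) (Fin n) F) ∈ matrixSet P := ⟨s, hs, rfl⟩
    rw [← hgram, ← hgram, hfix _ hsm]
  intro h hh
  obtain ⟨c, hc⟩ := ascform_core (RingHom.id F) hP hA A hAu hinv h hh
  have hfc : ∀ u v : Fin n → F,
      f ((h : Matrix (Fin n) (Fin n) F) *ᵥ u) ((h : Matrix (Fin n) (Fin n) F) *ᵥ v) = c * f u v := by
    intro u v
    rw [hgram, ascform_transport (RingHom.id F) A (h : Matrix (Fin n) (Fin n) F) u v, hc, hgram,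
      Matrix.smul_mulVec, dotProduct_smul, smul_eq_mul]
  by_cases hc0 : c = 0
  · have hf0 : ∀ u v : Fin n → F, f u v = 0 := by
      intro u v
      have := hfc (((h⁻¹ : GL (Fin n) F) : Matrix (Fin n) (Fin n) F) *ᵥ u)
        (((h⁻¹ : GL (Fin n) F) : Matrix (Fin n) (Fin n) F) *ᵥ v)
      rw [Matrix.mulVec_mulVec, Matrix.mulVec_mulVec, ← Units.val_mul, mul_inv_cancel, Units.val_one,
        Matrix.one_mulVec, Matrix.one_mulVec, hc0, zero_mul] at this
      exact this
    refine ⟨1, fun u v => ?_⟩
    rw [hf0, hf0, mul_zero]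
  · exact ⟨Units.mk0 c hc0, fun u v => by rw [Units.val_mk0]; exact hfc u v⟩

/-- SYMP: the symplectic analogue of `quad_of_fixes` / `unit_of_fixes` -/
theorem symp_of_fixes {H P : Subgroup (GL (Fin n) F)} (hP : NormalIn P H) (hA : AbsIrr P)
    (f : (Fin n → F) → (Fin n → F) → F) (hf : IsSymplecticForm f)
    (hfix : FixesForm (matrixSet P) f) : H ≤ similarityGroup f :=
  ascsymp_bil_of_fixes hP hA f hf.bilinear (fun v hv => (hf.nondegenerate v hv).1) hfix

/-- in characteristic 2 the polar form of a non-degenerate quadratic form is a non-degenerate symplectic form -/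
theorem ascsymp_polar_symplectic (h2 : (2 : F) = 0) (Q : (Fin n → F) → F)
    (hQ : IsNondegenerateQuadraticForm Q) : IsSymplecticForm (QuadraticMap.polar Q) := by
  have halt : ∀ v : Fin n → F, QuadraticMap.polar Q v v = 0 := by
    intro v
    have h1 : v + v = (2 : F) • v := (two_smul F v).symm
    have h3 : Q ((2 : F) • v) = 0 := by rw [hQ.smul, h2]; ring
    have h4 : Q v + Q v = 0 := by
      have : Q v + Q v = (2 : F) * Q v := by ring
      rw [this, h2, zero_mul]
    unfold QuadraticMap.polar
    rw [h1, h3, sub_sub, h4, sub_zero]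
  have hneg : ∀ a : F, -a = a := by
    intro a
    have : a + a = 0 := by
      have : a + a = (2 : F) * a := by ring
      rw [this, h2, zero_mul]
    exact neg_eq_of_add_eq_zero_left this
  refine ⟨hQ.polar_bilinear, ?_, halt, hQ.nondegenerate⟩
  intro v w
  rw [hneg]
  exact QuadraticMap.polar_comm Q v w

/-- whatever fixes `Q` fixes its polar form -/
theorem ascsymp_fixes_polar (S : Set (Matrix (Fin n) (Fin n) F)) (Q : (Fin n → F) → F)
    (hfix : FixesQuadForm S Q) : FixesForm S (QuadraticMap.polar Q) := by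
  intro s hs u v
  unfold QuadraticMap.polar
  rw [← Matrix.mulVec_add, hfix s hs, hfix s hs, hfix s hs]

/-- QUAD2: characteristic 2, `P` fixes a non-degenerate quadratic form ==> `H` lies in the similarity group of
the (symplectic) polar form -/
theorem quad_char_two_of_fixes {H P : Subgroup (GL (Fin n) F)} (hP : NormalIn P H) (hA : AbsIrr P)
    (h2 : (2 : F) = 0) (Q : (Fin n → F) → F) (hQ : IsNondegenerateQuadraticForm Q)
    (hfix : FixesQuadForm (matrixSet P) Q) :
    IsSymplecticForm (QuadraticMap.polar Q) ∧ H ≤ similarityGroup (QuadraticMap.polar Q) :=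
  ⟨ascsymp_polar_symplectic h2 Q hQ,
    symp_of_fixes hP hA _ (ascsymp_polar_symplectic h2 Q hQ) (ascsymp_fixes_polar _ Q hfix)⟩

end Cfsg.Agent.Lib.Helper27.ASC
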