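import Mathlib
import Cfsg.Agent.Lib.Helper18.ONE.Defs
import Cfsg.Agent.Lib.Helper18.ONETYFPF
import Cfsg.Agent.Lib.Helper24.ElD
import Cfsg.Agent.Lib.Helper24.S5972SPLIT
import Cfsg.Agent.Lib.Helper18.ONETYCLASS
import Cfsg.Agent.Lib.helper23.ONECYCLADDER
import Cfsg.Agent.Lib.helper23.ONETYARITH
import Cfsg.Agent.Lib.Helper19.ONETYEX
import Cfsg.Agent.Lib.helper17.ONETYSUM
import Cfsg.Agent.Lib.helper17.ONENDSUPS

set_option autoImplicit false

namespace Cfsg.Agent.Lib.Helper18.ONE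

open Polynomial Module Cfsg.Agent.Lib.Helper13.S5955 Cfsg.Agent.Lib.helper15.S5972

/-- `c` is even and positive -/
theorem onesuffabs_c (i c : ℕ) (hi1 : 1 ≤ i) (hc : c = if Even i then i else 2 * i) :
    0 < c ∧ Even c := by
  by_cases hie : Even i
  · rw [if_pos hie] at hc
    subst hc
    exact ⟨hi1, hie⟩
  · rw [if_neg hie] at hc
    subst hc
    exact ⟨by omega, even_two_mul i⟩

/-- two signs with the same characterisation are equal -/
theorem onesuffabs_sign (s s' : ℤ) (hs : s = 1 ∨ s = -1) (hs' : s' = 1 ∨ s' = -1) (P : Prop)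
    (h : s = 1 ↔ P) (h' : s' = 1 ↔ P) : s' = s := by
  rcases hs with rfl | rfl <;> rcases hs' with rfl | rfl
  · rfl
  · exfalso
    have := h'.mpr (h.mp rfl)
    omega
  · exfalso
    have := h.mpr (h'.mp rfl)
    omega
  · rfl

theorem one_suff_abs {F : Type*} [Field F] [Fintype F] {p : ℕ} [Fact p.Prime] [CharP F p]
    (h2 : (2 : F) ≠ 0) {V : Type*} [AddCommGroup V] [Module F V] [FiniteDimensional F V]
    {r : ℕ} [Fact r.Prime] (hrp : r ≠ p) (hr2 : r ≠ 2) {B : LinearMap.BilinForm F V}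
    {x : Module.End F V} (h : OCtx r B x) (d m : ℕ) (hV : finrank F V = 2 * d + 1)
    (hm : 2 ≤ m) (hme : Even m) (hmd : m ≤ 2 * d) (i c : ℕ)
    (hi : i = orderOf ((Fintype.card F : ℕ) : ZMod r)) (hc : c = if Even i then i else 2 * i)
    (s : ℤ) (hs : s = 1 ∨ s = -1) (hUC : UC i c d m s) : NDt B x m s := by
  obtain ⟨hcm, hlt, hty⟩ := hUC
  obtain ⟨horth, hcompl, hndfix, hndcyc⟩ := o_split (p := p) hrp h
  have hi1 : 1 ≤ i := by
    rw [hi]
    exact Cfsg.Agent.Lib.Helper24.el_ord_pos (F := F) (p := p) r hrp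
  obtain ⟨hc0, hce⟩ := onesuffabs_c i c hi1 hc
  have hcycinv : SInv x (cycS r x) := Cfsg.Agent.Lib.Helper24.el_inv_ker x _
  obtain ⟨A, hA⟩ := o_cyc_nd_dvd (p := p) hrp hr2 h i c hi hc (cycS r x) hcycinv le_rfl hndcyc
  have hfg : finrank F (fixS x) + finrank F (cycS r x) = 2 * d + 1 := by
    rw [← hV]
    exact Submodule.finrank_add_eq_of_isCompl hcompl
  set f := finrank F (fixS x) with hf
  -- f ≥ (2d+1) % c
  have hfmod : (2 * d + 1) % c ≤ f := by
    have h1 : (2 * d + 1) % c = f % c := by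
      rw [← hfg, hA, Nat.add_mul_mod_self_left]
    rw [h1]
    exact Nat.mod_le _ _
  -- the block part
  have hbA : c * min (m / c) A ≤ finrank F (cycS r x) := by
    rw [hA]
    exact Nat.mul_le_mul_left c (min_le_right _ _)
  obtain ⟨M, hMc, hMinv, hMnd, hMdim⟩ :=
    o_nd_ladder (p := p) hrp hr2 h i c hi hc (min (m / c) A) hbA
  have hMev : Even (finrank F M) := by
    rw [hMdim]
    exact hce.mul_right _
  have hcbm : c * min (m / c) A ≤ m :=
    le_trans (Nat.mul_le_mul_left c (min_le_left _ _)) (Nat.mul_div_le m c)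
  -- type of M
  obtain ⟨s', hs', hMty⟩ : ∃ s' : ℤ, (s' = 1 ∨ s' = -1) ∧ OTy B M s' := by
    rcases ty_class h2 B h.symm M hMnd hMev with ⟨_, ht⟩ | ⟨_, ht⟩
    · exact ⟨1, Or.inl rfl, ht⟩
    · exact ⟨-1, Or.inr rfl, ht⟩
  by_cases he : m - c * min (m / c) A = 0
  · -- W = M
    have hMm : finrank F M = m := by rw [hMdim]; omega
    have hcdvd : c ∣ m := ⟨min (m / c) A, by omega⟩
    have hmod0 : m % c = 0 := Nat.mod_eq_zero_of_dvd hcdvd
    have hP : s = 1 ↔ (Odd i ∨ Even (m / i)) := by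
      rcases hty with h0 | h0
      · omega
      · exact h0
    have hM0 : M ≠ ⊥ := by
      intro hb0
      rw [hb0, finrank_bot] at hMm
      omega
    have hq := ty_fpf (p := p) h2 hrp h M hMinv hMnd hMc hM0 hMev s' hMty
    rw [hMm] at hq
    have hP' := ty_arith r hr2 (Fintype.card F) i c m hi hc hcdvd (by omega) s' hs' hq
    have hss : s' = s := onesuffabs_sign s s' hs hs' _ hP hP'
    rw [hss] at hMty
    exact ⟨M, hMinv, hMnd, hMm, hMty⟩
  · -- W = W₁ ⊔ M
    set e := m - c * min (m / c) A with hedef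
    have he0 : 0 < e := Nat.pos_of_ne_zero he
    have hee : Even e := by
      obtain ⟨m', hm'⟩ := hme
      obtain ⟨t, ht⟩ : ∃ t, c * min (m / c) A = 2 * t := by
        obtain ⟨c', hc'⟩ := hce
        refine ⟨c' * min (m / c) A, ?_⟩
        rw [hc']
        ring
      rw [ht] at hedef hcbm
      exact ⟨m' - t, by omega⟩
    have hef : e < f := by
      rcases min_choice (m / c) A with hmin | hmin
      · rw [hmin] at hedef
        have : e = m % c := by
          have := Nat.div_add_mod m c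
          omega
        omega
      · rw [hmin] at hedef
        rw [hA] at hfg
        omega
    have hss' : s * s' = 1 ∨ s * s' = -1 := by
      rcases hs with rfl | rfl <;> rcases hs' with rfl | rfl <;> simp
    obtain ⟨W₁, hW₁f, hW₁nd, hW₁dim, hW₁ty⟩ :=
      ty_ex h2 B h.symm (fixS x) hndfix e hee he0 hef (s * s') hss'
    have hort : SOrth B W₁ M := fun u hu w hw => horth u (hW₁f hu) w (hMc hw)
    obtain ⟨hnd, _, hdim⟩ := nd_sup_symm B h.symm W₁ M hW₁nd hMnd hort
    have hty' := ty_sum h2 B h.symm W₁ M hW₁nd hMnd hort (by rw [hW₁dim]; exact hee) hMev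
      (s * s') s' hW₁ty hMty
    have hsss : s * s' * s' = s := by
      rcases hs' with rfl | rfl <;> ring
    rw [hsss] at hty'
    refine ⟨W₁ ⊔ M, ?_, hnd, ?_, hty'⟩
    · exact Cfsg.Agent.Lib.Helper24.el_inv_sup
        (Cfsg.Agent.Lib.Helper24.el_inv_of_le_fix x W₁ hW₁f) hMinv
    · rw [hdim, hW₁dim, hMdim]
      omega

end Cfsg.Agent.Lib.Helper18.ONE
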