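import Mathlib
import Cfsg.Agent.Lib.Helper11.PM3.Defs
import Cfsg.Agent.Lib.Helper13.PM3L6

/-!
Project PM3 (S2930), pieces U1 and L8 (Lemma U).
-/

set_option autoImplicit false

namespace Cfsg.Agent.Lib.Helper11.PM3

open Equiv MulAction
open scoped Pointwise

variable {α : Type*} [Fintype α] [DecidableEq α]

/-- an even permutation moving every point inside its class preserves the setoid -/
theorem h18_mem_setoidStab_of_rel (R : Setoid α) (g : alternatingGroup α)
    (h : ∀ u : α, R ((g : Perm α) u) u) : g ∈ setoidStab R := by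
  intro u v
  constructor
  · intro huv
    exact R.trans (h u) (R.trans huv (R.symm (h v)))
  · intro huv
    exact R.trans (R.symm (h u)) (R.trans huv (h v))

/-- the three-cycle on three related points -/
theorem h18_exists_threeCycle (R : Setoid α) (x y z : α) (hxy : x ≠ y) (hxz : x ≠ z) (hyz : y ≠ z)
    (h1 : R x y) (h2 : R x z) :
    ∃ c ∈ setoidStab R, (c : Perm α) x = y ∧ (c : Perm α).IsThreeCycle ∧
      (∀ w, w ≠ x → w ≠ y → w ≠ z → (c : Perm α) w = w) := by
  have h3 : (swap x z * swap x y).IsThreeCycle := by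
    have := Equiv.Perm.isThreeCycle_swap_mul_swap_same (a := x) (b := z) (c := y) hxz hxy hyz.symm
    exact this
  refine ⟨⟨swap x z * swap x y, h3.mem_alternatingGroup⟩, ?_, ?_, h3, ?_⟩
  · apply h18_mem_setoidStab_of_rel
    intro u
    simp only [Perm.coe_mul, Function.comp_apply]
    by_cases hux : u = x
    · subst hux
      rw [swap_apply_left, swap_apply_of_ne_of_ne hxy.symm hyz]
      exact R.symm h1
    by_cases huy : u = y
    · subst huy
      rw [swap_apply_right, swap_apply_left]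
      exact R.trans (R.symm h2) h1
    by_cases huz : u = z
    · subst huz
      rw [swap_apply_of_ne_of_ne hxz.symm hyz.symm, swap_apply_right]
      exact h2
    · rw [swap_apply_of_ne_of_ne hux huy, swap_apply_of_ne_of_ne hux huz]
  · simp only [Perm.coe_mul, Function.comp_apply]
    rw [swap_apply_left, swap_apply_of_ne_of_ne hxy.symm hyz]
  · intro w hwx hwy hwz
    simp only [Perm.coe_mul, Function.comp_apply]
    rw [swap_apply_of_ne_of_ne hwx hwy, swap_apply_of_ne_of_ne hwx hwz]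

/-- PIECE U1. -/
theorem block_contains_class (R : Setoid α) (hR : ∀ x, 4 ≤ Set.ncard {y : α | R x y})
    (M : Subgroup (alternatingGroup α)) (hM : setoidStab R ≤ M) (B : Set α) (hB : IsBlock M B)
    (hBnt : B.Nontrivial) (x : α) (hx : x ∈ B) (y : α) (hxy : R x y) : y ∈ B := by
  by_contra hy
  have hxy' : x ≠ y := fun h => hy (h ▸ hx)
  obtain ⟨b, hb, hbx⟩ := hBnt.exists_ne x
  have hby : b ≠ y := fun h => hy (h ▸ hb)
  -- choose z in the class of x outside {x, y, b}
  have hfin : ({x, y, b} : Set α).Finite := Set.toFinite _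
  have hlt : ({x, y, b} : Set α).ncard < Set.ncard {y : α | R x y} := by
    have h3 : ({x, y, b} : Set α).ncard ≤ 3 := by
      have := Set.ncard_insert_le x ({y, b} : Set α)
      have := Set.ncard_insert_le y ({b} : Set α)
      have := Set.ncard_singleton b
      omega
    have := hR x
    omega
  obtain ⟨z, hz, hz'⟩ := Set.exists_mem_notMem_of_ncard_lt_ncard hlt hfin
  simp only [Set.mem_insert_iff, Set.mem_singleton_iff, not_or] at hz'
  obtain ⟨hzx, hzy, hzb⟩ := hz'
  obtain ⟨c, hc, hcx, -, hcw⟩ := h18_exists_threeCycle R x y z hxy' (Ne.symm hzx) (Ne.symm hzy)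
    hxy hz
  have hcM : c ∈ M := hM hc
  rcases hB.smul_eq_or_disjoint ⟨c, hcM⟩ with h | h
  · apply hy
    rw [← h]
    exact ⟨x, hx, hcx⟩
  · have h1 : b ∈ (⟨c, hcM⟩ : M) • B := ⟨b, hb, hcw b hbx hby (Ne.symm hzb)⟩
    exact (Set.disjoint_left.mp h h1) hb


/-- L8 with L6 as a hypothesis -/
theorem h18_sup_eq_top_aux (r R : Setoid α) (hrR : r ≤ R) (hr : ClassCard r 3)
    (hR : ∀ x, 6 ≤ Set.ncard {y : α | R x y}) (hR2 : ∃ x y, ¬ R x y)
    (hL6 : ∀ x y z : α, ¬ r x y → ¬ r x z → ¬ r y z →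
      ∃ g ∈ setoidStab r, r ((g : Perm α) x) y ∧ r ((g : Perm α) z) z) :
    setoidStab r ⊔ setoidStab R = ⊤ := by
  set M := setoidStab r ⊔ setoidStab R with hMdef
  have hrM : setoidStab r ≤ M := le_sup_left
  have hRM : setoidStab R ≤ M := le_sup_right
  -- existence of z : R x z ∧ ¬ r x z
  have hz : ∀ x, ∃ z, R x z ∧ ¬ r x z := by
    intro x
    have hlt : Set.ncard {y | r x y} < Set.ncard {y | R x y} := by
      rw [hr x]; have := hR x; omega
    obtain ⟨z, hz, hz'⟩ := Set.exists_mem_notMem_of_ncard_lt_ncard hlt (Set.toFinite _)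
    exact ⟨z, hz, hz'⟩
  -- moving within an R class
  have hmoveR : ∀ x y, R x y → ∃ g ∈ M, (g : Perm α) x = y ∧
      (x ≠ y → (g : Perm α).IsThreeCycle) := by
    intro x y hxy
    by_cases hxy' : x = y
    · exact ⟨1, M.one_mem, by simp [hxy'], fun h => absurd hxy' h⟩
    have hlt : ({x, y} : Set α).ncard < Set.ncard {y | R x y} := by
      have := Set.ncard_insert_le x ({y} : Set α)
      have := Set.ncard_singleton y
      have := hR x
      omega
    obtain ⟨z, hz, hz'⟩ := Set.exists_mem_notMem_of_ncard_lt_ncard hlt (Set.toFinite _)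
    simp only [Set.mem_insert_iff, Set.mem_singleton_iff, not_or] at hz'
    obtain ⟨c, hc, hcx, hc3, -⟩ := h18_exists_threeCycle R x y z hxy' (Ne.symm hz'.1)
      (Ne.symm hz'.2) hxy hz
    exact ⟨c, hRM hc, hcx, fun _ => hc3⟩
  have htrans : ∀ x y, ∃ g ∈ M, (g : Perm α) x = y := by
    intro x y
    by_cases hxy : R x y
    · obtain ⟨g, hg, hg1, -⟩ := hmoveR x y hxy
      exact ⟨g, hg, hg1⟩
    obtain ⟨z, hz1, hz2⟩ := hz x
    have hxy' : ¬ r x y := fun h => hxy (hrR h)
    have hyz : ¬ r y z := fun h => hxy (R.trans hz1 (R.symm (hrR h)))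
    obtain ⟨g, hg, hg1, -⟩ := hL6 x y z hxy' hz2 hyz
    obtain ⟨c, hc, hc1, -⟩ := hmoveR _ _ (hrR hg1)
    exact ⟨c * g, M.mul_mem hc (hrM hg), by simp [hc1]⟩
  -- a three cycle in M
  obtain ⟨c3, hc3M, hc33⟩ : ∃ c ∈ M, (c : Perm α).IsThreeCycle := by
    obtain ⟨x0, -, -⟩ := hR2
    obtain ⟨z, hz1, hz2⟩ := hz x0
    have hne : x0 ≠ z := fun h => hz2 (h ▸ r.refl x0)
    obtain ⟨g, hg, -, hg3⟩ := hmoveR x0 z hz1
    exact ⟨g, hg, hg3 hne⟩
  have : IsPretransitive M α := by
    refine ⟨fun x y => ?_⟩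
    obtain ⟨g, hg, hgxy⟩ := htrans x y
    exact ⟨⟨g, hg⟩, hgxy⟩
  have : IsPreprimitive M α := by
    refine IsPreprimitive.mk ?_
    intro B hB
    rw [IsTrivialBlock, or_iff_not_imp_left]
    intro hBs
    rw [Set.not_subsingleton_iff] at hBs
    have hcl : ∀ x ∈ B, ∀ y, R x y → y ∈ B := fun x hx y hxy =>
      block_contains_class R (fun x => by have := hR x; omega) M hRM B hB hBs x hx y hxy
    by_contra hne
    obtain ⟨y, hy⟩ := (Set.ne_univ_iff_exists_notMem B).mp hne
    obtain ⟨x, hx⟩ := hBs.nonempty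
    have hxy : ¬ R x y := fun h => hy (hcl x hx y h)
    obtain ⟨z, hz1, hz2⟩ := hz x
    have hzB : z ∈ B := hcl x hx z hz1
    have hxy' : ¬ r x y := fun h => hxy (hrR h)
    have hyz : ¬ r y z := fun h => hxy (R.trans hz1 (R.symm (hrR h)))
    obtain ⟨g, hg, hg1, hg2⟩ := hL6 x y z hxy' hz2 hyz
    have hgM : g ∈ M := hrM hg
    have hgzB : (g : Perm α) z ∈ B := hcl z hzB _ (R.symm (hrR hg2))
    rcases hB.smul_eq_or_disjoint ⟨g, hgM⟩ with h | h
    · have hgx : (g : Perm α) x ∈ B := by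
        rw [← h]
        exact ⟨x, hx, rfl⟩
      exact hy (hcl _ hgx y (hrR hg1))
    · have h1 : (g : Perm α) z ∈ (⟨g, hgM⟩ : M) • B := ⟨z, hzB, rfl⟩
      exact (Set.disjoint_left.mp h h1) hgzB
  rw [eq_top_iff, ← Subgroup.map_subtype_le_map_subtype,
    ← MonoidHom.range_eq_map, Subgroup.range_subtype]
  apply Equiv.Perm.alternatingGroup_le_of_isPreprimitive_of_isThreeCycle_mem _ hc33
  · exact ⟨c3, hc3M, rfl⟩
  · let φ := (alternatingGroup α).subtype.subgroupMap M
    let f : α →ₑ[φ] α := {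
      toFun := id
      map_smul' _ _ := rfl }
    rwa [← isPreprimitive_congr (f := f) ((alternatingGroup α).subtype.subgroupMap_surjective M)
      Function.bijective_id]

/-- PIECE L8 (Lemma U). -/
theorem setoidStab_sup_setoidStab_eq_top (r R : Setoid α) (hrR : r ≤ R) (hr : ClassCard r 3)
    (hR : ∀ x, 6 ≤ Set.ncard {y : α | R x y}) (hR2 : ∃ x y, ¬ R x y) :
    setoidStab r ⊔ setoidStab R = ⊤ :=
  h18_sup_eq_top_aux r R hrR hr hR hR2 (exists_block_swap r hr)

end Cfsg.Agent.Lib.Helper11.PM3
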