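import Mathlib
import Cfsg.Agent.Lib.Helper11.PM3.Defs

/-!
Project PM3 (S2930), piece L9 (transitive 3-group: triples inside three big blocks).
-/

set_option autoImplicit false

namespace Cfsg.Agent.Lib.Helper11.PM3

open Equiv MulAction
open scoped Pointwise

/-- abstract form: a transitive faithful `p`-group on `p ^ a` points, `a ≥ 2`, has a central element
`z` of order `p` without fixed points and a normal subgroup `K` of index `p` containing `z` and all
point stabilisers. -/
theorem h18_pgroup_blocks {P : Type*} [Group P] [Finite P] {α : Type*} [Finite α] [MulAction P α]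
    (p : ℕ) [Fact p.Prime] (hP : IsPGroup p P)
    (htr : ∀ x y : α, ∃ g : P, g • x = y)
    (hfaith : ∀ g : P, (∀ x : α, g • x = x) → g = 1)
    (a : ℕ) (ha : 2 ≤ a) (hcard : Nat.card α = p ^ a) :
    ∃ z : P, z ∈ Subgroup.center P ∧ orderOf z = p ∧ (∀ x : α, z • x ≠ x) ∧
      ∃ K : Subgroup P, K.Normal ∧ K.index = p ∧ z ∈ K ∧ ∀ y : α, stabilizer P y ≤ K := by
  have hp := (Fact.out : p.Prime)
  have h1 : 1 < Nat.card α := by rw [hcard]; exact Nat.one_lt_pow (by omega) hp.one_lt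
  have : Nontrivial α := (Finite.one_lt_card_iff_nontrivial).mp h1
  obtain ⟨x0, y0, hxy0⟩ := exists_pair_ne α
  have : Nontrivial P := by
    obtain ⟨g, hg⟩ := htr x0 y0
    refine ⟨⟨g, 1, ?_⟩⟩
    rintro rfl
    exact hxy0 (by simpa using hg)
  have := hP.center_nontrivial
  have hZ : IsPGroup p (Subgroup.center P) := hP.to_subgroup _
  obtain ⟨k, hk⟩ := (IsPGroup.iff_card).mp hZ
  have hk0 : k ≠ 0 := by
    rintro rfl
    have := Finite.one_lt_card_iff_nontrivial.mpr (inferInstance : Nontrivial (Subgroup.center P))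
    rw [pow_zero] at hk
    omega
  have hdvd : p ∣ Nat.card (Subgroup.center P) := by rw [hk]; exact dvd_pow_self p hk0
  obtain ⟨z0, hz0⟩ := exists_prime_orderOf_dvd_card' p hdvd
  set z : P := (z0 : P) with hzdef
  have hzc : z ∈ Subgroup.center P := z0.2
  have hzo : orderOf z = p := by rw [hzdef, Subgroup.orderOf_coe, hz0]
  have hz1 : z ≠ 1 := by
    intro h
    rw [h, orderOf_one] at hzo
    exact hp.one_lt.ne hzo
  have hcomm : ∀ g : P, g * z = z * g := fun g => (Subgroup.mem_center_iff.mp hzc g)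
  have hzfix : ∀ x : α, z • x ≠ x := by
    intro x hx
    apply hz1
    apply hfaith
    intro y
    obtain ⟨g, rfl⟩ := htr x y
    rw [← mul_smul, ← hcomm, mul_smul, hx]
  refine ⟨z, hzc, hzo, hzfix, ?_⟩
  -- the set stabiliser of the `⟨z⟩`-orbit of `x0`
  set O : Set α := orbit (Subgroup.zpowers z) x0 with hO
  set T : Subgroup P := stabilizer P O with hT
  have hzT : z ∈ T := by
    rw [hT, mem_stabilizer_iff]
    ext y
    constructor
    · rintro ⟨y', ⟨⟨w, hw⟩, rfl⟩, rfl⟩
      exact ⟨⟨z * w, Subgroup.mul_mem _ (Subgroup.mem_zpowers z) hw⟩, by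
        simp [Subgroup.smul_def, mul_smul]⟩
    · rintro ⟨⟨w, hw⟩, rfl⟩
      refine ⟨(⟨z⁻¹ * w, Subgroup.mul_mem _ (Subgroup.inv_mem _ (Subgroup.mem_zpowers z)) hw⟩ :
        Subgroup.zpowers z) • x0, ⟨_, rfl⟩, ?_⟩
      simp [Subgroup.smul_def, mul_smul]
  have hcen : ∀ w ∈ Subgroup.zpowers z, ∀ g : P, g * w = w * g := fun w hw g =>
    Subgroup.mem_center_iff.mp ((Subgroup.zpowers_le.mpr hzc) hw) g
  have hstT : stabilizer P x0 ≤ T := by
    intro s hs
    rw [mem_stabilizer_iff] at hs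
    have hfixO : ∀ y ∈ O, s • y = y := by
      rintro _ ⟨⟨w, hw⟩, rfl⟩
      change s • (w • x0) = w • x0
      rw [← mul_smul, hcen w hw s, mul_smul, hs]
    rw [hT, mem_stabilizer_iff]
    ext y
    constructor
    · rintro ⟨y', hy', rfl⟩
      change s • y' ∈ O
      rw [hfixO y' hy']; exact hy'
    · intro hy
      exact ⟨y, hy, hfixO y hy⟩
  have hOcard : O.ncard ≤ p := by
    have h1 : O.ncard ≤ Nat.card (Subgroup.zpowers z) := by
      rw [← Nat.card_coe_set_eq]
      exact Finite.card_range_le _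
    rwa [Nat.card_zpowers, hzo] at h1
  have hOne : O ≠ Set.univ := by
    intro h
    have h2 : O.ncard = Nat.card α := by rw [h, Set.ncard_univ]
    have h3 : p < p ^ a := by
      calc p = p ^ 1 := (pow_one p).symm
        _ < p ^ a := Nat.pow_lt_pow_right hp.one_lt (by omega)
    omega
  have hTtop : T ≠ ⊤ := by
    intro h
    obtain ⟨y, hy⟩ := (Set.ne_univ_iff_exists_notMem O).mp hOne
    obtain ⟨g, hg⟩ := htr x0 y
    have hgT : g ∈ T := h ▸ Subgroup.mem_top g
    rw [hT, mem_stabilizer_iff] at hgT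
    apply hy
    rw [← hg, ← hgT]
    exact ⟨x0, mem_orbit_self x0, rfl⟩
  obtain ⟨n, hn⟩ := (IsPGroup.iff_card).mp hP
  obtain ⟨m, hm⟩ := (IsPGroup.iff_card).mp (hP.to_subgroup T)
  have hmn : m < n := by
    by_contra hmn
    rw [not_lt] at hmn
    have h1 : Nat.card T ≤ Nat.card P := Subgroup.card_le_card_group T
    have h2 : p ^ n ≤ p ^ m := Nat.pow_le_pow_right hp.pos hmn
    have h3 : Nat.card T = Nat.card P := by omega
    exact hTtop ((Subgroup.card_eq_iff_eq_top T).mp h3)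
  obtain ⟨K, hKcard, hTK⟩ := Sylow.exists_subgroup_card_pow_prime_le p
    (show p ^ (n - 1) ∣ Nat.card P by rw [hn]; exact pow_dvd_pow p (by omega)) T hm (by omega)
  have hKidx : K.index = p := by
    have h1 := K.card_mul_index
    rw [hKcard, hn] at h1
    have h2 : p ^ n = p ^ (n - 1) * p := by
      rw [← pow_succ]; congr 1; omega
    rw [h2] at h1
    exact Nat.eq_of_mul_eq_mul_left (pow_pos hp.pos _) h1
  have hKn : K.Normal := by
    apply Subgroup.normal_of_index_eq_minFac_card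
    rw [hKidx, hn, Nat.Prime.pow_minFac hp (by omega)]
  refine ⟨K, hKn, hKidx, hTK hzT, ?_⟩
  intro y s hs
  obtain ⟨g, rfl⟩ := htr x0 y
  rw [mem_stabilizer_iff] at hs
  have h1 : g⁻¹ * s * g ∈ stabilizer P x0 := by
    rw [mem_stabilizer_iff, mul_smul, mul_smul, hs, inv_smul_smul]
  have h2 : g⁻¹ * s * g ∈ K := hTK (hstT h1)
  have h3 := hKn.conj_mem _ h2 g
  simpa [mul_assoc] using h3


/-- orbits of a fixed-point-free element of prime order have `p` elements -/
theorem h18_ncard_orbit_zpowers {P : Type*} [Group P] [Finite P] {α : Type*} [MulAction P α]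
    (p : ℕ) [Fact p.Prime] (z : P) (hzo : orderOf z = p) (hzfix : ∀ x : α, z • x ≠ x) (y : α) :
    (orbit (Subgroup.zpowers z) y).ncard = p := by
  have hp := (Fact.out : p.Prime)
  have h1 : (orbit (Subgroup.zpowers z) y).ncard ∣ p := by
    rw [← index_stabilizer]
    have := (stabilizer (Subgroup.zpowers z) y).index_dvd_card
    rwa [Nat.card_zpowers, hzo] at this
  rcases (Nat.dvd_prime hp).mp h1 with h | h
  · exfalso
    obtain ⟨c, hc⟩ := Set.ncard_eq_one.mp h
    have h2 : y ∈ orbit (Subgroup.zpowers z) y := mem_orbit_self y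
    have h3 : z • y ∈ orbit (Subgroup.zpowers z) y :=
      ⟨⟨z, Subgroup.mem_zpowers z⟩, rfl⟩
    rw [hc, Set.mem_singleton_iff] at h2 h3
    exact hzfix y (h3.trans h2.symm)
  · exact h


/-- orbits of a subgroup of index `p` containing the point stabilisers of a transitive group on
`p ^ a` points have `p ^ (a - 1)` elements -/
theorem h18_ncard_orbit_index {P : Type*} [Group P] [Finite P] {α : Type*} [Finite α]
    [MulAction P α] (p : ℕ) [Fact p.Prime] (htr : ∀ x y : α, ∃ g : P, g • x = y)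
    (a : ℕ) (ha : 1 ≤ a) (hcard : Nat.card α = p ^ a) (K : Subgroup P) (hKidx : K.index = p)
    (hK : ∀ y : α, stabilizer P y ≤ K) (y : α) :
    (orbit K y).ncard = p ^ (a - 1) := by
  have hp := (Fact.out : p.Prime)
  have h1 : stabilizer K y = (stabilizer P y).subgroupOf K := by
    ext k
    rw [Subgroup.mem_subgroupOf, mem_stabilizer_iff, mem_stabilizer_iff, Subgroup.smul_def]
  have h2 : (orbit K y).ncard = (stabilizer P y).relIndex K := by
    rw [← index_stabilizer, h1]
    rfl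
  have h3 : (stabilizer P y).index = p ^ a := by
    rw [index_stabilizer, ← hcard]
    have : orbit P y = Set.univ := by
      ext w
      simp only [Set.mem_univ, iff_true]
      obtain ⟨g, hg⟩ := htr y w
      exact ⟨g, hg⟩
    rw [this, Set.ncard_univ]
  have h4 := Subgroup.relIndex_mul_index (hK y)
  rw [hKidx, h3] at h4
  rw [h2]
  have h5 : p ^ a = p ^ (a - 1) * p := by
    rw [← pow_succ]; congr 1; omega
  rw [h5] at h4
  exact Nat.eq_of_mul_eq_mul_right hp.pos h4


variable {α : Type*} [Fintype α] [DecidableEq α]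

/-- PIECE L9.  The transitive case: triples inside three big blocks. -/
theorem exists_big_setoid (a : ℕ) (ha : 2 ≤ a) (hcard : Fintype.card α = 3 ^ a)
    (S : Subgroup (alternatingGroup α)) (hS : IsPGroup 3 S)
    (htr : ∀ x y : α, ∃ g ∈ S, (g : Perm α) x = y) :
    ∃ r R : Setoid α, r ≤ R ∧ ClassCard r 3 ∧ ClassCard R (3 ^ (a - 1)) ∧
      S ≤ setoidStab r ∧ S ≤ setoidStab R := by
  have : Fact (Nat.Prime 3) := ⟨Nat.prime_three⟩
  have htr' : ∀ x y : α, ∃ g : S, g • x = y := by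
    intro x y
    obtain ⟨g, hg, h⟩ := htr x y
    exact ⟨⟨g, hg⟩, h⟩
  have hfaith : ∀ g : S, (∀ x : α, g • x = x) → g = 1 := by
    intro g h
    apply Subtype.ext
    apply Subtype.ext
    ext x
    exact h x
  obtain ⟨z, hzc, hzo, hzfix, K, hKn, hKidx, hzK, hKst⟩ :=
    h18_pgroup_blocks (P := S) (α := α) 3 hS htr' hfaith a ha
      (by rw [Nat.card_eq_fintype_card, hcard])
  have hcls : ∀ (H : Subgroup S) (x : α), {y : α | orbitRel H α x y} = orbit H x := by
    intro H x
    ext y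
    simp only [Set.mem_ofPred_eq, orbitRel_apply]
    exact mem_orbit_symm
  refine ⟨orbitRel (Subgroup.zpowers z) α, orbitRel K α, ?_, ?_, ?_, ?_, ?_⟩
  · rw [Setoid.le_def]
    intro x y hxy
    rw [orbitRel_apply] at hxy ⊢
    obtain ⟨⟨w, hw⟩, rfl⟩ := hxy
    exact ⟨⟨w, (Subgroup.zpowers_le.mpr hzK) hw⟩, rfl⟩
  · intro x
    rw [hcls]
    exact h18_ncard_orbit_zpowers 3 z hzo hzfix x
  · intro x
    rw [hcls]
    exact h18_ncard_orbit_index 3 htr' a (by omega) (by rw [Nat.card_eq_fintype_card, hcard]) K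
      hKidx hKst x
  · apply le_setoidStab_of_forall
    intro g hg x y hxy
    rw [orbitRel_apply] at hxy ⊢
    obtain ⟨⟨w, hw⟩, rfl⟩ := hxy
    refine ⟨⟨w, hw⟩, ?_⟩
    have hc : (⟨g, hg⟩ : S) * w = w * ⟨g, hg⟩ :=
      Subgroup.mem_center_iff.mp ((Subgroup.zpowers_le.mpr hzc) hw) _
    change w • ((⟨g, hg⟩ : S) • y) = (⟨g, hg⟩ : S) • (w • y)
    rw [← mul_smul, ← mul_smul, hc]
  · apply le_setoidStab_of_forall
    intro g hg x y hxy
    rw [orbitRel_apply] at hxy ⊢
    obtain ⟨⟨k, hk⟩, rfl⟩ := hxy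
    refine ⟨⟨(⟨g, hg⟩ : S) * k * (⟨g, hg⟩ : S)⁻¹, hKn.conj_mem k hk _⟩, ?_⟩
    change ((⟨g, hg⟩ : S) * k * (⟨g, hg⟩ : S)⁻¹) • ((⟨g, hg⟩ : S) • y) = (⟨g, hg⟩ : S) • (k • y)
    rw [← mul_smul, ← mul_smul, inv_mul_cancel_right]

end Cfsg.Agent.Lib.Helper11.PM3
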