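import Mathlib
import Cfsg.Prelude.Def_Characters
import Cfsg.Prelude.Def_Blocks
import Cfsg.Agent.Lib.Helper25.CharLinear
import Cfsg.Agent.Lib.Helper29.LeoOrbit
import Cfsg.Agent.Lib.helper7.BR.Defs
import Cfsg.Agent.Lib.Helper24.BT3POW

set_option autoImplicit false
set_option linter.unusedVariables false
set_option linter.unusedSectionVars false

namespace Cfsg.Agent.Lib.Helper13.BT3

open Classical
open scoped ComplexConjugate
open Cfsg.Agent.Lib.Helper25 Cfsg.Agent.Lib.Helper29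
open Cfsg.Agent.Lib.helper7.BR

universe u

/-- a divisor of `2^s r^t` is `2^α r^β` -/
theorem bt3arith_dvd (r s t c : ℕ) (hr : r.Prime) (hc : c ∣ 2 ^ s * r ^ t) :
    ∃ α β : ℕ, c = 2 ^ α * r ^ β := by
  obtain ⟨c1, c2, h1, h2, rfl⟩ := (Nat.dvd_mul).mp hc
  obtain ⟨α, _, rfl⟩ := (Nat.dvd_prime_pow Nat.prime_two).mp h1
  obtain ⟨β, _, rfl⟩ := (Nat.dvd_prime_pow hr).mp h2
  exact ⟨α, β, rfl⟩

/-- the core: natural number version -/
theorem bt3arith_nat (r s t i j α β w : ℕ) (hr : r.Prime) (hr2 : r ≠ 2) (hw : w ≠ 0) (hj : Odd j)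
    (h : 2 ^ s * r ^ t * w ^ 2 = (2 ^ α * r ^ β) ^ 2 * (2 ^ i * r ^ j)) : Odd t := by
  have : Fact r.Prime := ⟨hr⟩
  have : Fact (Nat.Prime 2) := ⟨Nat.prime_two⟩
  have h2 : padicValNat r 2 = 0 := padicValNat_primes (p := r) (q := 2) hr2
  have hr0 : r ≠ 0 := hr.ne_zero
  have hw2 : w ^ 2 ≠ 0 := pow_ne_zero _ hw
  have v2 : ∀ a : ℕ, padicValNat r (2 ^ a) = 0 := fun a => by
    rw [padicValNat.pow 2 a, h2, mul_zero]
  have vr : ∀ a : ℕ, padicValNat r (r ^ a) = a := fun a => padicValNat.prime_pow a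
  have vw : padicValNat r (w ^ 2) = 2 * padicValNat r w := padicValNat.pow w 2
  have hL : padicValNat r (2 ^ s * r ^ t * w ^ 2) = t + 2 * padicValNat r w := by
    rw [padicValNat.mul (by positivity) hw2, padicValNat.mul (by positivity) (by positivity), v2, vr, vw]
    ring
  have hR : padicValNat r ((2 ^ α * r ^ β) ^ 2 * (2 ^ i * r ^ j)) = 2 * β + j := by
    rw [padicValNat.mul (by positivity) (by positivity), padicValNat.pow _ 2,
      padicValNat.mul (by positivity) (by positivity), padicValNat.mul (by positivity) (by positivity),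
      v2, vr, v2, vr]
    ring
  have hv : t + 2 * padicValNat r w = 2 * β + j := by rw [← hL, ← hR, h]
  obtain ⟨k, hk⟩ := hj
  rw [Nat.odd_iff]
  omega

/-- ARITH -/
theorem odd_exponent (r s t m c : ℕ) (u : ℤ) (hr : r.Prime) (hr5 : 5 ≤ r) (hm2 : 2 ≤ m)
    (hm3 : (3 : ℤ) ∣ (m : ℤ) - 1) (hmd : m ∣ 3 * 2 ^ s * r ^ t) (hm1d : m + 1 ∣ 3 * 2 ^ s * r ^ t)
    (hcd : c ∣ 3 * 2 ^ s * r ^ t) (hc3 : ¬ 3 ∣ c) (hum : u ≠ (m : ℤ))
    (hform : ((3 * 2 ^ s * r ^ t : ℕ) : ℤ) * ((m : ℤ) - u) ^ 2 =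
      3 * (c : ℤ) ^ 2 * (m : ℤ) * ((m : ℤ) + 1)) : Odd t := by
  have hr2 : r ≠ 2 := by omega
  have p3 : Nat.Prime 3 := Nat.prime_three
  -- m mod 3 = 1
  have hm3' : m % 3 = 1 := by omega
  have h3m : Nat.Coprime m 3 := by
    rw [Nat.coprime_comm, Nat.Prime.coprime_iff_not_dvd p3]; omega
  have h3m1 : Nat.Coprime (m + 1) 3 := by
    rw [Nat.coprime_comm, Nat.Prime.coprime_iff_not_dvd p3]; omega
  have h3c : Nat.Coprime c 3 := by
    rw [Nat.coprime_comm, Nat.Prime.coprime_iff_not_dvd p3]; exact hc3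
  have e3 : 3 * 2 ^ s * r ^ t = 3 * (2 ^ s * r ^ t) := by ring
  rw [e3] at hmd hm1d hcd
  have hmd' : m ∣ 2 ^ s * r ^ t := h3m.dvd_of_dvd_mul_left hmd
  have hm1d' : m + 1 ∣ 2 ^ s * r ^ t := h3m1.dvd_of_dvd_mul_left hm1d
  have hcd' : c ∣ 2 ^ s * r ^ t := h3c.dvd_of_dvd_mul_left hcd
  obtain ⟨α, β, rfl⟩ := bt3arith_dvd r s t c hr hcd'
  -- the shapes of m, m+1
  have key : ∃ i j : ℕ, Odd j ∧ m * (m + 1) = 2 ^ i * r ^ j := by
    have hcop2r : ∀ a b : ℕ, Nat.Coprime (2 ^ a) (r ^ b) := fun a b =>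
      Nat.Coprime.pow _ _ ((Nat.coprime_primes Nat.prime_two hr).mpr (Ne.symm hr2))
    rcases Nat.even_or_odd m with hme | hmo
    · -- m even, m + 1 odd: m + 1 = r^j, m = 2^i
      have hodd : Odd (m + 1) := hme.add_one
      have hc2 : Nat.Coprime (m + 1) (2 ^ s) := (Nat.Coprime.pow_right s (Nat.coprime_two_right.mpr hodd))
      have h1 : m + 1 ∣ r ^ t := hc2.dvd_of_dvd_mul_left hm1d'
      obtain ⟨j, hjt, hj⟩ := (Nat.dvd_prime_pow hr).mp h1
      have hcm : Nat.Coprime m (r ^ t) := by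
        rcases Nat.eq_zero_or_pos j with h0 | hpos
        · rw [h0, pow_zero] at hj; omega
        · have : Nat.Coprime m (m + 1) := by simp
          rw [hj] at this
          have : Nat.Coprime m r := (Nat.coprime_pow_right_iff hpos _ _).mp this
          exact Nat.Coprime.pow_right t this
      have h2 : m ∣ 2 ^ s := hcm.dvd_of_dvd_mul_right hmd'
      obtain ⟨i, his, hi⟩ := (Nat.dvd_prime_pow Nat.prime_two).mp h2
      have hj1 : 1 ≤ j := by
        rcases Nat.eq_zero_or_pos j with h0 | hpos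
        · rw [h0, pow_zero] at hj; omega
        · exact hpos
      have hjo : Odd j := pow_two_pm r i j hr hr5 hj1 (Or.inl (by rw [← hj, hi]))
      exact ⟨i, j, hjo, by rw [hj, hi]⟩
    · -- m odd: m = r^j, m + 1 = 2^i
      have hc2 : Nat.Coprime m (2 ^ s) := (Nat.Coprime.pow_right s (Nat.coprime_two_right.mpr hmo))
      have h1 : m ∣ r ^ t := hc2.dvd_of_dvd_mul_left hmd'
      obtain ⟨j, hjt, hj⟩ := (Nat.dvd_prime_pow hr).mp h1
      have hj1 : 1 ≤ j := by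
        rcases Nat.eq_zero_or_pos j with h0 | hpos
        · rw [h0, pow_zero] at hj; omega
        · exact hpos
      have hcm : Nat.Coprime (m + 1) (r ^ t) := by
        have : Nat.Coprime (m + 1) m := by simp
        rw [hj] at this
        have : Nat.Coprime (r ^ j + 1) r := (Nat.coprime_pow_right_iff hj1 _ _).mp this
        rw [hj]
        exact Nat.Coprime.pow_right t this
      have h2 : m + 1 ∣ 2 ^ s := hcm.dvd_of_dvd_mul_right hm1d'
      obtain ⟨i, his, hi⟩ := (Nat.dvd_prime_pow Nat.prime_two).mp h2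
      have hjo : Odd j := pow_two_pm r i j hr hr5 hj1 (Or.inr (by rw [← hj, hi]))
      exact ⟨i, j, hjo, by rw [hi, hj]; ring⟩
  obtain ⟨i, j, hjo, hmm⟩ := key
  -- natural number form of the formula
  set w : ℕ := ((m : ℤ) - u).natAbs with hw
  have hw0 : w ≠ 0 := by
    rw [hw]; intro h0
    have : (m : ℤ) - u = 0 := Int.natAbs_eq_zero.mp h0
    exact hum (by linarith)
  have hwsq : ((m : ℤ) - u) ^ 2 = ((w : ℕ) : ℤ) ^ 2 := by
    rw [hw, Int.natAbs_sq]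
  have hnat : 2 ^ s * r ^ t * w ^ 2 = (2 ^ α * r ^ β) ^ 2 * (2 ^ i * r ^ j) := by
    have hZ : ((2 ^ s * r ^ t * w ^ 2 : ℕ) : ℤ) = (((2 ^ α * r ^ β) ^ 2 * (2 ^ i * r ^ j) : ℕ) : ℤ) := by
      have hmmZ : (m : ℤ) * ((m : ℤ) + 1) = ((2 ^ i * r ^ j : ℕ) : ℤ) := by
        rw [← hmm]; push_cast; ring
      rw [hwsq] at hform
      have : (3 : ℤ) * (((2 ^ s * r ^ t * w ^ 2 : ℕ) : ℤ)) =
          3 * (((2 ^ α * r ^ β) ^ 2 * (2 ^ i * r ^ j) : ℕ) : ℤ) := by
        push_cast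
        push_cast at hform hmmZ
        have h1 : (3 : ℤ) * (2 ^ s * r ^ t * w ^ 2) = 3 * 2 ^ s * r ^ t * w ^ 2 := by ring
        rw [h1, hform]
        have h2 : (3 : ℤ) * (2 ^ α * (r : ℤ) ^ β) ^ 2 * (m : ℤ) * ((m : ℤ) + 1) =
            3 * ((2 ^ α * (r : ℤ) ^ β) ^ 2 * ((m : ℤ) * ((m : ℤ) + 1))) := by ring
        rw [h2, hmmZ]
      linarith
    exact_mod_cast hZ
  exact bt3arith_nat r s t i j α β w hr hr2 hw0 hjo hnat

end Cfsg.Agent.Lib.Helper13.BT3
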