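import Mathlib
import Cfsg.Prelude.Def_Characters
import Cfsg.Prelude.Def_Blocks
import Cfsg.Agent.Lib.Helper25.CharLinear
import Cfsg.Agent.Lib.Helper29.LeoOrbit
import Cfsg.Agent.Lib.helper7.BR.Defs
import Cfsg.Agent.Lib.helper2.Burnside2

set_option autoImplicit false
set_option linter.unusedVariables false
set_option linter.unusedSectionVars false

namespace Cfsg.Agent.Lib.Helper13.BT3

open Classical
open scoped ComplexConjugate
open Cfsg.Agent.Lib.Helper25 Cfsg.Agent.Lib.Helper29
open Cfsg.Agent.Lib.helper7.BR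

universe u

variable {G : Type u} [Group G] [Fintype G]

/-- BURN2 : Burnside's two-prime theorem (`Cfsg.Agent.S0144.result`, `Helper24.g42_paqb`) for a simple group -/
theorem not_two_primes [IsSimpleGroup G] (hnc : ¬ ∀ x y : G, x * y = y * x) (p q a b : ℕ)
    (hp : p.Prime) (hq : q.Prime) (hcard : Nat.card G = p ^ a * q ^ b) : False := by
  have hs : Group.IsSolvable G := Cfsg.Agent.Lib.helper2.burnside_pq p q a b hp hq hcard
  exact hnc ((IsSimpleGroup.comm_iff_isSolvable).mpr hs)

end Cfsg.Agent.Lib.Helper13.BT3
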