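import Mathlib
import Cfsg.Agent.Lib.helper3.SP4.Defs

/-!
# Project SP4 (designer helper3), row E3: `bn_union8` (closure induction; pure group theory).
-/

set_option autoImplicit false

namespace Cfsg.Agent.Lib.helper3.SP4

open Cfsg.Agent.Lib.helper17.SLP

universe u v

section E

variable {G : Type u} [Group G]

/-- `1 ∈ Cell8` -/
theorem sp4e3_one_mem (B : Subgroup G) (n1 n2 : G) : (1 : G) ∈ Cell8 B n1 n2 :=
  ⟨1, by simp [cells8], 1, one_mem _, 1, one_mem _, by simp⟩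

/-- `Cell8` is stable under left multiplication by `B` -/
theorem sp4e3_B_mul (B : Subgroup G) (n1 n2 : G) (b : G) (hb : b ∈ B) (y : G) (hy : y ∈ Cell8 B n1 n2) :
    b * y ∈ Cell8 B n1 n2 := by
  obtain ⟨m, hm, b₁, hb₁, b₂, hb₂, rfl⟩ := hy
  exact ⟨m, hm, b * b₁, mul_mem hb hb₁, b₂, hb₂, by simp only [mul_assoc]⟩

/-- E3 [S-M]. -/
theorem bn_union8 (B : Subgroup G) (n1 n2 : G) (h1 : n1 ^ 2 ∈ B) (h2 : n2 ^ 2 ∈ B)
    (hn1 : ∀ g ∈ Cell8 B n1 n2, n1 * g ∈ Cell8 B n1 n2)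
    (hn2 : ∀ g ∈ Cell8 B n1 n2, n2 * g ∈ Cell8 B n1 n2)
    (hgen : Subgroup.closure ((B : Set G) ∪ {n1, n2}) = ⊤) : ∀ g : G, g ∈ Cell8 B n1 n2 := by
  -- stability under `n⁻¹ = (n²)⁻¹ * n`
  have hinv : ∀ n : G, n ^ 2 ∈ B → (∀ g ∈ Cell8 B n1 n2, n * g ∈ Cell8 B n1 n2) →
      ∀ g ∈ Cell8 B n1 n2, n⁻¹ * g ∈ Cell8 B n1 n2 := by
    intro n hn hst g hg
    have : n⁻¹ * g = (n ^ 2)⁻¹ * (n * g) := by
      rw [sq]; simp [mul_assoc]
    rw [this]
    exact sp4e3_B_mul B n1 n2 _ (inv_mem hn) _ (hst g hg)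
  have key : ∀ g : G, g ∈ Subgroup.closure ((B : Set G) ∪ {n1, n2}) →
      (∀ y ∈ Cell8 B n1 n2, g * y ∈ Cell8 B n1 n2) ∧ (∀ y ∈ Cell8 B n1 n2, g⁻¹ * y ∈ Cell8 B n1 n2) := by
    intro g hg
    induction hg using Subgroup.closure_induction with
    | mem x hx =>
      rcases hx with hx | hx | hx
      · exact ⟨fun y hy => sp4e3_B_mul B n1 n2 x hx y hy,
          fun y hy => sp4e3_B_mul B n1 n2 x⁻¹ (inv_mem hx) y hy⟩
      · subst hx
        exact ⟨hn1, hinv _ h1 hn1⟩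
      · rw [Set.mem_singleton_iff] at hx
        subst hx
        exact ⟨hn2, hinv _ h2 hn2⟩
    | one =>
      exact ⟨fun y hy => by rwa [one_mul], fun y hy => by rwa [inv_one, one_mul]⟩
    | mul x y _ _ hx hy =>
      refine ⟨fun z hz => ?_, fun z hz => ?_⟩
      · rw [mul_assoc]
        exact hx.1 _ (hy.1 z hz)
      · rw [mul_inv_rev, mul_assoc]
        exact hy.2 _ (hx.2 z hz)
    | inv x _ hx =>
      exact ⟨hx.2, by rw [inv_inv]; exact hx.1⟩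
  intro g
  have hg : g ∈ Subgroup.closure ((B : Set G) ∪ {n1, n2}) := by rw [hgen]; trivial
  have := (key g hg).1 1 (sp4e3_one_mem B n1 n2)
  rwa [mul_one] at this

end E

end Cfsg.Agent.Lib.helper3.SP4
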