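import Mathlib
import Cfsg.Agent.Lib.helper3.SP4.Defs

/-!
# Project SP4 (designer helper3), row E4 (`bn_count8`), SPARE copy by helper18 under the own name
`sp4e4_h18_bn_count8` (exact Skel statement).  Generic word lemma: for a word `L = [(n₁, Y₁), …, (n_k, Y_k)]` with the
push property `n_i * g = b * n_i * y` every element of `B (n₁ ⋯ n_k) B` is `b * n₁ y₁ ⋯ n_k y_k`.
-/

set_option autoImplicit false

namespace Cfsg.Agent.Lib.helper3.SP4

open Cfsg.Agent.Lib.helper17.SLP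

universe u v

section E

variable {G : Type u} [Group G]

/-- the product of the Weyl letters of a word -/
def sp4e4_prodN : List (G × Finset G) → G
  | [] => 1
  | p :: L => p.1 * sp4e4_prodN L

/-- the tails `n₁ y₁ n₂ y₂ ⋯ n_k y_k` of a word -/
def sp4e4_tails [DecidableEq G] : List (G × Finset G) → Finset G
  | [] => {1}
  | p :: L => (p.2 ×ˢ sp4e4_tails L).image (fun z => p.1 * z.1 * z.2)

theorem sp4e4_tails_card [DecidableEq G] (q : ℕ) (L : List (G × Finset G)) (hL : ∀ p ∈ L, p.2.card ≤ q) :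
    (sp4e4_tails L).card ≤ q ^ L.length := by
  induction L with
  | nil => simp [sp4e4_tails]
  | cons p L ih =>
    have h1 : p.2.card ≤ q := hL p (by simp)
    have h2 := ih (fun p' hp' => hL p' (by simp [hp']))
    simp only [sp4e4_tails, List.length_cons]
    refine le_trans Finset.card_image_le ?_
    rw [Finset.card_product, pow_succ, mul_comm (q ^ L.length) q]
    exact Nat.mul_le_mul h1 h2

/-- pushing `b₂` through a word -/
theorem sp4e4_push [DecidableEq G] (B : Subgroup G) (L : List (G × Finset G))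
    (hL : ∀ p ∈ L, ∀ g ∈ B, ∃ b ∈ B, ∃ y ∈ p.2, p.1 * g = b * p.1 * y) (b₂ : G) (h₂ : b₂ ∈ B) :
    ∃ b ∈ B, ∃ t ∈ sp4e4_tails L, sp4e4_prodN L * b₂ = b * t := by
  induction L with
  | nil => exact ⟨b₂, h₂, 1, by simp [sp4e4_tails], by simp [sp4e4_prodN]⟩
  | cons p L ih =>
    obtain ⟨b', hb', t', ht', e'⟩ := ih (fun p' hp' => hL p' (by simp [hp']))
    obtain ⟨b, hb, y, hy, e⟩ := hL p (by simp) b' hb'
    refine ⟨b, hb, p.1 * y * t', ?_, ?_⟩
    · simp only [sp4e4_tails]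
      exact Finset.mem_image.mpr ⟨(y, t'), Finset.mem_product.mpr ⟨hy, ht'⟩, rfl⟩
    · calc sp4e4_prodN (p :: L) * b₂ = p.1 * (sp4e4_prodN L * b₂) := by
            simp only [sp4e4_prodN, mul_assoc]
        _ = p.1 * (b' * t') := by rw [e']
        _ = (p.1 * b') * t' := by simp only [mul_assoc]
        _ = (b * p.1 * y) * t' := by rw [e]
        _ = b * (p.1 * y * t') := by simp only [mul_assoc]

/-- the cell `B * tails` of a word -/
def sp4e4_cell [DecidableEq G] (Bf : Finset G) (L : List (G × Finset G)) : Finset G :=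
  (Bf ×ˢ sp4e4_tails L).image (fun z => z.1 * z.2)

theorem sp4e4_cell_card [DecidableEq G] (Bf : Finset G) (q : ℕ) (L : List (G × Finset G))
    (hL : ∀ p ∈ L, p.2.card ≤ q) : (sp4e4_cell Bf L).card ≤ Bf.card * q ^ L.length := by
  refine le_trans Finset.card_image_le ?_
  rw [Finset.card_product]
  exact Nat.mul_le_mul_left _ (sp4e4_tails_card q L hL)

theorem sp4e4_mem_cell [DecidableEq G] (B : Subgroup G) (Bf : Finset G) (hBf : ∀ g, g ∈ Bf ↔ g ∈ B)
    (L : List (G × Finset G))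
    (hL : ∀ p ∈ L, ∀ g ∈ B, ∃ b ∈ B, ∃ y ∈ p.2, p.1 * g = b * p.1 * y) (b₁ b₂ : G) (h₁ : b₁ ∈ B)
    (h₂ : b₂ ∈ B) : b₁ * sp4e4_prodN L * b₂ ∈ sp4e4_cell Bf L := by
  obtain ⟨b, hb, t, ht, e⟩ := sp4e4_push B L hL b₂ h₂
  have : b₁ * sp4e4_prodN L * b₂ = (b₁ * b) * t := by
    rw [mul_assoc, e, mul_assoc]
  rw [this]
  exact Finset.mem_image.mpr ⟨(b₁ * b, t), Finset.mem_product.mpr
    ⟨(hBf _).mpr (B.mul_mem h₁ hb), ht⟩, rfl⟩

/-- E4 [M] (spare). -/
theorem sp4e4_h18_bn_count8 (B : Subgroup G) [Finite B] (n1 n2 : G) (X1 X2 : Set G) (q : ℕ)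
    (hX1 : X1.Finite ∧ X1.ncard ≤ q) (hX2 : X2.Finite ∧ X2.ncard ≤ q)
    (hc1 : ∀ g ∈ B, ∃ b ∈ B, ∃ y ∈ X1, n1 * g = b * n1 * y)
    (hc2 : ∀ g ∈ B, ∃ b ∈ B, ∃ y ∈ X2, n2 * g = b * n2 * y)
    (hall : ∀ g : G, g ∈ Cell8 B n1 n2) :
    Finite G ∧ Nat.card G ≤ Nat.card B * (1 + 2 * q + 2 * q ^ 2 + 2 * q ^ 3 + q ^ 4) := by
  classical
  have hBfin : (B : Set G).Finite := Set.toFinite _
  set Bf : Finset G := hBfin.toFinset with hBf
  set Y1 : Finset G := hX1.1.toFinset with hY1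
  set Y2 : Finset G := hX2.1.toFinset with hY2
  have hBmem : ∀ g, g ∈ Bf ↔ g ∈ B := fun g => by rw [hBf, Set.Finite.mem_toFinset]; rfl
  have hY1mem : ∀ g, g ∈ Y1 ↔ g ∈ X1 := fun g => by rw [hY1, Set.Finite.mem_toFinset]
  have hY2mem : ∀ g, g ∈ Y2 ↔ g ∈ X2 := fun g => by rw [hY2, Set.Finite.mem_toFinset]
  have hBcard : Bf.card = Nat.card B := by
    rw [hBf, ← Set.ncard_eq_toFinset_card _ hBfin]
    exact (Nat.card_coe_set_eq (B : Set G))
  have hY1card : Y1.card ≤ q := by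
    rw [hY1, ← Set.ncard_eq_toFinset_card _ hX1.1]; exact hX1.2
  have hY2card : Y2.card ≤ q := by
    rw [hY2, ← Set.ncard_eq_toFinset_card _ hX2.1]; exact hX2.2
  -- the two letters
  let l1 : G × Finset G := (n1, Y1)
  let l2 : G × Finset G := (n2, Y2)
  have hl1 : ∀ g ∈ B, ∃ b ∈ B, ∃ y ∈ l1.2, l1.1 * g = b * l1.1 * y := by
    intro g hg
    obtain ⟨b, hb, y, hy, e⟩ := hc1 g hg
    exact ⟨b, hb, y, (hY1mem y).mpr hy, e⟩
  have hl2 : ∀ g ∈ B, ∃ b ∈ B, ∃ y ∈ l2.2, l2.1 * g = b * l2.1 * y := by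
    intro g hg
    obtain ⟨b, hb, y, hy, e⟩ := hc2 g hg
    exact ⟨b, hb, y, (hY2mem y).mpr hy, e⟩
  -- the eight words
  let W : List (List (G × Finset G)) :=
    [[], [l1], [l2], [l1, l2], [l2, l1], [l1, l2, l1], [l2, l1, l2], [l1, l2, l1, l2]]
  have hWpush : ∀ L ∈ W, ∀ p ∈ L, ∀ g ∈ B, ∃ b ∈ B, ∃ y ∈ p.2, p.1 * g = b * p.1 * y := by
    intro L hL p hp
    have : p = l1 ∨ p = l2 := by
      simp only [W, List.mem_cons, List.not_mem_nil, or_false] at hL
      rcases hL with rfl | rfl | rfl | rfl | rfl | rfl | rfl | rfl <;> simp at hp <;> tauto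
    rcases this with rfl | rfl
    · exact hl1
    · exact hl2
  have hWcard : ∀ L ∈ W, ∀ p ∈ L, p.2.card ≤ q := by
    intro L hL p hp
    have : p = l1 ∨ p = l2 := by
      simp only [W, List.mem_cons, List.not_mem_nil, or_false] at hL
      rcases hL with rfl | rfl | rfl | rfl | rfl | rfl | rfl | rfl <;> simp at hp <;> tauto
    rcases this with rfl | rfl
    · exact hY1card
    · exact hY2card
  let T : Finset G := (W.map (sp4e4_cell Bf)).foldr (· ∪ ·) ∅
  have hTmem : ∀ g, g ∈ T ↔ ∃ L ∈ W, g ∈ sp4e4_cell Bf L := by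
    intro g
    simp only [T, W, List.map_cons, List.map_nil, List.foldr_cons, List.foldr_nil, Finset.mem_union,
      Finset.notMem_empty, or_false, List.mem_cons, List.not_mem_nil, exists_eq_or_imp, exists_eq_left]
  have hcov : ∀ g : G, g ∈ T := by
    intro g
    obtain ⟨m, hm, b₁, h₁, b₂, h₂, hg⟩ := hall g
    rw [hTmem]
    simp only [cells8, Set.mem_insert_iff, Set.mem_singleton_iff] at hm
    have key : ∀ L ∈ W, m = sp4e4_prodN L → ∃ L ∈ W, g ∈ sp4e4_cell Bf L := by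
      intro L hL hmL
      refine ⟨L, hL, ?_⟩
      rw [hg, hmL]
      exact sp4e4_mem_cell B Bf hBmem L (hWpush L hL) b₁ b₂ h₁ h₂
    rcases hm with hm | hm | hm | hm | hm | hm | hm | hm
    · exact key [] (by simp [W]) (by simp [hm, sp4e4_prodN])
    · exact key [l1] (by simp [W]) (by simp [hm, sp4e4_prodN, l1])
    · exact key [l2] (by simp [W]) (by simp [hm, sp4e4_prodN, l2])
    · exact key [l1, l2] (by simp [W]) (by simp [hm, sp4e4_prodN, l1, l2])
    · exact key [l2, l1] (by simp [W]) (by simp [hm, sp4e4_prodN, l1, l2])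
    · exact key [l1, l2, l1] (by simp [W]) (by simp [hm, sp4e4_prodN, l1, l2, mul_assoc])
    · exact key [l2, l1, l2] (by simp [W]) (by simp [hm, sp4e4_prodN, l1, l2, mul_assoc])
    · exact key [l1, l2, l1, l2] (by simp [W]) (by simp [hm, sp4e4_prodN, l1, l2, mul_assoc])
  have hfin : Finite G := by
    have : (Set.univ : Set G) ⊆ (T : Set G) := fun g _ => hcov g
    exact Set.finite_univ_iff.mp (Set.Finite.subset T.finite_toSet this)
  refine ⟨hfin, ?_⟩
  have hcard : Nat.card G ≤ T.card := by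
    have : Fintype G := Fintype.ofFinite G
    rw [Nat.card_eq_fintype_card, ← Finset.card_univ]
    exact Finset.card_le_card (fun g _ => hcov g)
  have hc : ∀ L ∈ W, (sp4e4_cell Bf L).card ≤ Nat.card B * q ^ L.length := by
    intro L hL
    rw [← hBcard]
    exact sp4e4_cell_card Bf q L (hWcard L hL)
  have hT : T.card ≤ (sp4e4_cell Bf []).card + ((sp4e4_cell Bf [l1]).card + ((sp4e4_cell Bf [l2]).card +
      ((sp4e4_cell Bf [l1, l2]).card + ((sp4e4_cell Bf [l2, l1]).card + ((sp4e4_cell Bf [l1, l2, l1]).card +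
      ((sp4e4_cell Bf [l2, l1, l2]).card + ((sp4e4_cell Bf [l1, l2, l1, l2]).card + 0))))))) := by
    simp only [T, W, List.map_cons, List.map_nil, List.foldr_cons, List.foldr_nil]
    refine le_trans (Finset.card_union_le _ _) (Nat.add_le_add_left ?_ _)
    refine le_trans (Finset.card_union_le _ _) (Nat.add_le_add_left ?_ _)
    refine le_trans (Finset.card_union_le _ _) (Nat.add_le_add_left ?_ _)
    refine le_trans (Finset.card_union_le _ _) (Nat.add_le_add_left ?_ _)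
    refine le_trans (Finset.card_union_le _ _) (Nat.add_le_add_left ?_ _)
    refine le_trans (Finset.card_union_le _ _) (Nat.add_le_add_left ?_ _)
    refine le_trans (Finset.card_union_le _ _) (Nat.add_le_add_left ?_ _)
    refine le_trans (Finset.card_union_le _ _) (Nat.add_le_add_left ?_ _)
    simp
  have e0 := hc [] (by simp [W])
  have e1 := hc [l1] (by simp [W])
  have e2 := hc [l2] (by simp [W])
  have e12 := hc [l1, l2] (by simp [W])
  have e21 := hc [l2, l1] (by simp [W])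
  have e121 := hc [l1, l2, l1] (by simp [W])
  have e212 := hc [l2, l1, l2] (by simp [W])
  have e1212 := hc [l1, l2, l1, l2] (by simp [W])
  simp only [List.length_nil, List.length_cons, pow_zero, mul_one] at e0 e1 e2 e12 e21 e121 e212 e1212
  calc Nat.card G ≤ T.card := hcard
    _ ≤ _ := hT
    _ ≤ Nat.card B + (Nat.card B * q ^ (0 + 1) + (Nat.card B * q ^ (0 + 1) + (Nat.card B * q ^ (0 + 1 + 1) +
          (Nat.card B * q ^ (0 + 1 + 1) + (Nat.card B * q ^ (0 + 1 + 1 + 1) + (Nat.card B * q ^ (0 + 1 + 1 + 1) +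
          (Nat.card B * q ^ (0 + 1 + 1 + 1 + 1) + 0))))))) := by
        omega
    _ = Nat.card B * (1 + 2 * q + 2 * q ^ 2 + 2 * q ^ 3 + q ^ 4) := by ring

end E

end Cfsg.Agent.Lib.helper3.SP4
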