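import Mathlib
import Cfsg.Agent.Lib.helper3.SP4.Defs

/-!
# Project SP4 (designer helper3), row E5: `U4_subgroup` (from the root datum `RD4`).
-/

set_option autoImplicit false

namespace Cfsg.Agent.Lib.helper3.SP4

open Cfsg.Agent.Lib.helper17.SLP

universe u v

section E

variable {G : Type u} [Group G]

variable (q : ℕ) (T Xa Xb Xc Xd : Subgroup G) (n1 n2 : G)

/-- the abelian-like part `A = Xb Xc Xd` (pairwise commuting root groups) as a subgroup -/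
def sp4e5_A (D : RD4 q T Xa Xb Xc Xd n1 n2) : Subgroup G where
  carrier := {g | ∃ b ∈ Xb, ∃ c ∈ Xc, ∃ d ∈ Xd, g = b * c * d}
  one_mem' := ⟨1, one_mem _, 1, one_mem _, 1, one_mem _, by simp⟩
  mul_mem' := by
    rintro _ _ ⟨b, hb, c, hc, d, hd, rfl⟩ ⟨b', hb', c', hc', d', hd', rfl⟩
    refine ⟨b * b', mul_mem hb hb', c * c', mul_mem hc hc', d * d', mul_mem hd hd', ?_⟩
    have h1 : d * b' = b' * d := ((D.cbd b' hb' d hd).eq).symm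
    have h2 : d * c' = c' * d := ((D.ccd c' hc' d hd).eq).symm
    have h3 : c * b' = b' * c := ((D.cbc b' hb' c hc).eq).symm
    calc b * c * d * (b' * c' * d') = b * c * (d * b') * c' * d' := by simp only [mul_assoc]
      _ = b * c * (b' * d) * c' * d' := by rw [h1]
      _ = b * (c * b') * (d * c') * d' := by simp only [mul_assoc]
      _ = b * (b' * c) * (c' * d) * d' := by rw [h3, h2]
      _ = b * b' * (c * c') * (d * d') := by simp only [mul_assoc]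
  inv_mem' := by
    rintro _ ⟨b, hb, c, hc, d, hd, rfl⟩
    refine ⟨b⁻¹, inv_mem hb, c⁻¹, inv_mem hc, d⁻¹, inv_mem hd, ?_⟩
    have h1 : d⁻¹ * c⁻¹ = c⁻¹ * d⁻¹ := ((D.ccd c⁻¹ (inv_mem hc) d⁻¹ (inv_mem hd)).eq).symm
    have h2 : d⁻¹ * b⁻¹ = b⁻¹ * d⁻¹ := ((D.cbd b⁻¹ (inv_mem hb) d⁻¹ (inv_mem hd)).eq).symm
    have h3 : c⁻¹ * b⁻¹ = b⁻¹ * c⁻¹ := ((D.cbc b⁻¹ (inv_mem hb) c⁻¹ (inv_mem hc)).eq).symm
    calc (b * c * d)⁻¹ = d⁻¹ * c⁻¹ * b⁻¹ := by simp only [mul_inv_rev, mul_assoc]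
      _ = c⁻¹ * (d⁻¹ * b⁻¹) := by rw [h1]; simp only [mul_assoc]
      _ = (c⁻¹ * b⁻¹) * d⁻¹ := by rw [h2]; simp only [mul_assoc]
      _ = b⁻¹ * c⁻¹ * d⁻¹ := by rw [h3]

theorem sp4e5_mem_A (D : RD4 q T Xa Xb Xc Xd n1 n2) (g : G) :
    g ∈ sp4e5_A q T Xa Xb Xc Xd n1 n2 D ↔ ∃ b ∈ Xb, ∃ c ∈ Xc, ∃ d ∈ Xd, g = b * c * d := Iff.rfl

theorem sp4e5_b_le (D : RD4 q T Xa Xb Xc Xd n1 n2) : Xb ≤ sp4e5_A q T Xa Xb Xc Xd n1 n2 D :=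
  fun b hb => ⟨b, hb, 1, one_mem _, 1, one_mem _, by simp⟩

theorem sp4e5_c_le (D : RD4 q T Xa Xb Xc Xd n1 n2) : Xc ≤ sp4e5_A q T Xa Xb Xc Xd n1 n2 D :=
  fun c hc => ⟨1, one_mem _, c, hc, 1, one_mem _, by simp⟩

theorem sp4e5_d_le (D : RD4 q T Xa Xb Xc Xd n1 n2) : Xd ≤ sp4e5_A q T Xa Xb Xc Xd n1 n2 D :=
  fun d hd => ⟨1, one_mem _, 1, one_mem _, d, hd, by simp⟩

/-- `Xa` normalises `A` -/
theorem sp4e5_conj (D : RD4 q T Xa Xb Xc Xd n1 n2) (a : G) (ha : a ∈ Xa) (α : G)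
    (hα : α ∈ sp4e5_A q T Xa Xb Xc Xd n1 n2 D) : a * α * a⁻¹ ∈ sp4e5_A q T Xa Xb Xc Xd n1 n2 D := by
  obtain ⟨b, hb, c, hc, d, hd, rfl⟩ := hα
  have hb' : a * b * a⁻¹ ∈ sp4e5_A q T Xa Xb Xc Xd n1 n2 D := by
    obtain ⟨c₁, hc₁, d₁, hd₁, h⟩ := D.cab a ha b hb
    have : a * b * a⁻¹ = (c₁ * d₁) * b := by
      rw [← h]; simp [mul_assoc]
    rw [this]
    exact mul_mem (mul_mem (sp4e5_c_le q T Xa Xb Xc Xd n1 n2 D hc₁) (sp4e5_d_le q T Xa Xb Xc Xd n1 n2 D hd₁))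
      (sp4e5_b_le q T Xa Xb Xc Xd n1 n2 D hb)
  have hc' : a * c * a⁻¹ ∈ sp4e5_A q T Xa Xb Xc Xd n1 n2 D := by
    have h := D.cac a ha c hc
    have : a * c * a⁻¹ = (a * c * a⁻¹ * c⁻¹) * c := by simp [mul_assoc]
    rw [this]
    exact mul_mem (sp4e5_d_le q T Xa Xb Xc Xd n1 n2 D h) (sp4e5_c_le q T Xa Xb Xc Xd n1 n2 D hc)
  have hd' : a * d * a⁻¹ ∈ sp4e5_A q T Xa Xb Xc Xd n1 n2 D := by
    have h := (D.cad a ha d hd).eq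
    have : a * d * a⁻¹ = d := by rw [h]; simp [mul_assoc]
    rw [this]
    exact sp4e5_d_le q T Xa Xb Xc Xd n1 n2 D hd
  have : a * (b * c * d) * a⁻¹ = (a * b * a⁻¹) * (a * c * a⁻¹) * (a * d * a⁻¹) := by
    simp [mul_assoc]
  rw [this]
  exact mul_mem (mul_mem hb' hc') hd'

/-- E5 [M]. -/
theorem U4_subgroup (D : RD4 q T Xa Xb Xc Xd n1 n2) :
    ∃ U : Subgroup G, (∀ g, g ∈ U ↔ ∃ a ∈ Xa, ∃ b ∈ Xb, ∃ c ∈ Xc, ∃ d ∈ Xd, g = a * b * c * d) ∧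
      Finite U ∧ Nat.card U ≤ q ^ 4 := by
  let A := sp4e5_A q T Xa Xb Xc Xd n1 n2 D
  let U : Subgroup G :=
    { carrier := {g | ∃ a ∈ Xa, ∃ α ∈ A, g = a * α}
      one_mem' := ⟨1, one_mem _, 1, one_mem _, by simp⟩
      mul_mem' := by
        rintro _ _ ⟨a, ha, α, hα, rfl⟩ ⟨a', ha', α', hα', rfl⟩
        have h := sp4e5_conj q T Xa Xb Xc Xd n1 n2 D a'⁻¹ (inv_mem ha') α hα
        rw [inv_inv] at h
        refine ⟨a * a', mul_mem ha ha', (a'⁻¹ * α * a') * α', mul_mem h hα', ?_⟩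
        simp [mul_assoc]
      inv_mem' := by
        rintro _ ⟨a, ha, α, hα, rfl⟩
        have h := sp4e5_conj q T Xa Xb Xc Xd n1 n2 D a ha α⁻¹ (inv_mem hα)
        refine ⟨a⁻¹, inv_mem ha, a * α⁻¹ * a⁻¹, h, ?_⟩
        simp [mul_assoc] }
  have hU : ∀ g, g ∈ U ↔ ∃ a ∈ Xa, ∃ b ∈ Xb, ∃ c ∈ Xc, ∃ d ∈ Xd, g = a * b * c * d := by
    intro g
    constructor
    · rintro ⟨a, ha, α, ⟨b, hb, c, hc, d, hd, rfl⟩, rfl⟩
      exact ⟨a, ha, b, hb, c, hc, d, hd, by simp only [mul_assoc]⟩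
    · rintro ⟨a, ha, b, hb, c, hc, d, hd, rfl⟩
      exact ⟨a, ha, b * c * d, ⟨b, hb, c, hc, d, hd, rfl⟩, by simp only [mul_assoc]⟩
  refine ⟨U, hU, ?_⟩
  have := D.fina.1
  have := D.finb.1
  have := D.finc.1
  have := D.find.1
  let f : Xa × Xb × Xc × Xd → U := fun t =>
    ⟨(t.1 : G) * (t.2.1 : G) * (t.2.2.1 : G) * (t.2.2.2 : G),
      (hU _).2 ⟨t.1, t.1.2, t.2.1, t.2.1.2, t.2.2.1, t.2.2.1.2, t.2.2.2, t.2.2.2.2, rfl⟩⟩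
  have hf : Function.Surjective f := by
    rintro ⟨g, hg⟩
    obtain ⟨a, ha, b, hb, c, hc, d, hd, rfl⟩ := (hU g).1 hg
    exact ⟨(⟨a, ha⟩, ⟨b, hb⟩, ⟨c, hc⟩, ⟨d, hd⟩), rfl⟩
  have hfin : Finite U := Finite.of_surjective f hf
  refine ⟨hfin, ?_⟩
  have h := Nat.card_le_card_of_surjective f hf
  rw [Nat.card_prod, Nat.card_prod, Nat.card_prod] at h
  calc Nat.card U ≤ Nat.card Xa * (Nat.card Xb * (Nat.card Xc * Nat.card Xd)) := h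
    _ ≤ q * (q * (q * q)) :=
        Nat.mul_le_mul D.fina.2 (Nat.mul_le_mul D.finb.2 (Nat.mul_le_mul D.finc.2 D.find.2))
    _ = q ^ 4 := by ring

end E

end Cfsg.Agent.Lib.helper3.SP4
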