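import Mathlib
import Cfsg.Agent.Lib.helper3.SP4.Defs
import Cfsg.Agent.Lib.Helper18.SP4E5

/-!
# Project SP4 (designer helper3), row E6 (`B4_subgroup`), SPARE copy by helper18 under the own name
`sp4e6_h18_B4_subgroup` (exact Skel statement).  On `U4_subgroup` + `sp4e5_conj` (Helper18.SP4E5).
-/

set_option autoImplicit false

namespace Cfsg.Agent.Lib.helper3.SP4

open Cfsg.Agent.Lib.helper17.SLP

universe u v

section E

variable {G : Type u} [Group G]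

variable (q : ℕ) (T Xa Xb Xc Xd : Subgroup G) (n1 n2 : G)

/-- E6 [M] (spare). -/
theorem sp4e6_h18_B4_subgroup (D : RD4 q T Xa Xb Xc Xd n1 n2) :
    ∃ B : Subgroup G, Finite B ∧ Nat.card B ≤ Nat.card T * q ^ 4 ∧ T ≤ B ∧ Xa ≤ B ∧ Xb ≤ B ∧ Xc ≤ B ∧ Xd ≤ B ∧
      (∀ g, g ∈ B ↔ ∃ τ ∈ T, ∃ b ∈ Xb, ∃ c ∈ Xc, ∃ d ∈ Xd, ∃ a ∈ Xa, g = τ * b * c * d * a) ∧
      (∀ g, g ∈ B ↔ ∃ τ ∈ T, ∃ a ∈ Xa, ∃ c ∈ Xc, ∃ d ∈ Xd, ∃ b ∈ Xb, g = τ * a * c * d * b) := by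
  obtain ⟨U, hU, hUfin, hUcard⟩ := U4_subgroup q T Xa Xb Xc Xd n1 n2 D
  have haU : Xa ≤ U := fun a ha => (hU a).2 ⟨a, ha, 1, one_mem _, 1, one_mem _, 1, one_mem _, by simp⟩
  have hbU : Xb ≤ U := fun b hb => (hU b).2 ⟨1, one_mem _, b, hb, 1, one_mem _, 1, one_mem _, by simp⟩
  have hcU : Xc ≤ U := fun c hc => (hU c).2 ⟨1, one_mem _, 1, one_mem _, c, hc, 1, one_mem _, by simp⟩
  have hdU : Xd ≤ U := fun d hd => (hU d).2 ⟨1, one_mem _, 1, one_mem _, 1, one_mem _, d, hd, by simp⟩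
  -- `T` normalises `U`
  have hTU : ∀ τ ∈ T, ∀ u ∈ U, τ * u * τ⁻¹ ∈ U := by
    intro τ hτ u hu
    obtain ⟨a, ha, b, hb, c, hc, d, hd, rfl⟩ := (hU u).1 hu
    refine (hU _).2 ⟨τ * a * τ⁻¹, D.ta τ hτ a ha, τ * b * τ⁻¹, D.tb τ hτ b hb, τ * c * τ⁻¹, D.tc τ hτ c hc,
      τ * d * τ⁻¹, D.td τ hτ d hd, ?_⟩
    simp [mul_assoc]
  let B : Subgroup G :=
    { carrier := {g | ∃ τ ∈ T, ∃ u ∈ U, g = τ * u}
      one_mem' := ⟨1, one_mem _, 1, one_mem _, by simp⟩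
      mul_mem' := by
        rintro _ _ ⟨τ, hτ, u, hu, rfl⟩ ⟨τ', hτ', u', hu', rfl⟩
        have h := hTU τ'⁻¹ (inv_mem hτ') u hu
        rw [inv_inv] at h
        refine ⟨τ * τ', mul_mem hτ hτ', (τ'⁻¹ * u * τ') * u', mul_mem h hu', ?_⟩
        simp [mul_assoc]
      inv_mem' := by
        rintro _ ⟨τ, hτ, u, hu, rfl⟩
        have h := hTU τ hτ u⁻¹ (inv_mem hu)
        refine ⟨τ⁻¹, inv_mem hτ, τ * u⁻¹ * τ⁻¹, h, ?_⟩
        simp [mul_assoc] }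
  have hB : ∀ g, g ∈ B ↔ ∃ τ ∈ T, ∃ u ∈ U, g = τ * u := fun g => Iff.rfl
  have hTB : T ≤ B := fun τ hτ => ⟨τ, hτ, 1, one_mem _, by simp⟩
  have hUB : U ≤ B := fun u hu => ⟨1, one_mem _, u, hu, by simp⟩
  -- cardinality
  have := D.finT
  have hfinB : Finite B := by
    let f : T × U → B := fun p => ⟨(p.1 : G) * (p.2 : G), ⟨p.1, p.1.2, p.2, p.2.2, rfl⟩⟩
    have hf : Function.Surjective f := by
      rintro ⟨g, τ, hτ, u, hu, rfl⟩
      exact ⟨(⟨τ, hτ⟩, ⟨u, hu⟩), rfl⟩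
    exact Finite.of_surjective f hf
  have hcardB : Nat.card B ≤ Nat.card T * q ^ 4 := by
    let f : T × U → B := fun p => ⟨(p.1 : G) * (p.2 : G), ⟨p.1, p.1.2, p.2, p.2.2, rfl⟩⟩
    have hf : Function.Surjective f := by
      rintro ⟨g, τ, hτ, u, hu, rfl⟩
      exact ⟨(⟨τ, hτ⟩, ⟨u, hu⟩), rfl⟩
    have h := Nat.card_le_card_of_surjective f hf
    rw [Nat.card_prod] at h
    exact le_trans h (Nat.mul_le_mul_left _ hUcard)
  refine ⟨B, hfinB, hcardB, hTB, le_trans haU hUB, le_trans hbU hUB, le_trans hcU hUB, le_trans hdU hUB,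
    ?_, ?_⟩
  · -- first normal form `τ * b * c * d * a`
    intro g
    constructor
    · rintro ⟨τ, hτ, u, hu, rfl⟩
      obtain ⟨a, ha, b, hb, c, hc, d, hd, rfl⟩ := (hU u).1 hu
      obtain ⟨b', hb', c', hc', d', hd', h⟩ :=
        sp4e5_conj q T Xa Xb Xc Xd n1 n2 D a ha (b * c * d) ⟨b, hb, c, hc, d, hd, rfl⟩
      refine ⟨τ, hτ, b', hb', c', hc', d', hd', a, ha, ?_⟩
      have : a * b * c * d = (a * (b * c * d) * a⁻¹) * a := by simp [mul_assoc]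
      rw [this, h]
      simp only [mul_assoc]
    · rintro ⟨τ, hτ, b, hb, c, hc, d, hd, a, ha, rfl⟩
      refine ⟨τ, hτ, b * c * d * a, mul_mem (mul_mem (mul_mem (hbU hb) (hcU hc)) (hdU hd)) (haU ha), ?_⟩
      simp only [mul_assoc]
  · -- second normal form `τ * a * c * d * b`
    intro g
    constructor
    · rintro ⟨τ, hτ, u, hu, rfl⟩
      obtain ⟨a, ha, b, hb, c, hc, d, hd, rfl⟩ := (hU u).1 hu
      refine ⟨τ, hτ, a, ha, c, hc, d, hd, b, hb, ?_⟩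
      have h1 : b * c = c * b := (D.cbc b hb c hc).eq
      have h2 : b * d = d * b := (D.cbd b hb d hd).eq
      calc τ * (a * b * c * d) = τ * a * (b * c) * d := by simp only [mul_assoc]
        _ = τ * a * (c * b) * d := by rw [h1]
        _ = τ * a * c * (b * d) := by simp only [mul_assoc]
        _ = τ * a * c * (d * b) := by rw [h2]
        _ = τ * a * c * d * b := by simp only [mul_assoc]
    · rintro ⟨τ, hτ, a, ha, c, hc, d, hd, b, hb, rfl⟩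
      refine ⟨τ, hτ, a * c * d * b, mul_mem (mul_mem (mul_mem (haU ha) (hcU hc)) (hdU hd)) (hbU hb), ?_⟩
      simp only [mul_assoc]

end E

end Cfsg.Agent.Lib.helper3.SP4
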