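import Mathlib
import Cfsg.Agent.Lib.helper3.SP4.Defs

/-!
# Project SP4 (designer helper3), rows E7 (`fact4`), E8 (`rank1_4`), E9 (`cells4`): from the root datum `RD4`.
-/

set_option autoImplicit false

namespace Cfsg.Agent.Lib.helper3.SP4

open Cfsg.Agent.Lib.helper17.SLP

universe u v w

section E

variable {G : Type u} [Group G]

variable (q : ℕ) (T Xa Xb Xc Xd : Subgroup G) (n1 n2 : G)

/-- E7 [S-M]. -/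
theorem fact4 (D : RD4 q T Xa Xb Xc Xd n1 n2) (B : Subgroup G)
    (hT : T ≤ B) (ha : Xa ≤ B) (hb : Xb ≤ B) (hc : Xc ≤ B) (hd : Xd ≤ B)
    (hB1 : ∀ g, g ∈ B ↔ ∃ τ ∈ T, ∃ b ∈ Xb, ∃ c ∈ Xc, ∃ d ∈ Xd, ∃ a ∈ Xa, g = τ * b * c * d * a)
    (hB2 : ∀ g, g ∈ B ↔ ∃ τ ∈ T, ∃ a ∈ Xa, ∃ c ∈ Xc, ∃ d ∈ Xd, ∃ b ∈ Xb, g = τ * a * c * d * b) :
    (∀ g ∈ B, ∃ β ∈ B, ∃ a ∈ (Xa : Set G), g = β * a ∧ n1 * β * n1⁻¹ ∈ B) ∧
      ∀ g ∈ B, ∃ β ∈ B, ∃ b ∈ (Xb : Set G), g = β * b ∧ n2 * β * n2⁻¹ ∈ B := by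
  constructor
  · intro g hg
    obtain ⟨τ, hτ, b, hb', c, hc', d, hd', a, ha', rfl⟩ := (hB1 g).1 hg
    refine ⟨τ * b * c * d, mul_mem (mul_mem (mul_mem (hT hτ) (hb hb')) (hc hc')) (hd hd'), a, ha', rfl, ?_⟩
    have h : n1 * (τ * b * c * d) * n1⁻¹ =
        (n1 * τ * n1⁻¹) * (n1 * b * n1⁻¹) * (n1 * c * n1⁻¹) * (n1 * d * n1⁻¹) := by
      simp [mul_assoc]
    rw [h]
    exact mul_mem (mul_mem (mul_mem (hT (D.n1T τ hτ)) (hd (D.n1b b hb'))) (hc (D.n1c c hc')))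
      (hb (D.n1d d hd'))
  · intro g hg
    obtain ⟨τ, hτ, a, ha', c, hc', d, hd', b, hb', rfl⟩ := (hB2 g).1 hg
    refine ⟨τ * a * c * d, mul_mem (mul_mem (mul_mem (hT hτ) (ha ha')) (hc hc')) (hd hd'), b, hb', rfl, ?_⟩
    have h : n2 * (τ * a * c * d) * n2⁻¹ =
        (n2 * τ * n2⁻¹) * (n2 * a * n2⁻¹) * (n2 * c * n2⁻¹) * (n2 * d * n2⁻¹) := by
      simp [mul_assoc]
    rw [h]
    exact mul_mem (mul_mem (mul_mem (hT (D.n2T τ hτ)) (hc (D.n2a a ha'))) (ha (D.n2c c hc')))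
      (hd (D.n2d d hd'))

/-- E8 [S]. -/
theorem rank1_4 (D : RD4 q T Xa Xb Xc Xd n1 n2) (B : Subgroup G) (hT : T ≤ B) (ha : Xa ≤ B) (hb : Xb ≤ B) :
    (∀ a ∈ (Xa : Set G), n1 * a * n1⁻¹ ∈ B ∨ ∃ b₁ ∈ B, ∃ b₂ ∈ B, n1 * a * n1⁻¹ = b₁ * n1 * b₂) ∧
      ∀ b ∈ (Xb : Set G), n2 * b * n2⁻¹ ∈ B ∨ ∃ b₁ ∈ B, ∃ b₂ ∈ B, n2 * b * n2⁻¹ = b₁ * n2 * b₂ := by
  constructor
  · intro g hg
    rcases D.r1 g hg with rfl | ⟨a, ha', τ, hτ, a', ha'', h⟩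
    · left
      simp
    · right
      exact ⟨a * τ, mul_mem (ha ha') (hT hτ), a', ha ha'', h⟩
  · intro g hg
    rcases D.r2 g hg with rfl | ⟨b, hb', τ, hτ, b', hb'', h⟩
    · left
      simp
    · right
      exact ⟨b * τ, mul_mem (hb hb') (hT hτ), b', hb hb'', h⟩

/-- E9 [S-M]. -/
theorem cells4 (D : RD4 q T Xa Xb Xc Xd n1 n2) (B : Subgroup G)
    (ha : Xa ≤ B) (hb : Xb ≤ B) (hc : Xc ≤ B) (hd : Xd ≤ B) :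
    (∀ a ∈ (Xa : Set G), ∀ m ∈ ({n2, n2 * n1, n2 * n1 * n2} : Set G), m⁻¹ * a * m ∈ B) ∧
      ∀ b ∈ (Xb : Set G), ∀ m ∈ ({n1, n1 * n2, n1 * n2 * n1} : Set G), m⁻¹ * b * m ∈ B := by
  constructor
  · intro a ha' m hm
    have h1 : n2⁻¹ * a * n2 ∈ Xc := D.n2a' a ha'
    have h2 : n1⁻¹ * (n2⁻¹ * a * n2) * n1 ∈ Xc := D.n1c' _ h1
    have h3 : n2⁻¹ * (n1⁻¹ * (n2⁻¹ * a * n2) * n1) * n2 ∈ Xa := D.n2c' _ h2
    rcases hm with rfl | rfl | hm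
    · exact hc h1
    · have : (n2 * n1)⁻¹ * a * (n2 * n1) = n1⁻¹ * (n2⁻¹ * a * n2) * n1 := by
        simp [mul_assoc]
      rw [this]
      exact hc h2
    · rw [Set.mem_singleton_iff] at hm
      subst hm
      have : (n2 * n1 * n2)⁻¹ * a * (n2 * n1 * n2) = n2⁻¹ * (n1⁻¹ * (n2⁻¹ * a * n2) * n1) * n2 := by
        simp [mul_assoc]
      rw [this]
      exact ha h3
  · intro b hb' m hm
    have h1 : n1⁻¹ * b * n1 ∈ Xd := D.n1b' b hb'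
    have h2 : n2⁻¹ * (n1⁻¹ * b * n1) * n2 ∈ Xd := D.n2d' _ h1
    have h3 : n1⁻¹ * (n2⁻¹ * (n1⁻¹ * b * n1) * n2) * n1 ∈ Xb := D.n1d' _ h2
    rcases hm with rfl | rfl | hm
    · exact hd h1
    · have : (n1 * n2)⁻¹ * b * (n1 * n2) = n2⁻¹ * (n1⁻¹ * b * n1) * n2 := by
        simp [mul_assoc]
      rw [this]
      exact hd h2
    · rw [Set.mem_singleton_iff] at hm
      subst hm
      have : (n1 * n2 * n1)⁻¹ * b * (n1 * n2 * n1) = n1⁻¹ * (n2⁻¹ * (n1⁻¹ * b * n1) * n2) * n1 := by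
        simp [mul_assoc]
      rw [this]
      exact hb h3

end E

end Cfsg.Agent.Lib.helper3.SP4
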