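import Mathlib
import Cfsg.Prelude.Def_Classical
import Cfsg.Prelude.Def_KGroupFacts
import Cfsg.Agent.Lib.helper3.SPB.Defs

/-!
# Project SPB (designer helper3, family of S2094), rows T9 (`CovB.ker_sig_eq`) and T6 (`CovB.pi_surj`) (helper18), VERBATIM.
-/

set_option autoImplicit false

namespace Cfsg.Agent.Lib.helper3.SPB

open Cfsg.Agent.Lib.helper15.St2 Cfsg.Agent.Lib.helper3.STC Cfsg.Agent.Lib.Lead.STD Cfsg.Agent.Lib.Lead.STB
  Cfsg.Agent.Lib.Lead.SPN Cfsg.Agent.Lib.Helper16 Cfsg.Agent.Lib.Helper12.OMB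

universe u v w

namespace CovB

variable {l : ℕ} {F : Type u} [Field F] [Fintype F] {G : Type v} [Group G] (C : CovB l F G)

/-- T6 [S-M] -/
theorem pi_surj (homb : OmbSys l F) : Function.Surjective C.π := by
  obtain ⟨S₀, hgen, hx, hxs⟩ := homb
  have hL : ∀ a b t, S₀.x a b t ∈ C.π.range := by
    intro a b t
    by_cases hab : a = b
    · subst hab
      rw [S₀.diag]
      exact C.π.range.one_mem
    by_cases hab' : a = ng b
    · subst hab'
      have h := S₀.opp (ng b) t
      rw [Cfsg.Agent.Lib.helper3.STC.ng_ng] at h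
      rw [h]
      exact C.π.range.one_mem
    · refine ⟨C.S.x a b t, ?_⟩
      apply omatB_injective
      rw [C.hπ a b hab hab' t, hx a b hab hab' t]
  have hS : ∀ a t, S₀.xs a t ∈ C.π.range := by
    intro a t
    refine ⟨C.S.xs a t, ?_⟩
    apply omatB_injective
    rw [C.hπs a t, hxs a t]
  have htop : (⊤ : Subgroup ↥(Cfsg.Omega F (Cfsg.quadFormOdd l F))) ≤ C.π.range := by
    rw [← hgen]
    unfold SysB.XQ
    rw [Subgroup.closure_le]
    rintro g (⟨a, b, t, -, -, -, rfl⟩ | ⟨a, t, -, rfl⟩)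
    · exact hL a b t
    · exact hS a t
  intro y
  exact htop (Subgroup.mem_top y)

/-- T9 [S] -/
theorem ker_sig_eq (hcen : OmbCenter l F) : C.sig.ker = C.π.ker := by
  ext g
  rw [MonoidHom.mem_ker, MonoidHom.mem_ker]
  unfold sig
  rw [MonoidHom.comp_apply, QuotientGroup.mk'_apply, QuotientGroup.eq_one_iff]
  unfold OmbCenter at hcen
  rw [hcen, Subgroup.mem_bot]

end CovB

end Cfsg.Agent.Lib.helper3.SPB
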