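import Mathlib
import Cfsg.Prelude.Def_Classical
import Cfsg.Prelude.Def_KGroupFacts
import Cfsg.Agent.Lib.helper3.SPB.Defs
import Cfsg.Agent.Lib.Helper12.SPBT4
import Cfsg.Agent.Lib.Helper18.SPBT9
import Cfsg.Agent.Lib.helper7.CeH

/-!
# Project SPB (designer helper3, family of S2094), rows K1 (`CovB.ker_sig_cases`) and K2 (`CovB.ker_sig_equiv`) (helper18): CORES
`CovB.spbk1_core` (hypothesis = the conclusion of T5 `ker_pi`), `CovB.spbk2_core` (hypotheses = the conclusions of K1 and T3 `zel_sq`).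
-/

set_option autoImplicit false

namespace Cfsg.Agent.Lib.helper3.SPB

open Cfsg.Agent.Lib.helper15.St2 Cfsg.Agent.Lib.helper3.STC Cfsg.Agent.Lib.Lead.STD Cfsg.Agent.Lib.Lead.STB
  Cfsg.Agent.Lib.Lead.SPN Cfsg.Agent.Lib.Helper16 Cfsg.Agent.Lib.Helper12.OMB

universe u v w

/-- a subgroup all of whose elements are powers of one of its elements `x` is cyclic of order `orderOf x` (copy of `spnk7_cyclic`, helper4) -/
theorem spbk2_cyclic {G : Type*} [Group G] (K : Subgroup G) (x : G) (hx : x ∈ K) (m : ℕ) (hm : orderOf x = m)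
    (hall : ∀ y ∈ K, y ∈ Subgroup.zpowers x) : Nonempty (K ≃* Multiplicative (ZMod m)) := by
  have hK : K = Subgroup.zpowers x := by
    apply le_antisymm
    · exact hall
    · rw [Subgroup.zpowers_le]
      exact hx
  subst hK
  have hc : IsCyclic (Subgroup.zpowers x) := inferInstance
  have hcard : Nat.card (Subgroup.zpowers x) = m := by
    rw [Nat.card_zpowers, hm]
  obtain ⟨e⟩ := Cfsg.Agent.Lib.helper7.Ce.cyclic_equiv hc m hcard
  exact ⟨e.symm⟩

namespace CovB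

variable {l : ℕ} {F : Type u} [Field F] [Fintype F] {G : Type v} [Group G] (C : CovB l F G)

/-- K1 core: `hT5` = the conclusion of T5 `ker_pi hstb` -/
theorem spbk1_core (hT5 : ∀ g : G, C.π g = 1 → g = 1 ∨ g = C.zel) (hcen : OmbCenter l F) :
    C.zel ∈ C.sig.ker ∧ ∀ g ∈ C.sig.ker, g = 1 ∨ g = C.zel := by
  rw [C.ker_sig_eq hcen]
  exact ⟨MonoidHom.mem_ker.2 C.pi_zel, fun g hg => hT5 g (MonoidHom.mem_ker.1 hg)⟩

omit [Fintype F] in
/-- K2 core: `hK1` = the conclusion of K1, `hT3` = T3 `zel_sq` -/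
theorem spbk2_core (hK1 : C.zel ∈ C.sig.ker ∧ ∀ g ∈ C.sig.ker, g = 1 ∨ g = C.zel) (hT3 : C.zel * C.zel = 1)
    (hz : C.zel ≠ 1) : Nonempty (C.sig.ker ≃* Multiplicative (ZMod 2)) := by
  have : Fact (Nat.Prime 2) := ⟨Nat.prime_two⟩
  have ho : orderOf C.zel = 2 := orderOf_eq_prime (by rw [pow_two]; exact hT3) hz
  refine spbk2_cyclic C.sig.ker C.zel hK1.1 2 ho (fun y hy => ?_)
  rcases hK1.2 y hy with h | h
  · rw [h]; exact one_mem _
  · rw [h]; exact Subgroup.mem_zpowers _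

end CovB

end Cfsg.Agent.Lib.helper3.SPB
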