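import Mathlib
import Cfsg.Prelude.Def_Classical
import Cfsg.Prelude.Def_KGroupFacts
import Cfsg.Agent.Lib.helper3.SPB.Defs
import Cfsg.Agent.Lib.Helper18.SPBK1core
import Cfsg.Agent.Lib.Helper11.SPBT5
import Cfsg.Agent.Lib.Helper29.SPBT3

/-!
# Project SPB (designer helper3, family of S2094), rows K1 (`CovB.ker_sig_cases`) and K2 (`CovB.ker_sig_equiv`) (helper18), VERBATIM
(wrappers of `CovB.spbk1_core`, `CovB.spbk2_core` on T5 `ker_pi` (Helper11.SPBT5) and T3 `zel_sq` (Helper29.SPBT3)).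
-/

set_option autoImplicit false

namespace Cfsg.Agent.Lib.helper3.SPB

open Cfsg.Agent.Lib.helper15.St2 Cfsg.Agent.Lib.helper3.STC Cfsg.Agent.Lib.Lead.STD Cfsg.Agent.Lib.Lead.STB
  Cfsg.Agent.Lib.Lead.SPN Cfsg.Agent.Lib.Helper16 Cfsg.Agent.Lib.Helper12.OMB

universe u v w

namespace CovB

variable {l : ℕ} {F : Type u} [Field F] [Fintype F] {G : Type v} [Group G] (C : CovB l F G)

/-- K1 [S]  `zel ∈ ker sig` (T4) and `ker sig ⊆ {1, zel}` (T9, T5). -/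
theorem ker_sig_cases (hstb : ∀ (H : Type v) [Group H], StbInjAt l F H) (hcen : OmbCenter l F) :
    C.zel ∈ C.sig.ker ∧ ∀ g ∈ C.sig.ker, g = 1 ∨ g = C.zel :=
  C.spbk1_core (fun g hg => C.ker_pi hstb g hg) hcen

/-- K2 [S-M]  **`ker sig ≅ Z/2`** -/
theorem ker_sig_equiv (hstb : ∀ (H : Type v) [Group H], StbInjAt l F H) (hcen : OmbCenter l F) (hz : C.zel ≠ 1) :
    Nonempty (C.sig.ker ≃* Multiplicative (ZMod 2)) :=
  C.spbk2_core (C.ker_sig_cases hstb hcen) C.zel_sq hz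

end CovB

end Cfsg.Agent.Lib.helper3.SPB
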