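import Mathlib
import Cfsg.Agent.Lib.helper14.SQD.Defs

/-!
Project SQD (designer helper14), rows X2 (`sqd_map`), X8 (`sqd_subgroupOf`), X13 (`sqd_comap`), X14 (`card_comap`).
-/

set_option autoImplicit false

namespace Cfsg.Agent.Lib.helper14.SQD

open Matrix

universe u v

/-- X2 [E]. `Subgroup.map_commutator`. -/
theorem sqd_map {G : Type u} {H : Type v} [Group G] [Group H] (f : G →* H) (U : Subgroup G)
    (h : SqD U) : SqD (U.map f) := by
  rintro _ ⟨x, hx, rfl⟩
  rw [← Subgroup.map_commutator, ← map_pow]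
  exact Subgroup.mem_map_of_mem f (h x hx)

/-- X13 [E-M]. -/
theorem sqd_comap {G : Type u} {H : Type v} [Group G] [Group H] (f : G →* H) (hf : Function.Injective f)
    (K : Subgroup H) (hK : K ≤ f.range) (h : SqD K) : SqD (K.comap f) := by
  intro x hx
  have hmap : (K.comap f).map f = K := Subgroup.map_comap_eq_self hK
  have h1 : f (x ^ 2) ∈ ⁅K, K⁆ := by
    rw [map_pow]
    exact h (f x) hx
  rw [← hmap, ← Subgroup.map_commutator] at h1
  obtain ⟨y, hy, hyx⟩ := h1
  rw [← hf hyx]
  exact hy

/-- X8 [E-M]. -/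
theorem sqd_subgroupOf {G : Type u} [Group G] (M U : Subgroup G) (hUM : U ≤ M) (h : SqD U) :
    SqD (U.subgroupOf M) := by
  apply sqd_comap M.subtype M.subtype_injective U _ h
  rw [Subgroup.range_subtype]
  exact hUM

/-- X14 [E-M]. -/
theorem card_comap {G : Type u} {H : Type v} [Group G] [Group H] (f : G →* H) (hf : Function.Injective f)
    (K : Subgroup H) (hK : K ≤ f.range) : Nat.card (K.comap f) = Nat.card K := by
  have hmap : (K.comap f).map f = K := Subgroup.map_comap_eq_self hK
  have e := (K.comap f).equivMapOfInjective f hf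
  rw [Nat.card_congr e.toEquiv, hmap]

end Cfsg.Agent.Lib.helper14.SQD
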