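import Mathlib
import Cfsg.Agent.Lib.helper23.P4V.Defs

/-!
# Project TD4V (designer helper23), row L1: `cover1` (pure `GL₂(F)` algebra).
Also the shared helper lemmas `td4vl1_*` on `InSig` for explicit `2 × 2` matrices (used by L2, L3).
-/

set_option autoImplicit false

namespace Cfsg.Agent.Lib.helper23.TD4V

open Matrix
open Cfsg.Agent.Lib.helper23.P4V

universe u

section L

variable {F : Type u} [Field F]

/-- a matrix with a nonzero entry `(0,1)` is not scalar -/
theorem td4vl1_not_scalar01 (m : M2 F) (h : m 0 1 ≠ 0) : ¬ ∃ c : F, m = c • (1 : M2 F) := by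
  rintro ⟨c, hc⟩
  apply h
  rw [hc]
  simp

/-- a matrix with a nonzero entry `(1,0)` is not scalar -/
theorem td4vl1_not_scalar10 (m : M2 F) (h : m 1 0 ≠ 0) : ¬ ∃ c : F, m = c • (1 : M2 F) := by
  rintro ⟨c, hc⟩
  apply h
  rw [hc]
  simp

/-- `a d = ν²`, `a + d = 2 ν` force `a = d = ν` (any characteristic) -/
theorem td4vl1_diag (ν a d : F) (hdet : a * d = ν ^ 2) (htr : a + d = 2 * ν) :
    a = ν ∧ d = ν := by
  have h1 : (a - ν) ^ 2 = 0 := by
    have hd : d = 2 * ν - a := by rw [← htr]; ring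
    rw [hd] at hdet
    have : (a - ν) ^ 2 = -(a * (2 * ν - a)) + ν ^ 2 := by ring
    rw [this, hdet]; ring
  have ha : a = ν := by
    have := pow_eq_zero_iff (two_ne_zero) |>.mp h1
    exact sub_eq_zero.mp this
  refine ⟨ha, ?_⟩
  rw [ha] at htr
  have : d = 2 * ν - ν := by rw [← htr]; ring
  rw [this]; ring

/-- the product `U(β) A` for explicit entries -/
theorem td4vl1_U_mul (β a b c d : F) :
    (!![1, β; 0, 1] : M2 F) * !![a, b; c, d] = !![a + β * c, b + β * d; c, d] := by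
  rw [Matrix.mul_fin_two]
  simp

/-- **L1** [S-M]. -/
theorem cover1 (ν : F) (hν : ν ≠ 0) (A : M2 F) (hA : A.det = ν ^ 2) :
    ∃ β : F, InSig ν (!![1, β; 0, 1] * A) := by
  obtain ⟨a, ha⟩ : ∃ a, A 0 0 = a := ⟨_, rfl⟩
  obtain ⟨b, hb⟩ : ∃ b, A 0 1 = b := ⟨_, rfl⟩
  obtain ⟨c, hc⟩ : ∃ c, A 1 0 = c := ⟨_, rfl⟩
  obtain ⟨d, hd⟩ : ∃ d, A 1 1 = d := ⟨_, rfl⟩
  have hAeta : A = !![a, b; c, d] := by rw [Matrix.eta_fin_two A, ha, hb, hc, hd]
  subst hAeta
  rw [Matrix.det_fin_two_of] at hA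
  have hdetU : ∀ β : F, ((!![1, β; 0, 1] : M2 F) * !![a, b; c, d]).det = ν ^ 2 := by
    intro β
    rw [Matrix.det_mul, Matrix.det_fin_two_of, Matrix.det_fin_two_of, ← hA]; ring
  by_cases hc0 : c = 0
  · subst hc0
    have had : a * d = ν ^ 2 := by rw [← hA]; ring
    have hd0 : d ≠ 0 := by
      intro h
      rw [h, mul_zero] at had
      exact pow_ne_zero 2 hν had.symm
    by_cases htr : a + d = 2 * ν
    · obtain ⟨ha', hd'⟩ := td4vl1_diag ν a d had htr
      refine ⟨-b / d, Or.inl ?_⟩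
      rw [td4vl1_U_mul, ha', hd']
      have hν' : ν ≠ 0 := hν
      ext i j
      fin_cases i <;> fin_cases j <;> simp
      rw [hd'] at hd0
      field_simp
      ring
    · refine ⟨(1 - b) / d, Or.inr ⟨hdetU _, ?_, ?_⟩⟩
      · rw [td4vl1_U_mul, Matrix.trace_fin_two_of]
        intro h
        apply htr
        rw [← h]; ring
      · apply td4vl1_not_scalar01
        rw [td4vl1_U_mul]
        show b + (1 - b) / d * d ≠ 0
        rw [div_mul_cancel₀ _ hd0]
        simp
  · refine ⟨(2 * ν - a - d + 1) / c, Or.inr ⟨hdetU _, ?_, ?_⟩⟩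
    · rw [td4vl1_U_mul, Matrix.trace_fin_two_of]
      intro h
      have h2 : a + (2 * ν - a - d + 1) / c * c + d = 2 * ν + 1 := by
        rw [div_mul_cancel₀ _ hc0]; ring
      rw [h2] at h
      have : (1 : F) = 0 := by
        have := h
        linear_combination this
      exact one_ne_zero this
    · apply td4vl1_not_scalar10
      rw [td4vl1_U_mul]
      exact hc0

end L

end Cfsg.Agent.Lib.helper23.TD4V
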