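import Mathlib
import Cfsg.Agent.Lib.helper23.P4V.Defs
import Cfsg.Agent.Lib.Helper18.TD4VL1

/-!
# Project TD4V (designer helper23), row L3: `cover3` (pure `GL₂(F)` algebra).
-/

set_option autoImplicit false

namespace Cfsg.Agent.Lib.helper23.TD4V

open Matrix
open Cfsg.Agent.Lib.helper23.P4V

universe u

section L

variable {F : Type u} [Field F]

/-- the product `L(x) U(y) A` for explicit entries -/
theorem td4vl3_LU_mul (x y a b c d : F) :
    (!![1, 0; x, 1] : M2 F) * !![1, y; 0, 1] * !![a, b; c, d] =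
      !![a + y * c, b + y * d; x * (a + y * c) + c, x * (b + y * d) + d] := by
  rw [Matrix.mul_assoc, td4vl1_U_mul, Matrix.mul_fin_two]
  simp

/-- the determinant of `L(x) U(y) A` -/
theorem td4vl3_LU_det (x y : F) (A : M2 F) :
    ((!![1, 0; x, 1] : M2 F) * !![1, y; 0, 1] * A).det = A.det := by
  rw [Matrix.det_mul, Matrix.det_mul, Matrix.det_fin_two_of, Matrix.det_fin_two_of]; ring

/-- **L3** [M-H]. -/
theorem cover3 [Fintype F] (ν : F) (hν : ν ≠ 0) (A : M2 F) (hA : A.det = ν ^ 2) (e a0 b0 : F)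
    (he : e ≠ 0) (ha0 : a0 ≠ 0) (hb0 : b0 ≠ 0) :
    InSig ν A ∨ InSig ν (!![1, e; 0, 1] * A) ∨
      ∃ s : F, InSig ν (!![1, 0; s * a0, 1] * !![1, s * b0; 0, 1] * A) := by
  by_cases hIn : InSig ν A
  · exact Or.inl hIn
  right
  obtain ⟨a, ha⟩ : ∃ a, A 0 0 = a := ⟨_, rfl⟩
  obtain ⟨b, hb⟩ : ∃ b, A 0 1 = b := ⟨_, rfl⟩
  obtain ⟨c, hc⟩ : ∃ c, A 1 0 = c := ⟨_, rfl⟩
  obtain ⟨d, hd⟩ : ∃ d, A 1 1 = d := ⟨_, rfl⟩
  have hAeta : A = !![a, b; c, d] := by rw [Matrix.eta_fin_two A, ha, hb, hc, hd]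
  subst hAeta
  have hA' : a * d - b * c = ν ^ 2 := by rw [← hA, Matrix.det_fin_two_of]
  have hdetU : ((!![1, e; 0, 1] : M2 F) * !![a, b; c, d]).det = ν ^ 2 := by
    rw [Matrix.det_mul, Matrix.det_fin_two_of, hA]; ring
  -- `¬ InSig`: not `ν • 1`, and (scalar or trace `2 ν`)
  have hne : (!![a, b; c, d] : M2 F) ≠ ν • (1 : M2 F) := fun h => hIn (Or.inl h)
  have hor : (!![a, b; c, d] : M2 F).trace = 2 * ν ∨ ∃ k : F, (!![a, b; c, d] : M2 F) = k • (1 : M2 F) := by
    by_contra hcon
    rw [not_or] at hcon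
    exact hIn (Or.inr ⟨hA, hcon.1, hcon.2⟩)
  by_cases hc0 : c = 0
  swap
  · -- `c ≠ 0`: `U(e) A` is not scalar, trace `tr A + e c`
    rcases hor with htr | ⟨k, hk⟩
    · left
      refine Or.inr ⟨hdetU, ?_, ?_⟩
      · rw [td4vl1_U_mul, Matrix.trace_fin_two_of]
        rw [Matrix.trace_fin_two_of] at htr
        intro h
        have : e * c = 0 := by linear_combination h - htr
        exact (mul_ne_zero he hc0) this
      · apply td4vl1_not_scalar10
        rw [td4vl1_U_mul]
        exact hc0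
    · exfalso
      apply hc0
      have := congrFun (congrFun hk 1) 0
      simpa using this
  subst hc0
  clear ha hb hc hd
  have had : a * d = ν ^ 2 := by rw [← hA']; ring
  rcases hor with htr | ⟨k, hk⟩
  · -- not scalar or scalar, trace `2 ν`: `a = d = ν`
    rw [Matrix.trace_fin_two_of] at htr
    obtain ⟨ha', hd'⟩ := td4vl1_diag ν a d had htr
    rw [ha', hd'] at hne hdetU hA ⊢
    have hb0' : b ≠ 0 := by
      intro h
      apply hne
      rw [h]
      ext i j
      fin_cases i <;> fin_cases j <;> simp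
    by_cases hbe : b + e * ν = 0
    · -- `U(e) A = ν • 1`
      left
      refine Or.inl ?_
      rw [td4vl1_U_mul, hbe]
      ext i j
      fin_cases i <;> fin_cases j <;> simp
    · -- two distinct nonzero elements `b`, `-(e ν)`: pick `s ∉ {0, -b/(b0 ν)}`
      right
      have hz : ∃ s : F, s ≠ 0 ∧ b + s * b0 * ν ≠ 0 := by
        by_cases h1 : b + (b / (b0 * ν)) * b0 * ν = 0
        · refine ⟨e / b0, div_ne_zero he hb0, ?_⟩
          have : e / b0 * b0 = e := div_mul_cancel₀ _ hb0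
          rw [this]
          exact hbe
        · exact ⟨b / (b0 * ν), div_ne_zero hb0' (mul_ne_zero hb0 hν), h1⟩
      obtain ⟨s, hs0, hs⟩ := hz
      refine ⟨s, Or.inr ⟨?_, ?_, ?_⟩⟩
      · rw [td4vl3_LU_det, hA]
      · rw [td4vl3_LU_mul, Matrix.trace_fin_two_of]
        intro h
        have h2 : s * a0 * (b + s * b0 * ν) = 0 := by linear_combination h
        exact (mul_ne_zero (mul_ne_zero hs0 ha0) hs) h2
      · apply td4vl1_not_scalar10
        rw [td4vl3_LU_mul]
        show s * a0 * (ν + s * b0 * 0) + 0 ≠ 0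
        rw [mul_zero, add_zero, add_zero]
        exact mul_ne_zero (mul_ne_zero hs0 ha0) hν
  · -- scalar `k • 1`, `k ≠ ν`, `k² = ν²`: `U(e) A` not scalar with trace `2 k ≠ 2 ν`
    left
    have hak : a = k := by simpa using congrFun (congrFun hk 0) 0
    have hbk : b = 0 := by simpa using congrFun (congrFun hk 0) 1
    have hdk : d = k := by simpa using congrFun (congrFun hk 1) 1
    rw [hak, hbk, hdk] at hne hdetU ⊢
    rw [hak, hdk] at had
    have hkν : k ≠ ν := by
      intro h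
      apply hne
      rw [h]
      ext i j
      fin_cases i <;> fin_cases j <;> simp
    have hk0 : k ≠ 0 := by
      intro h
      rw [h, mul_zero] at had
      exact pow_ne_zero 2 hν had.symm
    refine Or.inr ⟨hdetU, ?_, ?_⟩
    · rw [td4vl1_U_mul, Matrix.trace_fin_two_of]
      intro h
      have h2 : k + k = 2 * ν := by linear_combination h
      exact hkν (td4vl1_diag ν k k had h2).1
    · apply td4vl1_not_scalar01
      rw [td4vl1_U_mul]
      show 0 + e * k ≠ 0
      rw [zero_add]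
      exact mul_ne_zero he hk0

end L

end Cfsg.Agent.Lib.helper23.TD4V
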