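import Cfsg.Agent.Lib.helper7.TP.Defs
import Cfsg.Agent.Lib.Helper28.Ld.Calc

/-!
# Project TP (S5637), piece SLGEN (helper18): `sl_le_of_lamA`.
-/

set_option autoImplicit false

namespace Cfsg.Agent.Lib.helper7.TP

open Matrix
open scoped Kronecker

variable {a b : ℕ} {F : Type*} [Field F]

/-- elementary transvections with different second coordinates are of the form `ELm`. -/
theorem tpslgen_cross (M : Subgroup (Matrix.GeneralLinearGroup (Fin a × Fin b) F))
    (h : ∀ ζ : Matrix (Fin a) (Fin a) F, LamA M ζ) (i k : Fin a) (j l : Fin b) (hjl : j ≠ l) :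
    Cfsg.Agent.Lib.Helper28.Ld.T M (Pi.single (i, j) (1 : F)) (Pi.single (k, l) (1 : F)) := by
  refine ⟨?_, ?_⟩
  · rw [dotProduct_comm, single_dotProduct, one_mul, Pi.single_apply, if_neg]
    intro h'
    exact hjl (congrArg Prod.snd h')
  · intro c g hg
    apply h (c • Matrix.single i k (1 : F)) (Pi.single j 1) (Pi.single l 1) g
    · rw [single_dotProduct, one_mul, Pi.single_apply, if_neg hjl.symm]
    · rw [Matrix.ext_iff_mulVec]
      intro x
      rw [hg x, ELm_mulVec]
      congr 1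
      funext p
      obtain ⟨p1, p2⟩ := p
      simp only [Pi.smul_apply, smul_eq_mul, ten, single_dotProduct, one_mul, Matrix.smul_mulVec,
        Matrix.single_mulVec, ctr, Pi.single_apply, Prod.mk.injEq, mul_ite, mul_one, mul_zero,
        Finset.sum_ite_eq', Finset.mem_univ, if_true]
      by_cases h1 : p1 = i
      · by_cases h2 : p2 = j
        · simp [h1, h2, mul_comm]
        · simp [h1, h2]
      · simp [h1]

/-- SLGEN: `Λ = M_a(F)` gives every elementary transvection (directly for `(i,j),(k,l)` with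
`j ≠ l`, by one commutator `Helper28.Ld.T_L3` for `j = l`), hence `SL ≤ M`
(`Helper28.Ld.SL_le_of_elem`). -/
theorem sl_le_of_lamA (ha : 1 ≤ a) (hb : 2 ≤ b)
    (M : Subgroup (Matrix.GeneralLinearGroup (Fin a × Fin b) F))
    (h : ∀ ζ : Matrix (Fin a) (Fin a) F, LamA M ζ) :
    Cfsg.Geo.specialLinear (Fin a × Fin b) F ≤ M := by
  have : Nontrivial (Fin a × Fin b) := by
    refine ⟨⟨(⟨0, by omega⟩, ⟨0, by omega⟩), (⟨0, by omega⟩, ⟨1, by omega⟩), ?_⟩⟩
    intro h'
    have := congrArg (fun p => (p.2 : ℕ)) h'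
    simp at this
  apply Cfsg.Agent.Lib.Helper28.Ld.SL_le_of_elem M
  rintro ⟨i, j⟩ ⟨k, l⟩ hpq
  by_cases hjl : j = l
  · subst hjl
    -- pick `l' ≠ j`
    obtain ⟨l', hl'⟩ : ∃ l' : Fin b, l' ≠ j := by
      by_cases h0 : (j : ℕ) = 0
      · exact ⟨⟨1, by omega⟩, fun h' => by have := congrArg Fin.val h'; simp at this; omega⟩
      · exact ⟨⟨0, by omega⟩, fun h' => by have := congrArg Fin.val h'; simp at this; omega⟩
    have h1 := tpslgen_cross M h k k l' j hl'
    have h2 := tpslgen_cross M h i k j l' hl'.symm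
    refine Cfsg.Agent.Lib.Helper28.Ld.T_L3 h1 h2 ?_ ?_
    · rw [single_dotProduct, one_mul, Pi.single_apply, if_neg]
      exact fun h' => hpq h'.symm
    · rw [single_dotProduct, one_mul, Pi.single_apply, if_pos rfl]
      exact one_ne_zero
  · exact tpslgen_cross M h i k j l hjl

end Cfsg.Agent.Lib.helper7.TP
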