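import Mathlib

/-!
# Project U3P (S2289, designer helper19), generic row F6 (`aeval_surj_of_pow_ne`) (helper18), VERBATIM (Mathlib only).
-/

set_option autoImplicit false

namespace Cfsg.Agent.Lib.Helper19.U3P

open Polynomial Matrix

universe u v

section F0

variable {F : Type u} [Field F] [Fintype F] {q : ℕ}

/-- F6 [M] -/
theorem aeval_surj_of_pow_ne (p : ℕ) [Fact p.Prime] [Algebra (ZMod p) F] (x : F)
    (hx : ∀ s : ℕ, 0 < s → s < Module.finrank (ZMod p) F → x ^ (p ^ s) ≠ x) :
    Function.Surjective (fun f : (ZMod p)[X] => aeval x f) := by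
  classical
  set K : IntermediateField (ZMod p) F := IntermediateField.adjoin (ZMod p) {x} with hK
  have hxK : x ∈ K := IntermediateField.mem_adjoin_simple_self _ x
  letI : Fintype K := Fintype.ofFinite K
  have hcard : Fintype.card K = p ^ Module.finrank (ZMod p) K := by
    rw [Module.card_eq_pow_finrank (K := ZMod p) (V := K), ZMod.card]
  have hpow : x ^ (p ^ Module.finrank (ZMod p) K) = x := by
    have := FiniteField.pow_card (⟨x, hxK⟩ : K)
    rw [hcard] at this
    exact congrArg Subtype.val this
  have hpos : 0 < Module.finrank (ZMod p) K := Module.finrank_pos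
  have hle : Module.finrank (ZMod p) K ≤ Module.finrank (ZMod p) F :=
    Submodule.finrank_le K.toSubalgebra.toSubmodule
  have heq : Module.finrank (ZMod p) K = Module.finrank (ZMod p) F := by
    rcases lt_or_eq_of_le hle with h | h
    · exact absurd hpow (hx _ hpos h)
    · exact h
  have htop : K.toSubalgebra.toSubmodule = ⊤ := Submodule.eq_top_of_finrank_eq heq
  have hint : IsAlgebraic (ZMod p) x := Algebra.IsAlgebraic.isAlgebraic x
  have hadj : K.toSubalgebra = Algebra.adjoin (ZMod p) {x} :=
    IntermediateField.adjoin_simple_toSubalgebra_of_isAlgebraic hint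
  intro y
  have hy : y ∈ K.toSubalgebra.toSubmodule := by rw [htop]; trivial
  have hy2 : y ∈ Algebra.adjoin (ZMod p) {x} := by rw [← hadj]; exact hy
  rw [Algebra.adjoin_singleton_eq_range_aeval] at hy2
  obtain ⟨f, hf⟩ := hy2
  exact ⟨f, hf⟩

end F0

end Cfsg.Agent.Lib.Helper19.U3P
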