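import Cfsg.Agent.Lib.helper6.UTP.Defs

/-!
# UTP / XSAPI : the closure calculus of `XSu` (general index type, standard hermitian form)
-/

set_option autoImplicit false
set_option linter.unusedVariables false
set_option linter.unusedSectionVars false

namespace Cfsg.Agent.Lib.helper6.UTP

open Matrix
open scoped Kronecker
open Cfsg.Agent.Lib.helper7.TP

variable {F : Type*} [Field F] {a b : ℕ}

/-- the transvection `x ↦ x + (r ⬝ᵥ x) • v` (`r ⬝ᵥ v = 0`) as an element of `GL` of determinant one. -/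
theorem utpxsapi_transv {ι : Type} [Fintype ι] [DecidableEq ι] (v r : ι → F) (h : r ⬝ᵥ v = 0) :
    ∃ g : Matrix.GeneralLinearGroup ι F, g ∈ Cfsg.Geo.specialLinear ι F ∧
      ∀ x, (g : Matrix ι ι F) *ᵥ x = x + (r ⬝ᵥ x) • v := by
  have hdet : (1 + Matrix.vecMulVec v r).det = 1 := by
    rw [Matrix.vecMulVec_eq Unit, Matrix.det_one_add_replicateCol_mul_replicateRow, h, add_zero]
  refine ⟨Matrix.GeneralLinearGroup.mkOfDetNeZero (1 + Matrix.vecMulVec v r)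
    (by rw [hdet]; exact one_ne_zero), ?_, ?_⟩
  · unfold Cfsg.Geo.specialLinear
    rw [MonoidHom.mem_ker]
    ext
    simp [Matrix.GeneralLinearGroup.mkOfDetNeZero, hdet]
  · intro x
    simp [Matrix.GeneralLinearGroup.mkOfDetNeZero, Matrix.add_mulVec, Matrix.vecMulVec_mulVec]

theorem utpxsapi_inv_mv {ι : Type} [Fintype ι] [DecidableEq ι] (g : Matrix.GeneralLinearGroup ι F)
    (y : ι → F) :
    ((g⁻¹ : Matrix.GeneralLinearGroup ι F) : Matrix ι ι F) *ᵥ ((g : Matrix ι ι F) *ᵥ y) = y := by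
  rw [Matrix.mulVec_mulVec, ← Units.val_mul, inv_mul_cancel, Units.val_one, Matrix.one_mulVec]

theorem utpxsapi_mul_mv {ι : Type} [Fintype ι] [DecidableEq ι] (g h : Matrix.GeneralLinearGroup ι F)
    (y : ι → F) :
    ((g * h : Matrix.GeneralLinearGroup ι F) : Matrix ι ι F) *ᵥ y =
      (g : Matrix ι ι F) *ᵥ ((h : Matrix ι ι F) *ᵥ y) := by
  rw [Units.val_mul, Matrix.mulVec_mulVec]

/-- a unitary transvection is an isometry. -/
theorem utpxsapi_iso (σ : F ≃+* F) (hσ : Inv2 σ) {ι : Type} [Fintype ι] [DecidableEq ι] (y : ι → F)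
    (hy : hf σ y y = 0) (c : F) (hc : σ c = -c) (g : Matrix.GeneralLinearGroup ι F)
    (hg : ∀ x, (g : Matrix ι ι F) *ᵥ x = x + hf σ x (c • y) • y) (x x' : ι → F) :
    hf σ ((g : Matrix ι ι F) *ᵥ x) ((g : Matrix ι ι F) *ᵥ x') = hf σ x x' := by
  rw [hg, hg, hf_add_left, hf_add_right, hf_add_right, hf_smul_left, hf_smul_left,
    hf_smul_right σ (hf σ x' (c • y)), hf_smul_right σ (hf σ x' (c • y)), hy, hf_smul_right σ c,
    hf_smul_right σ c, map_mul, hσ.invol, ← hf_herm σ hσ y x', hc]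
  ring

/-- XSAPI1 [S-M] the transvection `x ↦ x + hf x (c • y) • y` (`y` isotropic) as an element of `GL`, an isometry of
determinant one for `σ c = - c`.  (`Cfsg.Agent.S5643.tvGL`, `utv_iso` for a general index type.) -/
theorem tvu_exists (σ : F ≃+* F) (hσ : Inv2 σ) {ι : Type} [Fintype ι] [DecidableEq ι] (y : ι → F)
    (hy : hf σ y y = 0) (c : F) (hc : σ c = -c) :
    ∃ t : Matrix.GeneralLinearGroup ι F, t ∈ SUm σ ι ∧
      ∀ x, (t : Matrix ι ι F) *ᵥ x = x + hf σ x (c • y) • y := by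
  have h0 : cj σ (c • y) ⬝ᵥ y = 0 := by
    rw [dotProduct_comm]
    change hf σ y (c • y) = 0
    rw [hf_smul_right, hy, mul_zero]
  obtain ⟨g, hgS, hg⟩ := utpxsapi_transv y (cj σ (c • y)) h0
  have hg' : ∀ x, (g : Matrix ι ι F) *ᵥ x = x + hf σ x (c • y) • y := by
    intro x
    rw [hg, dotProduct_comm]
    rfl
  have hgU : g ∈ GUm σ ι := by
    rw [mem_GUm]
    exact utpxsapi_iso σ hσ y hy c hc g hg'
  exact ⟨g, ⟨hgU, hgS⟩, hg'⟩

/-- XSAPI2 [S] `XSu` is invariant under the isometries in `M`.  (`Helper28.UMax.XS_conj`.) -/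
theorem xsu_conj (σ : F ≃+* F) (hσ : Inv2 σ) {ι : Type} [Fintype ι] [DecidableEq ι]
    (M : Subgroup (Matrix.GeneralLinearGroup ι F)) {m : Matrix.GeneralLinearGroup ι F} (hm : m ∈ M)
    (hmiso : m ∈ GUm σ ι) {y : ι → F} (hy : y ∈ XSu σ M) : (m : Matrix ι ι F) *ᵥ y ∈ XSu σ M := by
  rw [mem_GUm] at hmiso
  obtain ⟨hy0, hyt⟩ := hy
  refine ⟨by rw [hmiso]; exact hy0, fun c hc t ht => ?_⟩
  have h1 : m⁻¹ * t * m ∈ M := hyt c hc _ (fun x => by
    rw [utpxsapi_mul_mv, utpxsapi_mul_mv, ht, Matrix.mulVec_add,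
      Matrix.mulVec_smul, utpxsapi_inv_mv, utpxsapi_inv_mv,
      ← Matrix.mulVec_smul, hmiso])
  have : t = m * (m⁻¹ * t * m) * m⁻¹ := by group
  rw [this]
  exact M.mul_mem (M.mul_mem hm h1) (M.inv_mem hm)

/-- XSAPI3 [S] `XSu` is stable under scalars.  (`Helper28.UMax.XS_smul`.) -/
theorem xsu_smul (σ : F ≃+* F) (hσ : Inv2 σ) {ι : Type} [Fintype ι] [DecidableEq ι]
    (M : Subgroup (Matrix.GeneralLinearGroup ι F)) (μ : F) {y : ι → F} (hy : y ∈ XSu σ M) :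
    μ • y ∈ XSu σ M := by
  obtain ⟨hy0, hyt⟩ := hy
  refine ⟨by rw [hf_smul_left, hf_smul_right, hy0, mul_zero, mul_zero], fun c hc t ht => ?_⟩
  apply hyt (c * μ * σ μ) (by
    rw [map_mul, map_mul, hc, hσ.invol]
    ring) t
  intro x
  rw [ht, hf_smul_right, hf_smul_right, hf_smul_right, smul_smul, map_mul, map_mul,
    hσ.invol]
  congr 2
  ring

/-- `y, z ∈ XSu`, `σ c = - c`: `y + hf y (c • z) • z ∈ XSu`.  (`Helper28.UMax.XS_tv`.) -/
theorem utpxsapi_tv (σ : F ≃+* F) (hσ : Inv2 σ) {ι : Type} [Fintype ι] [DecidableEq ι]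
    (M : Subgroup (Matrix.GeneralLinearGroup ι F)) {y z : ι → F} (hy : y ∈ XSu σ M)
    (hz : z ∈ XSu σ M) {c : F} (hc : σ c = -c) : y + hf σ y (c • z) • z ∈ XSu σ M := by
  obtain ⟨t, htS, ht⟩ := tvu_exists σ hσ z hz.1 c hc
  have htM := hz.2 c hc t ht
  have := xsu_conj σ hσ M htM htS.1 hy
  rw [ht] at this
  exact this

/-- XSAPI4 [S-M] hyperbolic closure: `y, z ∈ XSu`, `hf y z ≠ 0` skew, then `y + z ∈ XSu`.
(`Helper28.UMax.XS_tv` + `Helper28.UPair.XS_pair`; uses `tvu_exists`, `xsu_conj`.) -/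
theorem xsu_pair (σ : F ≃+* F) (hσ : Inv2 σ) {ι : Type} [Fintype ι] [DecidableEq ι]
    (M : Subgroup (Matrix.GeneralLinearGroup ι F)) {y z : ι → F} (hy : y ∈ XSu σ M) (hz : z ∈ XSu σ M)
    (hyz : hf σ y z ≠ 0) (hskew : σ (hf σ y z) = -hf σ y z) : y + z ∈ XSu σ M := by
  have hc : σ (-(hf σ y z)⁻¹) = -(-(hf σ y z)⁻¹) := by
    rw [map_neg, map_inv₀, hskew, inv_neg]
  have := utpxsapi_tv σ hσ M hy hz hc
  rw [hf_smul_right, hc, neg_neg, inv_mul_cancel₀ hyz, one_smul] at this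
  exact this

end Cfsg.Agent.Lib.helper6.UTP
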