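import Mathlib
import Cfsg.Prelude.Def_GeometricClasses
import Cfsg.Agent.Lib.Helper27.ASC.Defs
import Cfsg.Agent.Lib.Helper19.ASG.Defs
import Cfsg.Agent.Lib.Helper9.ASGD2T.Defs
import Cfsg.Agent.Lib.Helper9.ASGD2TF.Defs
import Cfsg.Agent.Lib.Helper19.ASU.Defs
import Cfsg.Agent.Lib.Helper19.ASUADJ
import Cfsg.Agent.Lib.Helper28.UNd
import Cfsg.Agent.Lib.Helper28.UHerm
import Cfsg.Agent.Lib.Helper10.U3FRSTD

set_option autoImplicit false
set_option linter.unusedVariables false
set_option linter.unusedSectionVars false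

/-!
# Project ASU (S5663), block D2T, piece D2T-HSTD : `herm_std` (helper18)

An invertible hermitian matrix is the Gram matrix of the standard form in a suitable basis.
-/

namespace Cfsg.Agent.Lib.Helper19.ASU

open Cfsg Cfsg.Geo Cfsg.Agent.Lib.Helper27.ASC Cfsg.Agent.Lib.Helper19.ASG
open scoped MatrixGroups Matrix

variable {n : ℕ} {F : Type*} [Field F]

variable [Fintype F]

/-- the sesquilinear form of the matrix `A` : `f x y = (y^σ) ⬝ᵥ (A *ᵥ x)` -/
noncomputable def asud2thstd_form (q : ℕ) {k : ℕ} (A : Matrix (Fin k) (Fin k) F) (x y : Fin k → F) : F :=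
  (fun a => (y a) ^ q) ⬝ᵥ (A *ᵥ x)

theorem asud2thstd_entry (q : ℕ) (hF : Fintype.card F = q ^ 2) {k : ℕ} (A S : Matrix (Fin k) (Fin k) F)
    (i j : Fin k) :
    ((S.map (ufrob hF))ᵀ * A * S) i j = asud2thstd_form q A (fun a => S a j) (fun a => S a i) := by
  unfold asud2thstd_form
  rw [Matrix.mul_assoc, Matrix.mul_apply, dotProduct]
  refine Finset.sum_congr rfl fun a _ => ?_
  rw [Matrix.transpose_apply, Matrix.map_apply, ufrob_apply, Matrix.mul_apply, Matrix.mulVec, dotProduct]

theorem asud2thstd_unitary (q : ℕ) (hF : Fintype.card F = q ^ 2) {k : ℕ} (A : Matrix (Fin k) (Fin k) F)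
    (hA : IsUnit A.det) (hherm : (A.map (ufrob hF))ᵀ = A) (σ : F ≃+* F) (hσ : ∀ x, σ x = x ^ q)
    (hne : σ ≠ RingEquiv.refl F) : Cfsg.Geo.IsUnitaryForm σ (asud2thstd_form q A) := by
  classical
  have hinv : ∀ a : F, σ (σ a) = a := by
    intro a
    rw [hσ, hσ]
    exact upow_pow hF a
  have hAe : ∀ a b, (A a b) ^ q = A b a := by
    intro a b
    have := congrFun (congrFun hherm b) a
    rw [Matrix.transpose_apply, Matrix.map_apply, ufrob_apply] at this
    exact this
  have hherm' : ∀ v w, asud2thstd_form q A v w = σ (asud2thstd_form q A w v) := by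
    intro v w
    have e1 : ∀ x y : Fin k → F, asud2thstd_form q A x y = ∑ a, ∑ b, σ (y a) * A a b * x b := by
      intro x y
      unfold asud2thstd_form
      simp only [dotProduct, Matrix.mulVec, Finset.mul_sum, hσ, mul_assoc]
    rw [e1, e1, map_sum]
    simp only [map_sum, map_mul, hinv]
    rw [Finset.sum_comm]
    refine Finset.sum_congr rfl fun a _ => Finset.sum_congr rfl fun b _ => ?_
    have : σ (A a b) = A b a := by rw [hσ]; exact hAe a b
    rw [this]; ring
  have hleft : ∀ v, v ≠ 0 → ∃ x, asud2thstd_form q A v x ≠ 0 := by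
    intro v hv
    by_contra hcon
    push Not at hcon
    apply hv
    have h0 : A *ᵥ v = 0 := by
      funext i
      have := hcon (Pi.single i 1)
      unfold asud2thstd_form at this
      rw [dotProduct, Finset.sum_eq_single i] at this
      · simpa using this
      · intro b _ hb
        rw [Pi.single_eq_of_ne hb, zero_pow (uq_pos hF).ne', zero_mul]
      · intro h
        exact absurd (Finset.mem_univ i) h
    have h1 : A⁻¹ *ᵥ (A *ᵥ v) = v := by
      rw [Matrix.mulVec_mulVec, Matrix.nonsing_inv_mul A hA, Matrix.one_mulVec]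
    rw [← h1, h0, Matrix.mulVec_zero]
  refine ⟨hne, hinv, ?_, ?_, hherm', ?_⟩
  · intro x y v
    unfold asud2thstd_form
    rw [Matrix.mulVec_add, dotProduct_add]
  · intro c x v
    unfold asud2thstd_form
    rw [Matrix.mulVec_smul, dotProduct_smul, smul_eq_mul]
  · intro v hv
    obtain ⟨x, hx⟩ := hleft v hv
    refine ⟨⟨x, ?_⟩, ⟨x, hx⟩⟩
    rw [hherm']
    intro h
    apply hx
    have := congrArg σ h
    rw [hinv, map_zero] at this
    exact this

/-- D2T-HSTD : an invertible hermitian matrix is the Gram matrix of the standard form in a suitable basis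
(orthogonal basis of the unitary form `x, y ↦ ∑ x a * A .. * (y b) ^ q`: `Cfsg.Agent.Lib.Helper28.UNd.orth_basis`; the values
`f (t i) (t i)` are fixed by `σ`, hence norms: `Cfsg.Agent.Lib.Helper10.U3FRSTD.u3frstd_norm`; `S` = the rescaled basis as columns). -/
theorem herm_std (q : ℕ) (hF : Fintype.card F = q ^ 2) {k : ℕ} (A : Matrix (Fin k) (Fin k) F) (hA : IsUnit A.det)
    (hherm : (A.map (ufrob hF))ᵀ = A) :
    ∃ S : GL (Fin k) F, ((S : Matrix (Fin k) (Fin k) F).map (ufrob hF))ᵀ * A * (S : Matrix (Fin k) (Fin k) F) = 1 := by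
  classical
  obtain ⟨σ, hσ, hU0⟩ := Cfsg.Agent.Lib.Helper28.UHerm.herm_unitary hF 0
  have hf := asud2thstd_unitary q hF A hA hherm σ hσ hU0.ne_refl
  have hNd : Cfsg.Agent.Lib.Helper28.UNd.NdOn (asud2thstd_form q A) ⊤ := by
    intro w _ hw
    obtain ⟨⟨x, hx⟩, _⟩ := hf.nondegenerate w hw
    exact ⟨x, Submodule.mem_top, hx⟩
  obtain ⟨d, t, hOF, -, hspan⟩ := Cfsg.Agent.Lib.Helper28.UNd.orth_basis hf k ⊤
    (by rw [finrank_top, Module.finrank_fin_fun]) hNd
  have hli : LinearIndependent F t := (hOF.nd hf).li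
  have hsp : ⊤ ≤ Submodule.span F (Set.range t) := fun w hw => hspan w hw
  have hdk : d = k := by
    have h1 := Module.finrank_eq_card_basis (Module.Basis.mk hli hsp)
    rw [Module.finrank_fin_fun, Fintype.card_fin] at h1
    exact h1.symm
  subst hdk
  have hnorm : ∀ i, ∃ c : F, c ^ (q + 1) = asud2thstd_form q A (t i) (t i) := by
    intro i
    apply Cfsg.Agent.Lib.Helper16.U3.u3frstd_norm q hF
    rw [← hσ]
    exact Cfsg.Agent.Lib.Helper28.UForm.f_self_fixed hf (t i)
  choose c hc using hnorm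
  have hc0 : ∀ i, c i ≠ 0 := by
    intro i h
    have := hc i
    rw [h, zero_pow (by omega)] at this
    exact hOF.ne i this.symm
  set S : Matrix (Fin d) (Fin d) F := Matrix.of (fun a i => (c i)⁻¹ * t i a) with hS
  have hcol : ∀ j, (fun a => S a j) = (c j)⁻¹ • t j := by
    intro j
    funext a
    rw [hS, Matrix.of_apply, Pi.smul_apply, smul_eq_mul]
  have hmain : ((S.map (ufrob hF))ᵀ * A * S) = 1 := by
    ext i j
    rw [asud2thstd_entry, hcol, hcol, hf.smul_left, Cfsg.Agent.Lib.Helper28.UForm.f_smul_right hf, hσ]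
    by_cases hij : i = j
    · subst hij
      rw [Matrix.one_apply_eq, ← hc i]
      have := hc0 i
      rw [inv_pow, pow_succ]
      field_simp
    · rw [Matrix.one_apply_ne hij, hOF.orth j i (fun h => hij h.symm), mul_zero, mul_zero]
  have hdet : IsUnit S.det := Matrix.isUnit_det_of_left_inverse hmain
  exact ⟨Matrix.GeneralLinearGroup.mk'' S hdet, hmain⟩

end Cfsg.Agent.Lib.Helper19.ASU
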