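import Mathlib
import Cfsg.Agent.Lib.helper15.St2
import Cfsg.Agent.Lib.helper3.STC.Defs
import Cfsg.Agent.Lib.helper3.STC.Defs2
import Cfsg.Agent.Lib.helper3.STC.Defs3
import Cfsg.Agent.Lib.Helper21.STCM.Vec

/-!
# Project STC (S2292, designer helper3), row R7 (`SysC.Rep.Yg_col`) (helper18), VERBATIM.
Self-contained on `STC.Defs*` and helper21's matrix lemmas (`STCM.Vec`, `STCM.Sys`): own-name copies
`stcr7_*` of the R1 / R3 facts used.
-/

set_option autoImplicit false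

namespace Cfsg.Agent.Lib.helper3.STC

open Cfsg.Agent.Lib.helper15.St2 Matrix

universe v w

theorem stcr7_Em_ng {ι l : Type*} (e : ι ↪ l) (a : ι ⊕ ι) : Em e (ng a) = ng (Em e a) := by
  cases a <;> rfl

theorem stcr7_Em_injective {ι l : Type*} (e : ι ↪ l) : Function.Injective (Em e) := by
  intro a b h
  cases a <;> cases b <;> simp [Em] at h <;> simp [h]

theorem stcr7_ng_ne {l : Type*} (a : l ⊕ l) : ng a ≠ a := by
  cases a <;> simp [ng]

theorem stcr7_ng_inj {l : Type*} {a b : l ⊕ l} (h : ng a = ng b) : a = b := by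
  cases a <;> cases b <;> simp [ng] at h <;> simp [h]

namespace SysC

namespace Rep

variable {K : Type*} [Field K] {ι : Type*} {G : Type*} [Group G] {S : SysC K ι G}
  {l : Type*} [Fintype l] [DecidableEq l] (R : S.Rep l)

theorem stcr7_M_one : R.M 1 = 1 := by
  unfold Rep.M
  rw [map_one]
  rfl

theorem stcr7_M_mul (g g' : G) : R.M (g * g') = R.M g * R.M g' := by
  unfold Rep.M
  rw [map_mul]
  rfl

theorem stcr7_M_x {a b : ι ⊕ ι} (hab : a ≠ b) (t : K) :
    R.M (S.x a b t) = Tm (Em R.e a) (Em R.e b) t := R.hφ a b hab t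

theorem stcr7_M_inv_mul (g : G) : R.M g⁻¹ * R.M g = 1 := by
  rw [← stcr7_M_mul, inv_mul_cancel, stcr7_M_one]

variable (o : ι ⊕ ι)

/-- the vector `e_{-o}` is fixed by `Yg o`, and the columns `c ≠ o` have the shape `e_c + r e_{-o}` -/
theorem stcr7_Yg_col_aux : ∀ y ∈ S.Yg o,
    R.M y *ᵥ ev (Em R.e (ng o)) = ev (Em R.e (ng o)) ∧
      ∀ c, c ≠ Em R.e o → ∃ r : K, R.M y *ᵥ ev c = ev c + r • ev (Em R.e (ng o)) := by
  intro y hy
  unfold Yg XQ at hy
  induction hy using Subgroup.closure_induction with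
  | mem g hg =>
    obtain ⟨a, b, t, hab, rfl, rfl⟩ := hg
    have hab' : Em R.e a ≠ Em R.e b := fun h => hab (stcr7_Em_injective R.e h)
    rw [stcr7_M_x R hab, stcr7_Em_ng]
    refine ⟨?_, ?_⟩
    · exact Mat.Tm_mulVec_single_of_ne (stcr7_ng_ne _)
        (fun h => hab' (stcr7_ng_inj h).symm) t
    · intro c hc
      rw [Mat.Tm_mulVec]
      have h1 : (ev c : l ⊕ l → K) (Em R.e b) = 0 := by
        unfold ev
        rw [Pi.single_apply, if_neg hc.symm]
      by_cases hb : Em R.e b = ng (Em R.e a)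
      · rw [if_pos hb, h1]
        exact ⟨0, by simp⟩
      · rw [if_neg hb, h1]
        refine ⟨-(sg (Em R.e a) * sg (Em R.e b) * t * (ev c : l ⊕ l → K) (ng (Em R.e a))), ?_⟩
        unfold ev
        ext m
        simp only [mul_zero, Pi.single_zero, add_zero, Pi.sub_apply, Pi.add_apply, Pi.smul_apply,
          Pi.single_apply, smul_eq_mul]
        split_ifs <;> ring
  | one =>
    rw [stcr7_M_one]
    refine ⟨Matrix.one_mulVec _, fun c _ => ⟨0, by rw [Matrix.one_mulVec, zero_smul, add_zero]⟩⟩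
  | mul y y' _ _ ihy ihy' =>
    obtain ⟨h1, h2⟩ := ihy
    obtain ⟨h1', h2'⟩ := ihy'
    rw [stcr7_M_mul]
    refine ⟨by rw [← Matrix.mulVec_mulVec, h1', h1], ?_⟩
    intro c hc
    obtain ⟨r, hr⟩ := h2 c hc
    obtain ⟨r', hr'⟩ := h2' c hc
    refine ⟨r + r', ?_⟩
    rw [← Matrix.mulVec_mulVec, hr', Matrix.mulVec_add, Matrix.mulVec_smul, h1, hr, add_smul, add_assoc]
  | inv y _ ihy =>
    obtain ⟨h1, h2⟩ := ihy
    have hfix : R.M y⁻¹ *ᵥ ev (Em R.e (ng o)) = ev (Em R.e (ng o)) := by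
      have := congrArg (fun v => R.M y⁻¹ *ᵥ v) h1
      simp only [Matrix.mulVec_mulVec, stcr7_M_inv_mul, Matrix.one_mulVec] at this
      exact this.symm
    refine ⟨hfix, ?_⟩
    intro c hc
    obtain ⟨r, hr⟩ := h2 c hc
    refine ⟨-r, ?_⟩
    have := congrArg (fun v => R.M y⁻¹ *ᵥ v) hr
    simp only [Matrix.mulVec_mulVec, stcr7_M_inv_mul, Matrix.one_mulVec, Matrix.mulVec_add,
      Matrix.mulVec_smul, hfix] at this
    rw [eq_sub_of_add_eq this.symm, neg_smul, sub_eq_add_neg]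

/-- R7 [M] -/
theorem Yg_col : ∀ y ∈ S.Yg o, ∀ c, c ≠ Em R.e o → ∃ r : K, R.M y *ᵥ ev c = ev c + r • ev (Em R.e (ng o)) :=
  fun y hy => (stcr7_Yg_col_aux R o y hy).2

end Rep

end SysC

end Cfsg.Agent.Lib.helper3.STC
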