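import Mathlib
import Cfsg.Agent.Lib.helper15.St2
import Cfsg.Agent.Lib.helper3.STC.Defs
import Cfsg.Agent.Lib.helper3.STC.Defs2
import Cfsg.Agent.Lib.helper3.STC.Defs3
import Cfsg.Agent.Lib.Helper21.STCM.Vec
import Cfsg.Agent.Lib.Helper26.STCN1
import Cfsg.Agent.Lib.Helper18.STCR7

/-!
# Project STC (S2292, designer helper3), row J6 (`SysC.Rep.A_fix_eq_one`) (helper18), VERBATIM.
On helper26's N1 (`x_mem_Yg'`), helper21's matrix lemmas (`WL_eq`, `WL_mulVec_na`) and the own-name copies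
of R1 / R3 in `Helper18.STCR7`; the long case of R5 `M_w_snd` is proved here (`stcj6_M_wl_snd`).
-/

set_option autoImplicit false

namespace Cfsg.Agent.Lib.helper3.STC

open Cfsg.Agent.Lib.helper15.St2 Matrix

universe v w

namespace SysC

namespace Rep

variable {K : Type*} [Field K] {ι : Type*} {G : Type*} [Group G] {S : SysC K ι G}
  {l : Type*} [Fintype l] [DecidableEq l] (R : S.Rep l)

variable (o : ι ⊕ ι)

/-- the long Weyl element `w o (ng o) u` sends `e_{-o}` to `u e_o` -/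
theorem stcj6_M_wl_snd (u : K) (hu : u ≠ 0) :
    R.M (S.w o (ng o) u) *ᵥ ev (Em R.e (ng o)) = u • ev (Em R.e o) := by
  have hne : o ≠ ng o := (stcr7_ng_ne o).symm
  unfold SysC.w
  rw [stcr7_M_mul, stcr7_M_mul, stcr7_M_x R hne, stcr7_M_x R hne.symm, stcr7_Em_ng]
  have e1 : Tm (Em R.e o) (ng (Em R.e o)) u = Mat.TL (Em R.e o) u := Mat.Tm_long _ _
  have e2 : Tm (ng (Em R.e o)) (Em R.e o) (-u⁻¹) = Mat.TL (ng (Em R.e o)) (-u⁻¹) := by
    have := Mat.Tm_long (ng (Em R.e o)) (-u⁻¹)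
    rwa [Mat.ng_ng] at this
  rw [e1, e2, Mat.WL_eq _ _ hu]
  unfold ev
  rw [Mat.WL_mulVec_na]
  ext m
  simp [Pi.single_apply]

/-- J6 [M] -/
theorem A_fix_eq_one [DecidableEq ι] (hW : S.HW)
    (hYfix : ∀ y ∈ S.Yg o, R.M y *ᵥ ev (Em R.e o) = ev (Em R.e o) → y = 1) {a : G} (ha : a ∈ S.Ag o)
    (h : R.M a *ᵥ ev (Em R.e (ng o)) = ev (Em R.e (ng o))) : a = 1 := by
  have hne : o ≠ ng o := (stcr7_ng_ne o).symm
  obtain ⟨-, hmon⟩ := hW o (ng o) hne 1 one_ne_zero
  have hσ : wpm o (ng o) = Equiv.swap o (ng o) := by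
    unfold wpm
    rw [if_pos rfl]
  -- `cj w` maps `Ag o` into `Yg o`
  have hcj : ∀ a ∈ S.Ag o, cj (S.w o (ng o) 1) a ∈ S.Yg o := by
    intro a ha
    unfold Ag XQ at ha
    induction ha using Subgroup.closure_induction with
    | mem g hg =>
      obtain ⟨a', b, t, hab, rfl, rfl⟩ := hg
      rw [hmon a' b hab t, hσ, Equiv.swap_apply_left]
      apply S.x_mem_Yg'
      intro hb
      have : (Equiv.swap a' (ng a')) b = (Equiv.swap a' (ng a')) a' := by
        rw [hb, Equiv.swap_apply_left]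
      exact hab ((Equiv.swap a' (ng a')).injective this).symm
    | one => rw [cj_one]; exact one_mem _
    | mul x y _ _ hx hy => rw [cj_mul]; exact mul_mem hx hy
    | inv x _ hx => rw [cj_inv]; exact inv_mem hx
  have hw := stcj6_M_wl_snd R o 1 one_ne_zero
  rw [one_smul] at hw
  have hwi : R.M (S.w o (ng o) 1)⁻¹ *ᵥ ev (Em R.e o) = ev (Em R.e (ng o)) := by
    have := congrArg (fun v => R.M (S.w o (ng o) 1)⁻¹ *ᵥ v) hw
    simp only [Matrix.mulVec_mulVec, stcr7_M_inv_mul, Matrix.one_mulVec] at this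
    exact this.symm
  have hfix : R.M (cj (S.w o (ng o) 1) a) *ᵥ ev (Em R.e o) = ev (Em R.e o) := by
    unfold cj
    rw [stcr7_M_mul, stcr7_M_mul, ← Matrix.mulVec_mulVec, ← Matrix.mulVec_mulVec, hwi, h, hw]
  have h1 := hYfix _ (hcj a ha) hfix
  unfold cj at h1
  have : a = (S.w o (ng o) 1)⁻¹ * (S.w o (ng o) 1 * a * (S.w o (ng o) 1)⁻¹) * S.w o (ng o) 1 := by
    group
  rw [this, h1]
  group

end Rep

end SysC

end Cfsg.Agent.Lib.helper3.STC
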