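import Mathlib
import Cfsg.Agent.Lib.Lead.HermIso

/-!
# Project U3P (S2289, designer helper19), row F1 (`trace_surj`) (helper18), VERBATIM; on Lead's `HI.trace_surj`,
`HI.card_fixed`.
-/

set_option autoImplicit false

namespace Cfsg.Agent.Lib.Helper19.U3P

open Polynomial Matrix

universe u v

section F0

variable {F : Type u} [Field F] [Fintype F] {q : ℕ}

/-- F1 [M] -/
theorem trace_surj (hF : Fintype.card F = q ^ 2) (σ : F →+* F) (hσ : ∀ x, σ x = x ^ q) :
    (∀ y : F, σ y = y → ∃ x : F, x + σ x = y) ∧ Nat.card {x : F // σ x = x} = q := by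
  classical
  refine ⟨?_, ?_⟩
  · intro y hy
    rw [hσ] at hy
    obtain ⟨c, hc⟩ := Cfsg.Agent.Lib.Lead.HI.trace_surj hF y hy
    exact ⟨c, by rw [hσ, hc]⟩
  · rw [Nat.card_eq_fintype_card, Fintype.card_subtype]
    have := Cfsg.Agent.Lib.Lead.HI.card_fixed hF
    rw [← this]
    congr 1
    ext x
    simp only [Finset.mem_filter, Finset.mem_univ, true_and, hσ]

end F0

end Cfsg.Agent.Lib.Helper19.U3P
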