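import Mathlib
import Cfsg.Agent.Lib.helper7.BR.Defs
import Cfsg.Agent.Lib.Helper13.B43.Defs
import Cfsg.Agent.Lib.helper7.BD.Char
import Cfsg.Agent.Lib.helper2.BDCASETOP
import Cfsg.Agent.Lib.helper2.PModular2
import Cfsg.Agent.Lib.helper23.BRCLS
import Cfsg.Agent.Lib.helper23.BRDIV
import Cfsg.Agent.Lib.helper23.BRPERF
import Cfsg.Agent.Lib.helper23.BRSQ
import Cfsg.Agent.Lib.helper23.B43A1
import Cfsg.Agent.Lib.Helper29.ScGroup
import Cfsg.Agent.S4508

/-!
# Project B43, piece T1 : the case `|N_G(P) : C_G(P)| = p - 1` (`top_case`)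
-/

set_option autoImplicit false
set_option linter.unusedVariables false
set_option linter.unusedSectionVars false
set_option linter.style.haveILetI false

namespace Cfsg.Agent.Lib.Helper13.B43

open Classical
open Cfsg.Agent.Lib.Helper25
open Cfsg.Agent.Lib.helper7.BR
open scoped ComplexConjugate


/-- pure arithmetic end of T1 -/
theorem b43t1_final (p n : ℕ) (b c D : ℤ) (hp : 2 ≤ p) (hn : 1 ≤ n) (hb : 0 ≤ b) (hc : 0 ≤ c)
    (h1 : (p : ℤ) = 1 + c + b)
    (h2 : 0 = 1 + c * (1 + n * p) - D)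
    (h3 : 2 * (p : ℤ) * b ≤ D + b)
    (h4 : 1 + c * (1 + (n : ℤ) * p) ^ 2 ≤ (p : ℤ) * (p - 1) * (1 + n * p)) : n = 1 := by
  have hpZ : (2 : ℤ) ≤ (p : ℤ) := by exact_mod_cast hp
  have hnZ : (1 : ℤ) ≤ (n : ℤ) := by exact_mod_cast hn
  set m : ℤ := 1 + (n : ℤ) * p with hm
  have hm0 : 0 < m := by positivity
  -- c m < p (p-1)
  have h5 : c * m < (p : ℤ) * (p - 1) := by
    have : c * m * m < (p : ℤ) * (p - 1) * m := by nlinarith
    exact lt_of_mul_lt_mul_right this hm0.le
  -- (2p-1) b ≤ p (p-1)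
  have h6 : (2 * (p : ℤ) - 1) * b ≤ (p : ℤ) * (p - 1) := by nlinarith
  have h7 : 2 * b ≤ (p : ℤ) - 1 := by
    by_contra hcon
    push Not at hcon
    have : (p : ℤ) ≤ 2 * b := by omega
    nlinarith
  have h8 : (p : ℤ) - 1 ≤ 2 * c := by linarith
  have h9 : ((p : ℤ) - 1) * m < 2 * (p : ℤ) * (p - 1) := by nlinarith
  have h10 : m < 2 * (p : ℤ) := by
    have hp1 : (0 : ℤ) < (p : ℤ) - 1 := by linarith
    have : m * ((p : ℤ) - 1) < 2 * (p : ℤ) * ((p : ℤ) - 1) := by linarith
    exact lt_of_mul_lt_mul_right this hp1.le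
  have h11 : (n : ℤ) < 2 := by
    by_contra hcon
    push Not at hcon
    have : 2 * (p : ℤ) ≤ (n : ℤ) * p := by nlinarith
    linarith
  omega

/-- finset bookkeeping of T1 -/
theorem b43t1_count {ι : Type*} [Fintype ι] (triv : ι) (a : ι → ℤ) (d : ι → ℕ) (p n : ℕ)
    (hp : 2 ≤ p) (hn : 1 ≤ n)
    (X : Finset ι) (hXcard : X.card = p - 1) (hX : ∀ i ∈ X, a i ^ 2 = 1)
    (hsq : ∑ i, a i ^ 2 = (p : ℤ))
    (horth : ∑ i, (d i : ℤ) * a i = 0)
    (hatriv : a triv = 1) (hdtriv : d triv = 1)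
    (hplus : ∀ i, i ≠ triv → a i = 1 → d i = 1 + n * p)
    (hminus : ∀ i, a i = -1 → 2 * p ≤ d i + 1)
    (hcard : ∑ i, d i ^ 2 = p * (p - 1) * (1 + n * p)) : n = 1 := by
  -- all values are in {-1, 0, 1}
  have hval : ∀ i, a i = 1 ∨ a i = -1 ∨ a i = 0 := by
    have hsplit : ∑ i ∈ X, a i ^ 2 + ∑ i ∈ Xᶜ, a i ^ 2 = (p : ℤ) := by
      rw [Finset.sum_add_sum_compl, hsq]
    have hXsum : ∑ i ∈ X, a i ^ 2 = ((p - 1 : ℕ) : ℤ) := by
      rw [Finset.sum_congr rfl hX, Finset.sum_const, hXcard]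
      simp
    have hcsum : ∑ i ∈ Xᶜ, a i ^ 2 = 1 := by
      rw [hXsum, Nat.cast_sub (by omega)] at hsplit
      push_cast at hsplit
      linarith
    intro i
    have hle : a i ^ 2 ≤ 1 := by
      by_cases hi : i ∈ X
      · rw [hX i hi]
      · have hi' : i ∈ Xᶜ := Finset.mem_compl.mpr hi
        have := Finset.single_le_sum (f := fun i => a i ^ 2) (fun j _ => sq_nonneg (a j)) hi'
        rw [hcsum] at this
        exact this
    have h1 : -1 ≤ a i := by nlinarith
    have h2 : a i ≤ 1 := by nlinarith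
    omega
  set fp : ι → ℤ := fun i => if (i ≠ triv ∧ a i = 1) then 1 else 0 with hfp
  set fm : ι → ℤ := fun i => if a i = -1 then 1 else 0 with hfm
  set ft : ι → ℤ := fun i => if i = triv then 1 else 0 with hft
  have hft_sum : ∑ i, ft i = 1 := by
    simp [hft]
  have hfp0 : ∀ i, 0 ≤ fp i := by
    intro i
    simp only [hfp]
    split_ifs <;> norm_num
  have hfm0 : ∀ i, 0 ≤ fm i := by
    intro i
    simp only [hfm]
    split_ifs <;> norm_num
  -- pointwise identities
  have e1 : ∀ i, a i ^ 2 = ft i + fp i + fm i := by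
    intro i
    simp only [hft, hfp, hfm]
    by_cases hi : i = triv
    · subst hi
      simp [hatriv]
    · rcases hval i with h | h | h <;> simp [hi, h]
  have e2 : ∀ i, (d i : ℤ) * a i = ft i + fp i * (1 + n * p) - fm i * (d i : ℤ) := by
    intro i
    simp only [hft, hfp, hfm]
    by_cases hi : i = triv
    · subst hi
      simp [hatriv, hdtriv]
    · rcases hval i with h | h | h
      · have := hplus i hi h
        simp [hi, h, this]
      · simp [hi, h]
      · simp [hi, h]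
  have e3 : ∀ i, 2 * (p : ℤ) * fm i ≤ fm i * (d i : ℤ) + fm i := by
    intro i
    simp only [hfm]
    by_cases h : a i = -1
    · have := hminus i h
      simp only [h, if_true]
      have : (2 * p : ℤ) ≤ (d i : ℤ) + 1 := by exact_mod_cast this
      linarith
    · simp [h]
  have e4 : ∀ i, ft i + fp i * (1 + (n : ℤ) * p) ^ 2 ≤ ((d i : ℤ)) ^ 2 := by
    intro i
    simp only [hft, hfp]
    by_cases hi : i = triv
    · subst hi
      simp [hdtriv]
    · by_cases h : a i = 1
      · have := hplus i hi h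
        simp [hi, h, this]
      · simp [hi, h]
  set c : ℤ := ∑ i, fp i with hc
  set b : ℤ := ∑ i, fm i with hb
  set D : ℤ := ∑ i, fm i * (d i : ℤ) with hD
  have s1 : (p : ℤ) = 1 + c + b := by
    rw [← hsq, Finset.sum_congr rfl (fun i _ => e1 i), Finset.sum_add_distrib,
      Finset.sum_add_distrib, hft_sum]
  have s2 : 0 = 1 + c * (1 + n * p) - D := by
    rw [← horth, Finset.sum_congr rfl (fun i _ => e2 i), Finset.sum_sub_distrib,
      Finset.sum_add_distrib, hft_sum, ← Finset.sum_mul]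
  have s3 : 2 * (p : ℤ) * b ≤ D + b := by
    rw [hb, hD, Finset.mul_sum, ← Finset.sum_add_distrib]
    exact Finset.sum_le_sum (fun i _ => e3 i)
  have s4 : 1 + c * (1 + (n : ℤ) * p) ^ 2 ≤ (p : ℤ) * (p - 1) * (1 + n * p) := by
    have h0 : ((∑ i, d i ^ 2 : ℕ) : ℤ) = (p : ℤ) * (p - 1) * (1 + n * p) := by
      rw [hcard]
      push_cast [Nat.cast_sub (show 1 ≤ p by omega)]
      ring
    rw [← h0]
    push_cast
    calc 1 + c * (1 + (n : ℤ) * p) ^ 2 = ∑ i, (ft i + fp i * (1 + (n : ℤ) * p) ^ 2) := by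
          rw [Finset.sum_add_distrib, hft_sum, ← Finset.sum_mul]
      _ ≤ ∑ i, ((d i : ℤ)) ^ 2 := Finset.sum_le_sum (fun i _ => e4 i)
  exact b43t1_final p n b c D hp hn (Finset.sum_nonneg (fun i _ => hfm0 i))
    (Finset.sum_nonneg (fun i _ => hfp0 i)) s1 s2 s3 s4

universe u

variable {G : Type u} [Group G] [Fintype G] {p : ℕ} [Fact p.Prime]

/-- T1 with the arithmetic lemma A1 (for `q = p - 1`) as a hypothesis -/
theorem b43t1_core (hperf : commutator G = ⊤) (P : Sylow p G) (hP : Nat.card ↥(P : Subgroup G) = p)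
    (hcen : cen P = (P : Subgroup G)) (hrel : (cen P).relIndex (nrm P) = p - 1) (n : ℕ)
    (hidx : (nrm P).index = 1 + n * p) (hn : 1 ≤ n) (hn2 : 2 * n ≤ p + 2)
    (hA1 : ∀ d : ℕ, d ∣ (p - 1) * (1 + n * p) → d % p = 1 → 2 ≤ d → d = 1 + n * p) : n = 1 := by
  have hpp := (Fact.out : p.Prime)
  have hp2 : 2 ≤ p := hpp.two_le
  haveI : Fintype (Cfsg.IrrCharacter G) := Fintype.ofFinite _
  -- the integer values on `P ∖ 1`
  choose a ha hadeg using fun χ : Cfsg.IrrCharacter G =>
    Cfsg.Agent.Lib.helper7.BD.h2_exists_int_value p P hP hrel χ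
  -- a non-trivial element
  obtain ⟨x₀', hx₀'⟩ := exists_prime_orderOf_dvd_card' (G := (P : Subgroup G)) p (by rw [hP])
  have hx₀ : (x₀' : G) ∈ (P : Subgroup G) := x₀'.2
  have hx₀1 : (x₀' : G) ≠ 1 := by
    intro h
    have : x₀' = 1 := Subtype.ext h
    rw [this, orderOf_one] at hx₀'
    omega
  set x₀ : G := (x₀' : G) with hx₀def
  have hord : orderOf x₀ = p :=
    Cfsg.Agent.Lib.helper7.BD.h2_orderOf_of_card_prime p (P : Subgroup G) hP x₀ hx₀ hx₀1
  -- the degrees
  set d : Cfsg.IrrCharacter G → ℕ := fun χ => Cfsg.charDegree (χ : G → ℂ) with hd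
  have hdspec : ∀ χ : Cfsg.IrrCharacter G, (χ : G → ℂ) 1 = (d χ : ℂ) := fun χ =>
    (charDegree_irr χ).1.symm
  have hdpos : ∀ χ : Cfsg.IrrCharacter G, 0 < d χ := fun χ => (charDegree_irr χ).2
  -- orders
  have hCN : cen P ≤ nrm P := Subgroup.centralizer_le_normalizer _
  have hcidx : (cen P).index = (p - 1) * (1 + n * p) := by
    rw [← Subgroup.relIndex_mul_index hCN, hrel, hidx]
  have hcardC : Nat.card ↥(cen P) = p := by rw [hcen, hP]
  have hcardG : Nat.card G = p * (p - 1) * (1 + n * p) := by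
    rw [← Subgroup.index_mul_card (cen P), hcidx, hcardC]
    ring
  have hcardN : Nat.card ↥(nrm P) = (p - 1) * p := by
    have h1 := Subgroup.relIndex_mul_relIndex (⊥ : Subgroup G) (cen P) (nrm P) bot_le hCN
    rw [Subgroup.relIndex_bot_left, Subgroup.relIndex_bot_left, hrel, hcardC] at h1
    rw [← h1, mul_comm]
  have hcx : Subgroup.centralizer ({x₀} : Set G) = cen P := centralizer_eq_cen P hP x₀ hx₀ hx₀1
  -- the trivial character
  have hatriv : a (trivIrr G) = 1 := by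
    have := ha (trivIrr G) x₀ hx₀ hx₀1
    rw [trivIrr_apply] at this
    have h' : ((1 : ℤ) : ℂ) = ((a (trivIrr G) : ℤ) : ℂ) := by rw [← this]; simp
    exact_mod_cast h'.symm
  have hdtriv : d (trivIrr G) = 1 := by
    have := hdspec (trivIrr G)
    rw [trivIrr_apply] at this
    exact_mod_cast this.symm
  -- column orthogonality at `(x₀, x₀)`
  have hsq : ∑ χ : Cfsg.IrrCharacter G, a χ ^ 2 = (p : ℤ) := by
    have h := irr_column_orthogonality (G := G) x₀ x₀
    rw [if_pos (IsConj.refl x₀), hcx, hcardC] at h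
    have h4 : ∀ χ : Cfsg.IrrCharacter G, (χ : G → ℂ) x₀ * conj ((χ : G → ℂ) x₀) =
        (((a χ) ^ 2 : ℤ) : ℂ) := by
      intro χ
      rw [ha χ x₀ hx₀ hx₀1, map_intCast (starRingEnd ℂ)]
      push_cast
      ring
    rw [Finset.sum_congr rfl (fun χ _ => h4 χ), ← Int.cast_sum] at h
    exact_mod_cast h
  -- column orthogonality at `(1, x₀)`
  have horth : ∑ χ : Cfsg.IrrCharacter G, (d χ : ℤ) * a χ = 0 := by
    have h := irr_column_orthogonality (G := G) (1 : G) x₀
    have hnc : ¬ IsConj x₀ 1 := by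
      intro hc
      exact hx₀1 (isConj_one_left.mp hc)
    rw [if_neg hnc] at h
    have h4 : ∀ χ : Cfsg.IrrCharacter G, (χ : G → ℂ) 1 * conj ((χ : G → ℂ) x₀) =
        (((d χ : ℤ) * a χ : ℤ) : ℂ) := by
      intro χ
      rw [ha χ x₀ hx₀ hx₀1, map_intCast (starRingEnd ℂ), hdspec χ]
      push_cast
      ring
    rw [Finset.sum_congr rfl (fun χ _ => h4 χ), ← Int.cast_sum] at h
    exact_mod_cast h
  -- `p - 1` characters with value `± 1`
  have hX : ∃ X : Finset (Cfsg.IrrCharacter G), X.card = p - 1 ∧ ∀ χ ∈ X, a χ ^ 2 = 1 := by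
    by_cases hodd : p = 2
    · refine ⟨{trivIrr G}, ?_, ?_⟩
      · rw [Finset.card_singleton, hodd]
      · intro χ hχ
        rw [Finset.mem_singleton.mp hχ, hatriv]
        norm_num
    · obtain ⟨M, hM⟩ := Cfsg.Agent.Lib.helper2.exists_isPModular p hpp
      obtain ⟨X, Y, _, _, hXcard, _, εX, ε, hXprop, _⟩ :=
        Cfsg.Agent.Lib.helper7.BD.s4441_main p M hM hodd P hP (p - 1) hrel
      refine ⟨Finset.univ.filter (fun χ => χ ∈ X), ?_, ?_⟩
      · rw [← hXcard, Nat.card_eq_fintype_card, Fintype.card_subtype]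
      · intro χ hχ
        have hχX : χ ∈ X := (Finset.mem_filter.mp hχ).2
        obtain ⟨hpm, _, hv⟩ := hXprop χ hχX
        have h1 := hv x₀ hx₀ hx₀1 1 (Subgroup.one_mem _) (by
          rw [orderOf_one]
          exact fun h => by have := Nat.le_of_dvd one_pos h; omega)
        rw [mul_one, ha χ x₀ hx₀ hx₀1] at h1
        have h2 : a χ = εX χ := by exact_mod_cast h1
        rw [h2]
        rcases hpm with h | h <;> rw [h] <;> norm_num
  obtain ⟨X, hXcard, hXa⟩ := hX
  -- the sum of the squares of the degrees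
  have hsumsq : ∑ χ : Cfsg.IrrCharacter G, d χ ^ 2 = p * (p - 1) * (1 + n * p) := by
    rw [← hcardG]
    exact brsq_sum_all d hdspec
  -- degrees with `a = 1`
  have hmod : ∀ χ : Cfsg.IrrCharacter G, (d χ : ℤ) ≡ a χ [ZMOD p] := fun χ => hadeg χ
  have hplus : ∀ χ : Cfsg.IrrCharacter G, χ ≠ trivIrr G → a χ = 1 → d χ = 1 + n * p := by
    intro χ hne h1
    apply hA1
    · rw [← hcidx]
      exact deg_dvd_of_pm_one P hP χ (a χ) (Or.inl h1) x₀ hx₀ hx₀1 (ha χ x₀ hx₀ hx₀1) _ (hdspec χ)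
    · have h2 := hmod χ
      rw [h1] at h2
      have h3 : d χ ≡ 1 [MOD p] := by
        rw [← Int.natCast_modEq_iff]
        exact_mod_cast h2
      rw [Nat.ModEq, Nat.one_mod_eq_one.mpr (by omega)] at h3
      exact h3
    · obtain ⟨d', hd'2, hd'⟩ := deg_ge_two hperf χ hne
      have : (d χ : ℂ) = (d' : ℂ) := by rw [← hdspec χ, hd']
      have : d χ = d' := by exact_mod_cast this
      rw [this]
      exact hd'2
  -- degrees with `a = -1`
  have hzp : Subgroup.zpowers x₀ = (P : Subgroup G) := by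
    apply Subgroup.eq_of_le_of_card_ge
    · exact Subgroup.zpowers_le.mpr hx₀
    · rw [Nat.card_zpowers, hord, hP]
  have hminus : ∀ χ : Cfsg.IrrCharacter G, a χ = -1 → 2 * p ≤ d χ + 1 := by
    intro χ h1
    have h2 := hmod χ
    rw [h1] at h2
    have h3 : (p : ℤ) ∣ (d χ : ℤ) + 1 := by
      have := (Int.modEq_iff_dvd.mp h2.symm)
      simpa using this
    have h4 : p ∣ d χ + 1 := by exact_mod_cast h3
    obtain ⟨u, hu⟩ := h4
    have hu0 : u ≠ 0 := by
      intro h0
      rw [h0, mul_zero] at hu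
      omega
    have hu1 : u ≠ 1 := by
      intro hu1
      rw [hu1, mul_one] at hu
      -- a character of degree `p - 1`: S4508
      have hC : Subgroup.centralizer ({x₀} : Set G) = Subgroup.zpowers x₀ := by
        rw [hcx, hcen, hzp]
      have hcount := Cfsg.Agent.Lib.Helper29.scg_count (x := x₀) hord hC _ rfl (p - 1)
        (by rw [hzp]; exact hcardN)
      have ht1 : Nat.card {C : ConjClasses G // ∃ g ∈ C.carrier, orderOf g = p} = 1 := by
        have hp1 : 0 < p - 1 := by omega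
        exact Nat.eq_of_mul_eq_mul_right hp1 (by rw [hcount, one_mul])
      rcases Cfsg.Agent.S4508.result p hpp x₀ hord hC 1 ht1 χ hu with h | h
      · exact absurd h (by decide)
      · rw [hperf, Subgroup.index_top] at h
        exact absurd h (by decide)
    have hu2 : 2 ≤ u := by omega
    calc 2 * p = p * 2 := by ring
      _ ≤ p * u := Nat.mul_le_mul_left p hu2
      _ = d χ + 1 := hu.symm
  exact b43t1_count (trivIrr G) a d p n hp2 hn X hXcard hXa hsq horth hatriv hdtriv hplus hminus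
    hsumsq

/-- T1 : `G` perfect, `|P| = p`, `C_G(P) = P`, `|N_G(P) : P| = p - 1`, `|G : N_G(P)| = 1 + n p` with
`1 ≤ n`, `2 n ≤ p + 2` ⟹ `n = 1`. -/
theorem top_case (hperf : commutator G = ⊤) (P : Sylow p G) (hP : Nat.card ↥(P : Subgroup G) = p)
    (hcen : cen P = (P : Subgroup G)) (hrel : (cen P).relIndex (nrm P) = p - 1) (n : ℕ)
    (hidx : (nrm P).index = 1 + n * p) (hn : 1 ≤ n) (hn2 : 2 * n ≤ p + 2) : n = 1 := by
  have hpp := (Fact.out : p.Prime)
  refine b43t1_core hperf P hP hcen hrel n hidx hn hn2 ?_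
  intro d hd h1 h2
  exact ac2_plus p (p - 1) 1 n d hpp (by rw [mul_one]) (by have := hpp.two_le; omega) hn hn2 hd h1 h2

end Cfsg.Agent.Lib.Helper13.B43
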