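import Mathlib
import Cfsg.Agent.Lib.helper15.St2
import Cfsg.Agent.Lib.helper7.StA
import Cfsg.Agent.Lib.helper7.StC
import Cfsg.Agent.Lib.Helper24.STCI1
import Cfsg.Agent.Lib.helper23.STCX2
import Cfsg.Agent.Lib.Helper27.STU.Defs
import Cfsg.Agent.Lib.Helper27.STU.Defs2
import Cfsg.Agent.Lib.Helper24.STUB1
import Cfsg.Agent.Lib.Helper11.STUB3

/-!
# Project STU (S2291, designer helper27), rows W3 (`cj_ws_ka`), W4 (`cj_ws_bl cj_ws_kb`), W5 (`cj_ws_ab cj_ws_ba`)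
(helper18), VERBATIM vs `Helper27/STU/Skel1.lean.txt`.  On `Helper24.STUB1` and `Helper11.STUB3`; the statement of W2
(`cj_ws_al`) is proved here under the name `stuw3_cj_ws_al`.
-/

set_option autoImplicit false

namespace Cfsg.Agent.Lib.Helper27.STU

open Cfsg.Agent.Lib.helper15.St2 Cfsg.Agent.Lib.helper7.St Cfsg.Agent.Lib.helper3.STC

namespace SysU

variable {F : Type*} [Field F] [StarRing F] {od : Prop} {ι : Type*} {G : Type*} [Group G] (S : SysU F od ι G)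

theorem stuw3_ne_ng {a b : ι ⊕ ι} (h : a ≠ ng b) : b ≠ ng a :=
  fun e => h (by rw [e, ng_ng])

/-- the statement of W2 `cj_ws_al` -/
theorem stuw3_cj_ws_al {a b l : ι ⊕ ι} (hab : a ≠ b) (hab' : a ≠ ng b) (hla : l ≠ a) (hla' : l ≠ ng a)
    (hlb : l ≠ b) (hlb' : l ≠ ng b) (u t : F) (hu : u ≠ 0) :
    cj (S.ws a b u) (S.xs a l t) = S.xs b l (-(u⁻¹ * t)) := by
  have hba' := stuw3_ne_ng hab'
  have hal' := stuw3_ne_ng hla'
  have hbl' := stuw3_ne_ng hlb'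
  have c1 : ∀ s : F, cj (S.xs a b u) (S.xs a l s) = S.xs a l s := fun s =>
    S.cj_comm_ss hab hab' hla.symm hal' hab.symm hla.symm hbl' (ne_ng a) u s
  have c2 : cj (S.xs b a (-u⁻¹)) (S.xs a l t) = S.xs b l (-u⁻¹ * t) * S.xs a l t :=
    S.cj3 hab.symm hba' hla.symm hal' hlb.symm hbl' _ _
  have c3 : cj (S.xs a b u) (S.xs b l (-u⁻¹ * t)) = S.xs a l (u * (-u⁻¹ * t)) * S.xs b l (-u⁻¹ * t) :=
    S.cj3 hab hab' hlb.symm hbl' hla.symm hal' _ _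
  unfold ws
  rw [← cj_cj, ← cj_cj, c1, c2, cj_mul, c3, c1]
  have e : u * (-u⁻¹ * t) = -t := by
    field_simp
  rw [e, S.comm_ss a l b l hla.symm hal' hlb.symm hbl' hlb hla.symm (ne_ng l) hab', mul_assoc,
    S.adds a l hla.symm hal', neg_add_cancel, S.xs_zero hla.symm hal', mul_one, neg_mul]

/-- W3 [S-M] -/
theorem cj_ws_ka {a b k : ι ⊕ ι} (hab : a ≠ b) (hab' : a ≠ ng b) (hka : k ≠ a) (hka' : k ≠ ng a)
    (hkb : k ≠ b) (hkb' : k ≠ ng b) (u t : F) (hu : u ≠ 0) :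
    cj (S.ws a b u) (S.xs k a t) = S.xs k b (-(u * t)) := by
  have hba' := stuw3_ne_ng hab'
  have hak' := stuw3_ne_ng hka'
  have hbk' := stuw3_ne_ng hkb'
  have s1 : cj (S.xs a b u) (S.xs k a t) = S.xs k b (-(t * u)) * S.xs k a t :=
    S.cj3' hab hab' hka hka' hkb hkb' u t
  have s2 : cj (S.xs b a (-u⁻¹)) (S.xs k b (-(t * u)) * S.xs k a t) = S.xs k b (-(t * u)) := by
    rw [cj_mul, S.cj3' hab.symm hba' hkb hkb' hka hka',
      S.cj_comm_ss hab.symm hba' hka hka' hka.symm hab.symm (ne_ng a) hbk']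
    have e : -(-(t * u) * -u⁻¹) = -t := by
      field_simp
    rw [e, S.comm_ss k a k b hka hka' hkb hkb' hka.symm hkb hab' (ne_ng k), mul_assoc, S.adds k a hka hka',
      neg_add_cancel, S.xs_zero hka hka', mul_one]
  have s3 : cj (S.xs a b u) (S.xs k b (-(t * u))) = S.xs k b (-(t * u)) :=
    S.cj_comm_ss hab hab' hkb hkb' hkb.symm hab (ne_ng b) hak' _ _
  unfold ws
  rw [← cj_cj, ← cj_cj, s1, s2, s3, mul_comm t u]

/-- W4 [S] -/
theorem cj_ws_bl {a b l : ι ⊕ ι} (hab : a ≠ b) (hab' : a ≠ ng b) (hla : l ≠ a) (hla' : l ≠ ng a)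
    (hlb : l ≠ b) (hlb' : l ≠ ng b) (u t : F) (hu : u ≠ 0) :
    cj (S.ws a b u) (S.xs b l t) = S.xs a l (u * t) := by
  have hba' := stuw3_ne_ng hab'
  have h : S.ws a b u = S.ws b a (-u⁻¹) := by
    rw [S.ws_swap hab.symm hba' u hu]
  rw [h, S.stuw3_cj_ws_al hab.symm hba' hlb hlb' hla hla' _ _ (neg_ne_zero.2 (inv_ne_zero hu))]
  congr 1
  rw [inv_neg, inv_inv]
  ring

theorem cj_ws_kb {a b k : ι ⊕ ι} (hab : a ≠ b) (hab' : a ≠ ng b) (hka : k ≠ a) (hka' : k ≠ ng a)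
    (hkb : k ≠ b) (hkb' : k ≠ ng b) (u t : F) (hu : u ≠ 0) :
    cj (S.ws a b u) (S.xs k b t) = S.xs k a (u⁻¹ * t) := by
  have hba' := stuw3_ne_ng hab'
  have h : S.ws a b u = S.ws b a (-u⁻¹) := by
    rw [S.ws_swap hab.symm hba' u hu]
  rw [h, S.cj_ws_ka hab.symm hba' hkb hkb' hka hka' _ _ (neg_ne_zero.2 (inv_ne_zero hu))]
  congr 1
  ring

/-- W5 [S] -/
theorem cj_ws_ab {a b : ι ⊕ ι} (hab : a ≠ b) (hab' : a ≠ ng b) (u t : F) (hu : u ≠ 0) :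
    cj (S.ws a b u) (S.xs a b t) = S.xs b a (-(u⁻¹ ^ 2 * t)) :=
  S.rel a b hab hab' u t hu

theorem cj_ws_ba {a b : ι ⊕ ι} (hab : a ≠ b) (hab' : a ≠ ng b) (u t : F) (hu : u ≠ 0) :
    cj (S.ws a b u) (S.xs b a t) = S.xs a b (-(u ^ 2 * t)) :=
  (S.st a b hab hab').w_y u t hu

end SysU

end Cfsg.Agent.Lib.Helper27.STU
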