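import Mathlib
import Cfsg.Agent.Lib.helper15.St2
import Cfsg.Agent.Lib.helper7.StA
import Cfsg.Agent.Lib.helper7.StC
import Cfsg.Agent.Lib.Helper24.STCI1
import Cfsg.Agent.Lib.helper23.STCX2
import Cfsg.Agent.Lib.Helper27.STU.Defs
import Cfsg.Agent.Lib.Helper27.STU.Defs2
import Cfsg.Agent.Lib.Helper24.STUB1
import Cfsg.Agent.Lib.Helper11.STUB3
import Cfsg.Agent.Lib.Helper5.STUB4

/-!
# Project STU (S2291, designer helper27), rows W6 (`cj_ws_anb`), W7 (`cj_ws_nab`) (helper18), VERBATIM vs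
`Helper27/STU/Skel1.lean.txt`.  On `Helper24.STUB1`, `Helper11.STUB3`, `Helper5.STUB4` (`cj_sl`).
-/

set_option autoImplicit false

namespace Cfsg.Agent.Lib.Helper27.STU

open Cfsg.Agent.Lib.helper15.St2 Cfsg.Agent.Lib.helper7.St Cfsg.Agent.Lib.helper3.STC

namespace Lam

variable {F : Type*} [Field F] [StarRing F] {od : Prop}

theorem stuw6_star_ne {u : F} (hu : u ≠ 0) : star u ≠ 0 := fun h => hu (by simpa using congrArg star h)

/-- the two long elements of `b` produced in the middle cancel -/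
theorem stuw6_cancel_b (u s : F) (hu : u ≠ 0) :
    act (-u⁻¹) (tr (u * s) : Lam F od) * tr (-u⁻¹ * -(star s)) = 1 := by
  have hu' := stuw6_star_ne hu
  ext
  · simp
  · simp only [mul_c, act_c, tr_c, act_v, tr_v, one_c, star_neg, star_inv₀, star_mul', star_star]
    field_simp
    ring

/-- the two long elements of `a` produced at the end cancel -/
theorem stuw6_cancel_a (u s : F) (hu : u ≠ 0) :
    (tr (u * s) : Lam F od) * tr (u * (star u * star s / u)) = 1 := by
  have hu' := stuw6_star_ne hu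
  ext
  · simp
  · simp only [mul_c, tr_c, tr_v, one_c, star_mul', star_star, star_div₀]
    field_simp
    ring

end Lam

namespace SysU

variable {F : Type*} [Field F] [StarRing F] {od : Prop} {ι : Type*} {G : Type*} [Group G] (S : SysU F od ι G)

/-- the short Weyl element on the root subgroup `xs b (ng a)` -/
theorem stuw6_main {a b : ι ⊕ ι} (hab : a ≠ b) (hab' : a ≠ ng b) (u s : F) (hu : u ≠ 0) :
    cj (S.ws a b u) (S.xs b (ng a) s) = S.xs b (ng a) (star u * star s / u) := by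
  have hu' := Lam.stuw6_star_ne hu
  have hba' : b ≠ ng a := fun e => hab' (by rw [e, ng_ng])
  have hnab : ng a ≠ b := hba'.symm
  have hbnn : b ≠ ng (ng a) := by rw [ng_ng]; exact hab.symm
  have hann : a ≠ ng (ng b) := by rw [ng_ng]; exact hab
  have hsym : ∀ r : F, S.xs a (ng b) r = S.xs b (ng a) (-(star r)) := fun r => by
    have := S.sym a (ng b) hab' hann r
    rwa [ng_ng] at this
  have F1 : ∀ r : F, cj (S.xs a b u) (S.xs b (ng a) r) = S.xl a (Lam.tr (u * r)) * S.xs b (ng a) r :=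
    fun r => S.cj_ssl hab hab' u r
  have F2 : ∀ (ξ : Lam F od) (v : F), cj (S.xs b a v) (S.xl a ξ) =
      S.xl b (Lam.act v ξ) * S.xs a (ng b) (ξ.c * star v) * S.xl a ξ := fun ξ v => S.cj_sl hab hab' ξ v
  have F3 : ∀ r v : F, cj (S.xs b a v) (S.xs b (ng a) r) =
      S.xl b (Lam.tr (v * -(star r))) * S.xs b (ng a) r := by
    intro r v
    have := S.cj_ssl hab.symm hba' v (-(star r))
    rwa [hsym, star_neg, star_star, neg_neg] at this
  have cBP : ∀ (η : Lam F od) (r : F), S.xl b η * S.xs b (ng a) r = S.xs b (ng a) r * S.xl b η :=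
    fun η r => S.comm_ls b b (ng a) hba' hbnn (ne_ng b) hnab η r
  have cAP : ∀ (ξ : Lam F od) (r : F), S.xl a ξ * S.xs b (ng a) r = S.xs b (ng a) r * S.xl a ξ :=
    fun ξ r => S.comm_ls a b (ng a) hba' hbnn hba' (ng_ne a) ξ r
  have cAB : ∀ (t : F) (η : Lam F od), S.xl a (Lam.tr t) * S.xl b η = S.xl b η * S.xl a (Lam.tr t) := by
    intro t η
    have h := S.hh a b hab hab' (Lam.tr t) η
    rw [Lam.tr_v, zero_mul, neg_zero, S.xs_zero hab' hann] at h
    calc S.xl a (Lam.tr t) * S.xl b η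
        = (S.xl a (Lam.tr t) * S.xl b η * (S.xl a (Lam.tr t))⁻¹ * (S.xl b η)⁻¹) * S.xl b η * S.xl a (Lam.tr t) := by
          group
      _ = S.xl b η * S.xl a (Lam.tr t) := by rw [h, one_mul]
  have cXA : ∀ ξ : Lam F od, cj (S.xs a b u) (S.xl a ξ) = S.xl a ξ :=
    fun ξ => S.cj_comm_sl hab hab' (ne_ng a) hab.symm ξ u
  unfold ws
  rw [← cj_cj, ← cj_cj, F1, cj_mul, F2, F3, hsym]
  -- the middle expression
  set A := S.xl a (Lam.tr (u * s)) with hA
  set B1 := S.xl b (Lam.act (-u⁻¹) (Lam.tr (u * s))) with hB1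
  set B2 := S.xl b (Lam.tr (-u⁻¹ * -(star s))) with hB2
  set q : F := -(star ((Lam.tr (u * s) : Lam F od).c * star (-u⁻¹))) with hq
  have hB : B1 * B2 = 1 := by
    rw [hB1, hB2, S.addl, Lam.stuw6_cancel_b u s hu, S.xl_one]
  have hqs : q + s = star u * star s / u := by
    rw [hq]
    simp only [Lam.tr_c, star_mul', star_sub, star_star, star_neg, star_inv₀]
    field_simp
    ring
  have mid : B1 * S.xs b (ng a) q * A * (B2 * S.xs b (ng a) s) = A * S.xs b (ng a) (star u * star s / u) := by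
    calc B1 * S.xs b (ng a) q * A * (B2 * S.xs b (ng a) s)
        = B1 * S.xs b (ng a) q * (A * B2) * S.xs b (ng a) s := by group
      _ = B1 * S.xs b (ng a) q * (B2 * A) * S.xs b (ng a) s := by rw [hA, hB2, cAB]
      _ = B1 * (S.xs b (ng a) q * B2) * A * S.xs b (ng a) s := by group
      _ = B1 * (B2 * S.xs b (ng a) q) * A * S.xs b (ng a) s := by rw [hB2, cBP]
      _ = (B1 * B2) * (S.xs b (ng a) q * A) * S.xs b (ng a) s := by group
      _ = (A * S.xs b (ng a) q) * S.xs b (ng a) s := by rw [hB, one_mul, hA, cAP]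
      _ = A * S.xs b (ng a) (star u * star s / u) := by
          rw [mul_assoc, S.adds b (ng a) hba' hbnn, hqs]
  rw [mid, cj_mul, hA, cXA, F1, ← mul_assoc, S.addl, Lam.stuw6_cancel_a u s hu, S.xl_one, one_mul]

/-- W6 [M] -/
theorem cj_ws_anb {a b : ι ⊕ ι} (hab : a ≠ b) (hab' : a ≠ ng b) (u t : F) (hu : u ≠ 0) :
    cj (S.ws a b u) (S.xs a (ng b) t) = S.xs b (ng a) (-(star u * u⁻¹ * t)) := by
  have hann : a ≠ ng (ng b) := by rw [ng_ng]; exact hab
  have hsym : S.xs a (ng b) t = S.xs b (ng a) (-(star t)) := by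
    have := S.sym a (ng b) hab' hann t
    rwa [ng_ng] at this
  rw [hsym, S.stuw6_main hab hab' u _ hu]
  congr 1
  rw [star_neg, star_star]
  field_simp

/-- W7 [S] -/
theorem cj_ws_nab {a b : ι ⊕ ι} (hab : a ≠ b) (hab' : a ≠ ng b) (u t : F) (hu : u ≠ 0) :
    cj (S.ws a b u) (S.xs (ng a) b t) = S.xs (ng b) a (-(star u * u⁻¹ * t)) := by
  have hu' := Lam.stuw6_star_ne hu
  have hnn : ng b ≠ ng a := fun e => hab (ng_inj.1 e).symm
  have hnn' : ng b ≠ ng (ng a) := by rw [ng_ng]; exact fun e => hab' e.symm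
  have hnba : ng b ≠ a := fun e => hab' e.symm
  have hmain := S.stuw6_main hnn hnn' (-(star u)) t (neg_ne_zero.2 hu')
  rw [ng_ng] at hmain
  rw [S.ws_sym hab hab' u, hmain]
  have hsym := S.sym (ng b) a hnba hnn (-(star u * u⁻¹ * t))
  rw [ng_ng] at hsym
  rw [hsym]
  congr 1
  simp only [star_neg, star_star, star_mul', star_inv₀, neg_neg]
  field_simp

end SysU

end Cfsg.Agent.Lib.Helper27.STU
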