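import Mathlib
import Cfsg.Agent.Lib.helper15.St2
import Cfsg.Agent.Lib.helper7.StA
import Cfsg.Agent.Lib.helper7.StC
import Cfsg.Agent.Lib.Helper24.STCI1
import Cfsg.Agent.Lib.helper23.STCX2
import Cfsg.Agent.Lib.Helper27.STU.Defs
import Cfsg.Agent.Lib.Helper27.STU.Defs2
import Cfsg.Agent.Lib.Helper24.STUB1
import Cfsg.Agent.Lib.Helper11.STUB3
import Cfsg.Agent.Lib.Helper5.STUB4
import Cfsg.Agent.Lib.Helper18.STUW6

/-!
# Project STU (S2291, designer helper27), rows W8 (`cj_ws_la`), W9 (`cj_ws_lb`), W10 (`cj_ws_lna cj_ws_lnb`)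
(helper18), VERBATIM vs `Helper27/STU/Skel1.lean.txt`.  On `Helper24.STUB1`, `Helper11.STUB3`, `Helper5.STUB4` (`cj_sl`).
-/

set_option autoImplicit false

namespace Cfsg.Agent.Lib.Helper27.STU

open Cfsg.Agent.Lib.helper15.St2 Cfsg.Agent.Lib.helper7.St Cfsg.Agent.Lib.helper3.STC

/-- the group-theoretic skeleton of W8 -/
theorem stuw8_aux {G : Type*} [Group G] {F : Type*} [Field F] (L1 Lt Lx B : G) (P : F → G)
    (hadd : ∀ r r', P r * P r' = P (r + r')) (hP0 : P 0 = 1)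
    (cB : ∀ r, B * P r = P r * B) (ct : ∀ r, Lt * P r = P r * Lt) (cx : ∀ r, Lx * P r = P r * Lx)
    (hL : L1 * Lt * Lx = 1) (m p1 p2 : F) (hH : L1 * B = P m * B * L1) (hsum : m + (p1 + p2) = 0) :
    L1 * P p1 * B * (Lt * P p2) * Lx = B := by
  calc L1 * P p1 * B * (Lt * P p2) * Lx
      = L1 * (P p1 * B) * Lt * P p2 * Lx := by group
    _ = L1 * (B * P p1) * Lt * P p2 * Lx := by rw [cB]
    _ = L1 * B * (P p1 * Lt) * P p2 * Lx := by group
    _ = L1 * B * (Lt * P p1) * P p2 * Lx := by rw [ct]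
    _ = L1 * B * Lt * (P p1 * P p2) * Lx := by group
    _ = L1 * B * Lt * (P (p1 + p2) * Lx) := by rw [hadd]; group
    _ = L1 * B * Lt * (Lx * P (p1 + p2)) := by rw [cx]
    _ = (L1 * B) * Lt * Lx * P (p1 + p2) := by group
    _ = P m * B * (L1 * Lt * Lx) * P (p1 + p2) := by rw [hH]; group
    _ = P m * (B * P (p1 + p2)) := by rw [hL]; group
    _ = P m * (P (p1 + p2) * B) := by rw [cB]
    _ = B := by rw [← mul_assoc, hadd, hsum, hP0, one_mul]

namespace Lam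

variable {F : Type*} [Field F] [StarRing F] {od : Prop}

/-- the long elements of `a` produced in W8 cancel -/
theorem stuw8_cancel (u : F) (hu : u ≠ 0) (ξ : Lam F od) :
    act u (act (-u⁻¹) ξ) * tr (u * -(star (ξ.c * star (-u⁻¹)))) * ξ = 1 := by
  have hu' := stuw6_star_ne hu
  have h1 := ξ.h
  ext
  · simp only [mul_v, act_v, tr_v, one_v]
    field_simp
    ring
  · simp only [mul_c, mul_v, act_c, act_v, tr_c, tr_v, one_c, star_neg, star_inv₀, star_mul', star_star,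
      star_zero, mul_zero, sub_zero, add_zero]
    field_simp
    linear_combination h1

end Lam

namespace SysU

variable {F : Type*} [Field F] [StarRing F] {od : Prop} {ι : Type*} {G : Type*} [Group G] (S : SysU F od ι G)

/-- W8 [M] -/
theorem cj_ws_la {a b : ι ⊕ ι} (hab : a ≠ b) (hab' : a ≠ ng b) (u : F) (hu : u ≠ 0) (ξ : Lam F od) :
    cj (S.ws a b u) (S.xl a ξ) = S.xl b (Lam.act (-u⁻¹) ξ) := by
  have hu' := Lam.stuw6_star_ne hu
  have hba' : b ≠ ng a := fun e => hab' (by rw [e, ng_ng])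
  have hnab : ng a ≠ b := hba'.symm
  have hbnn : b ≠ ng (ng a) := by rw [ng_ng]; exact hab.symm
  have hann : a ≠ ng (ng b) := by rw [ng_ng]; exact hab
  have hsym : ∀ r : F, S.xs a (ng b) r = S.xs b (ng a) (-(star r)) := fun r => by
    have := S.sym a (ng b) hab' hann r
    rwa [ng_ng] at this
  have F1 : ∀ r : F, cj (S.xs a b u) (S.xs b (ng a) r) = S.xl a (Lam.tr (u * r)) * S.xs b (ng a) r :=
    fun r => S.cj_ssl hab hab' u r
  have F2 : ∀ (ξ : Lam F od) (v : F), cj (S.xs b a v) (S.xl a ξ) =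
      S.xl b (Lam.act v ξ) * S.xs a (ng b) (ξ.c * star v) * S.xl a ξ := fun ξ v => S.cj_sl hab hab' ξ v
  have G1 : ∀ η : Lam F od, cj (S.xs a b u) (S.xl b η) =
      S.xl a (Lam.act u η) * S.xs b (ng a) (η.c * star u) * S.xl b η := fun η => S.cj_sl hab.symm hba' η u
  have cBP : ∀ (η : Lam F od) (r : F), S.xl b η * S.xs b (ng a) r = S.xs b (ng a) r * S.xl b η :=
    fun η r => S.comm_ls b b (ng a) hba' hbnn (ne_ng b) hnab η r
  have cAP : ∀ (ξ : Lam F od) (r : F), S.xl a ξ * S.xs b (ng a) r = S.xs b (ng a) r * S.xl a ξ :=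
    fun ξ r => S.comm_ls a b (ng a) hba' hbnn hba' (ng_ne a) ξ r
  have cXA : ∀ ξ : Lam F od, cj (S.xs a b u) (S.xl a ξ) = S.xl a ξ :=
    fun ξ => S.cj_comm_sl hab hab' (ne_ng a) hab.symm ξ u
  have hH : ∀ ξ' η : Lam F od, S.xl a ξ' * S.xl b η =
      S.xs b (ng a) (-(star (-(ξ'.v * star η.v)))) * S.xl b η * S.xl a ξ' := by
    intro ξ' η
    have h := S.cj_hh hab hab' ξ' η
    rw [hsym] at h
    unfold cj at h
    rw [← h]
    group
  unfold ws
  rw [← cj_cj, ← cj_cj, cXA, F2, cj_mul, cj_mul, G1, hsym, F1, cXA]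
  refine stuw8_aux _ _ _ _ (fun r => S.xs b (ng a) r) (fun r r' => S.adds b (ng a) hba' hbnn r r')
    (S.xs_zero hba' hbnn) (cBP _) (cAP _) (cAP _) ?_ _ _ _ (hH _ _) ?_
  · rw [S.addl, S.addl, Lam.stuw8_cancel u hu ξ, S.xl_one]
  · have h1 := ξ.h
    simp only [Lam.act_v, Lam.act_c, star_neg, star_inv₀, star_mul', star_star]
    field_simp
    linear_combination h1

/-- W9 [S-M] -/
theorem cj_ws_lb {a b : ι ⊕ ι} (hab : a ≠ b) (hab' : a ≠ ng b) (u : F) (hu : u ≠ 0) (ξ : Lam F od) :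
    cj (S.ws a b u) (S.xl b ξ) = S.xl a (Lam.act u ξ) := by
  have hba' : b ≠ ng a := fun e => hab' (by rw [e, ng_ng])
  have h : S.ws a b u = S.ws b a (-u⁻¹) := by
    rw [S.ws_swap hab.symm hba' u hu]
  rw [h, S.cj_ws_la hab.symm hba' _ (neg_ne_zero.2 (inv_ne_zero hu))]
  congr 2
  rw [inv_neg, inv_inv, neg_neg]

/-- W10 [S-M] -/
theorem cj_ws_lna {a b : ι ⊕ ι} (hab : a ≠ b) (hab' : a ≠ ng b) (u : F) (hu : u ≠ 0) (ξ : Lam F od) :
    cj (S.ws a b u) (S.xl (ng a) ξ) = S.xl (ng b) (Lam.act (-(star u)) ξ) := by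
  have hu' := Lam.stuw6_star_ne hu
  have hnn : ng b ≠ ng a := fun e => hab (ng_inj.1 e).symm
  have hnn' : ng b ≠ ng (ng a) := by rw [ng_ng]; exact fun e => hab' e.symm
  rw [S.ws_sym hab hab' u, S.cj_ws_lb hnn hnn' _ (neg_ne_zero.2 hu')]

theorem cj_ws_lnb {a b : ι ⊕ ι} (hab : a ≠ b) (hab' : a ≠ ng b) (u : F) (hu : u ≠ 0) (ξ : Lam F od) :
    cj (S.ws a b u) (S.xl (ng b) ξ) = S.xl (ng a) (Lam.act (star u)⁻¹ ξ) := by
  have hu' := Lam.stuw6_star_ne hu
  have hnn : ng b ≠ ng a := fun e => hab (ng_inj.1 e).symm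
  have hnn' : ng b ≠ ng (ng a) := by rw [ng_ng]; exact fun e => hab' e.symm
  rw [S.ws_sym hab hab' u, S.cj_ws_la hnn hnn' _ (neg_ne_zero.2 hu')]
  congr 2
  rw [inv_neg, neg_neg]

end SysU

end Cfsg.Agent.Lib.Helper27.STU
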