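import Mathlib

/-!
# Project U3P (S2289, designer helper19), generic row M2 (`card_ext_cyclic`) (helper18), VERBATIM (Mathlib only).
-/

set_option autoImplicit false

namespace Cfsg.Agent.Lib.Helper19.U3P

universe u v

/-- M2 [M] -/
theorem card_ext_cyclic {G : Type*} [Group G] (N : Subgroup G) [Finite N] (h : G) (n : ℕ) (hn0 : 0 < n)
    (hn : h ^ n ∈ N) (hconj : ∀ x ∈ N, h * x * h⁻¹ ∈ N) (hconj' : ∀ x ∈ N, h⁻¹ * x * h ∈ N) :
    Finite ↥(Subgroup.closure ((N : Set G) ∪ {h})) ∧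
      Nat.card ↥(Subgroup.closure ((N : Set G) ∪ {h})) ≤ n * Nat.card N := by
  set X : Set G := (fun p : N × Fin n => (p.1 : G) * h ^ (p.2 : ℕ)) '' Set.univ with hX
  have hXfin : X.Finite := Set.finite_univ.image _
  have hXcard : X.ncard ≤ n * Nat.card N := by
    calc X.ncard ≤ (Set.univ : Set (N × Fin n)).ncard := Set.ncard_image_le Set.finite_univ
      _ = Nat.card (N × Fin n) := Set.ncard_univ _
      _ = n * Nat.card N := by rw [Nat.card_prod, Nat.card_fin, mul_comm]
  have mkX : ∀ x ∈ N, ∀ i < n, x * h ^ i ∈ X := fun x hx i hi => ⟨(⟨x, hx⟩, ⟨i, hi⟩), trivial, rfl⟩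
  have hNX : ∀ x ∈ N, ∀ y ∈ X, x * y ∈ X := by
    rintro x hx _ ⟨⟨x', i⟩, -, rfl⟩
    have : x * ((x' : G) * h ^ (i : ℕ)) = (x * x') * h ^ (i : ℕ) := by group
    rw [this]
    exact mkX _ (N.mul_mem hx x'.2) _ i.2
  have hhX : ∀ y ∈ X, h * y ∈ X := by
    rintro _ ⟨⟨x, i⟩, -, rfl⟩
    by_cases hi : (i : ℕ) + 1 < n
    · have : h * ((x : G) * h ^ (i : ℕ)) = (h * x * h⁻¹) * h ^ ((i : ℕ) + 1) := by
        rw [pow_succ']; group
      rw [this]
      exact mkX _ (hconj x x.2) _ hi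
    · have hin : (i : ℕ) + 1 = n := by have := i.2; omega
      have hpow : h ^ n = h * h ^ (i : ℕ) := by
        have e := pow_succ' h (i : ℕ)
        rw [hin] at e
        exact e
      have : h * ((x : G) * h ^ (i : ℕ)) = ((h * x * h⁻¹) * h ^ n) * h ^ 0 := by
        rw [hpow, pow_zero]; group
      rw [this]
      exact mkX _ (N.mul_mem (hconj x x.2) hn) 0 hn0
  have hhiX : ∀ y ∈ X, h⁻¹ * y ∈ X := by
    rintro _ ⟨⟨x, i⟩, -, rfl⟩
    by_cases hi : (i : ℕ) = 0
    · have e : h⁻¹ * ((x : G) * h ^ (i : ℕ)) = ((h⁻¹ * x * h) * (h ^ n)⁻¹) * h ^ (n - 1) := by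
        rw [hi, pow_zero, mul_one]
        have hnn : h ^ n = h ^ (n - 1) * h := by rw [← pow_succ]; congr 1; omega
        rw [hnn]; group
      rw [e]
      exact mkX _ (N.mul_mem (hconj' x x.2) (N.inv_mem hn)) _ (by omega)
    · have e : h⁻¹ * ((x : G) * h ^ (i : ℕ)) = (h⁻¹ * x * h) * h ^ ((i : ℕ) - 1) := by
        have hii : h ^ (i : ℕ) = h * h ^ ((i : ℕ) - 1) := by rw [← pow_succ']; congr 1; omega
        rw [hii]; group
      rw [e]
      exact mkX _ (hconj' x x.2) _ (by have := i.2; omega)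
  have key : ∀ g ∈ Subgroup.closure ((N : Set G) ∪ {h}), ∀ y ∈ X, g * y ∈ X := by
    intro g hg
    induction hg using Subgroup.closure_induction'' with
    | mem x hx =>
      rcases hx with hx | hx
      · exact hNX x hx
      · rw [Set.mem_singleton_iff] at hx
        subst hx
        exact hhX
    | inv_mem x hx =>
      rcases hx with hx | hx
      · exact hNX x⁻¹ (N.inv_mem hx)
      · rw [Set.mem_singleton_iff] at hx
        subst hx
        exact hhiX
    | one =>
      intro y hy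
      rwa [one_mul]
    | mul a b _ _ iha ihb =>
      intro y hy
      rw [mul_assoc]
      exact iha _ (ihb y hy)
  have hsub : ((Subgroup.closure ((N : Set G) ∪ {h}) : Subgroup G) : Set G) ⊆ X := by
    intro g hg
    have h1 : (1 : G) ∈ X := by
      have := mkX 1 N.one_mem 0 hn0
      rwa [pow_zero, mul_one] at this
    have := key g hg 1 h1
    rwa [mul_one] at this
  have hfin : ((Subgroup.closure ((N : Set G) ∪ {h}) : Subgroup G) : Set G).Finite := hXfin.subset hsub
  refine ⟨hfin.to_subtype, ?_⟩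
  calc Nat.card ↥(Subgroup.closure ((N : Set G) ∪ {h}))
      = ((Subgroup.closure ((N : Set G) ∪ {h}) : Subgroup G) : Set G).ncard :=
        _root_.Nat.card_coe_set_eq _
    _ ≤ X.ncard := Set.ncard_le_ncard hsub hXfin
    _ ≤ n * Nat.card N := hXcard

end Cfsg.Agent.Lib.Helper19.U3P
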