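import Mathlib
import Cfsg.Agent.Lib.Helper24.SU3M.Defs
import Cfsg.Agent.Lib.helper7.CeA
import Cfsg.Agent.Lib.helper3.StemTools
import Cfsg.Agent.Lib.helper15.UTorus
import Cfsg.Agent.Lib.helper7.CeH
import Cfsg.Agent.Lib.helper23.SchurCoverD
import Cfsg.Agent.S0279

/-!
# Project SU3M (S2089, designer helper24), rows A2 (`center_su_cyclic`) and A3 (`psu_mult`) (helper18), VERBATIM vs `Helper24/SU3M/Skel.lean.txt`.
A2: a central element is a scalar (`Cfsg.Agent.S0279.central_is_scalar`), the `(0, 0)` entry is an injective homomorphism to `Fˣ`.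
A3: copy of `Helper18.CECM9 psp_mult`.
-/

set_option autoImplicit false

namespace Cfsg.Agent.Lib.Helper24.SU3M

open Cfsg.Agent.Lib.Helper19.U3P Cfsg.Agent.Lib.Helper25.SU3P Cfsg.Agent.Lib.helper14.SU3J Cfsg.Agent.Lib.helper7.Ce Matrix Polynomial

universe u

section A

variable {F : Type u} [Field F] [Fintype F] {q : ℕ}

/-- a central element of `SU_n(q)` is a scalar matrix -/
theorem su3ma2_scalar (hF : Fintype.card F = q ^ 2) (n : ℕ) (hn : 3 ≤ n)
    (z : ↥(Subgroup.center ↥(Cfsg.SU n F q))) :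
    ∃ l : F, (z.1.1.1 : Matrix (Fin n) (Fin n) F) = Matrix.scalar (Fin n) l := by
  have hz := z.2
  rw [Subgroup.mem_center_iff] at hz
  exact Cfsg.Agent.S0279.central_is_scalar hF (by omega) z.1.1 (by
    intro B hB
    have := hz ⟨B, hB⟩
    have h2 := congrArg (fun X : Cfsg.SU n F q => (X.1 : Matrix.SpecialLinearGroup (Fin n) F)) this
    exact h2.symm)

/-- the `(0, 0)` entry as a homomorphism `center →* F` -/
noncomputable def su3ma2_entry (hF : Fintype.card F = q ^ 2) (n : ℕ) (hn : 3 ≤ n) :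
    ↥(Subgroup.center ↥(Cfsg.SU n F q)) →* F where
  toFun z := (z.1.1.1 : Matrix (Fin n) (Fin n) F) ⟨0, by omega⟩ ⟨0, by omega⟩
  map_one' := by
    show (1 : Matrix (Fin n) (Fin n) F) ⟨0, by omega⟩ ⟨0, by omega⟩ = 1
    simp
  map_mul' z w := by
    obtain ⟨l, hl⟩ := su3ma2_scalar hF n hn z
    show ((z.1.1.1 : Matrix (Fin n) (Fin n) F) * (w.1.1.1 : Matrix (Fin n) (Fin n) F)) ⟨0, by omega⟩ ⟨0, by omega⟩ = _
    rw [hl]
    simp [Matrix.scalar_apply, Matrix.diagonal_mul]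

theorem su3ma2_entry_inj (hF : Fintype.card F = q ^ 2) (n : ℕ) (hn : 3 ≤ n) :
    Function.Injective (su3ma2_entry (F := F) hF n hn) := by
  intro z w h
  obtain ⟨l, hl⟩ := su3ma2_scalar hF n hn z
  obtain ⟨l', hl'⟩ := su3ma2_scalar hF n hn w
  have h1 : (z.1.1.1 : Matrix (Fin n) (Fin n) F) ⟨0, by omega⟩ ⟨0, by omega⟩ =
      (w.1.1.1 : Matrix (Fin n) (Fin n) F) ⟨0, by omega⟩ ⟨0, by omega⟩ := h
  rw [hl, hl'] at h1
  have h2 : l = l' := by simpa using h1
  apply Subtype.ext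
  apply Subtype.ext
  apply Subtype.ext
  rw [hl, hl', h2]

/-- A2 [M]  a central element is a scalar matrix `c • 1` (it commutes with the transvections / see the proof of `Cfsg.Agent.S0279.result`); `X ↦ c` is an injective homomorphism `center →* Fˣ`, and subgroups of the cyclic group `Fˣ` are cyclic
(`isCyclic_of_injective`-type, `MonoidHom.isCyclic_of_injective` / `Subgroup.isCyclic`). -/
theorem center_su_cyclic (hF : Fintype.card F = q ^ 2) (n : ℕ) (hn : 3 ≤ n) : IsCyclic ↥(Subgroup.center ↥(Cfsg.SU n F q)) := by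
  have hinj : Function.Injective (su3ma2_entry (F := F) hF n hn).toHomUnits := by
    intro z w h
    apply su3ma2_entry_inj hF n hn
    have := congrArg (fun u : Fˣ => (u : F)) h
    simpa [MonoidHom.coe_toHomUnits] using this
  exact isCyclic_of_injective _ hinj

/-- A3 [S-M]  COPY of `Helper18.CECM9 psp_mult` (`helper7.Ce.cyclic_equiv`, `helper23.scv_cover_of_trivial`) with `center_su_cyclic` and `Cfsg.Agent.S0279.result`. -/
theorem psu_mult (hF : Fintype.card F = q ^ 2) (n : ℕ) (hn : 3 ≤ n)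
    (hSU : Cfsg.HasCyclicSchurMultiplier ↥(Cfsg.SU n F q) 1) (hperf : commutator ↥(Cfsg.SU n F q) = ⊤) :
    Cfsg.HasCyclicSchurMultiplier (Cfsg.PSU n F q) (Nat.gcd n (q + 1)) := by
  classical
  have hfin : Finite ↥(Cfsg.SU n F q) := Subtype.finite
  set σ : ↥(Cfsg.SU n F q) →* Cfsg.PSU n F q :=
    QuotientGroup.mk' (Subgroup.center ↥(Cfsg.SU n F q)) with hσdef
  have hker : σ.ker = Subgroup.center ↥(Cfsg.SU n F q) := QuotientGroup.ker_mk' _
  have hσ : Cfsg.IsStemExtension σ := by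
    refine ⟨QuotientGroup.mk'_surjective _, ?_, ?_⟩
    · rw [hker]
    · rw [hperf]; exact le_top
  have hcyc := center_su_cyclic (F := F) hF n hn
  have hcard := Cfsg.Agent.S0279.result hF n hn
  obtain ⟨e0⟩ := cyclic_equiv hcyc _ hcard
  have e : Multiplicative (ZMod (Nat.gcd n (q + 1))) ≃* σ.ker :=
    e0.trans (MulEquiv.subgroupCongr hker.symm)
  refine ⟨⟨↥(Cfsg.SU n F q), inferInstance, hfin, σ, hσ, ⟨e.symm⟩⟩, ?_⟩
  intro Δ _ _ τ hτ
  have hfinQ : Finite (Cfsg.PSU n F q) :=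
    Finite.of_surjective σ (QuotientGroup.mk'_surjective _)
  obtain ⟨π, hπ⟩ := Cfsg.Agent.Lib.helper23.scv_cover_of_trivial σ hσ hSU Δ τ hτ
  exact ⟨π.comp e.toMonoidHom, hπ.comp e.surjective⟩

end A

end Cfsg.Agent.Lib.Helper24.SU3M
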