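import Mathlib
import Cfsg.Agent.Lib.helper7.CEU.Defs
import Cfsg.Agent.Lib.Helper27.STU.Defs3
import Cfsg.Agent.Lib.Helper24.STCI1
import Cfsg.Agent.Lib.Helper16.STDX2

/-!
# Project CEU (designer helper7, the `n ≥ 4` half of S2089), row M1 (helper18), VERBATIM: `sysU_of_lifts`
the lifted Steinberg system of unitary type from a `ShortLift`, a `LongLift` and the lifted relations `ssl`, `ls`, `hh`, `r1`.
-/

set_option autoImplicit false

namespace Cfsg.Agent.Lib.helper7.CEU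

open Cfsg.Agent.Lib.helper15.St2 Cfsg.Agent.Lib.helper7.Ce Cfsg.Agent.Lib.helper3.STC Cfsg.Agent.Lib.Helper27.STU

open Cfsg.Agent.Lib.helper7.CEC (I2 I3 I4 U2 U3)

section M

universe u v w w₀

variable {F : Type u} [Field F] [StarRing F] {od : Prop} {ι : Type v} {Γ : Type w} {G : Type w₀} [Group Γ] [Group G] {S : SysU F od ι G} {σ : Γ →* G}
  {h : IsCE σ}

omit [Field F] [StarRing F] [Group Γ] [Group G] in
theorem ceum1_ab {a b : ι ⊕ ι} (hab : a ≠ b) (hab' : a ≠ ng b) : ab a ≠ ab b := by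
  intro e
  rcases ab_eq_iff.1 e with h1 | h1
  · exact hab h1
  · exact hab' h1

/-- M1 [M] -/
theorem sysU_of_lifts [DecidableEq ι] (hCs : HCs S σ) (hCl : HCl S σ) (hW : S.HW) (L : ShortLift S h) (Z : LongLift S h)
    (hssl : ∀ a b : ι ⊕ ι, ab a ≠ ab b → ∀ t u : F, cm (L.X a b t) (L.X b (ng a) u) = Z.Z a (Lam.tr (t * u)))
    (hls : ∀ a b : ι ⊕ ι, ab a ≠ ab b → ∀ (ξ : Lam F od) (u : F),
      cm (Z.Z a ξ) (L.X (ng a) b u) = L.X a b (ξ.c * u) * Z.Z (ng b) (Lam.act (star u) (Lam.bar ξ)))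
    (hhh : ∀ a b : ι ⊕ ι, ab a ≠ ab b → ∀ ξ η : Lam F od, cm (Z.Z a ξ) (Z.Z b η) = L.X a (ng b) (-(ξ.v * star η.v)))
    (hr1 : ∀ a, ∃ ρ : ↥(SUm F od) →* Γ, ∀ ξ, ρ (XpU ξ) = Z.Z a ξ ∧ ρ (XmU ξ) = Z.Z (ng a) ξ) :
    ∃ P : SysU F od ι Γ, (∀ a b : ι ⊕ ι, ab a ≠ ab b → ∀ t, σ (P.xs a b t) = S.xs a b t) ∧ ∀ a ξ, σ (P.xl a ξ) = S.xl a ξ := by
  refine ⟨{ xs := L.X
            xl := Z.Z
            sym := fun a b hab hab' t => L.sym a b (ceum1_ab hab hab') t
            adds := fun a b hab hab' t u => (L.add a b (ceum1_ab hab hab') t u).symm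
            addl := fun a ξ η => (Z.mul a ξ η).symm
            comm_ss := ?_
            comm_ls := ?_
            comm3 := ?_
            ssl := ?_
            ls := ?_
            hh := ?_
            rel := ?_
            r1 := hr1 }, fun a b hab t => L.map a b hab t, fun a ξ => Z.map a ξ⟩
  · intro a b c d hab hab' hcd hcd' hbc had hbd hac t u
    exact hCs a b c d hab hab' hcd hcd' hbc had hbd hac t u _ _ (L.map a b (ceum1_ab hab hab') t)
      (L.map c d (ceum1_ab hcd hcd') u)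
  · intro a c d hcd hcd' hca hda ξ u
    exact hCl a c d hcd hcd' hca hda ξ u _ _ (Z.map a ξ) (L.map c d (ceum1_ab hcd hcd') u)
  · intro a b c hab hab' hbc hbc' hac hac' t u
    exact L.c3 a b c (ceum1_ab hab hab') (ceum1_ab hbc hbc') (ceum1_ab hac hac') t u
  · intro a b hab hab' t u
    exact hssl a b (ceum1_ab hab hab') t u
  · intro a b hab hab' ξ u
    exact hls a b (ceum1_ab hab hab') ξ u
  · intro a b hab hab' ξ η
    exact hhh a b (ceum1_ab hab hab') ξ η
  · intro a b hab hab' t u ht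
    have habn := ceum1_ab hab hab'
    have hba : b ≠ a := hab.symm
    have hba' : b ≠ ng a := fun e => hab' (by rw [e, ng_ng])
    have hban := ceum1_ab hba hba'
    have hmap : σ (L.X a b t * L.X b a (-t⁻¹) * L.X a b t) = S.ws a b t := by
      rw [map_mul, map_mul, L.map a b habn, L.map b a hban]
      rfl
    have h1 := L.eqv (S.ws a b t) _ _ _ (hW.1 a b hab hab' t ht) _ hmap a b habn u
    rw [Cfsg.Agent.Lib.Lead.STD.SysD.sws_left hab hab', Cfsg.Agent.Lib.Lead.STD.SysD.sws_right hab hab'] at h1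
    have e1 : Cfsg.Agent.Lib.Helper27.STU.dws a b t a = -t⁻¹ := by
      unfold Cfsg.Agent.Lib.Helper27.STU.dws
      rw [if_pos rfl]
    have e2 : Cfsg.Agent.Lib.Helper27.STU.dws a b t b = t := by
      unfold Cfsg.Agent.Lib.Helper27.STU.dws
      rw [if_neg hba, if_pos rfl]
    rw [e1, e2] at h1
    rw [h1]
    congr 1
    ring

end M

end Cfsg.Agent.Lib.helper7.CEU
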