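import Mathlib
import Cfsg.Prelude.Def_GeometricClasses
import Cfsg.Agent.Lib.Helper13.EIG.Defs
import Cfsg.Agent.Lib.Helper13.EIG.Basic

set_option autoImplicit false
set_option linter.unusedVariables false
set_option linter.unusedSectionVars false

/-!
# Project EIG, piece CNT0 (helper18): `count_eq`, the counting step for `ε = 1`.
-/

namespace Cfsg.Agent.Lib.Helper13.EIG

open Matrix

variable {n : ℕ} {F : Type*} [Field F] {r : ℕ}
  {S : Subgroup (Matrix.GeneralLinearGroup (Fin n) F)}

/-- CNT0 [M-L] (`ε = 1`) : `r d c 1 ≤ n`; for `0 < s < r`, `d c (ζ^s) = d (c (ζ^s)^k) (ζ^s)` for all `k`, `r` distinct values: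
`r (r d c (ζ^s)) ≤ n`. -/
theorem count_eq (hr : r.Prime) {ζ : F} (hζ : IsPrimitiveRoot ζ r) (d : F → F → ℕ)
    (hshift : ∀ a b : F, b ≠ 0 → d a b = d (a * b) b)
    (hsum : ∀ (b : F) (A : Finset F), r * ∑ a ∈ A, d a b ≤ n) (c : F) (hc : c ≠ 0) :
    r * ∑ s ∈ Finset.range r, d c (ζ ^ s) ≤ 2 * n := by
  classical
  have : Fact r.Prime := ⟨hr⟩
  have hr0 : 0 < r := hr.pos
  have hζ0 : ζ ≠ 0 := hζ.ne_zero hr.ne_zero
  -- iterate the shift
  have hit : ∀ (b : F), b ≠ 0 → ∀ (k : ℕ) (a : F), d a b = d (a * b ^ k) b := by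
    intro b hb k
    induction k with
    | zero => intro a; simp
    | succ k ih =>
      intro a
      rw [ih a, hshift _ _ hb, pow_succ, mul_assoc]
  -- the term `s = 0`
  have h0 : r * d c 1 ≤ n := by
    have := hsum 1 {c}
    rwa [Finset.sum_singleton] at this
  -- the terms `0 < s < r`
  have hs : ∀ s ∈ Finset.range r, s ≠ 0 → r * (r * d c (ζ ^ s)) ≤ n := by
    intro s hs hs0
    rw [Finset.mem_range] at hs
    set b := ζ ^ s with hb
    have hb0 : b ≠ 0 := pow_ne_zero s hζ0
    have hbr : b ^ r = 1 := by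
      rw [hb, ← pow_mul, mul_comm, pow_mul, hζ.pow_eq_one, one_pow]
    have hb1 : b ≠ 1 := by
      intro h
      rw [hb] at h
      have := (hζ.pow_eq_one_iff_dvd s).mp h
      exact hs0 (Nat.eq_zero_of_dvd_of_lt this hs)
    have hord : orderOf b = r := orderOf_eq_prime hbr hb1
    have hprim : IsPrimitiveRoot b r := by
      rw [← hord]; exact IsPrimitiveRoot.orderOf _
    have hinj : Set.InjOn (fun k : ℕ => c * b ^ k) (Finset.range r) := by
      intro k hk k' hk' h
      simp only at h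
      exact hprim.pow_inj (Finset.mem_range.mp hk) (Finset.mem_range.mp hk')
        (mul_left_cancel₀ hc h)
    have s1 : r * ∑ k ∈ Finset.range r, d (c * b ^ k) b ≤ n := by
      rw [← Finset.sum_image (f := fun a => d a b) hinj]
      exact hsum b _
    have s2 : ∑ k ∈ Finset.range r, d (c * b ^ k) b = r * d c b := by
      rw [← Finset.sum_congr rfl (fun k _ => hit b hb0 k c), Finset.sum_const, Finset.card_range,
        smul_eq_mul]
    rwa [s2] at s1
  -- split off `s = 0`
  obtain ⟨r', rfl⟩ : ∃ r', r = r' + 1 := ⟨r - 1, by omega⟩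
  rw [Finset.sum_range_succ', pow_zero, mul_add]
  have hX : (r' + 1) * ((r' + 1) * ∑ s ∈ Finset.range r', d c (ζ ^ (s + 1))) ≤ (r' + 1) * n := by
    rw [Finset.mul_sum, Finset.mul_sum]
    calc ∑ s ∈ Finset.range r', (r' + 1) * ((r' + 1) * d c (ζ ^ (s + 1)))
        ≤ ∑ _s ∈ Finset.range r', n := by
          apply Finset.sum_le_sum
          intro s hs'
          rw [Finset.mem_range] at hs'
          exact hs (s + 1) (Finset.mem_range.mpr (by omega)) (by omega)
      _ = r' * n := by rw [Finset.sum_const, Finset.card_range, smul_eq_mul]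
      _ ≤ (r' + 1) * n := Nat.mul_le_mul_right _ (by omega)
  have hX' := Nat.le_of_mul_le_mul_left hX (by omega)
  omega

end Cfsg.Agent.Lib.Helper13.EIG
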