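import Mathlib
import Cfsg.Prelude.Def_GeometricClasses
import Cfsg.Agent.Lib.Helper13.EIG.Defs
import Cfsg.Agent.Lib.Helper13.EIG.Basic

set_option autoImplicit false
set_option linter.unusedVariables false
set_option linter.unusedSectionVars false

/-!
# Project EIG, piece CNT1 (helper18): `count_ne`, the counting step for `ε ≠ 1`.
-/

namespace Cfsg.Agent.Lib.Helper13.EIG

open Matrix

variable {n : ℕ} {F : Type*} [Field F] {r : ℕ}
  {S : Subgroup (Matrix.GeneralLinearGroup (Fin n) F)}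

/-- `2 * C(k,2) = k^2 - k` in any commutative ring -/
theorem eigcnt1_two_choose {R : Type*} [CommRing R] (k : ℕ) :
    (2 : R) * ((k.choose 2 : ℕ) : R) = (k : R) * (k : R) - (k : R) := by
  induction k with
  | zero => simp
  | succ k ih =>
    have hc : (k + 1).choose 2 = k + k.choose 2 := by
      rw [Nat.choose_succ_succ' k 1, Nat.choose_one_right]
    rw [hc]
    push_cast
    linear_combination ih

/-- a map with fibres of size at most two -/
theorem eigcnt1_sum_comp_le_two {A B : Type*} [DecidableEq B] (s : Finset A) (φ : A → B)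
    (m : B → ℕ) (hfib : ∀ b, (s.filter (fun a => φ a = b)).card ≤ 2) :
    ∑ a ∈ s, m (φ a) ≤ 2 * ∑ b ∈ s.image φ, m b := by
  rw [Finset.sum_comp m φ, Finset.mul_sum]
  apply Finset.sum_le_sum
  intro b _
  rw [smul_eq_mul]
  exact Nat.mul_le_mul_right _ (hfib b)

theorem eigcnt1_pow_eq (hr0 : r ≠ 0) {ε : F} (hε : IsPrimitiveRoot ε r)
    {m n : ℕ} (h : ε ^ m = ε ^ n) : (m : ZMod r) = (n : ZMod r) := by
  have hne : ε ≠ 0 := hε.ne_zero hr0
  have h1 : ε ^ ((m : ℤ) - n) = 1 := by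
    rw [zpow_sub₀ hne, zpow_natCast, zpow_natCast, h, div_self (pow_ne_zero _ hne)]
  have hd := (hε.zpow_eq_one_iff_dvd _).mp h1
  have h2 : (((m : ℤ) - n : ℤ) : ZMod r) = 0 := (ZMod.intCast_zmod_eq_zero_iff_dvd _ _).mpr hd
  push_cast at h2
  linear_combination h2

theorem eigcnt1_nat_of_cast [NeZero r] {k k' : ℕ} (hk : k < r) (hk' : k' < r)
    (h : (k' : ZMod r) = k) : k' = k := by
  have := (ZMod.natCast_eq_natCast_iff' k' k r).mp h
  rwa [Nat.mod_eq_of_lt hk, Nat.mod_eq_of_lt hk'] at this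

theorem eigcnt1_nat_of_cast_val [NeZero r] {k' : ℕ} (hk' : k' < r) (t : ZMod r)
    (h : (k' : ZMod r) = t) : k' = t.val := by
  rw [← h, ZMod.val_natCast_of_lt hk']

/-- the triangular-number map is at most two-to-one modulo a prime -/
theorem eigcnt1_key (hr : r.Prime) {ε : F} (hε : IsPrimitiveRoot ε r) (s t : ℕ)
    (h : ε ^ (s.choose 2) = ε ^ (t.choose 2)) :
    (t : ZMod r) = s ∨ (t : ZMod r) = 1 - s := by
  have : Fact r.Prime := ⟨hr⟩
  have e1 := eigcnt1_pow_eq hr.ne_zero hε h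
  have t1 := eigcnt1_two_choose (R := ZMod r) s
  have t2 := eigcnt1_two_choose (R := ZMod r) t
  have hprod : ((s : ZMod r) - t) * ((s : ZMod r) + t - 1) = 0 := by
    linear_combination 2 * e1 - t1 + t2
  rcases mul_eq_zero.mp hprod with h | h
  · left; linear_combination -h
  · right; linear_combination h

theorem eigcnt1_fib [DecidableEq F] (hr : r.Prime) {ε : F} (hε : IsPrimitiveRoot ε r) (c : F)
    (hc : c ≠ 0) (p : F) :
    ((Finset.range r).filter (fun s : ℕ => c * ε ^ (s.choose 2) = p)).card ≤ 2 := by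
  have : Fact r.Prime := ⟨hr⟩
  set Fib := (Finset.range r).filter (fun s : ℕ => c * ε ^ (s.choose 2) = p) with hFib
  rcases Finset.eq_empty_or_nonempty Fib with h0 | ⟨s, hs⟩
  · rw [h0]; simp
  · rw [hFib, Finset.mem_filter, Finset.mem_range] at hs
    obtain ⟨hs, hp⟩ := hs
    have hsub : Fib ⊆ {s, ((1 : ZMod r) - s).val} := by
      intro t ht
      rw [hFib, Finset.mem_filter, Finset.mem_range] at ht
      obtain ⟨ht, hp'⟩ := ht
      have he : ε ^ (s.choose 2) = ε ^ (t.choose 2) := mul_left_cancel₀ hc (hp.trans hp'.symm)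
      rcases eigcnt1_key hr hε s t he with h1 | h1
      · rw [Finset.mem_insert]
        left
        exact eigcnt1_nat_of_cast hs ht h1
      · rw [Finset.mem_insert, Finset.mem_singleton]
        right
        exact eigcnt1_nat_of_cast_val ht _ h1
    exact le_trans (Finset.card_le_card hsub) Finset.card_le_two

/-- CNT1 [L] (`ε ≠ 1`) : by `hshift`, `d a 1 = d (a ε^(T s)) (ε^s)`, `T s = s(s-1)/2`, so `d c (ε^s) = d (c (ε⁻¹)^(T s)) 1`;
`s ↦ c (ε⁻¹)^(T s)` is at most 2-to-1 on `range r` (`T s ≡ T t` mod `r` iff `(s - t)(s + t - 1) ≡ 0`, `r` odd), so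
`Σ_s d c (ε^s) ≤ 2 Σ_{a ∈ image} d a 1`. -/
theorem count_ne (hr : r.Prime) (hodd : r ≠ 2) {ε : F} (hε : IsPrimitiveRoot ε r) (d : F → F → ℕ)
    (hshift : ∀ a b : F, b ≠ 0 → d a b = d (a * b) (b * ε))
    (hsum : ∀ A : Finset F, r * ∑ a ∈ A, d a 1 ≤ n) (c : F) (hc : c ≠ 0) :
    r * ∑ s ∈ Finset.range r, d c (ε ^ s) ≤ 2 * n := by
  classical
  have hε0 : ε ≠ 0 := hε.ne_zero hr.ne_zero
  -- step 1
  have h1 : ∀ (s : ℕ) (a : F), d a 1 = d (a * ε ^ (s.choose 2)) (ε ^ s) := by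
    intro s
    induction s with
    | zero => intro a; simp
    | succ s ih =>
      intro a
      have hc2 : (s + 1).choose 2 = s + s.choose 2 := by
        rw [Nat.choose_succ_succ' s 1, Nat.choose_one_right]
      rw [ih a, hshift _ _ (pow_ne_zero s hε0), hc2, pow_add, pow_succ]
      congr 1
      ring
  -- step 2
  have h2 : ∀ s : ℕ, d c (ε ^ s) = d (c * ε⁻¹ ^ (s.choose 2)) 1 := by
    intro s
    rw [h1 s (c * ε⁻¹ ^ (s.choose 2))]
    congr 1
    rw [mul_assoc, ← mul_pow, inv_mul_cancel₀ hε0, one_pow, mul_one]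
  have hεi : IsPrimitiveRoot ε⁻¹ r := hε.inv
  have s1 : ∑ s ∈ Finset.range r, d c (ε ^ s) =
      ∑ s ∈ Finset.range r, d (c * ε⁻¹ ^ (s.choose 2)) 1 :=
    Finset.sum_congr rfl (fun s _ => h2 s)
  have s2 := eigcnt1_sum_comp_le_two (Finset.range r) (fun s : ℕ => c * ε⁻¹ ^ (s.choose 2))
    (fun a => d a 1) (fun p => eigcnt1_fib hr hεi c hc p)
  have s3 := hsum ((Finset.range r).image (fun s : ℕ => c * ε⁻¹ ^ (s.choose 2)))
  rw [s1]
  calc r * ∑ s ∈ Finset.range r, d (c * ε⁻¹ ^ (s.choose 2)) 1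
      ≤ r * (2 * ∑ a ∈ (Finset.range r).image (fun s : ℕ => c * ε⁻¹ ^ (s.choose 2)), d a 1) :=
        Nat.mul_le_mul_left _ s2
    _ = 2 * (r * ∑ a ∈ (Finset.range r).image (fun s : ℕ => c * ε⁻¹ ^ (s.choose 2)), d a 1) := by
        ring
    _ ≤ 2 * n := Nat.mul_le_mul_left _ s3

end Cfsg.Agent.Lib.Helper13.EIG
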