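import Mathlib
import Cfsg.Agent.Lib.helper7.NCV.Defs

set_option autoImplicit false

namespace Cfsg.Agent.Lib.helper7.NCV

open Matrix

universe u

variable {F : Type u} [Field F] {n : ℕ}

/-- own copy of the CEN lemma (row A3): a nilpotent `X` not inside `Z` has `c ∉ Z` with all
commutators with `X` in `Z` -/
theorem ncvc5_cen {Γ : Type*} [Group Γ] (X Z : Subgroup Γ) [Group.IsNilpotent ↥X]
    (hXZ : ¬ X ≤ Z) :
    ∃ c ∈ X, c ∉ Z ∧ ∀ y ∈ X, c * y * c⁻¹ * y⁻¹ ∈ Z := by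
  obtain ⟨N, hN⟩ := Group.IsNilpotent.nilpotent (G := ↥X)
  have hP0 : ∀ x ∈ Subgroup.upperCentralSeries ↥X 0, (x : Γ) ∈ Z := by
    intro x hx
    rw [Subgroup.upperCentralSeries_zero, Subgroup.mem_bot] at hx
    rw [hx]
    exact Z.one_mem
  have hPN : ¬ ∀ x ∈ Subgroup.upperCentralSeries ↥X N, (x : Γ) ∈ Z := by
    intro h
    apply hXZ
    intro x hx
    exact h ⟨x, hx⟩ (by rw [hN]; trivial)
  have hex : ∃ i, (∀ x ∈ Subgroup.upperCentralSeries ↥X i, (x : Γ) ∈ Z) ∧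
      ¬ ∀ x ∈ Subgroup.upperCentralSeries ↥X (i + 1), (x : Γ) ∈ Z := by
    by_contra hcon
    apply hPN
    have hall : ∀ i, ∀ x ∈ Subgroup.upperCentralSeries ↥X i, (x : Γ) ∈ Z := by
      intro i
      induction i with
      | zero => exact hP0
      | succ i ih =>
        by_contra hni
        exact hcon ⟨i, ih, hni⟩
    exact hall N
  obtain ⟨i, hPi, hnP⟩ := hex
  have hex2 : ∃ x ∈ Subgroup.upperCentralSeries ↥X (i + 1), (x : Γ) ∉ Z := by
    by_contra hcon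
    apply hnP
    intro x hx
    by_contra hxz
    exact hcon ⟨x, hx, hxz⟩
  obtain ⟨x, hx, hxZ⟩ := hex2
  refine ⟨x, x.2, hxZ, ?_⟩
  intro y hy
  have h1 := Subgroup.mem_upperCentralSeries_succ_iff.mp hx ⟨y, hy⟩
  have h2 := hPi _ h1
  rw [commutatorElement_def] at h2
  simpa using h2

/-- own copy of row C1 (half): an irreducible matrix has `g 0 1 ≠ 0` -/
theorem ncvc5_irr_ne (g : Matrix (Fin 2) (Fin 2) F) (h : Irr g) : g 0 1 ≠ 0 := by
  intro h01
  apply h ![0, 1] (by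
    intro h0
    have := congrFun h0 1
    simp at this) (g 1 1)
  ext i
  fin_cases i <;> simp [Matrix.mulVec, dotProduct, Fin.sum_univ_two, h01]

/-- own copy of row C2: the commutant of `g` with `g 0 1 ≠ 0` is `F + F g` -/
theorem ncvc5_comm_affine (g m : Matrix (Fin 2) (Fin 2) F) (h01 : g 0 1 ≠ 0)
    (h : m * g = g * m) :
    ∃ α β : F, m = α • (1 : Matrix (Fin 2) (Fin 2) F) + β • g := by
  have e00 := congrFun (congrFun h 0) 0
  have e01 := congrFun (congrFun h 0) 1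
  simp only [Matrix.mul_apply, Fin.sum_univ_two] at e00 e01
  refine ⟨m 0 0 - m 0 1 / g 0 1 * g 0 0, m 0 1 / g 0 1, ?_⟩
  have h00 : m 0 0 = ((m 0 0 - m 0 1 / g 0 1 * g 0 0) • (1 : Matrix (Fin 2) (Fin 2) F)
      + (m 0 1 / g 0 1) • g) 0 0 := by
    rw [Matrix.add_apply, Matrix.smul_apply, Matrix.smul_apply, Matrix.one_apply_eq, smul_eq_mul,
      smul_eq_mul]
    ring
  have h01' : m 0 1 = ((m 0 0 - m 0 1 / g 0 1 * g 0 0) • (1 : Matrix (Fin 2) (Fin 2) F)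
      + (m 0 1 / g 0 1) • g) 0 1 := by
    rw [Matrix.add_apply, Matrix.smul_apply, Matrix.smul_apply,
      Matrix.one_apply_ne (by decide : (0 : Fin 2) ≠ 1), smul_eq_mul, smul_eq_mul]
    field_simp
    ring
  have h10 : m 1 0 = ((m 0 0 - m 0 1 / g 0 1 * g 0 0) • (1 : Matrix (Fin 2) (Fin 2) F)
      + (m 0 1 / g 0 1) • g) 1 0 := by
    rw [Matrix.add_apply, Matrix.smul_apply, Matrix.smul_apply,
      Matrix.one_apply_ne (by decide : (1 : Fin 2) ≠ 0), smul_eq_mul, smul_eq_mul]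
    field_simp
    linear_combination (-1) * e00
  have h11 : m 1 1 = ((m 0 0 - m 0 1 / g 0 1 * g 0 0) • (1 : Matrix (Fin 2) (Fin 2) F)
      + (m 0 1 / g 0 1) • g) 1 1 := by
    rw [Matrix.add_apply, Matrix.smul_apply, Matrix.smul_apply, Matrix.one_apply_eq, smul_eq_mul,
      smul_eq_mul]
    field_simp
    linear_combination (-1) * e01
  ext i j
  fin_cases i <;> fin_cases j
  · exact h00
  · exact h01'
  · exact h10
  · exact h11

theorem ceng (X : Subgroup (GL (Fin 2) F)) [Group.IsNilpotent ↥X] (g : GL (Fin 2) F)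
    (hg : g ∈ X) (hi : Irr (g : Matrix (Fin 2) (Fin 2) F))
    (ht : (g : Matrix (Fin 2) (Fin 2) F).trace ≠ 0) :
    ∃ α β : F, β ≠ 0 ∧ ∀ y ∈ X, ∃ μ : F,
      (y : Matrix (Fin 2) (Fin 2) F) *
        (α • (1 : Matrix (Fin 2) (Fin 2) F) + β • (g : Matrix (Fin 2) (Fin 2) F)) *
        ((y⁻¹ : GL (Fin 2) F) : Matrix (Fin 2) (Fin 2) F)
      = μ • (α • (1 : Matrix (Fin 2) (Fin 2) F) + β • (g : Matrix (Fin 2) (Fin 2) F)) := by
  -- X is not inside the centre
  have hXZ : ¬ X ≤ Subgroup.center (GL (Fin 2) F) := by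
    intro hle
    obtain ⟨a, ha⟩ := Matrix.GeneralLinearGroup.mem_center_iff_val_mem_range_scalar.mp (hle hg)
    apply hi ![1, 0] (by
      intro h0
      have := congrFun h0 0
      simp at this) a
    rw [← ha]
    ext i
    fin_cases i <;> simp [Matrix.mulVec, dotProduct, Fin.sum_univ_two]
  obtain ⟨c, hcX, hcZ, hcomm⟩ := ncvc5_cen X (Subgroup.center (GL (Fin 2) F)) hXZ
  -- the key identity y c y⁻¹ = μ c
  have hkey : ∀ y ∈ X, ∃ μ : F, (y : Matrix (Fin 2) (Fin 2) F) * (c : Matrix (Fin 2) (Fin 2) F) *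
      ((y⁻¹ : GL (Fin 2) F) : Matrix (Fin 2) (Fin 2) F) = μ • (c : Matrix (Fin 2) (Fin 2) F) := by
    intro y hy
    have hz : (c * y * c⁻¹ * y⁻¹)⁻¹ ∈ Subgroup.center (GL (Fin 2) F) :=
      Subgroup.inv_mem _ (hcomm y hy)
    obtain ⟨μ, hμ⟩ := Matrix.GeneralLinearGroup.mem_center_iff_val_mem_range_scalar.mp hz
    refine ⟨μ, ?_⟩
    have hgrp : y * c * y⁻¹ = (c * y * c⁻¹ * y⁻¹)⁻¹ * c := by group
    have hmat := congrArg (fun u : GL (Fin 2) F => (u : Matrix (Fin 2) (Fin 2) F)) hgrp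
    simp only [Units.val_mul] at hmat
    rw [hmat, ← hμ]
    simp [Matrix.scalar_apply, Matrix.smul_eq_diagonal_mul]
  -- c commutes with g
  obtain ⟨lam, hlam⟩ : ∃ lam : F, (c : Matrix (Fin 2) (Fin 2) F) * (g : Matrix (Fin 2) (Fin 2) F) *
      ((c⁻¹ : GL (Fin 2) F) : Matrix (Fin 2) (Fin 2) F) = lam • (g : Matrix (Fin 2) (Fin 2) F) := by
    have hz := hcomm g hg
    obtain ⟨lam, hl⟩ := Matrix.GeneralLinearGroup.mem_center_iff_val_mem_range_scalar.mp hz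
    refine ⟨lam, ?_⟩
    have hgrp : c * g * c⁻¹ = (c * g * c⁻¹ * g⁻¹) * g := by group
    have hmat := congrArg (fun u : GL (Fin 2) F => (u : Matrix (Fin 2) (Fin 2) F)) hgrp
    simp only [Units.val_mul] at hmat
    rw [hmat]
    simp only [← Units.val_mul]
    rw [Units.val_mul (c * g * c⁻¹ * g⁻¹) g, ← hl]
    simp [Matrix.scalar_apply, Matrix.smul_eq_diagonal_mul]
  have hlam1 : lam = 1 := by
    have h1 := congrArg Matrix.trace hlam
    rw [Matrix.trace_units_conj, Matrix.trace_smul, smul_eq_mul] at h1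
    have h2 : (lam - 1) * (g : Matrix (Fin 2) (Fin 2) F).trace = 0 := by linear_combination -h1
    rcases mul_eq_zero.mp h2 with h | h
    · exact sub_eq_zero.mp h
    · exact absurd h ht
  have hcg : (c : Matrix (Fin 2) (Fin 2) F) * (g : Matrix (Fin 2) (Fin 2) F)
      = (g : Matrix (Fin 2) (Fin 2) F) * (c : Matrix (Fin 2) (Fin 2) F) := by
    rw [hlam1, one_smul] at hlam
    have h1 : ((c⁻¹ : GL (Fin 2) F) : Matrix (Fin 2) (Fin 2) F) * (c : Matrix (Fin 2) (Fin 2) F) = 1 := by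
      rw [← Units.val_mul, inv_mul_cancel, Units.val_one]
    calc (c : Matrix (Fin 2) (Fin 2) F) * (g : Matrix (Fin 2) (Fin 2) F)
        = (c : Matrix (Fin 2) (Fin 2) F) * (g : Matrix (Fin 2) (Fin 2) F) *
          (((c⁻¹ : GL (Fin 2) F) : Matrix (Fin 2) (Fin 2) F) * (c : Matrix (Fin 2) (Fin 2) F)) := by
          rw [h1, Matrix.mul_one]
      _ = (g : Matrix (Fin 2) (Fin 2) F) * (c : Matrix (Fin 2) (Fin 2) F) := by
          rw [← Matrix.mul_assoc, hlam]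
  obtain ⟨α, β, hαβ⟩ := ncvc5_comm_affine (g : Matrix (Fin 2) (Fin 2) F)
    (c : Matrix (Fin 2) (Fin 2) F) (ncvc5_irr_ne _ hi) hcg
  have hβ : β ≠ 0 := by
    intro hβ0
    apply hcZ
    apply Matrix.GeneralLinearGroup.mem_center_iff_val_mem_range_scalar.mpr
    refine ⟨α, ?_⟩
    rw [hαβ, hβ0, zero_smul, add_zero]
    simp [Matrix.smul_one_eq_diagonal]
  refine ⟨α, β, hβ, ?_⟩
  intro y hy
  obtain ⟨μ, hμ⟩ := hkey y hy
  refine ⟨μ, ?_⟩
  rw [← hαβ]
  exact hμ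

end Cfsg.Agent.Lib.helper7.NCV
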