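import Cfsg.Agent.Lib.Helper13.O459.Defs
import Cfsg.Agent.Lib.Helper25.CharLinear
import Cfsg.Agent.Lib.Helper25.CharBound
import Cfsg.Agent.Lib.Helper25.Gagola
import Cfsg.Agent.Lib.helper2.CharNat
import Cfsg.Agent.Lib.Helper24.O459SUM38

/-!
# Project O459 (S1022), piece D18 (helper18): `d18_false`
-/

set_option autoImplicit false
set_option linter.unusedVariables false
set_option linter.unusedSectionVars false

namespace Cfsg.Agent.Lib.Helper13.O459

open Classical
open Cfsg.Agent.Lib.helper7.BR Cfsg.Agent.Lib.Helper25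

universe u

variable {G : Type u} [Group G] [Fintype G]

/-- A Sylow `19`-subgroup of order `19` contains an element of order `19`. -/
theorem o459d18_ex_x (P : Sylow 19 G) (hP : Nat.card ↥(P : Subgroup G) = 19) :
    ∃ x : G, x ∈ (P : Subgroup G) ∧ orderOf x = 19 := by
  have h19 : Nat.Prime 19 := by norm_num
  have hnt : Nontrivial ↥(P : Subgroup G) := by
    rw [← Finite.one_lt_card_iff_nontrivial, hP]
    norm_num
  obtain ⟨x, hx⟩ := exists_ne (1 : ↥(P : Subgroup G))
  refine ⟨(x : G), x.2, ?_⟩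
  have hdvd : orderOf x ∣ 19 := by
    have := orderOf_dvd_natCard x
    rwa [hP] at this
  rw [Subgroup.orderOf_coe]
  rcases (Nat.dvd_prime h19).1 hdvd with h | h
  · exact absurd (orderOf_eq_one_iff.1 h) hx
  · exact h

/-- The kernel argument: an irreducible character of a simple group taking the value `χ 1` at an involution `y`
and a different value at an element of order `19`. -/
theorem o459d18_ker [IsSimpleGroup G] (P : Sylow 19 G) (hP : Nat.card ↥(P : Subgroup G) = 19)
    (y : G) (hy : orderOf y = 2) (χ : Cfsg.IrrCharacter G)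
    (hy1 : (χ : G → ℂ) y = (χ : G → ℂ) 1)
    (hval : ∀ g : G, 19 ∣ orderOf g → (χ : G → ℂ) g ≠ (χ : G → ℂ) 1) : False := by
  have hmem : y ∈ irrKer χ := (mem_irrKer χ y).2 hy1
  rcases (irrKer_normal χ).eq_bot_or_eq_top with h | h
  · rw [h, Subgroup.mem_bot] at hmem
    rw [hmem, orderOf_one] at hy
    omega
  · obtain ⟨x, hxP, hx⟩ := o459d18_ex_x P hP
    have hxk : x ∈ irrKer χ := by
      rw [h]
      exact Subgroup.mem_top x
    exact hval x (by rw [hx]) ((mem_irrKer χ x).1 hxk)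

/-- D18 with the conclusion of `sum38` as a hypothesis. -/
theorem o459d18_core [IsSimpleGroup G] (P : Sylow 19 G) (hP : Nat.card ↥(P : Subgroup G) = 19)
    (y : G) (hy : orderOf y = 2) (χ : Cfsg.IrrCharacter G)
    (h1 : (χ : G → ℂ) 1 = 18) (hval : ∀ g : G, 19 ∣ orderOf g → (χ : G → ℂ) g = -1)
    (hsum : ∃ m : ℕ, (χ : G → ℂ) 1 + (χ : G → ℂ) y + 36 * (((-1 : ℤ) : ℂ)) = 38 * (m : ℂ)) :
    False := by
  obtain ⟨m, hm⟩ := hsum
  have hχy : (χ : G → ℂ) y = ((38 * m + 18 : ℕ) : ℂ) := by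
    rw [h1] at hm
    push_cast at hm ⊢
    linear_combination hm
  have hle := irr_norm_le χ y
  rw [hχy, h1, Complex.norm_natCast] at hle
  have h18 : ‖(18 : ℂ)‖ = 18 := by
    have : (18 : ℂ) = ((18 : ℕ) : ℂ) := by norm_num
    rw [this, Complex.norm_natCast]
    norm_num
  rw [h18] at hle
  have hm0 : m = 0 := by
    have : ((38 * m + 18 : ℕ) : ℝ) ≤ ((18 : ℕ) : ℝ) := by
      simpa using hle
    have h2 : 38 * m + 18 ≤ 18 := by exact_mod_cast this
    omega
  subst hm0
  refine o459d18_ker P hP y hy χ ?_ ?_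
  · rw [hχy, h1]
    norm_num
  · intro g hg
    rw [hval g hg, h1]
    norm_num

/-- D18 [M]: a character of degree 18 with value `-1` on the 19-singular elements is impossible when `C_G(P)` contains an involution.
(SUM38: `18 + χ y - 36 = 38 m`, `χ y = 18 + 38 m`; `‖χ y‖ ≤ 18` (`Helper25.irr_norm_le`) gives `m = 0`, `χ y = χ 1`, `y ∈ irrKer χ` (`Helper25.mem_irrKer`), a normal
subgroup, `= ⊥` (then `y = 1`) or `= ⊤` (then `χ x = 18` for `x ∈ P ∖ 1`, but `χ x = -1`).) -/
theorem d18_false [IsSimpleGroup G] (P : Sylow 19 G) (hP : Nat.card ↥(P : Subgroup G) = 19)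
    (y : G) (hy : orderOf y = 2) (hyc : y ∈ cen P) (χ : Cfsg.IrrCharacter G)
    (h1 : (χ : G → ℂ) 1 = 18) (hval : ∀ g : G, 19 ∣ orderOf g → (χ : G → ℂ) g = -1) : False := by
  refine o459d18_core P hP y hy χ h1 hval ?_
  refine sum38 P hP y hy hyc (χ : G → ℂ) (Cfsg.Agent.Lib.helper2.isCharacter_of_irr χ) (-1) ?_
  intro g hg
  rw [hval g hg]
  norm_num

end Cfsg.Agent.Lib.Helper13.O459
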