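import Mathlib
import Cfsg.Agent.Lib.Helper13.O5760.Defs
import Cfsg.Agent.Lib.Helper22.BTKEYcore
import Cfsg.Agent.Lib.Helper22.BTKEY

/-!
# Project O5760, piece UNIQ (core): all involutions are conjugate, with the statement of TOTAL as a hypothesis
-/

set_option autoImplicit false
set_option linter.unusedVariables false
set_option linter.unusedSectionVars false
open scoped ComplexConjugate
open Classical

namespace Cfsg.Agent.Lib.Helper13.O5760

open Cfsg.Agent.Lib.helper7 Cfsg.Agent.Lib.helper7.BR Cfsg.Agent.Lib.helper2 Cfsg.Agent.Lib.Helper25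
  Cfsg.Agent.Lib.Helper29 Cfsg.Agent.Lib.helper15.BH Cfsg.Agent.Lib.helper15.PSL Cfsg.Agent.Lib.Helper22

universe u

variable {G : Type u} [Group G] [Fintype G]

/-- UNIQ (core): all involutions are conjugate; `htotal` is the statement of TOTAL at `hK`. -/
theorem o5760uniq_core [Fintype (Cfsg.IrrCharacter G)] [IsSimpleGroup G] {P : Sylow 5 G}
    {X Y : Finset (Cfsg.IrrCharacter G)} {a : Cfsg.IrrCharacter G → ℤ} {χ : Cfsg.IrrCharacter G}
    {d z : ℕ} (hK : Blk P X Y a χ d z)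
    (htotal : ∀ (η₀ : Cfsg.IrrCharacter G), η₀ ∈ Y → ∀ s : G, s⁻¹ = s → ¬ 5 ∣ orderOf s →
      ∀ x : G, x ∈ (P : Subgroup G) → x ≠ 1 →
      ∑ ξ : Cfsg.IrrCharacter G, term s s x ξ =
        ((Complex.normSq ((z : ℂ) - (η₀ : G → ℂ) s) / ((d : ℝ) * (z : ℝ)) : ℝ) : ℂ))
    (t : G) (ht2 : t ^ 2 = 1)
    (hinv : ∀ x ∈ (P : Subgroup G), t * x * t⁻¹ = x⁻¹) (s : G) (hs2 : s ^ 2 = 1) (hs1 : s ≠ 1) :
    IsConj t s := by
  -- a member of `Y`
  have hYne : Y.Nonempty := by
    rw [← Finset.card_pos, hK.pb.cardY]; norm_num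
  obtain ⟨η₀, hη₀⟩ := hYne
  have hη₀ne : η₀ ≠ trivIrr G := by
    intro h
    have h1 : trivIrr G ∈ X := hK.pb.triv_mem
    rw [← h] at h1
    exact (Finset.disjoint_left.mp hK.pb.disj h1) hη₀
  -- a non-trivial element of `P`
  have hx : ∃ x : G, x ∈ (P : Subgroup G) ∧ x ≠ 1 := by
    by_contra hcon
    push Not at hcon
    have hbot : (P : Subgroup G) = ⊥ := by
      rw [Subgroup.eq_bot_iff_forall]
      exact hcon
    have h5 := hK.loc.cardP
    rw [hbot] at h5
    simp at h5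
  obtain ⟨x, hx, hx1⟩ := hx
  -- `s` is an involution
  have hsinv : s⁻¹ = s := by
    have : s * s = 1 := by rw [← sq]; exact hs2
    exact inv_eq_of_mul_eq_one_left this
  have hsp : ¬ 5 ∣ orderOf s := by
    intro h5
    have h2 : orderOf s ∣ 2 := orderOf_dvd_of_pow_eq_one hs2
    have := Nat.le_of_dvd (by norm_num) (dvd_trans h5 h2)
    omega
  have hT := htotal η₀ hη₀ s hsinv hsp x hx hx1
  have hcount := btkey_count s x _ hT
  -- positivity
  have hzd : (0 : ℝ) < (d : ℝ) * (z : ℝ) := by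
    have hz : (0 : ℝ) < (z : ℝ) := by exact_mod_cast hK.zpos
    have hd : (0 : ℝ) < (d : ℝ) := by
      have : 0 < d := by rw [hK.dz]; omega
      exact_mod_cast this
    exact mul_pos hd hz
  have hne : (z : ℂ) - (η₀ : G → ℂ) s ≠ 0 := by
    intro h0
    apply hs1
    apply btkey_faithful η₀ hη₀ne s
    rw [hK.degY η₀ hη₀]
    exact (sub_eq_zero.mp h0).symm
  have hR : (0 : ℝ) < Complex.normSq ((z : ℂ) - (η₀ : G → ℂ) s) / ((d : ℝ) * (z : ℝ)) :=
    div_pos (Complex.normSq_pos.mpr hne) hzd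
  have hcl : (0 : ℝ) < (Nat.card {y : G // IsConj s y} : ℝ) := by
    have : 0 < Nat.card {y : G // IsConj s y} := by
      have : Nonempty {y : G // IsConj s y} := ⟨⟨s, IsConj.refl s⟩⟩
      exact Nat.card_pos
    exact_mod_cast this
  have hG : (0 : ℝ) < (Nat.card G : ℝ) := by
    have : 0 < Nat.card G := Nat.card_pos
    exact_mod_cast this
  have hpos : (0 : ℝ) <
      (Nat.card {pr : G × G // IsConj s pr.1 ∧ IsConj s pr.2 ∧ pr.1 * pr.2 = x} : ℝ) := by
    rw [hcount]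
    exact mul_pos (div_pos (mul_pos hcl hcl) hG) hR
  have hpos' : 0 < Nat.card {pr : G × G // IsConj s pr.1 ∧ IsConj s pr.2 ∧ pr.1 * pr.2 = x} := by
    exact_mod_cast hpos
  obtain ⟨⟨⟨u, v⟩, hu, hv, huv⟩⟩ := (Nat.card_pos_iff.mp hpos').1
  simp only at hu hv huv
  -- `u`, `v` are involutions
  have hinvol : ∀ y : G, IsConj s y → y⁻¹ = y := by
    intro y hy
    obtain ⟨c, hc⟩ := isConj_iff.mp hy
    rw [← hc]
    have : (c * s * c⁻¹)⁻¹ = c * s⁻¹ * c⁻¹ := by group
    rw [this, hsinv]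
  have hu' := hinvol u hu
  have hv' := hinvol v hv
  have huinv : u * x * u⁻¹ = x⁻¹ := by
    rw [← huv]
    calc u * (u * v) * u⁻¹ = u * u * v * u⁻¹ := by group
      _ = u⁻¹ * u * v * u⁻¹ := by rw [hu']
      _ = v⁻¹ * u⁻¹ := by rw [hv']; group
      _ = (u * v)⁻¹ := by group
  have h1 : IsConj t u := btkey_conj_of_inverts hK.loc hK.cen t ht2 hinv x hx hx1 u huinv
  exact h1.trans hu.symm

end Cfsg.Agent.Lib.Helper13.O5760
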