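import Mathlib
import Cfsg.Agent.Lib.Helper13.O5760.Defs
import Cfsg.Agent.Lib.Helper18.O5760UNIQcore
import Cfsg.Agent.Lib.helper2.O5760TOTAL

/-!
# Project O5760 (S0980), piece UNIQ: all involutions are conjugate (verbatim Skel statement)
-/

set_option autoImplicit false
set_option linter.unusedVariables false
set_option linter.unusedSectionVars false
open scoped ComplexConjugate
open Classical

namespace Cfsg.Agent.Lib.Helper13.O5760

open Cfsg.Agent.Lib.helper7 Cfsg.Agent.Lib.helper7.BR Cfsg.Agent.Lib.helper2 Cfsg.Agent.Lib.Helper25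
  Cfsg.Agent.Lib.Helper29 Cfsg.Agent.Lib.helper15.BH Cfsg.Agent.Lib.helper15.PSL

universe u

variable {G : Type u} [Group G] [Fintype G]

/-- UNIQ [U] : all involutions are conjugate -/
theorem invol_conj [Fintype (Cfsg.IrrCharacter G)] [IsSimpleGroup G] {P : Sylow 5 G}
    {X Y : Finset (Cfsg.IrrCharacter G)} {a : Cfsg.IrrCharacter G → ℤ} {χ : Cfsg.IrrCharacter G}
    {d z : ℕ} (hK : Blk P X Y a χ d z) (t : G) (ht2 : t ^ 2 = 1)
    (hinv : ∀ x ∈ (P : Subgroup G), t * x * t⁻¹ = x⁻¹) (s : G) (hs2 : s ^ 2 = 1) (hs1 : s ≠ 1) :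
    IsConj t s :=
  o5760uniq_core hK (fun η₀ hη₀ s hs hsp x hx hx1 => total hK η₀ hη₀ s hs hsp x hx hx1)
    t ht2 hinv s hs2 hs1

end Cfsg.Agent.Lib.Helper13.O5760
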