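import Mathlib
import Cfsg.Agent.Lib.Helper13.S5955.Defs

/-!
# S5955 row T11 (lag_even), core: the induction, with the instances of T3 (peel_ti) and
T10 (distinct_bound) as hypotheses.  Also `s5955h18_sti_sup` (orthogonal sum of t.i. subspaces).
-/

set_option autoImplicit false

namespace Cfsg.Agent.Lib.Helper13.S5955

open Polynomial Module

/-- an alternating form is skew-symmetric -/
theorem s5955h18_skew {F : Type*} [Field F] {V : Type*} [AddCommGroup V] [Module F V]
    {B : LinearMap.BilinForm F V} (halt : ∀ v, B v v = 0) (u v : V) : B u v = -B v u := by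
  have h := halt (u + v)
  simp only [map_add, LinearMap.add_apply, halt u, halt v, zero_add, add_zero] at h
  exact eq_neg_of_add_eq_zero_right h

/-- the sum of two orthogonal totally isotropic subspaces is totally isotropic -/
theorem s5955h18_sti_sup {F : Type*} [Field F] {V : Type*} [AddCommGroup V] [Module F V]
    {B : LinearMap.BilinForm F V} (halt : ∀ v, B v v = 0) (U T : Submodule F V)
    (hU : STI B U) (hT : STI B T) (hUT : ∀ u ∈ U, ∀ t ∈ T, B u t = 0) : STI B (U ⊔ T) := by
  intro a ha b hb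
  obtain ⟨u, hu, t, ht, rfl⟩ := Submodule.mem_sup.mp ha
  obtain ⟨u', hu', t', ht', rfl⟩ := Submodule.mem_sup.mp hb
  simp only [map_add, LinearMap.add_apply, hU u hu u' hu', hUT u hu t' ht',
    hT t ht t' ht', s5955h18_skew halt t u', hUT u' hu' t ht, neg_zero, add_zero]

/-- T11 core -/
theorem s5955h18_lag_even_core {F : Type*} [Field F] {V : Type*} [AddCommGroup V] [Module F V]
    [FiniteDimensional F V] {r : ℕ} {B : LinearMap.BilinForm F V} {x : Module.End F V}
    (halt : ∀ v, B v v = 0)
    (hpeel : ∀ N U : Submodule F V, SInv x N → SND B N → U ≤ N → SInv x U → STI B U →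
      ∃ N' : Submodule F V, N' ≤ N ∧ SInv x N' ∧ SND B N' ∧ SOrth B U N' ∧ Disjoint U N' ∧
        finrank F N' + 2 * finrank F U = finrank F N)
    (C : Submodule F V)
    (hdist : ∀ N : Submodule F V, SInv x N → N ≤ C → SND B N →
      (∀ U : Submodule F V, U ≤ N → SInv x U → STI B U → U = ⊥) → finrank F N ≤ r - 1)
    (N : Submodule F V) (hN : SInv x N) (hNc : N ≤ C) (hNnd : SND B N) :
    ∃ T : Submodule F V, T ≤ N ∧ SInv x T ∧ STI B T ∧
      finrank F N ≤ 2 * finrank F T + (r - 1) := by
  induction' hn : finrank F N using Nat.strong_induction_on with n ih generalizing N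
  by_cases hex : ∃ U : Submodule F V, U ≤ N ∧ SInv x U ∧ STI B U ∧ U ≠ ⊥
  · obtain ⟨U, hUN, hU, hUti, hUne⟩ := hex
    obtain ⟨N', hN'N, hN', hN'nd, hUN', hdisj, hdim⟩ := hpeel N U hN hNnd hUN hU hUti
    have hUpos : 0 < finrank F U := by
      rcases Nat.eq_zero_or_pos (finrank F U) with h0 | h0
      · exact absurd (Submodule.finrank_eq_zero.mp h0) hUne
      · exact h0
    have hlt : finrank F N' < n := by omega
    obtain ⟨T', hT'N', hT', hT'ti, hT'dim⟩ := ih (finrank F N') hlt N' hN' (hN'N.trans hNc) hN'nd rfl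
    refine ⟨U ⊔ T', sup_le hUN (hT'N'.trans hN'N), Cfsg.Agent.Lib.Helper24.el_inv_sup hU hT', ?_, ?_⟩
    · exact s5955h18_sti_sup halt U T' hUti hT'ti (fun u hu t ht => hUN' u hu t (hT'N' ht))
    · have hdisj' : Disjoint U T' := hdisj.mono_right hT'N'
      have h1 := Submodule.finrank_sup_add_finrank_inf_eq U T'
      rw [disjoint_iff.mp hdisj', finrank_bot, add_zero] at h1
      rw [h1]
      omega
  · push Not at hex
    refine ⟨⊥, bot_le, Cfsg.Agent.Lib.Helper24.el_inv_bot x, ?_, ?_⟩
    · intro u hu v _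
      rw [(Submodule.mem_bot F).mp hu, map_zero, LinearMap.zero_apply]
    · rw [finrank_bot, mul_zero, zero_add, ← hn]
      exact hdist N hN hNc hNnd hex

end Cfsg.Agent.Lib.Helper13.S5955
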