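import Mathlib
import Cfsg.Agent.Lib.Helper13.S5955.Defs
import Cfsg.Agent.Lib.Helper18.S5955T11core
import Cfsg.Agent.Lib.Lead.S5955T3
import Cfsg.Agent.Lib.helper17.S5955T10core
import Cfsg.Agent.Lib.helper7.S5955T4
import Cfsg.Agent.Lib.helper3.S5955T8

/-!
# S5955 row T11 (lag_even), verbatim: core + T3 (lead) + T10 core (helper17) + T4 (helper7) +
T8 (helper3).
-/

set_option autoImplicit false

namespace Cfsg.Agent.Lib.Helper13.S5955

open Polynomial Module

/-- T11 [M] LAGEVEN: `i` even: a non-degenerate invariant `N ≤ ker Φ_r(x)` has a t.i.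
invariant subspace `T` with `dim N ≤ 2 dim T + (r - 1)`. -/
theorem lag_even {F : Type*} [Field F] [Fintype F] {p : ℕ} [Fact p.Prime] [CharP F p]
    {V : Type*} [AddCommGroup V] [Module F V] [FiniteDimensional F V]
    {r : ℕ} [Fact r.Prime] (hrp : r ≠ p) {B : LinearMap.BilinForm F V} {x : Module.End F V}
    (h : SCtx r B x) (heven : Even (orderOf ((Fintype.card F : ℕ) : ZMod r)))
    (N : Submodule F V) (hN : SInv x N) (hNc : N ≤ cycS r x) (hNnd : SND B N) :
    ∃ T : Submodule F V, T ≤ N ∧ SInv x T ∧ STI B T ∧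
      finrank F N ≤ 2 * finrank F T + (r - 1) := by
  have hr : 0 < r := (Fact.out : r.Prime).pos
  exact s5955h18_lag_even_core h.alt
    (fun N U hN hNnd hUN hU hUti =>
      peel_ti (Cfsg.Agent.Lib.Helper24.el_cast_ne_zero (F := F) r hrp) h N U hN hNnd hUN hU hUti)
    (cycS r x)
    (fun N hN hNc hNnd hno => s5955t10_core hrp h heven
      (fun N U hN hNnd hUN hU hUnd => peel_nd hr h N U hN hNnd hUN hU hUnd)
      (fun M hM f i hdeg hf0 hkill hi hdim => cw hr h M hM f i hdeg hf0 hkill hi hdim)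
      N hN hNc hNnd hno)
    N hN hNc hNnd

end Cfsg.Agent.Lib.Helper13.S5955
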