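import Mathlib
import Cfsg.Agent.Lib.Helper19.U3P.Defs
import Cfsg.Agent.Lib.helper7.SLPP1

/-!
# Project U3P (S2289, designer helper19), rows P2 (`pres_bij_hom`) and P3 (`pres_hom_hom`) (helper18), VERBATIM.
-/

set_option autoImplicit false

namespace Cfsg.Agent.Lib.Helper19.U3P

open Cfsg.Agent.Lib.helper17.SLP Cfsg.Agent.Lib.helper14.SU3J Cfsg.Agent.Lib.Helper25.SU3P
open Polynomial Matrix

universe u v

/-- P2 [M] -/
theorem pres_bij_hom {S : Type u} [Group S] [Finite S] (L : List (FreeGroup (Fin 3))) (a b c : S)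
    (hgen : Subgroup.closure {a, b, c} = ⊤) (hrel : ∀ r ∈ L, ev a b c r = 1)
    (hcard : ∀ (G : Type) [Group G] (u h w : G) (π : G →* S), π u = a → π h = b → π w = c →
      Subgroup.closure {u, h, w} = ⊤ → (∀ r ∈ L, ev u h w r = 1) →
      Finite G ∧ Nat.card G ≤ Nat.card S) :
    ∃ e : PresentedGroup (↑L.toFinset : Set (FreeGroup (Fin 3))) ≃* S,
      e (PresentedGroup.of 0) = a ∧ e (PresentedGroup.of 1) = b ∧ e (PresentedGroup.of 2) = c := by
  classical
  set rels : Set (FreeGroup (Fin 3)) := (↑L.toFinset : Set (FreeGroup (Fin 3))) with hrels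
  have hmem : ∀ r, r ∈ rels ↔ r ∈ L := by
    intro r
    simp [hrels]
  have hr : ∀ r ∈ rels, FreeGroup.lift ![a, b, c] r = 1 := by
    intro r hr
    exact hrel r ((hmem r).1 hr)
  let φ : PresentedGroup rels →* S := PresentedGroup.toGroup hr
  have hφ : ∀ i, φ (PresentedGroup.of i) = ![a, b, c] i := fun i => PresentedGroup.toGroup.of hr
  have h0 : φ (PresentedGroup.of 0) = a := by rw [hφ]; rfl
  have h1 : φ (PresentedGroup.of 1) = b := by rw [hφ]; rfl
  have h2 : φ (PresentedGroup.of 2) = c := by rw [hφ]; rfl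
  have hsurj : Function.Surjective φ := by
    rw [← MonoidHom.range_eq_top, eq_top_iff, ← hgen, Subgroup.closure_le]
    intro x hx
    simp only [Set.mem_insert_iff, Set.mem_singleton_iff] at hx
    rcases hx with rfl | rfl | rfl
    · exact ⟨PresentedGroup.of 0, h0⟩
    · exact ⟨PresentedGroup.of 1, h1⟩
    · exact ⟨PresentedGroup.of 2, h2⟩
  obtain ⟨hfin, hle⟩ := hcard (PresentedGroup rels) (PresentedGroup.of 0) (PresentedGroup.of 1)
    (PresentedGroup.of 2) φ h0 h1 h2 (slpp1_closure rels) (by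
      intro r hr'
      rw [slpp1_ev_of]
      exact (PresentedGroup.mk_eq_one_iff).2 (Subgroup.subset_normalClosure ((hmem r).2 hr')))
  have hbij : Function.Bijective φ := hsurj.bijective_of_nat_card_le hle
  exact ⟨MulEquiv.ofBijective φ hbij, h0, h1, h2⟩

/-- P3 [S-M] -/
theorem pres_hom_hom {S : Type u} [Group S] [Finite S] (L : List (FreeGroup (Fin 3))) (a b c : S)
    (hgen : Subgroup.closure {a, b, c} = ⊤) (hrel : ∀ r ∈ L, ev a b c r = 1)
    (hcard : ∀ (G : Type) [Group G] (u h w : G) (π : G →* S), π u = a → π h = b → π w = c →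
      Subgroup.closure {u, h, w} = ⊤ → (∀ r ∈ L, ev u h w r = 1) →
      Finite G ∧ Nat.card G ≤ Nat.card S)
    (G : Type v) [Group G] (u h w : G) (hL : ∀ r ∈ L, ev u h w r = 1) :
    ∃ ψ : S →* G, ψ a = u ∧ ψ b = h ∧ ψ c = w := by
  classical
  obtain ⟨e, e0, e1, e2⟩ := pres_bij_hom L a b c hgen hrel hcard
  have hr : ∀ r ∈ (↑L.toFinset : Set (FreeGroup (Fin 3))), FreeGroup.lift ![u, h, w] r = 1 := by
    intro r hr
    have : r ∈ L := by simpa using hr
    exact hL r this
  let τ : PresentedGroup (↑L.toFinset : Set (FreeGroup (Fin 3))) →* G := PresentedGroup.toGroup hr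
  have hτ : ∀ i, τ (PresentedGroup.of i) = ![u, h, w] i := fun i => PresentedGroup.toGroup.of hr
  refine ⟨τ.comp e.symm.toMonoidHom, ?_, ?_, ?_⟩
  · show τ (e.symm a) = u
    rw [← e0, MulEquiv.symm_apply_apply, hτ]
    rfl
  · show τ (e.symm b) = h
    rw [← e1, MulEquiv.symm_apply_apply, hτ]
    rfl
  · show τ (e.symm c) = w
    rw [← e2, MulEquiv.symm_apply_apply, hτ]
    rfl

end Cfsg.Agent.Lib.Helper19.U3P
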