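import Mathlib
import Cfsg.Agent.Lib.Helper19.U3P.Defs
import Cfsg.Agent.Lib.Helper18.U3PP2

/-!
# Project U3P (S2289, designer helper19), row FIN5 (`su3_pres`) CORE (helper18): FIN5 from the statement of
FIN4 (`su3_list`) and P2 (`pres_bij_hom`, `Helper18.U3PP2`).
-/

set_option autoImplicit false

namespace Cfsg.Agent.Lib.Helper19.U3P

open Cfsg.Agent.Lib.helper17.SLP Cfsg.Agent.Lib.helper14.SU3J Cfsg.Agent.Lib.Helper25.SU3P
open Polynomial Matrix

universe u v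

section FIN2

variable {F : Type u} [Field F] [Fintype F] {q : ℕ}

/-- FIN5 core: the hypothesis is the conclusion of FIN4 `su3_list` (its centre part is not used). -/
theorem u3pfin5_core
    (hlist : ∃ (a b c : ↥(Cfsg.SU 3 F q)) (L : List (FreeGroup (Fin 3))), L.length ≤ 22 ∧
      Subgroup.closure {a, b, c} = ⊤ ∧ (∀ r ∈ L, ev a b c r = 1) ∧
      (∀ (G : Type) [Group G] (u h w : G) (π : G →* ↥(Cfsg.SU 3 F q)), π u = a → π h = b → π w = c →
        Subgroup.closure {u, h, w} = ⊤ → (∀ r ∈ L, ev u h w r = 1) →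
        Finite G ∧ Nat.card G ≤ Nat.card ↥(Cfsg.SU 3 F q)) ∧
      b ^ ((q ^ 2 - 1) / Nat.gcd 3 (q + 1)) ∈ Subgroup.center ↥(Cfsg.SU 3 F q) ∧
      Subgroup.center ↥(Cfsg.SU 3 F q) ≤ Subgroup.zpowers (b ^ ((q ^ 2 - 1) / Nat.gcd 3 (q + 1)))) :
    ∃ rels : Finset (FreeGroup (Fin 3)), rels.card ≤ 23 ∧
      Nonempty (PresentedGroup (↑rels : Set (FreeGroup (Fin 3))) ≃* ↥(Cfsg.SU 3 F q)) := by
  classical
  obtain ⟨a, b, c, L, hlen, hgen, hrel, hcard, -, -⟩ := hlist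
  haveI : Finite (Matrix.SpecialLinearGroup (Fin 3) F) := Subtype.finite
  haveI : Finite ↥(Cfsg.SU 3 F q) := Subtype.finite
  obtain ⟨e, -, -, -⟩ := pres_bij_hom L a b c hgen hrel hcard
  exact ⟨L.toFinset, (List.toFinset_card_le L).trans (hlen.trans (by norm_num)), ⟨e⟩⟩

end FIN2

end Cfsg.Agent.Lib.Helper19.U3P
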