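import Mathlib
import Cfsg.Agent.Lib.Helper19.U3P.Defs
import Cfsg.Agent.Lib.Helper9.SP4H1
import Cfsg.Agent.Lib.Helper26.U3PP1

/-!
# Project U3P (S2289, designer helper19), rows P5 P6 P7 P8 (`relM_iff relB_iff relB8_iff relO_iff`) (helper18),
VERBATIM; on helper26's P1 (`map_z0 ev_subL ev_subB`) and SP4 `ev_map`.
-/

set_option autoImplicit false

namespace Cfsg.Agent.Lib.Helper19.U3P

open Cfsg.Agent.Lib.helper17.SLP Cfsg.Agent.Lib.helper14.SU3J Cfsg.Agent.Lib.Helper25.SU3P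
open Polynomial Matrix

universe u v

section PRel

variable {K : Type u} [Field K] {G : Type v} [Group G]

/-- the word `subL q r` evaluated at `u h w` is `φ` of the `SL₂`-word `r`. -/
theorem u3pp5_ev_phi (q : ℕ) (bK : Kˣ) (φ : SL2 K →* G) (u h w : G)
    (hx : φ (xM 1) = z0 q u h) (hh : φ (hM bK) = h ^ (q + 1)) (hw : φ wM = w) (r : FreeGroup (Fin 3)) :
    ev u h w (subL q r) = φ (ev (xM (1 : K)) (hM bK) wM r) := by
  rw [ev_subL, Cfsg.Agent.Lib.helper3.SP4.ev_map φ, hx, hh, hw]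

theorem u3pp5_ev_z0 (q : ℕ) (u h w : G) : ev u h w (z0 q gU gH) = z0 q u h := by
  rw [map_z0, ev_gU, ev_gH]

/-- P5 [S-M] -/
theorem relM_iff (q : ℕ) (bK : Kˣ) (az : FreeGroup (Fin 3))
    (haz : ev (xM (1 : K)) (hM bK) wM az = xM (bK : K)) (φ : SL2 K →* G) (u h w : G)
    (hx : φ (xM 1) = z0 q u h) (hh : φ (hM bK) = h ^ (q + 1)) (hw : φ wM = w) :
    (∀ r ∈ relsM q az, ev u h w r = 1) ↔ RelM q bK φ u h w := by
  have e1 : ev u h w (cj gH (z0 q gU gH) 1 * (subL q az)⁻¹) = 1 ↔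
      h * φ (xM 1) * h⁻¹ = φ (xM (bK : K)) := by
    rw [map_mul, map_inv, map_cj, u3pp5_ev_z0, ev_gH, u3pp5_ev_phi q bK φ u h w hx hh hw, haz,
      mul_inv_eq_one, cj_one, hx]
  have e2 : ev u h w (gW⁻¹ * gH * gW * gH ^ q) = 1 ↔ w⁻¹ * h * w = h ^ (-(q : ℤ)) := by
    rw [map_mul, map_mul, map_mul, map_inv, map_pow, ev_gH, ev_gW, mul_eq_one_iff_eq_inv, _root_.zpow_neg,
      zpow_natCast]
  constructor
  · intro H
    refine ⟨hx, hh, hw, e1.1 (H _ ?_), e2.1 (H _ ?_)⟩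
    · simp [relsM]
    · simp [relsM]
  · intro R r hr
    simp only [relsM, List.mem_cons, List.not_mem_nil, or_false] at hr
    rcases hr with rfl | rfl
    · exact e1.2 R.m1
    · exact e2.2 R.m2

/-- P6 [S-M] -/
theorem relB_iff (p q : ℕ) (bK : Kˣ) (C : ConstsB K p) (W : WordsB) (hW : OkB bK C W) (φ : SL2 K →* G)
    (u h w : G) (hx : φ (xM 1) = z0 q u h) (hh : φ (hM bK) = h ^ (q + 1)) (hw : φ wM = w) :
    (∀ r ∈ relsB p q C W, ev u h w r = 1) ↔ RelB p q φ u h C := by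
  have hphi := u3pp5_ev_phi q bK φ u h w hx hh hw
  have e1 : ev u h w (cm (z0 q gU gH) gU) = 1 ↔ Commute (φ (xM 1)) u := by
    rw [map_cm, u3pp5_ev_z0, ev_gU, cm_eq_one_iff, hx]
  have e4 : ev u h w (gU ^ p * (subL q W.x4)⁻¹) = 1 ↔ u ^ p = φ (xM C.t4) := by
    rw [map_mul, map_inv, map_pow, ev_gU, hphi, hW.h4, mul_inv_eq_one]
  have e6 : ev u h w (cj gH gU C.k * (cj gH gU ((q : ℤ) - 1) * gU * subL q W.x6)⁻¹) = 1 ↔
      cj h u C.k = cj h u ((q : ℤ) - 1) * u * φ (xM C.t6) := by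
    rw [map_mul, map_inv, map_mul, map_mul, map_cj, map_cj, ev_gU, ev_gH, hphi, hW.h6, mul_inv_eq_one]
  have e7 : ev u h w (cj gH gU 1 * (pw p gH gU ((q : ℤ) - 1) C.fl * subL q W.x7)⁻¹) = 1 ↔
      cj h u 1 = pw p h u ((q : ℤ) - 1) C.fl * φ (xM C.t7) := by
    rw [map_mul, map_inv, map_mul, map_cj, map_pw, ev_gU, ev_gH, hphi, hW.h7, mul_inv_eq_one]
  have e8 : ev u h w (pw p gH gU ((q : ℤ) - 1) C.mν * (subL q W.x8)⁻¹) = 1 ↔
      pw p h u ((q : ℤ) - 1) C.mν = φ (xM C.t8) := by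
    rw [map_mul, map_inv, map_pw, ev_gU, ev_gH, hphi, hW.h8, mul_inv_eq_one]
  constructor
  · intro H
    refine ⟨e1.1 (H _ ?_), e4.1 (H _ ?_), e6.1 (H _ ?_), e7.1 (H _ ?_), e8.1 (H _ ?_)⟩ <;>
      simp [relsB]
  · intro R r hr
    simp only [relsB, List.mem_cons, List.not_mem_nil, or_false] at hr
    rcases hr with rfl | rfl | rfl | rfl | rfl
    · exact e1.2 R.b1
    · exact e4.2 R.b4
    · exact e6.2 R.b6
    · exact e7.2 R.b7
    · exact e8.2 R.b8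

/-- P7 [S-M] -/
theorem relB8_iff (q : ℕ) (bK : Kˣ) (C : ConstsB8 K) (W : WordsB8) (hW : OkB8 bK C W) (φ : SL2 K →* G)
    (u h w : G) (hx : φ (xM 1) = z0 q u h) (hh : φ (hM bK) = h ^ (q + 1)) (hw : φ wM = w) :
    (∀ r ∈ relsB8 q C W, ev u h w r = 1) ↔ RelB8 φ u h C := by
  have hphi := u3pp5_ev_phi q bK φ u h w hx hh hw
  have e4 : ev u h w (gU ^ 2 * (subL q W.x4)⁻¹) = 1 ↔ u ^ 2 = φ (xM C.t4) := by
    rw [map_mul, map_inv, map_pow, ev_gU, hphi, hW.h4, mul_inv_eq_one]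
  have c0 : ev u h w (cm (z0 q gU gH) gU) = 1 ↔ Commute (φ (xM 1)) u := by
    rw [map_cm, u3pp5_ev_z0, ev_gU, cm_eq_one_iff, hx]
  have cc : ∀ i : ℤ, ev u h w (cm (cj gH (z0 q gU gH) i) gU) = 1 ↔ Commute (cj h (φ (xM 1)) i) u := by
    intro i
    rw [map_cm, map_cj, u3pp5_ev_z0, ev_gU, ev_gH, cm_eq_one_iff, hx]
  have kk : ∀ (i : ℤ) (y : FreeGroup (Fin 3)) (s : K), ev (xM (1 : K)) (hM bK) wM y = xM s →
      (ev u h w (cm gU (cj gH gU i) * (subL q y)⁻¹) = 1 ↔ cm u (cj h u i) = φ (xM s)) := by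
    intro i y s hy
    rw [map_mul, map_inv, map_cm, map_cj, ev_gU, ev_gH, hphi, hy, mul_inv_eq_one]
  have e8 : ev u h w (pw 2 gH gU 1 C.mα * (subL q W.x8)⁻¹) = 1 ↔ pw 2 h u 1 C.mα = φ (xM C.t8) := by
    rw [map_mul, map_inv, map_pw, ev_gU, ev_gH, hphi, hW.h8, mul_inv_eq_one]
  constructor
  · intro H
    refine ⟨e4.1 (H _ ?_), c0.1 (H _ ?_), (cc 1).1 (H _ ?_), (cc 2).1 (H _ ?_),
      (kk 1 _ _ hW.h1).1 (H _ ?_), (kk 2 _ _ hW.h2).1 (H _ ?_), (kk 3 _ _ hW.h3).1 (H _ ?_),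
      (kk 4 _ _ hW.h4').1 (H _ ?_), (kk 5 _ _ hW.h5).1 (H _ ?_), e8.1 (H _ ?_)⟩ <;>
      simp [relsB8]
  · intro R r hr
    simp only [relsB8, List.mem_cons, List.not_mem_nil, or_false] at hr
    rcases hr with rfl | rfl | rfl | rfl | rfl | rfl | rfl | rfl | rfl | rfl
    · exact e4.2 R.b4
    · exact c0.2 R.c0
    · exact (cc 1).2 R.c1
    · exact (cc 2).2 R.c2
    · exact (kk 1 _ _ hW.h1).2 R.k1
    · exact (kk 2 _ _ hW.h2).2 R.k2
    · exact (kk 3 _ _ hW.h3).2 R.k3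
    · exact (kk 4 _ _ hW.h4').2 R.k4
    · exact (kk 5 _ _ hW.h5).2 R.k5
    · exact e8.2 R.b8

/-- P8 [S-M] -/
theorem relO_iff (q : ℕ) (bK : Kˣ) (C : ConstsO K) (W : WordsO) (hW : OkO bK C W) (φ : SL2 K →* G)
    (u h w : G) (hx : φ (xM 1) = z0 q u h) (hh : φ (hM bK) = h ^ (q + 1)) (hw : φ wM = w) :
    (∀ r ∈ relsO q C W, ev u h w r = 1) ↔ RelO φ u h w C := by
  have hphi := u3pp5_ev_phi q bK φ u h w hx hh hw
  have e4 : ev u h w (subL q W.rc * gH * gU * gW * (gU * gW * subB C.wbc)⁻¹) = 1 ↔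
      φ C.gc * h * u * w = u * w * ev u h 1 C.wbc := by
    rw [map_mul, map_inv, map_mul, map_mul, map_mul, map_mul, map_mul, ev_gU, ev_gH, ev_gW, hphi,
      hW.hc, ev_subB, mul_inv_eq_one]
  have e12 : ∀ (r wu wb : FreeGroup (Fin 3)) (g : SL2 K), ev (xM (1 : K)) (hM bK) wM r = g →
      (ev u h w (subL q r * gU * gW * (subB wu * gW * subB wb)⁻¹) = 1 ↔
        φ g * u * w = ev u h 1 wu * w * ev u h 1 wb) := by
    intro r wu wb g hg
    rw [map_mul, map_inv, map_mul, map_mul, map_mul, map_mul, ev_gU, ev_gW, hphi,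
      hg, ev_subB, ev_subB, mul_inv_eq_one]
  constructor
  · intro H
    refine ⟨e4.1 (H _ ?_), (e12 _ _ _ _ hW.h1).1 (H _ ?_), (e12 _ _ _ _ hW.h2).1 (H _ ?_)⟩ <;>
      simp [relsO]
  · intro R r hr
    simp only [relsO, List.mem_cons, List.not_mem_nil, or_false] at hr
    rcases hr with rfl | rfl | rfl
    · exact e4.2 R.o4
    · exact (e12 _ _ _ _ hW.h1).2 R.o1
    · exact (e12 _ _ _ _ hW.h2).2 R.o2

end PRel

end Cfsg.Agent.Lib.Helper19.U3P
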