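import Mathlib
import Cfsg.Agent.Lib.Helper19.U3P.Defs
import Cfsg.Agent.Lib.Helper18.U3PP5

/-!
# Project U3P (S2289, designer helper19), row FIN3 (`hrel_all`) (helper18), VERBATIM; on P5-P8 (`Helper18.U3PP5`).
-/

set_option autoImplicit false

namespace Cfsg.Agent.Lib.Helper19.U3P

open Cfsg.Agent.Lib.helper17.SLP Cfsg.Agent.Lib.helper14.SU3J Cfsg.Agent.Lib.Helper25.SU3P
open Polynomial Matrix

universe u v

section FIN

variable {F : Type u} [Field F] [Fintype F] {K : Type u} [Field K] [Fintype K] {q : ℕ}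
  {D : Par F K q} {a b c : ↥(Cfsg.SU 3 F q)} {ρ : SL2 K →* ↥(Cfsg.SU 3 F q)}

/-- FIN3 [M] -/
theorem hrel_all (hG : Gens D a b c ρ) (hRM : RelM q D.bK ρ a b c) (Lsl : List (FreeGroup (Fin 3)))
    (az : FreeGroup (Fin 3)) (hLrel : ∀ r ∈ Lsl, ev (xM (1 : K)) (hM D.bK) wM r = 1)
    (haz : ev (xM (1 : K)) (hM D.bK) wM az = xM (D.bK : K)) (CO : ConstsO K) (WO : WordsO)
    (hWO : OkO D.bK CO WO) (hRO : RelO ρ a b c CO) :
    (∀ (p : ℕ) (CB : ConstsB K p) (WB : WordsB), OkB D.bK CB WB → RelB p q ρ a b CB →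
      ∀ r ∈ relsAll p q Lsl az CB WB CO WO, ev a b c r = 1) ∧
    (∀ (CB : ConstsB8 K) (WB : WordsB8), OkB8 D.bK CB WB → RelB8 ρ a b CB →
      ∀ r ∈ relsAll8 q Lsl az CB WB CO WO, ev a b c r = 1) := by
  have hx := hRM.phi_x
  have hh := hRM.phi_h
  have hw := hRM.phi_w
  have hsl : ∀ r ∈ Lsl.map (subL q), ev a b c r = 1 := by
    intro r hr
    rw [List.mem_map] at hr
    obtain ⟨r', hr', rfl⟩ := hr
    rw [u3pp5_ev_phi q D.bK ρ a b c hx hh hw, hLrel r' hr', map_one]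
  have hM' := (relM_iff q D.bK az haz ρ a b c hx hh hw).2 hRM
  have hO' := (relO_iff q D.bK CO WO hWO ρ a b c hx hh hw).2 hRO
  refine ⟨?_, ?_⟩
  · intro p CB WB hWB hRB r hr
    have hB' := (relB_iff p q D.bK CB WB hWB ρ a b c hx hh hw).2 hRB
    simp only [relsAll, List.mem_append] at hr
    rcases hr with ((hr | hr) | hr) | hr
    · exact hsl r hr
    · exact hM' r hr
    · exact hB' r hr
    · exact hO' r hr
  · intro CB WB hWB hRB r hr
    have hB' := (relB8_iff q D.bK CB WB hWB ρ a b c hx hh hw).2 hRB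
    simp only [relsAll8, List.mem_append] at hr
    rcases hr with ((hr | hr) | hr) | hr
    · exact hsl r hr
    · exact hM' r hr
    · exact hB' r hr
    · exact hO' r hr

end FIN

end Cfsg.Agent.Lib.Helper19.U3P
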