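import Mathlib
import Cfsg.Agent.Lib.Helper19.U3P.Defs
import Cfsg.Agent.Lib.Helper19.U3PBv
import Cfsg.Agent.Lib.Helper18.U3PM2
import Cfsg.Agent.Lib.helper15.SL2Card

/-!
# Project U3P (S2289, designer helper19), row M3 (`card_M`) (helper18), VERBATIM; on B2 (`relM_basic`, helper19),
M2 (`card_ext_cyclic`, helper18) and helper15's `card_SL2`.
-/

set_option autoImplicit false

namespace Cfsg.Agent.Lib.Helper19.U3P

open Cfsg.Agent.Lib.helper17.SLP Cfsg.Agent.Lib.helper14.SU3J Cfsg.Agent.Lib.Helper25.SU3P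
open Polynomial Matrix

universe u v

section M

variable {K : Type u} [Field K] [Fintype K] {G : Type v} [Group G]

/-- M3 [M] -/
theorem card_M (q : ℕ) (hq : 2 ≤ q) (hK : Fintype.card K = q) (bK : Kˣ)
    (hbK : ∀ y : Kˣ, y ∈ Subgroup.zpowers bK) (φ : SL2 K →* G) (u h w : G) (R : RelM q bK φ u h w) :
    Finite ↥(Subgroup.closure ({z0 q u h, h, w} : Set G)) ∧
      Nat.card ↥(Subgroup.closure ({z0 q u h, h, w} : Set G)) ≤ q * (q ^ 2 - 1) * (q + 1) := by
  classical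
  obtain ⟨-, h2, h3, -, -, -, -, -⟩ := relM_basic q hq hK bK hbK φ u h w R
  haveI : Finite (SL2 K) := Subtype.finite
  haveI : Finite ↥φ.range := Finite.of_surjective φ.rangeRestrict φ.rangeRestrict_surjective
  have hNcard : Nat.card ↥φ.range ≤ q * (q ^ 2 - 1) := by
    have h1 := Nat.card_le_card_of_surjective φ.rangeRestrict φ.rangeRestrict_surjective
    rw [Cfsg.Agent.Lib.helper15.card_SL2 (F := K), hK] at h1
    exact h1
  have hn : h ^ (q + 1) ∈ φ.range := ⟨hM bK, R.phi_h⟩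
  have hconj : ∀ x ∈ φ.range, h * x * h⁻¹ ∈ φ.range := by
    rintro _ ⟨g, rfl⟩
    obtain ⟨g', hg'⟩ := h2 g
    exact ⟨g', hg'.symm⟩
  have hconj' : ∀ x ∈ φ.range, h⁻¹ * x * h ∈ φ.range := by
    rintro _ ⟨g, rfl⟩
    obtain ⟨g', hg'⟩ := h3 g
    exact ⟨g', hg'.symm⟩
  obtain ⟨hfin, hcard⟩ := card_ext_cyclic φ.range h (q + 1) (Nat.succ_pos q) hn hconj hconj'
  have hle : Subgroup.closure ({z0 q u h, h, w} : Set G) ≤
      Subgroup.closure ((φ.range : Set G) ∪ {h}) := by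
    rw [Subgroup.closure_le]
    rintro x hx
    simp only [Set.mem_insert_iff, Set.mem_singleton_iff] at hx
    apply Subgroup.subset_closure
    rcases hx with rfl | rfl | rfl
    · exact Or.inl ⟨xM 1, R.phi_x⟩
    · exact Or.inr rfl
    · exact Or.inl ⟨wM, R.phi_w⟩
  haveI := hfin
  refine ⟨Finite.of_injective _ (Subgroup.inclusion_injective hle), ?_⟩
  calc Nat.card ↥(Subgroup.closure ({z0 q u h, h, w} : Set G))
      ≤ Nat.card ↥(Subgroup.closure ((φ.range : Set G) ∪ {h})) := Subgroup.card_le_of_le hle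
    _ ≤ (q + 1) * Nat.card ↥φ.range := hcard
    _ ≤ (q + 1) * (q * (q ^ 2 - 1)) := Nat.mul_le_mul_left _ hNcard
    _ = q * (q ^ 2 - 1) * (q + 1) := by ring

end M

end Cfsg.Agent.Lib.Helper19.U3P
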