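import Mathlib
import Cfsg.Prelude.Def_GeometricClasses
import Cfsg.Agent.Lib.Helper27.ASC.Defs
import Cfsg.Agent.Lib.Helper19.ASG.Defs
import Cfsg.Agent.Lib.Helper18.ASP.Defs
import Cfsg.Agent.Lib.Helper18.ASPADJ
import Cfsg.Agent.Lib.helper8.ASPC.Defs

set_option autoImplicit false
set_option linter.unusedVariables false
set_option linter.unusedSectionVars false

/-! # Project ASP, block C, piece C-ANI3 (helper18): the adjoint of `P R(a ⊗ 1) P⁻¹` for a Kronecker Gram matrix -/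

namespace Cfsg.Agent.Lib.Helper18.ASP

open Cfsg Cfsg.Geo Cfsg.Agent.Lib.Helper27.ASC Cfsg.Agent.Lib.Helper19.ASG
open scoped MatrixGroups Matrix Kronecker

variable {n : ℕ} {F : Type*} [Field F]

/-- `formOfGram id` in matrix form -/
theorem aspcani3_dot {κ : Type} [Fintype κ] (A : Matrix κ κ F) (x y : κ → F) :
    formOfGram id A x y = x ⬝ᵥ (A *ᵥ y) := by
  unfold formOfGram
  simp only [dotProduct, Matrix.mulVec, id, Finset.mul_sum, mul_assoc]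

/-- every vector is `P (x ∘ e)` -/
theorem aspcani3_coord {k d : ℕ} (e : Fin n ≃ Fin k × Fin d) (P : GL (Fin n) F) (u : Fin n → F) :
    (P : Matrix (Fin n) (Fin n) F) *ᵥ
      (((((P⁻¹ : GL (Fin n) F) : Matrix (Fin n) (Fin n) F) *ᵥ u) ∘ e.symm) ∘ e) = u := by
  have h1 : ((((P⁻¹ : GL (Fin n) F) : Matrix (Fin n) (Fin n) F) *ᵥ u) ∘ e.symm) ∘ e =
      ((P⁻¹ : GL (Fin n) F) : Matrix (Fin n) (Fin n) F) *ᵥ u := by
    funext i; simp
  rw [h1, Matrix.mulVec_mulVec, ← Units.val_mul, mul_inv_cancel, Units.val_one, Matrix.one_mulVec]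

/-- the action of `P R(M) P⁻¹` on `P (x ∘ e)` -/
theorem aspcani3_act {k d : ℕ} (e : Fin n ≃ Fin k × Fin d) (P : GL (Fin n) F)
    (M : Matrix (Fin k × Fin d) (Fin k × Fin d) F) (x : Fin k × Fin d → F) :
    ((P : Matrix (Fin n) (Fin n) F) * Matrix.reindexAlgEquiv F F e.symm M *
        ((P⁻¹ : GL (Fin n) F) : Matrix (Fin n) (Fin n) F)) *ᵥ ((P : Matrix (Fin n) (Fin n) F) *ᵥ (x ∘ e)) =
      (P : Matrix (Fin n) (Fin n) F) *ᵥ ((M *ᵥ x) ∘ e) := by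
  have e2 : ((P⁻¹ : GL (Fin n) F) : Matrix (Fin n) (Fin n) F) * (P : Matrix (Fin n) (Fin n) F) = 1 := by
    rw [← Units.val_mul, inv_mul_cancel, Units.val_one]
  rw [Matrix.mulVec_mulVec, Matrix.mul_assoc, Matrix.mul_assoc, e2, Matrix.mul_one, ← Matrix.mulVec_mulVec]
  congr 1
  funext i
  simp only [Matrix.coe_reindexAlgEquiv, Matrix.reindex_apply, Matrix.mulVec, dotProduct, Function.comp,
    Matrix.submatrix_apply, Equiv.symm_symm]
  exact (Equiv.sum_comp e (fun p => M (e i) p * x p))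

/-- C-ANI3 -/
theorem spc_kron_adjoint (f : (Fin n → F) → (Fin n → F) → F) {k d : ℕ}
    (e : Fin n ≃ Fin k × Fin d) (P : GL (Fin n) F) (A : Matrix (Fin k) (Fin k) F) (B : Matrix (Fin d) (Fin d) F)
    (hK : KrGram f e P A B) (a a' : Matrix (Fin k) (Fin k) F) (haa' : aᵀ * A = A * a') (u v : Fin n → F) :
    f (((P : Matrix (Fin n) (Fin n) F) *
        Matrix.reindexAlgEquiv F F e.symm (a ⊗ₖ (1 : Matrix (Fin d) (Fin d) F)) *
        ((P⁻¹ : GL (Fin n) F) : Matrix (Fin n) (Fin n) F)) *ᵥ u) v =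
      f u (((P : Matrix (Fin n) (Fin n) F) *
        Matrix.reindexAlgEquiv F F e.symm (a' ⊗ₖ (1 : Matrix (Fin d) (Fin d) F)) *
        ((P⁻¹ : GL (Fin n) F) : Matrix (Fin n) (Fin n) F)) *ᵥ v) := by
  obtain ⟨x, hx⟩ : ∃ x : Fin k × Fin d → F, (P : Matrix (Fin n) (Fin n) F) *ᵥ (x ∘ e) = u :=
    ⟨_, aspcani3_coord e P u⟩
  obtain ⟨y, hy⟩ : ∃ y : Fin k × Fin d → F, (P : Matrix (Fin n) (Fin n) F) *ᵥ (y ∘ e) = v :=
    ⟨_, aspcani3_coord e P v⟩
  rw [← hx, ← hy, aspcani3_act, aspcani3_act, hK, hK, aspcani3_dot, aspcani3_dot]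
  have key : (a ⊗ₖ (1 : Matrix (Fin d) (Fin d) F))ᵀ * (A ⊗ₖ B) = (A ⊗ₖ B) * (a' ⊗ₖ (1 : Matrix (Fin d) (Fin d) F)) := by
    rw [← Matrix.kroneckerMap_transpose, ← Matrix.mul_kronecker_mul, ← Matrix.mul_kronecker_mul, haa',
      Matrix.transpose_one, Matrix.one_mul, Matrix.mul_one]
  rw [← Matrix.vecMul_transpose (a ⊗ₖ (1 : Matrix (Fin d) (Fin d) F)) x, ← Matrix.dotProduct_mulVec,
    Matrix.mulVec_mulVec, Matrix.mulVec_mulVec, key]

end Cfsg.Agent.Lib.Helper18.ASP
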