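import Mathlib
import Cfsg.Prelude.Def_GeometricClasses
import Cfsg.Agent.Lib.Helper27.ASC.Defs
import Cfsg.Agent.Lib.Helper19.ASG.Defs
import Cfsg.Agent.Lib.Helper18.ASP.Defs
import Cfsg.Agent.Lib.Helper18.ASPADJ
import Cfsg.Agent.Lib.helper8.ASPC.Defs
import Cfsg.Agent.Lib.Helper18.ASPCANI3

set_option autoImplicit false
set_option linter.unusedVariables false
set_option linter.unusedSectionVars false

/-! # Project ASP, block C, piece C-EVALT core (helper18): `|F|` even, `Irr H` => the second Kronecker factor is alternating -/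

namespace Cfsg.Agent.Lib.Helper18.ASP

open Cfsg Cfsg.Geo Cfsg.Agent.Lib.Helper27.ASC Cfsg.Agent.Lib.Helper19.ASG
open scoped MatrixGroups Matrix Kronecker

variable {n : ℕ} {F : Type*} [Field F]

/-- `w ↦ w B w` is additive in characteristic 2 for symmetric `B` -/
theorem aspcevalt_add (h2 : (2 : F) = 0) {d : ℕ} (B : Matrix (Fin d) (Fin d) F) (hBs : Bᵀ = B)
    (w w' : Fin d → F) :
    (w + w') ⬝ᵥ (B *ᵥ (w + w')) = w ⬝ᵥ (B *ᵥ w) + w' ⬝ᵥ (B *ᵥ w') := by
  have hsym : w' ⬝ᵥ (B *ᵥ w) = w ⬝ᵥ (B *ᵥ w') := by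
    rw [Matrix.dotProduct_mulVec, ← hBs, Matrix.vecMul_transpose, hBs, dotProduct_comm]
  rw [Matrix.mulVec_add, add_dotProduct, dotProduct_add, dotProduct_add, hsym]
  have : w ⬝ᵥ (B *ᵥ w') + w ⬝ᵥ (B *ᵥ w') = 0 := by rw [← two_mul, h2, zero_mul]
  linear_combination this

theorem aspcevalt_smul {d : ℕ} (B : Matrix (Fin d) (Fin d) F) (c : F) (w : Fin d → F) :
    (c • w) ⬝ᵥ (B *ᵥ (c • w)) = c ^ 2 * (w ⬝ᵥ (B *ᵥ w)) := by
  rw [Matrix.mulVec_smul, smul_dotProduct, dotProduct_smul, smul_eq_mul, smul_eq_mul]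
  ring

/-- transport of a Gram matrix -/
theorem aspcevalt_transport {d : ℕ} (B b : Matrix (Fin d) (Fin d) F) (w w' : Fin d → F) :
    (b *ᵥ w) ⬝ᵥ (B *ᵥ (b *ᵥ w')) = w ⬝ᵥ ((bᵀ * B * b) *ᵥ w') := by
  rw [← Matrix.mulVec_mulVec, ← Matrix.mulVec_mulVec, Matrix.dotProduct_mulVec w bᵀ, Matrix.vecMul_transpose]

/-- the isotropic vectors of `w ↦ w B w` -/
def aspcevaltW (h2 : (2 : F) = 0) {d : ℕ} (B : Matrix (Fin d) (Fin d) F) (hBs : Bᵀ = B) :
    Submodule F (Fin d → F) where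
  carrier := {w | w ⬝ᵥ (B *ᵥ w) = 0}
  add_mem' := by
    intro w w' hw hw'
    show (w + w') ⬝ᵥ (B *ᵥ (w + w')) = 0
    rw [aspcevalt_add h2 B hBs, hw, hw', add_zero]
  zero_mem' := by
    show (0 : Fin d → F) ⬝ᵥ (B *ᵥ 0) = 0
    simp
  smul_mem' := by
    intro c w hw
    show (c • w) ⬝ᵥ (B *ᵥ (c • w)) = 0
    rw [aspcevalt_smul, hw, mul_zero]

/-- an isotropic vector exists in dimension at least two -/
theorem aspcevalt_exists [Fintype F] (h2 : (2 : F) = 0) {d : ℕ} (hd : 2 ≤ d) (B : Matrix (Fin d) (Fin d) F)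
    (hBs : Bᵀ = B) : ∃ w : Fin d → F, w ≠ 0 ∧ w ⬝ᵥ (B *ᵥ w) = 0 := by
  classical
  by_contra hcon
  push Not at hcon
  have hneg : ∀ w : Fin d → F, -w = w := by
    intro w
    have : w + w = 0 := by rw [← two_smul F w, h2, zero_smul]
    exact neg_eq_of_add_eq_zero_left this
  have hinj : Function.Injective (fun w : Fin d → F => w ⬝ᵥ (B *ᵥ w)) := by
    intro w w' hww'
    by_contra hne
    have h0 : w + w' ≠ 0 := by
      intro h
      apply hne
      have : w = -w' := eq_neg_of_add_eq_zero_left h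
      rw [this, hneg]
    apply hcon _ h0
    rw [aspcevalt_add h2 B hBs]
    have h1 : w ⬝ᵥ (B *ᵥ w) = w' ⬝ᵥ (B *ᵥ w') := hww'
    rw [h1, ← two_mul, h2, zero_mul]
  have hcard := Fintype.card_le_of_injective _ hinj
  rw [Fintype.card_fun, Fintype.card_fin] at hcard
  have h1 : 1 < Fintype.card F := Fintype.one_lt_card
  have h3 : Fintype.card F ^ 2 ≤ Fintype.card F ^ d := Nat.pow_le_pow_right (by omega) hd
  nlinarith

/-- C-EVALT with C-SIM as a hypothesis -/
theorem aspcevalt_core [Fintype F] (h2 : (2 : F) = 0) {H : Subgroup (GL (Fin n) F)} (hH : Irr H) {k d : ℕ}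
    (hk : 0 < k) (hd : 2 ≤ d) (e : Fin n ≃ Fin k × Fin d) (P : GL (Fin n) F) (B : Matrix (Fin d) (Fin d) F)
    (hBs : Bᵀ = B)
    (hsim : ∀ h ∈ H, ∃ (a : Matrix (Fin k) (Fin k) F) (b : Matrix (Fin d) (Fin d) F) (ν : F),
      (h : Matrix (Fin n) (Fin n) F) = (P : Matrix (Fin n) (Fin n) F) *
        Matrix.reindexAlgEquiv F F e.symm (a ⊗ₖ b) * ((P⁻¹ : GL (Fin n) F) : Matrix (Fin n) (Fin n) F) ∧
      bᵀ * B * b = ν • B) : ∀ j, B j j = 0 := by
  classical
  by_contra hcon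
  push Not at hcon
  obtain ⟨j₀, hj₀⟩ := hcon
  set W₀ := aspcevaltW h2 B hBs with hW₀
  have hW₀mem : ∀ w, w ∈ W₀ ↔ w ⬝ᵥ (B *ᵥ w) = 0 := fun w => Iff.rfl
  -- the coordinates of a vector
  let crd : (Fin n → F) → Fin k × Fin d → F := fun v =>
    (((P⁻¹ : GL (Fin n) F) : Matrix (Fin n) (Fin n) F) *ᵥ v) ∘ e.symm
  have hcrd_add : ∀ u v, crd (u + v) = crd u + crd v := by
    intro u v
    funext p
    simp only [crd, Function.comp, Matrix.mulVec_add, Pi.add_apply]
  have hcrd_smul : ∀ (c : F) v, crd (c • v) = c • crd v := by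
    intro c v
    funext p
    simp only [crd, Function.comp, Matrix.mulVec_smul, Pi.smul_apply]
  have hcrd_P : ∀ x : Fin k × Fin d → F, crd ((P : Matrix (Fin n) (Fin n) F) *ᵥ (x ∘ e)) = x := by
    intro x
    funext p
    simp only [crd, Function.comp]
    rw [Matrix.mulVec_mulVec, ← Units.val_mul, inv_mul_cancel, Units.val_one, Matrix.one_mulVec]
    simp
  have hP_crd : ∀ v, (P : Matrix (Fin n) (Fin n) F) *ᵥ (crd v ∘ e) = v := fun v => aspcani3_coord e P v
  let U : Submodule F (Fin n → F) :=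
    { carrier := {v | ∀ i, (fun j => crd v (i, j)) ∈ W₀}
      add_mem' := by
        intro u v hu hv i
        have : (fun j => crd (u + v) (i, j)) = (fun j => crd u (i, j)) + (fun j => crd v (i, j)) := by
          funext j; rw [hcrd_add]; rfl
        rw [this]
        exact W₀.add_mem (hu i) (hv i)
      zero_mem' := by
        intro i
        have : (fun j => crd 0 (i, j)) = (0 : Fin d → F) := by
          funext j
          simp [crd]
        rw [this]
        exact W₀.zero_mem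
      smul_mem' := by
        intro c v hv i
        have : (fun j => crd (c • v) (i, j)) = c • (fun j => crd v (i, j)) := by
          funext j; rw [hcrd_smul]; rfl
        rw [this]
        exact W₀.smul_mem c (hv i) }
  have hUmem : ∀ v, v ∈ U ↔ ∀ i, (fun j => crd v (i, j)) ∈ W₀ := fun v => Iff.rfl
  -- invariance
  have hinv : ∀ s ∈ matrixSet H, U.map (Matrix.toLin' s) ≤ U := by
    rintro _ ⟨h, hh, rfl⟩ _ ⟨v, hv, rfl⟩
    obtain ⟨a, b, ν, hab, hb⟩ := hsim h hh
    rw [hUmem]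
    intro i
    rw [Matrix.toLin'_apply]
    show (fun j => crd ((h : Matrix (Fin n) (Fin n) F) *ᵥ v) (i, j)) ∈ W₀
    rw [hab]
    have hv' : v = (P : Matrix (Fin n) (Fin n) F) *ᵥ (crd v ∘ e) := (hP_crd v).symm
    rw [hv', aspcani3_act, hcrd_P]
    -- the row `i` of `(a ⊗ b) x`
    have hrow : (fun j => ((a ⊗ₖ b) *ᵥ crd v) (i, j)) =
        ∑ i', a i i' • (b *ᵥ (fun j' => crd v (i', j'))) := by
      funext j
      simp only [Matrix.mulVec, dotProduct, Matrix.kroneckerMap_apply, Finset.sum_apply, Pi.smul_apply,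
        smul_eq_mul, Fintype.sum_prod_type, Finset.mul_sum]
      apply Finset.sum_congr rfl
      intro i' _
      apply Finset.sum_congr rfl
      intro j' _
      ring
    rw [hrow]
    apply W₀.sum_mem
    intro i' _
    apply W₀.smul_mem
    rw [hW₀mem]
    have hvi := (hUmem v).mp hv i'
    rw [hW₀mem] at hvi
    rw [aspcevalt_transport, hb, Matrix.smul_mulVec, dotProduct_smul, hvi, smul_zero]
  have i₀ : Fin k := ⟨0, hk⟩
  -- `U ≠ ⊥`
  obtain ⟨w₀, hw₀, hw₀q⟩ := aspcevalt_exists h2 hd B hBs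
  have hUbot : U ≠ ⊥ := by
    intro hbot
    have hmem : (P : Matrix (Fin n) (Fin n) F) *ᵥ (ptv (Pi.single i₀ 1) w₀ ∘ e) ∈ U := by
      rw [hUmem]
      intro i
      rw [hcrd_P]
      have : (fun j => ptv (Pi.single i₀ (1 : F)) w₀ (i, j)) = (Pi.single i₀ (1 : F) : Fin k → F) i • w₀ := by
        funext j; rfl
      rw [this]
      exact W₀.smul_mem _ hw₀q
    rw [hbot, Submodule.mem_bot] at hmem
    have h1 := congrArg crd hmem
    rw [hcrd_P] at h1
    apply hw₀
    funext j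
    have h3 := congrFun h1 (i₀, j)
    have h4 : crd 0 (i₀, j) = 0 := by simp [crd]
    rw [h4] at h3
    simpa [ptv] using h3
  -- `U ≠ ⊤`
  have hUtop : U ≠ ⊤ := by
    intro htop
    have hmem : (P : Matrix (Fin n) (Fin n) F) *ᵥ (ptv (Pi.single i₀ 1) (Pi.single j₀ 1) ∘ e) ∈ U := by
      rw [htop]; exact Submodule.mem_top
    rw [hUmem] at hmem
    have h1 := hmem i₀
    rw [hcrd_P, hW₀mem] at h1
    have h2' : (fun j => ptv (Pi.single i₀ (1 : F)) (Pi.single j₀ (1 : F)) (i₀, j)) =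
        (Pi.single j₀ (1 : F) : Fin d → F) := by
      funext j
      simp [ptv]
    rw [h2'] at h1
    apply hj₀
    simpa using h1
  rcases hH U hinv with h | h
  · exact hUbot h
  · exact hUtop h

end Cfsg.Agent.Lib.Helper18.ASP
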