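import Mathlib
import Cfsg.Prelude.Def_GeometricClasses
import Cfsg.Agent.Lib.Helper27.ASC.Defs
import Cfsg.Agent.Lib.Helper19.ASG.Defs
import Cfsg.Agent.Lib.Helper18.ASP.Defs
import Cfsg.Agent.Lib.Helper18.ASPADJ
import Cfsg.Agent.Lib.helper8.ASPC.Defs
import Cfsg.Agent.Lib.Helper18.ASPCEVALTcore
import Cfsg.Agent.Lib.Helper20.ASPCSIM

set_option autoImplicit false
set_option linter.unusedVariables false
set_option linter.unusedSectionVars false

/-! # Project ASP, block C, piece C-EVALT (helper18), verbatim: `aspcevalt_core` + helper20's `spc_kron_sim` -/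

namespace Cfsg.Agent.Lib.Helper18.ASP

open Cfsg Cfsg.Geo Cfsg.Agent.Lib.Helper27.ASC Cfsg.Agent.Lib.Helper19.ASG
open scoped MatrixGroups Matrix Kronecker

variable {n : ℕ} {F : Type*} [Field F]

/-- C-EVALT -/
theorem spc_even_alt [Fintype F] (he : ¬ Odd (Fintype.card F)) (f : (Fin n → F) → (Fin n → F) → F)
    {H : Subgroup (GL (Fin n) F)} (hI : H ≤ isoGL f) (hH : Irr H) {k d : ℕ} (hk : 0 < k) (hd : 2 ≤ d)
    (e : Fin n ≃ Fin k × Fin d) (P : GL (Fin n) F) (A : Matrix (Fin k) (Fin k) F) (B : Matrix (Fin d) (Fin d) F)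
    (hA : A ≠ 0) (hB : B ≠ 0) (hBs : Bᵀ = B) (hK : KrGram f e P A B)
    (hHle : H ≤ tensorProductSubgroup k d e P) : ∀ j, B j j = 0 := by
  have h2 : (2 : F) = 0 := by
    have hev : Even (Fintype.card F) := Nat.not_odd_iff_even.mp he
    have hch : ringChar F = 2 := FiniteField.even_card_iff_char_two.mpr (Nat.even_iff.mp hev)
    have : CharP F 2 := hch ▸ ringChar.charP F
    exact CharTwo.two_eq_zero
  refine aspcevalt_core h2 hH hk hd e P B hBs ?_
  intro h hh
  obtain ⟨a, b, μ, hμ, hab, ha, hb⟩ := spc_kron_sim f e P A B hA hB hK h (hI hh) (hHle hh)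
  exact ⟨a, b, μ⁻¹, hab, hb⟩

end Cfsg.Agent.Lib.Helper18.ASP
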