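import Mathlib
import Cfsg.Prelude.Def_GeometricClasses
import Cfsg.Agent.Lib.Helper27.ASC.Defs
import Cfsg.Agent.Lib.Helper18.ASCNOSYMP
import Cfsg.Agent.Lib.Helper18.ASCSYMP
import Cfsg.Agent.Lib.Helper29.ASCQUAD
import Cfsg.Agent.Lib.Helper29.ASCUNIT

/-!
# Class 8 (symplectic) membership from a fixed symplectic form (helper18), for project ASG
-/

set_option autoImplicit false
set_option linter.unusedVariables false
set_option linter.unusedSectionVars false

namespace Cfsg.Agent.Lib.Helper27.ASC

open Cfsg Cfsg.Geo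
open scoped MatrixGroups Matrix

variable {n : ℕ} {F : Type*} [Field F] [Fintype F]

/-- a non-degenerate symplectic form lives in even dimension -/
theorem ascsymp_even (f : (Fin n → F) → (Fin n → F) → F) (hf : IsSymplecticForm f) : Even n := by
  by_contra h
  exact no_symplectic_odd (Nat.not_even_iff_odd.mp h) f hf

/-- in dimension at least 3, the similarity group of a symplectic form is in the linear class (clause 8a) -/
theorem ascsymp_inLinearClass (hn : 3 ≤ n) (f : (Fin n → F) → (Fin n → F) → F) (hf : IsSymplecticForm f) :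
    InLinearClass n F (similarityGroup f) := by
  have he : Even n := ascsymp_even f hf
  have h4 : 4 ≤ n := by
    obtain ⟨k, hk⟩ := he
    omega
  right; right; right; right; right; right; right; right; right; left
  exact ⟨f, hf, he, h4, rfl⟩

/-- SYMP8: `P ⊴ H` absolutely irreducible fixing a symplectic form, `n ≥ 3` ==> `H` is inside a member of
the linear class -/
theorem symp_class_of_fixes (hn : 3 ≤ n) {H P : Subgroup (GL (Fin n) F)} (hP : NormalIn P H) (hA : AbsIrr P)
    (f : (Fin n → F) → (Fin n → F) → F) (hf : IsSymplecticForm f)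
    (hfix : FixesForm (matrixSet P) f) :
    ∃ M : Subgroup (GL (Fin n) F), InLinearClass n F M ∧ H ≤ M :=
  ⟨similarityGroup f, ascsymp_inLinearClass hn f hf, symp_of_fixes hP hA f hf hfix⟩

/-- the unitary analogue of `ascsymp_inLinearClass` -/
theorem ascsymp_unitary_inLinearClass (hn : 3 ≤ n) (σ : F ≃+* F) (f : (Fin n → F) → (Fin n → F) → F)
    (hf : IsUnitaryForm σ f) : InLinearClass n F (similarityGroup f) := by
  right; right; right; right; right; right; right; right; right; right; left
  exact ⟨σ, f, hf, hn, rfl⟩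

/-- the orthogonal analogue of `ascsymp_inLinearClass` -/
theorem ascsymp_quad_inLinearClass (hn : 3 ≤ n) (hF : Odd (Fintype.card F)) (Q : (Fin n → F) → F)
    (hQ : IsNondegenerateQuadraticForm Q) : InLinearClass n F (quadSimilarityGroup Q) := by
  right; right; right; right; right; right; right; right; right; right; right
  exact ⟨Q, hQ, hF, hn, rfl⟩


/-- FORMS: the three `fixes a form' branches at once.  `P ⊴ H` absolutely irreducible, `n ≥ 3`: either `H` lies in a
member of the linear class (class 8), or `P` fixes no non-degenerate quadratic, symplectic or unitary form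
(the three extra conditions of `InLinearResidualClass`). -/
theorem forms_dichotomy (hn : 3 ≤ n) {H P : Subgroup (GL (Fin n) F)} (hP : NormalIn P H) (hA : AbsIrr P) :
    (∃ M : Subgroup (GL (Fin n) F), InLinearClass n F M ∧ H ≤ M) ∨
    ((¬ ∃ Q : (Fin n → F) → F, IsNondegenerateQuadraticForm Q ∧ FixesQuadForm (matrixSet P) Q) ∧
      (¬ ∃ f : (Fin n → F) → (Fin n → F) → F, IsSymplecticForm f ∧ FixesForm (matrixSet P) f) ∧
      (¬ ∃ (σ : F ≃+* F) (f : (Fin n → F) → (Fin n → F) → F), IsUnitaryForm σ f ∧ FixesForm (matrixSet P) f)) := by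
  by_cases hs : ∃ f : (Fin n → F) → (Fin n → F) → F, IsSymplecticForm f ∧ FixesForm (matrixSet P) f
  · obtain ⟨f, hf, hfix⟩ := hs
    exact Or.inl (symp_class_of_fixes hn hP hA f hf hfix)
  by_cases hu : ∃ (σ : F ≃+* F) (f : (Fin n → F) → (Fin n → F) → F),
      IsUnitaryForm σ f ∧ FixesForm (matrixSet P) f
  · obtain ⟨σ, f, hf, hfix⟩ := hu
    exact Or.inl ⟨similarityGroup f, ascsymp_unitary_inLinearClass hn σ f hf, unit_of_fixes hP hA σ f hf hfix⟩
  by_cases hq : ∃ Q : (Fin n → F) → F, IsNondegenerateQuadraticForm Q ∧ FixesQuadForm (matrixSet P) Q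
  · obtain ⟨Q, hQ, hfix⟩ := hq
    by_cases h2 : (2 : F) = 0
    · exfalso
      exact hs ⟨_, ascsymp_polar_symplectic h2 Q hQ, ascsymp_fixes_polar _ Q hfix⟩
    · have hF : Odd (Fintype.card F) := by
        have hc : ringChar F ≠ 2 := by
          intro h
          apply h2
          have := ringChar.Nat.cast_ringChar (R := F)
          rw [h] at this
          exact_mod_cast this
        exact Nat.odd_iff.mpr (FiniteField.odd_card_of_char_ne_two hc)
      exact Or.inl ⟨quadSimilarityGroup Q, ascsymp_quad_inLinearClass hn hF Q hQ,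
        quad_of_fixes hP hA hF Q hQ hfix⟩
  exact Or.inr ⟨hq, hs, hu⟩

end Cfsg.Agent.Lib.Helper27.ASC
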