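import Mathlib
import Cfsg.Prelude.Def_GeometricClasses
import Cfsg.Agent.Lib.Helper27.ASC.Defs
import Cfsg.Agent.Lib.Helper19.ASG.Defs
import Cfsg.Agent.Lib.Helper18.ASP.Defs
import Cfsg.Agent.Lib.Helper18.ASPADJ
import Cfsg.Agent.Lib.helper8.ASPC.Defs
import Cfsg.Agent.Lib.Helper18.ASPCANI3

set_option autoImplicit false
set_option linter.unusedVariables false
set_option linter.unusedSectionVars false

/-! # Project ASP, block C, piece C-ANI4 (helper18): a self-adjoint `P R(a ⊗ 1) P⁻¹` has `aᵀ A = A a` -/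

namespace Cfsg.Agent.Lib.Helper18.ASP

open Cfsg Cfsg.Geo Cfsg.Agent.Lib.Helper27.ASC Cfsg.Agent.Lib.Helper19.ASG
open scoped MatrixGroups Matrix Kronecker

variable {n : ℕ} {F : Type*} [Field F]

/-- matrices with the same bilinear form are equal (any index type) -/
theorem aspcani4_ext {κ : Type} [Fintype κ] [DecidableEq κ] (M N : Matrix κ κ F)
    (h : ∀ x y : κ → F, x ⬝ᵥ (M *ᵥ y) = x ⬝ᵥ (N *ᵥ y)) : M = N := by
  ext p q
  have := h (Pi.single p 1) (Pi.single q 1)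
  simpa using this

/-- C-ANI4 -/
theorem spc_kron_selfadjoint (f : (Fin n → F) → (Fin n → F) → F) {k d : ℕ}
    (e : Fin n ≃ Fin k × Fin d) (P : GL (Fin n) F) (A : Matrix (Fin k) (Fin k) F) (B : Matrix (Fin d) (Fin d) F)
    (hB : B ≠ 0) (hK : KrGram f e P A B) (a : Matrix (Fin k) (Fin k) F)
    (hsa : ∀ u v : Fin n → F,
      f (((P : Matrix (Fin n) (Fin n) F) *
        Matrix.reindexAlgEquiv F F e.symm (a ⊗ₖ (1 : Matrix (Fin d) (Fin d) F)) *
        ((P⁻¹ : GL (Fin n) F) : Matrix (Fin n) (Fin n) F)) *ᵥ u) v =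
      f u (((P : Matrix (Fin n) (Fin n) F) *
        Matrix.reindexAlgEquiv F F e.symm (a ⊗ₖ (1 : Matrix (Fin d) (Fin d) F)) *
        ((P⁻¹ : GL (Fin n) F) : Matrix (Fin n) (Fin n) F)) *ᵥ v)) :
    aᵀ * A = A * a := by
  have key : (aᵀ * A) ⊗ₖ B = (A * a) ⊗ₖ B := by
    apply aspcani4_ext
    intro x y
    have h := hsa ((P : Matrix (Fin n) (Fin n) F) *ᵥ (x ∘ e)) ((P : Matrix (Fin n) (Fin n) F) *ᵥ (y ∘ e))
    rw [aspcani3_act, aspcani3_act, hK, hK, aspcani3_dot, aspcani3_dot,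
      ← Matrix.vecMul_transpose (a ⊗ₖ (1 : Matrix (Fin d) (Fin d) F)) x, ← Matrix.dotProduct_mulVec,
      Matrix.mulVec_mulVec, Matrix.mulVec_mulVec, ← Matrix.kroneckerMap_transpose, ← Matrix.mul_kronecker_mul,
      ← Matrix.mul_kronecker_mul, Matrix.transpose_one, Matrix.one_mul, Matrix.mul_one] at h
    exact h
  obtain ⟨j, j', hjj'⟩ : ∃ j j', B j j' ≠ 0 := by
    by_contra hcon
    push Not at hcon
    apply hB
    ext j j'
    exact hcon j j'
  ext i i'
  have h := congrFun (congrFun key (i, j)) (i', j')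
  simp only [Matrix.kroneckerMap_apply] at h
  exact mul_right_cancel₀ hjj' h

end Cfsg.Agent.Lib.Helper18.ASP
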