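import Mathlib
import Cfsg.Prelude.Def_GeometricClasses
import Cfsg.Agent.Lib.Helper27.ASC.Defs

set_option autoImplicit false
set_option linter.unusedVariables false
set_option linter.unusedSectionVars false

/-!
# Reducible groups of isometries of a quadratic form, ALL characteristics (helper18; for project ASE and friends)

`quad_red_cases` : a reducible group `H` of isometries of a non-degenerate quadratic form `Q` on `Fin n → F` stabilises
a non-zero totally singular subspace, or a proper non-zero subspace on which the polar form is non-degenerate, or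
(characteristic 2 only) FIXES a non-singular vector `v` (`Q v ≠ 0`), hence stabilises its span.
No finiteness of `F` is needed.
-/

namespace Cfsg.Agent.Lib.Helper18.QRed

open Cfsg Cfsg.Geo Cfsg.Agent.Lib.Helper27.ASC
open scoped MatrixGroups Matrix

variable {n : ℕ} {F : Type*} [Field F]

theorem qred_polar_zero_left {Q : (Fin n → F) → F} (hQ : IsNondegenerateQuadraticForm Q) (w : Fin n → F) :
    QuadraticMap.polar Q 0 w = 0 := by
  have := hQ.polar_bilinear.smul_left 0 0 w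
  rwa [zero_smul, zero_mul] at this

theorem qred_polar_self {Q : (Fin n → F) → F} (hQ : IsNondegenerateQuadraticForm Q) (v : Fin n → F) :
    QuadraticMap.polar Q v v = 2 * Q v := by
  unfold QuadraticMap.polar
  have : v + v = (2 : F) • v := (two_smul F v).symm
  rw [this, hQ.smul]
  ring

theorem qred_add (Q : (Fin n → F) → F) (u v : Fin n → F) :
    Q (u + v) = Q u + Q v + QuadraticMap.polar Q u v := by
  unfold QuadraticMap.polar
  ring

theorem qred_polar_inv {Q : (Fin n → F) → F} (g : Matrix (Fin n) (Fin n) F) (hg : ∀ v, Q (g *ᵥ v) = Q v)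
    (u v : Fin n → F) : QuadraticMap.polar Q (g *ᵥ u) (g *ᵥ v) = QuadraticMap.polar Q u v := by
  unfold QuadraticMap.polar
  rw [← Matrix.mulVec_add, hg, hg, hg]

theorem qred_stab_of_maps (H : Subgroup (GL (Fin n) F)) (W : Submodule F (Fin n → F))
    (hW : ∀ g ∈ H, ∀ v ∈ W, (g : Matrix (Fin n) (Fin n) F) *ᵥ v ∈ W) : H ≤ subspaceStabilizer W := by
  intro g hg
  show ∀ v, v ∈ (W : Set (Fin n → F)) ↔ (glToMat (Fin n) F g) *ᵥ v ∈ (W : Set (Fin n → F))
  intro v
  constructor
  · intro hv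
    exact hW g hg v hv
  · intro hv
    have h2 := hW g⁻¹ (H.inv_mem hg) _ hv
    have e : ((g⁻¹ : GL (Fin n) F) : Matrix (Fin n) (Fin n) F) *ᵥ ((glToMat (Fin n) F g) *ᵥ v) = v := by
      rw [Matrix.mulVec_mulVec]
      have : ((g⁻¹ : GL (Fin n) F) : Matrix (Fin n) (Fin n) F) * (glToMat (Fin n) F g) = 1 := by
        show ((g⁻¹ : GL (Fin n) F) : Matrix (Fin n) (Fin n) F) * (g : Matrix (Fin n) (Fin n) F) = 1
        rw [← Units.val_mul, inv_mul_cancel, Units.val_one]
      rw [this, Matrix.one_mulVec]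
    rw [e] at h2
    exact h2

/-- the radical `W ∩ W^⊥` of the polar form on `W` -/
def qredRad (Q : (Fin n → F) → F) (hQ : IsNondegenerateQuadraticForm Q) (W : Submodule F (Fin n → F)) :
    Submodule F (Fin n → F) where
  carrier := {v | v ∈ W ∧ ∀ w ∈ W, QuadraticMap.polar Q v w = 0}
  add_mem' := by
    rintro a b ⟨ha, ha'⟩ ⟨hb, hb'⟩
    exact ⟨W.add_mem ha hb, fun w hw => by rw [hQ.polar_bilinear.add_left, ha' w hw, hb' w hw, add_zero]⟩
  zero_mem' := ⟨W.zero_mem, fun w _ => qred_polar_zero_left hQ w⟩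
  smul_mem' := by
    rintro c a ⟨ha, ha'⟩
    exact ⟨W.smul_mem c ha, fun w hw => by rw [hQ.polar_bilinear.smul_left, ha' w hw, mul_zero]⟩

theorem mem_qredRad {Q : (Fin n → F) → F} (hQ : IsNondegenerateQuadraticForm Q) (W : Submodule F (Fin n → F))
    (v : Fin n → F) : v ∈ qredRad Q hQ W ↔ v ∈ W ∧ ∀ w ∈ W, QuadraticMap.polar Q v w = 0 := Iff.rfl

/-- the singular vectors of a subspace on which `Q` is additive (`R` totally isotropic for the polar form) -/
def qredSing (Q : (Fin n → F) → F) (hQ : IsNondegenerateQuadraticForm Q) (R : Submodule F (Fin n → F))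
    (hR : ∀ u ∈ R, ∀ v ∈ R, QuadraticMap.polar Q u v = 0) : Submodule F (Fin n → F) where
  carrier := {v | v ∈ R ∧ Q v = 0}
  add_mem' := by
    rintro a b ⟨ha, ha'⟩ ⟨hb, hb'⟩
    exact ⟨R.add_mem ha hb, by rw [qred_add Q, ha', hb', hR a ha b hb]; ring⟩
  zero_mem' := ⟨R.zero_mem, by
    have := hQ.smul 0 0
    rwa [zero_smul, zero_pow (by norm_num), zero_mul] at this⟩
  smul_mem' := by
    rintro c a ⟨ha, ha'⟩
    exact ⟨R.smul_mem c ha, by rw [hQ.smul, ha', mul_zero]⟩

/-- the three outcomes for an invariant proper non-zero subspace -/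
theorem quad_red_of_invariant (Q : (Fin n → F) → F) (hQ : IsNondegenerateQuadraticForm Q)
    {H : Subgroup (GL (Fin n) F)} (hfix : ∀ h ∈ H, ∀ v, Q ((h : Matrix (Fin n) (Fin n) F) *ᵥ v) = Q v)
    (W : Submodule F (Fin n → F)) (hW0 : W ≠ ⊥) (hW1 : W ≠ ⊤)
    (hW : ∀ h ∈ H, ∀ v ∈ W, (h : Matrix (Fin n) (Fin n) F) *ᵥ v ∈ W) :
    (∃ W' : Submodule F (Fin n → F), W' ≠ ⊥ ∧ IsTotallySingularQuad Q W' ∧ H ≤ subspaceStabilizer W') ∨
    (∃ W' : Submodule F (Fin n → F), W' ≠ ⊥ ∧ W' ≠ ⊤ ∧ IsNondegenerateOn (QuadraticMap.polar Q) W' ∧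
      H ≤ subspaceStabilizer W') ∨
    ((2 : F) = 0 ∧ ∃ v : Fin n → F, Q v ≠ 0 ∧ (∀ h ∈ H, (h : Matrix (Fin n) (Fin n) F) *ᵥ v = v) ∧
      H ≤ subspaceStabilizer (Submodule.span F {v})) := by
  classical
  set R := qredRad Q hQ W with hRdef
  have hinvmul : ∀ h ∈ H, ∀ w : Fin n → F,
      (h : Matrix (Fin n) (Fin n) F) *ᵥ (((h⁻¹ : GL (Fin n) F) : Matrix (Fin n) (Fin n) F) *ᵥ w) = w := by
    intro h _ w
    rw [Matrix.mulVec_mulVec, ← Units.val_mul, mul_inv_cancel, Units.val_one, Matrix.one_mulVec]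
  have hRinv : ∀ h ∈ H, ∀ v ∈ R, (h : Matrix (Fin n) (Fin n) F) *ᵥ v ∈ R := by
    intro h hh v hv
    refine ⟨hW h hh v hv.1, fun w hw => ?_⟩
    have h1 := hW h⁻¹ (H.inv_mem hh) w hw
    rw [← hinvmul h hh w, qred_polar_inv _ (hfix h hh)]
    exact hv.2 _ h1
  by_cases hR0 : R = ⊥
  · -- `W` is non-degenerate
    right; left
    refine ⟨W, hW0, hW1, ?_, qred_stab_of_maps H W hW⟩
    intro w hw hw0
    have hnot : w ∉ R := by
      intro h
      rw [hR0, Submodule.mem_bot] at h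
      exact hw0 h
    have : ∃ x ∈ W, QuadraticMap.polar Q w x ≠ 0 := by
      by_contra hcon
      push Not at hcon
      exact hnot ⟨hw, hcon⟩
    obtain ⟨x, hx, hxw⟩ := this
    exact ⟨⟨x, hx, by rwa [QuadraticMap.polar_comm]⟩, ⟨x, hx, hxw⟩⟩
  · have hRiso : ∀ u ∈ R, ∀ v ∈ R, QuadraticMap.polar Q u v = 0 := fun u hu v hv => hu.2 v hv.1
    by_cases h2 : (2 : F) = 0
    swap
    · -- odd characteristic: `R` is totally singular
      left
      refine ⟨R, hR0, ?_, qred_stab_of_maps H R hRinv⟩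
      intro v hv
      have := qred_polar_self hQ v
      rw [hRiso v hv v hv] at this
      exact (mul_eq_zero.1 this.symm).resolve_left h2
    · set R0 := qredSing Q hQ R hRiso with hR0def
      have hR0inv : ∀ h ∈ H, ∀ v ∈ R0, (h : Matrix (Fin n) (Fin n) F) *ᵥ v ∈ R0 := by
        intro h hh v hv
        exact ⟨hRinv h hh v hv.1, by rw [hfix h hh]; exact hv.2⟩
      by_cases hR00 : R0 = ⊥
      swap
      · left
        exact ⟨R0, hR00, fun v hv => hv.2, qred_stab_of_maps H R0 hR0inv⟩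
      · right; right
        obtain ⟨v, hvR, hv0⟩ := Submodule.exists_mem_ne_zero_of_ne_bot hR0
        have hQv : Q v ≠ 0 := by
          intro h
          have : v ∈ R0 := ⟨hvR, h⟩
          rw [hR00, Submodule.mem_bot] at this
          exact hv0 this
        have hfixv : ∀ h ∈ H, (h : Matrix (Fin n) (Fin n) F) *ᵥ v = v := by
          intro h hh
          have h1 : (h : Matrix (Fin n) (Fin n) F) *ᵥ v ∈ R := hRinv h hh v hvR
          have h3 : (h : Matrix (Fin n) (Fin n) F) *ᵥ v + (-1 : F) • v ∈ R0 := by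
            refine ⟨R.add_mem h1 (R.smul_mem _ hvR), ?_⟩
            rw [qred_add Q, hfix h hh, hQ.smul, hRiso _ h1 _ (R.smul_mem _ hvR)]
            have : Q v + (-1 : F) ^ 2 * Q v + 0 = 2 * Q v := by ring
            rw [this, h2, zero_mul]
          rw [hR00, Submodule.mem_bot] at h3
          have : (h : Matrix (Fin n) (Fin n) F) *ᵥ v = - ((-1 : F) • v) := eq_neg_of_add_eq_zero_left h3
          rw [this, neg_smul, one_smul, neg_neg]
        refine ⟨h2, v, hQv, hfixv, ?_⟩
        apply qred_stab_of_maps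
        intro h hh u hu
        rw [Submodule.mem_span_singleton] at hu ⊢
        obtain ⟨c, rfl⟩ := hu
        exact ⟨c, by rw [Matrix.mulVec_smul, hfixv h hh]⟩

/-- the reducible case for a group of isometries of a quadratic form -/
theorem quad_red_cases (Q : (Fin n → F) → F) (hQ : IsNondegenerateQuadraticForm Q)
    {H : Subgroup (GL (Fin n) F)} (hfix : FixesQuadForm (matrixSet H) Q) (hH : ¬ Irr H) :
    (∃ W' : Submodule F (Fin n → F), W' ≠ ⊥ ∧ IsTotallySingularQuad Q W' ∧ H ≤ subspaceStabilizer W') ∨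
    (∃ W' : Submodule F (Fin n → F), W' ≠ ⊥ ∧ W' ≠ ⊤ ∧ IsNondegenerateOn (QuadraticMap.polar Q) W' ∧
      H ≤ subspaceStabilizer W') ∨
    ((2 : F) = 0 ∧ ∃ v : Fin n → F, Q v ≠ 0 ∧ (∀ h ∈ H, (h : Matrix (Fin n) (Fin n) F) *ᵥ v = v) ∧
      H ≤ subspaceStabilizer (Submodule.span F {v})) := by
  classical
  have hfix' : ∀ h ∈ H, ∀ v, Q ((h : Matrix (Fin n) (Fin n) F) *ᵥ v) = Q v :=
    fun h hh v => hfix _ ⟨h, hh, rfl⟩ v
  unfold Irr ActsIrreducibly at hH
  push Not at hH
  obtain ⟨W, hWinv, hW0, hW1⟩ := hH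
  refine quad_red_of_invariant Q hQ hfix' W hW0 hW1 ?_
  intro h hh v hv
  have := hWinv _ ⟨h, hh, rfl⟩
  apply this
  exact ⟨v, hv, by rw [Matrix.toLin'_apply]⟩

end Cfsg.Agent.Lib.Helper18.QRed
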