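import Mathlib
import Cfsg.Agent.Lib.Helper28.BP2.Defs

/-! # BP2 row C4 (verbatim): `card_R_ge` -/

set_option autoImplicit false

namespace Cfsg.Agent.Lib.Helper28.BP2

open Cfsg.Agent.Lib.helper14

universe u v w

section StepC

variable {F : Type u} [Field F] [Fintype F]

theorem bp2c4_two_ne_zero (hodd : Odd (Fintype.card F)) : (2 : F) ≠ 0 := by
  apply Ring.two_ne_zero
  intro h
  have := (FiniteField.even_card_iff_char_two (F := F)).mp h
  rcases hodd with ⟨k, hk⟩
  omega

omit [Fintype F] in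
/-- the fibres of `m ↦ ((1 - m²)/(1 + m²))²` -/
theorem bp2c4_fibre (h2 : (2 : F) ≠ 0) (m m₀ : F) (hm : 1 + m ^ 2 ≠ 0) (hm₀ : 1 + m₀ ^ 2 ≠ 0)
    (_hm0 : m₀ ≠ 0)
    (h : ((1 - m ^ 2) / (1 + m ^ 2)) ^ 2 = ((1 - m₀ ^ 2) / (1 + m₀ ^ 2)) ^ 2) :
    m = m₀ ∨ m = -m₀ ∨ m = m₀⁻¹ ∨ m = -m₀⁻¹ := by
  rcases sq_eq_sq_iff_eq_or_eq_neg.mp h with h1 | h1
  · rw [div_eq_div_iff hm hm₀] at h1
    have h3 : m ^ 2 = m₀ ^ 2 := by
      apply mul_left_cancel₀ h2
      linear_combination (-1) * h1
    rcases sq_eq_sq_iff_eq_or_eq_neg.mp h3 with h4 | h4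
    · exact Or.inl h4
    · exact Or.inr (Or.inl h4)
  · rw [← neg_div, div_eq_div_iff hm hm₀] at h1
    have h3 : (m * m₀) ^ 2 = 1 ^ 2 := by
      rw [one_pow]
      apply mul_left_cancel₀ h2
      linear_combination (-1) * h1
    rcases sq_eq_sq_iff_eq_or_eq_neg.mp h3 with h4 | h4
    · right; right; left
      exact eq_inv_of_mul_eq_one_left h4
    · right; right; right
      have h5 : m * (-m₀) = 1 := by rw [mul_neg, h4, neg_neg]
      rw [eq_inv_of_mul_eq_one_left h5, inv_neg]

/-- **C4** -/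
theorem card_R_ge (hodd : Odd (Fintype.card F)) :
    Fintype.card F ≤
      4 * Nat.card {ρ : F // IsSquare ρ ∧ ρ ≠ 0 ∧ IsSquare (1 - ρ) ∧ 1 - ρ ≠ 0} + 5 := by
  classical
  have h2 := bp2c4_two_ne_zero hodd
  set P : F → Prop := fun m => m ≠ 0 ∧ m ^ 2 ≠ 1 ∧ m ^ 2 ≠ -1 with hP
  set f : F → F := fun m => ((1 - m ^ 2) / (1 + m ^ 2)) ^ 2 with hf
  set M : Finset F := Finset.univ.filter P with hM
  set R : Finset F := Finset.univ.filter
    (fun ρ : F => IsSquare ρ ∧ ρ ≠ 0 ∧ IsSquare (1 - ρ) ∧ 1 - ρ ≠ 0) with hR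
  have hRcard : Nat.card {ρ : F // IsSquare ρ ∧ ρ ≠ 0 ∧ IsSquare (1 - ρ) ∧ 1 - ρ ≠ 0} = R.card := by
    rw [Nat.card_eq_fintype_card, Fintype.card_subtype]
  rw [hRcard]
  -- the bad set has at most 5 elements
  have hbad : (Finset.univ.filter (fun m : F => ¬ P m)).card ≤ 5 := by
    set pol : Polynomial F := Polynomial.X ^ 5 - Polynomial.X with hpol
    have hdeg : pol.natDegree = 5 := by
      rw [hpol, Polynomial.natDegree_sub_eq_left_of_natDegree_lt]
      · exact Polynomial.natDegree_X_pow 5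
      · rw [Polynomial.natDegree_X_pow, Polynomial.natDegree_X]; norm_num
    have hne : pol ≠ 0 := by
      intro h0
      rw [h0, Polynomial.natDegree_zero] at hdeg
      omega
    have hsub : Finset.univ.filter (fun m : F => ¬ P m) ⊆ pol.roots.toFinset := by
      intro m hm
      rw [Finset.mem_filter] at hm
      rw [Multiset.mem_toFinset, Polynomial.mem_roots hne, Polynomial.IsRoot, hpol]
      simp only [Polynomial.eval_sub, Polynomial.eval_pow, Polynomial.eval_X]
      have hm' := hm.2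
      simp only [hP, not_and_or, not_not] at hm'
      rcases hm' with h | h | h
      · rw [h]; ring
      · have : m ^ 5 - m = m * ((m ^ 2) ^ 2 - 1) := by ring
        rw [this, h]; ring
      · have : m ^ 5 - m = m * ((m ^ 2) ^ 2 - 1) := by ring
        rw [this, h]; ring
    calc (Finset.univ.filter (fun m : F => ¬ P m)).card ≤ pol.roots.toFinset.card :=
          Finset.card_le_card hsub
      _ ≤ pol.roots.card := Multiset.toFinset_card_le _
      _ ≤ pol.natDegree := Polynomial.card_roots' _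
      _ = 5 := hdeg
  have hsplit : M.card + (Finset.univ.filter (fun m : F => ¬ P m)).card = Fintype.card F := by
    rw [hM, Finset.card_filter_add_card_filter_not, Finset.card_univ]
  -- denominators
  have hden : ∀ m ∈ M, 1 + m ^ 2 ≠ 0 := by
    intro m hm h
    have hm' := (Finset.mem_filter.mp hm).2
    exact hm'.2.2 (by linear_combination h)
  -- image in R
  have himg : M.image f ⊆ R := by
    intro ρ hρ
    obtain ⟨m, hm, rfl⟩ := Finset.mem_image.mp hρ
    have hm' := (Finset.mem_filter.mp hm).2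
    have hd := hden m hm
    rw [hR, Finset.mem_filter]
    refine ⟨Finset.mem_univ _, ⟨(1 - m ^ 2) / (1 + m ^ 2), by rw [hf]; ring⟩, ?_, ?_, ?_⟩
    · rw [hf]
      apply pow_ne_zero
      apply div_ne_zero _ hd
      intro h
      exact hm'.2.1 (by linear_combination (-1) * h)
    · refine ⟨2 * m / (1 + m ^ 2), ?_⟩
      rw [hf]
      field_simp
      ring
    · have : 1 - f m = (2 * m / (1 + m ^ 2)) ^ 2 := by
        rw [hf]
        field_simp
        ring
      rw [this]
      apply pow_ne_zero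
      exact div_ne_zero (mul_ne_zero h2 hm'.1) hd
  -- fibres
  have hfib : ∀ a ∈ M.image f, (M.filter (fun m => f m = a)).card ≤ 4 := by
    intro a ha
    obtain ⟨m₀, hm₀, rfl⟩ := Finset.mem_image.mp ha
    have hm₀' := (Finset.mem_filter.mp hm₀).2
    have hsub : M.filter (fun m => f m = f m₀) ⊆ {m₀, -m₀, m₀⁻¹, -m₀⁻¹} := by
      intro m hm
      rw [Finset.mem_filter] at hm
      have := bp2c4_fibre h2 m m₀ (hden m hm.1) (hden m₀ hm₀) hm₀'.1 hm.2
      simp only [Finset.mem_insert, Finset.mem_singleton]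
      exact this
    exact (Finset.card_le_card hsub).trans Finset.card_le_four
  have h1 := Finset.card_le_mul_card_image M 4 hfib
  have h3 := Finset.card_le_card himg
  omega

end StepC

end Cfsg.Agent.Lib.Helper28.BP2
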