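import Mathlib
import Cfsg.Agent.Lib.Helper28.BP2.Defs
import Cfsg.Agent.Lib.Helper18.BP2C4

/-! # BP2 row C6 (verbatim): `gen_by_R` -/

set_option autoImplicit false

namespace Cfsg.Agent.Lib.Helper28.BP2

open Cfsg.Agent.Lib.helper14

universe u v w

section StepC

variable {F : Type u} [Field F] [Fintype F]

/-- own-name copy of C5: a subfield with `|K|² > |F|` is everything -/
theorem bp2c6_subfield_top (K : Subfield F) (h : Fintype.card F < Nat.card K ^ 2) : K = ⊤ := by
  classical
  haveI : Fintype K := Fintype.ofFinite K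
  have hcard : Fintype.card F = Fintype.card K ^ Module.finrank K F := Module.card_eq_pow_finrank
  rw [Nat.card_eq_fintype_card] at h
  have hK1 : 1 < Fintype.card K := Fintype.one_lt_card
  have hfr : Module.finrank K F < 2 := by
    by_contra hge'
    have hge : 2 ≤ Module.finrank K F := by omega
    have : Fintype.card K ^ 2 ≤ Fintype.card K ^ Module.finrank K F :=
      Nat.pow_le_pow_right (by omega) hge
    omega
  have hpos : 0 < Module.finrank K F := Module.finrank_pos
  have h1 : Module.finrank K F = 1 := by omega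
  rw [eq_top_iff]
  intro x _
  obtain ⟨c, hc⟩ := (finrank_eq_one_iff_of_nonzero' (1 : F) one_ne_zero).mp h1 x
  rw [← hc]
  have : c • (1 : F) = (c : F) := by
    rw [Subfield.smul_def, smul_eq_mul, mul_one]
  rw [this]
  exact c.2

/-- the multiplier ring of an additive subgroup of a finite field, as a subfield -/
def bp2c6_K (W : AddSubgroup F) : Subfield F where
  carrier := {c | ∀ w ∈ W, c * w ∈ W}
  mul_mem' := by
    intro c d hc hd w hw
    rw [mul_assoc]
    exact hc _ (hd w hw)
  one_mem' := by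
    intro w hw
    rw [one_mul]; exact hw
  add_mem' := by
    intro c d hc hd w hw
    rw [add_mul]
    exact W.add_mem (hc w hw) (hd w hw)
  zero_mem' := by
    intro w _
    rw [zero_mul]; exact W.zero_mem
  neg_mem' := by
    intro c hc w hw
    rw [neg_mul]
    exact W.neg_mem (hc w hw)
  inv_mem' := by
    intro c hc
    by_cases h0 : c = 0
    · rw [h0, inv_zero]
      intro w _
      rw [zero_mul]; exact W.zero_mem
    · have hpow : ∀ n : ℕ, ∀ w ∈ W, c ^ n * w ∈ W := by
        intro n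
        induction n with
        | zero => intro w hw; rw [pow_zero, one_mul]; exact hw
        | succ n ih =>
          intro w hw
          rw [pow_succ, mul_assoc]
          exact ih _ (hc w hw)
      have hinv : c⁻¹ = c ^ (Fintype.card F - 2) := by
        have h1 : c ^ (Fintype.card F - 1) = 1 := FiniteField.pow_card_sub_one_eq_one c h0
        have hq : 2 ≤ Fintype.card F := Fintype.one_lt_card
        have h2 : c * c ^ (Fintype.card F - 2) = 1 := by
          rw [← pow_succ', show Fintype.card F - 2 + 1 = Fintype.card F - 1 by omega, h1]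
        exact (eq_inv_of_mul_eq_one_right h2).symm
      intro w hw
      show c⁻¹ * w ∈ W
      rw [hinv]
      exact hpow _ w hw

theorem bp2c6_mem_K (W : AddSubgroup F) (c : F) : c ∈ bp2c6_K W ↔ ∀ w ∈ W, c * w ∈ W := Iff.rfl

/-- **C6** -/
theorem gen_by_R (hodd : Odd (Fintype.card F)) (h7 : 7 ≤ Fintype.card F)
    (h9 : Fintype.card F ≠ 9) (A : AddSubgroup F) (α : F) (hα : α ∈ A) (hα0 : α ≠ 0)
    (hcl : ∀ β ∈ A, (∃ μ : F, μ ≠ 0 ∧ β = μ ^ 2 * α) →
      ∀ ρ : F, IsSquare ρ → ρ ≠ 0 → IsSquare (1 - ρ) → 1 - ρ ≠ 0 → ρ * β ∈ A) : A = ⊤ := by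
  classical
  set S : Set F := {β | β ∈ A ∧ ∃ μ : F, μ ≠ 0 ∧ β = μ ^ 2 * α} with hS
  set W : AddSubgroup F := AddSubgroup.closure S with hW
  have hWA : W ≤ A := (AddSubgroup.closure_le A).mpr (fun β hβ => hβ.1)
  have hαS : α ∈ S := ⟨hα, 1, one_ne_zero, by ring⟩
  have hαW : α ∈ W := AddSubgroup.subset_closure hαS
  -- `R ⊆ K`
  have hRK : ∀ ρ : F, IsSquare ρ → ρ ≠ 0 → IsSquare (1 - ρ) → 1 - ρ ≠ 0 → ρ ∈ bp2c6_K W := by
    intro ρ h1 h2 h3 h4
    rw [bp2c6_mem_K]
    intro w hw
    induction hw using AddSubgroup.closure_induction with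
    | mem β hβ =>
      apply AddSubgroup.subset_closure
      obtain ⟨hβA, μ, hμ, rfl⟩ := hβ
      refine ⟨hcl _ hβA ⟨μ, hμ, rfl⟩ ρ h1 h2 h3 h4, ?_⟩
      obtain ⟨ν, hν⟩ := h1
      refine ⟨ν * μ, mul_ne_zero ?_ hμ, by rw [hν]; ring⟩
      rintro rfl
      apply h2
      rw [hν, mul_zero]
    | zero => rw [mul_zero]; exact W.zero_mem
    | add x y _ _ hx hy => rw [mul_add]; exact W.add_mem hx hy
    | neg x _ hx => rw [mul_neg]; exact W.neg_mem hx
  -- counting
  set Rf : Finset F := Finset.univ.filter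
    (fun ρ : F => IsSquare ρ ∧ ρ ≠ 0 ∧ IsSquare (1 - ρ) ∧ 1 - ρ ≠ 0) with hRf
  have hRcard : Nat.card {ρ : F // IsSquare ρ ∧ ρ ≠ 0 ∧ IsSquare (1 - ρ) ∧ 1 - ρ ≠ 0} = Rf.card := by
    rw [Nat.card_eq_fintype_card, Fintype.card_subtype]
  have hC4 := card_R_ge (F := F) hodd
  rw [hRcard] at hC4
  set Kf : Finset F := Finset.univ.filter (fun c : F => c ∈ bp2c6_K W) with hKf
  have hKcard : Nat.card (bp2c6_K W) = Kf.card := by
    rw [Nat.card_eq_fintype_card, hKf, ← Fintype.card_subtype]
  have h0R : (0 : F) ∉ Rf := by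
    rw [hRf, Finset.mem_filter]; rintro ⟨-, -, h, -⟩; exact h rfl
  have h1R : (1 : F) ∉ Rf := by
    rw [hRf, Finset.mem_filter]; rintro ⟨-, -, -, -, h⟩; exact h (sub_self 1)
  have hsub : insert (0 : F) (insert (1 : F) Rf) ⊆ Kf := by
    intro c hc
    rw [hKf, Finset.mem_filter]
    refine ⟨Finset.mem_univ _, ?_⟩
    rcases Finset.mem_insert.mp hc with rfl | hc
    · exact (bp2c6_K W).zero_mem
    rcases Finset.mem_insert.mp hc with rfl | hc
    · exact (bp2c6_K W).one_mem
    · rw [hRf, Finset.mem_filter] at hc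
      exact hRK c hc.2.1 hc.2.2.1 hc.2.2.2.1 hc.2.2.2.2
  have hins : (insert (0 : F) (insert (1 : F) Rf)).card = Rf.card + 2 := by
    rw [Finset.card_insert_of_notMem, Finset.card_insert_of_notMem h1R]
    rw [Finset.mem_insert]
    rintro (h | h)
    · exact zero_ne_one h
    · exact h0R h
  have hK4 : Fintype.card F + 3 ≤ 4 * Kf.card := by
    have := Finset.card_le_card hsub
    omega
  have hKsq : Fintype.card F < Nat.card (bp2c6_K W) ^ 2 := by
    rw [hKcard]
    by_cases hq7 : Fintype.card F = 7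
    · have : 3 ≤ Kf.card := by omega
      rw [hq7]
      nlinarith
    · have hq11 : 11 ≤ Fintype.card F := by
        rcases hodd with ⟨k, hk⟩
        omega
      nlinarith
  have hKtop := bp2c6_subfield_top (bp2c6_K W) hKsq
  -- `W = ⊤`
  rw [eq_top_iff]
  intro x _
  apply hWA
  have hxK : x * α⁻¹ ∈ bp2c6_K W := by rw [hKtop]; exact Subfield.mem_top _
  have := (bp2c6_mem_K W _).mp hxK α hαW
  rwa [mul_assoc, inv_mul_cancel₀ hα0, mul_one] at this

end StepC

end Cfsg.Agent.Lib.Helper28.BP2
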