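import Mathlib
import Cfsg.Agent.Lib.Helper18.BRF.Defs

/-!
# Project BRF (S4700), piece TOPARITH, core form : A1F / A2F (for `q = p - 1`, `t = 1`) as hypotheses
-/

set_option autoImplicit false
set_option linter.unusedVariables false
set_option linter.unusedSectionVars false

namespace Cfsg.Agent.Lib.Helper18.BRF

open Classical

/-- TOPARITH with the two arithmetic lemmas as hypotheses -/
theorem brftoparith_core {ι : Type*} (X : Finset ι) (triv : ι) (htriv : triv ∈ X) (a : ι → ℤ)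
    (d : ι → ℕ) (p n : ℕ) (hp : p.Prime) (hn : 1 ≤ n) (hcard : X.card = p)
    (ha : ∀ i ∈ X, a i = 1 ∨ a i = -1) (hatriv : a triv = 1) (hdtriv : d triv = 1)
    (hdvd : ∀ i ∈ X, d i ∣ (p - 1) * (1 + n * p))
    (hcong : ∀ i ∈ X, (p : ℤ) ∣ (d i : ℤ) - a i)
    (hge : ∀ i ∈ X, i ≠ triv → 2 ≤ d i)
    (hsum : ∑ i ∈ X, a i * (d i : ℤ) = 0)
    (hA1 : ∀ e : ℕ, e ∣ (p - 1) * (1 + n * p) → e % p = 1 → 2 ≤ e → e = 1 + n * p)
    (hA2 : ∀ e : ℕ, e ∣ (p - 1) * (1 + n * p) → (e + 1) % p = 0 →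
      e + 1 = p ∨ e = (p - 1) * (1 + n * p)) :
    ∃ i ∈ X, a i = -1 ∧ d i + 1 = p := by
  have hp2 : 2 ≤ p := hp.two_le
  by_contra hcon
  push Not at hcon
  set m : ℕ := 1 + n * p with hm
  have hm3 : 3 ≤ m := by
    have : 1 * 2 ≤ n * p := Nat.mul_le_mul hn hp2
    omega
  -- the values
  have hval : ∀ i ∈ X, i ≠ triv →
      (a i = 1 ∧ d i = m) ∨ (a i = -1 ∧ d i = (p - 1) * m) := by
    intro i hi hne
    rcases ha i hi with h1 | h1
    · left
      refine ⟨h1, ?_⟩
      apply hA1 (d i) (hdvd i hi) _ (hge i hi hne)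
      have h2 := hcong i hi
      rw [h1] at h2
      have h3 : (d i : ℤ) % (p : ℤ) = 1 % (p : ℤ) :=
        Int.emod_eq_emod_iff_emod_sub_eq_zero.mpr (Int.emod_eq_zero_of_dvd h2)
      have h4 : ((d i % p : ℕ) : ℤ) = ((1 % p : ℕ) : ℤ) := by
        push_cast
        exact h3
      have h5 : d i % p = 1 % p := by exact_mod_cast h4
      rw [h5, Nat.mod_eq_of_lt (by omega)]
    · right
      refine ⟨h1, ?_⟩
      have h2 := hcong i hi
      rw [h1] at h2
      have h3 : (p : ℤ) ∣ ((d i + 1 : ℕ) : ℤ) := by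
        push_cast
        have : (d i : ℤ) - -1 = (d i : ℤ) + 1 := by ring
        rwa [this] at h2
      have h4 : p ∣ d i + 1 := by exact_mod_cast h3
      rcases hA2 (d i) (hdvd i hi) (Nat.mod_eq_zero_of_dvd h4) with h5 | h5
      · exact absurd h5 (hcon i hi h1)
      · exact h5
  by_cases hneg : ∃ i ∈ X, a i = -1
  · obtain ⟨i₀, hi₀, hai₀⟩ := hneg
    have hi₀t : i₀ ≠ triv := by
      intro h
      rw [h, hatriv] at hai₀
      norm_num at hai₀
    have hdi₀ : d i₀ = (p - 1) * m := by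
      rcases hval i₀ hi₀ hi₀t with h | h
      · rw [h.1] at hai₀
        norm_num at hai₀
      · exact h.2
    have hmem : i₀ ∈ X.erase triv := Finset.mem_erase.mpr ⟨hi₀t, hi₀⟩
    have hsplit : ∑ i ∈ X, a i * (d i : ℤ) =
        a triv * (d triv : ℤ) + (a i₀ * (d i₀ : ℤ) +
          ∑ i ∈ (X.erase triv).erase i₀, a i * (d i : ℤ)) := by
      rw [← Finset.add_sum_erase X _ htriv, ← Finset.add_sum_erase (X.erase triv) _ hmem]
    have hothers : ∑ i ∈ (X.erase triv).erase i₀, a i * (d i : ℤ) ≤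
        (((X.erase triv).erase i₀).card : ℤ) * (m : ℤ) := by
      rw [← nsmul_eq_mul]
      apply Finset.sum_le_card_nsmul
      intro i hi
      have hi1 : i ∈ X.erase triv := Finset.mem_of_mem_erase hi
      have hiX : i ∈ X := Finset.mem_of_mem_erase hi1
      have hit : i ≠ triv := (Finset.mem_erase.mp hi1).1
      rcases hval i hiX hit with h | h
      · rw [h.1, h.2]
        simp
      · rw [h.1, h.2]
        have : (0 : ℤ) ≤ (((p - 1) * m : ℕ) : ℤ) := Int.natCast_nonneg _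
        have hm0 : (0 : ℤ) ≤ (m : ℤ) := Int.natCast_nonneg _
        linarith
    have hcardo : ((X.erase triv).erase i₀).card = p - 2 := by
      rw [Finset.card_erase_of_mem hmem, Finset.card_erase_of_mem htriv, hcard]
      omega
    rw [hsplit, hatriv, hdtriv, hai₀, hdi₀] at hsum
    have h1 : (((p - 1) * m : ℕ) : ℤ) = ((p : ℤ) - 1) * (m : ℤ) := by
      rw [Nat.cast_mul, Nat.cast_sub (by omega)]
      simp
    have h2 : ((p - 2 : ℕ) : ℤ) = (p : ℤ) - 2 := by
      rw [Nat.cast_sub hp2]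
      simp
    rw [hcardo, h2] at hothers
    rw [h1] at hsum
    have hm3' : (3 : ℤ) ≤ (m : ℤ) := by exact_mod_cast hm3
    push_cast at hsum
    nlinarith
  · push Not at hneg
    have hpos : ∀ i ∈ X, 1 ≤ a i * (d i : ℤ) := by
      intro i hi
      have h1 : a i = 1 := by
        rcases ha i hi with h | h
        · exact h
        · exact absurd h (hneg i hi)
      rw [h1, one_mul]
      by_cases hit : i = triv
      · rw [hit, hdtriv]
        simp
      · have := hge i hi hit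
        have : (2 : ℤ) ≤ (d i : ℤ) := by exact_mod_cast this
        linarith
    have h1 : (X.card : ℤ) ≤ ∑ i ∈ X, a i * (d i : ℤ) := by
      calc (X.card : ℤ) = ∑ i ∈ X, (1 : ℤ) := by simp
        _ ≤ ∑ i ∈ X, a i * (d i : ℤ) := Finset.sum_le_sum hpos
    rw [hsum, hcard] at h1
    have : (2 : ℤ) ≤ (p : ℤ) := by exact_mod_cast hp2
    linarith

end Cfsg.Agent.Lib.Helper18.BRF
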