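import Mathlib
import Cfsg.Agent.Lib.helper7.BR.Defs
import Cfsg.Agent.Lib.Helper18.BRF.Defs
import Cfsg.Agent.Lib.helper7.BD.Char
import Cfsg.Agent.Lib.helper2.BDCASETOP
import Cfsg.Agent.Lib.helper2.PModular2

/-!
# Project BRF (S4700), piece TOPV : the principal block in the case `|N_G(P) : C_G(P)| = p - 1` (`top_data`)
-/

set_option autoImplicit false
set_option linter.unusedVariables false
set_option linter.unusedSectionVars false
set_option linter.style.haveILetI false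

namespace Cfsg.Agent.Lib.Helper18.BRF

open Classical
open Cfsg.Agent.Lib.Helper25
open Cfsg.Agent.Lib.helper7.BR
open scoped ComplexConjugate

universe u

section main

variable {G : Type u} [Group G] [Fintype G] {p : ℕ} [Fact p.Prime]

/-- TOPV : the principal block in the case `|N_G(P) : C_G(P)| = p - 1`: `p` characters with a sign `a = ± 1`,
constant value `a` on the `x y`, and `∑ a χ(1) = 0`. -/
theorem top_data (hodd : p ≠ 2) (P : Sylow p G) (hP : Nat.card ↥(P : Subgroup G) = p)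
    (hrel : (cen P).relIndex (nrm P) = p - 1) :
    ∃ (B : Finset (Cfsg.IrrCharacter G)) (a : Cfsg.IrrCharacter G → ℤ),
      B.card = p ∧ trivIrr G ∈ B ∧
      (∀ χ ∈ B, (a χ = 1 ∨ a χ = -1) ∧
        ∀ x ∈ (P : Subgroup G), x ≠ 1 → ∀ y ∈ cen P, ¬ p ∣ orderOf y →
          (χ : G → ℂ) (x * y) = (a χ : ℂ)) ∧
      ∑ χ ∈ B, (a χ : ℂ) * (χ : G → ℂ) 1 = 0 := by
  have hp := (Fact.out : p.Prime)
  have hp2 : 2 ≤ p := hp.two_le
  have hp1 : 0 < p - 1 := by omega
  haveI : Fintype (Cfsg.IrrCharacter G) := Fintype.ofFinite _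
  obtain ⟨M, hM⟩ := Cfsg.Agent.Lib.helper2.exists_isPModular p hp
  have he : (Subgroup.centralizer ((P : Subgroup G) : Set G)).relIndex
      (Subgroup.normalizer ((P : Subgroup G) : Set G)) = p - 1 := hrel
  have hAF := Cfsg.Agent.Lib.helper7.BD.h2_afsetup p P hP
  -- the number of characters of the principal block
  have hrank := Cfsg.Agent.Lib.helper7.BD.principal_blockRank_ge p M hM P hP
  have hcardB := Cfsg.Agent.Lib.helper7.BD.card_principal_eq p M hM P hP
  rw [he] at hrank hcardB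
  have hk : p ≤ Nat.card (Cfsg.principalBlock M G) := by
    rw [hcardB, Nat.div_self hp1]
    omega
  -- the integer values
  choose a ha hadeg using fun χ : Cfsg.IrrCharacter G =>
    Cfsg.Agent.Lib.helper7.BD.h2_exists_int_value p P hP he χ
  -- the principal block as a finset
  set Bf : Finset (Cfsg.IrrCharacter G) :=
    Finset.univ.filter (fun χ => χ ∈ Cfsg.principalBlock M G) with hBfdef
  have hBf : ∀ χ, χ ∈ Bf ↔ χ ∈ Cfsg.principalBlock M G := by
    intro χ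
    simp [hBfdef]
  have hBfcard : Nat.card (Cfsg.principalBlock M G) = Bf.card := by
    rw [Nat.card_eq_fintype_card, Fintype.card_subtype]
  -- a nontrivial element of P
  obtain ⟨y₀', hy₀'⟩ := exists_prime_orderOf_dvd_card' (G := (P : Subgroup G)) p (by rw [hP])
  have hy₀ : (y₀' : G) ∈ (P : Subgroup G) := y₀'.2
  have hy₀1 : (y₀' : G) ≠ 1 := by
    intro h
    have : y₀' = 1 := Subtype.ext h
    rw [this, orderOf_one] at hy₀'
    omega
  set y₀ : G := (y₀' : G) with hy₀def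
  -- a χ ≠ 0 on the block
  have hane : ∀ χ ∈ Bf, a χ ≠ 0 := by
    intro χ hχ h0
    have := Cfsg.Agent.Lib.Helper29.af_bt5 hM Bf hBf hAF y₀ hy₀ χ hχ
    rw [ha χ y₀ hy₀ hy₀1, h0] at this
    simp at this
  -- sum of squares
  have hsq : ∑ χ ∈ Bf, (a χ) ^ 2 = (p : ℤ) := by
    have h3 := Cfsg.Agent.Lib.Helper29.af_bt3 hM Bf hBf hAF y₀ hy₀ hy₀1
    rw [hP] at h3
    have h4 : ∀ χ ∈ Bf, (χ : G → ℂ) y₀ * conj ((χ : G → ℂ) y₀) = (((a χ) ^ 2 : ℤ) : ℂ) := by
      intro χ _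
      rw [ha χ y₀ hy₀ hy₀1, map_intCast (starRingEnd ℂ)]
      push_cast
      ring
    rw [Finset.sum_congr rfl h4, ← Int.cast_sum] at h3
    exact_mod_cast h3
  have hge1 : ∀ χ ∈ Bf, 1 ≤ (a χ) ^ 2 := by
    intro χ hχ
    have := hane χ hχ
    have h0 : 0 < (a χ) ^ 2 := by positivity
    omega
  have hcardle : (Bf.card : ℤ) ≤ p := by
    calc (Bf.card : ℤ) = ∑ χ ∈ Bf, (1 : ℤ) := by simp
      _ ≤ ∑ χ ∈ Bf, (a χ) ^ 2 := Finset.sum_le_sum hge1
      _ = p := hsq
  have hcard : Bf.card = p := by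
    have h1 : p ≤ Bf.card := by rw [← hBfcard]; exact hk
    have h2 : Bf.card ≤ p := by exact_mod_cast hcardle
    omega
  have hsq1 : ∀ χ ∈ Bf, (a χ) ^ 2 = 1 := by
    have hsum0 : ∑ χ ∈ Bf, ((a χ) ^ 2 - 1) = 0 := by
      rw [Finset.sum_sub_distrib, hsq]
      simp [hcard]
    have hnn : ∀ χ ∈ Bf, 0 ≤ (a χ) ^ 2 - 1 := fun χ hχ => by have := hge1 χ hχ; omega
    intro χ hχ
    have := (Finset.sum_eq_zero_iff_of_nonneg hnn).mp hsum0 χ hχ
    omega
  have hpm : ∀ χ ∈ Bf, a χ = 1 ∨ a χ = -1 := by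
    intro χ hχ
    have h1 := hsq1 χ hχ
    have h2 : (a χ - 1) * (a χ + 1) = 0 := by ring_nf; linarith
    rcases mul_eq_zero.mp h2 with h | h
    · left; omega
    · right; omega
  -- the trivial character
  have hτB : trivIrr G ∈ Cfsg.principalBlock M G :=
    Cfsg.Agent.Lib.helper7.h7_sameBlock_refl hM.2.1.isPrime _
  have hτBf : trivIrr G ∈ Bf := (hBf _).mpr hτB
  refine ⟨Bf, a, hcard, hτBf, ?_, ?_⟩
  · intro χ hχBf
    refine ⟨hpm χ hχBf, ?_⟩
    intro x hx hx1 y hy hyreg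
    have hcomm : x * y = y * x := Subgroup.mem_centralizer_iff.mp hy x hx
    have hpp : Cfsg.IsPPart p (x * y) x :=
      ⟨y, rfl, hcomm, ⟨1, by
        rw [pow_one]
        exact Cfsg.Agent.Lib.helper7.BD.h2_orderOf_of_card_prime p (P : Subgroup G) hP x hx hx1⟩,
        hyreg⟩
    rw [Cfsg.Agent.Lib.Helper29.af_bt4 hM Bf hBf hAF (x * y) x hpp hx hx1 χ hχBf]
    exact ha χ x hx hx1
  · -- the relation at `g = 1`
    have h1 := Cfsg.Agent.Lib.Helper29.af_bt1 hM Bf hBf (1 : G) y₀ (by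
      rw [orderOf_one]
      exact fun h => by have := Nat.le_of_dvd one_pos h; omega) hy₀ hy₀1
    have h2 : ∀ χ ∈ Bf, (χ : G → ℂ) 1 * conj ((χ : G → ℂ) y₀) = (a χ : ℂ) * (χ : G → ℂ) 1 := by
      intro χ _
      rw [ha χ y₀ hy₀ hy₀1, map_intCast (starRingEnd ℂ), mul_comm]
    rw [Finset.sum_congr rfl h2] at h1
    exact h1

end main

end Cfsg.Agent.Lib.Helper18.BRF
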