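import Mathlib
import Cfsg.Agent.Lib.helper7.BR.Defs
import Cfsg.Agent.Lib.helper7.BR.FRONT
import Cfsg.Agent.Lib.Helper18.BRF.Defs
import Cfsg.Agent.Lib.Helper18.BRFTOPV
import Cfsg.Agent.Lib.Helper18.BRFTOPARITHcore

/-!
# Project BRF (S4700), piece TOPNEG, core form : A1F / A2F (for `q = p - 1`) as hypotheses
-/

set_option autoImplicit false
set_option linter.unusedVariables false
set_option linter.unusedSectionVars false
set_option linter.style.haveILetI false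

namespace Cfsg.Agent.Lib.Helper18.BRF

open Classical
open Cfsg.Agent.Lib.Helper25 Cfsg.Agent.Lib.helper2
open Cfsg.Agent.Lib.helper7.BR

universe u

section main

variable {G : Type u} [Group G] [Fintype G] {p : ℕ} [Fact p.Prime]

/-- TOPNEG with the two arithmetic lemmas as hypotheses -/
theorem brftopneg_core (hperf : commutator G = ⊤) (P : Sylow p G)
    (hP : Nat.card ↥(P : Subgroup G) = p) (n : ℕ) (hrel : (cen P).relIndex (nrm P) = p - 1)
    (hcidx : (cen P).index = (p - 1) * (1 + n * p)) (hn : 1 ≤ n)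
    (hA1 : ∀ e : ℕ, e ∣ (p - 1) * (1 + n * p) → e % p = 1 → 2 ≤ e → e = 1 + n * p)
    (hA2 : ∀ e : ℕ, e ∣ (p - 1) * (1 + n * p) → (e + 1) % p = 0 →
      e + 1 = p ∨ e = (p - 1) * (1 + n * p)) :
    ∃ χ : Cfsg.IrrCharacter G, (χ : G → ℂ) 1 = (p : ℂ) - 1 ∧
      ∀ x ∈ (P : Subgroup G), x ≠ 1 → ∀ y ∈ cen P, ¬ p ∣ orderOf y → (χ : G → ℂ) (x * y) = -1 := by
  have hpp := (Fact.out : p.Prime)
  have hp2 := hpp.two_le
  have hodd : p ≠ 2 := by
    intro h2
    have := relIndex_ne_one hperf P hP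
    rw [hrel, h2] at this
    exact this rfl
  obtain ⟨B, a, hBcard, htrivB, hB, hsum⟩ := top_data hodd P hP hrel
  obtain ⟨x₀, hx₀, hx₀1⟩ := brfront_exists P hP
  have h1reg : ¬ p ∣ orderOf (1 : G) := by
    rw [orderOf_one]
    exact fun h => by have := Nat.le_of_dvd one_pos h; omega
  have hBval : ∀ χ ∈ B, ∀ x ∈ (P : Subgroup G), x ≠ 1 → (χ : G → ℂ) x = (a χ : ℂ) := by
    intro χ hχ x hx hx1
    have := (hB χ hχ).2 x hx hx1 1 (Subgroup.one_mem _) h1reg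
    rwa [mul_one] at this
  have hatriv : a (trivIrr G) = 1 := by
    have := hBval (trivIrr G) htrivB x₀ hx₀ hx₀1
    rw [trivIrr_apply] at this
    have h' : ((1 : ℤ) : ℂ) = ((a (trivIrr G) : ℤ) : ℂ) := by rw [← this]; simp
    exact_mod_cast h'.symm
  have hdtriv : brfrontDeg (trivIrr G) = 1 := by
    have := (brfrontDeg_spec (trivIrr G)).2
    rw [trivIrr_apply] at this
    exact_mod_cast this.symm
  have hdvdB : ∀ χ ∈ B, brfrontDeg χ ∣ (p - 1) * (1 + n * p) := by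
    intro χ hχ
    rw [← hcidx]
    exact deg_dvd_of_pm_one P hP χ (a χ) (hB χ hχ).1 x₀ hx₀ hx₀1 (hBval χ hχ x₀ hx₀ hx₀1) _
      (brfrontDeg_spec χ).2
  have hcongB : ∀ χ ∈ B, (p : ℤ) ∣ (brfrontDeg χ : ℤ) - a χ := by
    intro χ hχ
    exact deg_congr_of_const P hP (χ : G → ℂ) (isCharacter_of_irr χ) (a χ) (hBval χ hχ) _
      (brfrontDeg_spec χ).2
  have hgeB : ∀ χ ∈ B, χ ≠ trivIrr G → 2 ≤ brfrontDeg χ := by
    intro χ hχ hne
    obtain ⟨d, hd2, hd⟩ := deg_ge_two hperf χ hne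
    have := (brfrontDeg_spec χ).2
    rw [hd] at this
    have : d = brfrontDeg χ := by exact_mod_cast this
    omega
  have hsumZ : ∑ χ ∈ B, a χ * (brfrontDeg χ : ℤ) = 0 := by
    have h2 : ∑ χ ∈ B, (a χ : ℂ) * (χ : G → ℂ) 1 =
        ((∑ χ ∈ B, a χ * (brfrontDeg χ : ℤ) : ℤ) : ℂ) := by
      push_cast
      refine Finset.sum_congr rfl fun χ _ => ?_
      rw [(brfrontDeg_spec χ).2]
    rw [h2] at hsum
    exact_mod_cast hsum
  obtain ⟨χ, hχB, haχ, hdχ⟩ := brftoparith_core B (trivIrr G) htrivB a brfrontDeg p n hpp hn hBcard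
    (fun χ hχ => (hB χ hχ).1) hatriv hdtriv hdvdB hcongB hgeB hsumZ hA1 hA2
  refine ⟨χ, ?_, ?_⟩
  · rw [(brfrontDeg_spec χ).2]
    have : ((brfrontDeg χ + 1 : ℕ) : ℂ) = (p : ℂ) := by rw [hdχ]
    push_cast at this
    linear_combination this
  · intro x hx hx1 y hy hyreg
    rw [(hB χ hχB).2 x hx hx1 y hy hyreg, haχ]
    simp

end main

end Cfsg.Agent.Lib.Helper18.BRF
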