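import Mathlib
import Cfsg.Agent.Lib.Helper18.GBT.Defs
import Cfsg.Agent.Lib.helper23.PRLCH1
import Cfsg.Agent.Lib.helper23.PRLCH3
import Cfsg.Agent.Lib.Helper25.PRLGEN

/-!
# GBT piece CHAIN: `ch_mem`, `ch_notMem`
-/

set_option autoImplicit false

namespace Cfsg.Agent.Lib.Helper18.GBT

open Cfsg.Agent.Lib.Helper18.PRL
open scoped commutatorElement

universe u

section mc
variable {p : ℕ} [Fact p.Prime] {G : Type u} [Group G] [Finite G] {n : ℕ}
variable {L : ℕ} {H : Subgroup G} {s s1 : G}

/-- GBT-CHAIN -/
theorem ch_mem (S : Setting p G n L H s s1) (hn : 4 ≤ n) (i : ℕ) (hi : 2 ≤ i) :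
    ch s s1 i ∈ Z G (n - i) := by
  induction i, hi using Nat.le_induction with
  | base =>
    rw [ch_succ s s1 1 le_rfl, ← commutator_eq_Z S.mc (by omega)]
    exact Subgroup.commutator_mem_commutator (Subgroup.mem_top _) (Subgroup.mem_top _)
  | succ i hi ih =>
    rw [ch_succ s s1 i (by omega)]
    rcases Nat.lt_or_ge i n with hlt | hge
    · have e : n - i = (n - (i + 1)) + 1 := by omega
      rw [e] at ih
      have h1 := (Subgroup.mem_upperCentralSeries_succ_iff.1 ih) s
      have h2 := inv_mem h1
      rwa [commutatorElement_inv] at h2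
    · have e : n - i = 0 := by omega
      rw [e] at ih
      have h0 : ch s s1 i = 1 := by
        have : ch s s1 i ∈ (⊥ : Subgroup G) := by
          rw [← Subgroup.upperCentralSeries_zero G]; exact ih
        exact Subgroup.mem_bot.1 this
      rw [h0, commutatorElement_one_right]
      exact one_mem _

/-- GBT-CHAIN (second half) -/
theorem ch_notMem (S : Setting p G n L H s s1) (hn : 4 ≤ n) (i : ℕ) (hi : 1 ≤ i)
    (hi' : i ≤ n - 1) : ch s s1 i ∉ Z G (n - i - 1) := by
  induction i, hi using Nat.le_induction with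
  | base =>
    rw [ch_one]
    have e : n - 1 - 1 = n - 2 := by omega
    rw [e, ← commutator_eq_Z S.mc (by omega)]
    exact S.hs1'
  | succ i hi ih =>
    rw [ch_succ s s1 i hi]
    rcases Nat.eq_or_lt_of_le hi with h1 | h1
    · subst h1
      rw [ch_one]
      have e : n - (1 + 1) - 1 = n - 3 := by omega
      rw [e]
      exact comm_notMem S.mc (by omega) H S.idx s s1 S.hsH S.hs1 S.hs1'
    · have hmem := ch_mem S hn i (by omega)
      have hnot := ih (by omega)
      have hU := S.unif (n - i) (by omega) (by omega) (ch s s1 i) hmem hnot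
      have e : n - (i + 1) - 1 = n - i - 2 := by omega
      rw [e]
      intro hc
      apply hU
      have h2 := inv_mem hc
      rwa [commutatorElement_inv] at h2

end mc

end Cfsg.Agent.Lib.Helper18.GBT
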