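import Mathlib
import Cfsg.Agent.Lib.Helper18.GBT.Defs
import Cfsg.Agent.Lib.helper23.PRLCH1
import Cfsg.Agent.Lib.helper23.PRLCH2
import Cfsg.Agent.Lib.helper23.PRLCH3
import Cfsg.Agent.Lib.helper23.PRLCH5
import Cfsg.Agent.Lib.Helper25.PRLGEN
import Cfsg.Agent.Lib.Helper19.MCPCOMM
import Cfsg.Agent.S4206

/-!
# GBT piece PD: positive degree of commutativity modulo `Z_{L-2}`
-/

set_option autoImplicit false

namespace Cfsg.Agent.Lib.Helper18.GBT

open Cfsg.Agent.Lib.Helper18.PRL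
open scoped commutatorElement

universe u

/-- `⁅Z_m, ⊤⁆ ≤ Z_{m-1}` (natural subtraction). -/
theorem h18gbt_comm_top_le {X : Type*} [Group X] (m : ℕ) :
    ⁅Z X m, (⊤ : Subgroup X)⁆ ≤ Z X (m - 1) := by
  rcases Nat.eq_zero_or_pos m with rfl | hm
  · show ⁅Subgroup.upperCentralSeries X 0, (⊤ : Subgroup X)⁆ ≤ _
    rw [Subgroup.upperCentralSeries_zero, Subgroup.commutator_bot_left]
    exact bot_le
  · have e : m = (m - 1) + 1 := by omega
    rw [e]
    exact Cfsg.Agent.Lib.helper4.MCP.mcpcomm_step (m - 1)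

section mc
variable {p : ℕ} [Fact p.Prime] {G : Type u} [Group G] [Finite G] {n : ℕ}

/-- GBT-PD (first half, easy) -/
theorem comm_H_Z {L : ℕ} (H : Subgroup G) (hL : 2 ≤ L) (hyp : HypFrom G n L H) (b : ℕ)
    (hb : b ≤ n - 2) : ∀ x ∈ H, ∀ z ∈ Z G b, ⁅x, z⁆ ∈ Z G (max (b - 2) (L - 2)) := by
  intro x hx z hz
  rcases Nat.lt_or_ge b L with hbL | hbL
  · rcases Nat.eq_zero_or_pos b with rfl | hb0
    · have : z = 1 := by
        have h0 : z ∈ (⊥ : Subgroup G) := by
          rw [← Subgroup.upperCentralSeries_zero G]; exact hz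
        exact Subgroup.mem_bot.1 h0
      rw [this, commutatorElement_one_right]
      exact one_mem _
    · have e : b = (b - 1) + 1 := by omega
      rw [e] at hz
      have h1 := (Subgroup.mem_upperCentralSeries_succ_iff.1 hz) x
      have h2 := inv_mem h1
      rw [commutatorElement_inv] at h2
      exact Subgroup.upperCentralSeries_mono G (by omega : b - 1 ≤ max (b - 2) (L - 2)) h2
  · exact Subgroup.upperCentralSeries_mono G (le_max_left _ _) (hyp b hbL hb x hx z hz)

/-- `G' = ⁅H, ⊤⁆` for a subgroup `H` of index `p`. -/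
theorem h18gbt_commutator_eq (h : MC p G n) (hn : 4 ≤ n) (H : Subgroup G) (hH : H.index = p) :
    Z G (n - 2) = ⁅H, (⊤ : Subgroup G)⁆ := by
  have hp : p.Prime := Fact.out
  have hG' := commutator_eq_Z h (by omega : 3 ≤ n)
  have hle : commutator G ≤ H := commutator_le_of_index h H hH
  haveI : H.Normal := by
    refine ⟨fun x hx g => ?_⟩
    have h1 : g * x * g⁻¹ = ⁅g, x⁆ * x := by rw [commutatorElement_def]; group
    rw [h1]
    exact H.mul_mem (hle (Subgroup.commutator_mem_commutator (Subgroup.mem_top g)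
      (Subgroup.mem_top x))) hx
  haveI : (⁅H, (⊤ : Subgroup G)⁆).Normal := Subgroup.commutator_normal H ⊤
  have hNle : ⁅H, (⊤ : Subgroup G)⁆ ≤ Z G (n - 2) := by
    rw [← hG', commutator_def]
    exact Subgroup.commutator_mono le_top le_rfl
  -- elements
  have hHne : H ≠ ⊤ := by
    intro h1
    rw [h1, Subgroup.index_top] at hH
    exact hp.one_lt.ne hH
  obtain ⟨s, hs⟩ : ∃ s : G, s ∉ H := by
    by_contra hc
    push Not at hc
    exact hHne (eq_top_iff.2 fun x _ => hc x)
  have hcH : Nat.card H = p ^ (n - 1) := by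
    have h1 := Subgroup.card_mul_index H
    rw [hH, h.1] at h1
    have hsplit : p ^ n = p ^ (n - 1) * p := by
      rw [← pow_succ]; congr 1; omega
    rw [hsplit] at h1
    exact Nat.eq_of_mul_eq_mul_right hp.pos h1
  obtain ⟨s1, hs1, hs1'⟩ : ∃ s1 : G, s1 ∈ H ∧ s1 ∉ commutator G := by
    by_contra hc
    push Not at hc
    have h1 : H ≤ commutator G := fun x hx => hc x hx
    have h2 := Subgroup.card_le_of_le h1
    rw [hcH, h23_card_commutator h (by omega)] at h2
    have := (Nat.pow_le_pow_iff_right hp.one_lt).1 h2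
    omega
  have hx : ⁅s1, s⁆ ∈ ⁅H, (⊤ : Subgroup G)⁆ :=
    Subgroup.commutator_mem_commutator hs1 (Subgroup.mem_top s)
  have hx' : ⁅s1, s⁆ ∉ Z G (n - 3) := by
    intro hc
    have h1 := comm_notMem h (by omega) H hH s s1 hs hs1 hs1'
    apply h1
    have h2 := inv_mem hc
    rwa [commutatorElement_inv] at h2
  obtain ⟨c, hc⟩ := ((IsPGroup.of_card h.1).to_subgroup ⁅H, (⊤ : Subgroup G)⁆).exists_card_eq
  have hc2 : c ≤ n - 2 := by
    have h1 := Subgroup.card_le_of_le hNle
    rw [hc, card_Z h (by omega) (n - 2) le_rfl] at h1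
    exact (Nat.pow_le_pow_iff_right hp.one_lt).1 h1
  have hN := normal_eq_Z h (by omega) ⁅H, (⊤ : Subgroup G)⁆ c hc2 hc
  rcases Nat.lt_or_ge c (n - 2) with hlt | hge
  · exfalso
    apply hx'
    rw [hN] at hx
    exact Subgroup.upperCentralSeries_mono G (by omega : c ≤ n - 3) hx
  · have : c = n - 2 := by omega
    rw [hN, this]

/-- the induction for `pd` -/
theorem h18gbt_pd_aux (h : MC p G n) (hn : 4 ≤ n) (H : Subgroup G) (hH : H.index = p) (L : ℕ)
    (hL : 2 ≤ L) (hyp : HypFrom G n L H) :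
    ∀ i : ℕ, 2 ≤ i → i ≤ n → ∀ b : ℕ, b ≤ n - 2 →
      ⁅Z G (n - i), Z G b⁆ ≤ Z G (max (b - (i + 1)) (L - 2)) := by
  intro i hi
  induction i, hi using Nat.le_induction with
  | base =>
    intro _ b hb
    rw [h18gbt_commutator_eq h hn H hH]
    apply Cfsg.Agent.S4206.three_subgroups_mod
    · -- ⁅⁅⊤, Z_b⁆, H⁆
      have h1 : ⁅(⊤ : Subgroup G), Z G b⁆ ≤ Z G (b - 1) := by
        rw [Subgroup.commutator_comm]; exact h18gbt_comm_top_le b
      refine (Subgroup.commutator_mono h1 le_rfl).trans ?_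
      rw [Subgroup.commutator_comm, Subgroup.commutator_le]
      intro x hx z hz
      have h2 := comm_H_Z H hL hyp (b - 1) (by omega) x hx z hz
      exact Subgroup.upperCentralSeries_mono G (by omega) h2
    · -- ⁅⁅Z_b, H⁆, ⊤⁆
      have h1 : ⁅Z G b, H⁆ ≤ Z G (max (b - 2) (L - 2)) := by
        rw [Subgroup.commutator_comm, Subgroup.commutator_le]
        exact comm_H_Z H hL hyp b hb
      refine (Subgroup.commutator_mono h1 le_rfl).trans ?_
      refine (h18gbt_comm_top_le _).trans ?_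
      exact Subgroup.upperCentralSeries_mono G (by omega)
  | succ i hi ih =>
    intro hin b hb
    have e1 : Z G (n - (i + 1)) = ⁅Z G (n - i), (⊤ : Subgroup G)⁆ := by
      rw [Cfsg.Agent.Lib.helper4.MCP.mcpcomm_Z_eq_lcs h (by omega) (n - (i + 1)) (by omega),
        Cfsg.Agent.Lib.helper4.MCP.mcpcomm_Z_eq_lcs h (by omega) (n - i) (by omega)]
      have e2 : n - (n - (i + 1)) - 1 = (n - (n - i) - 1) + 1 := by omega
      rw [e2, Subgroup.lowerCentralSeries_succ]
    rw [e1]
    apply Cfsg.Agent.S4206.three_subgroups_mod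
    · -- ⁅⁅⊤, Z_b⁆, Z_{n-i}⁆
      have h1 : ⁅(⊤ : Subgroup G), Z G b⁆ ≤ Z G (b - 1) := by
        rw [Subgroup.commutator_comm]; exact h18gbt_comm_top_le b
      refine (Subgroup.commutator_mono h1 le_rfl).trans ?_
      rw [Subgroup.commutator_comm]
      refine (ih (by omega) (b - 1) (by omega)).trans ?_
      exact Subgroup.upperCentralSeries_mono G (by omega)
    · -- ⁅⁅Z_b, Z_{n-i}⁆, ⊤⁆
      have h1 : ⁅Z G b, Z G (n - i)⁆ ≤ Z G (max (b - (i + 1)) (L - 2)) := by
        rw [Subgroup.commutator_comm]; exact ih (by omega) b hb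
      refine (Subgroup.commutator_mono h1 le_rfl).trans ?_
      refine (h18gbt_comm_top_le _).trans ?_
      exact Subgroup.upperCentralSeries_mono G (by omega)

/-- GBT-PD -/
theorem pd (h : MC p G n) (hn : 4 ≤ n) (H : Subgroup G) (hH : H.index = p) (L : ℕ) (hL : 2 ≤ L)
    (hyp : HypFrom G n L H) (a b : ℕ) (ha : a ≤ n - 2) (hb : b ≤ n - 2) :
    ⁅Z G a, Z G b⁆ ≤ Z G (max (a + b - (n + 1)) (L - 2)) := by
  have h1 := h18gbt_pd_aux h hn H hH L hL hyp (n - a) (by omega) (by omega) b hb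
  have e1 : n - (n - a) = a := by omega
  have e2 : b - (n - a + 1) = a + b - (n + 1) := by omega
  rwa [e1, e2] at h1

end mc

end Cfsg.Agent.Lib.Helper18.GBT
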