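import Mathlib
import Cfsg.Agent.Lib.Helper18.GBT.Defs
import Cfsg.Agent.Lib.Helper18.GBTCHAIN
import Cfsg.Agent.Lib.Helper18.GBTPD

/-!
# GBT piece CM: commutators of chain elements
-/

set_option autoImplicit false

namespace Cfsg.Agent.Lib.Helper18.GBT

open Cfsg.Agent.Lib.Helper18.PRL
open scoped commutatorElement

universe u

section mc
variable {p : ℕ} [Fact p.Prime] {G : Type u} [Group G] [Finite G] {n : ℕ}
variable {L : ℕ} {H : Subgroup G} {s s1 : G}

/-- `⁅x, z⁆ ∈ Z_{b-1}` for `z ∈ Z_b` -/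
theorem h18gbt_comm_mem_pred {X : Type*} [Group X] (b : ℕ) (x z : X) (hz : z ∈ Z X b) :
    ⁅x, z⁆ ∈ Z X (b - 1) := by
  rcases Nat.eq_zero_or_pos b with rfl | hb0
  · have : z = 1 := by
      have h0 : z ∈ (⊥ : Subgroup X) := by
        rw [← Subgroup.upperCentralSeries_zero X]; exact hz
      exact Subgroup.mem_bot.1 h0
    rw [this, commutatorElement_one_right]
    exact one_mem _
  · have e : b = (b - 1) + 1 := by omega
    rw [e] at hz
    have h1 := (Subgroup.mem_upperCentralSeries_succ_iff.1 hz) x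
    have h2 := inv_mem h1
    rwa [commutatorElement_inv] at h2

/-- GBT-CM -/
theorem ch_comm_mem (S : Setting p G n L H s s1) (hn : 4 ≤ n) (i j : ℕ) (hi : 1 ≤ i)
    (hj : 1 ≤ j) : ⁅ch s s1 i, ch s s1 j⁆ ∈ Z G (n - (i + j)) := by
  rcases Nat.eq_or_lt_of_le hi with hi1 | hi2
  · subst hi1
    rcases Nat.eq_or_lt_of_le hj with hj1 | hj2
    · subst hj1
      rw [commutatorElement_self]; exact one_mem _
    · have h1 := h18gbt_comm_mem_pred (n - j) (ch s s1 1) _ (ch_mem S hn j hj2)
      have e : n - j - 1 = n - (1 + j) := by omega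
      rwa [e] at h1
  · rcases Nat.eq_or_lt_of_le hj with hj1 | hj2
    · subst hj1
      have h1 := h18gbt_comm_mem_pred (n - i) (ch s s1 1) _ (ch_mem S hn i hi2)
      have e : n - i - 1 = n - (i + 1) := by omega
      rw [e] at h1
      have h2 := inv_mem h1
      rwa [commutatorElement_inv] at h2
    · have h1 := Cfsg.Agent.Lib.helper4.MCP.commutator_Z_le S.mc (by omega) (n - i) (n - j)
        (by omega)
      have h2 := h1 (Subgroup.commutator_mem_commutator (ch_mem S hn i hi2) (ch_mem S hn j hj2))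
      exact Subgroup.upperCentralSeries_mono G (by omega) h2

/-- GBT-CM (second half) -/
theorem ch_comm_mem_pd (S : Setting p G n L H s s1) (hn : 4 ≤ n) (hL : 2 ≤ L) (i j : ℕ)
    (hi : 1 ≤ i) (hj : 1 ≤ j) :
    ⁅ch s s1 i, ch s s1 j⁆ ∈ Z G (max (n - (i + j) - 1) (L - 2)) := by
  rcases Nat.eq_or_lt_of_le hi with hi1 | hi2
  · subst hi1
    rcases Nat.eq_or_lt_of_le hj with hj1 | hj2
    · subst hj1
      rw [commutatorElement_self]; exact one_mem _
    · have h1 := comm_H_Z H hL S.hyp (n - j) (by omega) (ch s s1 1) S.hs1 _ (ch_mem S hn j hj2)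
      exact Subgroup.upperCentralSeries_mono G (by omega) h1
  · rcases Nat.eq_or_lt_of_le hj with hj1 | hj2
    · subst hj1
      have h1 := comm_H_Z H hL S.hyp (n - i) (by omega) (ch s s1 1) S.hs1 _ (ch_mem S hn i hi2)
      have h2 := inv_mem h1
      rw [commutatorElement_inv] at h2
      exact Subgroup.upperCentralSeries_mono G (by omega) h2
    · have h1 := pd S.mc hn H S.idx L hL S.hyp (n - i) (n - j) (by omega) (by omega)
      have h2 := h1 (Subgroup.commutator_mem_commutator (ch_mem S hn i hi2) (ch_mem S hn j hj2))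
      exact Subgroup.upperCentralSeries_mono G (by omega) h2

end mc

end Cfsg.Agent.Lib.Helper18.GBT
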