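import Mathlib
import Cfsg.Agent.Lib.Helper18.GBT.Defs
import Cfsg.Agent.Lib.Helper18.GBTCHAIN
import Cfsg.Agent.Lib.Helper18.GBTCM
import Cfsg.Agent.Lib.helper23.PRLCH3
import Cfsg.Agent.Lib.helper23.PRLCH4

/-!
# GBT piece R2: `rel_two`
-/

set_option autoImplicit false

namespace Cfsg.Agent.Lib.Helper18.GBT

open Cfsg.Agent.Lib.Helper18.PRL
open scoped commutatorElement

universe u

section mc
variable {p : ℕ} [Fact p.Prime] {G : Type u} [Group G] [Finite G] {n : ℕ}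
variable {L : ℕ} {H : Subgroup G} {s s1 : G}

/-- chain elements `t_k`, `k ≥ 2`, centralize `Z_2` -/
theorem h18gbt_ch_comm_Z2 (S : Setting p G n L H s s1) (hn : 4 ≤ n) (k : ℕ) (hk : 2 ≤ k)
    (z : G) (hz : z ∈ Z G 2) : ch s s1 k * z = z * ch s s1 k := by
  have h1 : ch s s1 k ∈ commutator G := by
    rw [commutator_eq_Z S.mc (by omega)]
    exact Subgroup.upperCentralSeries_mono G (by omega) (ch_mem S hn k hk)
  have h2 := commutator_le_G1 G h1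
  exact ((Subgroup.mem_centralizer_iff.1 h2) z hz).symm

/-- elements of `Z_1` are central -/
theorem h18gbt_Z1_comm {X : Type*} [Group X] (z : X) (hz : z ∈ Z X 1) (g : X) :
    g * z = z * g := by
  rw [Z, Subgroup.upperCentralSeries_one, Subgroup.mem_center_iff] at hz
  exact hz g

/-- elements of `Z_0` are trivial -/
theorem h18gbt_Z0_eq {X : Type*} [Group X] (z : X) (hz : z ∈ Z X 0) : z = 1 := by
  have h0 : z ∈ (⊥ : Subgroup X) := by
    rw [← Subgroup.upperCentralSeries_zero X]; exact hz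
  exact Subgroup.mem_bot.1 h0

/-- GBT-R2 -/
theorem rel_two (S : Setting p G n L H s s1) (hn : 5 ≤ n) (i j : ℕ) (hi : 1 ≤ i) (hj : 1 ≤ j)
    (hij : i + j = n - 2) :
    ⁅s, ⁅ch s s1 i, ch s s1 j⁆⁆ =
      ⁅ch s s1 i, ch s s1 (j + 1)⁆ * ⁅ch s s1 (i + 1), ch s s1 j⁆ := by
  have hn4 : 4 ≤ n := by omega
  -- memberships
  have hv : ⁅ch s s1 i, ch s s1 j⁆ ∈ Z G 2 := by
    have h1 := ch_comm_mem S hn4 i j hi hj
    have e : n - (i + j) = 2 := by omega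
    rwa [e] at h1
  have hc1 : ⁅ch s s1 i, ch s s1 (j + 1)⁆ ∈ Z G 1 := by
    have h1 := ch_comm_mem S hn4 i (j + 1) hi (by omega)
    have e : n - (i + (j + 1)) = 1 := by omega
    rwa [e] at h1
  have hc2 : ⁅ch s s1 (i + 1), ch s s1 j⁆ ∈ Z G 1 := by
    have h1 := ch_comm_mem S hn4 (i + 1) j (by omega) hj
    have e : n - (i + 1 + j) = 1 := by omega
    rwa [e] at h1
  have hd : ⁅ch s s1 (i + 1), ch s s1 (j + 1)⁆ = 1 := by
    have h1 := ch_comm_mem S hn4 (i + 1) (j + 1) (by omega) (by omega)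
    have e : n - (i + 1 + (j + 1)) = 0 := by omega
    rw [e] at h1
    exact h18gbt_Z0_eq _ h1
  have h12 : Z G 1 ≤ Z G 2 := Subgroup.upperCentralSeries_mono G (by norm_num)
  -- conjugate
  have e1 : s * ⁅ch s s1 i, ch s s1 j⁆ * s⁻¹ =
      ⁅ch s s1 i, ch s s1 (j + 1)⁆ * ⁅ch s s1 i, ch s s1 j⁆ *
        ⁅ch s s1 (i + 1), ch s s1 (j + 1)⁆ * ⁅ch s s1 (i + 1), ch s s1 j⁆ := by
    rw [conj_comm, conj_ch s s1 i hi, conj_ch s s1 j hj]
    exact comm_expand _ _ _ _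
      (h18gbt_ch_comm_Z2 S hn4 (i + 1) (by omega) _ hv)
      (h18gbt_ch_comm_Z2 S hn4 (i + 1) (by omega) _ (h12 hc1))
      (h18gbt_ch_comm_Z2 S hn4 (j + 1) (by omega) _ hv)
      (h18gbt_ch_comm_Z2 S hn4 (j + 1) (by omega) _ (h12 hc2))
  rw [hd, mul_one] at e1
  have e2 : ⁅s, ⁅ch s s1 i, ch s s1 j⁆⁆ =
      s * ⁅ch s s1 i, ch s s1 j⁆ * s⁻¹ * ⁅ch s s1 i, ch s s1 j⁆⁻¹ := by
    rw [commutatorElement_def s]
  rw [e2, e1]
  have e3 := h18gbt_Z1_comm _ hc2 ⁅ch s s1 i, ch s s1 j⁆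
  rw [mul_assoc ⁅ch s s1 i, ch s s1 (j + 1)⁆, e3, ← mul_assoc, mul_inv_cancel_right]

end mc

end Cfsg.Agent.Lib.Helper18.GBT
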