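import Mathlib
import Cfsg.Agent.Lib.Helper18.GBT.Defs
import Cfsg.Agent.Lib.Helper18.GBTCHAIN
import Cfsg.Agent.Lib.Helper18.GBTCM
import Cfsg.Agent.Lib.Helper18.GBTR2

/-!
# GBT piece R1: `rel_one`
-/

set_option autoImplicit false

namespace Cfsg.Agent.Lib.Helper18.GBT

open Cfsg.Agent.Lib.Helper18.PRL
open scoped commutatorElement

universe u

/-- `⁅s, x * y⁆ = ⁅s, x⁆ * ⁅s, y⁆` when `y ∈ Z_2` -/
theorem h18gbt_comm_mul_Z2 {X : Type*} [Group X] (s x y : X) (hy : y ∈ Z X 2) :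
    ⁅s, x * y⁆ = ⁅s, x⁆ * ⁅s, y⁆ := by
  have h1 : ⁅s, y⁆ ∈ Z X 1 := by
    have h2 := h18gbt_comm_mem_pred 2 s y hy
    simpa using h2
  have e1 : ⁅s, x * y⁆ = ⁅s, x⁆ * (x * ⁅s, y⁆ * x⁻¹) := by
    simp only [commutatorElement_def]; group
  rw [e1, h18gbt_Z1_comm _ h1 x, mul_inv_cancel_right]

section mc
variable {p : ℕ} [Fact p.Prime] {G : Type u} [Group G] [Finite G] {n : ℕ}
variable {H : Subgroup G} {s s1 : G}

/-- GBT-R1 -/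
theorem rel_one (S : Setting p G n 4 H s s1) (hn : 6 ≤ n) (i j : ℕ) (hi : 1 ≤ i) (hj : 1 ≤ j)
    (hij : i + j = n - 3) :
    ⁅s, ⁅ch s s1 i, ch s s1 (j + 1)⁆⁆ * ⁅s, ⁅ch s s1 (i + 1), ch s s1 j⁆⁆ = 1 := by
  have hn4 : 4 ≤ n := by omega
  have h12 : Z G 1 ≤ Z G 2 := Subgroup.upperCentralSeries_mono G (by norm_num)
  -- memberships
  have hu : ⁅ch s s1 i, ch s s1 j⁆ ∈ Z G 2 := by
    have h1 := ch_comm_mem_pd S hn4 (by norm_num) i j hi hj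
    have e : max (n - (i + j) - 1) (4 - 2) = 2 := by omega
    rwa [e] at h1
  have ha : ⁅ch s s1 i, ch s s1 (j + 1)⁆ ∈ Z G 2 := by
    have h1 := ch_comm_mem S hn4 i (j + 1) hi (by omega)
    have e : n - (i + (j + 1)) = 2 := by omega
    rwa [e] at h1
  have hb : ⁅ch s s1 (i + 1), ch s s1 j⁆ ∈ Z G 2 := by
    have h1 := ch_comm_mem S hn4 (i + 1) j (by omega) hj
    have e : n - (i + 1 + j) = 2 := by omega
    rwa [e] at h1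
  have hd : ⁅ch s s1 (i + 1), ch s s1 (j + 1)⁆ ∈ Z G 1 := by
    have h1 := ch_comm_mem S hn4 (i + 1) (j + 1) (by omega) (by omega)
    have e : n - (i + 1 + (j + 1)) = 1 := by omega
    rwa [e] at h1
  -- conjugate
  have e1 : s * ⁅ch s s1 i, ch s s1 j⁆ * s⁻¹ =
      ⁅ch s s1 i, ch s s1 (j + 1)⁆ * ⁅ch s s1 i, ch s s1 j⁆ *
        ⁅ch s s1 (i + 1), ch s s1 (j + 1)⁆ * ⁅ch s s1 (i + 1), ch s s1 j⁆ := by
    rw [conj_comm, conj_ch s s1 i hi, conj_ch s s1 j hj]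
    exact comm_expand _ _ _ _
      (h18gbt_ch_comm_Z2 S hn4 (i + 1) (by omega) _ hu)
      (h18gbt_ch_comm_Z2 S hn4 (i + 1) (by omega) _ ha)
      (h18gbt_ch_comm_Z2 S hn4 (j + 1) (by omega) _ hu)
      (h18gbt_ch_comm_Z2 S hn4 (j + 1) (by omega) _ hb)
  have e2 : s * ⁅ch s s1 i, ch s s1 j⁆ * s⁻¹ =
      ⁅s, ⁅ch s s1 i, ch s s1 j⁆⁆ * ⁅ch s s1 i, ch s s1 j⁆ := by
    rw [commutatorElement_def s]; group
  set u := ⁅ch s s1 i, ch s s1 j⁆ with hu_def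
  set a := ⁅ch s s1 i, ch s s1 (j + 1)⁆ with ha_def
  set b := ⁅ch s s1 (i + 1), ch s s1 j⁆ with hb_def
  set d := ⁅ch s s1 (i + 1), ch s s1 (j + 1)⁆ with hd_def
  have hsu : ⁅s, u⁆ ∈ Z G 1 := by
    have h2 := h18gbt_comm_mem_pred 2 s u hu
    simpa using h2
  have hsa : ⁅s, a⁆ ∈ Z G 1 := by
    have h2 := h18gbt_comm_mem_pred 2 s a ha
    simpa using h2
  -- apply `⁅s, ·⁆`
  have e3 : ⁅s, u⁆ * u = a * u * d * b := by rw [← e2, e1]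
  have e4 := congrArg (fun x => ⁅s, x⁆) e3
  beta_reduce at e4
  rw [h18gbt_comm_mul_Z2 s _ u hu, h18gbt_comm_mul_Z2 s _ b hb,
    h18gbt_comm_mul_Z2 s _ d (h12 hd), h18gbt_comm_mul_Z2 s _ u hu] at e4
  have f1 : ⁅s, ⁅s, u⁆⁆ = 1 := by
    rw [commutatorElement_eq_one_iff_mul_comm]; exact h18gbt_Z1_comm _ hsu s
  have f2 : ⁅s, d⁆ = 1 := by
    rw [commutatorElement_eq_one_iff_mul_comm]; exact h18gbt_Z1_comm _ hd s
  rw [f1, f2, one_mul, mul_one, h18gbt_Z1_comm _ hsu ⁅s, a⁆, mul_assoc] at e4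
  exact (left_eq_mul.1 e4)

end mc

end Cfsg.Agent.Lib.Helper18.GBT
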