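import Mathlib
import Cfsg.Agent.Lib.Helper18.GBT.Defs
import Cfsg.Agent.Lib.Helper18.GBTCHAIN
import Cfsg.Agent.Lib.Helper18.GBTCM
import Cfsg.Agent.Lib.Helper18.GBTPD
import Cfsg.Agent.Lib.Helper18.GBTR2
import Cfsg.Agent.Lib.helper23.PRLCH3
import Cfsg.Agent.Lib.helper23.PRLCH4

/-!
# GBT piece R4: `rel_four`
-/

set_option autoImplicit false

namespace Cfsg.Agent.Lib.Helper18.GBT

open Cfsg.Agent.Lib.Helper18.PRL
open scoped commutatorElement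

universe u

section mc
variable {p : ℕ} [Fact p.Prime] {G : Type u} [Group G] [Finite G] {n : ℕ}
variable {H : Subgroup G} {s s1 : G}

/-- `⁅x, y⁆ = 1` for `x ∈ Z_a`, `y ∈ Z_b`, `a + b ≤ n`, `b ≤ n - 2` -/
theorem h18gbt_comm_eq_one (h : MC p G n) (hn : 3 ≤ n) (a b : ℕ) (hb : b ≤ n - 2)
    (hab : a + b ≤ n) (x y : G) (hx : x ∈ Z G a) (hy : y ∈ Z G b) : ⁅x, y⁆ = 1 := by
  have h1 := Cfsg.Agent.Lib.helper4.MCP.commutator_Z_le h hn a b hb
    (Subgroup.commutator_mem_commutator hx hy)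
  have e : a + b - n = 0 := by omega
  rw [e] at h1
  exact h18gbt_Z0_eq _ h1

/-- GBT-R4 -/
theorem rel_four (S : Setting p G n 4 H s s1) (hn : 6 ≤ n) (j m : ℕ) (hj : 2 ≤ j) (hm : 2 ≤ m)
    (hjm : j + m = n - 2) :
    s1 * ⁅ch s s1 j, ch s s1 m⁆ = ⁅ch s s1 j, ch s s1 m⁆ * s1 := by
  have hn4 : 4 ≤ n := by omega
  have hMC := S.mc
  have hu : ⁅ch s s1 j, ch s s1 m⁆ ∈ Z G 2 := by
    have h1 := ch_comm_mem S hn4 j m (by omega) (by omega)
    have e : n - (j + m) = 2 := by omega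
    rwa [e] at h1
  have htj := ch_mem S hn4 j hj
  have htm := ch_mem S hn4 m hm
  -- `e_j ∈ Z_m`, `e_m ∈ Z_j`
  have hej : ⁅s1, ch s s1 j⁆ ∈ Z G m := by
    have h1 := comm_H_Z H (by norm_num) S.hyp (n - j) (by omega) s1 S.hs1 _ htj
    have e : max (n - j - 2) (4 - 2) = m := by omega
    rwa [e] at h1
  have hem : ⁅s1, ch s s1 m⁆ ∈ Z G j := by
    have h1 := comm_H_Z H (by norm_num) S.hyp (n - m) (by omega) s1 S.hs1 _ htm
    have e : max (n - m - 2) (4 - 2) = j := by omega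
    rwa [e] at h1
  -- both centralize `Z_2`
  have hcomm : ∀ k : ℕ, k ≤ n - 2 → ∀ e ∈ Z G k, ∀ z ∈ Z G 2, e * z = z * e := by
    intro k hk e he z hz
    have h1 : e ∈ commutator G := by
      rw [commutator_eq_Z hMC (by omega)]
      exact Subgroup.upperCentralSeries_mono G hk he
    have h2 := commutator_le_G1 G h1
    exact ((Subgroup.mem_centralizer_iff.1 h2) z hz).symm
  have c1 : ⁅ch s s1 j, ⁅s1, ch s s1 m⁆⁆ = 1 :=
    h18gbt_comm_eq_one hMC (by omega) (n - j) j (by omega) (by omega) _ _ htj hem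
  have c2 : ⁅⁅s1, ch s s1 j⁆, ch s s1 m⁆ = 1 :=
    h18gbt_comm_eq_one hMC (by omega) m (n - m) (by omega) (by omega) _ _ hej htm
  have c3 : ⁅⁅s1, ch s s1 j⁆, ⁅s1, ch s s1 m⁆⁆ = 1 :=
    h18gbt_comm_eq_one hMC (by omega) m j (by omega) (by omega) _ _ hej hem
  have hconj : ∀ x : G, s1 * x * s1⁻¹ = ⁅s1, x⁆ * x := by
    intro x; rw [commutatorElement_def]; group
  have e1 : s1 * ⁅ch s s1 j, ch s s1 m⁆ * s1⁻¹ = ⁅ch s s1 j, ch s s1 m⁆ := by
    rw [conj_comm, hconj, hconj]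
    rw [comm_expand (ch s s1 j) ⁅s1, ch s s1 j⁆ (ch s s1 m) ⁅s1, ch s s1 m⁆
      (hcomm m (by omega) _ hej _ hu)
      (by rw [c1, mul_one, one_mul])
      (hcomm j (by omega) _ hem _ hu)
      (by rw [c2, mul_one, one_mul])]
    rw [c1, c2, c3, one_mul, mul_one, mul_one]
  calc s1 * ⁅ch s s1 j, ch s s1 m⁆
      = s1 * ⁅ch s s1 j, ch s s1 m⁆ * s1⁻¹ * s1 := by group
    _ = ⁅ch s s1 j, ch s s1 m⁆ * s1 := by rw [e1]

end mc

end Cfsg.Agent.Lib.Helper18.GBT
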