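import Mathlib
import Cfsg.Agent.Lib.Helper18.GBT.Defs
import Cfsg.Agent.Lib.Helper18.GBTCHAIN
import Cfsg.Agent.Lib.Helper18.GBTCM
import Cfsg.Agent.Lib.Helper18.GBTR1
import Cfsg.Agent.Lib.Helper18.GBTR2
import Cfsg.Agent.Lib.Helper18.GBTR4
import Cfsg.Agent.Lib.helper23.PRLCH1
import Cfsg.Agent.Lib.helper23.PRLCH6

/-!
# GBT piece KEY1a: `key_one_alpha`
-/

set_option autoImplicit false

namespace Cfsg.Agent.Lib.Helper18.GBT

open Cfsg.Agent.Lib.Helper18.PRL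
open scoped commutatorElement

universe u

section mc
variable {p : ℕ} [Fact p.Prime] {G : Type u} [Group G] [Finite G] {n : ℕ}
variable {H : Subgroup G} {s s1 : G}

/-- algebra: from `B a * B (a+1) = 1` -/
theorem h18gbt_B_formula {X : Type*} [Group X] (B : ℕ → X) (N : ℕ)
    (hB : ∀ a, 1 ≤ a → a + 1 ≤ N → B a * B (a + 1) = 1) :
    ∀ a, 1 ≤ a → a ≤ N → B a = B 1 ^ ((-1 : ℤ) ^ (a + 1)) := by
  intro a ha
  induction a, ha using Nat.le_induction with
  | base => intro _; simp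
  | succ a ha ih =>
    intro haN
    have h1 := hB a ha haN
    have h2 : B (a + 1) = (B a)⁻¹ := by
      rw [eq_inv_iff_mul_eq_one, mul_eq_one_iff_eq_inv, ← mul_eq_one_iff_eq_inv']
      exact h1
    rw [h2, ih (by omega), ← zpow_neg]
    congr 1
    rw [pow_succ (-1 : ℤ) (a + 1)]; ring

/-- algebra: from `B a = C a * C (a+1)`, `C 1 = 1`, `B a = α ^ ((-1)^(a+1))` -/
theorem h18gbt_C_formula {X : Type*} [Group X] (B C : ℕ → X) (α : X) (N : ℕ)
    (hC1 : C 1 = 1)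
    (hBC : ∀ a, 1 ≤ a → a ≤ N → B a = C a * C (a + 1))
    (hBf : ∀ a, 1 ≤ a → a ≤ N → B a = α ^ ((-1 : ℤ) ^ (a + 1))) :
    ∀ a, 1 ≤ a → a ≤ N + 1 → C a = α ^ ((-1 : ℤ) ^ a * ((a : ℤ) - 1)) := by
  intro a ha
  induction a, ha using Nat.le_induction with
  | base => intro _; simp [hC1]
  | succ a ha ih =>
    intro haN
    have h1 := hBC a ha (by omega)
    have h2 : C (a + 1) = (C a)⁻¹ * B a := by rw [h1]; group
    rw [h2, ih (by omega), hBf a ha (by omega), ← zpow_neg, ← zpow_add]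
    congr 1
    push_cast
    rw [pow_succ (-1 : ℤ) a]; ring

/-- GBT-KEY1a -/
theorem key_one_alpha (S : Setting p G n 4 H s s1) (hn : 7 ≤ n) (hodd : Odd n)
    (hnp : n ≤ 2 * p + 1) : ⁅s, ⁅ch s s1 1, ch s s1 (n - 3)⁆⁆ = 1 := by
  have hp : p.Prime := Fact.out
  have hMC := S.mc
  by_contra hα
  set t := ch s s1 with ht
  set B : ℕ → G := fun a => ⁅s, ⁅t a, t (n - 2 - a)⁆⁆ with hBdef
  set C : ℕ → G := fun a => ⁅t a, t (n - 1 - a)⁆ with hCdef
  have hB1 : B 1 = ⁅s, ⁅t 1, t (n - 3)⁆⁆ := by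
    show ⁅s, ⁅t 1, t (n - 2 - 1)⁆⁆ = _
    have : n - 2 - 1 = n - 3 := by omega
    rw [this]
  have hBB : ∀ a, 1 ≤ a → a + 1 ≤ n - 3 → B a * B (a + 1) = 1 := by
    intro a ha ha'
    have h1 := rel_one S (by omega) a (n - 3 - a) ha (by omega) (by omega)
    have e1 : n - 3 - a + 1 = n - 2 - a := by omega
    have e2 : n - 3 - a = n - 2 - (a + 1) := by omega
    rw [e1, e2] at h1
    exact h1
  have hBC : ∀ a, 1 ≤ a → a ≤ n - 3 → B a = C a * C (a + 1) := by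
    intro a ha ha'
    have h1 := rel_two S (by omega) a (n - 2 - a) ha (by omega) (by omega)
    have e1 : n - 2 - a + 1 = n - 1 - a := by omega
    have e2 : n - 2 - a = n - 1 - (a + 1) := by omega
    rw [e1] at h1
    rw [e2] at h1
    have e3 : n - 1 - (a + 1) = n - 2 - a := by omega
    show ⁅s, ⁅t a, t (n - 2 - a)⁆⁆ = ⁅t a, t (n - 1 - a)⁆ * ⁅t (a + 1), t (n - 1 - (a + 1))⁆
    rw [← e3]
    exact h1
  have hBf := h18gbt_B_formula B (n - 3) hBB
  -- `B 2 ≠ 1`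
  have hB2 : B 2 ≠ 1 := by
    rw [hBf 2 (by norm_num) (by omega)]
    intro h0
    apply hα
    rw [← hB1]
    have : ((-1 : ℤ) ^ (2 + 1)) = -1 := by norm_num
    rw [this, zpow_neg, zpow_one, inv_eq_one] at h0
    exact h0
  -- `u = ⁅t 2, t (n-4)⁆ ∈ Z_2 ∖ Z_1`
  have hu2 : ⁅t 2, t (n - 4)⁆ ∈ Z G 2 := by
    have h1 := ch_comm_mem S (by omega) 2 (n - 4) (by norm_num) (by omega)
    have e1 : n - (2 + (n - 4)) = 2 := by omega
    rwa [e1] at h1
  have hu1 : ⁅t 2, t (n - 4)⁆ ∉ Z G 1 := by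
    intro hu
    apply hB2
    show ⁅s, ⁅t 2, t (n - 2 - 2)⁆⁆ = 1
    have e1 : n - 2 - 2 = n - 4 := by omega
    rw [e1, commutatorElement_eq_one_iff_mul_comm]
    rw [Z, Subgroup.upperCentralSeries_one, Subgroup.mem_center_iff] at hu
    exact hu s
  have h4 := rel_four S (by omega) 2 (n - 4) le_rfl (by omega) (by omega)
  have hs1G1 : s1 ∈ G1 G := mem_G1_of_comm hMC (by omega) _ hu2 hu1 s1 h4
  have hC1 : C 1 = 1 := by
    show ⁅t 1, t (n - 1 - 1)⁆ = 1
    have e1 : n - 1 - 1 = n - 2 := by omega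
    rw [e1, commutatorElement_eq_one_iff_mul_comm]
    have h1 := ch_mem S (by omega) (n - 2) (by omega)
    have e2 : n - (n - 2) = 2 := by omega
    rw [e2] at h1
    have h2 := (Subgroup.mem_centralizer_iff.1 hs1G1) _ h1
    show s1 * ch s s1 (n - 2) = ch s s1 (n - 2) * s1
    exact h2.symm
  have hCf := h18gbt_C_formula B C (B 1) (n - 3) hC1 hBC hBf
  obtain ⟨k, hk⟩ := hodd
  have hCk : C k = 1 := by
    show ⁅t k, t (n - 1 - k)⁆ = 1
    have e1 : n - 1 - k = k := by omega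
    rw [e1, commutatorElement_self]
  have h5 := hCf k (by omega) (by omega)
  rw [hCk] at h5
  -- `α ^ p = 1`
  have hαZ : B 1 ∈ Z G 1 := by
    rw [hB1]
    have h1 := ch_comm_mem S (by omega) 1 (n - 3) le_rfl (by omega)
    have e1 : n - (1 + (n - 3)) = 1 + 1 := by omega
    rw [e1] at h1
    have h2 := (Subgroup.mem_upperCentralSeries_succ_iff.1 h1) s
    have h3 := inv_mem h2
    rwa [commutatorElement_inv] at h3
  have hαp : B 1 ^ p = 1 := by
    have hc : Nat.card (Z G 1) = p := by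
      have := card_Z hMC (by omega) 1 (by omega)
      simpa using this
    have h1 : (⟨B 1, hαZ⟩ : Z G 1) ^ Nat.card (Z G 1) = 1 := pow_card_eq_one'
    rw [hc] at h1
    have h2 := congrArg Subtype.val h1
    simpa using h2
  have hord : orderOf (B 1) ∣ p := orderOf_dvd_of_pow_eq_one hαp
  rcases (Nat.dvd_prime hp).1 hord with h1 | h1
  · apply hα
    rw [← hB1]
    exact orderOf_eq_one_iff.1 h1
  · have h6 : ((orderOf (B 1) : ℕ) : ℤ) ∣ (-1 : ℤ) ^ k * ((k : ℤ) - 1) :=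
      orderOf_dvd_iff_zpow_eq_one.2 h5.symm
    rw [h1] at h6
    have h7 : (p : ℤ) ∣ ((k : ℤ) - 1) := by
      rcases Nat.even_or_odd k with hk2 | hk2
      · rw [hk2.neg_one_pow, one_mul] at h6; exact h6
      · rw [hk2.neg_one_pow, neg_one_mul, dvd_neg] at h6; exact h6
    have h8 : (p : ℤ) ≤ (k : ℤ) - 1 := Int.le_of_dvd (by omega) h7
    omega

end mc

end Cfsg.Agent.Lib.Helper18.GBT
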