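import Mathlib
import Cfsg.Agent.Lib.Helper18.GBT.Defs
import Cfsg.Agent.Lib.Helper18.GBTCHAIN
import Cfsg.Agent.Lib.Helper18.GBTCM
import Cfsg.Agent.Lib.Helper10.GBTS1EX
import Cfsg.Agent.Lib.Helper11.PRLUNI
import Cfsg.Agent.Lib.Helper19.MCPCOMM
import Cfsg.Agent.Lib.helper23.PRLCH1
import Cfsg.Agent.Lib.helper23.PRLCH3

/-!
# GBT piece KEY1b: `key_one_of_alpha`
-/

set_option autoImplicit false

namespace Cfsg.Agent.Lib.Helper18.GBT

open Cfsg.Agent.Lib.Helper18.PRL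
open scoped commutatorElement

universe u

section mc
variable {p : ℕ} [Fact p.Prime] {G : Type u} [Group G] [Finite G] {n : ℕ}
variable {H : Subgroup G} {s s1 : G}

/-- GBT-KEY1b -/
theorem key_one_of_alpha (S : Setting p G n 4 H s s1) (hn : 6 ≤ n)
    (hα : ⁅s, ⁅ch s s1 1, ch s s1 (n - 3)⁆⁆ = 1) :
    ∀ x ∈ H, ∀ z ∈ Z G 3, ⁅x, z⁆ ∈ Z G 1 := by
  have hp : p.Prime := Fact.out
  have hMC := S.mc
  have hn4 : 4 ≤ n := by omega
  have ht3 : ch s s1 (n - 3) ∈ Z G 3 := by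
    have h1 := ch_mem S hn4 (n - 3) (by omega)
    have e : n - (n - 3) = 3 := by omega
    rwa [e] at h1
  have ht3' : ch s s1 (n - 3) ∉ Z G 2 := by
    have h1 := ch_notMem S hn4 (n - 3) (by omega) (by omega)
    have e : n - (n - 3) - 1 = 2 := by omega
    rwa [e] at h1
  have hu2 : ⁅s1, ch s s1 (n - 3)⁆ ∈ Z G 2 := h18gbt_comm_mem_pred 3 s1 _ ht3
  have hu1 : ⁅s1, ch s s1 (n - 3)⁆ ∈ Z G 1 := by
    by_contra hnot
    have h1 := S.unif 2 le_rfl (by omega) _ hu2 hnot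
    apply h1
    have h2 : ⁅⁅s1, ch s s1 (n - 3)⁆, s⁆ = 1 := by
      rw [← commutatorElement_inv, inv_eq_one]
      exact hα
    rw [h2]
    exact one_mem _
  -- the subgroup `K = {g ∈ Z_3 | ⁅g, s1⁆ ∈ Z_1}` is `Z_3`
  have c2 := card_Z hMC (by omega) 2 (by omega)
  have c3 := card_Z hMC (by omega) 3 (by omega)
  have hK1 : Z G 2 ≤ h11prl_K (Z G 3) (Z G 1) s1 := by
    intro a ha
    refine ⟨Subgroup.upperCentralSeries_mono G (by norm_num) ha, ?_⟩
    exact (Subgroup.mem_upperCentralSeries_succ_iff.1 ha) s1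
  have hK2 : h11prl_K (Z G 3) (Z G 1) s1 ≤ Z G 3 := fun a ha => ha.1
  have htK : ch s s1 (n - 3) ∈ h11prl_K (Z G 3) (Z G 1) s1 := by
    refine ⟨ht3, ?_⟩
    have h2 := inv_mem hu1
    rwa [commutatorElement_inv] at h2
  have hKeq : h11prl_K (Z G 3) (Z G 1) s1 = Z G 3 := by
    have d1 : Nat.card (h11prl_K (Z G 3) (Z G 1) s1) ∣ p ^ 3 := by
      rw [← c3]; exact Subgroup.card_dvd_of_le hK2
    have d2 : p ^ 2 ∣ Nat.card (h11prl_K (Z G 3) (Z G 1) s1) := by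
      rw [← c2]; exact Subgroup.card_dvd_of_le hK1
    obtain ⟨a, ha, hKa⟩ := (Nat.dvd_prime_pow hp).1 d1
    rw [hKa] at d2
    have ha' : 2 ≤ a := (Nat.pow_dvd_pow_iff_le_right hp.one_lt).1 d2
    rcases (by omega : a = 3 ∨ a = 2) with rfl | rfl
    · exact Subgroup.eq_of_le_of_card_ge hK2 (by rw [c3, hKa])
    · exfalso
      have : Z G 2 = h11prl_K (Z G 3) (Z G 1) s1 :=
        Subgroup.eq_of_le_of_card_ge hK1 (by rw [c2, hKa])
      exact ht3' (by rw [this]; exact htK)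
  have hs1C : s1 ∈ h11prl_C (Z G 3) (Z G 1) := by
    intro z hz
    have h1 : z ∈ h11prl_K (Z G 3) (Z G 1) s1 := by rw [hKeq]; exact hz
    have h2 := inv_mem h1.2
    rwa [commutatorElement_inv] at h2
  have hG'C : commutator G ≤ h11prl_C (Z G 3) (Z G 1) := by
    intro g hg z hz
    rw [commutator_eq_Z hMC (by omega)] at hg
    have h1 := Cfsg.Agent.Lib.helper4.MCP.commutator_Z_le hMC (by omega) (n - 2) 3 (by omega)
      (Subgroup.commutator_mem_commutator hg hz)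
    have e : n - 2 + 3 - n = 1 := by omega
    rwa [e] at h1
  have hle := le_of_mem_of_commutator_le hMC (by omega) H S.idx s1 S.hs1 S.hs1'
    (h11prl_C (Z G 3) (Z G 1)) hG'C hs1C
  intro x hx z hz
  exact hle hx z hz

end mc

end Cfsg.Agent.Lib.Helper18.GBT
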