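import Mathlib
import Cfsg.Agent.Lib.Helper18.GBT.Defs
import Cfsg.Agent.Lib.Helper18.GBTCHAIN
import Cfsg.Agent.Lib.Helper18.GBTCM
import Cfsg.Agent.Lib.Helper18.GBTR2
import Cfsg.Agent.Lib.Helper18.GBTKEY1a
import Cfsg.Agent.Lib.Helper10.GBTS1EX
import Cfsg.Agent.Lib.helper23.PRLCH4
import Cfsg.Agent.Lib.helper23.PRLCH6

/-!
# GBT piece KEY2: `key_two_setting`
-/

set_option autoImplicit false

namespace Cfsg.Agent.Lib.Helper18.GBT

open Cfsg.Agent.Lib.Helper18.PRL
open scoped commutatorElement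

universe u

section mc
variable {p : ℕ} [Fact p.Prime] {G : Type u} [Group G] [Finite G] {n : ℕ}
variable {H : Subgroup G} {s s1 : G}

/-- GBT-KEY2 -/
theorem key_two_setting (S : Setting p G n 3 H s s1) (hn : 5 ≤ n) (hodd : Odd n) :
    H ≤ G1 G := by
  have hMC := S.mc
  have hn4 : 4 ≤ n := by omega
  set t := ch s s1 with ht
  set C : ℕ → G := fun a => ⁅t a, t (n - 1 - a)⁆ with hCdef
  have hCC : ∀ a, 1 ≤ a → a + 1 ≤ n - 2 → C a * C (a + 1) = 1 := by
    intro a ha ha'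
    have h1 := rel_two S hn a (n - 2 - a) ha (by omega) (by omega)
    have h2 : ⁅ch s s1 a, ch s s1 (n - 2 - a)⁆ ∈ Z G 1 := by
      have h3 := ch_comm_mem_pd S hn4 (by norm_num) a (n - 2 - a) ha (by omega)
      have e : max (n - (a + (n - 2 - a)) - 1) (3 - 2) = 1 := by omega
      rwa [e] at h3
    have h4 : ⁅s, ⁅ch s s1 a, ch s s1 (n - 2 - a)⁆⁆ = 1 := by
      rw [commutatorElement_eq_one_iff_mul_comm]; exact h18gbt_Z1_comm _ h2 s
    rw [h4] at h1
    have e1 : n - 2 - a + 1 = n - 1 - a := by omega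
    have e2 : n - 2 - a = n - 1 - (a + 1) := by omega
    rw [e1] at h1
    rw [e2] at h1
    exact h1.symm
  have hCf := h18gbt_B_formula C (n - 2) hCC
  obtain ⟨k, hk⟩ := hodd
  have hCk : C k = 1 := by
    show ⁅t k, t (n - 1 - k)⁆ = 1
    have e1 : n - 1 - k = k := by omega
    rw [e1, commutatorElement_self]
  have h5 := hCf k (by omega) (by omega)
  rw [hCk] at h5
  have hC1 : C 1 = 1 := by
    rcases Nat.even_or_odd (k + 1) with hk2 | hk2
    · rw [hk2.neg_one_pow, zpow_one] at h5; exact h5.symm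
    · rw [hk2.neg_one_pow, zpow_neg, zpow_one] at h5
      exact inv_eq_one.1 h5.symm
  have hz2 : ch s s1 (n - 2) ∈ Z G 2 := by
    have h1 := ch_mem S hn4 (n - 2) (by omega)
    have e2 : n - (n - 2) = 2 := by omega
    rwa [e2] at h1
  have hz1 : ch s s1 (n - 2) ∉ Z G 1 := by
    have h1 := ch_notMem S hn4 (n - 2) (by omega) (by omega)
    have e2 : n - (n - 2) - 1 = 1 := by omega
    rwa [e2] at h1
  have hcomm : s1 * ch s s1 (n - 2) = ch s s1 (n - 2) * s1 := by
    have h1 : ⁅t 1, t (n - 1 - 1)⁆ = 1 := hC1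
    have e1 : n - 1 - 1 = n - 2 := by omega
    rw [e1, commutatorElement_eq_one_iff_mul_comm] at h1
    exact h1
  have hs1G1 : s1 ∈ G1 G := mem_G1_of_comm hMC hn4 _ hz2 hz1 s1 hcomm
  exact le_of_mem_of_commutator_le hMC (by omega) H S.idx s1 S.hs1 S.hs1' (G1 G)
    (commutator_le_G1 G) hs1G1

end mc

end Cfsg.Agent.Lib.Helper18.GBT
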