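import Cfsg.Agent.Lib.Helper16.O5F.Defs
import Cfsg.Agent.Lib.Helper5.OSylI
import Cfsg.Agent.S0301

/-!
# Project O5F (S5320 part A), piece O: order of `Ω₅` and transport from `PSp₄(F)`
-/

set_option autoImplicit false

namespace Cfsg.Agent.Lib.Helper18.O5F

open Cfsg.Agent.Lib.Helper16.O5F Equiv Matrix Cfsg.Agent.Lib.Helper5.OSyl Cfsg.Agent.Lib.Lead

open scoped Nat

variable (F : Type*) [Field F]

theorem card_kap2 : Fintype.card (Kap 2) = 5 := by
  simp only [Fintype.card_sum, Fintype.card_prod, Fintype.card_fin, Fintype.card_unit]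

/-- `Kap 2 ≃ Fin 5`. -/
noncomputable def kapEquiv : Kap 2 ≃ Fin 5 := Fintype.equivFinOfCardEq card_kap2

theorem sqForm_reindex (e : Kap 2 ≃ Fin 5) :
    (fun x : Fin 5 → F => sqForm (Kap 2) F (x ∘ e)) = sqForm (Fin 5) F := by
  funext x
  unfold sqForm
  exact Equiv.sum_comp e (fun k => x k * x k)

/-- the isometry groups of `quadFormOdd 2` and of the sum of five squares are isomorphic. -/
theorem exists_iso_O5 [Fintype F] (h2 : (2 : F) ≠ 0) :
    Nonempty (↥(Cfsg.isometryGroup F (Cfsg.quadFormOdd 2 F)) ≃* ↥(O5 F)) := by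
  obtain ⟨e0⟩ := exists_iso_odd_sq (F := F) h2 2
  have e1 := RI.isoReindex (F := F) kapEquiv (sqForm (Kap 2) F)
  rw [sqForm_reindex] at e1
  exact ⟨e0.trans e1⟩

theorem odd_card_of_two_ne [Fintype F] (h2 : (2 : F) ≠ 0) : Odd (Fintype.card F) := by
  rw [Nat.odd_iff]
  apply FiniteField.odd_card_of_char_ne_two
  intro hc
  apply h2
  have := ringChar.Nat.cast_ringChar (R := F)
  rw [hc] at this
  exact_mod_cast this

/-! ### `Ω(quadFormOdd 2 F) ≃* PSp₄(F)` -/

theorem R6_neg (M : Matrix (Fin 4) (Fin 4) F) : PO6.R6 (-M) = PO6.R6 M := by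
  ext k l
  simp only [PO6.R6, Matrix.of_apply, Matrix.neg_apply, neg_mul_neg]

theorem R5_neg (M : Matrix (Fin 4) (Fin 4) F) : PO5.R5 (-M) = PO5.R5 M := by
  unfold PO5.R5
  rw [R6_neg]

theorem toFin4_neg (A : Matrix (Fin 2 ⊕ Fin 2) (Fin 2 ⊕ Fin 2) F) :
    PO5.toFin4 (-A) = - PO5.toFin4 A := by
  ext i j
  rw [PO5.toFin4_apply, Matrix.neg_apply, Matrix.neg_apply, PO5.toFin4_apply]

theorem rho_negOne : PO5.rho (Cfsg.Agent.S0246.negOne F 2) = 1 := by
  rw [PO5.rho_eq_one_iff, Cfsg.Agent.S0246.negOne_coe, toFin4_neg, R5_neg, map_one, PO5.R5_one]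

/-- `PSp₄(F) ≃* Ω(quadFormOdd 2 F)` for `|F|` odd. -/
theorem exists_iso_psp [Fintype F] (h2 : (2 : F) ≠ 0) :
    Nonempty (Cfsg.PSp 2 F ≃* ↥(Cfsg.Omega F (Cfsg.quadFormOdd 2 F))) := by
  have hodd := odd_card_of_two_ne F h2
  let fphi : ↥(Matrix.symplecticGroup (Fin 2) F) →* ↥(Cfsg.Omega F (Cfsg.quadFormOdd 2 F)) :=
    (PO5.rho (F := F)).codRestrict _ (fun p => Cfsg.Agent.S0301.range_le h2 ⟨p, rfl⟩)
  have hfphi : Function.Surjective fphi := by
    rintro ⟨z, hz⟩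
    rw [← Cfsg.Agent.S0301.range_eq hodd] at hz
    obtain ⟨p, hp⟩ := hz
    exact ⟨p, Subtype.ext hp⟩
  have hker : Subgroup.center ↥(Matrix.symplecticGroup (Fin 2) F) = fphi.ker := by
    ext p
    constructor
    · intro hp
      rw [MonoidHom.mem_ker]
      apply Subtype.ext
      show PO5.rho p = 1
      rcases Cfsg.Agent.S0246.center_cases (by norm_num) p hp with h | h
      · rw [h, map_one]
      · rw [h, rho_negOne]
    · intro hp
      have h1 : p ∈ (PO5.rho (F := F)).ker := by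
        have := MonoidHom.mem_ker.mp hp
        exact MonoidHom.mem_ker.mpr (congrArg Subtype.val this)
      rcases Cfsg.Agent.S0301.ker_subset h2 h1 with h | h
      · rw [h]; exact one_mem _
      · rw [Set.mem_singleton_iff] at h
        rw [h]; exact Cfsg.Agent.S0246.negOne_mem_center
  exact ⟨(QuotientGroup.quotientMulEquivOfEq hker).trans
    (QuotientGroup.quotientKerEquivOfSurjective fphi hfphi)⟩

theorem exists_emb [Fintype F] (h2 : (2 : F) ≠ 0) :
    ∃ f : Cfsg.PSp 2 F →* Matrix.GeneralLinearGroup (Fin 5) F,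
      Function.Injective f ∧ f.range = A5 F := by
  obtain ⟨E⟩ := exists_iso_O5 F h2
  obtain ⟨P⟩ := exists_iso_psp F h2
  let ψ : Cfsg.PSp 2 F ≃* ↥(Cfsg.Omega F (sqForm (Fin 5) F)) := P.trans (commEquiv E)
  refine ⟨((O5 F).subtype.comp (Cfsg.Omega F (sqForm (Fin 5) F)).subtype).comp ψ.toMonoidHom,
    ?_, ?_⟩
  · intro a b hab
    apply ψ.injective
    apply Subtype.ext
    apply Subtype.ext
    exact hab
  · ext x
    constructor
    · rintro ⟨a, rfl⟩
      exact ⟨(ψ a : ↥(O5 F)), (ψ a).2, rfl⟩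
    · rintro ⟨y, hy, rfl⟩
      exact ⟨ψ.symm ⟨y, hy⟩, by
        show ((ψ (ψ.symm ⟨y, hy⟩) : ↥(O5 F)) : Matrix.GeneralLinearGroup (Fin 5) F) = _
        rw [MulEquiv.apply_symm_apply]
        rfl⟩

theorem v2_sq_sub_one (q : ℕ) (hq : q % 8 = 3 ∨ q % 8 = 5) : padicValNat 2 (q ^ 2 - 1) = 3 := by
  have : Fact (Nat.Prime 2) := ⟨Nat.prime_two⟩
  obtain ⟨t, ht, hodd⟩ : ∃ t, q ^ 2 - 1 = 8 * t ∧ ¬ 2 ∣ t := by
    rcases hq with h | h
    · refine ⟨8 * (q / 8) ^ 2 + 6 * (q / 8) + 1, ?_, by omega⟩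
      have hq' : q = 8 * (q / 8) + 3 := by omega
      generalize q / 8 = s at hq'
      subst hq'
      apply Nat.sub_eq_of_eq_add
      ring
    · refine ⟨8 * (q / 8) ^ 2 + 10 * (q / 8) + 3, ?_, by omega⟩
      have hq' : q = 8 * (q / 8) + 5 := by omega
      generalize q / 8 = s at hq'
      subst hq'
      apply Nat.sub_eq_of_eq_add
      ring
  have ht0 : t ≠ 0 := by
    rintro rfl
    exact hodd (dvd_zero 2)
  rw [ht, padicValNat.mul (by norm_num) ht0, padicValNat.eq_zero_of_not_dvd hodd,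
    show (8 : ℕ) = 2 ^ 3 by norm_num, padicValNat.prime_pow]

theorem card_A5_two [Fintype F] (hq : Fintype.card F % 8 = 3 ∨ Fintype.card F % 8 = 5) :
    (Nat.card (A5 F)).factorization 2 = 6 := by
  classical
  have : Fact (Nat.Prime 2) := ⟨Nat.prime_two⟩
  have hF : Odd (Fintype.card F) := by
    rw [Nat.odd_iff]
    omega
  have h2 : (2 : F) ≠ 0 := by
    intro h
    have hc : ringChar F = 2 :=
      CharP.ringChar_of_prime_eq_zero Nat.prime_two (by exact_mod_cast h)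
    have := FiniteField.even_card_of_char_two hc
    rw [Nat.odd_iff] at hF
    omega
  obtain ⟨E⟩ := exists_iso_O5 F h2
  have hc1 : Nat.card (A5 F) = Nat.card (Cfsg.Omega F (sqForm (Fin 5) F)) :=
    Subgroup.card_map_of_injective (Subgroup.subtype_injective _)
  have hidx := RI.index_omega_general h2 (by simp) (sqQF (Fin 5) F) (sqQF_nondeg h2)
  rw [sqQF_coe] at hidx
  have hmul := Subgroup.card_mul_index (Cfsg.Omega F (sqForm (Fin 5) F))
  rw [hidx] at hmul
  have hcO : Nat.card (O5 F) = Nat.card (Cfsg.isometryGroup F (Cfsg.quadFormOdd 2 F)) :=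
    (Nat.card_congr E.toEquiv).symm
  have hv := v2_card_GOodd hF 2
  have hv3 : padicValNat 2 (2 !) = 1 := by
    have : (2 ! : ℕ) = 2 ^ 1 := by decide
    rw [this, padicValNat.prime_pow]
  rw [v2_sq_sub_one _ hq, hv3] at hv
  have hΩpos : Nat.card (Cfsg.Omega F (sqForm (Fin 5) F)) ≠ 0 := Nat.card_pos.ne'
  have h11 : padicValNat 2 (Nat.card (Cfsg.Omega F (sqForm (Fin 5) F)) * 4) = 8 := by
    rw [hmul, hcO, hv]
  rw [padicValNat.mul hΩpos (by norm_num), show (4 : ℕ) = 2 ^ 2 by norm_num,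
    padicValNat.prime_pow] at h11
  rw [Nat.factorization_def _ Nat.prime_two, hc1]
  omega

end Cfsg.Agent.Lib.Helper18.O5F
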