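import Mathlib
import Cfsg.Agent.Lib.Helper16.O9H.Defs
import Cfsg.Agent.Lib.Helper16.OCnt1

set_option autoImplicit false
set_option linter.unusedVariables false
set_option linter.unusedSectionVars false

namespace Cfsg.Agent.Lib.Helper16.O9H

open Matrix Polynomial Module

variable {ι : Type} [Fintype ι] [DecidableEq ι] {F : Type*} [Field F]

/-- `Q (x + y) = Q x + Q y` for orthogonal vectors -/
theorem o9hcsplit_add (Q : QuadraticForm F (ι → F)) (x y : ι → F) (h : pol Q x y = 0) :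
    Q (x + y) = Q x + Q y := by
  have h1 : QuadraticMap.polar (⇑Q) x y = 0 := h
  unfold QuadraticMap.polar at h1
  linear_combination h1

/-- the level set of the whole space splits into the part outside `W₁` and the part inside -/
theorem o9hcsplit_inout [Fintype F] (Q : QuadraticForm F (ι → F)) (W₁ : Submodule F (ι → F)) (c : F) :
    Nat.card {v : ι → F // Q v = c} =
      Nat.card {v : ι → F // Q v = c ∧ v ∉ W₁} + Nat.card {x : ↥W₁ // Q (x : ι → F) = c} := by
  classical
  have h1 : Nat.card {x : ↥W₁ // Q (x : ι → F) = c} = Nat.card {v : ι → F // Q v = c ∧ v ∈ W₁} := by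
    apply Nat.card_congr
    refine ⟨fun x => ⟨x.1.1, x.2, x.1.2⟩, fun v => ⟨⟨v.1, v.2.2⟩, v.2.1⟩, fun x => rfl, fun v => rfl⟩
  rw [h1]
  simp only [Nat.card_eq_fintype_card, Fintype.card_subtype]
  have h2 := Finset.card_filter_add_card_filter_not (s := (Finset.univ.filter (fun v : ι → F => Q v = c)))
    (fun v : ι → F => v ∈ W₁)
  rw [Finset.filter_filter, Finset.filter_filter] at h2
  omega

/-- the level set of the whole space as a sum over `W₁` -/
theorem o9hcsplit_total [Fintype F] (Q : QuadraticForm F (ι → F)) (W₁ W' : Submodule F (ι → F)) (hc : IsCompl W₁ W')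
    (horth : ∀ x ∈ W₁, ∀ y ∈ W', pol Q x y = 0) (c : F) [Fintype ↥W₁] :
    Nat.card {v : ι → F // Q v = c} =
      ∑ x : ↥W₁, Nat.card {y : ↥W' // Q (y : ι → F) = c - Q (x : ι → F)} := by
  classical
  have h1 := Cfsg.Agent.Lib.Helper16.OSemi.cnt_prod (F := F) (V := ↥W') (W := ↥W₁)
    (fun y : ↥W' => Q (y : ι → F)) (fun x : ↥W₁ => Q (x : ι → F)) c
  unfold Cfsg.Agent.Lib.Helper16.OSemi.cnt at h1
  rw [← h1]
  apply Nat.card_congr
  refine (Equiv.subtypeEquiv ((Equiv.prodComm _ _).trans (Submodule.prodEquivOfIsCompl W₁ W' hc).toEquiv) ?_).symm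
  rintro ⟨y, x⟩
  simp only [Equiv.trans_apply, Equiv.prodComm_apply, Prod.swap_prod_mk, LinearEquiv.coe_toEquiv,
    Submodule.coe_prodEquivOfIsCompl']
  rw [o9hcsplit_add Q _ _ (horth x.1 x.2 y.1 y.2), add_comm]

theorem split_count [Fintype F] (Q : QuadraticForm F (ι → F)) (W₁ W' : Submodule F (ι → F)) (hc : IsCompl W₁ W')
    (horth : ∀ x ∈ W₁, ∀ y ∈ W', pol Q x y = 0) (c : F) (n z : ℕ)
    (hn : ∀ b : F, b ≠ 0 → Nat.card {y : ↥W' // Q (y : ι → F) = b} = n)
    (hz : Nat.card {y : ↥W' // Q (y : ι → F) = 0} = z) :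
    Nat.card {v : ι → F // Q v = c ∧ v ∉ W₁} + Nat.card {x : ↥W₁ // Q (x : ι → F) = c} +
        Nat.card {x : ↥W₁ // Q (x : ι → F) = c} * n =
      Nat.card {x : ↥W₁ // Q (x : ι → F) = c} * z + Nat.card ↥W₁ * n := by
  classical
  letI : Fintype ↥W₁ := Fintype.ofFinite _
  have hT1 := o9hcsplit_inout Q W₁ c
  have hT2 := o9hcsplit_total Q W₁ W' hc horth c
  have hterm : ∀ x : ↥W₁, Nat.card {y : ↥W' // Q (y : ι → F) = c - Q (x : ι → F)} =
      if Q (x : ι → F) = c then z else n := by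
    intro x
    by_cases h : Q (x : ι → F) = c
    · rw [if_pos h, h, sub_self, hz]
    · rw [if_neg h]
      exact hn _ (sub_ne_zero.mpr (Ne.symm h))
  rw [Finset.sum_congr rfl (fun x _ => hterm x), Finset.sum_ite, Finset.sum_const, Finset.sum_const,
    smul_eq_mul, smul_eq_mul] at hT2
  have h3 : (Finset.univ.filter (fun x : ↥W₁ => Q (x : ι → F) = c)).card =
      Nat.card {x : ↥W₁ // Q (x : ι → F) = c} := by
    rw [Nat.card_eq_fintype_card, Fintype.card_subtype]
  have h5 := Finset.card_filter_add_card_filter_not (s := (Finset.univ : Finset ↥W₁))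
    (fun x : ↥W₁ => Q (x : ι → F) = c)
  rw [Finset.card_univ, ← Nat.card_eq_fintype_card] at h5
  rw [h3] at hT2 h5
  set k := Nat.card {x : ↥W₁ // Q (x : ι → F) = c} with hk
  set m := (Finset.univ.filter (fun x : ↥W₁ => ¬ Q (x : ι → F) = c)).card with hm
  have h6 : Nat.card ↥W₁ * n = k * n + m * n := by rw [← h5, Nat.add_mul]
  rw [h6]
  linarith

end Cfsg.Agent.Lib.Helper16.O9H
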