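import Mathlib
import Cfsg.Agent.Lib.Helper16.O9H.Defs
import Cfsg.Agent.Lib.Helper16.OCnt1
import Cfsg.Agent.Lib.Helper18.ONETYCLASS
import Cfsg.Agent.Lib.helper8.ONECM2A

set_option autoImplicit false
set_option linter.unusedVariables false
set_option linter.unusedSectionVars false

namespace Cfsg.Agent.Lib.Helper16.O9H

open Matrix Polynomial Module

variable {ι : Type} [Fintype ι] [DecidableEq ι] {F : Type*} [Field F]

/-- `B w w = c` for the polar form is `Q w = c / 2` -/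
theorem o9hctype_card (h2 : (2 : F) ≠ 0) (Q : QuadraticForm F (ι → F)) (W : Submodule F (ι → F)) (b : F) :
    Nat.card {w : ↥W // QuadraticMap.polarBilin Q (w : ι → F) (w : ι → F) = 2 * b} =
      Nat.card {y : ↥W // Q (y : ι → F) = b} := by
  apply Nat.card_congr
  apply Equiv.subtypeEquivRight
  intro w
  rw [QuadraticMap.polarBilin_apply_apply, QuadraticMap.polar_self, two_nsmul, ← two_mul]
  constructor
  · intro h
    exact mul_left_cancel₀ h2 h
  · intro h
    rw [h]

theorem type_count [Fintype F] (h2 : (2 : F) ≠ 0) (Q : QuadraticForm F (ι → F)) (W : Submodule F (ι → F))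
    (hnd : ∀ y ∈ W, (∀ z ∈ W, pol Q y z = 0) → y = 0) (e : ℕ) (he : 1 ≤ e) (hdim : finrank F ↥W = 2 * e) :
    ∃ ε : ℤ, (ε = 1 ∨ ε = -1) ∧
      (∀ b : F, b ≠ 0 → (Fintype.card F : ℤ) * (Nat.card {y : ↥W // Q (y : ι → F) = b} : ℤ) =
        (Fintype.card F : ℤ) ^ (2 * e) - ε * (Fintype.card F : ℤ) ^ e) ∧
      (Fintype.card F : ℤ) * (Nat.card {y : ↥W // Q (y : ι → F) = 0} : ℤ) =
        (Fintype.card F : ℤ) ^ (2 * e) + ε * ((Fintype.card F : ℤ) ^ (e + 1) - (Fintype.card F : ℤ) ^ e) := by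
  classical
  have hsymm : ∀ u v, QuadraticMap.polarBilin Q u v = QuadraticMap.polarBilin Q v u := by
    intro u v
    rw [QuadraticMap.polarBilin_apply_apply, QuadraticMap.polarBilin_apply_apply, QuadraticMap.polar_comm]
  have hW : Cfsg.Agent.Lib.Helper13.S5955.SND (QuadraticMap.polarBilin Q) W := by
    intro u hu h
    apply hnd u hu
    intro z hz
    have := h z hz
    rwa [QuadraticMap.polarBilin_apply_apply] at this
  have hev : Even (finrank F ↥W) := by rw [hdim]; exact even_two_mul e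
  have key : ∀ ε : ℤ, Cfsg.Agent.Lib.Helper18.ONE.OTy (QuadraticMap.polarBilin Q) W ε →
      (∀ b : F, b ≠ 0 → (Fintype.card F : ℤ) * (Nat.card {y : ↥W // Q (y : ι → F) = b} : ℤ) =
        (Fintype.card F : ℤ) ^ (2 * e) - ε * (Fintype.card F : ℤ) ^ e) ∧
      (Fintype.card F : ℤ) * (Nat.card {y : ↥W // Q (y : ι → F) = 0} : ℤ) =
        (Fintype.card F : ℤ) ^ (2 * e) + ε * ((Fintype.card F : ℤ) ^ (e + 1) - (Fintype.card F : ℤ) ^ e) := by
    intro ε hty
    constructor
    · intro b hb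
      have h := Cfsg.Agent.Lib.Helper18.ONE.onecm2_val_even h2 (QuadraticMap.polarBilin Q) hsymm W hW e he hdim ε hty
        (2 * b) (mul_ne_zero h2 hb)
      rw [o9hctype_card h2 Q W b] at h
      exact h
    · have h := hty
      unfold Cfsg.Agent.Lib.Helper18.ONE.OTy Cfsg.Agent.Lib.Helper16.OSemi.IsType Cfsg.Agent.Lib.Helper16.OSemi.cnt at h
      rw [hdim, Nat.mul_div_cancel_left e (by norm_num : 0 < 2)] at h
      have h0 := o9hctype_card h2 Q W 0
      rw [mul_zero] at h0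
      rw [h0] at h
      exact h
  rcases Cfsg.Agent.Lib.Helper18.ONE.ty_class h2 (QuadraticMap.polarBilin Q) hsymm W hW hev with ⟨_, hty⟩ | ⟨_, hty⟩
  · exact ⟨1, Or.inl rfl, key 1 hty⟩
  · exact ⟨-1, Or.inr rfl, key (-1) hty⟩

end Cfsg.Agent.Lib.Helper16.O9H
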