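import Mathlib
import Cfsg.Agent.Lib.Helper18.OPE.Defs
import Cfsg.Agent.Lib.Helper24.ElD
import Cfsg.Agent.Lib.Helper24.S5972SPLIT
import Cfsg.Agent.Lib.helper23.ONECYCLADDER
import Cfsg.Agent.Lib.helper17.ONENDSUPS
import Cfsg.Agent.Lib.helper17.OPEQTYSUM
import Cfsg.Agent.Lib.helper17.OPEQCTXO
import Cfsg.Agent.Lib.helper17.OPEQTYBOT
import Cfsg.Agent.Lib.Helper18.ONESPLITW

set_option autoImplicit false
set_option linter.unusedVariables false

namespace Cfsg.Agent.Lib.Helper18.OPE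

open Polynomial Module Cfsg.Agent.Lib.Helper13.S5955 Cfsg.Agent.Lib.helper15.S5972
open Cfsg.Agent.Lib.Helper18.ONE

/-- `c` is even and positive -/
theorem opesuffabs_c (i c : ℕ) (hi1 : 1 ≤ i) (hc : c = if Even i then i else 2 * i) :
    0 < c ∧ Even c := by
  by_cases hie : Even i
  · rw [if_pos hie] at hc
    subst hc
    exact ⟨hi1, hie⟩
  · rw [if_neg hie] at hc
    subst hc
    exact ⟨by omega, even_two_mul i⟩

theorem opesuffabs_sg_pm (i b : ℕ) : sg i b = 1 ∨ sg i b = -1 := by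
  unfold sg
  split_ifs
  · rcases Nat.even_or_odd b with hb | hb
    · left; exact hb.neg_one_pow
    · right; exact hb.neg_one_pow
  · left; rfl

theorem opesuffabs_sg_sq (i b : ℕ) : sg i b * sg i b = 1 := by
  rcases opesuffabs_sg_pm i b with h | h <;> rw [h] <;> norm_num

/-- a sign is determined by its product with a sign -/
theorem opesuffabs_cancel (a b t : ℤ) (ht : t = 1 ∨ t = -1) (h : a * t = b * t) : a = b := by
  rcases ht with rfl | rfl
  · simpa using h
  · simpa using h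

/-- two types of the same subspace are equal (any integers) -/
theorem opesuffabs_ty_eq {F : Type*} [Field F] [Fintype F] {V : Type*} [AddCommGroup V]
    [Module F V] (Q : QuadraticForm F V) (W : Submodule F V) (s t : ℤ)
    (h1 : QTy Q W s) (h2 : QTy Q W t) : s = t := by
  unfold QTy Cfsg.Agent.Lib.Helper16.OSemi.IsType at h1 h2
  set k := finrank F W / 2
  have hq : (2 : ℤ) ≤ (Fintype.card F : ℤ) := by exact_mod_cast Fintype.one_lt_card
  have h3 : s * ((Fintype.card F : ℤ) ^ (k + 1) - (Fintype.card F : ℤ) ^ k) =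
      t * ((Fintype.card F : ℤ) ^ (k + 1) - (Fintype.card F : ℤ) ^ k) := by linarith
  have h4 : (Fintype.card F : ℤ) ^ (k + 1) - (Fintype.card F : ℤ) ^ k ≠ 0 := by
    have h5 : (Fintype.card F : ℤ) ^ (k + 1) - (Fintype.card F : ℤ) ^ k =
        (Fintype.card F : ℤ) ^ k * ((Fintype.card F : ℤ) - 1) := by ring
    rw [h5]
    apply mul_ne_zero
    · exact pow_ne_zero _ (by linarith)
    · linarith
  exact mul_right_cancel₀ h4 h3

/-- the set-up shared by SUFFABS and NECABS: `V = fixS ⟂ cycS`, dimensions, and the type of `fixS` -/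
theorem opesuffabs_setup {F : Type*} [Field F] [Fintype F] {p : ℕ} [Fact p.Prime] [CharP F p]
    {V : Type*} [AddCommGroup V] [Module F V] [FiniteDimensional F V]
    {r : ℕ} [Fact r.Prime] (hrp : r ≠ p) (hr2 : r ≠ 2) {Q : QuadraticForm F V}
    {x : Module.End F V} (h : QCtx r Q x) (d : ℕ) (hV : finrank F V = 2 * d) (τ : ℤ)
    (hτ : QTy Q (⊤ : Submodule F V) τ) (i c : ℕ)
    (hi : i = orderOf ((Fintype.card F : ℕ) : ZMod r)) (hc : c = if Even i then i else 2 * i)
    (A : ℕ) (hA : finrank F (cycS r x) = c * A)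
    (hcyc : ∀ M : Submodule F V, SInv x M → SND (QuadraticMap.polarBilin Q) M → M ≤ cycS r x →
      c ∣ finrank F M ∧ QTy Q M (sg i (finrank F M / c)))
    :
    finrank F (fixS x) + c * A = 2 * d ∧ Even (finrank F (fixS x)) ∧
      (∀ t : ℤ, (t = 1 ∨ t = -1) → QTy Q (fixS x) t → t * sg i A = τ) := by
  have ho : OCtx r (QuadraticMap.polarBilin Q) x := qctx_octx h
  obtain ⟨horth, hcompl, hndfix, hndcyc⟩ := o_split (p := p) hrp ho
  have hi1 : 1 ≤ i := by
    rw [hi]
    exact Cfsg.Agent.Lib.Helper24.el_ord_pos (F := F) (p := p) r hrp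
  obtain ⟨hc0, hce⟩ := opesuffabs_c i c hi1 hc
  have hcycinv : SInv x (cycS r x) := Cfsg.Agent.Lib.Helper24.el_inv_ker x _
  have hfg : finrank F (fixS x) + finrank F (cycS r x) = 2 * d := by
    rw [← hV]
    exact Submodule.finrank_add_eq_of_isCompl hcompl
  rw [hA] at hfg
  have hfe : Even (finrank F (fixS x)) := by
    have h1 : Even (c * A) := hce.mul_right _
    have h2 : Even (2 * d) := even_two_mul d
    rw [← hfg] at h2
    exact (Nat.even_add.mp h2).mpr h1
  refine ⟨hfg, hfe, ?_⟩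
  intro t ht hty
  obtain ⟨-, hcty⟩ := hcyc (cycS r x) hcycinv hndcyc le_rfl
  rw [hA, Nat.mul_div_cancel_left A hc0] at hcty
  have hsum := qty_sum Q (fixS x) (cycS r x) hndfix hndcyc horth hfe
    (by rw [hA]; exact hce.mul_right _) t (sg i A) hty hcty
  rw [hcompl.sup_eq_top] at hsum
  exact opesuffabs_ty_eq Q ⊤ _ _ hsum hτ

theorem opesuffabs_core {F : Type*} [Field F] [Fintype F] {p : ℕ} [Fact p.Prime] [CharP F p]
    {V : Type*} [AddCommGroup V] [Module F V] [FiniteDimensional F V]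
    {r : ℕ} [Fact r.Prime] (hrp : r ≠ p) (hr2 : r ≠ 2) {Q : QuadraticForm F V}
    {x : Module.End F V} (h : QCtx r Q x) (d m : ℕ) (hV : finrank F V = 2 * d) (τ : ℤ)
    (hτ : QTy Q (⊤ : Submodule F V) τ) (hme : Even m) (i c : ℕ)
    (hi : i = orderOf ((Fintype.card F : ℕ) : ZMod r)) (hc : c = if Even i then i else 2 * i)
    (A : ℕ) (hA : finrank F (cycS r x) = c * A)
    (s : ℤ) (hs : s = 1 ∨ s = -1) (hfit : Fits c i τ d m s A)
    (hcyc : ∀ M : Submodule F V, SInv x M → SND (QuadraticMap.polarBilin Q) M → M ≤ cycS r x →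
      c ∣ finrank F M ∧ QTy Q M (sg i (finrank F M / c)))
    (hex : ∀ N : Submodule F V, SND (QuadraticMap.polarBilin Q) N → Even (finrank F N) →
      ∀ e : ℕ, Even e → 0 < e → e < finrank F N → ∀ s : ℤ, (s = 1 ∨ s = -1) →
        ∃ W : Submodule F V, W ≤ N ∧ SND (QuadraticMap.polarBilin Q) W ∧ finrank F W = e ∧ QTy Q W s)
    (hiff : ∀ W : Submodule F V, SND (QuadraticMap.polarBilin Q) W → Even (finrank F W) →
      (QHyp Q W ↔ QTy Q W 1) ∧ (¬ QHyp Q W ↔ QTy Q W (-1)) ∧ (QTy Q W 1 ∨ QTy Q W (-1)))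
    : QNDt Q x m s := by
  have ho : OCtx r (QuadraticMap.polarBilin Q) x := qctx_octx h
  obtain ⟨horth, hcompl, hndfix, hndcyc⟩ := o_split (p := p) hrp ho
  have hi1 : 1 ≤ i := by
    rw [hi]
    exact Cfsg.Agent.Lib.Helper24.el_ord_pos (F := F) (p := p) r hrp
  obtain ⟨hc0, hce⟩ := opesuffabs_c i c hi1 hc
  obtain ⟨hfg, hfe, hfty⟩ := opesuffabs_setup (p := p) hrp hr2 h d hV τ hτ i c hi hc A hA hcyc
  obtain ⟨b, hbA, hcbm, hcases⟩ := hfit
  have hbA' : c * b ≤ finrank F (cycS r x) := by rw [hA]; exact Nat.mul_le_mul_left c hbA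
  obtain ⟨M, hMc, hMinv, hMnd, hMdim⟩ :=
    o_nd_ladder (p := p) hrp hr2 ho i c hi hc b hbA'
  obtain ⟨-, hMty⟩ := hcyc M hMinv hMnd hMc
  rw [hMdim, Nat.mul_div_cancel_left b hc0] at hMty
  have hMev : Even (finrank F M) := by rw [hMdim]; exact hce.mul_right _
  have hsb : s * sg i b = 1 ∨ s * sg i b = -1 := by
    rcases opesuffabs_sg_pm i b with hb1 | hb1 <;> rcases hs with rfl | rfl <;> rw [hb1] <;> norm_num
  have hssb : s * sg i b * sg i b = s := by rw [mul_assoc, opesuffabs_sg_sq, mul_one]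
  have hee : Even (m - c * b) := by
    obtain ⟨m', hm'⟩ := hme
    obtain ⟨c', hc'⟩ := hce
    refine ⟨m' - c' * b, ?_⟩
    have h3 : c * b = c' * b + c' * b := by rw [hc']; ring
    rw [h3] at hcbm ⊢
    omega
  rcases hcases with ⟨hm, hsb'⟩ | ⟨hlt, hef⟩ | ⟨hlt, hef, hst⟩
  · exact ⟨M, hMinv, hMnd, by rw [hMdim, hm], by rw [hsb']; exact hMty⟩
  · -- a proper subspace of fixS
    have hef' : m - c * b < finrank F (fixS x) := by omega
    obtain ⟨W₁, hW₁f, hW₁nd, hW₁dim, hW₁ty⟩ :=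
      hex (fixS x) hndfix hfe (m - c * b) hee (by omega) hef' (s * sg i b) hsb
    have hort : SOrth (QuadraticMap.polarBilin Q) W₁ M :=
      fun u hu w hw => horth u (hW₁f hu) w (hMc hw)
    obtain ⟨hnd, _, hdim⟩ := nd_sup_symm (QuadraticMap.polarBilin Q) ho.symm W₁ M hW₁nd hMnd hort
    have hty' := qty_sum Q W₁ M hW₁nd hMnd hort (by rw [hW₁dim]; exact hee) hMev
      (s * sg i b) (sg i b) hW₁ty hMty
    rw [hssb] at hty'
    refine ⟨W₁ ⊔ M, ?_, hnd, ?_, hty'⟩
    · exact Cfsg.Agent.Lib.Helper24.el_inv_sup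
        (Cfsg.Agent.Lib.Helper24.el_inv_of_le_fix x W₁ hW₁f) hMinv
    · rw [hdim, hW₁dim, hMdim]
      omega
  · -- all of fixS
    have hef' : m - c * b = finrank F (fixS x) := by omega
    obtain ⟨-, -, hcl⟩ := hiff (fixS x) hndfix hfe
    have hfixty : QTy Q (fixS x) (s * sg i b) := by
      rcases hcl with h1 | h1
      · have := hfty 1 (Or.inl rfl) h1
        have h3 : s * sg i b = 1 := by
          have h4 : s * sg i b * sg i A = 1 * sg i A := by rw [hst, mul_assoc, opesuffabs_sg_sq, mul_one, this]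
          exact opesuffabs_cancel _ _ _ (opesuffabs_sg_pm i A) h4
        rw [h3]; exact h1
      · have := hfty (-1) (Or.inr rfl) h1
        have h3 : s * sg i b = -1 := by
          have h4 : s * sg i b * sg i A = -1 * sg i A := by rw [hst, mul_assoc, opesuffabs_sg_sq, mul_one, this]
          exact opesuffabs_cancel _ _ _ (opesuffabs_sg_pm i A) h4
        rw [h3]; exact h1
    have hort : SOrth (QuadraticMap.polarBilin Q) (fixS x) M :=
      fun u hu w hw => horth u hu w (hMc hw)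
    obtain ⟨hnd, _, hdim⟩ :=
      nd_sup_symm (QuadraticMap.polarBilin Q) ho.symm (fixS x) M hndfix hMnd hort
    have hty' := qty_sum Q (fixS x) M hndfix hMnd hort hfe hMev (s * sg i b) (sg i b) hfixty hMty
    rw [hssb] at hty'
    refine ⟨fixS x ⊔ M, ?_, hnd, ?_, hty'⟩
    · exact Cfsg.Agent.Lib.Helper24.el_inv_sup
        (Cfsg.Agent.Lib.Helper24.el_inv_of_le_fix x (fixS x) le_rfl) hMinv
    · rw [hdim, hMdim, ← hef']
      omega

theorem openecabs_core {F : Type*} [Field F] [Fintype F] {p : ℕ} [Fact p.Prime] [CharP F p]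
    {V : Type*} [AddCommGroup V] [Module F V] [FiniteDimensional F V]
    {r : ℕ} [Fact r.Prime] (hrp : r ≠ p) (hr2 : r ≠ 2) {Q : QuadraticForm F V}
    {x : Module.End F V} (h : QCtx r Q x) (d m : ℕ) (hV : finrank F V = 2 * d) (τ : ℤ)
    (hτ : QTy Q (⊤ : Submodule F V) τ) (hme : Even m) (i c : ℕ)
    (hi : i = orderOf ((Fintype.card F : ℕ) : ZMod r)) (hc : c = if Even i then i else 2 * i)
    (A : ℕ) (hA : finrank F (cycS r x) = c * A)
    (s : ℤ) (hs : s = 1 ∨ s = -1) (hW : QNDt Q x m s)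
    (hcyc : ∀ M : Submodule F V, SInv x M → SND (QuadraticMap.polarBilin Q) M → M ≤ cycS r x →
      c ∣ finrank F M ∧ QTy Q M (sg i (finrank F M / c)))
    (hex : ∀ N : Submodule F V, SND (QuadraticMap.polarBilin Q) N → Even (finrank F N) →
      ∀ e : ℕ, Even e → 0 < e → e < finrank F N → ∀ s : ℤ, (s = 1 ∨ s = -1) →
        ∃ W : Submodule F V, W ≤ N ∧ SND (QuadraticMap.polarBilin Q) W ∧ finrank F W = e ∧ QTy Q W s)
    (hiff : ∀ W : Submodule F V, SND (QuadraticMap.polarBilin Q) W → Even (finrank F W) →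
      (QHyp Q W ↔ QTy Q W 1) ∧ (¬ QHyp Q W ↔ QTy Q W (-1)) ∧ (QTy Q W 1 ∨ QTy Q W (-1)))
    : Fits c i τ d m s A := by
  have ho : OCtx r (QuadraticMap.polarBilin Q) x := qctx_octx h
  obtain ⟨horth, hcompl, hndfix, hndcyc⟩ := o_split (p := p) hrp ho
  have hi1 : 1 ≤ i := by
    rw [hi]
    exact Cfsg.Agent.Lib.Helper24.el_ord_pos (F := F) (p := p) r hrp
  obtain ⟨hc0, hce⟩ := opesuffabs_c i c hi1 hc
  obtain ⟨hfg, hfe, hfty⟩ := opesuffabs_setup (p := p) hrp hr2 h d hV τ hτ i c hi hc A hA hcyc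
  obtain ⟨W, hWinv, hWnd, hWdim, hWty⟩ := hW
  obtain ⟨hnd0, hnd1, hinv1, hsup, hdim⟩ := o_split_w (p := p) hrp ho W hWinv hWnd
  obtain ⟨⟨b, hb⟩, hW1ty⟩ :=
    hcyc (W ⊓ cycS r x) hinv1 hnd1 inf_le_right
  rw [hb, Nat.mul_div_cancel_left b hc0] at hW1ty
  have hbA : b ≤ A := by
    have h1 : finrank F ↥(W ⊓ cycS r x) ≤ finrank F (cycS r x) := Submodule.finrank_mono inf_le_right
    rw [hb, hA] at h1
    exact Nat.le_of_mul_le_mul_left h1 hc0
  have hle : finrank F ↥(W ⊓ fixS x) ≤ finrank F (fixS x) := Submodule.finrank_mono inf_le_right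
  set w0 := finrank F ↥(W ⊓ fixS x) with hw0
  have hmw : m = w0 + c * b := by rw [← hWdim, hdim, hb]
  have hw0e : Even w0 := by
    obtain ⟨m', hm'⟩ := hme
    obtain ⟨c', hc'⟩ := hce
    refine ⟨m' - c' * b, ?_⟩
    have h3 : c * b = c' * b + c' * b := by rw [hc']; ring
    omega
  have hW1e : Even (finrank F ↥(W ⊓ cycS r x)) := by rw [hb]; exact hce.mul_right _
  have hort : SOrth (QuadraticMap.polarBilin Q) (W ⊓ fixS x) (W ⊓ cycS r x) :=
    fun u hu w hw => horth u hu.2 w hw.2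
  refine ⟨b, hbA, by omega, ?_⟩
  by_cases h0 : w0 = 0
  · left
    refine ⟨by omega, ?_⟩
    have hbot : W ⊓ fixS x = ⊥ := Submodule.finrank_eq_zero.mp (by rw [← hw0]; exact h0)
    rw [hbot, bot_sup_eq] at hsup
    rw [hsup] at hW1ty
    exact opesuffabs_ty_eq Q W _ _ hWty hW1ty
  · right
    by_cases hlt : w0 < finrank F (fixS x)
    · left
      exact ⟨by omega, by omega⟩
    · right
      have heq : w0 = finrank F (fixS x) := by omega
      refine ⟨by omega, by omega, ?_⟩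
      have hWf : W ⊓ fixS x = fixS x :=
        Submodule.eq_of_le_of_finrank_eq inf_le_right (by rw [← hw0]; exact heq)
      obtain ⟨-, -, hcl⟩ := hiff (fixS x) hndfix hfe
      have key : ∀ t : ℤ, (t = 1 ∨ t = -1) → QTy Q (fixS x) t → s * sg i b = τ * sg i A := by
        intro t ht hty
        have h1 := hfty t ht hty
        have hsum := qty_sum Q (W ⊓ fixS x) (W ⊓ cycS r x) hnd0 hnd1 hort
          (by rw [← hw0]; exact hw0e) hW1e t (sg i b) (by rw [hWf]; exact hty) hW1ty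
        rw [hsup] at hsum
        have h2 : t * sg i b = s := opesuffabs_ty_eq Q W _ _ hsum hWty
        rw [← h2, ← h1]
        have := opesuffabs_sg_sq i b
        have := opesuffabs_sg_sq i A
        rw [mul_assoc, opesuffabs_sg_sq, mul_one, mul_assoc, opesuffabs_sg_sq, mul_one]
      rcases hcl with h1 | h1
      · exact key 1 (Or.inl rfl) h1
      · exact key (-1) (Or.inr rfl) h1

end Cfsg.Agent.Lib.Helper18.OPE
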