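import Mathlib
import Cfsg.Agent.Lib.Helper18.OPESUFFABScore
import Cfsg.Agent.Lib.helper17.OPEQCYCTY
import Cfsg.Agent.Lib.helper17.OPEQTYCLASS
import Cfsg.Agent.Lib.helper17.OPEQTYEX

set_option autoImplicit false

/-!
# Project OPE, rows SUFFABS (`q_suff_abs`) and NECABS (`q_nec_abs`), verbatim: the cores of `OPESUFFABScore.lean`
with QCYCTY, QTYEX, QTYIFF (helper17) plugged in.
-/

namespace Cfsg.Agent.Lib.Helper18.OPE

open Polynomial Module Cfsg.Agent.Lib.Helper13.S5955 Cfsg.Agent.Lib.helper15.S5972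

/-- SUFFABS [L] -/
theorem q_suff_abs {F : Type*} [Field F] [Fintype F] {p : ℕ} [Fact p.Prime] [CharP F p]
    {V : Type*} [AddCommGroup V] [Module F V] [FiniteDimensional F V]
    {r : ℕ} [Fact r.Prime] (hrp : r ≠ p) (hr2 : r ≠ 2) {Q : QuadraticForm F V}
    {x : Module.End F V} (h : QCtx r Q x) (d m : ℕ) (hV : finrank F V = 2 * d) (τ : ℤ)
    (hτ : QTy Q (⊤ : Submodule F V) τ) (hme : Even m) (i c : ℕ)
    (hi : i = orderOf ((Fintype.card F : ℕ) : ZMod r)) (hc : c = if Even i then i else 2 * i)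
    (A : ℕ) (hA : finrank F (cycS r x) = c * A)
    (s : ℤ) (hs : s = 1 ∨ s = -1) (hfit : Fits c i τ d m s A) : QNDt Q x m s :=
  opesuffabs_core (p := p) hrp hr2 h d m hV τ hτ hme i c hi hc A hA s hs hfit
    (fun M h1 h2 h3 => q_cyc_ty hrp hr2 h i c hi hc M h1 h2 h3)
    (fun N hN hev e he he0 heN s hs => qty_ex Q N hN hev e he he0 heN s hs)
    (fun W hW hev => qty_iff Q W hW hev)

/-- NECABS [L] -/
theorem q_nec_abs {F : Type*} [Field F] [Fintype F] {p : ℕ} [Fact p.Prime] [CharP F p]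
    {V : Type*} [AddCommGroup V] [Module F V] [FiniteDimensional F V]
    {r : ℕ} [Fact r.Prime] (hrp : r ≠ p) (hr2 : r ≠ 2) {Q : QuadraticForm F V}
    {x : Module.End F V} (h : QCtx r Q x) (d m : ℕ) (hV : finrank F V = 2 * d) (τ : ℤ)
    (hτ : QTy Q (⊤ : Submodule F V) τ) (hme : Even m) (i c : ℕ)
    (hi : i = orderOf ((Fintype.card F : ℕ) : ZMod r)) (hc : c = if Even i then i else 2 * i)
    (A : ℕ) (hA : finrank F (cycS r x) = c * A)
    (s : ℤ) (hs : s = 1 ∨ s = -1) (hW : QNDt Q x m s) : Fits c i τ d m s A :=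
  openecabs_core (p := p) hrp hr2 h d m hV τ hτ hme i c hi hc A hA s hs hW
    (fun M h1 h2 h3 => q_cyc_ty hrp hr2 h i c hi hc M h1 h2 h3)
    (fun N hN hev e he he0 heN s hs => qty_ex Q N hN hev e he he0 heN s hs)
    (fun W hW hev => qty_iff Q W hW hev)

end Cfsg.Agent.Lib.Helper18.OPE
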