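import Mathlib
import Cfsg.Agent.Lib.Helper18.PRL.Defs

set_option autoImplicit false

namespace Cfsg.Agent.Lib.Helper18.PRL

open scoped commutatorElement

theorem h18_class_two_cube_aux {X : Type*} [Group X] (v t c : X) (hc : ∀ g : X, g * c = c * g)
    (e : t * v = c * (v * t)) : (v * t) ^ 3 = v ^ 3 * t ^ 3 * c ^ 3 := by
  have e2 : t * t * v = c * c * (v * (t * t)) := by
    calc t * t * v = t * (t * v) := by group
      _ = t * (c * (v * t)) := by rw [e]
      _ = (t * c) * (v * t) := by group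
      _ = (c * t) * (v * t) := by rw [hc t]
      _ = c * (t * v) * t := by group
      _ = c * (c * (v * t)) * t := by rw [e]
      _ = c * c * (v * (t * t)) := by group
  have hc2 : ∀ g : X, g * (c * c) = (c * c) * g := by
    intro g
    calc g * (c * c) = (g * c) * c := by group
      _ = (c * g) * c := by rw [hc g]
      _ = c * (g * c) := by group
      _ = c * (c * g) := by rw [hc g]
      _ = (c * c) * g := by group
  have hc3 : ∀ g : X, g * (c * c * c) = (c * c * c) * g := by
    intro g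
    calc g * (c * c * c) = (g * (c * c)) * c := by group
      _ = ((c * c) * g) * c := by rw [hc2 g]
      _ = (c * c) * (g * c) := by group
      _ = (c * c) * (c * g) := by rw [hc g]
      _ = (c * c * c) * g := by group
  calc (v * t) ^ 3 = v * (t * v) * (t * v) * t := by simp only [pow_succ, pow_zero, one_mul, mul_assoc]
    _ = v * (c * (v * t)) * (t * v) * t := by rw [e]
    _ = (v * c) * v * (t * t * v) * t := by group
    _ = (c * v) * v * (c * c * (v * (t * t))) * t := by rw [hc v, e2]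
    _ = c * ((v * v) * (c * c)) * (v * (t * t)) * t := by group
    _ = c * ((c * c) * (v * v)) * (v * (t * t)) * t := by rw [hc2 (v * v)]
    _ = (c * c * c) * ((v * v * v) * (t * t * t)) := by group
    _ = (v * v * v) * (t * t * t) * (c * c * c) := (hc3 _).symm
    _ = v ^ 3 * t ^ 3 * c ^ 3 := by simp only [pow_succ, pow_zero, one_mul, mul_assoc]

/-- PRL-CL2 -/
theorem class_two_cube {X : Type*} [Group X] (v t : X) (h : ⁅t, v⁆ ∈ Subgroup.center X) :
    (v * t) ^ 3 = v ^ 3 * t ^ 3 * ⁅t, v⁆ ^ 3 := by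
  have hc : ∀ g : X, g * ⁅t, v⁆ = ⁅t, v⁆ * g := fun g => Subgroup.mem_center_iff.mp h g
  have e : t * v = ⁅t, v⁆ * (v * t) := by
    rw [commutatorElement_def]; group
  exact h18_class_two_cube_aux v t _ hc e

theorem h18_cube_identity {X : Type*} [Group X] (s x y z : X) (e1 : s * x = y * x * s)
    (e2 : s * y = z * y * s) (hcomm : (s * s * s) * x = x * (s * s * s)) :
    (s * x) ^ 3 = (y * x) * (z * y * (y * x)) * x * (s * s * s) := by
  have e3 : s * s * x = z * y * (y * x) * (s * s) := by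
    calc s * s * x = s * (s * x) := by group
      _ = s * (y * x * s) := by rw [e1]
      _ = (s * y) * (x * s) := by group
      _ = (z * y * s) * (x * s) := by rw [e2]
      _ = z * y * (s * x) * s := by group
      _ = z * y * (y * x * s) * s := by rw [e1]
      _ = z * y * (y * x) * (s * s) := by group
  calc (s * x) ^ 3 = (s * x) * (s * x) * (s * x) := by simp only [pow_succ, pow_zero, one_mul, mul_assoc]
    _ = (y * x * s) * (s * x) * (s * x) := by rw [e1]
    _ = y * x * (s * s * x) * (s * x) := by group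
    _ = y * x * (z * y * (y * x) * (s * s)) * (s * x) := by rw [e3]
    _ = y * x * (z * y * (y * x)) * ((s * s * s) * x) := by group
    _ = y * x * (z * y * (y * x)) * (x * (s * s * s)) := by rw [hcomm]
    _ = (y * x) * (z * y * (y * x)) * x * (s * s * s) := by group

/-- PRL-CUBE -/
theorem cube_rel {X : Type*} [Group X] (A : Subgroup X) [A.Normal] (s x : X)
    (hs : s ^ 3 ∈ Subgroup.center X) (hsA : s ^ 3 ∈ A) (hsx : (s * x) ^ 3 ∈ A)
    (h1 : ⁅x, ⁅s, x⁆⁆ ∈ A) (h2 : ⁅x, ⁅s, ⁅s, x⁆⁆⁆ ∈ A) (h3 : ⁅⁅s, x⁆, ⁅s, ⁅s, x⁆⁆⁆ ∈ A) :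
    x ^ 3 * ⁅s, x⁆ ^ 3 * ⁅s, ⁅s, x⁆⁆ ∈ A := by
  have hs3 : s ^ 3 = s * s * s := by simp only [pow_succ, pow_zero, one_mul]
  rw [hs3] at hs hsA
  have hcomm : (s * s * s) * x = x * (s * s * s) := (Subgroup.mem_center_iff.mp hs x).symm
  have e1 : s * x = ⁅s, x⁆ * x * s := by rw [commutatorElement_def]; group
  have e2 : s * ⁅s, x⁆ = ⁅s, ⁅s, x⁆⁆ * ⁅s, x⁆ * s := by
    rw [commutatorElement_def s ⁅s, x⁆]; group
  have hid := h18_cube_identity s x ⁅s, x⁆ ⁅s, ⁅s, x⁆⁆ e1 e2 hcomm
  generalize ⁅s, ⁅s, x⁆⁆ = z at *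
  generalize ⁅s, x⁆ = y at *
  -- pass to the quotient
  have hk : ∀ g : X, (QuotientGroup.mk' A) g = 1 ↔ g ∈ A := fun g => QuotientGroup.eq_one_iff g
  have c1 : Commute ((QuotientGroup.mk' A) x) ((QuotientGroup.mk' A) y) := by
    have : (QuotientGroup.mk' A) ⁅x, y⁆ = 1 := (hk _).mpr h1
    rw [map_commutatorElement, commutatorElement_eq_one_iff_mul_comm] at this
    exact this
  have c2 : Commute ((QuotientGroup.mk' A) x) ((QuotientGroup.mk' A) z) := by
    have : (QuotientGroup.mk' A) ⁅x, z⁆ = 1 := (hk _).mpr h2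
    rw [map_commutatorElement, commutatorElement_eq_one_iff_mul_comm] at this
    exact this
  have c3 : Commute ((QuotientGroup.mk' A) y) ((QuotientGroup.mk' A) z) := by
    have : (QuotientGroup.mk' A) ⁅y, z⁆ = 1 := (hk _).mpr h3
    rw [map_commutatorElement, commutatorElement_eq_one_iff_mul_comm] at this
    exact this
  rw [← hk]
  have h4 : (QuotientGroup.mk' A) ((s * x) ^ 3) = 1 := (hk _).mpr hsx
  have h5 : (QuotientGroup.mk' A) (s * s * s) = 1 := (hk _).mpr hsA
  rw [hid, map_mul, h5, mul_one] at h4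
  simp only [map_mul, map_pow] at h4 ⊢
  generalize (QuotientGroup.mk' A) x = a at *
  generalize (QuotientGroup.mk' A) y = b at *
  generalize (QuotientGroup.mk' A) z = c at *
  have e : a ^ 3 * b ^ 3 * c = b * a * (c * b * (b * a)) * a := by
    have hba : b * a = a * b := c1.eq.symm
    have hca : c * a = a * c := c2.eq.symm
    have hcb : c * b = b * c := c3.eq.symm
    have r1 : ∀ r : X ⧸ A, b * (a * r) = a * (b * r) := fun r => by
      rw [← mul_assoc, hba, mul_assoc]
    have r2 : ∀ r : X ⧸ A, c * (a * r) = a * (c * r) := fun r => by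
      rw [← mul_assoc, hca, mul_assoc]
    have r3 : ∀ r : X ⧸ A, c * (b * r) = b * (c * r) := fun r => by
      rw [← mul_assoc, hcb, mul_assoc]
    simp only [pow_succ, pow_zero, one_mul, mul_assoc, r1, r2, r3, hba, hca, hcb]
  rw [e]; exact h4

end Cfsg.Agent.Lib.Helper18.PRL
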