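import Mathlib
import Cfsg.Agent.Lib.helper14.SQD.Defs
import Cfsg.Agent.Lib.Helper18.SQDX2

/-!
Project SQD (designer helper14), rows X7 (`good2_of_card`), X9 (`good2_sub`).
-/

set_option autoImplicit false

namespace Cfsg.Agent.Lib.helper14.SQD

open Matrix

universe u v

/-- X7 [E-M]. -/
theorem good2_of_card {G : Type u} [Group G] [Finite G] (U : Subgroup G) (k r : ℕ)
    (hp : IsPGroup 2 U) (hU : 2 ^ k ≤ Nat.card U) (hG : Nat.card G = 2 ^ k * r) (hr : ¬ 2 ∣ r)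
    (hS : SqD U) : Good2 G := by
  refine ⟨U, hp, ?_, hS⟩
  have : Fact (Nat.Prime 2) := ⟨Nat.prime_two⟩
  obtain ⟨j, hj⟩ := IsPGroup.iff_card.mp hp
  have hkj : k ≤ j := by
    rw [hj] at hU
    exact (Nat.pow_le_pow_iff_right (by norm_num)).mp hU
  have hmul : Nat.card U * U.index = 2 ^ k * r := by rw [Subgroup.card_mul_index, hG]
  rw [hj] at hmul
  intro h2
  apply hr
  obtain ⟨i, hi⟩ := Nat.exists_eq_add_of_le hkj
  rw [hi, pow_add, mul_assoc] at hmul
  have h3 : 2 ^ i * U.index = r := Nat.eq_of_mul_eq_mul_left (by positivity) hmul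
  rw [← h3]
  exact Dvd.dvd.mul_left h2 _

/-- X9 [E-M]. -/
theorem good2_sub {G : Type u} [Group G] (M U : Subgroup G) [Finite M] (hUM : U ≤ M) (k r : ℕ)
    (hp : IsPGroup 2 U) (hU : 2 ^ k ≤ Nat.card U) (hM : Nat.card M = 2 ^ k * r) (hr : ¬ 2 ∣ r)
    (hS : SqD U) : Good2 ↥M := by
  have e : ↥(U.subgroupOf M) ≃* ↥U := Subgroup.subgroupOfEquivOfLe hUM
  have hp' : IsPGroup 2 ↥(U.subgroupOf M) := hp.of_equiv e.symm
  have hc : Nat.card ↥(U.subgroupOf M) = Nat.card ↥U := Nat.card_congr e.toEquiv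
  exact good2_of_card (U.subgroupOf M) k r hp' (by rw [hc]; exact hU) hM hr
    (sqd_subgroupOf M U hUM hS)

end Cfsg.Agent.Lib.helper14.SQD
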