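import Mathlib
import Cfsg.Agent.Lib.helper15.St2
import Cfsg.Agent.Lib.helper7.StA
import Cfsg.Agent.Lib.helper7.StC
import Cfsg.Agent.Lib.helper7.StE
import Cfsg.Agent.Lib.Helper24.STCI1
import Cfsg.Agent.Lib.helper23.STCX2
import Cfsg.Agent.Lib.Helper27.STU.Defs
import Cfsg.Agent.Lib.Helper27.STU.Defs2
import Cfsg.Agent.Lib.Helper27.STU.Defs3
import Cfsg.Agent.Lib.Helper27.STU.Sub
import Cfsg.Agent.Lib.Helper18.STUR4
import Cfsg.Agent.Lib.Helper18.STUR5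

/-!
# Project STU (S2291, designer helper27), rows R6 (`Pg_col Lg_col' Phat_lineStab Yg_col_ng Yg_apply`) and R7 (`Yg_col`)
(helper18), VERBATIM vs `Helper27/STU/Skel4.lean.txt`.  On `Helper18.STUR4`, `Helper18.STUR5` only.
-/

set_option autoImplicit false

namespace Cfsg.Agent.Lib.Helper27.STU

open Cfsg.Agent.Lib.helper15.St2 Cfsg.Agent.Lib.helper7.St Cfsg.Agent.Lib.helper3.STC

universe u v w w₀

namespace SysU

namespace Rep

variable {F : Type*} [Field F] [StarRing F] {od : Prop} {ι : Type*} {G : Type*} [Group G] {S : SysU F od ι G}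
  {V : Type*} [AddCommGroup V] [Module F V] (R : S.Rep V)

variable (o : ι ⊕ ι)

/-- R6 [S-M] -/
theorem Pg_col : ∀ p ∈ S.Pg o, R.φ p (R.fr o) = R.fr o := by
  unfold Pg
  apply XQ_colStab R
  intro a b _ hQ
  exact ⟨hQ.1, fun e => hQ.2 (by rw [← e, ng_ng])⟩

theorem Lg_col' : ∀ x ∈ S.Lg o, R.φ x (R.fr (ng o)) = R.fr (ng o) := by
  unfold Lg
  apply XQ_colStab R
  intro a b _ hQ
  exact ⟨hQ.2.2, fun e => hQ.1.1 (ng_inj.1 e)⟩

/-- the stabiliser of the line of `fr o` -/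
def stur6_lineStab : Subgroup G where
  carrier := {g | ∃ c : F, c ≠ 0 ∧ R.φ g (R.fr o) = c • R.fr o}
  mul_mem' := by
    rintro g g' ⟨c, hc, h⟩ ⟨c', hc', h'⟩
    refine ⟨c' * c, mul_ne_zero hc' hc, ?_⟩
    rw [stur4_phi_mul_apply, h', map_smul, h, smul_smul]
  one_mem' := ⟨1, one_ne_zero, by rw [stur4_phi_one_apply, one_smul]⟩
  inv_mem' := by
    rintro g ⟨c, hc, h⟩
    refine ⟨c⁻¹, inv_ne_zero hc, ?_⟩
    have h2 : R.φ g (c⁻¹ • R.fr o) = R.fr o := by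
      rw [map_smul, h, smul_smul, inv_mul_cancel₀ hc, one_smul]
    exact stur4_phi_inv_apply R h2

theorem Phat_lineStab : ∀ p ∈ S.Phat o, ∃ c : F, c ≠ 0 ∧ R.φ p (R.fr o) = c • R.fr o := by
  have hle : S.Phat o ≤ stur6_lineStab R o := by
    unfold Phat
    apply sup_le
    · intro p hp
      exact ⟨1, one_ne_zero, by rw [Pg_col R o p hp, one_smul]⟩
    · unfold Hg
      rw [Subgroup.closure_le]
      rintro g (⟨b, t, hb, hb', ht, rfl⟩ | ⟨ξ, η, hξ, hη, rfl⟩)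
      · exact ⟨t, ht, phi_hs_fst R hb.symm (fun e => hb' (by rw [e, ng_ng])) t ht⟩
      · exact ⟨ξ.c / η.c, div_ne_zero hξ hη, phi_hl_fst R o hξ hη⟩
  exact fun p hp => hle hp

theorem Yg_col_ng : ∀ y ∈ S.Yg o, R.φ y (R.fr (ng o)) = R.fr (ng o) := by
  unfold Yg
  apply XQ_colStab R
  rintro a b hab rfl
  exact ⟨ne_ng b, fun e => hab (ng_inj.1 e)⟩

theorem Yg_apply {y : G} (hy : y ∈ S.Yg o) : R.B (R.φ y (R.fr o)) (R.fr (ng o)) = 1 := by
  have h := R.iso y (R.fr o) (R.fr (ng o))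
  rw [Yg_col_ng R o y hy, R.gram1] at h
  exact h

/-- `Yg o` fixes `fr (ng o)` and has the shape `x + r • fr (ng o)` on the hyperplane -/
theorem stur7_aux : ∀ y ∈ S.Yg o, R.φ y (R.fr (ng o)) = R.fr (ng o) ∧
    ∀ x, R.B x (R.fr (ng o)) = 0 → ∃ r : F, R.φ y x = x + r • R.fr (ng o) := by
  have hyp : ∀ (x : V) (r : F), R.B x (R.fr (ng o)) = 0 → R.B (x + r • R.fr (ng o)) (R.fr (ng o)) = 0 := by
    intro x r hx
    rw [R.B_add_left, R.B_smul_left, hx, stur4_gram0', mul_zero, add_zero]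
  intro y hy
  refine ⟨Yg_col_ng R o y hy, ?_⟩
  unfold Yg XQ at hy
  induction hy using Subgroup.closure_induction with
  | mem g hg =>
    intro x hx
    rcases hg with ⟨a, b, t, hab, hab', rfl, rfl⟩ | ⟨a, ξ, hQ, rfl⟩
    · refine ⟨-(star t * R.B x (R.fr a)), ?_⟩
      rw [R.hxs a b hab hab', hx, mul_zero, zero_smul, add_zero, neg_smul, sub_eq_add_neg]
    · have ha : a = ng o := by rw [← hQ, ng_ng]
      subst ha
      refine ⟨ξ.v * R.B x R.dv, ?_⟩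
      rw [R.hxl, hx, mul_zero, mul_zero, add_zero, zero_smul, sub_zero]
  | one => exact fun x _ => ⟨0, by rw [stur4_phi_one_apply, zero_smul, add_zero]⟩
  | mul y y' hy1 hy2 ihy ihy' =>
    intro x hx
    obtain ⟨r', hr'⟩ := ihy' x hx
    obtain ⟨r, hr⟩ := ihy _ (hyp x r' hx)
    refine ⟨r' + r, ?_⟩
    rw [stur4_phi_mul_apply, hr', hr, add_smul, add_assoc]
  | inv y hy1 ihy =>
    intro x hx
    have hfix : R.φ y (R.fr (ng o)) = R.fr (ng o) := Yg_col_ng R o y hy1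
    obtain ⟨r, hr⟩ := ihy x hx
    refine ⟨-r, ?_⟩
    apply stur4_phi_inv_apply R
    rw [map_add, map_smul, hr, hfix, neg_smul, add_neg_cancel_right]

/-- R7 [M] -/
theorem Yg_col : ∀ y ∈ S.Yg o, ∀ x, R.B x (R.fr (ng o)) = 0 → ∃ r : F, R.φ y x = x + r • R.fr (ng o) :=
  fun y hy => (stur7_aux R o y hy).2

end Rep

end SysU

end Cfsg.Agent.Lib.Helper27.STU
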