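import Mathlib
import Cfsg.Prelude.Def_GeometricClasses
import Cfsg.Agent.Lib.Helper27.ASC.Defs
import Cfsg.Agent.Lib.Lead.ASCU.Defs
import Cfsg.Agent.Lib.Helper28.Herm
import Cfsg.Agent.Lib.Helper18.ASCNOSYMP

set_option autoImplicit false
set_option linter.unusedVariables false

/-! ASCU piece UFRAME (helper18) -/

namespace Cfsg.Agent.Lib.Lead.ASCU

open Cfsg Cfsg.Geo Cfsg.Agent.Lib.Helper27.ASC
open scoped MatrixGroups Matrix

variable {n : ℕ} {F : Type*} [Field F] [Fintype F]

/-- UFRAME -/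
theorem uframe_of_lines {r : ℕ} (hr : r.Prime) (hr2 : r ≠ 2) (q : ℕ) (hF : Fintype.card F = q ^ 2)
    {H N : Subgroup (GL (Fin r) F)} (hHU : H ≤ GU r F q) (hH : Irr H) (hN : NormalIn N H)
    (D : Fin r → Submodule F (Fin r → F)) (χ : Fin r → GL (Fin r) F → F)
    (hD : IsMDecomposition 1 D) (hHD : H ≤ decompositionStabilizer D)
    (hχ : ∀ i, ∀ x ∈ N, ∀ v ∈ D i, (x : Matrix (Fin r) (Fin r) F) *ᵥ v = χ i x • v)
    (hne : ∀ i j, i ≠ j → ∃ x ∈ N, χ i x ≠ χ j x) :
    IsNondegenerateMDecomposition (hermForm r F q) 1 D := by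
  classical
  have hq0 : q ≠ 0 := by
    intro h
    rw [h] at hF
    have : 0 < Fintype.card F := Fintype.card_pos
    simp at hF
  have hqq : ∀ a : F, (a ^ q) ^ q = a := by
    intro a
    rw [← pow_mul, ← sq, ← hF]
    exact FiniteField.pow_card a
  have hfrobinj : ∀ a b : F, a ^ q = b ^ q → a = b := by
    intro a b h
    rw [← hqq a, ← hqq b, h]
  -- generators of the lines
  have hline : ∀ i, ∃ d : Fin r → F, d ≠ 0 ∧ D i = Submodule.span F {d} := by
    intro i
    obtain ⟨d, hd0, hd⟩ := finrank_eq_one_iff'.mp (hD.finrank_eq i)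
    refine ⟨(d : Fin r → F), fun h => hd0 (Subtype.ext h), ?_⟩
    apply le_antisymm
    · intro w hw
      obtain ⟨c, hc⟩ := hd ⟨w, hw⟩
      rw [Submodule.mem_span_singleton]
      exact ⟨c, by simpa using congrArg Subtype.val hc⟩
    · rw [Submodule.span_singleton_le_iff_mem]
      exact d.2
  choose d hd0 hdspan using hline
  have hdmem : ∀ i, d i ∈ D i := fun i => by
    rw [hdspan i]; exact Submodule.mem_span_singleton_self _
  have hrepr : ∀ i, ∀ w ∈ D i, ∃ a : F, w = a • d i := by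
    intro i w hw
    rw [hdspan i, Submodule.mem_span_singleton] at hw
    obtain ⟨a, ha⟩ := hw
    exact ⟨a, ha.symm⟩
  -- abbreviations for the form
  have fsl : ∀ (c : F) (x z : Fin r → F), hermForm r F q (c • x) z = c * hermForm r F q x z :=
    Cfsg.Agent.Lib.Helper28.Herm.herm_smul_left r q
  have fsr : ∀ (c : F) (x z : Fin r → F), hermForm r F q x (c • z) = c ^ q * hermForm r F q x z :=
    Cfsg.Agent.Lib.Helper28.Herm.herm_smul_right r q
  have far : ∀ (x y z : Fin r → F), hermForm r F q x (y + z) =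
      hermForm r F q x y + hermForm r F q x z :=
    Cfsg.Agent.Lib.Helper28.Herm.herm_add_right hF r
  have fsym : ∀ (x y : Fin r → F), hermForm r F q y x = (hermForm r F q x y) ^ q :=
    Cfsg.Agent.Lib.Helper28.Herm.herm_symm hF r
  have fz : ∀ z : Fin r → F, hermForm r F q z 0 = 0 :=
    Cfsg.Agent.Lib.Helper28.Herm.herm_zero_right r q hq0
  -- every `d i` pairs non-trivially with some `d j`
  have hex : ∀ i, ∃ j, hermForm r F q (d i) (d j) ≠ 0 := by
    intro i
    by_contra hcon
    push Not at hcon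
    have hall : ∀ v : Fin r → F, hermForm r F q (d i) v = 0 := by
      intro v
      have hv : v ∈ iSup D := by rw [hD.iSup_eq_top]; exact Submodule.mem_top
      refine Submodule.iSup_induction D (motive := fun v => hermForm r F q (d i) v = 0) hv ?_ ?_ ?_
      · intro j w hw
        obtain ⟨a, rfl⟩ := hrepr j w hw
        rw [fsr, hcon j, mul_zero]
      · exact fz _
      · intro x y hx hy
        rw [far, hx, hy, add_zero]
    apply hd0 i
    funext k
    have := hall (Pi.single k 1)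
    unfold hermForm at this
    rw [Finset.sum_eq_single k] at this
    · simpa using this
    · intro b _ hb
      simp [hb, hq0]
    · intro hk; exact absurd (Finset.mem_univ k) hk
  -- symmetry
  have hsym : ∀ i j, hermForm r F q (d i) (d j) ≠ 0 → hermForm r F q (d j) (d i) ≠ 0 := by
    intro i j h
    rw [fsym (d i) (d j)]
    exact pow_ne_zero _ h
  -- invariance under `N`
  have hNinv : ∀ x ∈ N, ∀ i j, χ i x * χ j x ^ q * hermForm r F q (d i) (d j) =
      hermForm r F q (d i) (d j) := by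
    intro x hx i j
    have hxU : x ∈ GU r F q := hHU (hN.1 hx)
    have := (mem_GU_iff q x).mp hxU (d i) (d j)
    rw [hχ i x hx (d i) (hdmem i), hχ j x hx (d j) (hdmem j), fsl, fsr] at this
    rw [mul_assoc]; exact this
  -- uniqueness
  have huniq : ∀ i j j', hermForm r F q (d i) (d j) ≠ 0 → hermForm r F q (d i) (d j') ≠ 0 →
      j = j' := by
    intro i j j' h1 h2
    by_contra hjj
    obtain ⟨x, hx, hxne⟩ := hne j j' hjj
    have e1 : χ i x * χ j x ^ q = 1 := by
      have := hNinv x hx i j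
      have h3 : (χ i x * χ j x ^ q - 1) * hermForm r F q (d i) (d j) = 0 := by
        rw [sub_mul, this, one_mul, sub_self]
      rcases mul_eq_zero.mp h3 with h4 | h4
      · exact sub_eq_zero.mp h4
      · exact absurd h4 h1
    have e2 : χ i x * χ j' x ^ q = 1 := by
      have := hNinv x hx i j'
      have h3 : (χ i x * χ j' x ^ q - 1) * hermForm r F q (d i) (d j') = 0 := by
        rw [sub_mul, this, one_mul, sub_self]
      rcases mul_eq_zero.mp h3 with h4 | h4
      · exact sub_eq_zero.mp h4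
      · exact absurd h4 h2
    have hi0 : χ i x ≠ 0 := by
      intro h0; rw [h0, zero_mul] at e1; exact zero_ne_one e1
    have : χ j x ^ q = χ j' x ^ q := mul_left_cancel₀ hi0 (e1.trans e2.symm)
    exact hxne (hfrobinj _ _ this)
  -- the involution `τ`
  choose τ hτ using hex
  have hτinv : Function.Involutive τ := by
    intro i
    exact huniq (τ i) (τ (τ i)) i (hτ (τ i)) (hsym i (τ i) (hτ i))
  have hodd : Odd r := hr.odd_of_ne_two hr2
  obtain ⟨i0, hi0⟩ := ascnosymp_fix hodd (hτinv.toPerm τ) (by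
    ext i
    simp [Equiv.Perm.inv_def])
  have hi0' : τ i0 = i0 := by simpa using hi0
  have hR0 : hermForm r F q (d i0) (d i0) ≠ 0 := by
    have := hτ i0
    rwa [hi0'] at this
  -- the orbit of `i0`
  let O : Set (Fin r) := {j | ∃ h ∈ H, (D i0).map (Matrix.toLin' (h : Matrix (Fin r) (Fin r) F)) = D j}
  let W : Submodule F (Fin r → F) := ⨆ j : Fin r, ⨆ (_ : j ∈ O), D j
  have hWinv : ∀ s ∈ matrixSet H, W.map (Matrix.toLin' s) ≤ W := by
    rintro s ⟨h, hh, rfl⟩
    obtain ⟨σ, hσ⟩ := hHD hh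
    simp only [W, Submodule.map_iSup]
    refine iSup_le fun j => iSup_le fun hj => ?_
    rw [hσ j]
    have hjO : σ j ∈ O := by
      obtain ⟨h', hh', hh'j⟩ := hj
      refine ⟨h * h', H.mul_mem hh hh', ?_⟩
      rw [Units.val_mul, Matrix.toLin'_mul, Submodule.map_comp, hh'j, hσ j]
    exact le_iSup_of_le (σ j) (le_iSup_of_le hjO le_rfl)
  have hi0O : i0 ∈ O := ⟨1, H.one_mem, by simp⟩
  have hWtop : W = ⊤ := by
    rcases hH W hWinv with h | h
    · exfalso
      have h1 : D i0 ≤ W := le_iSup_of_le i0 (le_iSup_of_le hi0O le_rfl)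
      rw [h] at h1
      exact hd0 i0 ((Submodule.mem_bot F).mp (h1 (hdmem i0)))
    · exact h
  have hallO : ∀ j, j ∈ O := by
    intro j
    by_contra hj
    have h1 : W ≤ ⨆ k, ⨆ (_ : k ≠ j), D k := by
      refine iSup_le fun k => iSup_le fun hk => ?_
      have hkj : k ≠ j := fun h => hj (h ▸ hk)
      exact le_iSup_of_le k (le_iSup_of_le hkj le_rfl)
    have h2 := hD.indep j
    have h3 : D j ≤ ⨆ k, ⨆ (_ : k ≠ j), D k := by
      calc D j ≤ ⊤ := le_top
        _ = W := hWtop.symm
        _ ≤ _ := h1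
    have h4 : D j ≤ ⊥ := h2 le_rfl h3
    exact hd0 j ((Submodule.mem_bot F).mp (h4 (hdmem j)))
  -- all diagonal values are non-zero
  have hdiag : ∀ j, hermForm r F q (d j) (d j) ≠ 0 := by
    intro j
    obtain ⟨h, hh, hhj⟩ := hallO j
    have hmem : (h : Matrix (Fin r) (Fin r) F) *ᵥ d i0 ∈ D j := by
      rw [← hhj]
      exact ⟨d i0, hdmem i0, by simp [Matrix.toLin'_apply]⟩
    obtain ⟨c, hc⟩ := hrepr j _ hmem
    have := (mem_GU_iff q h).mp (hHU hh) (d i0) (d i0)
    rw [hc, fsl, fsr] at this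
    intro h0
    rw [h0, mul_zero, mul_zero] at this
    exact hR0 this.symm
  have horth : ∀ i j, i ≠ j → hermForm r F q (d i) (d j) = 0 := by
    intro i j hij
    by_contra h
    exact hij (huniq i i j (hdiag i) h)
  refine ⟨hD, ?_, ?_⟩
  · intro i w hw hw0
    obtain ⟨a, rfl⟩ := hrepr i w hw
    have ha : a ≠ 0 := by
      intro h; apply hw0; rw [h, zero_smul]
    refine ⟨⟨d i, hdmem i, ?_⟩, ⟨d i, hdmem i, ?_⟩⟩
    · rw [fsr]
      exact mul_ne_zero (pow_ne_zero _ ha) (hdiag i)
    · rw [fsl]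
      exact mul_ne_zero ha (hdiag i)
  · intro i j hij u hu v hv
    obtain ⟨a, rfl⟩ := hrepr i u hu
    obtain ⟨b, rfl⟩ := hrepr j v hv
    rw [fsl, fsr, horth i j hij, mul_zero, mul_zero]

end Cfsg.Agent.Lib.Lead.ASCU
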