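import Mathlib
import Cfsg.Prelude.Def_GeometricClasses
import Cfsg.Agent.Lib.Helper27.ASC.Defs
import Cfsg.Agent.Lib.Lead.ASCU.Defs
import Cfsg.Agent.Lib.Helper28.UHerm
import Cfsg.Agent.S5643

set_option autoImplicit false
set_option linter.unusedVariables false

/-! ASCU piece UPR3 (helper18): `SU` does not normalise a field subalgebra of degree `≥ 2` (`n ≥ 3`). -/

namespace Cfsg.Agent.Lib.Lead.ASCU

open Cfsg Cfsg.Geo Cfsg.Agent.Lib.Helper27.ASC
open scoped MatrixGroups Matrix

variable {n : ℕ} {F : Type*} [Field F] [Fintype F]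

/-- the vector `e_i + ζ e_j` -/
def ascuupr3_z (n : ℕ) {F : Type*} [Field F] (i j : Fin n) (ζ : F) : Fin n → F :=
  fun m => if m = i then 1 else if m = j then ζ else 0

theorem ascuupr3_mulVec {F : Type*} [Field F] (k : Matrix (Fin n) (Fin n) F) (i j : Fin n) (hij : i ≠ j) (ζ : F)
    (m : Fin n) : (k *ᵥ ascuupr3_z n i j ζ) m = k m i + ζ * k m j := by
  unfold Matrix.mulVec dotProduct
  rw [Finset.sum_eq_add i j hij]
  · simp [ascuupr3_z, hij.symm, mul_comm]
  · intro c _ hc
    simp [ascuupr3_z, hc.1, hc.2]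
  · intro h; exact absurd (Finset.mem_univ i) h
  · intro h; exact absurd (Finset.mem_univ j) h

theorem ascuupr3_iso {F : Type*} [Field F] (q : ℕ) (hq : q ≠ 0) (i j : Fin n) (hij : i ≠ j) (ζ : F)
    (hζ : ζ * ζ ^ q = -1) :
    hermForm n F q (ascuupr3_z n i j ζ) (ascuupr3_z n i j ζ) = 0 := by
  unfold hermForm
  rw [Finset.sum_eq_add i j hij]
  · simp [ascuupr3_z, hij.symm, hζ]
  · intro c _ hc
    simp [ascuupr3_z, hc.1, hc.2, hq]
  · intro h; exact absurd (Finset.mem_univ i) h
  · intro h; exact absurd (Finset.mem_univ j) h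

/-- UPR3 -/
theorem upr_field (q : ℕ) (hF : Fintype.card F = q ^ 2) (hn : 3 ≤ n) {d : ℕ} (hd : 2 ≤ d)
    (K : Subalgebra F (Matrix (Fin n) (Fin n) F)) (hK : IsFieldSubalgebra d K) :
    ¬ SUg n F q ≤ subalgebraNormalizer K := by
  classical
  intro hsub
  obtain ⟨σ, hσ, hf⟩ := Cfsg.Agent.Lib.Helper28.UHerm.herm_unitary hF n
  have hq0 : q ≠ 0 := by
    have := Cfsg.Agent.Lib.Helper28.UHerm.two_le_q hF
    omega
  obtain ⟨c0, hc00, hc0⟩ := Cfsg.Agent.Lib.Helper28.UForm.exists_K0 hf
  -- Step 1: every `k ∈ K` commutes with every unitary transvection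
  have hcomm : ∀ y : Fin n → F, hermForm n F q y y = 0 → ∀ k ∈ K, ∀ w : Fin n → F,
      hermForm n F q w (c0 • y) • (k *ᵥ y) = hermForm n F q (k *ᵥ w) (c0 • y) • y := by
    intro y hy k hk w
    have hyu : hermForm n F q y (c0 • y) = 0 := by
      rw [Cfsg.Agent.Lib.Helper28.UForm.f_smul_right hf, hy, mul_zero]
    obtain ⟨t, htS, ht⟩ := Cfsg.Agent.S5643.tvGL hf y (c0 • y) hyu
    have htU : t ∈ GU n F q := by
      rw [mem_GU_iff]
      intro u v
      exact Cfsg.Agent.S5643.utv_iso hf y hy c0 hc0 t ht u v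
    have htN := hsub (show t ∈ SUg n F q from ⟨htU, htS⟩)
    have hk' : (t : Matrix (Fin n) (Fin n) F) * k * ((t⁻¹ : GL (Fin n) F) : Matrix (Fin n) (Fin n) F) ∈ K :=
      (htN k).mp hk
    set δ : Matrix (Fin n) (Fin n) F :=
      (t : Matrix (Fin n) (Fin n) F) * k * ((t⁻¹ : GL (Fin n) F) : Matrix (Fin n) (Fin n) F) - k with hδ
    have hδK : δ ∈ K := K.sub_mem hk' hk
    have hδt : δ * (t : Matrix (Fin n) (Fin n) F) = (t : Matrix (Fin n) (Fin n) F) * k - k * (t : Matrix (Fin n) (Fin n) F) := by
      rw [hδ, sub_mul, mul_assoc ((t : Matrix (Fin n) (Fin n) F) * k), ← Units.val_mul, inv_mul_cancel,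
        Units.val_one, mul_one]
    -- `δ = 0`
    have hδ0 : δ = 0 := by
      by_contra hne
      obtain ⟨y', hy'K, hy'⟩ := hK.inv δ hδK hne
      have hy'2 : y' * δ = 1 := mul_eq_one_comm.mp hy'
      -- a common kernel vector of two functionals
      let L : (Fin n → F) →ₗ[F] (Fin 2 → F) :=
        { toFun := fun x => ![hermForm n F q x (c0 • y), hermForm n F q (k *ᵥ x) (c0 • y)]
          map_add' := by
            intro a b
            ext i
            fin_cases i
            · simp [hf.add_left]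
            · simp [Matrix.mulVec_add, hf.add_left]
          map_smul' := by
            intro a b
            ext i
            fin_cases i
            · simp [hf.smul_left]
            · simp [Matrix.mulVec_smul, hf.smul_left] }
      have hker : LinearMap.ker L ≠ ⊥ := by
        apply LinearMap.ker_ne_bot_of_finrank_lt
        rw [Module.finrank_fin_fun, Module.finrank_fin_fun]
        omega
      obtain ⟨v, hvker, hv0⟩ := (Submodule.ne_bot_iff _).mp hker
      have hL : L v = 0 := hvker
      have h1 : hermForm n F q v (c0 • y) = 0 := by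
        have := congrFun hL 0
        simpa [L] using this
      have h2 : hermForm n F q (k *ᵥ v) (c0 • y) = 0 := by
        have := congrFun hL 1
        simpa [L] using this
      have h3 : (δ * (t : Matrix (Fin n) (Fin n) F)) *ᵥ v = 0 := by
        rw [hδt, Matrix.sub_mulVec, ← Matrix.mulVec_mulVec, ← Matrix.mulVec_mulVec, ht, ht, h1, h2]
        simp
      have h4 : (t : Matrix (Fin n) (Fin n) F) *ᵥ v = 0 := by
        have := congrArg (fun x => y' *ᵥ x) h3
        simp only [Matrix.mulVec_zero] at this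
        rw [← Matrix.mulVec_mulVec, Matrix.mulVec_mulVec, hy'2, Matrix.one_mulVec] at this
        exact this
      apply hv0
      have := congrArg (fun x => ((t⁻¹ : GL (Fin n) F) : Matrix (Fin n) (Fin n) F) *ᵥ x) h4
      simp only [Matrix.mulVec_zero] at this
      rw [Cfsg.Agent.S5643.inv_mv] at this
      exact this
    -- `t k = k t`
    have htk : (t : Matrix (Fin n) (Fin n) F) * k = k * (t : Matrix (Fin n) (Fin n) F) := by
      have := hδt
      rw [hδ0, zero_mul] at this
      exact (sub_eq_zero.mp this.symm)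
    have := congrArg (fun M => M *ᵥ w) htk
    beta_reduce at this
    rw [← Matrix.mulVec_mulVec, ← Matrix.mulVec_mulVec, ht, ht, Matrix.mulVec_add,
      Matrix.mulVec_smul] at this
    exact (add_left_cancel this).symm
  -- Step 2: isotropic vectors are eigenvectors
  have heig : ∀ y : Fin n → F, y ≠ 0 → hermForm n F q y y = 0 → ∀ k ∈ K, ∃ l : F, k *ᵥ y = l • y := by
    intro y hy0 hy k hk
    have hcy : c0 • y ≠ 0 := smul_ne_zero hc00 hy0
    obtain ⟨⟨w, hw⟩, _⟩ := hf.nondegenerate (c0 • y) hcy
    refine ⟨(hermForm n F q w (c0 • y))⁻¹ * hermForm n F q (k *ᵥ w) (c0 • y), ?_⟩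
    have := hcomm y hy k hk w
    rw [← smul_smul, ← this, smul_smul, inv_mul_cancel₀ hw, one_smul]
  -- Step 3: two norm `-1` elements
  obtain ⟨ζ, hζ⟩ := Cfsg.Agent.Lib.Helper28.UForm.norm_surj hf (-1 : F) (by rw [map_neg, map_one])
  rw [hσ] at hζ
  obtain ⟨s, hs⟩ := Cfsg.Agent.Lib.Helper28.UForm.exists_moved hf
  have hs0 : s ≠ 0 := by
    intro h; apply hs; rw [h, map_zero]
  have hσs0 : σ s ≠ 0 := by
    intro h
    apply hs0
    have := congrArg σ h
    rwa [hf.involutive, map_zero] at this
  set μ : F := σ s / s with hμ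
  have hμ1 : μ ≠ 1 := by
    intro h
    apply hs
    rw [hμ, div_eq_one_iff_eq hs0] at h
    exact h
  have hμn : μ * μ ^ q = 1 := by
    rw [← hσ, hμ, map_div₀, hf.involutive]
    field_simp
  have hζ0 : ζ ≠ 0 := by
    intro h; rw [h, zero_mul] at hζ; exact zero_ne_one (neg_eq_zero.mp hζ.symm).symm
  set ζ' : F := μ * ζ with hζ'
  have hζ'n : ζ' * ζ' ^ q = -1 := by
    rw [hζ', mul_pow]
    linear_combination (ζ * ζ ^ q) * hμn + hζ
  have hζne : ζ' ≠ ζ := by
    intro h
    apply hμ1
    have : (μ - 1) * ζ = 0 := by rw [sub_mul, one_mul, ← hζ', h, sub_self]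
    rcases mul_eq_zero.mp this with h1 | h1
    · exact sub_eq_zero.mp h1
    · exact absurd h1 hζ0
  have hζ'0 : ζ' ≠ 0 := mul_ne_zero (by
    intro h; rw [h, zero_mul] at hμn; exact zero_ne_one hμn) hζ0
  -- Step 4: every `k ∈ K` is scalar
  have hz0 : ∀ (i j : Fin n) (z : F), ascuupr3_z n i j z ≠ 0 := by
    intro i j z h
    have := congrFun h i
    simp [ascuupr3_z] at this
  have hscal : ∀ k ∈ K, ∃ c : F, k = c • (1 : Matrix (Fin n) (Fin n) F) := by
    intro k hk
    -- equations from the eigenvectors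
    have hE : ∀ i j : Fin n, i ≠ j → ∀ z : F, z * z ^ q = -1 → ∃ l : F, ∀ m : Fin n,
        k m i + z * k m j = l * ascuupr3_z n i j z m := by
      intro i j hij z hz
      obtain ⟨l, hl⟩ := heig _ (hz0 i j z) (ascuupr3_iso q hq0 i j hij z hz) k hk
      refine ⟨l, fun m => ?_⟩
      have := congrFun hl m
      rw [ascuupr3_mulVec k i j hij z m] at this
      simpa using this
    -- off-diagonal entries vanish
    have hoff : ∀ m j : Fin n, m ≠ j → k m j = 0 := by
      intro m j hmj
      have hcard : ({m, j} : Finset (Fin n)).card < (Finset.univ : Finset (Fin n)).card := by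
        rw [Finset.card_univ, Fintype.card_fin]
        calc ({m, j} : Finset (Fin n)).card ≤ 2 := Finset.card_le_two
          _ < n := by omega
      obtain ⟨i, _, hi⟩ := Finset.exists_mem_notMem_of_card_lt_card hcard
      simp only [Finset.mem_insert, Finset.mem_singleton, not_or] at hi
      have hij : i ≠ j := hi.2
      have hmi : m ≠ i := fun h => hi.1 h.symm
      obtain ⟨l, hl⟩ := hE i j hij ζ hζ
      obtain ⟨l', hl'⟩ := hE i j hij ζ' hζ'n
      have e1 := hl m
      have e2 := hl' m
      simp only [ascuupr3_z, if_neg hmi, if_neg hmj, mul_zero] at e1 e2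
      have : (ζ' - ζ) * k m j = 0 := by linear_combination e2 - e1
      rcases mul_eq_zero.mp this with h1 | h1
      · exact absurd (sub_eq_zero.mp h1) hζne
      · exact h1
    -- diagonal entries agree
    have hdiag : ∀ i j : Fin n, i ≠ j → k i i = k j j := by
      intro i j hij
      obtain ⟨l, hl⟩ := hE i j hij ζ hζ
      have e1 := hl i
      have e2 := hl j
      simp [ascuupr3_z, hij.symm] at e1 e2
      rw [hoff i j hij, mul_zero, add_zero] at e1
      rw [hoff j i hij.symm, zero_add] at e2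
      have : ζ * (k j j - l) = 0 := by linear_combination e2
      rcases mul_eq_zero.mp this with h1 | h1
      · exact absurd h1 hζ0
      · rw [e1, sub_eq_zero.mp h1]
    have i0 : Fin n := ⟨0, by omega⟩
    refine ⟨k i0 i0, ?_⟩
    ext a b
    by_cases hab : a = b
    · subst hab
      by_cases ha : a = i0
      · subst ha; simp
      · simp [hdiag a i0 ha]
    · simp [hoff a b hab, hab]
  -- Step 5: the dimension of `K` is at most one
  have hle : Subalgebra.toSubmodule K ≤ Submodule.span F {(1 : Matrix (Fin n) (Fin n) F)} := by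
    intro k hk
    obtain ⟨c, hc⟩ := hscal k hk
    rw [Submodule.mem_span_singleton]
    exact ⟨c, hc.symm⟩
  have h1 : Module.finrank F K ≤ 1 := by
    calc Module.finrank F K = Module.finrank F (Subalgebra.toSubmodule K) := rfl
      _ ≤ Module.finrank F (Submodule.span F {(1 : Matrix (Fin n) (Fin n) F)}) :=
          Submodule.finrank_mono hle
      _ ≤ 1 := by
          have := finrank_span_le_card (R := F) ({(1 : Matrix (Fin n) (Fin n) F)} : Set _)
          simpa using this
  rw [hK.finrank_eq] at h1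
  omega

end Cfsg.Agent.Lib.Lead.ASCU
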