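import Mathlib
import Cfsg.Agent.Lib.helper17.Subn2
import Cfsg.Agent.Lib.Helper18.PCore

set_option autoImplicit false

namespace Cfsg.Agent.Lib.Helper18.AGL19

/-- The semidihedral group of order 16 as `ZMod 8 × ZMod 2` with a twisted product. -/
structure SD where
  k : ZMod 8
  s : ZMod 2
deriving DecidableEq, Fintype

namespace SD

def tw (s : ZMod 2) : ZMod 8 := if s = 0 then 1 else 3

instance : Mul SD := ⟨fun x y => ⟨x.k + tw x.s * y.k, x.s + y.s⟩⟩
instance : One SD := ⟨⟨0, 0⟩⟩
instance : Inv SD := ⟨fun x => ⟨-(tw x.s * x.k), x.s⟩⟩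

theorem mul_assoc' : ∀ x y z : SD, x * y * z = x * (y * z) := by decide
theorem one_mul' : ∀ x : SD, 1 * x = x := by decide
theorem mul_one' : ∀ x : SD, x * 1 = x := by decide
theorem inv_mul' : ∀ x : SD, x⁻¹ * x = 1 := by decide

instance : Group SD where
  mul_assoc := mul_assoc'
  one_mul := one_mul'
  mul_one := mul_one'
  inv_mul_cancel := inv_mul'

end SD


abbrev NN := ZMod 3 × ZMod 3

def om (v : NN) : NN := (v.1 - v.2, v.1 + v.2)
def sg (v : NN) : NN := (v.1, -v.2)
def act (h : SD) (v : NN) : NN := om^[h.k.val] (if h.s = 0 then v else sg v)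

theorem act_mul : ∀ (h h' : SD) (v : NN), act (h * h') v = act h (act h' v) := by decide
theorem act_one : ∀ v : NN, act 1 v = v := by decide
theorem act_add : ∀ (h : SD) (v w : NN), act h (v + w) = act h v + act h w := by decide

/-- The action as a homomorphism into the automorphism group of the (multiplicative) plane. -/
def phi : SD →* MulAut (Multiplicative NN) where
  toFun h :=
    { toFun := fun v => Multiplicative.ofAdd (act h v.toAdd)
      invFun := fun v => Multiplicative.ofAdd (act h⁻¹ v.toAdd)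
      left_inv := fun v => by
        change Multiplicative.ofAdd (act h⁻¹ (act h v.toAdd)) = v
        rw [← act_mul, inv_mul_cancel, act_one]; rfl
      right_inv := fun v => by
        change Multiplicative.ofAdd (act h (act h⁻¹ v.toAdd)) = v
        rw [← act_mul, mul_inv_cancel, act_one]; rfl
      map_mul' := fun v w => by
        change Multiplicative.ofAdd (act h (v.toAdd + w.toAdd)) = _
        rw [act_add]; rfl }
  map_one' := by
    apply MulEquiv.ext
    intro v
    change Multiplicative.ofAdd (act 1 v.toAdd) = v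
    rw [act_one]; rfl
  map_mul' h h' := by
    apply MulEquiv.ext
    intro v
    change Multiplicative.ofAdd (act (h * h') v.toAdd) = Multiplicative.ofAdd (act h (act h' v.toAdd))
    rw [act_mul]

theorem phi_apply (h : SD) (v : Multiplicative NN) :
    phi h v = Multiplicative.ofAdd (act h v.toAdd) := rfl

/-- The affine semilinear group of the field with nine elements. -/
abbrev GG := Multiplicative NN ⋊[phi] SD


/-- The field automorphism. -/
def aH : SD := ⟨0, 1⟩

theorem D1 : ∀ h : SD, (∀ v : NN, act h v = v → v = 0) ∨ h = 1 ∨ ∃ x : SD, x * h * x⁻¹ = aH := by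
  decide

theorem D2 : ∀ v : NN, ∃ x : SD, act aH (act x v) = act x v := by decide

theorem D3 : ∀ h : SD, (∀ v : NN, act h v = v → v = 0) → ∀ n : NN, ∃ m : NN, m + n - act h m = 0 := by
  decide

theorem D4 : ∀ n : NN, ∃ m : NN, act aH (m + n - act aH m) = m + n - act aH m := by decide

theorem aH_sq : aH * aH = 1 := by decide
theorem aH_ne_one : aH ≠ 1 := by decide
theorem aH_moves : act aH (0, 1) ≠ (0, 1) := by decide

open SemidirectProduct

theorem conj_inl (M : Multiplicative NN) (c : GG) :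
    (inl M : GG) * c * (inl M)⁻¹ = ⟨M * c.left * (phi c.right M)⁻¹, c.right⟩ := by
  ext <;> simp [mul_assoc]

theorem conj_inr (x : SD) (c : GG) :
    (inr x : GG) * c * (inr x)⁻¹ = ⟨phi x c.left, x * c.right * x⁻¹⟩ := by
  ext <;> simp

/-- The subgroup of order two. -/
def AA : Subgroup GG := Subgroup.zpowers (inr aH)

theorem inr_aH_sq : (inr aH : GG) * inr aH = 1 := by
  rw [← map_mul, aH_sq, map_one]

theorem card_AA : Nat.card AA = 2 := by
  unfold AA
  rw [Nat.card_zpowers]
  apply orderOf_eq_prime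
  · rw [pow_two]; exact inr_aH_sq
  · intro h
    apply aH_ne_one
    apply inr_injective (φ := phi)
    rw [h, map_one]

instance : Finite GG := Finite.of_equiv _ (SemidirectProduct.equivProd (φ := phi)).symm


theorem card_SD : Nat.card SD = 2 ^ 4 := by
  rw [Nat.card_eq_fintype_card]; decide

theorem isPGroup_SD : IsPGroup 2 SD := IsPGroup.of_card card_SD

theorem isPGroup_range_inr : IsPGroup 2 ↥((inr : SD →* GG).range) := by
  have e : SD ≃* (inr : SD →* GG).range := MonoidHom.ofInjective inr_injective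
  exact IsPGroup.of_equiv isPGroup_SD e

theorem AA_le_range : AA ≤ (inr : SD →* GG).range := by
  unfold AA
  rw [Subgroup.zpowers_le]
  exact ⟨aH, rfl⟩

/-- Subnormality when `g` lies in the complement. -/
theorem subnormal_of_mem_range {g : GG} (hg : g ∈ (inr : SD →* GG).range) :
    (AA.subgroupOf (AA ⊔ Subgroup.zpowers g)).IsSubnormal := by
  have hle : AA ⊔ Subgroup.zpowers g ≤ (inr : SD →* GG).range :=
    sup_le AA_le_range (by rw [Subgroup.zpowers_le]; exact hg)
  have hp : IsPGroup 2 ↥(AA ⊔ Subgroup.zpowers g) := isPGroup_range_inr.to_le hle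
  haveI : Group.IsNilpotent ↥(AA ⊔ Subgroup.zpowers g) := hp.isNilpotent
  exact Cfsg.Agent.Lib.helper17.isSubnormal_of_isNilpotent _

/-- Subnormality when `g` commutes with the generator. -/
theorem subnormal_of_comm {g : GG} (hg : g * inr aH = inr aH * g) :
    (AA.subgroupOf (AA ⊔ Subgroup.zpowers g)).IsSubnormal := by
  apply Subgroup.Normal.isSubnormal
  rw [Subgroup.normal_subgroupOf_iff_le_normalizer le_sup_left]
  have h1 : AA ≤ Subgroup.centralizer (AA : Set GG) := by
    unfold AA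
    rw [Subgroup.zpowers_le]
    rw [Subgroup.mem_centralizer_iff]
    intro y hy
    obtain ⟨k, rfl⟩ := Subgroup.mem_zpowers_iff.mp hy
    exact (Commute.zpow_left (Commute.refl _) k).eq
  have h2 : Subgroup.zpowers g ≤ Subgroup.centralizer (AA : Set GG) := by
    rw [Subgroup.zpowers_le, Subgroup.mem_centralizer_iff]
    intro y hy
    obtain ⟨k, rfl⟩ := Subgroup.mem_zpowers_iff.mp hy
    have : Commute (inr aH : GG) g := hg.symm
    exact (this.zpow_left k).eq
  exact le_trans (sup_le h1 h2) (Subgroup.centralizer_le_normalizer _)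

theorem mk_mul_inr (n : Multiplicative NN) (h a : SD) :
    (⟨n, h⟩ : GG) * inr a = ⟨n, h * a⟩ := by
  refine SemidirectProduct.ext ?_ ?_ <;> simp

theorem inr_mul_mk (n : Multiplicative NN) (h a : SD) :
    (inr a : GG) * ⟨n, h⟩ = ⟨phi a n, a * h⟩ := by
  refine SemidirectProduct.ext ?_ ?_ <;> simp

theorem inr_eq_mk (h : SD) : (inr h : GG) = ⟨1, h⟩ := by
  refine SemidirectProduct.ext ?_ ?_ <;> simp

theorem class_rep (c : GG) : ∃ g : GG, IsConj c g ∧
    (g ∈ (inr : SD →* GG).range ∨ g * inr aH = inr aH * g) := by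
  rcases D1 c.right with hfpf | h1 | ⟨x, hx⟩
  · obtain ⟨m, hm⟩ := D3 c.right hfpf c.left.toAdd
    refine ⟨inr c.right, ?_, Or.inl ⟨c.right, rfl⟩⟩
    rw [isConj_iff]
    refine ⟨inl (Multiplicative.ofAdd m), ?_⟩
    rw [conj_inl, inr_eq_mk]
    congr 1
    rw [phi_apply]
    apply Multiplicative.toAdd.injective
    simp only [toAdd_mul, toAdd_inv, toAdd_ofAdd, toAdd_one, ← sub_eq_add_neg]
    exact hm
  · obtain ⟨x, hx⟩ := D2 c.left.toAdd
    refine ⟨inr x * c * (inr x)⁻¹, isConj_iff.mpr ⟨inr x, rfl⟩, Or.inr ?_⟩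
    rw [conj_inr, h1, mk_mul_inr, inr_mul_mk]
    congr 1
    · rw [phi_apply, phi_apply]
      apply Multiplicative.toAdd.injective
      exact hx.symm
    · simp
  · have hc1 : IsConj c (inr x * c * (inr x)⁻¹) := isConj_iff.mpr ⟨inr x, rfl⟩
    rw [conj_inr, hx] at hc1
    obtain ⟨m, hm⟩ := D4 (phi x c.left).toAdd
    refine ⟨inl (Multiplicative.ofAdd m) * ⟨phi x c.left, aH⟩ * (inl (Multiplicative.ofAdd m))⁻¹,
      hc1.trans (isConj_iff.mpr ⟨_, rfl⟩), Or.inr ?_⟩
    rw [conj_inl, mk_mul_inr, inr_mul_mk]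
    congr 1
    apply Multiplicative.toAdd.injective
    simp only [phi_apply, toAdd_mul, toAdd_inv, toAdd_ofAdd, ← sub_eq_add_neg]
    exact hm.symm


theorem solvable_GG : Group.IsSolvable GG := by
  haveI : Group.IsNilpotent SD := isPGroup_SD.isNilpotent
  haveI : Group.IsSolvable SD := inferInstance
  exact Group.isSolvable_of_ker_le_range (inl : Multiplicative NN →* GG) rightHom
    (by rw [range_inl_eq_ker_rightHom])

theorem pow_three_NN : ∀ X : Multiplicative NN, X ^ 3 = 1 := by decide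

theorem not_le_pCore : ¬ AA ≤ Cfsg.pCore 2 GG := by
  intro hle
  have hO := Cfsg.Agent.Lib.Helper18.pCore_normal_h18 2 GG
  have hOp := Cfsg.Agent.Lib.Helper18.pCore_isPGroup 2 GG
  have ha : (inr aH : GG) ∈ Cfsg.pCore 2 GG := hle (Subgroup.mem_zpowers _)
  set n₀ : Multiplicative NN := Multiplicative.ofAdd (0, 1) with hn₀
  set w : GG := inr aH * inl n₀ * (inr aH)⁻¹ * (inl n₀)⁻¹ with hw
  have hwO : w ∈ Cfsg.pCore 2 GG := by
    have h1 : inl n₀ * (inr aH : GG)⁻¹ * (inl n₀)⁻¹ ∈ Cfsg.pCore 2 GG :=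
      hO.conj_mem _ ((Cfsg.pCore 2 GG).inv_mem ha) _
    have h2 : w = inr aH * (inl n₀ * (inr aH : GG)⁻¹ * (inl n₀)⁻¹) := by
      rw [hw]; group
    rw [h2]
    exact (Cfsg.pCore 2 GG).mul_mem ha h1
  have hwN : w = inl (phi aH n₀ * n₀⁻¹) := by
    rw [hw, map_mul, inl_aut, map_inv, map_inv]
  obtain ⟨k, hk⟩ := hOp ⟨w, hwO⟩
  have hk' : w ^ 2 ^ k = 1 := by
    have := congrArg Subtype.val hk
    simpa using this
  have h3 : w ^ 3 = 1 := by
    rw [hwN, ← map_pow, pow_three_NN, map_one]
  have hd1 := orderOf_dvd_of_pow_eq_one hk'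
  have hd2 := orderOf_dvd_of_pow_eq_one h3
  have hcop : Nat.Coprime (2 ^ k) 3 := Nat.Coprime.pow_left k (by norm_num)
  have h1 : orderOf w = 1 := Nat.eq_one_of_dvd_coprimes hcop hd1 hd2
  rw [orderOf_eq_one_iff, hwN] at h1
  have h2 : phi aH n₀ * n₀⁻¹ = 1 := by
    apply inl_injective (φ := phi)
    rw [h1, map_one]
  have h4 : phi aH n₀ = n₀ := mul_inv_eq_one.mp h2
  rw [phi_apply] at h4
  exact aH_moves (Multiplicative.ofAdd.injective h4)

/-- The main example statement. -/
theorem example_main :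
    ∃ (G : Type) (_ : Group G) (_ : Finite G) (A : Subgroup G), Group.IsSolvable G ∧ Nat.card A = 2 ∧
      (∀ c : G, ∃ g : G, IsConj c g ∧ (A.subgroupOf (A ⊔ Subgroup.zpowers g)).IsSubnormal) ∧
      ¬ A ≤ Cfsg.pCore 2 G := by
  refine ⟨GG, inferInstance, inferInstance, AA, solvable_GG, card_AA, ?_, not_le_pCore⟩
  intro c
  obtain ⟨g, hcg, hg | hg⟩ := class_rep c
  · exact ⟨g, hcg, subnormal_of_mem_range hg⟩
  · exact ⟨g, hcg, subnormal_of_comm hg⟩

end Cfsg.Agent.Lib.Helper18.AGL19
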