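import Mathlib
import Cfsg.Prelude.Def_GeometricClasses
import Cfsg.Agent.Lib.Helper27.ASC.Defs
import Cfsg.Agent.Lib.Helper18.ASCFORMS
import Cfsg.Agent.Lib.Helper10.ASCSUBF2
import Cfsg.Agent.Lib.helper8.ASCSUBF3
import Cfsg.Agent.Lib.Helper25.ASCCENT
import Cfsg.Agent.Lib.helper4.ASCSUBF1

/-!
# The almost simple case for general `n` (helper18), for project ASG
-/

set_option autoImplicit false
set_option linter.unusedVariables false
set_option linter.unusedSectionVars false

namespace Cfsg.Agent.Lib.Helper27.ASC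

open Cfsg Cfsg.Geo
open scoped MatrixGroups Matrix

variable {n : ℕ} {F : Type*} [Field F] [Fintype F]

/-- SUBF5: a group inside a subfield group over a proper subfield lies in a member of class 5 -/
theorem subfield_class_of_le {H : Subgroup (GL (Fin n) F)} (F₀ : Subfield F) (h0 : F₀ ≠ ⊤) (B : GL (Fin n) F)
    (hle : H ≤ subfieldSubgroup F₀ B) :
    ∃ M : Subgroup (GL (Fin n) F), InLinearClass n F M ∧ H ≤ M := by
  obtain ⟨F₁, ℓ, h01, hℓ, hcard⟩ := exists_prime_index_subfield F₀ h0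
  refine ⟨subfieldSubgroup F₁ B, ?_, hle.trans (subfieldSubgroup_mono h01 B)⟩
  right; right; right; right; right; right; left
  exact ⟨F₁, ℓ, B, hℓ, hcard, rfl⟩

/-- ASIMPLE: the almost simple case, any `n ≥ 3`, containment form.  `P ⊴ H` absolutely irreducible and perfect
with `P` modulo scalars non-abelian simple: `H` lies in a member of the linear class (C5 or C8) or is in the
residual class. -/
theorem almost_simple_case (hn : 3 ≤ n) {H P : Subgroup (GL (Fin n) F)} (hP : NormalIn P H) (hA : AbsIrr P)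
    (hperf : ⁅P, P⁆ = P) (hsimp : IsSimpleGroup (P ⧸ (scalars (Fin n) F).subgroupOf P))
    (hnab : ¬ IsMulCommutative (P ⧸ (scalars (Fin n) F).subgroupOf P)) :
    (∃ M : Subgroup (GL (Fin n) F), InLinearClass n F M ∧ H ≤ M) ∨ InLinearResidualClass H := by
  by_cases hsub : ∃ F₀ : Subfield F, F₀ ≠ ⊤ ∧ RealisableOver F₀ (matrixSet P)
  · obtain ⟨F₀, h0, hR⟩ := hsub
    obtain ⟨B, hle⟩ := subfield_of_realisable hP hA F₀ hR
    exact Or.inl (subfield_class_of_le F₀ h0 B hle)
  rcases forms_dichotomy hn hP hA with h | ⟨hq, hs, hu⟩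
  · exact Or.inl h
  · refine Or.inr ⟨P, ⟨hP.1, hP.2, hperf, hsimp, hnab, centralizer_scalar_of hP hperf hA, hA, ?_⟩, hq, hs, hu⟩
    intro F₀ h0 hR
    exact hsub ⟨F₀, h0, hR⟩

end Cfsg.Agent.Lib.Helper27.ASC
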