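import Mathlib
import Cfsg.Prelude.Def_GeometricClasses
import Cfsg.Agent.Lib.Helper27.ASC.Defs
import Cfsg.Agent.Lib.helper23.ASCO.Defs
import Cfsg.Agent.Lib.Lead.Reindex

/-! ASCO piece TRRES (helper18): transport of the orthogonal residual class along a reindexing. -/

set_option autoImplicit false
set_option linter.unusedVariables false
set_option linter.unusedSectionVars false

namespace Cfsg.Agent.Lib.helper23.ASCO

open Cfsg Cfsg.Geo Cfsg.Agent.Lib.Helper27.ASC
open scoped MatrixGroups Matrix

variable {n : ℕ} {F : Type*} [Field F] [Fintype F]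

section transport

open Cfsg.Agent.Lib.Lead

variable {ι κ : Type} [Fintype ι] [DecidableEq ι] [Fintype κ] [DecidableEq κ]

/-- entries of the reindexed matrix -/
theorem ascotrres_coe_apply (e : ι ≃ κ) (g : GL ι F) (i j : κ) :
    ((RI.glReindex (F := F) e g : GL κ F) : Matrix κ κ F) i j =
      (g : Matrix ι ι F) (e.symm i) (e.symm j) := rfl

/-- action of the reindexed matrix -/
theorem ascotrres_mulVec (e : ι ≃ κ) (M : Matrix ι ι F) (x : κ → F) :
    (Matrix.reindex e e M *ᵥ x) ∘ e = M *ᵥ (x ∘ e) := by
  rw [RI.reindex_mulVec]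
  funext i
  simp

/-- scalars correspond to scalars -/
theorem ascotrres_scalars (e : ι ≃ κ) (g : GL ι F) :
    RI.glReindex (F := F) e g ∈ scalars κ F ↔ g ∈ scalars ι F := by
  rw [mem_scalars_iff, mem_scalars_iff]
  constructor
  · rintro ⟨c, hc⟩
    refine ⟨c, ?_⟩
    ext i j
    have := congrFun (congrFun hc (e i)) (e j)
    rw [ascotrres_coe_apply] at this
    simp only [Equiv.symm_apply_apply] at this
    rw [this]
    simp [Matrix.smul_apply, Matrix.one_apply]
  · rintro ⟨c, hc⟩
    refine ⟨c, ?_⟩
    ext i j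
    rw [ascotrres_coe_apply, hc]
    simp [Matrix.smul_apply, Matrix.one_apply]

/-- the matrices of the comap -/
theorem ascotrres_matrixSet (e : ι ≃ κ) (P' : Subgroup (GL κ F)) (s : Matrix ι ι F) :
    s ∈ matrixSet (P'.comap (RI.glReindex (F := F) e).toMonoidHom) ↔
      Matrix.reindex e e s ∈ matrixSet P' := by
  constructor
  · rintro ⟨g, hg, rfl⟩
    exact ⟨RI.glReindex (F := F) e g, hg, rfl⟩
  · rintro ⟨g', hg', hgs⟩
    refine ⟨(RI.glReindex (F := F) e).symm g', ?_, ?_⟩
    · show RI.glReindex (F := F) e ((RI.glReindex (F := F) e).symm g') ∈ P'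
      rw [MulEquiv.apply_symm_apply]; exact hg'
    · have h1 : Matrix.reindex e e ((((RI.glReindex (F := F) e).symm g' : GL ι F)) : Matrix ι ι F) =
          Matrix.reindex e e s := by
        rw [← RI.glReindex_coe, MulEquiv.apply_symm_apply]; exact hgs
      exact (Matrix.reindex e e).injective h1

theorem ascotrres_matrixSet' (e : ι ≃ κ) (P' : Subgroup (GL κ F)) (s' : Matrix κ κ F)
    (hs' : s' ∈ matrixSet P') :
    ∃ s ∈ matrixSet (P'.comap (RI.glReindex (F := F) e).toMonoidHom), s' = Matrix.reindex e e s := by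
  obtain ⟨g', hg', rfl⟩ := hs'
  refine ⟨(((RI.glReindex (F := F) e).symm g' : GL ι F) : Matrix ι ι F), ?_, ?_⟩
  · refine ⟨(RI.glReindex (F := F) e).symm g', ?_, rfl⟩
    show RI.glReindex (F := F) e ((RI.glReindex (F := F) e).symm g') ∈ P'
    rw [MulEquiv.apply_symm_apply]; exact hg'
  · rw [← RI.glReindex_coe, MulEquiv.apply_symm_apply]

/-- absolute irreducibility is transported -/
theorem ascotrres_absIrr (e : ι ≃ κ) (P' : Subgroup (GL κ F))
    (h : ActsAbsolutelyIrreducibly (matrixSet P')) :
    ActsAbsolutelyIrreducibly (matrixSet (P'.comap (RI.glReindex (F := F) e).toMonoidHom)) := by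
  constructor
  · intro W hW
    -- transport `W` to `κ → F`
    have hW' : ∀ s' ∈ matrixSet P', (W.comap (LinearMap.funLeft F F e)).map (Matrix.toLin' s') ≤
        W.comap (LinearMap.funLeft F F e) := by
      intro s' hs'
      obtain ⟨s, hs, rfl⟩ := ascotrres_matrixSet' e P' s' hs'
      rintro _ ⟨x, hx, rfl⟩
      have hx : x ∘ e ∈ W := hx
      show (Matrix.toLin' (Matrix.reindex e e s) x) ∘ e ∈ W
      rw [Matrix.toLin'_apply, ascotrres_mulVec]
      exact hW s hs ⟨x ∘ e, hx, by rw [Matrix.toLin'_apply]⟩
    have hsurj : Function.Surjective (LinearMap.funLeft F F e : (κ → F) →ₗ[F] (ι → F)) := by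
      intro y
      exact ⟨y ∘ e.symm, by funext i; simp [LinearMap.funLeft_apply]⟩
    rcases h.1 _ hW' with h1 | h1
    · left
      rw [← Submodule.map_comap_eq_of_surjective hsurj W, h1, Submodule.map_bot]
    · right
      rw [← Submodule.map_comap_eq_of_surjective hsurj W, h1, Submodule.map_top,
        LinearMap.range_eq_top.mpr hsurj]
  · intro M hM
    have hM' : ∀ s' ∈ matrixSet P', Matrix.reindex e e M * s' = s' * Matrix.reindex e e M := by
      intro s' hs'
      obtain ⟨s, hs, rfl⟩ := ascotrres_matrixSet' e P' s' hs'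
      have := hM s hs
      simp only [Matrix.reindex_apply]
      rw [Matrix.submatrix_mul_equiv, Matrix.submatrix_mul_equiv, this]
    obtain ⟨c, hc⟩ := h.2 _ hM'
    refine ⟨c, ?_⟩
    ext i j
    have := congrFun (congrFun hc (e i)) (e j)
    simp only [Matrix.reindex_apply, Matrix.submatrix_apply, Equiv.symm_apply_apply] at this
    rw [this]
    simp [Matrix.smul_apply, Matrix.one_apply]


/-- the comap is carried isomorphically onto the original subgroup -/
noncomputable def ascotrres_equiv (e : ι ≃ κ) (P' : Subgroup (GL κ F)) :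
    ↥(P'.comap (RI.glReindex (F := F) e).toMonoidHom) ≃* ↥P' where
  toFun x := ⟨RI.glReindex (F := F) e x.1, x.2⟩
  invFun y := ⟨(RI.glReindex (F := F) e).symm y.1, by
    show RI.glReindex (F := F) e ((RI.glReindex (F := F) e).symm y.1) ∈ P'
    rw [MulEquiv.apply_symm_apply]; exact y.2⟩
  left_inv x := by
    apply Subtype.ext
    exact (RI.glReindex (F := F) e).symm_apply_apply x.1
  right_inv y := by
    apply Subtype.ext
    exact (RI.glReindex (F := F) e).apply_symm_apply y.1
  map_mul' x y := by
    apply Subtype.ext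
    exact map_mul (RI.glReindex (F := F) e) x.1 y.1

theorem ascotrres_equiv_coe (e : ι ≃ κ) (P' : Subgroup (GL κ F))
    (x : ↥(P'.comap (RI.glReindex (F := F) e).toMonoidHom)) :
    ((ascotrres_equiv e P' x : ↥P') : GL κ F) = RI.glReindex (F := F) e x.1 := rfl

theorem ascotrres_map_scalars (e : ι ≃ κ) (P' : Subgroup (GL κ F)) :
    ((scalars ι F).subgroupOf (P'.comap (RI.glReindex (F := F) e).toMonoidHom)).map
      (ascotrres_equiv e P' : ↥(P'.comap (RI.glReindex (F := F) e).toMonoidHom) →* ↥P') =
      (scalars κ F).subgroupOf P' := by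
  ext y
  constructor
  · rintro ⟨x, hx, rfl⟩
    rw [Subgroup.mem_subgroupOf]
    have hx' : (x : GL ι F) ∈ scalars ι F := hx
    show RI.glReindex (F := F) e x.1 ∈ scalars κ F
    exact (ascotrres_scalars e x.1).2 hx'
  · intro hy
    rw [Subgroup.mem_subgroupOf] at hy
    refine ⟨(ascotrres_equiv e P').symm y, ?_, ?_⟩
    · show (((ascotrres_equiv e P').symm y : ↥(P'.comap (RI.glReindex (F := F) e).toMonoidHom)) :
          GL ι F) ∈ scalars ι F
      rw [← ascotrres_scalars e, ← ascotrres_equiv_coe, MulEquiv.apply_symm_apply]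
      exact hy
    · exact (ascotrres_equiv e P').apply_symm_apply y

/-- the quotients modulo scalars are isomorphic -/
noncomputable def ascotrres_quot (e : ι ≃ κ) (P' : Subgroup (GL κ F)) :
    (↥(P'.comap (RI.glReindex (F := F) e).toMonoidHom) ⧸
        (scalars ι F).subgroupOf (P'.comap (RI.glReindex (F := F) e).toMonoidHom)) ≃*
      (↥P' ⧸ (scalars κ F).subgroupOf P') :=
  QuotientGroup.congr _ _ (ascotrres_equiv e P') (ascotrres_map_scalars e P')

theorem ascotrres_inv_coe (e : ι ≃ κ) (B : GL ι F) :
    (((RI.glReindex (F := F) e B)⁻¹ : GL κ F) : Matrix κ κ F) =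
      Matrix.reindex e e ((B⁻¹ : GL ι F) : Matrix ι ι F) := by
  rw [← map_inv, RI.glReindex_coe]

theorem residual_transport (e : ι ≃ κ) (H : Subgroup (GL ι F))
    (h : InOrthogonalResidualClass (H.map (RI.glReindex (F := F) e).toMonoidHom)) :
    InOrthogonalResidualClass H := by
  obtain ⟨P', hcore, hnu⟩ := h
  refine ⟨P'.comap (RI.glReindex (F := F) e).toMonoidHom, ?_, ?_⟩
  · have hinj : Function.Injective (RI.glReindex (F := F) e) := (RI.glReindex (F := F) e).injective
    have hmapcomap : (P'.comap (RI.glReindex (F := F) e).toMonoidHom).map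
        (RI.glReindex (F := F) e).toMonoidHom = P' :=
      Subgroup.map_comap_eq_self_of_surjective (RI.glReindex (F := F) e).surjective P'
    refine
      { le := ?_, normal := ?_, perfect := ?_, simple := ?_, nonabelian := ?_,
        centralizer_scalar := ?_, absIrred := ascotrres_absIrr e P' hcore.absIrred,
        no_subfield := ?_ }
    · -- le
      intro x hx
      have hx' : RI.glReindex (F := F) e x ∈ P' := hx
      obtain ⟨y, hy, hyx⟩ := hcore.le hx'
      have : y = x := hinj hyx
      rw [← this]; exact hy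
    · -- normal
      intro g hg x hx
      have hx' : RI.glReindex (F := F) e x ∈ P' := hx
      show RI.glReindex (F := F) e (g * x * g⁻¹) ∈ P'
      rw [map_mul, map_mul, map_inv]
      exact hcore.normal _ ⟨g, hg, rfl⟩ _ hx'
    · -- perfect
      apply Subgroup.map_injective (f := (RI.glReindex (F := F) e).toMonoidHom) hinj
      rw [Subgroup.map_commutator, hmapcomap]
      exact hcore.perfect
    · -- simple
      have := hcore.simple
      exact (ascotrres_quot e P').isSimpleGroup
    · -- nonabelian
      intro hc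
      apply hcore.nonabelian
      refine ⟨⟨fun a b => ?_⟩⟩
      have h1 := hc.is_comm.comm ((ascotrres_quot e P').symm a) ((ascotrres_quot e P').symm b)
      have h2 := congrArg (ascotrres_quot e P') h1
      rw [map_mul, map_mul, MulEquiv.apply_symm_apply, MulEquiv.apply_symm_apply] at h2
      exact h2
    · -- centralizer_scalar
      intro g hg hcen
      rw [← ascotrres_scalars e]
      apply hcore.centralizer_scalar _ ⟨g, hg, rfl⟩
      intro x' hx'
      have hx : (RI.glReindex (F := F) e).symm x' ∈
          P'.comap (RI.glReindex (F := F) e).toMonoidHom := by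
        show RI.glReindex (F := F) e ((RI.glReindex (F := F) e).symm x') ∈ P'
        rw [MulEquiv.apply_symm_apply]; exact hx'
      have := (ascotrres_scalars e _).2 (hcen _ hx)
      rw [map_mul, map_mul, map_mul, map_inv, map_inv, MulEquiv.apply_symm_apply] at this
      exact this
    · -- no_subfield
      intro F₀ hF₀ hreal
      apply hcore.no_subfield F₀ hF₀
      obtain ⟨B, hB⟩ := hreal
      refine ⟨RI.glReindex (F := F) e B, ?_⟩
      intro s' hs' i j
      obtain ⟨s, hs, rfl⟩ := ascotrres_matrixSet' e P' s' hs'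
      rw [ascotrres_inv_coe, RI.glReindex_coe]
      simp only [Matrix.reindex_apply]
      rw [Matrix.submatrix_mul_equiv, Matrix.submatrix_mul_equiv]
      exact hB s hs (e.symm i) (e.symm j)
  · -- no unitary form
    rintro ⟨σ, f, hf, hfix⟩
    apply hnu
    refine ⟨σ, fun u v => f (u ∘ e) (v ∘ e), ?_, ?_⟩
    · refine
        { ne_refl := hf.ne_refl, involutive := hf.involutive, add_left := ?_, smul_left := ?_,
          herm := ?_, nondegenerate := ?_ }
      · intro x y v
        exact hf.add_left (x ∘ e) (y ∘ e) (v ∘ e)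
      · intro c x v
        exact hf.smul_left c (x ∘ e) (v ∘ e)
      · intro v w
        exact hf.herm (v ∘ e) (w ∘ e)
      · intro v hv
        have hv' : v ∘ e ≠ 0 := by
          intro h0
          apply hv
          funext k
          have := congrFun h0 (e.symm k)
          simpa using this
        obtain ⟨⟨x, hx⟩, ⟨y, hy⟩⟩ := hf.nondegenerate (v ∘ e) hv'
        have hcomp : ∀ z : ι → F, (z ∘ e.symm) ∘ e = z := by
          intro z; funext i; simp
        refine ⟨⟨x ∘ e.symm, ?_⟩, ⟨y ∘ e.symm, ?_⟩⟩
        · show f ((x ∘ e.symm) ∘ e) (v ∘ e) ≠ 0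
          rw [hcomp]; exact hx
        · show f (v ∘ e) ((y ∘ e.symm) ∘ e) ≠ 0
          rw [hcomp]; exact hy
    · intro s' hs' u v
      obtain ⟨s, hs, rfl⟩ := ascotrres_matrixSet' e P' s' hs'
      show f ((Matrix.reindex e e s *ᵥ u) ∘ e) ((Matrix.reindex e e s *ᵥ v) ∘ e) = f (u ∘ e) (v ∘ e)
      rw [ascotrres_mulVec, ascotrres_mulVec]
      exact hfix s hs (u ∘ e) (v ∘ e)

end transport


end Cfsg.Agent.Lib.helper23.ASCO
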