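import Mathlib
import Cfsg.Prelude.Def_GeometricClasses
import Cfsg.Agent.Lib.Helper27.ASC.Defs
import Cfsg.Agent.Lib.helper23.ASCO.Defs
import Cfsg.Agent.Lib.Lead.Reindex
import Cfsg.Agent.Lib.Helper28.OTrans

/-! ASCO piece TRTS (helper18): transport of the class of totally singular subspaces along a reindexing. -/

set_option autoImplicit false
set_option linter.unusedVariables false
set_option linter.unusedSectionVars false

namespace Cfsg.Agent.Lib.helper23.ASCO

open Cfsg Cfsg.Geo Cfsg.Agent.Lib.Helper27.ASC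
open scoped MatrixGroups Matrix

variable {n : ℕ} {F : Type*} [Field F] [Fintype F]

section transport

open Cfsg.Agent.Lib.Lead

variable {ι κ : Type} [Fintype ι] [DecidableEq ι] [Fintype κ] [DecidableEq κ]

/-- the comap of the map along `x ↦ x ∘ e` -/
theorem ascotrts_comap_map (e : ι ≃ κ) (W' : Submodule F (κ → F)) :
    (W'.map (LinearMap.funLeft F F e)).comap (LinearMap.funLeft F F e) = W' := by
  apply Submodule.comap_map_eq_of_injective
  intro x y hxy
  funext k
  have := congrFun hxy (e.symm k)
  simpa [LinearMap.funLeft_apply] using this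

/-- a subgroup is determined by its image under the reindexing isomorphism -/
theorem ascotrts_eq_of_map (e : ι ≃ κ) (H K : Subgroup (GL ι F))
    (h : H.map (RI.glReindex (F := F) e).toMonoidHom = K.map (RI.glReindex (F := F) e).toMonoidHom) :
    H = K :=
  Subgroup.map_injective (RI.glReindex (F := F) e).injective h

/-- TRTS -/
theorem classTS_transport (e : ι ≃ κ) (Q : (ι → F) → F) (H : Subgroup (GL ι F))
    (h : ClassTS (fun x : κ → F => Q (x ∘ e)) (H.map (RI.glReindex (F := F) e).toMonoidHom)) :
    ClassTS Q H := by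
  obtain ⟨W', hW'0, hW'ts, hH⟩ := h
  refine ⟨W'.map (LinearMap.funLeft F F e), ?_, ?_, ?_⟩
  · obtain ⟨w, hw, hw0⟩ := (Submodule.ne_bot_iff _).mp hW'0
    rw [Submodule.ne_bot_iff]
    refine ⟨w ∘ e, ⟨w, hw, rfl⟩, ?_⟩
    intro h0
    apply hw0
    funext k
    have := congrFun h0 (e.symm k)
    simpa using this
  · rintro _ ⟨x, hx, rfl⟩
    exact hW'ts x hx
  · apply ascotrts_eq_of_map e
    rw [hH]
    have h1 := Subgroup.map_inf (subspaceStabilizer (W'.map (LinearMap.funLeft F F e)))
      (omegaGL Q) (RI.glReindex (F := F) e).toMonoidHom (RI.glReindex (F := F) e).injective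
    rw [h1, Cfsg.Agent.Lib.Helper28.OTrans.map_stab, Cfsg.Agent.Lib.Helper28.OTrans.map_omegaGL,
      ascotrts_comap_map]

end transport

end Cfsg.Agent.Lib.helper23.ASCO
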