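import Mathlib
import Cfsg.Prelude.Def_GeometricClasses
import Cfsg.Agent.Lib.Helper27.ASC.Defs
import Cfsg.Agent.Lib.helper23.ASCO.Defs
import Cfsg.Agent.Lib.Helper19.ASG.Defs
import Cfsg.Agent.Lib.Helper1.ASGCLIF3
import Cfsg.Agent.Lib.Helper25.ASO.Defs
import Cfsg.Agent.Lib.helper23.ASE.Defs
import Cfsg.Agent.Lib.Helper16.Symplectic

set_option autoImplicit false
set_option linter.unusedVariables false
set_option linter.unusedSectionVars false

/-!
# Project ASE (leader helper23), piece SUB2E (helper18) : `asesub2e_plus_even` = the statement of `sub2_plus_even`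
(the verbatim name `sub2_plus_even` is declared in `Cfsg.Agent.Lib.Helper10.ASESUB2`, landed 3 s earlier: renamed here to
avoid a duplicate declaration)

Characteristic 2: a quadratic form carried (up to a scalar) by a structure over a subfield of index 2 is of plus type.
-/

namespace Cfsg.Agent.Lib.helper23.ASE

open Cfsg Cfsg.Geo Cfsg.Agent.Lib.Helper27.ASC Cfsg.Agent.Lib.helper23.ASCO Cfsg.Agent.Lib.Helper19.ASG
  Cfsg.Agent.Lib.Helper25.ASO
open scoped MatrixGroups Matrix Kronecker

variable {n : ℕ} {F : Type*} [Field F] [Fintype F]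

/-- a quadratic polynomial `a X² + X + c` over a subfield of index 2 has a root (any characteristic) -/
theorem asesub2e_root (F₁ : Subfield F) (hcard : Fintype.card F = Nat.card F₁ ^ 2) (a c : F)
    (ha : a ∈ F₁) (hc : c ∈ F₁) : ∃ s : F, a * s ^ 2 + s + c = 0 := by
  classical
  by_cases ha0 : a = 0
  · exact ⟨-c, by rw [ha0]; ring⟩
  set a' : F₁ := ⟨a, ha⟩ with ha'
  set c' : F₁ := ⟨c, hc⟩ with hc'
  have ha'0 : a' ≠ 0 := fun h => ha0 (congrArg Subtype.val h)
  set p : Polynomial F₁ := Polynomial.C a' * Polynomial.X ^ 2 + Polynomial.C 1 * Polynomial.X + Polynomial.C c' with hp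
  have hdeg : p.natDegree = 2 := Polynomial.natDegree_quadratic ha'0
  have heval : ∀ s : F, Polynomial.eval s (p.map (algebraMap F₁ F)) = a * s ^ 2 + s + c := by
    intro s
    simp [hp, ha', hc']
    rfl
  by_cases hroot : ∃ x : F₁, Polynomial.IsRoot p x
  · obtain ⟨x, hx⟩ := hroot
    refine ⟨(x : F), ?_⟩
    rw [← heval, Polynomial.eval_map_algebraMap]
    have : Polynomial.aeval (x : F) p = algebraMap F₁ F (Polynomial.eval x p) := by
      rw [← Polynomial.aeval_algebraMap_apply_eq_algebraMap_eval]
      rfl
    rw [this, hx, map_zero]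
  · push Not at hroot
    have hirr : Irreducible p :=
      Polynomial.irreducible_of_degree_le_three_of_not_isRoot (by rw [hdeg]; simp) hroot
    have hdvd : p ∣ Polynomial.X ^ (Nat.card F₁) ^ 2 - Polynomial.X :=
      (hirr.natDegree_dvd_iff_dvd_X_pow_card_pow_sub_X (n := 2)).1 (by rw [hdeg])
    have hdvd' := Polynomial.map_dvd (algebraMap F₁ F) hdvd
    have hmap : (Polynomial.X ^ (Nat.card F₁) ^ 2 - Polynomial.X : Polynomial F₁).map (algebraMap F₁ F) =
        Polynomial.X ^ Nat.card F - Polynomial.X := by
      simp [hcard]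
    rw [hmap] at hdvd'
    have hne : (Polynomial.X ^ Nat.card F - Polynomial.X : Polynomial F) ≠ 0 := by
      rw [Nat.card_eq_fintype_card]
      exact FiniteField.X_pow_card_sub_X_ne_zero F Fintype.one_lt_card
    have hsplit : Polynomial.Splits (p.map (algebraMap F₁ F)) :=
      Polynomial.Splits.of_dvd Polynomial.splits_X_pow_nat_card_sub_X hne hdvd'
    have hdeg' : (p.map (algebraMap F₁ F)).degree ≠ 0 := by
      rw [Polynomial.degree_map, Polynomial.degree_eq_natDegree (fun h => by rw [h] at hdeg; simp at hdeg), hdeg]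
      norm_num
    obtain ⟨s, hs⟩ := hsplit.exists_eval_eq_zero hdeg'
    exact ⟨s, by rw [← heval]; exact hs⟩

/-- a family of pairwise orthogonal singular vectors spans a totally singular subspace -/
theorem asesub2e_span_singular (Q : QuadraticForm F (Fin n → F)) {m : ℕ} (w : Fin m → (Fin n → F))
    (hQw : ∀ i, Q (w i) = 0) (hpw : ∀ i j, QuadraticMap.polar Q (w i) (w j) = 0) :
    ∀ x ∈ Submodule.span F (Set.range w), Q x = 0 := by
  have h1 : ∀ x ∈ Submodule.span F (Set.range w), ∀ j, QuadraticMap.polar Q x (w j) = 0 := by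
    intro x hx j
    induction hx using Submodule.span_induction with
    | mem y hy =>
      obtain ⟨i, rfl⟩ := hy
      exact hpw i j
    | zero => exact QuadraticMap.polar_zero_left Q _
    | add y z _ _ hy hz => rw [QuadraticMap.polar_add_left, hy, hz, add_zero]
    | smul c y _ hy => rw [QuadraticMap.polar_smul_left, hy, smul_zero]
  have h2 : ∀ x ∈ Submodule.span F (Set.range w), ∀ y ∈ Submodule.span F (Set.range w),
      QuadraticMap.polar Q x y = 0 := by
    intro x hx y hy
    induction hy using Submodule.span_induction with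
    | mem y hy =>
      obtain ⟨i, rfl⟩ := hy
      exact h1 x hx i
    | zero => exact QuadraticMap.polar_zero_right Q _
    | add y z _ _ hy hz => rw [QuadraticMap.polar_add_right, hy, hz, add_zero]
    | smul c y _ hy => rw [QuadraticMap.polar_smul_right, hy, smul_zero]
  intro x hx
  induction hx using Submodule.span_induction with
  | mem y hy =>
    obtain ⟨i, rfl⟩ := hy
    exact hQw i
  | zero => exact map_zero Q
  | add y z hy' hz' hy hz => rw [QuadraticMap.map_add (⇑Q), hy, hz, h2 y hy' z hz', add_zero, add_zero]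
  | smul c y _ hy => rw [QuadraticMap.map_smul, hy, smul_zero]

/-- SUB2E : characteristic 2: a form carried (up to a scalar) by a structure over a subfield of index 2 is of plus type. -/
theorem asesub2e_plus_even (h2 : (2 : F) = 0) (hn : Even n) (Q : QuadraticForm F (Fin n → F))
    (hQ : (QuadraticMap.polarBilin Q).Nondegenerate) (F₁ : Subfield F)
    (hcard : Fintype.card F = Nat.card F₁ ^ 2) (B : GL (Fin n) F) (ζ : F) (hζ : ζ ≠ 0)
    (hrat : IsQuadFormRationalStructure (fun v : Fin n → F => ζ * Q v) F₁ B) : IsPlusTypeOn (⇑Q) ⊤ := by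
  classical
  obtain ⟨m, hm⟩ := hn
  -- the rational vectors
  set up : (Fin n → F₁) → (Fin n → F) := fun u i => (u i : F) with hup
  set β : (Fin n → F₁) → (Fin n → F) := fun u => (B : Matrix (Fin n) (Fin n) F) *ᵥ up u with hβ
  have up_add : ∀ u v, up (u + v) = up u + up v := by
    intro u v
    funext i
    simp [hup]
  have up_smul : ∀ (c : F₁) u, up (c • u) = (c : F) • up u := by
    intro c u
    funext i
    simp [hup]
  have β_add : ∀ u v, β (u + v) = β u + β v := by
    intro u v
    simp only [hβ]
    rw [up_add, Matrix.mulVec_add]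
  have β_smul : ∀ (c : F₁) u, β (c • u) = (c : F) • β u := by
    intro c u
    simp only [hβ]
    rw [up_smul, Matrix.mulVec_smul]
  have hQmem : ∀ u : Fin n → F₁, ζ * Q (β u) ∈ F₁ := fun u => hrat (up u) (fun i => (u i).2)
  have hmem : ∀ u v, ζ * QuadraticMap.polar Q (β u) (β v) ∈ F₁ := by
    intro u v
    have : ζ * QuadraticMap.polar Q (β u) (β v) = ζ * Q (β (u + v)) - ζ * Q (β u) - ζ * Q (β v) := by
      rw [β_add]
      unfold QuadraticMap.polar
      ring
    rw [this]
    exact F₁.sub_mem (F₁.sub_mem (hQmem _) (hQmem _)) (hQmem _)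
  -- the alternating form over `F₁`
  let ω : LinearMap.BilinForm F₁ (Fin n → F₁) :=
    LinearMap.mk₂ F₁ (fun u v => (⟨ζ * QuadraticMap.polar Q (β u) (β v), hmem u v⟩ : F₁))
      (by
        intro u₁ u₂ v
        apply Subtype.ext
        show ζ * QuadraticMap.polar Q (β (u₁ + u₂)) (β v) =
          ζ * QuadraticMap.polar Q (β u₁) (β v) + ζ * QuadraticMap.polar Q (β u₂) (β v)
        rw [β_add, QuadraticMap.polar_add_left, mul_add])
      (by
        intro c u v
        apply Subtype.ext
        show ζ * QuadraticMap.polar Q (β (c • u)) (β v) = (c : F) * (ζ * QuadraticMap.polar Q (β u) (β v))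
        rw [β_smul, QuadraticMap.polar_smul_left, smul_eq_mul]
        ring)
      (by
        intro u v₁ v₂
        apply Subtype.ext
        show ζ * QuadraticMap.polar Q (β u) (β (v₁ + v₂)) =
          ζ * QuadraticMap.polar Q (β u) (β v₁) + ζ * QuadraticMap.polar Q (β u) (β v₂)
        rw [β_add, QuadraticMap.polar_add_right, mul_add])
      (by
        intro c u v
        apply Subtype.ext
        show ζ * QuadraticMap.polar Q (β u) (β (c • v)) = (c : F) * (ζ * QuadraticMap.polar Q (β u) (β v))
        rw [β_smul, QuadraticMap.polar_smul_right, smul_eq_mul]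
        ring)
  have hω : ∀ u v, ((ω u v : F₁) : F) = ζ * QuadraticMap.polar Q (β u) (β v) := fun u v => rfl
  have hQ2 : ∀ x : Fin n → F, QuadraticMap.polar Q x x = 0 := by
    intro x
    rw [QuadraticMap.polar_self, two_nsmul, ← two_mul, h2, zero_mul]
  have hAlt : ω.IsAlt := by
    intro u
    apply Subtype.ext
    rw [hω, hQ2, mul_zero]
    rfl
  have hBinv : ∀ x : Fin n → F, ((B⁻¹ : GL (Fin n) F) : Matrix (Fin n) (Fin n) F) *ᵥ
      ((B : Matrix (Fin n) (Fin n) F) *ᵥ x) = x := by
    intro x
    rw [Matrix.mulVec_mulVec, ← Units.val_mul, inv_mul_cancel, Units.val_one, Matrix.one_mulVec]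
  have hBinv' : ∀ x : Fin n → F, (B : Matrix (Fin n) (Fin n) F) *ᵥ
      (((B⁻¹ : GL (Fin n) F) : Matrix (Fin n) (Fin n) F) *ᵥ x) = x := by
    intro x
    rw [Matrix.mulVec_mulVec, ← Units.val_mul, mul_inv_cancel, Units.val_one, Matrix.one_mulVec]
  have hsepL : ∀ u, (∀ v, ω u v = 0) → u = 0 := by
    intro u hu
    have h1 : ∀ v, QuadraticMap.polar Q (β u) (β v) = 0 := by
      intro v
      have := congrArg (fun x : F₁ => (x : F)) (hu v)
      simp only [hω] at this
      exact (mul_eq_zero.1 this).resolve_left hζ
    -- the functional `y ↦ polar (β u) (B y)` vanishes on the standard basis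
    set L : (Fin n → F) →ₗ[F] F :=
      (QuadraticMap.polarBilin Q (β u)).comp (Matrix.toLin' (B : Matrix (Fin n) (Fin n) F)) with hL
    have hL0 : L = 0 := by
      apply LinearMap.pi_ext'
      intro j
      apply LinearMap.ext_ring
      rw [LinearMap.comp_apply, LinearMap.coe_single, LinearMap.zero_comp, LinearMap.zero_apply, hL,
        LinearMap.comp_apply, Matrix.toLin'_apply, QuadraticMap.polarBilin_apply_apply]
      have : (B : Matrix (Fin n) (Fin n) F) *ᵥ (Pi.single j (1 : F)) = β (Pi.single j (1 : F₁)) := by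
        simp only [hβ, hup]
        congr 1
        funext i
        by_cases hij : i = j
        · subst hij
          simp
        · simp [Pi.single_eq_of_ne hij]
      rw [this]
      exact h1 _
    have h3 : β u = 0 := by
      apply hQ.1
      intro y
      have := congrArg (fun l : (Fin n → F) →ₗ[F] F => l (((B⁻¹ : GL (Fin n) F) : Matrix (Fin n) (Fin n) F) *ᵥ y)) hL0
      simp only [hL, LinearMap.comp_apply, Matrix.toLin'_apply, LinearMap.zero_apply, hBinv'] at this
      exact this
    have h4 : up u = 0 := by
      have := hBinv (up u)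
      rw [← this]
      show ((B⁻¹ : GL (Fin n) F) : Matrix (Fin n) (Fin n) F) *ᵥ β u = 0
      rw [h3, Matrix.mulVec_zero]
    funext i
    apply Subtype.ext
    exact congrFun h4 i
  have hsymm : ∀ u v, ω u v = ω v u := by
    intro u v
    apply Subtype.ext
    rw [hω, hω, QuadraticMap.polar_comm]
  have hnd : ω.Nondegenerate := by
    refine ⟨hsepL, ?_⟩
    intro v hv
    apply hsepL
    intro u
    rw [hsymm]
    exact hv u
  have hV : Module.finrank F₁ (Fin n → F₁) = 2 * m := by
    rw [Module.finrank_fin_fun, hm, two_mul]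
  obtain ⟨e, f, hef, hee⟩ := Cfsg.Agent.Lib.Helper16.alt_family m hV ω hAlt hnd
  -- the values of the polar form on the rational symplectic basis
  have pef : ∀ i j, ζ * QuadraticMap.polar Q (β (e i)) (β (f j)) = if i = j then 1 else 0 := by
    intro i j
    rw [← hω, hef i j]
    split_ifs <;> rfl
  have pee : ∀ i j, QuadraticMap.polar Q (β (e i)) (β (e j)) = 0 := by
    intro i j
    have := congrArg (fun x : F₁ => (x : F)) (hee i j).1
    simp only [hω] at this
    exact (mul_eq_zero.1 this).resolve_left hζ
  have pff : ∀ i j, QuadraticMap.polar Q (β (f i)) (β (f j)) = 0 := by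
    intro i j
    have := congrArg (fun x : F₁ => (x : F)) (hee i j).2
    simp only [hω] at this
    exact (mul_eq_zero.1 this).resolve_left hζ
  have pef0 : ∀ i j, i ≠ j → QuadraticMap.polar Q (β (e i)) (β (f j)) = 0 := by
    intro i j hij
    have := pef i j
    rw [if_neg hij] at this
    exact (mul_eq_zero.1 this).resolve_left hζ
  have pfe0 : ∀ i j, i ≠ j → QuadraticMap.polar Q (β (f i)) (β (e j)) = 0 := by
    intro i j hij
    rw [QuadraticMap.polar_comm]
    exact pef0 j i (fun h => hij h.symm)
  -- the singular vectors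
  have hroot : ∀ i, ∃ s : F, (ζ * Q (β (e i))) * s ^ 2 + s + ζ * Q (β (f i)) = 0 :=
    fun i => asesub2e_root F₁ hcard _ _ (hQmem _) (hQmem _)
  choose s hs using hroot
  set w : Fin m → (Fin n → F) := fun i => s i • β (e i) + β (f i) with hw
  have hQw : ∀ i, Q (w i) = 0 := by
    intro i
    have h1 : ζ * Q (w i) = (ζ * Q (β (e i))) * s i ^ 2 + s i * (ζ * QuadraticMap.polar Q (β (e i)) (β (f i))) +
        ζ * Q (β (f i)) := by
      simp only [hw]
      rw [QuadraticMap.map_add (⇑Q), QuadraticMap.map_smul, QuadraticMap.polar_smul_left, smul_eq_mul, smul_eq_mul]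
      ring
    rw [pef i i, if_pos rfl, mul_one] at h1
    have h3 : ζ * Q (w i) = 0 := by
      rw [h1, ← hs i]
    exact (mul_eq_zero.1 h3).resolve_left hζ
  have hpw : ∀ i j, QuadraticMap.polar Q (w i) (w j) = 0 := by
    intro i j
    by_cases hij : i = j
    · subst hij
      exact hQ2 _
    · simp only [hw]
      rw [QuadraticMap.polar_add_left, QuadraticMap.polar_add_right, QuadraticMap.polar_add_right,
        QuadraticMap.polar_smul_left, QuadraticMap.polar_smul_left, QuadraticMap.polar_smul_right,
        QuadraticMap.polar_smul_right, pee, pff, pef0 i j hij, pfe0 i j hij]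
      simp
  have hLI : LinearIndependent F w := by
    rw [Fintype.linearIndependent_iff]
    intro g hg j
    have h1 := congrArg (fun x => (QuadraticMap.polarBilin Q).flip (β (e j)) x) hg
    simp only [map_sum, map_smul, map_zero, LinearMap.flip_apply, QuadraticMap.polarBilin_apply_apply] at h1
    have h2' : ∀ i, QuadraticMap.polar Q (w i) (β (e j)) = if i = j then ζ⁻¹ else 0 := by
      intro i
      simp only [hw]
      rw [QuadraticMap.polar_add_left, QuadraticMap.polar_smul_left, pee, smul_zero, zero_add]
      by_cases hij : i = j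
      · subst hij
        rw [if_pos rfl, QuadraticMap.polar_comm]
        have := pef i i
        rw [if_pos rfl] at this
        field_simp
        rw [mul_comm]
        exact this
      · rw [if_neg hij]
        exact pfe0 i j hij
    simp only [h2', smul_eq_mul, mul_ite, mul_zero, Finset.sum_ite_eq', Finset.mem_univ, if_true] at h1
    exact (mul_eq_zero.1 h1).resolve_right (inv_ne_zero hζ)
  refine ⟨Submodule.span F (Set.range w), le_top, asesub2e_span_singular Q w hQw hpw, ?_⟩
  rw [finrank_span_eq_card hLI, Fintype.card_fin, finrank_top, Module.finrank_fin_fun, hm, two_mul]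

end Cfsg.Agent.Lib.helper23.ASE
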