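import Mathlib
import Cfsg.Prelude.Def_GeometricClasses
import Cfsg.Agent.Lib.Helper27.ASC.Defs
import Cfsg.Agent.Lib.Helper19.ASG.Defs
import Cfsg.Agent.Lib.Helper18.ASP.Defs
import Cfsg.Agent.Lib.Helper18.ASPADJ
import Cfsg.Agent.Lib.Helper18.ASPABGEN
import Cfsg.Agent.Lib.Helper1.ASGCLIF5
import Cfsg.Agent.Lib.helper23.ASPABIDEM2
import Cfsg.Agent.Lib.helper23.ASPABTS
import Cfsg.Agent.Lib.helper23.ASPABQUAD
import Cfsg.Agent.Lib.Helper24.ASPABSA
import Cfsg.Agent.Lib.Helper11.ASPABDEG
import Cfsg.Agent.Lib.Helper11.ASPABU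

set_option autoImplicit false
set_option linter.unusedVariables false
set_option linter.unusedSectionVars false
set_option linter.style.haveILetI false

/-! # Project ASP, block AB : assembly of `sp_clifford_ab` from the pieces of `ASP/SkelAB.lean.txt` (helper18) -/

namespace Cfsg.Agent.Lib.Helper18.ASP

open Cfsg Cfsg.Geo Cfsg.Agent.Lib.Helper27.ASC Cfsg.Agent.Lib.Helper19.ASG
open scoped MatrixGroups Matrix

variable {n : ℕ} {F : Type*} [Field F] [Fintype F]

/-- a field subalgebra of degree at most one consists of scalars -/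
theorem aspab_scalar_of_deg {b : ℕ} (hn : 0 < n) (K : Subalgebra F (Matrix (Fin n) (Fin n) F))
    (hK : IsFieldSubalgebra b K) (hb : ¬ 2 ≤ b) :
    ∀ z ∈ K, ∃ c : F, z = c • (1 : Matrix (Fin n) (Fin n) F) := by
  haveI : Nonempty (Fin n) := ⟨⟨0, hn⟩⟩
  have hb1 : b = 1 := by
    have h0 : b ≠ 0 := by
      intro h0
      have hfr := hK.finrank_eq
      rw [h0] at hfr
      haveI : Subsingleton K := Module.finrank_zero_iff.mp hfr
      have h01 : (0 : K) = 1 := Subsingleton.elim _ _
      have h2 := congrArg (fun y : K => (y : Matrix (Fin n) (Fin n) F)) h01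
      simp at h2
    omega
  have hbot : K = ⊥ := Subalgebra.finrank_eq_one_iff.mp (hb1 ▸ hK.finrank_eq)
  intro z hz
  rw [hbot, Algebra.mem_bot] at hz
  obtain ⟨c, rfl⟩ := hz
  exact ⟨c, Algebra.algebraMap_eq_smul_one c⟩


/-- AB-ND (inline copy, own name): self-adjoint orthogonal idempotents give a non-degenerate decomposition -/
theorem aspab_nddec' (f : (Fin n → F) → (Fin n → F) → F) (hf : IsSymplecticForm f) {t k : ℕ}
    (E : Fin t → Matrix (Fin n) (Fin n) F) (hsa : ∀ i u v, f (E i *ᵥ u) v = f u (E i *ᵥ v))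
    (hid : ∀ i, E i * E i = E i) (horth : ∀ i j, i ≠ j → E i * E j = 0)
    (hD : IsMDecomposition k (fun i => LinearMap.range (Matrix.toLin' (E i)))) :
    IsNondegenerateMDecomposition f k (fun i => LinearMap.range (Matrix.toLin' (E i))) := by
  have hfix : ∀ i, ∀ w ∈ LinearMap.range (Matrix.toLin' (E i)), E i *ᵥ w = w := by
    rintro i _ ⟨x, rfl⟩
    rw [Matrix.toLin'_apply, Matrix.mulVec_mulVec, hid]
  refine ⟨hD, ?_, ?_⟩
  · intro i w hw hw0
    obtain ⟨⟨x, hx⟩, ⟨y, hy⟩⟩ := hf.nondegenerate w hw0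
    refine ⟨⟨E i *ᵥ x, ⟨x, by rw [Matrix.toLin'_apply]⟩, ?_⟩, ⟨E i *ᵥ y, ⟨y, by rw [Matrix.toLin'_apply]⟩, ?_⟩⟩
    · rw [hsa, hfix i w hw]; exact hx
    · rw [← hsa, hfix i w hw]; exact hy
  · rintro i j hij _ ⟨x, rfl⟩ _ ⟨y, rfl⟩
    rw [Matrix.toLin'_apply, Matrix.toLin'_apply, hsa, Matrix.mulVec_mulVec, horth i j hij, Matrix.zero_mulVec]
    have h0 : f x 0 = 0 := by
      have := hf.bilinear.smul_right 0 x 0
      simpa using this
    exact h0

/-- SP-AB -/
theorem sp_clifford_ab {m : ℕ} (hm : 2 ≤ m) (hn : n = 2 * m) (f : (Fin n → F) → (Fin n → F) → F)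
    (hf : IsSymplecticForm f) {H N : Subgroup (GL (Fin n) F)} (hI : H ≤ isoGL f) (hH : Irr H)
    (hN : NormalIn N H) :
    InSp m f H ∨ ∃ k : ℕ, Nonempty (centAlg N ≃ₐ[F] Matrix (Fin k) (Fin k) F) := by
  have hn0 : 0 < n := by omega
  have hNI : N ≤ isoGL f := hN.1.trans hI
  by_cases hid0 : ∀ e ∈ aspZ0 hf N, e * e = e → e = 0 ∨ e = 1
  · -- `Z₀` is a field
    have hZ0f := aspgen_field hn0 hH (aspZ0 hf N) (aspZ0_comm hf N) (aspZ0_conj hf hI hN) hid0
    by_cases hb0 : 2 ≤ Module.finrank F (aspZ0 hf N)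
    · exact Or.inl (ab_field_sa f hf hI hN hZ0f hb0)
    · have hsc0 := aspab_scalar_of_deg hn0 _ hZ0f hb0
      by_cases hidZ : ∀ e ∈ asgZ N, e * e = e → e = 0 ∨ e = 1
      · -- `Z` is a field
        have hZf := asgclif_field hn0 hH hN hidZ
        by_cases hb : 2 ≤ Module.finrank F (asgZ N)
        · have hb2 : Module.finrank F (asgZ N) = 2 :=
            le_antisymm (ab_deg_two f hf hNI hZf hsc0) hb
          rw [hb2] at hZf
          exact Or.inl (ab_field_u f hf hI hN hZf hsc0)
        · exact Or.inr (asgclif_matrix hn0 hH hN (aspab_scalar_of_deg hn0 _ hZf hb))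
      · -- two idempotents swapped by the adjoint
        left
        push Not at hidZ
        obtain ⟨e, he, hid, h0, h1⟩ := hidZ
        obtain ⟨hee, hsum, hall⟩ := ab_two_idem f hf hNI hid0 e he hid h0 h1
        obtain ⟨D, hD, hts, hstab⟩ := ab_tspair hn hm f hf hI hH hN e he hid h0 h1 hee hsum hall
        by_cases hF : Odd (Fintype.card F)
        · exact inSp_of_tspair hI D hF hD hts hstab
        · refine ab_quad hF f hf hI e hsum ?_
          intro h hh v
          have hc : asgConj h e ∈ asgZ N := asgclif_conj_mem hN h hh e he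
          have hcid : asgConj h e * asgConj h e = asgConj h e := by
            rw [← asgclif_conj_mmul, hid]
          have two0 : (2 : F) = 0 := by
            have hev : Even (Fintype.card F) := Nat.not_odd_iff_even.mp hF
            have hch : ringChar F = 2 := FiniteField.even_card_iff_char_two.mpr (Nat.even_iff.mp hev)
            haveI : CharP F 2 := hch ▸ ringChar.charP F
            exact CharTwo.two_eq_zero
          rcases hall _ hc hcid with h' | h' | h' | h'
          · exfalso
            apply h0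
            have := congrArg (asgConj h⁻¹) h'
            rwa [asgclif_conj_inv_conj, asgclif_conj_zero] at this
          · exfalso
            apply h1
            have := congrArg (asgConj h⁻¹) h'
            rw [asgclif_conj_inv_conj] at this
            rw [this]
            unfold asgConj
            rw [Matrix.mul_one, ← Units.val_mul, mul_inv_cancel, Units.val_one]
          · rw [h']
          · rw [h', ← aspadj_spec' hf, hf.skew]
            have h2 : f (e *ᵥ v) v + f (e *ᵥ v) v = 0 := by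
              rw [← two_mul, two0, zero_mul]
            exact (eq_neg_of_add_eq_zero_left h2).symm
  · -- `Z₀` has a non-trivial idempotent: non-degenerate decomposition
    left
    push Not at hid0
    obtain ⟨e0, he0, hid, h00, h01⟩ := hid0
    obtain ⟨t, k, E, hEA, hEid, hE0, hEorth, hEtr, hdec, hstab⟩ :=
      aspgen_dec hn0 hH (aspZ0 hf N) (aspZ0_comm hf N) (aspZ0_conj hf hI hN) e0 he0 hid h00 h01
    have hnd := aspab_nddec' f hf E (fun i u v => aspZ0_selfAdjoint hf N (E i) (hEA i) u v) hEid hEorth hdec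
    exact inSp_of_nddec hI _ hnd hstab

end Cfsg.Agent.Lib.Helper18.ASP

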