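import Mathlib
import Cfsg.Prelude.Def_GeometricClasses
import Cfsg.Agent.Lib.Helper27.ASC.Defs
import Cfsg.Agent.Lib.Helper19.ASG.Defs
import Cfsg.Agent.Lib.Helper18.ASP.Defs
import Cfsg.Agent.Lib.Lead.ASCU.Defs
import Cfsg.Agent.Lib.Helper16.ASCUUSUBFA
import Cfsg.Agent.Lib.Helper10.ASCSUBF2
import Cfsg.Agent.Lib.Helper25.ASCCENT
import Cfsg.Agent.Lib.Helper10.ASPD2SUNIQ
import Cfsg.Agent.Lib.Helper10.ASPD2SQODD
import Cfsg.Agent.Lib.Helper10.ASPD2SQEVEN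
import Cfsg.Agent.Lib.Helper10.ASPD2SRATF
import Cfsg.Agent.Lib.helper23.ASPD2SBIU

/-!
# Project ASP, block D2S : assembly of `sp_almost_simple` from the pieces UNIQ / QODD / QEVEN / BIU / RATF
-/

set_option autoImplicit false
set_option linter.unusedVariables false
set_option linter.unusedSectionVars false

namespace Cfsg.Agent.Lib.Helper18.ASP

open Cfsg Cfsg.Geo Cfsg.Agent.Lib.Helper27.ASC Cfsg.Agent.Lib.Helper19.ASG Cfsg.Agent.Lib.Lead.ASCU
open scoped MatrixGroups Matrix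

variable {n : ℕ} {F : Type*} [Field F] [Fintype F]

/-- `P ≤ H ≤ isoGL f` fixes `f` -/
theorem aspd2s_fixes (f : (Fin n → F) → (Fin n → F) → F) {H P : Subgroup (GL (Fin n) F)}
    (hI : H ≤ isoGL f) (hP : NormalIn P H) : FixesForm (matrixSet P) f := by
  rintro _ ⟨g, hg, rfl⟩ u v
  exact hI (hP.1 hg) u v

/-- D2S-RAT : realisable over a proper subfield => class 5 -/
theorem sp_class_of_realisable {m : ℕ} (f : (Fin n → F) → (Fin n → F) → F) (hf : IsSymplecticForm f)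
    {H P : Subgroup (GL (Fin n) F)} (hI : H ≤ isoGL f) (hP : NormalIn P H) (hA : AbsIrr P)
    (F₀ : Subfield F) (h0 : F₀ ≠ ⊤) (hR : RealisableOver F₀ (matrixSet P)) : InSp m f H := by
  obtain ⟨B, hB⟩ := hR
  obtain ⟨F₁, ℓ, h01, hℓ, hcard⟩ := exists_prime_index_subfield F₀ h0
  have hB1 : RealisesOver F₁ B P := realisesOver_mono h01 hB
  have hle : H ≤ subfieldSubgroup F₁ B⁻¹ := usubfield_explicit hP hA F₁ B hB1
  obtain ⟨ζ, hζ, hrat⟩ := sp_form_rational hA f hf (aspd2s_fixes f hI hP) F₁ ℓ hcard B hB1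
  exact inSp_of_subfield hI F₁ hℓ hcard B⁻¹ ζ hζ hrat hle

/-- SP-D2S -/
theorem sp_almost_simple {m : ℕ} (hm : 2 ≤ m) (hn : n = 2 * m) (f : (Fin n → F) → (Fin n → F) → F)
    (hf : IsSymplecticForm f) {H P : Subgroup (GL (Fin n) F)} (hI : H ≤ isoGL f) (hP : NormalIn P H)
    (hA : AbsIrr P) (hperf : ⁅P, P⁆ = P) (hsimp : IsSimpleGroup (P ⧸ (scalars (Fin n) F).subgroupOf P))
    (hnab : ¬ IsMulCommutative (P ⧸ (scalars (Fin n) F).subgroupOf P)) :
    InSp m f H ∨ InSymplecticResidualClass H := by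
  have hfix := aspd2s_fixes f hI hP
  by_cases hsub : ∃ F₀ : Subfield F, F₀ ≠ ⊤ ∧ RealisableOver F₀ (matrixSet P)
  · obtain ⟨F₀, h0, hR⟩ := hsub
    exact Or.inl (sp_class_of_realisable f hf hI hP hA F₀ h0 hR)
  by_cases hquad : ∃ Q : (Fin n → F) → F, IsNondegenerateQuadraticForm Q ∧ FixesQuadForm (matrixSet P) Q
  · obtain ⟨Q, hQ, hfixQ⟩ := hquad
    by_cases hodd : Odd (Fintype.card F)
    · exact (sp_no_quad_odd (by omega) hodd hA f hf hfix Q hQ hfixQ).elim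
    · exact Or.inl (sp_quad_even (by omega) hodd f hf hI hP hA Q hQ hfixQ)
  by_cases hunit : ∃ (σ : F ≃+* F) (g : (Fin n → F) → (Fin n → F) → F), IsUnitaryForm σ g ∧
      FixesForm (matrixSet P) g
  · obtain ⟨σ, g, hg, hfixg⟩ := hunit
    exact absurd (sp_realisable_of_unitary hA f hf hfix σ g hg hfixg) hsub
  refine Or.inr ⟨P, ⟨hP.1, hP.2, hperf, hsimp, hnab, centralizer_scalar_of hP hperf hA, hA, ?_⟩, hquad, hunit⟩
  intro F₀ h0 hR
  exact hsub ⟨F₀, h0, hR⟩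

end Cfsg.Agent.Lib.Helper18.ASP
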