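import Mathlib
import Cfsg.Prelude.Def_GeometricClasses
import Cfsg.Agent.Lib.Helper27.ASC.Defs
import Cfsg.Agent.Lib.Helper19.ASG.Defs
import Cfsg.Agent.Lib.Helper18.ASP.Defs
import Cfsg.Agent.Lib.Helper18.ASPADJ
import Cfsg.Agent.Lib.Helper18.ASPABGEN
import Cfsg.Agent.Lib.Helper1.ASGCLIF4
import Cfsg.Agent.Lib.helper23.ASPABTS
import Cfsg.Agent.Lib.helper23.ASPABQUAD
import Cfsg.Agent.Lib.Helper24.ASPABSQ
import Cfsg.Agent.Lib.Helper18.ASPAB

set_option autoImplicit false
set_option linter.unusedVariables false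
set_option linter.unusedSectionVars false

/-!
# Project ASP, piece GENK (helper18): block AB for an ARBITRARY commutative subalgebra `K` of `M_n(F)` that is stable under the
adjoint of the symplectic form `f` and under conjugation by the irreducible group `H ≤ isoGL f`:

`sp_comm_alg_case` : `K` not scalar  ==>  `InSp m f H`.

The proofs are those of the pieces AB-IDEM2 / AB-TS (helper23), AB-SA (helper24), AB-DEG / AB-U (helper11) with `K` in place
of `asgZ N` (mechanical copy), assembled as in `Helper18.ASPAB`.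
-/

namespace Cfsg.Agent.Lib.Helper18.ASP

open Cfsg Cfsg.Geo Cfsg.Agent.Lib.Helper27.ASC Cfsg.Agent.Lib.Helper19.ASG
open scoped MatrixGroups Matrix

variable {n : ℕ} {F : Type*} [Field F] [Fintype F]

section defs

variable {f : (Fin n → F) → (Fin n → F) → F}

/-- the self-adjoint part of a commutative subalgebra -/
noncomputable def aspK0 (hf : IsSymplecticForm f) (K : Subalgebra F (Matrix (Fin n) (Fin n) F))
    (hcomm : ∀ x ∈ K, ∀ y ∈ K, x * y = y * x) : Subalgebra F (Matrix (Fin n) (Fin n) F) where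
  carrier := {z | z ∈ K ∧ aspAdj f z = z}
  mul_mem' := by
    rintro a b ⟨ha, ha'⟩ ⟨hb, hb'⟩
    refine ⟨Subalgebra.mul_mem _ ha hb, ?_⟩
    rw [aspadj_mul hf, ha', hb']
    exact hcomm _ hb _ ha
  add_mem' := by
    rintro a b ⟨ha, ha'⟩ ⟨hb, hb'⟩
    exact ⟨Subalgebra.add_mem _ ha hb, by rw [aspadj_add, ha', hb']⟩
  algebraMap_mem' := fun c => ⟨Subalgebra.algebraMap_mem _ c, aspadj_algebraMap hf c⟩

variable (hf : IsSymplecticForm f) (K : Subalgebra F (Matrix (Fin n) (Fin n) F))
    (hcomm : ∀ x ∈ K, ∀ y ∈ K, x * y = y * x)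

theorem aspK0_comm : ∀ x ∈ aspK0 hf K hcomm, ∀ y ∈ aspK0 hf K hcomm, x * y = y * x :=
  fun _ hx _ hy => hcomm _ hx.1 _ hy.1

theorem aspK0_selfAdjoint : IsSelfAdjointFor f (aspK0 hf K hcomm) := by
  intro k hk u v
  rw [aspadj_spec hf, hk.2]

theorem aspK0_conj {H : Subgroup (GL (Fin n) F)} (hI : H ≤ isoGL f)
    (hconj : ∀ h ∈ H, ∀ z ∈ K, (h : Matrix (Fin n) (Fin n) F) * z *
      ((h⁻¹ : GL (Fin n) F) : Matrix (Fin n) (Fin n) F) ∈ K) :
    ∀ h ∈ H, ∀ z ∈ aspK0 hf K hcomm, (h : Matrix (Fin n) (Fin n) F) * z *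
      ((h⁻¹ : GL (Fin n) F) : Matrix (Fin n) (Fin n) F) ∈ aspK0 hf K hcomm := by
  intro h hh z hz
  refine ⟨hconj h hh z hz.1, ?_⟩
  have := aspadj_conj hf (hI hh) z
  unfold asgConj at this
  rw [this, hz.2]

theorem aspK0_trace (hstar : ∀ x ∈ K, aspAdj f x ∈ K) {x : Matrix (Fin n) (Fin n) F} (hx : x ∈ K) :
    x + aspAdj f x ∈ aspK0 hf K hcomm :=
  ⟨Subalgebra.add_mem _ hx (hstar _ hx), by rw [aspadj_add, aspadj_adj hf, add_comm]⟩

theorem aspK0_norm (hstar : ∀ x ∈ K, aspAdj f x ∈ K) {x : Matrix (Fin n) (Fin n) F} (hx : x ∈ K) :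
    x * aspAdj f x ∈ aspK0 hf K hcomm :=
  ⟨Subalgebra.mul_mem _ hx (hstar _ hx), by rw [aspadj_mul hf, aspadj_adj hf]⟩

/-- a conjugation-stable subalgebra is normalised -/
theorem aspk_normalizes {H : Subgroup (GL (Fin n) F)} (K : Subalgebra F (Matrix (Fin n) (Fin n) F))
    (hconj : ∀ h ∈ H, ∀ z ∈ K, (h : Matrix (Fin n) (Fin n) F) * z *
      ((h⁻¹ : GL (Fin n) F) : Matrix (Fin n) (Fin n) F) ∈ K) : H ≤ subalgebraNormalizer K := by
  intro h hh k
  constructor
  · intro hk
    exact hconj h hh k hk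
  · intro hk
    have h1 := hconj h⁻¹ (H.inv_mem hh) _ hk
    have h2 : ((h⁻¹ : GL (Fin n) F) : Matrix (Fin n) (Fin n) F) *
        ((h : Matrix (Fin n) (Fin n) F) * k * ((h⁻¹ : GL (Fin n) F) : Matrix (Fin n) (Fin n) F)) *
        (((h⁻¹)⁻¹ : GL (Fin n) F) : Matrix (Fin n) (Fin n) F) = k := by
      have := asgclif_conj_inv_conj h k
      unfold asgConj at this
      exact this
    rw [h2] at h1
    exact h1

end defs

/-- a non-trivial idempotent `g` of `Z` has `g* g = 0`, `g + g* = 1` -/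
theorem aspk_idem_core (f : (Fin n → F) → (Fin n → F) → F) (hf : IsSymplecticForm f)
    (K : Subalgebra F (Matrix (Fin n) (Fin n) F)) (hcomm : ∀ x ∈ K, ∀ y ∈ K, x * y = y * x)
    (hstar : ∀ x ∈ K, aspAdj f x ∈ K)
    (hZ0 : ∀ e ∈ aspK0 hf K hcomm, e * e = e → e = 0 ∨ e = 1)
    (g : Matrix (Fin n) (Fin n) F) (hg : g ∈ K) (hid : g * g = g) (h0 : g ≠ 0) (h1 : g ≠ 1) :
    aspAdj f g * g = 0 ∧ g + aspAdj f g = 1 := by
  have hg' : aspAdj f g ∈ K := hstar _ hg
  have hid' : aspAdj f g * aspAdj f g = aspAdj f g := by rw [← aspadj_mul hf, hid]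
  have hc : g * aspAdj f g = aspAdj f g * g := hcomm _ hg _ hg'
  have hp : g * aspAdj f g ∈ aspK0 hf K hcomm := aspK0_norm hf K hcomm hstar hg
  have hpp : g * aspAdj f g * (g * aspAdj f g) = g * aspAdj f g := by
    calc g * aspAdj f g * (g * aspAdj f g) = g * (aspAdj f g * g) * aspAdj f g := by
          simp only [Matrix.mul_assoc]
      _ = g * (g * aspAdj f g) * aspAdj f g := by rw [← hc]
      _ = (g * g) * (aspAdj f g * aspAdj f g) := by simp only [Matrix.mul_assoc]
      _ = g * aspAdj f g := by rw [hid, hid']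
  have hp0 : g * aspAdj f g = 0 := by
    rcases hZ0 _ hp hpp with h | h
    · exact h
    · exfalso
      apply h1
      calc g = g * (g * aspAdj f g) := by rw [h, Matrix.mul_one]
        _ = (g * g) * aspAdj f g := by rw [Matrix.mul_assoc]
        _ = 1 := by rw [hid, h]
  have hp0' : aspAdj f g * g = 0 := by rw [← hc, hp0]
  refine ⟨hp0', ?_⟩
  have hs : g + aspAdj f g ∈ aspK0 hf K hcomm := aspK0_trace hf K hcomm hstar hg
  have hss : (g + aspAdj f g) * (g + aspAdj f g) = g + aspAdj f g := by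
    rw [add_mul, mul_add, mul_add, hid, hid', hp0, hp0', add_zero, zero_add]
  rcases hZ0 _ hs hss with h | h
  · exfalso
    apply h0
    have h2 : aspAdj f g = -g := (eq_neg_of_add_eq_zero_right h)
    rw [h2, mul_neg, hid, neg_eq_zero] at hp0
    exact hp0
  · exact h

/-- two non-trivial idempotents of `Z` with non-zero product are equal -/
theorem aspk_idem_eq (f : (Fin n → F) → (Fin n → F) → F) (hf : IsSymplecticForm f)
    (K : Subalgebra F (Matrix (Fin n) (Fin n) F)) (hcomm : ∀ x ∈ K, ∀ y ∈ K, x * y = y * x)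
    (hstar : ∀ x ∈ K, aspAdj f x ∈ K)
    (hZ0 : ∀ e ∈ aspK0 hf K hcomm, e * e = e → e = 0 ∨ e = 1)
    (e : Matrix (Fin n) (Fin n) F) (he : e ∈ K) (hide : e * e = e) (he0 : e ≠ 0) (he1 : e ≠ 1)
    (g : Matrix (Fin n) (Fin n) F) (hg : g ∈ K) (hidg : g * g = g) (hg0 : g ≠ 0) (hg1 : g ≠ 1)
    (heg : e * g ≠ 0) : g = e := by
  obtain ⟨hee, hesum⟩ := aspk_idem_core f hf K hcomm hstar hZ0 e he hide he0 he1
  obtain ⟨hgg, hgsum⟩ := aspk_idem_core f hf K hcomm hstar hZ0 g hg hidg hg0 hg1
  have he' : aspAdj f e ∈ K := hstar _ he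
  have hg' : aspAdj f g ∈ K := hstar _ hg
  have hq : e * g ∈ K := Subalgebra.mul_mem _ he hg
  have hceg : e * g = g * e := hcomm _ he _ hg
  have hqq : e * g * (e * g) = e * g := by
    calc e * g * (e * g) = e * (g * e) * g := by simp only [Matrix.mul_assoc]
      _ = e * (e * g) * g := by rw [← hceg]
      _ = (e * e) * (g * g) := by simp only [Matrix.mul_assoc]
      _ = e * g := by rw [hide, hidg]
  have hq1 : e * g ≠ 1 := by
    intro h
    apply he1
    calc e = e * (e * g) := by rw [h, Matrix.mul_one]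
      _ = (e * e) * g := by rw [Matrix.mul_assoc]
      _ = 1 := by rw [hide, h]
  obtain ⟨-, hqsum⟩ := aspk_idem_core f hf K hcomm hstar hZ0 (e * g) hq hqq heg hq1
  rw [aspadj_mul hf] at hqsum
  -- multiply by `e`
  have h1 : e = e * g := by
    have h := congrArg (fun x => e * x) hqsum
    simp only [Matrix.mul_one, Matrix.mul_add] at h
    have hz : e * (aspAdj f g * aspAdj f e) = 0 := by
      rw [hcomm _ hg' _ he', ← Matrix.mul_assoc, hcomm _ he _ he', hee, Matrix.zero_mul]
    rw [hz, add_zero, ← Matrix.mul_assoc, hide] at h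
    exact h.symm
  have h2 : g = e * g := by
    have h := congrArg (fun x => x * g) hqsum
    simp only [Matrix.one_mul, Matrix.add_mul] at h
    have hz : aspAdj f g * aspAdj f e * g = 0 := by
      rw [hcomm _ hg' _ he', Matrix.mul_assoc, hgg, Matrix.mul_zero]
    rw [hz, add_zero, Matrix.mul_assoc, hidg] at h
    exact h.symm
  rw [h2, ← h1]

/-- AB-IDEM2 -/
theorem aspk_two_idem (f : (Fin n → F) → (Fin n → F) → F) (hf : IsSymplecticForm f) (K : Subalgebra F (Matrix (Fin n) (Fin n) F)) (hcomm : ∀ x ∈ K, ∀ y ∈ K, x * y = y * x)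
    (hstar : ∀ x ∈ K, aspAdj f x ∈ K) (hZ0 : ∀ e ∈ aspK0 hf K hcomm, e * e = e → e = 0 ∨ e = 1)
    (e : Matrix (Fin n) (Fin n) F) (he : e ∈ K) (hid : e * e = e) (h0 : e ≠ 0) (h1 : e ≠ 1) :
    aspAdj f e * e = 0 ∧ e + aspAdj f e = 1 ∧
      ∀ g ∈ K, g * g = g → g = 0 ∨ g = 1 ∨ g = e ∨ g = aspAdj f e := by
  obtain ⟨hee, hesum⟩ := aspk_idem_core f hf K hcomm hstar hZ0 e he hid h0 h1
  refine ⟨hee, hesum, ?_⟩
  intro g hg hidg
  by_cases hg0 : g = 0
  · exact Or.inl hg0
  by_cases hg1 : g = 1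
  · exact Or.inr (Or.inl hg1)
  right; right
  by_cases heg : e * g = 0
  · right
    obtain ⟨hgg, hgsum⟩ := aspk_idem_core f hf K hcomm hstar hZ0 g hg hidg hg0 hg1
    have hg' : aspAdj f g ∈ K := hstar _ hg
    have hid' : aspAdj f g * aspAdj f g = aspAdj f g := by rw [← aspadj_mul hf, hidg]
    have hg'0 : aspAdj f g ≠ 0 := fun h => hg0 ((aspadj_eq_zero hf).mp h)
    have hg'1 : aspAdj f g ≠ 1 := by
      intro h
      apply hg1
      rw [← aspadj_adj hf g, h, aspadj_one hf]
    have heg' : e * aspAdj f g = e := by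
      have h := congrArg (fun x => e * x) hgsum
      simp only [Matrix.mul_one, Matrix.mul_add] at h
      rw [heg, zero_add] at h
      exact h
    have := aspk_idem_eq f hf K hcomm hstar hZ0 e he hid h0 h1 (aspAdj f g) hg' hid' hg'0 hg'1 (by rw [heg']; exact h0)
    rw [← this, aspadj_adj hf]
  · left
    exact aspk_idem_eq f hf K hcomm hstar hZ0 e he hid h0 h1 g hg hidg hg0 hg1 heg


/-- AB-TS -/
theorem aspk_tspair {m : ℕ} (hn : n = 2 * m) (hm : 2 ≤ m) (f : (Fin n → F) → (Fin n → F) → F)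
    (hf : IsSymplecticForm f) {H : Subgroup (GL (Fin n) F)} (hI : H ≤ isoGL f) (hH : Irr H)
    (K : Subalgebra F (Matrix (Fin n) (Fin n) F)) (hcomm : ∀ x ∈ K, ∀ y ∈ K, x * y = y * x)
    (hstar : ∀ x ∈ K, aspAdj f x ∈ K)
    (hconj : ∀ h ∈ H, ∀ z ∈ K, (h : Matrix (Fin n) (Fin n) F) * z *
      ((h⁻¹ : GL (Fin n) F) : Matrix (Fin n) (Fin n) F) ∈ K)
    (e : Matrix (Fin n) (Fin n) F) (he : e ∈ K) (hid : e * e = e) (h0 : e ≠ 0) (h1 : e ≠ 1)
    (hee : aspAdj f e * e = 0) (hsum : e + aspAdj f e = 1)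
    (hall : ∀ g ∈ K, g * g = g → g = 0 ∨ g = 1 ∨ g = e ∨ g = aspAdj f e) :
    ∃ D : Fin 2 → Submodule F (Fin n → F), IsMDecomposition m D ∧ (∀ i, IsTotallySingularFor f (D i)) ∧
      H ≤ decompositionStabilizer D := by
  classical
  have he' : aspAdj f e ∈ K := hstar _ he
  have hid' : aspAdj f e * aspAdj f e = aspAdj f e := by rw [← aspadj_mul hf, hid]
  have hee' : e * aspAdj f e = 0 := by rw [hcomm _ he _ he', hee]
  let E : Fin 2 → Matrix (Fin n) (Fin n) F := ![e, aspAdj f e]
  let D : Fin 2 → Submodule F (Fin n → F) := fun i => LinearMap.range (Matrix.toLin' (E i))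
  have hD0 : D 0 = LinearMap.range (Matrix.toLin' e) := rfl
  have hD1 : D 1 = LinearMap.range (Matrix.toLin' (aspAdj f e)) := rfl
  have hEid : ∀ i, E i * E i = E i := by
    intro i
    fin_cases i
    · exact hid
    · exact hid'
  have hEorth : ∀ i j, i ≠ j → E i * E j = 0 := by
    intro i j hij
    fin_cases i <;> fin_cases j
    · exact absurd rfl hij
    · exact hee'
    · exact hee
    · exact absurd rfl hij
  have hindep : iSupIndep D := asgclif_indep E hEid hEorth
  have hsup : D 0 ⊔ D 1 = ⊤ := by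
    rw [eq_top_iff]
    intro v _
    have hv : v = e *ᵥ v + aspAdj f e *ᵥ v := by
      rw [← Matrix.add_mulVec, hsum, Matrix.one_mulVec]
    rw [hv]
    apply Submodule.add_mem
    · apply Submodule.mem_sup_left
      rw [hD0]
      exact ⟨v, by rw [Matrix.toLin'_apply]⟩
    · apply Submodule.mem_sup_right
      rw [hD1]
      exact ⟨v, by rw [Matrix.toLin'_apply]⟩
  have htop : iSup D = ⊤ := by
    rw [eq_top_iff, ← hsup]
    exact sup_le (le_iSup D 0) (le_iSup D 1)
  have hdisj : Disjoint (D 0) (D 1) := by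
    rw [Submodule.disjoint_def]
    intro x hx0 hx1
    rw [hD0] at hx0
    rw [hD1] at hx1
    obtain ⟨w, rfl⟩ := hx0
    obtain ⟨w', hw'⟩ := hx1
    rw [Matrix.toLin'_apply, Matrix.toLin'_apply] at hw'
    rw [Matrix.toLin'_apply]
    have : e *ᵥ w = e *ᵥ (e *ᵥ w) := by rw [Matrix.mulVec_mulVec, hid]
    rw [this, ← hw', Matrix.mulVec_mulVec, hee', Matrix.zero_mulVec]
  have hcompl : IsCompl (D 0) (D 1) := ⟨hdisj, codisjoint_iff.mpr hsup⟩
  have hadd : Module.finrank F (D 0) + Module.finrank F (D 1) = n := by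
    rw [Submodule.finrank_add_eq_of_isCompl hcompl, Module.finrank_fin_fun]
  -- the action of `H`
  have hconj : ∀ h ∈ H, (asgConj h e = e ∧ asgConj h (aspAdj f e) = aspAdj f e) ∨
      (asgConj h e = aspAdj f e ∧ asgConj h (aspAdj f e) = e) := by
    intro h hh
    have hc : asgConj h e ∈ K := hconj h hh e he
    have hcid : asgConj h e * asgConj h e = asgConj h e := by
      rw [← asgclif_conj_mmul, hid]
    have hadj : asgConj h (aspAdj f e) = aspAdj f (asgConj h e) := (aspadj_conj hf (hI hh) e).symm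
    rcases hall _ hc hcid with h' | h' | h' | h'
    · exfalso
      apply h0
      have := congrArg (asgConj h⁻¹) h'
      rwa [asgclif_conj_inv_conj, asgclif_conj_zero] at this
    · exfalso
      apply h1
      have := congrArg (asgConj h⁻¹) h'
      rw [asgclif_conj_inv_conj] at this
      rw [this]
      unfold asgConj
      rw [Matrix.mul_one, ← Units.val_mul, mul_inv_cancel, Units.val_one]
    · left
      exact ⟨h', by rw [hadj, h']⟩
    · right
      exact ⟨h', by rw [hadj, h', aspadj_adj hf]⟩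
  have hstab : H ≤ decompositionStabilizer D := by
    intro h hh
    rcases hconj h hh with ⟨ha, hb⟩ | ⟨ha, hb⟩
    · refine ⟨1, fun i => ?_⟩
      fin_cases i
      · show (D 0).map _ = D 0
        rw [hD0, asgclif_range_conj, ha]
      · show (D 1).map _ = D 1
        rw [hD1, asgclif_range_conj, hb]
    · refine ⟨Equiv.swap 0 1, fun i => ?_⟩
      fin_cases i
      · show (D 0).map _ = D (Equiv.swap 0 1 0)
        rw [Equiv.swap_apply_left, hD0, hD1, asgclif_range_conj, ha]
      · show (D 1).map _ = D (Equiv.swap 0 1 1)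
        rw [Equiv.swap_apply_right, hD0, hD1, asgclif_range_conj, hb]
  -- some element of `H` swaps the two spaces
  have hmove : ∃ h ∈ H, asgConj h e ≠ e := by
    by_contra hcon
    push Not at hcon
    have hinv : ∀ s ∈ matrixSet H, (LinearMap.range (Matrix.toLin' e)).map (Matrix.toLin' s) ≤
        LinearMap.range (Matrix.toLin' e) := by
      rintro _ ⟨h, hh, rfl⟩
      rw [asgclif_range_conj, hcon h hh]
    rcases hH _ hinv with hb | ht
    · apply h0
      apply Matrix.toLin'.injective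
      rw [map_zero]
      exact LinearMap.range_eq_bot.mp hb
    · exact h1 (asgclif_idem_top e hid ht)
  obtain ⟨h, hh, hne⟩ := hmove
  have hswap : asgConj h e = aspAdj f e := by
    rcases hconj h hh with ⟨ha, -⟩ | ⟨ha, -⟩
    · exact absurd ha hne
    · exact ha
  have hfr : Module.finrank F (D 1) = Module.finrank F (D 0) := by
    rw [hD1, ← hswap, ← asgclif_range_conj, aspabts_finrank_map, hD0]
  have hfr0 : Module.finrank F (D 0) = m := by omega
  have hfr1 : Module.finrank F (D 1) = m := by omega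
  refine ⟨D, ⟨le_refl 2, by omega, ?_, hindep, htop⟩, ?_, hstab⟩
  · intro i
    fin_cases i
    · exact hfr0
    · exact hfr1
  · intro i
    fin_cases i
    · show IsTotallySingularFor f (D 0)
      rw [hD0]
      rintro _ ⟨u, rfl⟩ _ ⟨v, rfl⟩
      rw [Matrix.toLin'_apply, Matrix.toLin'_apply, aspadj_spec hf, Matrix.mulVec_mulVec, hee, Matrix.zero_mulVec]
      exact aspabts_zero_right hf _
    · show IsTotallySingularFor f (D 1)
      rw [hD1]
      rintro _ ⟨u, rfl⟩ _ ⟨v, rfl⟩
      rw [Matrix.toLin'_apply, Matrix.toLin'_apply, aspadj_spec hf, aspadj_adj hf, Matrix.mulVec_mulVec, hee',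
        Matrix.zero_mulVec]
      exact aspabts_zero_right hf _


theorem aspk_normalizes0 (f : (Fin n → F) → (Fin n → F) → F) (hf : IsSymplecticForm f)
    {H : Subgroup (GL (Fin n) F)} (hI : H ≤ isoGL f)
    (K : Subalgebra F (Matrix (Fin n) (Fin n) F)) (hcomm : ∀ x ∈ K, ∀ y ∈ K, x * y = y * x)
    (hstar : ∀ x ∈ K, aspAdj f x ∈ K)
    (hconj : ∀ h ∈ H, ∀ z ∈ K, (h : Matrix (Fin n) (Fin n) F) * z *
      ((h⁻¹ : GL (Fin n) F) : Matrix (Fin n) (Fin n) F) ∈ K) :
    H ≤ subalgebraNormalizer (aspK0 hf K hcomm) := by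
  intro h hh k
  constructor
  · intro hk
    exact aspK0_conj hf K hcomm hI hconj h hh k hk
  · intro hk
    have h1 := aspK0_conj hf K hcomm hI hconj h⁻¹ (H.inv_mem hh) _ hk
    have h2 : ((h⁻¹ : GL (Fin n) F) : Matrix (Fin n) (Fin n) F) *
        ((h : Matrix (Fin n) (Fin n) F) * k * ((h⁻¹ : GL (Fin n) F) : Matrix (Fin n) (Fin n) F)) *
        (((h⁻¹)⁻¹ : GL (Fin n) F) : Matrix (Fin n) (Fin n) F) = k := by
      have := asgclif_conj_inv_conj h k
      unfold asgConj at this
      exact this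
    rw [h2] at h1
    exact h1

theorem aspk_field_sa {m : ℕ} (f : (Fin n → F) → (Fin n → F) → F) (hf : IsSymplecticForm f)
    {H : Subgroup (GL (Fin n) F)} (hI : H ≤ isoGL f)
    (K : Subalgebra F (Matrix (Fin n) (Fin n) F)) (hcomm : ∀ x ∈ K, ∀ y ∈ K, x * y = y * x)
    (hstar : ∀ x ∈ K, aspAdj f x ∈ K)
    (hconj : ∀ h ∈ H, ∀ z ∈ K, (h : Matrix (Fin n) (Fin n) F) * z *
      ((h⁻¹ : GL (Fin n) F) : Matrix (Fin n) (Fin n) F) ∈ K) {b₀ : ℕ}
    (hZ0 : IsFieldSubalgebra b₀ (aspK0 hf K hcomm)) (hb₀ : 2 ≤ b₀) : InSp m f H := by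
  obtain ⟨r, K', hr, hrb, hK, hKle, hnorm⟩ := asgclif_primesub (aspK0 hf K hcomm) hZ0 hb₀
  have hsa : IsSelfAdjointFor f K' := fun k hk => aspK0_selfAdjoint hf K hcomm k (hKle hk)
  refine inSp_of_field_sa hI hr K' hK hsa ?_ ((aspk_normalizes0 f hf hI K hcomm hstar hconj).trans hnorm)
  intro k hk v
  by_cases hF : Odd (Fintype.card F)
  · have h2 : (2 : F) ≠ 0 := aspabsq_two_ne_zero hF
    have h1 : f (k *ᵥ v) v = f v (k *ᵥ v) := hsa k hk v v
    have h3 : f v (k *ᵥ v) = - f (k *ᵥ v) v := hf.skew _ _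
    have h4 : (2 : F) * f (k *ᵥ v) v = 0 := by
      rw [two_mul]
      nth_rewrite 1 [h1]
      rw [h3, neg_add_cancel]
    rcases mul_eq_zero.mp h4 with h5 | h5
    · exact absurd h5 h2
    · exact h5
  · obtain ⟨s, hs, hss⟩ := ab_square hF K' hK k hk
    have h1 : f (s *ᵥ (s *ᵥ v)) v = f (s *ᵥ v) (s *ᵥ v) := hsa s hs (s *ᵥ v) v
    rw [← hss, ← Matrix.mulVec_mulVec, h1]
    exact hf.alternating _


/-- AB-DEG -/
theorem aspk_deg_two (f : (Fin n → F) → (Fin n → F) → F) (hf : IsSymplecticForm f) (K : Subalgebra F (Matrix (Fin n) (Fin n) F)) (hcomm : ∀ x ∈ K, ∀ y ∈ K, x * y = y * x)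
    (hstar : ∀ x ∈ K, aspAdj f x ∈ K) {b : ℕ} (hZ : IsFieldSubalgebra b (K))
    (hZ0 : ∀ z ∈ aspK0 hf K hcomm, ∃ c : F, z = c • (1 : Matrix (Fin n) (Fin n) F)) : b ≤ 2 := by
  classical
  let T : (K) →ₗ[F] Matrix (Fin n) (Fin n) F :=
    { toFun := fun z => (z : Matrix (Fin n) (Fin n) F) + aspAdj f (z : Matrix (Fin n) (Fin n) F)
      map_add' := by
        intro x y
        simp only [Subalgebra.coe_add, aspadj_add]
        abel
      map_smul' := by
        intro c x
        simp only [Subalgebra.coe_smul, aspadj_smul, smul_add, RingHom.id_apply] }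
  have hT : ∀ z : K, T z = (z : Matrix (Fin n) (Fin n) F) + aspAdj f (z : Matrix (Fin n) (Fin n) F) :=
    fun z => rfl
  have hrange : LinearMap.range T ≤ Submodule.span F {(1 : Matrix (Fin n) (Fin n) F)} := by
    rintro _ ⟨z, rfl⟩
    obtain ⟨c, hc⟩ := hZ0 _ (aspK0_trace hf K hcomm hstar z.2)
    rw [Submodule.mem_span_singleton]
    exact ⟨c, by rw [hT, hc]⟩
  have h1 : Module.finrank F (LinearMap.range T) ≤ 1 := by
    refine (Submodule.finrank_mono hrange).trans ?_
    refine (finrank_span_le_card ({(1 : Matrix (Fin n) (Fin n) F)} : Set (Matrix (Fin n) (Fin n) F))).trans ?_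
    simp
  have h2 : Module.finrank F (LinearMap.ker T) ≤ 1 := by
    by_cases hex : ∃ a : LinearMap.ker T, a ≠ 0
    · obtain ⟨a, ha0⟩ := hex
      have haK : ((a : K) : Matrix (Fin n) (Fin n) F) ∈ K := (a : K).2
      have haT : aspAdj f ((a : K) : Matrix (Fin n) (Fin n) F) = - ((a : K) : Matrix (Fin n) (Fin n) F) := by
        have := a.2
        rw [LinearMap.mem_ker, hT] at this
        exact (neg_eq_of_add_eq_zero_right this).symm
      have ha0' : ((a : K) : Matrix (Fin n) (Fin n) F) ≠ 0 := by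
        intro h
        apply ha0
        apply Subtype.ext
        apply Subtype.ext
        exact h
      -- `a * a` is a non-zero scalar
      have haa : ((a : K) : Matrix (Fin n) (Fin n) F) * ((a : K) : Matrix (Fin n) (Fin n) F) ∈
          aspK0 hf K hcomm := by
        refine ⟨Subalgebra.mul_mem _ haK haK, ?_⟩
        rw [aspadj_mul hf, haT]
        simp
      obtain ⟨c₀, hc₀⟩ := hZ0 _ haa
      have hc₀0 : c₀ ≠ 0 := by
        intro h
        rw [h, zero_smul] at hc₀
        obtain ⟨y, hy, hay⟩ := hZ.inv _ haK ha0'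
        apply ha0'
        calc ((a : K) : Matrix (Fin n) (Fin n) F)
            = ((a : K) : Matrix (Fin n) (Fin n) F) * (((a : K) : Matrix (Fin n) (Fin n) F) * y) := by
              rw [hay, mul_one]
          _ = 0 := by rw [← mul_assoc, hc₀, zero_mul]
      apply finrank_le_one a
      intro w
      have hwK : ((w : K) : Matrix (Fin n) (Fin n) F) ∈ K := (w : K).2
      have hwT : aspAdj f ((w : K) : Matrix (Fin n) (Fin n) F) = - ((w : K) : Matrix (Fin n) (Fin n) F) := by
        have := w.2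
        rw [LinearMap.mem_ker, hT] at this
        exact (neg_eq_of_add_eq_zero_right this).symm
      have haw : ((a : K) : Matrix (Fin n) (Fin n) F) * ((w : K) : Matrix (Fin n) (Fin n) F) ∈
          aspK0 hf K hcomm := by
        refine ⟨Subalgebra.mul_mem _ haK hwK, ?_⟩
        rw [aspadj_mul hf, haT, hwT]
        simp only [neg_mul_neg]
        exact hZ.comm _ hwK _ haK
      obtain ⟨c, hc⟩ := hZ0 _ haw
      refine ⟨c / c₀, ?_⟩
      apply Subtype.ext
      apply Subtype.ext
      show (c / c₀) • ((a : K) : Matrix (Fin n) (Fin n) F) = ((w : K) : Matrix (Fin n) (Fin n) F)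
      have h3 : c₀ • ((w : K) : Matrix (Fin n) (Fin n) F) = c • ((a : K) : Matrix (Fin n) (Fin n) F) := by
        calc c₀ • ((w : K) : Matrix (Fin n) (Fin n) F)
            = (c₀ • (1 : Matrix (Fin n) (Fin n) F)) * ((w : K) : Matrix (Fin n) (Fin n) F) := by
              rw [Matrix.smul_mul, one_mul]
          _ = ((a : K) : Matrix (Fin n) (Fin n) F) *
                (((a : K) : Matrix (Fin n) (Fin n) F) * ((w : K) : Matrix (Fin n) (Fin n) F)) := by
              rw [← hc₀, mul_assoc]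
          _ = c • ((a : K) : Matrix (Fin n) (Fin n) F) := by
              rw [hc, Matrix.mul_smul, mul_one]
      rw [div_eq_mul_inv, mul_comm, ← smul_smul, ← h3, smul_smul, inv_mul_cancel₀ hc₀0, one_smul]
    · push Not at hex
      have : LinearMap.ker T = ⊥ := by
        rw [eq_bot_iff]
        intro a ha
        have := hex ⟨a, ha⟩
        rw [Submodule.mem_bot]
        have h4 := congrArg Subtype.val this
        exact h4
      rw [this, finrank_bot]
      exact Nat.zero_le 1
  have h3 := LinearMap.finrank_range_add_finrank_ker T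
  have h4 : Module.finrank F (K) = b := hZ.finrank_eq
  omega


/-- if every element of `Z` is self-adjoint (and `Z₀` is scalar), then `finrank Z ≤ 1` -/
theorem aspk_finrank_le_one (f : (Fin n → F) → (Fin n → F) → F) (hf : IsSymplecticForm f)
    (K : Subalgebra F (Matrix (Fin n) (Fin n) F)) (hcomm : ∀ x ∈ K, ∀ y ∈ K, x * y = y * x)
    (hZ0 : ∀ z ∈ aspK0 hf K hcomm, ∃ c : F, z = c • (1 : Matrix (Fin n) (Fin n) F))
    (hall : ∀ z ∈ K, aspAdj f z = z) : Module.finrank F (K) ≤ 1 := by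
  classical
  have hle : (K).toSubmodule ≤ Submodule.span F {(1 : Matrix (Fin n) (Fin n) F)} := by
    intro z hz
    obtain ⟨c, hc⟩ := hZ0 z ⟨hz, hall z hz⟩
    rw [Submodule.mem_span_singleton]
    exact ⟨c, hc.symm⟩
  have h1 : Module.finrank F (K).toSubmodule ≤ 1 := by
    refine (Submodule.finrank_mono hle).trans ?_
    refine (finrank_span_le_card ({(1 : Matrix (Fin n) (Fin n) F)} : Set (Matrix (Fin n) (Fin n) F))).trans ?_
    simp
  exact h1

/-- AB-U with AB-QUAD as a hypothesis -/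
theorem aspk_field_u_core {m : ℕ} (f : (Fin n → F) → (Fin n → F) → F) (hf : IsSymplecticForm f)
    {H : Subgroup (GL (Fin n) F)} (hI : H ≤ isoGL f)
    (K : Subalgebra F (Matrix (Fin n) (Fin n) F)) (hcomm : ∀ x ∈ K, ∀ y ∈ K, x * y = y * x)
    (hstar : ∀ x ∈ K, aspAdj f x ∈ K)
    (hconj : ∀ h ∈ H, ∀ z ∈ K, (h : Matrix (Fin n) (Fin n) F) * z *
      ((h⁻¹ : GL (Fin n) F) : Matrix (Fin n) (Fin n) F) ∈ K)
    (hquad : ¬ Odd (Fintype.card F) → ∀ ω : Matrix (Fin n) (Fin n) F, ω + aspAdj f ω = 1 →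
      (∀ h ∈ H, ∀ v, f (asgConj h ω *ᵥ v) v = f (ω *ᵥ v) v) → InSp m f H)
    (hZ : IsFieldSubalgebra 2 (K))
    (hZ0 : ∀ z ∈ aspK0 hf K hcomm, ∃ c : F, z = c • (1 : Matrix (Fin n) (Fin n) F)) : InSp m f H := by
  classical
  -- some element of `Z` is not self-adjoint
  have hex : ∃ z ∈ K, aspAdj f z ≠ z := by
    by_contra hcon
    push Not at hcon
    have := aspk_finrank_le_one f hf K hcomm hZ0 hcon
    rw [hZ.finrank_eq] at this
    omega
  by_cases ho : Odd (Fintype.card F)
  · refine inSp_of_field_u hI (K) ho hZ ?_ ?_ (aspk_normalizes K hconj)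
    · intro k hk
      exact ⟨aspAdj f k, hstar _ hk, fun u v => aspadj_spec hf k u v⟩
    · intro hsa
      obtain ⟨z, hz, hne⟩ := hex
      apply hne
      exact (aspadj_unique hf z z (hsa z hz)).symm
  · -- characteristic 2
    have h2 : (2 : F) = 0 := by
      have hev : Even (Fintype.card F) := Nat.not_odd_iff_even.mp ho
      have hch : ringChar F = 2 := FiniteField.even_card_iff_char_two.mpr (Nat.even_iff.mp hev)
      have : CharP F 2 := hch ▸ ringChar.charP F
      exact CharTwo.two_eq_zero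
    have hneg : ∀ M : Matrix (Fin n) (Fin n) F, -M = M := by
      intro M
      have : M + M = 0 := by
        rw [← two_smul F M, h2, zero_smul]
      exact neg_eq_of_add_eq_zero_left this
    obtain ⟨z₁, hz₁, hne⟩ := hex
    obtain ⟨c, hc⟩ := hZ0 _ (aspK0_trace hf K hcomm hstar hz₁)
    have hc0 : c ≠ 0 := by
      intro h
      rw [h, zero_smul] at hc
      apply hne
      have : aspAdj f z₁ = -z₁ := (neg_eq_of_add_eq_zero_right hc).symm
      rw [this, hneg]
    set ω : Matrix (Fin n) (Fin n) F := c⁻¹ • z₁ with hω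
    have hωZ : ω ∈ K := Subalgebra.smul_mem _ hz₁ _
    have hω1 : ω + aspAdj f ω = 1 := by
      rw [hω, aspadj_smul, ← smul_add, hc, smul_smul, inv_mul_cancel₀ hc0, one_smul]
    apply hquad ho ω hω1
    intro h hh v
    -- `δ = h ω h⁻¹ - ω` is self-adjoint central, hence scalar
    set δ : Matrix (Fin n) (Fin n) F := asgConj h ω - ω with hδ
    have hconjZ : asgConj h ω ∈ K := hconj h hh ω hωZ
    have hδZ : δ ∈ K := Subalgebra.sub_mem _ hconjZ hωZ
    have hωadj : aspAdj f ω = 1 - ω := eq_sub_of_add_eq' hω1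
    have hδadj : aspAdj f δ = δ := by
      rw [hδ, aspadj_sub, aspadj_conj hf (hI hh), hωadj]
      have h1 : asgConj h (1 - ω) = 1 - asgConj h ω := by
        unfold asgConj
        rw [mul_sub, sub_mul, mul_one, ← Units.val_mul, mul_inv_cancel, Units.val_one]
      rw [h1]
      have : (1 : Matrix (Fin n) (Fin n) F) - asgConj h ω - (1 - ω) = -(asgConj h ω - ω) := by abel
      rw [this, hneg]
    obtain ⟨d, hd⟩ := hZ0 δ ⟨hδZ, hδadj⟩
    have h3 : asgConj h ω = ω + d • (1 : Matrix (Fin n) (Fin n) F) := by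
      rw [← hd, hδ]; abel
    have h4 : (d • (1 : Matrix (Fin n) (Fin n) F)) *ᵥ v = d • v := by
      rw [Matrix.smul_mulVec, Matrix.one_mulVec]
    rw [h3, Matrix.add_mulVec, h4, hf.bilinear.add_left, hf.bilinear.smul_left, hf.alternating, mul_zero,
      add_zero]


/-- GENK : block AB for an arbitrary commutative subalgebra stable under the adjoint and under conjugation by `H` -/
theorem sp_comm_alg_case {m : ℕ} (hm : 2 ≤ m) (hn : n = 2 * m) (f : (Fin n → F) → (Fin n → F) → F)
    (hf : IsSymplecticForm f) {H : Subgroup (GL (Fin n) F)} (hI : H ≤ isoGL f) (hH : Irr H)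
    (K : Subalgebra F (Matrix (Fin n) (Fin n) F)) (hcomm : ∀ x ∈ K, ∀ y ∈ K, x * y = y * x)
    (hstar : ∀ x ∈ K, aspAdj f x ∈ K)
    (hconj : ∀ h ∈ H, ∀ z ∈ K, (h : Matrix (Fin n) (Fin n) F) * z *
      ((h⁻¹ : GL (Fin n) F) : Matrix (Fin n) (Fin n) F) ∈ K)
    (hns : ∃ z ∈ K, ∀ c : F, z ≠ c • (1 : Matrix (Fin n) (Fin n) F)) : InSp m f H := by
  have hn0 : 0 < n := by omega
  by_cases hid0 : ∀ e ∈ aspK0 hf K hcomm, e * e = e → e = 0 ∨ e = 1
  · have hZ0f := aspgen_field hn0 hH (aspK0 hf K hcomm) (aspK0_comm hf K hcomm)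
      (aspK0_conj hf K hcomm hI hconj) hid0
    by_cases hb0 : 2 ≤ Module.finrank F (aspK0 hf K hcomm)
    · exact aspk_field_sa f hf hI K hcomm hstar hconj hZ0f hb0
    · have hsc0 := aspab_scalar_of_deg hn0 _ hZ0f hb0
      by_cases hidZ : ∀ e ∈ K, e * e = e → e = 0 ∨ e = 1
      · have hZf := aspgen_field hn0 hH K hcomm hconj hidZ
        by_cases hb : 2 ≤ Module.finrank F K
        · have hb2 : Module.finrank F K = 2 :=
            le_antisymm (aspk_deg_two f hf K hcomm hstar hZf hsc0) hb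
          rw [hb2] at hZf
          exact aspk_field_u_core f hf hI K hcomm hstar hconj
            (fun hF ω hω hinv => ab_quad hF f hf hI ω hω hinv) hZf hsc0
        · exfalso
          obtain ⟨z, hz, hzc⟩ := hns
          obtain ⟨c, hc⟩ := aspab_scalar_of_deg hn0 _ hZf hb z hz
          exact hzc c hc
      · push Not at hidZ
        obtain ⟨e, he, hid, h0, h1⟩ := hidZ
        obtain ⟨hee, hsum, hall⟩ := aspk_two_idem f hf K hcomm hstar hid0 e he hid h0 h1
        obtain ⟨D, hD, hts, hstab⟩ :=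
          aspk_tspair hn hm f hf hI hH K hcomm hstar hconj e he hid h0 h1 hee hsum hall
        by_cases hF : Odd (Fintype.card F)
        · exact inSp_of_tspair hI D hF hD hts hstab
        · refine ab_quad hF f hf hI e hsum ?_
          intro h hh v
          have hc : asgConj h e ∈ K := hconj h hh e he
          have hcid : asgConj h e * asgConj h e = asgConj h e := by
            rw [← asgclif_conj_mmul, hid]
          have two0 : (2 : F) = 0 := aspabquad_two hF
          rcases hall _ hc hcid with h' | h' | h' | h'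
          · exfalso
            apply h0
            have := congrArg (asgConj h⁻¹) h'
            rwa [asgclif_conj_inv_conj, asgclif_conj_zero] at this
          · exfalso
            apply h1
            have := congrArg (asgConj h⁻¹) h'
            rw [asgclif_conj_inv_conj] at this
            rw [this]
            unfold asgConj
            rw [Matrix.mul_one, ← Units.val_mul, mul_inv_cancel, Units.val_one]
          · rw [h']
          · rw [h', ← aspadj_spec' hf, hf.skew]
            have h2 : f (e *ᵥ v) v + f (e *ᵥ v) v = 0 := by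
              rw [← two_mul, two0, zero_mul]
            exact (eq_neg_of_add_eq_zero_left h2).symm
  · push Not at hid0
    obtain ⟨e0, he0, hid, h00, h01⟩ := hid0
    obtain ⟨t, k, E, hEA, hEid, hE0, hEorth, hEtr, hdec, hstab⟩ :=
      aspgen_dec hn0 hH (aspK0 hf K hcomm) (aspK0_comm hf K hcomm) (aspK0_conj hf K hcomm hI hconj)
        e0 he0 hid h00 h01
    have hnd := aspab_nddec' f hf E (fun i u v => aspK0_selfAdjoint hf K hcomm (E i) (hEA i) u v)
      hEid hEorth hdec
    exact inSp_of_nddec hI _ hnd hstab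


end Cfsg.Agent.Lib.Helper18.ASP
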