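import Mathlib
import Cfsg.Prelude.Def_GeometricClasses
import Cfsg.Agent.Lib.Helper27.ASC.Defs
import Cfsg.Agent.Lib.Helper19.ASG.Defs
import Cfsg.Agent.Lib.Helper18.ASP.Defs
import Cfsg.Agent.Lib.Lead.Reindex
import Cfsg.Agent.Lib.Helper18.ASCOTRRES

/-! ASP piece TR-RES (helper18): transport of the symplectic residual class along a reindexing. -/

set_option autoImplicit false
set_option linter.unusedVariables false
set_option linter.unusedSectionVars false

namespace Cfsg.Agent.Lib.Helper18.ASP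

open Cfsg Cfsg.Geo Cfsg.Agent.Lib.Helper27.ASC Cfsg.Agent.Lib.Helper19.ASG
open Cfsg.Agent.Lib.helper23.ASCO
open scoped MatrixGroups Matrix

variable {n : ℕ} {F : Type*} [Field F] [Fintype F]

section transport

open Cfsg.Agent.Lib.Lead

variable {ι κ : Type} [Fintype ι] [DecidableEq ι] [Fintype κ] [DecidableEq κ]

/-- the form-free part of the residual conditions goes back along a reindexing -/
theorem asptrres_core (e : ι ≃ κ) (H : Subgroup (GL ι F)) (P' : Subgroup (GL κ F))
    (hcore : IsResidualCore (H.map (RI.glReindex (F := F) e).toMonoidHom) P') :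
    IsResidualCore H (P'.comap (RI.glReindex (F := F) e).toMonoidHom) := by
  have hinj : Function.Injective (RI.glReindex (F := F) e) := (RI.glReindex (F := F) e).injective
  have hmapcomap : (P'.comap (RI.glReindex (F := F) e).toMonoidHom).map
      (RI.glReindex (F := F) e).toMonoidHom = P' :=
    Subgroup.map_comap_eq_self_of_surjective (RI.glReindex (F := F) e).surjective P'
  refine
    { le := ?_, normal := ?_, perfect := ?_, simple := ?_, nonabelian := ?_,
      centralizer_scalar := ?_, absIrred := ascotrres_absIrr e P' hcore.absIrred,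
      no_subfield := ?_ }
  · -- le
    intro x hx
    have hx' : RI.glReindex (F := F) e x ∈ P' := hx
    obtain ⟨y, hy, hyx⟩ := hcore.le hx'
    have : y = x := hinj hyx
    rw [← this]; exact hy
  · -- normal
    intro g hg x hx
    have hx' : RI.glReindex (F := F) e x ∈ P' := hx
    show RI.glReindex (F := F) e (g * x * g⁻¹) ∈ P'
    rw [map_mul, map_mul, map_inv]
    exact hcore.normal _ ⟨g, hg, rfl⟩ _ hx'
  · -- perfect
    apply Subgroup.map_injective (f := (RI.glReindex (F := F) e).toMonoidHom) hinj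
    rw [Subgroup.map_commutator, hmapcomap]
    exact hcore.perfect
  · -- simple
    have := hcore.simple
    exact (ascotrres_quot e P').isSimpleGroup
  · -- nonabelian
    intro hc
    apply hcore.nonabelian
    refine ⟨⟨fun a b => ?_⟩⟩
    have h1 := hc.is_comm.comm ((ascotrres_quot e P').symm a) ((ascotrres_quot e P').symm b)
    have h2 := congrArg (ascotrres_quot e P') h1
    rw [map_mul, map_mul, MulEquiv.apply_symm_apply, MulEquiv.apply_symm_apply] at h2
    exact h2
  · -- centralizer_scalar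
    intro g hg hcen
    rw [← ascotrres_scalars e]
    apply hcore.centralizer_scalar _ ⟨g, hg, rfl⟩
    intro x' hx'
    have hx : (RI.glReindex (F := F) e).symm x' ∈
        P'.comap (RI.glReindex (F := F) e).toMonoidHom := by
      show RI.glReindex (F := F) e ((RI.glReindex (F := F) e).symm x') ∈ P'
      rw [MulEquiv.apply_symm_apply]; exact hx'
    have := (ascotrres_scalars e _).2 (hcen _ hx)
    rw [map_mul, map_mul, map_mul, map_inv, map_inv, MulEquiv.apply_symm_apply] at this
    exact this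
  · -- no_subfield
    intro F₀ hF₀ hreal
    apply hcore.no_subfield F₀ hF₀
    obtain ⟨B, hB⟩ := hreal
    refine ⟨RI.glReindex (F := F) e B, ?_⟩
    intro s' hs' i j
    obtain ⟨s, hs, rfl⟩ := ascotrres_matrixSet' e P' s' hs'
    rw [ascotrres_inv_coe, RI.glReindex_coe]
    simp only [Matrix.reindex_apply]
    rw [Matrix.submatrix_mul_equiv, Matrix.submatrix_mul_equiv]
    exact hB s hs (e.symm i) (e.symm j)

/-- no invariant unitary form goes back along a reindexing -/
theorem asptrres_unitary (e : ι ≃ κ) (P' : Subgroup (GL κ F))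
    (hnu : ¬ ∃ (σ : F ≃+* F) (f : (κ → F) → (κ → F) → F), IsUnitaryForm σ f ∧ FixesForm (matrixSet P') f) :
    ¬ ∃ (σ : F ≃+* F) (f : (ι → F) → (ι → F) → F), IsUnitaryForm σ f ∧
      FixesForm (matrixSet (P'.comap (RI.glReindex (F := F) e).toMonoidHom)) f := by
  rintro ⟨σ, f, hf, hfix⟩
  apply hnu
  refine ⟨σ, fun u v => f (u ∘ e) (v ∘ e), ?_, ?_⟩
  · refine
      { ne_refl := hf.ne_refl, involutive := hf.involutive, add_left := ?_, smul_left := ?_,
        herm := ?_, nondegenerate := ?_ }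
    · intro x y v
      exact hf.add_left (x ∘ e) (y ∘ e) (v ∘ e)
    · intro c x v
      exact hf.smul_left c (x ∘ e) (v ∘ e)
    · intro v w
      exact hf.herm (v ∘ e) (w ∘ e)
    · intro v hv
      have hv' : v ∘ e ≠ 0 := by
        intro h0
        apply hv
        funext k
        have := congrFun h0 (e.symm k)
        simpa using this
      obtain ⟨⟨x, hx⟩, ⟨y, hy⟩⟩ := hf.nondegenerate (v ∘ e) hv'
      have hcomp : ∀ z : ι → F, (z ∘ e.symm) ∘ e = z := by
        intro z; funext i; simp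
      refine ⟨⟨x ∘ e.symm, ?_⟩, ⟨y ∘ e.symm, ?_⟩⟩
      · show f ((x ∘ e.symm) ∘ e) (v ∘ e) ≠ 0
        rw [hcomp]; exact hx
      · show f (v ∘ e) ((y ∘ e.symm) ∘ e) ≠ 0
        rw [hcomp]; exact hy
  · intro s' hs' u v
    obtain ⟨s, hs, rfl⟩ := ascotrres_matrixSet' e P' s' hs'
    show f ((Matrix.reindex e e s *ᵥ u) ∘ e) ((Matrix.reindex e e s *ᵥ v) ∘ e) = f (u ∘ e) (v ∘ e)
    rw [ascotrres_mulVec, ascotrres_mulVec]
    exact hfix s hs (u ∘ e) (v ∘ e)


/-- a non-degenerate quadratic form pulled back along a reindexing -/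
theorem asptrres_quadForm (e : ι ≃ κ) (Q : (ι → F) → F) (hQ : IsNondegenerateQuadraticForm Q) :
    IsNondegenerateQuadraticForm (fun x : κ → F => Q (x ∘ e)) := by
  have hpol : ∀ u v : κ → F, QuadraticMap.polar (fun x : κ → F => Q (x ∘ e)) u v =
      QuadraticMap.polar Q (u ∘ e) (v ∘ e) := fun u v => rfl
  have hcomp : ∀ z : ι → F, (z ∘ e.symm) ∘ e = z := by
    intro z; funext i; simp
  refine ⟨?_, ⟨?_, ?_, ?_, ?_⟩, ?_⟩
  · intro c v
    exact hQ.smul c (v ∘ e)
  · intro x y v
    rw [hpol, hpol, hpol]; exact hQ.polar_bilinear.add_left (x ∘ e) (y ∘ e) (v ∘ e)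
  · intro c x v
    rw [hpol, hpol]; exact hQ.polar_bilinear.smul_left c (x ∘ e) (v ∘ e)
  · intro v x y
    rw [hpol, hpol, hpol]; exact hQ.polar_bilinear.add_right (v ∘ e) (x ∘ e) (y ∘ e)
  · intro c v x
    rw [hpol, hpol]; exact hQ.polar_bilinear.smul_right c (v ∘ e) (x ∘ e)
  · intro v hv
    have hv' : v ∘ e ≠ 0 := by
      intro h0
      apply hv
      funext k
      have := congrFun h0 (e.symm k)
      simpa using this
    obtain ⟨⟨x, hx⟩, ⟨y, hy⟩⟩ := hQ.nondegenerate (v ∘ e) hv'
    refine ⟨⟨x ∘ e.symm, ?_⟩, ⟨y ∘ e.symm, ?_⟩⟩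
    · rw [hpol, hcomp]; exact hx
    · rw [hpol, hcomp]; exact hy

/-- no invariant quadratic form goes back along a reindexing -/
theorem asptrres_quad (e : ι ≃ κ) (P' : Subgroup (GL κ F))
    (hnq : ¬ ∃ Q : (κ → F) → F, IsNondegenerateQuadraticForm Q ∧ FixesQuadForm (matrixSet P') Q) :
    ¬ ∃ Q : (ι → F) → F, IsNondegenerateQuadraticForm Q ∧
      FixesQuadForm (matrixSet (P'.comap (RI.glReindex (F := F) e).toMonoidHom)) Q := by
  rintro ⟨Q, hQ, hfix⟩
  apply hnq
  refine ⟨fun x => Q (x ∘ e), asptrres_quadForm e Q hQ, ?_⟩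
  intro s' hs' v
  obtain ⟨s, hs, rfl⟩ := ascotrres_matrixSet' e P' s' hs'
  show Q ((Matrix.reindex e e s *ᵥ v) ∘ e) = Q (v ∘ e)
  rw [ascotrres_mulVec]
  exact hfix s hs (v ∘ e)

/-- TR-RES -/
theorem sp_residual_transport (e : ι ≃ κ) (H : Subgroup (GL ι F))
    (h : InSymplecticResidualClass (H.map (RI.glReindex (F := F) e).toMonoidHom)) :
    InSymplecticResidualClass H := by
  obtain ⟨P', hcore, hnq, hnu⟩ := h
  exact ⟨P'.comap (RI.glReindex (F := F) e).toMonoidHom, asptrres_core e H P' hcore,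
    asptrres_quad e P' hnq, asptrres_unitary e P' hnu⟩


end transport

end Cfsg.Agent.Lib.Helper18.ASP
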