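import Mathlib
import Cfsg.Prelude.Def_GeometricClasses
import Cfsg.Agent.Lib.Helper27.ASC.Defs
import Cfsg.Agent.Lib.Helper19.ASG.Defs
import Cfsg.Agent.Lib.Helper18.ASP.Defs
import Cfsg.Agent.Lib.Lead.Reindex
import Cfsg.Agent.Lib.Helper20.ASPTRC1
import Cfsg.Agent.Lib.Helper20.ASPTRC7
import Cfsg.Agent.Lib.Helper20.ASPTRC8
import Cfsg.Agent.Lib.Helper20.ASPTRC9
import Cfsg.Agent.Lib.Helper20.ASPTRISO
import Cfsg.Agent.Lib.Helper21.ASPTRC10
import Cfsg.Agent.Lib.Helper21.ASPTRC11
import Cfsg.Agent.Lib.Helper21.ASPTRC3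
import Cfsg.Agent.Lib.Helper21.ASPTRC4
import Cfsg.Agent.Lib.Helper21.ASPTRSTD
import Cfsg.Agent.Lib.helper8.ASPTRC2
import Cfsg.Agent.Lib.helper8.ASPTRC5
import Cfsg.Agent.Lib.helper8.ASPTRC6
import Cfsg.Agent.Lib.helper8.ASPTRFORM
import Cfsg.Agent.Lib.Helper18.ASPTRRES

/-!
# Project ASP : the transport `Fin (2 m)` <-> `Fin m ⊕ Fin m`, assembled from the TR pieces (helper18)

`s5662_of_main` : the conclusion of S5662 from Aschbacher's theorem for all symplectic forms on `Fin (2 m) → F`.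
-/

set_option autoImplicit false
set_option linter.unusedVariables false
set_option linter.unusedSectionVars false

namespace Cfsg.Agent.Lib.Helper18.ASP

open Cfsg Cfsg.Geo Cfsg.Agent.Lib.Helper27.ASC Cfsg.Agent.Lib.Helper19.ASG Cfsg.Agent.Lib.Lead
open scoped MatrixGroups Matrix

variable {n : ℕ} {F : Type*} [Field F] [Fintype F]

section transport

variable {ι κ : Type} [Fintype ι] [DecidableEq ι] [Fintype κ] [DecidableEq κ]

/-- TR-CLASS : assembled from TR-C1 ... TR-C11 -/
theorem inSpClassG_reindex (e : ι ≃ κ) (m : ℕ) (f : (ι → F) → (ι → F) → F) (M : Subgroup (GL ι F))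
    (h : InSpClassG m f M) :
    InSpClassG m (fun x y : κ → F => f (x ∘ e) (y ∘ e)) (M.map (RI.glReindex (F := F) e).toMonoidHom) := by
  rcases h with (h | h | h | h | h | h | h) | h | h | h | h
  · exact Or.inl (Or.inl (tr_c1 e f M h))
  · exact Or.inl (Or.inr (Or.inl (tr_c2 e m f M h)))
  · exact Or.inl (Or.inr (Or.inr (Or.inl (tr_c3 e f M h))))
  · exact Or.inl (Or.inr (Or.inr (Or.inr (Or.inl (tr_c4 e m f M h)))))
  · exact Or.inl (Or.inr (Or.inr (Or.inr (Or.inr (Or.inl (tr_c5 e f M h))))))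
  · exact Or.inl (Or.inr (Or.inr (Or.inr (Or.inr (Or.inr (Or.inl (tr_c6 e f M h)))))))
  · exact Or.inl (Or.inr (Or.inr (Or.inr (Or.inr (Or.inr (Or.inr (tr_c7 e f M h)))))))
  · exact Or.inr (Or.inl (tr_c8 e f M h))
  · exact Or.inr (Or.inr (Or.inl (tr_c9 e f M h)))
  · exact Or.inr (Or.inr (Or.inr (Or.inl (tr_c10 e f M h))))
  · exact Or.inr (Or.inr (Or.inr (Or.inr (tr_c11 e f M h))))

end transport

/-- the bijection of index sets -/
def aspE (m : ℕ) : (Fin m ⊕ Fin m) ≃ Fin (2 * m) :=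
  finSumFinEquiv.trans (finCongr (two_mul m).symm)

/-- the conclusion of S5662 from the theorem over `Fin (2 m)` -/
theorem s5662_of_main (m : ℕ)
    (hmain : ∀ (f : (Fin (2 * m) → F) → (Fin (2 * m) → F) → F), IsSymplecticForm f →
      ∀ H : Subgroup (GL (Fin (2 * m)) F), H ≤ isoGL f → InSp m f H ∨ InSymplecticResidualClass H)
    (H : Subgroup (GL (Fin m ⊕ Fin m) F)) (hH : H ≤ spGL m F) :
    (∃ M : Subgroup (GL (Fin m ⊕ Fin m) F), InSymplecticClass m F M ∧ H ≤ M) ∨
      InSymplecticResidualClass H := by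
  classical
  set e := aspE m with he
  set f' : (Fin (2 * m) → F) → (Fin (2 * m) → F) → F := fun x y => sympForm m F (x ∘ e) (y ∘ e) with hf'
  have hsf : IsSymplecticForm (sympForm m F) := sympForm_isSymplectic m
  have hf : IsSymplecticForm f' := symplectic_reindex e (sympForm m F) hsf
  have hI : H.map (RI.glReindex (F := F) e).toMonoidHom ≤ isoGL f' := by
    rw [hf', ← isoGL_reindex e (sympForm m F), isoGL_sympForm]
    exact Subgroup.map_mono hH
  rcases hmain f' hf _ hI with ⟨M', hM', hle⟩ | hres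
  · left
    refine ⟨M'.map (RI.glReindex (F := F) e.symm).toMonoidHom, ?_, ?_⟩
    · rw [inSymplecticClass_iff]
      have h1 := inSpClassG_reindex e.symm m f' M' hM'
      have h2 : (fun x y : (Fin m ⊕ Fin m) → F => f' (x ∘ e.symm) (y ∘ e.symm)) = sympForm m F := by
        funext x y
        show sympForm m F ((x ∘ e.symm) ∘ e) ((y ∘ e.symm) ∘ e) = sympForm m F x y
        have hx : (x ∘ e.symm) ∘ e = x := by funext i; simp
        have hy : (y ∘ e.symm) ∘ e = y := by funext i; simp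
        rw [hx, hy]
      rw [h2] at h1
      exact h1
    · intro g hg
      refine ⟨RI.glReindex (F := F) e g, hle ⟨g, hg, rfl⟩, ?_⟩
      show RI.glReindex (F := F) e.symm (RI.glReindex (F := F) e g) = g
      apply Units.ext
      ext i j
      show ((g : Matrix _ _ F)) (e.symm (e.symm.symm i)) (e.symm (e.symm.symm j)) = _
      simp
  · right
    exact sp_residual_transport e H hres

end Cfsg.Agent.Lib.Helper18.ASP
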