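import Mathlib
import Cfsg.Prelude.Def_GeometricClasses
import Cfsg.Agent.Lib.Helper27.ASC.Defs
import Cfsg.Agent.Lib.Helper19.ASG.Defs
import Cfsg.Agent.Lib.Helper18.ASP.Defs
import Cfsg.Agent.Lib.Helper21.ASPRED
import Cfsg.Agent.Lib.Helper18.ASPAB
import Cfsg.Agent.Lib.Helper18.ASPD2S
import Cfsg.Agent.Lib.Helper18.ASPTR
import Cfsg.Agent.Lib.Helper25.ASGCFULL
import Cfsg.Agent.Lib.Helper20.ASGCDIM
import Cfsg.Agent.Lib.Helper10.ASGCONE
import Cfsg.Agent.Lib.Helper10.ASCIRRNS
import Cfsg.Agent.Lib.Helper27.ASPD1ASM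
import Cfsg.Agent.Lib.helper8.ASPCASM
import Cfsg.Agent.Lib.Helper9.ASPD2TASM

/-!
# Project ASP (leader helper18) : Aschbacher's theorem for the symplectic groups, containment form (S5662)
-/

set_option autoImplicit false
set_option linter.unusedVariables false
set_option linter.unusedSectionVars false

namespace Cfsg.Agent.Lib.Helper18.ASP

open Cfsg Cfsg.Geo Cfsg.Agent.Lib.Helper27.ASC Cfsg.Agent.Lib.Helper19.ASG Cfsg.Agent.Lib.Lead
open scoped MatrixGroups Matrix

variable {n : ℕ} {F : Type*} [Field F] [Fintype F]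

/-- blocks AB + C with the form -/
theorem sp_normal_dichotomy {m : ℕ} (hm : 2 ≤ m) (hn : n = 2 * m) (f : (Fin n → F) → (Fin n → F) → F)
    (hf : IsSymplecticForm f) {H N : Subgroup (GL (Fin n) F)} (hI : H ≤ isoGL f) (hH : Irr H)
    (hN : NormalIn N H) : InSp m f H ∨ N ≤ scalars (Fin n) F ∨ AbsIrr N := by
  rcases sp_clifford_ab hm hn f hf hI hH hN with h | ⟨k, ⟨φ⟩⟩
  · exact Or.inl h
  · obtain ⟨hk0, hkn⟩ := cent_matrix_le (by omega) φ
    rcases Nat.lt_or_ge 1 k with hk1 | hk1
    · rcases Nat.lt_or_ge k n with hlt | hge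
      · exact Or.inl (sp_tensor_case hm hn f hf hI hH hN φ hk1 hlt)
      · have hkn' : k = n := le_antisymm hkn hge
        subst hkn'
        exact Or.inr (Or.inl (scalar_of_cent_full φ))
    · have hk : k = 1 := by omega
      subst hk
      exact Or.inr (Or.inr (absIrr_of_cent_one hH hN φ))

/-- Aschbacher's theorem for the isometry group of a symplectic form on `Fin n → F`, `n = 2 m ≥ 4`, containment form -/
theorem asp_main {m : ℕ} (hm : 2 ≤ m) (hn : n = 2 * m) (f : (Fin n → F) → (Fin n → F) → F)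
    (hf : IsSymplecticForm f) (H : Subgroup (GL (Fin n) F)) (hI : H ≤ isoGL f) :
    InSp m f H ∨ InSymplecticResidualClass H := by
  classical
  by_cases hH : Irr H
  swap
  · exact Or.inl (sp_red_case hm hn f hf hI hH)
  by_cases hcl : InSp m f H
  · exact Or.inl hcl
  have hD : AllNormalAbsIrr H := by
    intro N hN
    rcases sp_normal_dichotomy hm hn f hf hI hH hN with h | h | h
    · exact absurd h hcl
    · exact Or.inl h
    · exact Or.inr h
  have hns : ¬ H ≤ scalars (Fin n) F := irr_not_scalar (by omega) hH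
  obtain ⟨N, hN⟩ := exists_minNonscalar H hns
  have hNA : AbsIrr N := (hD N hN.1).resolve_left hN.2.1
  have hcomm : NormalIn ⁅N, N⁆ H := commutator_normalIn hN.1
  rcases hN.2.2 ⁅N, N⁆ hcomm (Subgroup.commutator_le_self N) with hab | hperf
  · exact Or.inl (sp_nilp_case hm hn f hf hI hH hD hN hab)
  rcases sp_perfect_case hm hn f hf hI hH hD hN hperf with h | ⟨hsimple, hnonab⟩
  · exact Or.inl h
  exact sp_almost_simple hm hn f hf hI hN.1 hNA hperf hsimple hnonab

/-- the statement of S5662 -/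
theorem s5662_stmt (m : ℕ) (hm : 2 ≤ m) (H : Subgroup (GL (Fin m ⊕ Fin m) F)) (hH : H ≤ spGL m F) :
    (∃ M : Subgroup (GL (Fin m ⊕ Fin m) F), InSymplecticClass m F M ∧ H ≤ M) ∨
      InSymplecticResidualClass H :=
  s5662_of_main m (fun f hf H hI => asp_main hm rfl f hf H hI) H hH

end Cfsg.Agent.Lib.Helper18.ASP
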