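import Mathlib

set_option autoImplicit false

namespace Cfsg.Agent.Lib.Helper18

open Subgroup

/-- if all commutators `[g,y]` lie in a central subgroup `Zc`, then `g ↦ [g,y]` is a hom and
the index of the centralizer of `y` divides the order of `Zc` -/
theorem index_centralizer_dvd {G : Type*} [Group G] [Finite G] (y : G) (Zc : Subgroup G)
    (hZ : Zc ≤ center G) (hy : ∀ g : G, g * y * g⁻¹ * y⁻¹ ∈ Zc) :
    (centralizer ({y} : Set G)).index ∣ Nat.card Zc := by
  have hcen : ∀ g : G, g * y * g⁻¹ * y⁻¹ ∈ center G := fun g => hZ (hy g)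
  let ψ : G →* G :=
    { toFun := fun g => g * y * g⁻¹ * y⁻¹
      map_one' := by simp
      map_mul' := by
        intro g h
        have hc := mem_center_iff.mp (hcen h) g
        calc g * h * y * (g * h)⁻¹ * y⁻¹
            = g * (h * y * h⁻¹ * y⁻¹) * y * g⁻¹ * y⁻¹ := by group
          _ = (h * y * h⁻¹ * y⁻¹) * g * y * g⁻¹ * y⁻¹ := by rw [hc]
          _ = (h * y * h⁻¹ * y⁻¹) * (g * y * g⁻¹ * y⁻¹) := by group
          _ = (g * y * g⁻¹ * y⁻¹) * (h * y * h⁻¹ * y⁻¹) :=
            (mem_center_iff.mp (hcen h) _).symm }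
  have hker : ψ.ker = centralizer ({y} : Set G) := by
    ext g
    rw [MonoidHom.mem_ker, mem_centralizer_singleton_iff]
    show g * y * g⁻¹ * y⁻¹ = 1 ↔ g * y = y * g
    constructor
    · intro this
      calc g * y = (g * y * g⁻¹ * y⁻¹) * (y * g) := by group
        _ = y * g := by rw [this]; simp
    · intro this
      rw [this]; group
  have hrange : ψ.range ≤ Zc := by
    rintro _ ⟨g, rfl⟩
    exact hy g
  rw [← hker, Subgroup.index_ker]
  exact Subgroup.card_dvd_of_le hrange

/-- a subgroup properly containing a subgroup of prime index is everything -/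
theorem eq_top_of_index_prime {G : Type*} [Group G] (H K : Subgroup G) {p : ℕ} (hp : p.Prime)
    (hH : H.index = p) (hHK : H ≤ K) (x : G) (hxK : x ∈ K) (hxH : x ∉ H) : K = ⊤ := by
  have h1 := relIndex_mul_index hHK
  rw [hH] at h1
  have hd : K.index ∣ p := ⟨H.relIndex K, by rw [← h1, mul_comm]⟩
  rcases (Nat.dvd_prime hp).mp hd with h | h
  · exact index_eq_one.mp h
  · exfalso
    rw [h] at h1
    have h2 : H.relIndex K = 1 := by
      have : H.relIndex K * p = 1 * p := by rw [h1, one_mul]
      exact Nat.eq_of_mul_eq_mul_right hp.pos this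
    exact hxH (relIndex_eq_one.mp h2 hxK)

end Cfsg.Agent.Lib.Helper18
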