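import Mathlib
import Cfsg.Agent.Lib.Helper18.CommHom
import Cfsg.Agent.Lib.Helper18.SylowIn
import Cfsg.Agent.Lib.helper8.SubgroupCard
import Cfsg.Agent.S3808

set_option autoImplicit false

namespace Cfsg.Agent.Lib.Helper18.AIP

open Subgroup Cfsg.Agent.Lib.Helper18 Cfsg.Agent.Lib.helper8

variable {S : Type*} [Group S] [Finite S] {p : ℕ} [Fact p.Prime]

theorem center_le (hna : ¬ IsMulCommutative S) (A : Subgroup S)
    (hA : ∀ a ∈ A, ∀ b ∈ A, a * b = b * a) (hAi : A.index = p) : center S ≤ A := by
  have hp := (Fact.out : p.Prime)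
  intro z hz
  by_contra hzA
  apply hna
  have h1 : centralizer (A : Set S) = ⊤ := by
    apply eq_top_of_index_prime A _ hp hAi _ z _ hzA
    · intro a ha
      rw [mem_centralizer_iff]
      intro b hb
      exact hA b hb a ha
    · rw [mem_centralizer_iff]
      intro b _
      exact (mem_center_iff.mp hz b)
  have h2 : A ≤ center S := by
    intro a ha
    rw [mem_center_iff]
    intro g
    have hg : g ∈ centralizer (A : Set S) := h1 ▸ mem_top g
    exact ((mem_centralizer_iff.mp hg) a ha).symm
  have h3 : center S = ⊤ := eq_top_of_index_prime A _ hp hAi h2 z hz hzA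
  exact center_eq_top_iff.mp h3

theorem mem_center_of_comm (A : Subgroup S)
    (hA : ∀ a ∈ A, ∀ b ∈ A, a * b = b * a) (hAi : A.index = p) (y x : S) (hy : y ∈ A)
    (hx : x ∉ A) (hxy : x * y = y * x) : y ∈ center S := by
  have hp := (Fact.out : p.Prime)
  have h1 : centralizer ({y} : Set S) = ⊤ := by
    apply eq_top_of_index_prime A _ hp hAi _ x _ hx
    · intro a ha
      rw [mem_centralizer_singleton_iff]
      exact hA a ha y hy
    · rw [mem_centralizer_singleton_iff]
      exact hxy
  rw [mem_center_iff]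
  intro g
  have hg : g ∈ centralizer ({y} : Set S) := h1 ▸ mem_top g
  rw [mem_centralizer_singleton_iff] at hg
  exact hg


theorem card_eq (hS : IsPGroup p S) (hna : ¬ IsMulCommutative S) (A : Subgroup S)
    (hA : ∀ a ∈ A, ∀ b ∈ A, a * b = b * a) (hAi : A.index = p) :
    Nat.card A = Nat.card (center S) * Nat.card (commutator S) := by
  have hp := (Fact.out : p.Prime)
  have hAn : A.Normal := Cfsg.Agent.S3808.normal_of_index_p p hS A hAi
  have hZA := center_le hna A hA hAi
  obtain ⟨x, hx⟩ : ∃ x : S, x ∉ A := by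
    by_contra h
    push Not at h
    have : A = ⊤ := eq_top_iff.mpr (fun g _ => h g)
    rw [this, index_top] at hAi
    exact hp.one_lt.ne hAi
  have hconj : ∀ a ∈ A, x * a * x⁻¹ ∈ A := fun a ha => hAn.conj_mem a ha x
  have hconj' : ∀ a ∈ A, x * a⁻¹ * x⁻¹ ∈ A := fun a ha => hAn.conj_mem a⁻¹ (A.inv_mem ha) x
  let φ : A →* S :=
    { toFun := fun a => (a : S) * x * (a : S)⁻¹ * x⁻¹
      map_one' := by simp
      map_mul' := by
        intro a b
        have h1 := hA _ (hconj' a a.2) _ (A.mul_mem b.2 (hconj' b b.2))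
        simp only [Subgroup.coe_mul]
        calc (a : S) * (b : S) * x * ((a : S) * (b : S))⁻¹ * x⁻¹
            = (a : S) * ((b : S) * (x * (b : S)⁻¹ * x⁻¹) * (x * (a : S)⁻¹ * x⁻¹)) := by group
          _ = (a : S) * ((x * (a : S)⁻¹ * x⁻¹) * ((b : S) * (x * (b : S)⁻¹ * x⁻¹))) := by
              rw [← h1, mul_assoc]
          _ = (a : S) * x * (a : S)⁻¹ * x⁻¹ * ((b : S) * x * (b : S)⁻¹ * x⁻¹) := by group }
  have hφ : ∀ a : A, φ a = (a : S) * x * (a : S)⁻¹ * x⁻¹ := fun _ => rfl
  set R := φ.range with hR
  have hRA : R ≤ A := by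
    rintro _ ⟨a, rfl⟩
    rw [hφ]
    have : (a : S) * x * (a : S)⁻¹ * x⁻¹ = (a : S) * (x * (a : S)⁻¹ * x⁻¹) := by group
    rw [this]
    exact A.mul_mem a.2 (hconj' a a.2)
  have hRc : R ≤ commutator S := by
    rintro _ ⟨a, rfl⟩
    rw [hφ, commutator_def, ← commutatorElement_def]
    exact Subgroup.commutator_mem_commutator (mem_top _) (mem_top _)
  -- R is normal
  have hRnorm : normalizer (R : Set S) = ⊤ := by
    apply eq_top_of_index_prime A _ hp hAi _ x _ hx
    · intro a ha
      apply mem_normalizer_of_conjSub_le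
      intro y hy
      rw [mem_conjSub] at hy
      have hyA : a⁻¹ * y * a ∈ A := hRA hy
      have : y = a * (a⁻¹ * y * a) * a⁻¹ := by group
      have h2 := hA a ha _ hyA
      have h3 : y = a⁻¹ * y * a := by
        calc y = a * (a⁻¹ * y * a) * a⁻¹ := this
          _ = (a⁻¹ * y * a) * a * a⁻¹ := by rw [h2]
          _ = a⁻¹ * y * a := by group
      rw [h3]; exact hy
    · apply mem_normalizer_of_conjSub_le
      intro y hy
      rw [mem_conjSub] at hy
      obtain ⟨a, ha⟩ := hy
      rw [hφ] at ha
      refine ⟨⟨x * (a : S) * x⁻¹, hconj a a.2⟩, ?_⟩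
      rw [hφ]
      show x * (a : S) * x⁻¹ * x * (x * (a : S) * x⁻¹)⁻¹ * x⁻¹ = y
      have : y = x * (x⁻¹ * y * x) * x⁻¹ := by group
      rw [this, ← ha]
      group
  have hRn : R.Normal := normalizer_eq_top_iff.mp hRnorm
  -- the quotient is commutative
  have hcomm : IsMulCommutative (S ⧸ R) := by
    set π := QuotientGroup.mk' R with hπ
    have claim1 : ∀ a ∈ A, π a * π x = π x * π a := by
      intro a ha
      have h1 : π (a * x * a⁻¹ * x⁻¹) = 1 := by
        rw [hπ, QuotientGroup.mk'_apply, QuotientGroup.eq_one_iff]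
        exact ⟨⟨a, ha⟩, rfl⟩
      simp only [map_mul, map_inv] at h1
      calc π a * π x = (π a * π x * (π a)⁻¹ * (π x)⁻¹) * (π x * π a) := by group
        _ = π x * π a := by rw [h1, one_mul]
    have claim2 : ∀ a ∈ A, ∀ b ∈ A, π a * π b = π b * π a := by
      intro a ha b hb
      rw [← map_mul, ← map_mul, hA a ha b hb]
    have htop : ∀ Y : Subgroup (S ⧸ R), (∀ a ∈ A, π a ∈ Y) → π x ∈ Y → Y = ⊤ := by
      intro Y h1 h2
      have : Y.comap π = ⊤ := eq_top_of_index_prime A _ hp hAi (fun a ha => h1 a ha) x h2 hx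
      rw [eq_top_iff]
      intro q _
      obtain ⟨g, rfl⟩ := QuotientGroup.mk'_surjective R q
      have hg : g ∈ Y.comap π := this ▸ mem_top g
      exact hg
    have hcen : center (S ⧸ R) = ⊤ := by
      apply htop
      · intro a ha
        rw [mem_center_iff]
        intro q
        have : centralizer ({π a} : Set (S ⧸ R)) = ⊤ := by
          apply htop
          · intro b hb
            rw [mem_centralizer_singleton_iff]
            exact claim2 b hb a ha
          · rw [mem_centralizer_singleton_iff]
            exact (claim1 a ha).symm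
        have hq : q ∈ centralizer ({π a} : Set (S ⧸ R)) := this ▸ mem_top q
        rw [mem_centralizer_singleton_iff] at hq
        exact hq
      · rw [mem_center_iff]
        intro q
        have : centralizer ({π x} : Set (S ⧸ R)) = ⊤ := by
          apply htop
          · intro b hb
            rw [mem_centralizer_singleton_iff]
            exact claim1 b hb
          · rw [mem_centralizer_singleton_iff]
        have hq : q ∈ centralizer ({π x} : Set (S ⧸ R)) := this ▸ mem_top q
        rw [mem_centralizer_singleton_iff] at hq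
        exact hq
    exact center_eq_top_iff.mp hcen
  have hcR : commutator S ≤ R :=
    (Subgroup.Normal.quotient_commutative_iff_commutator_le).mp hcomm
  have hReq : R = commutator S := le_antisymm hRc hcR
  -- kernel
  have hker : φ.ker = (center S).subgroupOf A := by
    ext a
    rw [MonoidHom.mem_ker, mem_subgroupOf, hφ]
    constructor
    · intro h
      apply mem_center_of_comm A hA hAi (a : S) x a.2 hx
      calc x * (a : S) = ((a : S) * x * (a : S)⁻¹ * x⁻¹)⁻¹ * ((a : S) * x) := by group
        _ = (a : S) * x := by rw [h]; simp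
    · intro h
      have := mem_center_iff.mp h x
      calc (a : S) * x * (a : S)⁻¹ * x⁻¹ = ((a : S) * x) * (a : S)⁻¹ * x⁻¹ := by group
        _ = (x * (a : S)) * (a : S)⁻¹ * x⁻¹ := by rw [this]
        _ = 1 := by group
  have h1 := φ.ker.card_mul_index
  rw [Subgroup.index_ker, hker, h8_card_subgroupOf hZA, ← hR, hReq] at h1
  exact h1.symm


theorem eq_of_le_of_index_eq {G : Type*} [Group G] [Finite G] (H K : Subgroup G) (hHK : H ≤ K)
    (hi : H.index = K.index) : H = K := by
  have h1 := relIndex_mul_index hHK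
  rw [hi] at h1
  have h2 : H.relIndex K = 1 := by
    have h3 : H.relIndex K * K.index = 1 * K.index := by rw [h1, one_mul]
    exact Nat.eq_of_mul_eq_mul_right (Nat.pos_of_ne_zero index_ne_zero_of_finite) h3
  exact le_antisymm hHK (relIndex_eq_one.mp h2)

theorem card_commutator_le (hS : IsPGroup p S) (hna : ¬ IsMulCommutative S) (A : Subgroup S)
    (hA : ∀ a ∈ A, ∀ b ∈ A, a * b = b * a) (hAi : A.index = p)
    (B : Subgroup S) (hB : ∀ a ∈ B, ∀ b ∈ B, a * b = b * a) (hBi : B.index = p) (hne : B ≠ A) :
    Nat.card (commutator S) ≤ p := by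
  have hp := (Fact.out : p.Prime)
  have hBn : B.Normal := Cfsg.Agent.S3808.normal_of_index_p p hS B hBi
  obtain ⟨b, hbB, hbA⟩ : ∃ b ∈ B, b ∉ A := by
    by_contra h
    push Not at h
    exact hne (eq_of_le_of_index_eq B A h (by rw [hAi, hBi]))
  have hinf : A ⊓ B ≤ center S := by
    intro y hy
    exact mem_center_of_comm A hA hAi y b hy.1 hbA (hB b hbB y hy.2)
  have h1 := h8_card_inf_mul_relIndex B A
  have h2 : B.relIndex A ≤ p := by
    have : B.relIndex A ∣ B.index := relIndex_dvd_index_of_normal B A
    rw [hBi] at this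
    exact Nat.le_of_dvd hp.pos this
  have h3 : Nat.card (B ⊓ A : Subgroup S) ≤ Nat.card (center S) := by
    rw [inf_comm]
    exact Nat.le_of_dvd Nat.card_pos (Subgroup.card_dvd_of_le hinf)
  have h4 := card_eq hS hna A hA hAi
  have h5 : Nat.card (center S) * Nat.card (commutator S) ≤ Nat.card (center S) * p := by
    rw [← h4, ← h1]
    exact Nat.mul_le_mul h3 h2
  exact Nat.le_of_mul_le_mul_left h5 Nat.card_pos

/-- when the centre has index `p^2`, centralizers of noncentral elements are abelian of index `p` -/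
theorem centralizer_props (hZi : (center S).index = p ^ 2) (x : S) (hx : x ∉ center S) :
    IsMulCommutative ↥(centralizer ({x} : Set S)) ∧ (centralizer ({x} : Set S)).index = p := by
  have hp := (Fact.out : p.Prime)
  set C := centralizer ({x} : Set S) with hC
  have hZC : center S ≤ C := by
    intro z hz
    rw [hC, mem_centralizer_singleton_iff]
    exact (mem_center_iff.mp hz x).symm
  have hxC : x ∈ C := by rw [hC, mem_centralizer_singleton_iff]
  have hmul := relIndex_mul_index hZC
  rw [hZi] at hmul
  have hCtop : C.index ≠ 1 := by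
    intro h
    have htop := index_eq_one.mp h
    apply hx
    rw [mem_center_iff]
    intro g
    have hg : g ∈ C := htop ▸ mem_top g
    rw [hC, mem_centralizer_singleton_iff] at hg
    exact hg
  have hrel : (center S).relIndex C ≠ 1 := by
    intro h
    exact hx (relIndex_eq_one.mp h hxC)
  have hd : C.index ∣ p ^ 2 := ⟨_, by rw [← hmul, mul_comm]⟩
  obtain ⟨k, hk2, hk⟩ := (Nat.dvd_prime_pow hp).mp hd
  have hk1 : k = 1 := by
    have hk_cases : k = 0 ∨ k = 1 ∨ k = 2 := by omega
    rcases hk_cases with rfl | rfl | rfl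
    · rw [pow_zero] at hk; exact absurd hk hCtop
    · rfl
    · exfalso
      rw [hk] at hmul
      have : (center S).relIndex C * p ^ 2 = 1 * p ^ 2 := by rw [hmul, one_mul]
      exact hrel (Nat.eq_of_mul_eq_mul_right (pow_pos hp.pos 2) this)
  rw [hk1, pow_one] at hk
  refine ⟨?_, hk⟩
  have hrelp : (center S).relIndex C = p := by
    rw [hk] at hmul
    have : (center S).relIndex C * p = p * p := by rw [hmul, pow_two]
    exact Nat.eq_of_mul_eq_mul_right hp.pos this
  have hcard : Nat.card (↥C ⧸ (center S).subgroupOf C) = p := by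
    rw [← Subgroup.index_eq_card]; exact hrelp
  have hcyc : IsCyclic (↥C ⧸ (center S).subgroupOf C) := isCyclic_of_prime_card (p := p) hcard
  apply MonoidHom.isMulCommutative_of_isCyclic_of_ker_le_center
    (QuotientGroup.mk' ((center S).subgroupOf C))
  rw [QuotientGroup.ker_mk']
  intro z hz
  rw [mem_center_iff]
  intro g
  apply Subtype.ext
  exact (mem_center_iff.mp (mem_subgroupOf.mp hz) (g : S))

theorem fiber_count' {E T : Type*} [Finite E] [Finite T] (f : E → T) (m : ℕ)
    (hf : ∀ c : T, Nat.card {e : E // f e = c} = m) : Nat.card E = Nat.card T * m := by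
  classical
  haveI := Fintype.ofFinite T
  rw [← Nat.card_congr (Equiv.sigmaFiberEquiv f), Nat.card_sigma]
  simp only [hf, Finset.sum_const, Finset.card_univ, smul_eq_mul, Nat.card_eq_fintype_card]

theorem card_diff (B Z : Subgroup S) (hZB : Z ≤ B) :
    Nat.card {x : S // x ∈ B ∧ x ∉ Z} = Nat.card B - Nat.card Z := by
  have h1 : Nat.card {x : S // x ∈ B ∧ x ∉ Z} = ((B : Set S) \ (Z : Set S)).ncard := by
    rw [← Nat.card_coe_set_eq]
    rfl
  rw [h1, Set.ncard_sdiff (by exact_mod_cast hZB), ← Nat.card_coe_set_eq, ← Nat.card_coe_set_eq]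
  rfl

theorem count_abelian
    (hZi : (center S).index = p ^ 2)
    (hcen : ∀ B : Subgroup S, IsMulCommutative ↥B → B.index = p → center S ≤ B) :
    Nat.card {B : Subgroup S // IsMulCommutative ↥B ∧ B.index = p} = p + 1 := by
  have hp := (Fact.out : p.Prime)
  set Z := center S with hZ
  let f : {x : S // x ∉ Z} → {B : Subgroup S // IsMulCommutative ↥B ∧ B.index = p} :=
    fun x => ⟨centralizer ({x.1} : Set S), centralizer_props hZi x.1 x.2⟩
  have hz : 0 < Nat.card Z := Nat.card_pos
  have hS : Nat.card S = p * p * Nat.card Z := by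
    rw [← Z.card_mul_index, hZi]; ring
  have hfib : ∀ B : {B : Subgroup S // IsMulCommutative ↥B ∧ B.index = p},
      Nat.card {e : {x : S // x ∉ Z} // f e = B} = p * Nat.card Z - Nat.card Z := by
    intro B
    have hBc : Nat.card B.1 = p * Nat.card Z := by
      have := B.1.card_mul_index
      rw [B.2.2, hS] at this
      have h2 : Nat.card B.1 * p = (p * Nat.card Z) * p := by rw [this]; ring
      exact Nat.eq_of_mul_eq_mul_right hp.pos h2
    rw [← hBc, ← card_diff B.1 Z (hcen B.1 B.2.1 B.2.2)]
    apply Nat.card_congr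
    refine ⟨fun e => ⟨e.1.1, ?_, e.1.2⟩, fun y => ⟨⟨y.1, y.2.2⟩, ?_⟩, fun e => rfl, fun y => rfl⟩
    · have := e.2
      have h2 : centralizer ({e.1.1} : Set S) = B.1 := congrArg Subtype.val this
      rw [← h2, mem_centralizer_singleton_iff]
    · apply Subtype.ext
      show centralizer ({y.1} : Set S) = B.1
      symm
      apply eq_of_le_of_index_eq
      · intro b hb
        rw [mem_centralizer_singleton_iff]
        have := B.2.1.is_comm.comm ⟨b, hb⟩ ⟨y.1, y.2.1⟩
        exact congrArg Subtype.val this
      · rw [B.2.2, (centralizer_props hZi y.1 y.2.2).2]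
  have hE : Nat.card {x : S // x ∉ Z} = p * p * Nat.card Z - Nat.card Z := by
    have h1 : Nat.card {x : S // x ∉ Z} = ((Z : Set S)ᶜ).ncard := by
      rw [← Nat.card_coe_set_eq]
      rfl
    rw [h1, Set.ncard_compl, ← hS, ← Nat.card_coe_set_eq]
    rfl
  have hcount := fiber_count' f _ hfib
  rw [hE] at hcount
  obtain ⟨q, rfl⟩ : ∃ q, p = q + 1 := ⟨p - 1, by have := hp.pos; omega⟩
  have hq : 0 < q := by have := hp.one_lt; omega
  set z := Nat.card Z with hzdef
  set t := Nat.card {B : Subgroup S // IsMulCommutative ↥B ∧ B.index = q + 1} with ht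
  have e1 : (q + 1) * (q + 1) * z - z = (q + 2) * (q * z) := by
    have : (q + 1) * (q + 1) * z = (q + 2) * (q * z) + z := by ring
    omega
  have e2 : (q + 1) * z - z = q * z := by
    have : (q + 1) * z = q * z + z := by ring
    omega
  rw [e1, e2] at hcount
  have hqz : 0 < q * z := Nat.mul_pos hq hz
  have := Nat.eq_of_mul_eq_mul_right hqz hcount
  omega

end Cfsg.Agent.Lib.Helper18.AIP
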