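import Mathlib

set_option autoImplicit false

namespace Cfsg.Agent.Lib.Helper18.ATG

open Subgroup

theorem modEq_one_of_pow (m r a : ℕ) (hr : Odd r) (h : m ^ r ≡ 1 [MOD 2 ^ a]) :
    m ≡ 1 [MOD 2 ^ a] := by
  rcases Nat.eq_zero_or_pos a with rfl | ha
  · rw [pow_zero]; exact Nat.modEq_one
  obtain ⟨b, rfl⟩ : ∃ b, a = b + 1 := ⟨a - 1, by omega⟩
  have hr0 : r ≠ 0 := by
    rintro rfl
    exact (Nat.not_odd_iff_even.mpr (by decide : Even 0)) hr
  have hcop : Nat.Coprime m (2 ^ (b + 1)) := by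
    have h1 : Nat.gcd (m ^ r) (2 ^ (b + 1)) = Nat.gcd 1 (2 ^ (b + 1)) := Nat.ModEq.gcd_eq h
    rw [Nat.gcd_one_left] at h1
    exact Nat.Coprime.coprime_dvd_left (dvd_pow_self m hr0) h1
  set u := ZMod.unitOfCoprime m hcop with hu
  have hu1 : u ^ r = 1 := by
    apply Units.ext
    rw [Units.val_pow_eq_pow_val, hu, ZMod.coe_unitOfCoprime, Units.val_one]
    have := (ZMod.natCast_eq_natCast_iff (m ^ r) 1 (2 ^ (b + 1))).mpr h
    simpa using this
  have hu2 : u ^ (2 ^ b) = 1 := by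
    have := ZMod.pow_totient u
    rw [Nat.totient_prime_pow Nat.prime_two (Nat.succ_pos b)] at this
    simpa using this
  have hd1 : orderOf u ∣ r := orderOf_dvd_of_pow_eq_one hu1
  have hd2 : orderOf u ∣ 2 ^ b := orderOf_dvd_of_pow_eq_one hu2
  have hcop2 : Nat.Coprime r (2 ^ b) := Nat.Coprime.pow_right b (Nat.coprime_two_right.mpr hr)
  have h1 : orderOf u = 1 := Nat.eq_one_of_dvd_coprimes hcop2 hd1 hd2
  have hu1' : u = 1 := orderOf_eq_one_iff.mp h1
  have h2 : ((m : ℕ) : ZMod (2 ^ (b + 1))) = ((1 : ℕ) : ZMod (2 ^ (b + 1))) := by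
    have := congrArg Units.val hu1'
    rw [hu, ZMod.coe_unitOfCoprime, Units.val_one] at this
    rw [this, Nat.cast_one]
  exact (ZMod.natCast_eq_natCast_iff m 1 (2 ^ (b + 1))).mp h2

variable {P : Type*} [Group P] [Finite P]

/-- an odd-order automorphism stabilizing a cyclic 2-subgroup fixes it pointwise -/
theorem fix_cyclic (β : MulAut P) (r : ℕ) (hr : Odd r) (hβ : β ^ r = 1) (C : Subgroup P)
    (hC : IsCyclic C) (a : ℕ) (hCc : Nat.card C = 2 ^ a) (hβC : ∀ c ∈ C, β c ∈ C) :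
    ∀ c ∈ C, β c = c := by
  obtain ⟨g, hg⟩ := hC.exists_generator
  have hgo : orderOf (g : P) = 2 ^ a := by
    rw [Subgroup.orderOf_coe, orderOf_eq_card_of_forall_mem_zpowers hg, hCc]
  have hβg := hβC g g.2
  have hmem : β (g : P) ∈ zpowers (g : P) := by
    have := hg ⟨β (g : P), hβg⟩
    obtain ⟨k, hk⟩ := this
    refine ⟨k, ?_⟩
    have := congrArg Subtype.val hk
    simpa using this
  rw [← mem_powers_iff_mem_zpowers] at hmem
  obtain ⟨m, hm⟩ := hmem
  have hm' : β (g : P) = (g : P) ^ m := hm.symm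
  have hpow : ∀ i : ℕ, (β ^ i) (g : P) = (g : P) ^ (m ^ i) := by
    intro i
    induction i with
    | zero => simp
    | succ i ih =>
      rw [pow_succ', MulAut.mul_apply, ih, map_pow, hm', ← pow_mul, pow_succ']
  have h1 := hpow r
  rw [hβ, MulAut.one_apply] at h1
  have h2 : (g : P) ^ (m ^ r) = (g : P) ^ 1 := by rw [← h1, pow_one]
  rw [pow_eq_pow_iff_modEq, hgo] at h2
  have h3 := modEq_one_of_pow m r a hr h2
  have h4 : (g : P) ^ m = (g : P) ^ 1 := by rw [pow_eq_pow_iff_modEq, hgo]; exact h3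
  rw [pow_one] at h4
  have hβg' : β (g : P) = (g : P) := by rw [hm', h4]
  intro c hc
  obtain ⟨k, hk⟩ := hg ⟨c, hc⟩
  have hck : c = (g : P) ^ k := by
    have := congrArg Subtype.val hk
    simpa using this.symm
  rw [hck, map_zpow, hβg']

/-- an odd-order automorphism of a 2-group fixing a subgroup of index 2 pointwise is trivial -/
theorem eq_one_of_fix (hP : IsPGroup 2 P) (β : MulAut P) (r : ℕ) (hr : Odd r) (hβ : β ^ r = 1)
    (C : Subgroup P) (hCi : C.index = 2) (hfix : ∀ c ∈ C, β c = c) : β = 1 := by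
  ext g
  rw [MulAut.one_apply]
  by_cases hg : g ∈ C
  · exact hfix g hg
  have hβg : β g ∉ C := by
    intro h
    apply hg
    have h1 : β (β g) = β g := hfix _ h
    have := β.injective h1
    rw [← this]; exact h
  have hc : g⁻¹ * β g ∈ C := by
    rw [Subgroup.mul_mem_iff_of_index_two hCi, inv_mem_iff]
    exact ⟨fun h => absurd h hg, fun h => absurd h hβg⟩
  set c := g⁻¹ * β g with hcdef
  have hβg' : β g = g * c := by rw [hcdef]; group
  have hpow : ∀ i : ℕ, (β ^ i) g = g * c ^ i := by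
    intro i
    induction i with
    | zero => simp
    | succ i ih =>
      rw [pow_succ', MulAut.mul_apply, ih, map_mul, map_pow, hfix c hc, hβg', pow_succ', mul_assoc]
  have h1 := hpow r
  rw [hβ, MulAut.one_apply] at h1
  have h2 : c ^ r = 1 := by
    have : g * c ^ r = g * 1 := by rw [← h1, mul_one]
    exact mul_left_cancel this
  obtain ⟨k, hk⟩ := hP c
  have hd1 : orderOf c ∣ r := orderOf_dvd_of_pow_eq_one h2
  have hd2 : orderOf c ∣ 2 ^ k := orderOf_dvd_of_pow_eq_one hk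
  have hcop2 : Nat.Coprime r (2 ^ k) := Nat.Coprime.pow_right k (Nat.coprime_two_right.mpr hr)
  have h3 : orderOf c = 1 := Nat.eq_one_of_dvd_coprimes hcop2 hd1 hd2
  rw [hβg', orderOf_eq_one_iff.mp h3, mul_one]

end Cfsg.Agent.Lib.Helper18.ATG
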