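import Mathlib
import Cfsg.Agent.Lib.Lead.BCS.Defs
import Cfsg.Agent.Lib.helper17.BCSA4
import Cfsg.Agent.Lib.Helper11.BCSA5
import Cfsg.Agent.Lib.Helper24.S5972SPLIT
import Cfsg.Agent.Lib.Helper24.ElR
import Cfsg.Agent.Lib.Helper5.S5955T7

set_option autoImplicit false
set_option linter.unusedVariables false

/-!
# Project BCS (designer lead), row A6b (`bcs_unip_cyc_split`), second copy by helper18 under the prefixed name
`bcsa6b_h18` (same statement as the Skel row).
-/

namespace Cfsg.Agent.Lib.Lead.BCS

open Polynomial Module Matrix Cfsg.Agent.Lib.Helper13.S5955 Cfsg.Agent.Lib.helper15.S5972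
  Cfsg.Agent.Lib.Helper18.ONE

/-- a map commuting with `y` preserves `ker P(y)` (row A3 in general form) -/
theorem bcsa6b_h18_inv {F : Type*} [Field F] {V : Type*} [AddCommGroup V] [Module F V]
    (g y : Module.End F V) (hc : Commute g y) (P : F[X]) :
    SInv g (LinearMap.ker (aeval y P)) := by
  have hcomm : ∀ P : F[X], Commute (aeval y P) g := by
    intro P
    induction P using Polynomial.induction_on' with
    | add a b ha hb => rw [map_add]; exact ha.add_left hb
    | monomial n a =>
      rw [← C_mul_X_pow_eq_monomial, map_mul, aeval_C, map_pow, aeval_X]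
      exact (Algebra.commute_algebraMap_left a g).mul_left ((hc.symm).pow_left n)
  intro w hw
  rw [LinearMap.mem_ker] at hw ⊢
  have h1 : Commute g (aeval y P) := (hcomm P).symm
  have h2 : (aeval y P) (g w) = g ((aeval y P) w) := by
    have := congrArg (fun t : Module.End F V => t w) h1.eq
    simpa [Module.End.mul_apply] using this.symm
  rw [h2, hw, map_zero]

theorem bcsa6b_h18_fix {F : Type*} [Field F] {V : Type*} [AddCommGroup V] [Module F V]
    (u : Module.End F V) (v : V) : v ∈ fixS u ↔ (u - 1) v = 0 := by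
  rw [bcs_mem_fixS, LinearMap.sub_apply, Module.End.one_apply, sub_eq_zero]

/-- A6b (second copy) -/
theorem bcsa6b_h18 {F : Type*} [Field F] [Fintype F] {p : ℕ} [Fact p.Prime] [CharP F p]
    (h2 : (2 : F) ≠ 0) {V : Type*} [AddCommGroup V] [Module F V] [FiniteDimensional F V]
    {ℓ : ℕ} [Fact ℓ.Prime] (hℓp : ℓ ≠ p) {B : LinearMap.BilinForm F V}
    {y u : Module.End F V} (h : OCtx ℓ B y) (hu : OCtx p B u) (hc : Commute u y) (m : ℕ)
    (hmo : Odd m) (hord : orderOf ((Fintype.card F : ℕ) : ZMod ℓ) = m)
    (hdim : finrank F (cycS ℓ y) = 2 * m) :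
    ∀ w ∈ cycS ℓ y, u w = w := by
  classical
  set W : Submodule F V := cycS ℓ y with hWdef
  set N : Module.End F V := u - 1 with hNdef
  have hm1 : 1 ≤ m := by rcases hmo with ⟨t, ht⟩; omega
  have hNp : N ^ p = 0 := by
    rw [hNdef, Cfsg.Agent.Lib.Helper24.el_sub_one_pow_char (p := p) u, hu.pow, sub_self]
  -- invariance
  have hWu : SInv u W := bcsa6b_h18_inv u y hc _
  have hWy : SInv y W := Cfsg.Agent.Lib.Helper24.el_inv_ker y _
  have hFy : SInv y (fixS u) := bcsa6b_h18_inv y u hc.symm _
  have hFu : SInv u (fixS u) := Cfsg.Agent.Lib.Helper24.el_inv_ker u _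
  have hWnd : SND B W := (o_split (p := p) hℓp h).2.2.2
  have hW0 : W ≠ ⊥ := by
    intro h0
    rw [h0, finrank_bot] at hdim
    omega
  -- `K = W ⊓ fixS u`
  set K : Submodule F V := W ⊓ fixS u with hKdef
  have hKy : SInv y K := Cfsg.Agent.Lib.Helper24.el_inv_inf hWy hFy
  have hK0 : K ≠ ⊥ := bcs_unip_fix u p hNp W hWu hW0
  have hKdvd : m ∣ finrank F K := by
    have := bcs_inv_dvd (p := p) hℓp y K hKy inf_le_left
    rwa [hord] at this
  have hKle : finrank F K ≤ 2 * m := by
    rw [← hdim]; exact Submodule.finrank_mono inf_le_left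
  have hKpos : 0 < finrank F K := Submodule.one_le_finrank_iff.mpr hK0
  -- if `dim K = 2m` we are done
  by_cases hKW : finrank F K = 2 * m
  · have hKeq : K = W := by
      apply Submodule.eq_of_le_of_finrank_eq inf_le_left
      rw [hKW, hdim]
    intro w hw
    have : w ∈ K := by rw [hKeq]; exact hw
    exact (bcs_mem_fixS u w).mp (Submodule.mem_inf.mp this).2
  exfalso
  have hKm : finrank F K = m := by
    obtain ⟨t, ht⟩ := hKdvd
    have ht1 : t = 1 := by
      rcases Nat.lt_or_ge t 2 with h1 | h1
      · rcases Nat.eq_zero_or_pos t with h0 | h0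
        · rw [h0] at ht; omega
        · omega
      · exfalso
        have : 2 * m ≤ m * t := by nlinarith
        rcases Nat.lt_or_ge t 3 with h3 | h3
        · have : t = 2 := by omega
          rw [this] at ht
          omega
        · have : 3 * m ≤ m * t := by nlinarith
          omega
    rw [ht, ht1, mul_one]
  -- `N` maps `W` into `W`
  have hNW : ∀ w ∈ W, N w ∈ W := by
    intro w hw
    rw [hNdef, LinearMap.sub_apply, Module.End.one_apply]
    exact W.sub_mem (hWu w hw) hw
  -- `R = N W`
  set R : Submodule F V := W.map N with hRdef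
  have hRW : R ≤ W := by
    rintro _ ⟨w, hw, rfl⟩
    exact hNW w hw
  have hNy : Commute N y := by
    rw [hNdef]
    exact (hc.sub_left (Commute.one_left y))
  have hNu : Commute N u := by
    rw [hNdef]
    exact ((Commute.refl u).sub_left (Commute.one_left u))
  have hRy : SInv y R := by
    rintro _ ⟨w, hw, rfl⟩
    refine ⟨y w, hWy w hw, ?_⟩
    have := congrArg (fun t : Module.End F V => t w) hNy.eq
    simpa [Module.End.mul_apply] using this
  have hRu : SInv u R := by
    rintro _ ⟨w, hw, rfl⟩
    refine ⟨u w, hWu w hw, ?_⟩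
    have := congrArg (fun t : Module.End F V => t w) hNu.eq
    simpa [Module.End.mul_apply] using this
  -- rank-nullity on `W`
  have hrn : finrank F R + finrank F K = finrank F W := by
    have hker : LinearMap.ker (N.domRestrict W) = K.comap W.subtype := by
      ext ⟨w, hw⟩
      simp only [LinearMap.mem_ker, LinearMap.domRestrict_apply, Submodule.mem_comap,
        Submodule.coe_subtype, hKdef, Submodule.mem_inf]
      constructor
      · intro h0
        exact ⟨hw, (bcsa6b_h18_fix u w).mpr h0⟩
      · rintro ⟨-, h0⟩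
        exact (bcsa6b_h18_fix u w).mp h0
    have hrange : LinearMap.range (N.domRestrict W) = R := by
      ext v
      simp only [LinearMap.mem_range, hRdef, Submodule.mem_map]
      constructor
      · rintro ⟨⟨w, hw⟩, rfl⟩
        exact ⟨w, hw, rfl⟩
      · rintro ⟨w, hw, rfl⟩
        exact ⟨⟨w, hw⟩, rfl⟩
    have := LinearMap.finrank_range_add_finrank_ker (N.domRestrict W)
    rw [hker, hrange] at this
    have hK' : finrank F (K.comap W.subtype) = finrank F K :=
      (Submodule.comapSubtypeEquivOfLe (inf_le_left : K ≤ W)).finrank_eq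
    rw [hK'] at this
    exact this
  have hRm : finrank F R = m := by
    rw [hKm] at hrn
    omega
  have hR0 : R ≠ ⊥ := by
    intro h0
    rw [h0, finrank_bot] at hRm
    omega
  -- `R ≤ fixS u`
  have hRfix : R ≤ fixS u := by
    set R' : Submodule F V := R ⊓ fixS u with hR'def
    have hR'0 : R' ≠ ⊥ := bcs_unip_fix u p hNp R hRu hR0
    have hR'y : SInv y R' := Cfsg.Agent.Lib.Helper24.el_inv_inf hRy hFy
    have hR'dvd : m ∣ finrank F R' := by
      have := bcs_inv_dvd (p := p) hℓp y R' hR'y (le_trans inf_le_left hRW)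
      rwa [hord] at this
    have hR'le : finrank F R' ≤ m := by
      rw [← hRm]; exact Submodule.finrank_mono inf_le_left
    have hR'pos : 0 < finrank F R' := Submodule.one_le_finrank_iff.mpr hR'0
    have hR'm : finrank F R' = m := le_antisymm hR'le (Nat.le_of_dvd hR'pos hR'dvd)
    have hR'eq : R' = R := by
      apply Submodule.eq_of_le_of_finrank_eq inf_le_left
      rw [hR'm, hRm]
    rw [← hR'eq]
    exact inf_le_right
  have hNN : ∀ w ∈ W, N (N w) = 0 := by
    intro w hw
    exact (bcsa6b_h18_fix u (N w)).mp (hRfix ⟨w, hw, rfl⟩)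
  -- the isometry identity
  have hiso : ∀ v w : V, B (N v) w + B v (N w) + B (N v) (N w) = 0 := by
    intro v w
    have h1 := hu.pres v w
    have hv : u v = v + N v := by rw [hNdef, LinearMap.sub_apply, Module.End.one_apply]; abel
    have hw : u w = w + N w := by rw [hNdef, LinearMap.sub_apply, Module.End.one_apply]; abel
    rw [hv, hw] at h1
    simp only [map_add, LinearMap.add_apply] at h1
    linear_combination h1
  have hNNB : ∀ v : V, ∀ w ∈ W, B (N v) (N w) = 0 := by
    intro v w hw
    have := hiso v (N w)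
    rw [hNN w hw] at this
    simpa using this
  have hskew : ∀ v : V, ∀ w ∈ W, B (N v) w + B v (N w) = 0 := by
    intro v w hw
    have := hiso v w
    rw [hNNB v w hw, add_zero] at this
    exact this
  have halt : ∀ v ∈ W, B (N v) v = 0 := by
    intro v hv
    have h1 := hskew v v hv
    rw [hu.symm v (N v)] at h1
    have h3 : (2 : F) * B (N v) v = 0 := by linear_combination h1
    rcases mul_eq_zero.mp h3 with h4 | h4
    · exact absurd h4 h2
    · exact h4
  -- the alternating form on `↥W`
  let γ : LinearMap.BilinForm F ↥W :=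
    (B.comp (N.comp W.subtype) W.subtype)
  have hγ : ∀ v w : ↥W, γ v w = B (N (v : V)) (w : V) := fun v w => rfl
  have hγalt : ∀ v : ↥W, γ v v = 0 := fun v => by rw [hγ]; exact halt v v.2
  -- a complement of `K` in `W`
  set K' : Submodule F ↥W := K.comap W.subtype with hK'def
  obtain ⟨C, hC⟩ := Submodule.exists_isCompl K'
  have hK'fin : finrank F K' = m := by
    rw [hK'def, (Submodule.comapSubtypeEquivOfLe (inf_le_left : K ≤ W)).finrank_eq, hKm]
  have hCfin : finrank F C = m := by
    have h1 := Submodule.finrank_add_eq_of_isCompl hC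
    rw [hK'fin] at h1
    have h3 : finrank F ↥W = 2 * m := hdim
    omega
  have hCnd : SND γ C := by
    intro c hc hall
    -- `c` is in the radical of `γ` on `W`
    have hrad : ∀ w : ↥W, γ c w = 0 := by
      intro w
      obtain ⟨k, hk, c', hc', rfl⟩ : ∃ k ∈ K', ∃ c' ∈ C, k + c' = w := by
        have : w ∈ K' ⊔ C := by rw [hC.sup_eq_top]; exact Submodule.mem_top
        obtain ⟨k, hk, c', hc', hkc⟩ := Submodule.mem_sup.mp this
        exact ⟨k, hk, c', hc', hkc⟩
      rw [map_add, hall c' hc', add_zero, hγ]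
      have hkK : (k : V) ∈ K := hk
      have hkfix : N (k : V) = 0 := (bcsa6b_h18_fix u _).mp (Submodule.mem_inf.mp hkK).2
      have h1 := hskew (c : V) (k : V) k.2
      rw [hkfix, map_zero, add_zero] at h1
      exact h1
    have hNc : N (c : V) = 0 := by
      apply hWnd (N (c : V)) (hNW _ c.2)
      intro w hw
      exact hrad ⟨w, hw⟩
    have hcK : c ∈ K' := by
      rw [hK'def, Submodule.mem_comap, Submodule.coe_subtype, hKdef, Submodule.mem_inf]
      exact ⟨c.2, (bcsa6b_h18_fix u _).mpr hNc⟩
    have : c ∈ K' ⊓ C := Submodule.mem_inf.mpr ⟨hcK, hc⟩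
    rw [hC.inf_eq_bot] at this
    exact (Submodule.mem_bot F).mp this
  have hev : Even (finrank F C) := nd_even γ hγalt C hCnd
  rw [hCfin] at hev
  exact (Nat.not_even_iff_odd.mpr hmo) hev

end Cfsg.Agent.Lib.Lead.BCS
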