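import Mathlib
import Cfsg.Agent.Lib.Helper18.BGTenB

set_option autoImplicit false
open scoped commutatorElement

namespace Cfsg.Agent.Lib.Helper18.BGTenC

open Cfsg Cfsg.Agent.Lib.Helper21 Cfsg.Agent.Lib.Helper1 Cfsg.Agent.Lib.Helper18
open Cfsg.Agent.Lib.Helper11.MaxSubB Cfsg.Agent.Lib.Helper11.MaxSubD Cfsg.Agent.Lib.Helper11.BenderE
  Cfsg.Agent.Lib.Helper11.BenderM Cfsg.Agent.Lib.Helper11.BenderN
  Cfsg.Agent.Lib.Helper11.BenderS Cfsg.Agent.Lib.Helper18.BGTenA Cfsg.Agent.Lib.Helper18.BGTenB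

universe u

variable {G : Type u} [Group G]

/-- conjugation by an element commuting with `Q` elementwise fixes `Q` -/
theorem conjSub_eq_of_commute {c : G} {Q : Subgroup G} (h : ∀ q ∈ Q, c * q = q * c) :
    conjSub c Q = Q := by
  ext x
  rw [mem_conjSub]
  constructor
  · intro hx
    have h1 := h _ hx
    have e : x = c⁻¹ * x * c := by
      have h2 : c * (c⁻¹ * x * c) * c⁻¹ = x := by group
      rw [h1] at h2
      have h3 : c⁻¹ * x * c * c * c⁻¹ = c⁻¹ * x * c := by group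
      rw [h3] at h2
      exact h2.symm
    rw [e]; exact hx
  · intro hx
    have h1 := h _ hx
    have e : c⁻¹ * x * c = x := by
      rw [mul_assoc, ← h1]; group
    rw [e]; exact hx

variable [Finite G]

/-- **B & G, Corollary 10.7(c)**: `N_G(P)` controls fusion of subgroups of `P` -/
theorem sylow_fusion (hG : Cfsg.IsMinSimpleOddOrder G)
    (h36 : ∀ M : Subgroup G, IsCoatom M → Thm36 ↥M) (p : ℕ) [hp : Fact p.Prime] (P : Sylow p G)
    (Q : Subgroup G) (x : G) (hQP : Q ≤ (P : Subgroup G)) (hxQ : conjSub x Q ≤ (P : Subgroup G)) :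
    ∃ y ∈ Subgroup.normalizer ((P : Subgroup G) : Set G), conjSub x Q = conjSub y Q := by
  by_cases hQ1 : Q = ⊥
  · refine ⟨1, Subgroup.one_mem _, ?_⟩
    rw [hQ1]
    unfold conjSub
    rw [Subgroup.map_bot, Subgroup.map_bot]
  have hP1 : (P : Subgroup G) ≠ ⊥ := by
    intro h
    apply hQ1
    rw [eq_bot_iff, ← h]
    exact hQP
  obtain ⟨M, hM, hgood⟩ := exists_coatom_good hG p P hP1
  have hMs : Group.IsSolvable ↥M := coatom_solvable hG M hM
  have hPM : (P : Subgroup G) ≤ M := hgood.1.le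
  obtain ⟨m, hm, c, hc, rfl⟩ := sigma_fusion_aux hG M hM p _ hgood _ Q rfl
    (P.isPGroup'.to_le hQP) hQ1 (hQP.trans hPM) x (hxQ.trans hPM)
  have hcQ : conjSub c Q = Q := by
    apply conjSub_eq_of_commute
    intro q hq
    exact ((Subgroup.mem_centralizer_iff.mp hc) q hq).symm
  have hmQ : conjSub (m * c) Q = conjSub m Q := by
    rw [← conjSub_mul, hcQ]
  rw [hmQ] at hxQ ⊢
  obtain ⟨PM, hPMeq⟩ := hgood.1.exists_sylow
  have h2 := (Cfsg.Agent.S1461.result (G := ↥M) p (coatom_plength hG M hM (h36 M hM) p) PM).2.1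
    ((Q.subgroupOf M : Subgroup ↥M) : Set ↥M) ⟨m, hm⟩
    (by
      intro y hy
      have hy' : y ∈ Q.subgroupOf M := hy
      show y ∈ (PM : Subgroup ↥M)
      rw [hPMeq, Subgroup.mem_subgroupOf]
      exact hQP (Subgroup.mem_subgroupOf.mp hy'))
    (by
      rintro _ ⟨y, hy, rfl⟩
      have hy' : y ∈ Q.subgroupOf M := hy
      show (⟨m, hm⟩ : ↥M) * y * (⟨m, hm⟩ : ↥M)⁻¹ ∈ (PM : Subgroup ↥M)
      rw [hPMeq, Subgroup.mem_subgroupOf]
      have := hxQ (conj_mem_conjSub (g := m) (Subgroup.mem_subgroupOf.mp hy'))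
      simpa using this)
  obtain ⟨g, hg, c', hc', hgc⟩ := h2
  have hgN : (g : G) ∈ Subgroup.normalizer ((P : Subgroup G) : Set G) := by
    apply normalizer_subgroupOf_map_le hPM
    refine ⟨g, ?_, rfl⟩
    rw [← hPMeq]
    exact hg
  refine ⟨(g : G), hgN, ?_⟩
  have hm' : m = (g : G) * (c' : G) := by
    have := congrArg Subtype.val hgc
    simpa using this.symm
  have hc'Q : conjSub (c' : G) Q = Q := by
    apply conjSub_eq_of_commute
    intro q hq
    have hqM : q ∈ M := hPM (hQP hq)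
    have h3 := (Subgroup.mem_centralizer_iff.mp hc') ⟨q, hqM⟩
      (show (⟨q, hqM⟩ : ↥M) ∈ Q.subgroupOf M from Subgroup.mem_subgroupOf.mpr hq)
    have h4 := congrArg Subtype.val h3
    simpa using h4.symm
  rw [hm', ← conjSub_mul, hc'Q]

/-- **B & G, Corollary 10.7(d)**: `N_P(Q)` is a Sylow subgroup of `N_G(Q)` -/
theorem sylow_inf_normalizer (hG : Cfsg.IsMinSimpleOddOrder G)
    (h36 : ∀ M : Subgroup G, IsCoatom M → Thm36 ↥M) (p : ℕ) [hp : Fact p.Prime] (P : Sylow p G)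
    (Q : Subgroup G) (hQP : Q ≤ (P : Subgroup G)) :
    ¬ p ∣ ((P : Subgroup G) ⊓ Subgroup.normalizer (Q : Set G)).relIndex
      (Subgroup.normalizer (Q : Set G)) := by
  obtain ⟨NQ, hNQ⟩ : ∃ NQ : Subgroup G, NQ = Subgroup.normalizer (Q : Set G) := ⟨_, rfl⟩
  rw [← hNQ]
  have hTp : IsPGroup p (((P : Subgroup G) ⊓ NQ).subgroupOf NQ) :=
    (P.isPGroup'.to_le inf_le_left).comap_subtype
  obtain ⟨S', hS'⟩ := hTp.exists_le_sylow
  obtain ⟨S, hS⟩ : ∃ S : Subgroup G, S = (S' : Subgroup ↥NQ).map NQ.subtype := ⟨_, rfl⟩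
  have hSyl : IsSylowIn p S NQ := by rw [hS]; exact isSylowIn_of_sylow S'
  have hTS : (P : Subgroup G) ⊓ NQ ≤ S := by
    intro t ht
    rw [hS]
    exact ⟨⟨t, ht.2⟩, hS' (Subgroup.mem_subgroupOf.mpr ht), rfl⟩
  have hQS : Q ≤ S := by
    refine le_trans ?_ hTS
    rw [hNQ]
    exact le_inf hQP Subgroup.le_normalizer
  obtain ⟨g, -, hg⟩ := (isSylowIn_top_of_sylow P).exists_conj_le (le_top : S ≤ ⊤) hSyl.isPGroup
  have hgQ : conjSub g Q ≤ (P : Subgroup G) := (conjSub_mono hQS).trans hg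
  obtain ⟨y, hy, hyQ⟩ := sylow_fusion hG h36 p P Q g hQP hgQ
  have hyinv : y⁻¹ ∈ Subgroup.normalizer ((P : Subgroup G) : Set G) := Subgroup.inv_mem _ hy
  have hnQ : conjSub (y⁻¹ * g) Q = Q := by
    rw [← conjSub_mul, hyQ, conjSub_mul, inv_mul_cancel, conjSub_one]
  have hn : y⁻¹ * g ∈ NQ := by
    rw [hNQ]
    apply mem_normalizer_of_conjSub_le
    rw [hnQ]
  have h1 : conjSub (y⁻¹ * g) S ≤ (P : Subgroup G) ⊓ NQ := by
    apply le_inf
    · rw [← conjSub_mul]
      refine (conjSub_mono hg).trans ?_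
      rw [conjSub_eq_of_mem_normalizer hyinv]
    · exact conjSub_le_of_mem hSyl.le hn
  have hcard : Nat.card S ≤ Nat.card ((P : Subgroup G) ⊓ NQ : Subgroup G) := by
    rw [← card_conjSub (y⁻¹ * g) S]
    exact Subgroup.card_le_of_le h1
  have heq : (P : Subgroup G) ⊓ NQ = S := Subgroup.eq_of_le_of_card_ge hTS hcard
  rw [heq]
  exact hSyl.not_dvd

/-- **B & G, Corollary 10.7(e)** -/
theorem sylow_weakly_closed (hG : Cfsg.IsMinSimpleOddOrder G)
    (h36 : ∀ M : Subgroup G, IsCoatom M → Thm36 ↥M) (p : ℕ) [hp : Fact p.Prime] (P : Sylow p G)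
    (R Q : Subgroup G) (hR : IsPGroup p R) (hQ : Q ≤ (P : Subgroup G) ⊓ R)
    (hN : Subgroup.normalizer ((P : Subgroup G) : Set G) ≤ Subgroup.normalizer (Q : Set G)) :
    Subgroup.normalizer (R : Set G) ≤ Subgroup.normalizer (Q : Set G) := by
  have hQP : Q ≤ (P : Subgroup G) := hQ.trans inf_le_left
  have hQR : Q ≤ R := hQ.trans inf_le_right
  obtain ⟨g, -, hg⟩ := (isSylowIn_top_of_sylow P).exists_conj_le (le_top : R ≤ ⊤) hR
  -- any `x` with `Q^x ≤ P` normalizes `Q`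
  have key : ∀ x : G, conjSub x Q ≤ (P : Subgroup G) → x ∈ Subgroup.normalizer (Q : Set G) := by
    intro x hx
    obtain ⟨y, hy, hyQ⟩ := sylow_fusion hG h36 p P Q x hQP hx
    apply mem_normalizer_of_conjSub_le
    rw [hyQ, conjSub_eq_of_mem_normalizer (hN hy)]
  have hgN : g ∈ Subgroup.normalizer (Q : Set G) := key g ((conjSub_mono hQR).trans hg)
  intro n hn
  have h1 : conjSub (g * n) Q ≤ (P : Subgroup G) := by
    rw [← conjSub_mul]
    refine (conjSub_mono ?_).trans hg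
    refine (conjSub_mono hQR).trans ?_
    rw [conjSub_eq_of_mem_normalizer hn]
  have h2 := key (g * n) h1
  have h3 := Subgroup.mul_mem _ (Subgroup.inv_mem _ hgN) h2
  rwa [inv_mul_cancel_left] at h3

end Cfsg.Agent.Lib.Helper18.BGTenC
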