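import Mathlib
import Cfsg.Agent.Lib.Helper28.BP2.Defs
import Cfsg.Agent.Lib.helper15.SL2Conj
import Cfsg.Agent.Lib.helper15.SL2Odd
import Cfsg.Agent.Lib.helper15.BP2T7

/-! # BP2 row D6 (`not_binS_three_odd`), verbatim, on the landed T7 (`not_binS_of_triple`) -/

set_option autoImplicit false

namespace Cfsg.Agent.Lib.Helper28.BP2

open Cfsg.Agent.Lib.helper14

universe u v w

section D6grp

variable {G : Type v} [Group G]

theorem bp2d6_exists (H : Subgroup G) (hH : Nat.card H = 3) :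
    ∃ a ∈ H, a ≠ 1 ∧ a ^ 3 = 1 := by
  have hnt : H ≠ ⊥ := by
    intro h
    rw [h] at hH
    simp at hH
  obtain ⟨⟨a, ha⟩, ha1⟩ := (Subgroup.ne_bot_iff_exists_ne_one).mp hnt
  refine ⟨a, ha, fun h => ha1 (Subtype.ext h), ?_⟩
  have h3 : (⟨a, ha⟩ : H) ^ Nat.card H = 1 := pow_card_eq_one'
  rw [hH] at h3
  have := congrArg Subtype.val h3
  simpa using this

theorem bp2d6_conj_mem (H : Subgroup G) (hH : Nat.card H = 3)
    {a h X : G} (ha : a ∈ H) (hh : h ∈ H) (hh1 : h ≠ 1) (hX : X⁻¹ * h * X ∈ H) :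
    X * a * X⁻¹ ∈ H := by
  have : Fact (Nat.Prime 3) := ⟨Nat.prime_three⟩
  have hne : (⟨X⁻¹ * h * X, hX⟩ : H) ≠ 1 := by
    intro h1
    apply hh1
    have h2 : X⁻¹ * h * X = 1 := congrArg Subtype.val h1
    have h3 : h = X * (X⁻¹ * h * X) * X⁻¹ := by group
    rw [h3, h2]
    group
  have htop := zpowers_eq_top_of_prime_card hH hne
  have hmem : (⟨a, ha⟩ : H) ∈ Subgroup.zpowers (⟨X⁻¹ * h * X, hX⟩ : H) := by
    rw [htop]; trivial
  obtain ⟨k, hk⟩ := Subgroup.mem_zpowers_iff.mp hmem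
  have hk' : (X⁻¹ * h * X) ^ k = a := by
    have := congrArg Subtype.val hk
    simpa using this
  have h4 : X * a * X⁻¹ = h ^ k := by
    rw [← hk']
    have hc : X⁻¹ * h * X = X⁻¹ * h * X⁻¹⁻¹ := by rw [inv_inv]
    rw [hc, conj_zpow]
    group
  rw [h4]
  exact H.zpow_mem hh k

theorem bp2d6_commute (H : Subgroup G) (hH : Nat.card H = 3)
    {a b : G} (ha : a ∈ H) (ha1 : a ≠ 1) (hb : b ∈ H) : a * b = b * a := by
  have : Fact (Nat.Prime 3) := ⟨Nat.prime_three⟩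
  have hne : (⟨a, ha⟩ : H) ≠ 1 := fun h1 => ha1 (congrArg Subtype.val h1)
  have htop := zpowers_eq_top_of_prime_card hH hne
  have hmem : (⟨b, hb⟩ : H) ∈ Subgroup.zpowers (⟨a, ha⟩ : H) := by
    rw [htop]; trivial
  obtain ⟨k, hk⟩ := Subgroup.mem_zpowers_iff.mp hmem
  have hk' : a ^ k = b := by
    have := congrArg Subtype.val hk
    simpa using this
  rw [← hk']
  exact ((Commute.refl a).zpow_right k).eq

end D6grp

section D6

variable {F : Type u} [Field F]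

theorem bp2d6_diag_neg_one :
    (Matrix.diagonal fun _ : Fin 2 => (-1 : F)) = (-1 : Matrix (Fin 2) (Fin 2) F) := by
  ext i j
  fin_cases i <;> fin_cases j <;> simp

theorem bp2d6_pr_eq_one_iff (g : SL2 F) : pr F g = 1 ↔ g = 1 ∨ g = -1 := by
  rw [pr, QuotientGroup.mk'_apply, QuotientGroup.eq_one_iff,
    Matrix.SpecialLinearGroup.mem_center_iff]
  constructor
  · rintro ⟨r, hr, hg⟩
    have hr2 : r ^ 2 = 1 := by simpa using hr
    have hr3 : (r - 1) * (r + 1) = 0 := by linear_combination hr2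
    rcases mul_eq_zero.mp hr3 with h | h
    · left
      have hr1 : r = 1 := by linear_combination h
      apply Subtype.ext
      rw [← hg, hr1]
      simp
    · right
      have hr1 : r = -1 := by linear_combination h
      apply Subtype.ext
      rw [← hg, hr1, Matrix.SpecialLinearGroup.coe_neg]
      simp [bp2d6_diag_neg_one]
  · rintro (h | h)
    · exact ⟨1, by simp, by rw [h]; simp⟩
    · refine ⟨-1, by simp, ?_⟩
      rw [h, Matrix.SpecialLinearGroup.coe_neg]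
      simp [bp2d6_diag_neg_one]

theorem bp2d6_pr_neg_one : pr F (-1 : SL2 F) = 1 :=
  (bp2d6_pr_eq_one_iff _).mpr (Or.inr rfl)

theorem bp2d6_neg_eq (g : SL2 F) : -g = (-1 : SL2 F) * g := by
  apply Subtype.ext
  rw [Matrix.SpecialLinearGroup.coe_mul, Matrix.SpecialLinearGroup.coe_neg,
    Matrix.SpecialLinearGroup.coe_neg]
  simp

theorem bp2d6_pr_neg (g : SL2 F) : pr F (-g) = pr F g := by
  rw [bp2d6_neg_eq, map_mul, bp2d6_pr_neg_one, one_mul]

theorem bp2d6_pr_eq (g h : SL2 F) (hgh : pr F g = pr F h) :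
    (g : Matrix (Fin 2) (Fin 2) F) = h ∨ (g : Matrix (Fin 2) (Fin 2) F) = -h := by
  have h1 : pr F (g * h⁻¹) = 1 := by rw [map_mul, map_inv, hgh, mul_inv_cancel]
  rcases (bp2d6_pr_eq_one_iff _).mp h1 with h2 | h2
  · left
    rw [mul_inv_eq_one] at h2
    rw [h2]
  · right
    have h3 : g = -h := by
      rw [bp2d6_neg_eq, ← h2]
      group
    rw [h3, Matrix.SpecialLinearGroup.coe_neg]

theorem bp2d6_pr_scalar (g : SL2 F) (c : F)
    (h : (g : Matrix (Fin 2) (Fin 2) F) = c • (1 : Matrix (Fin 2) (Fin 2) F)) : pr F g = 1 := by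
  rw [pr, QuotientGroup.mk'_apply, QuotientGroup.eq_one_iff,
    Matrix.SpecialLinearGroup.mem_center_iff]
  refine ⟨c, ?_, ?_⟩
  · have := g.2
    rw [h, Matrix.det_smul, Matrix.det_one, mul_one] at this
    exact this
  · rw [h, Matrix.smul_one_eq_diagonal]
    rfl

/-- an element of `SL₂` with `A³ = 1` that is not scalar has trace `-1` -/
theorem bp2d6_trace (A : SL2 F) (h3 : A ^ 3 = 1)
    (hns : ∀ c : F, (A : Matrix (Fin 2) (Fin 2) F) ≠ c • (1 : Matrix (Fin 2) (Fin 2) F)) :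
    (A : Matrix (Fin 2) (Fin 2) F).trace = -1 := by
  obtain ⟨M, hM⟩ : ∃ M : Matrix (Fin 2) (Fin 2) F, M = (A : Matrix (Fin 2) (Fin 2) F) := ⟨_, rfl⟩
  rw [← hM] at hns ⊢
  have hdet : M 0 0 * M 1 1 - M 0 1 * M 1 0 = 1 := by
    have := A.2
    rw [Matrix.det_fin_two, ← hM] at this
    exact this
  have hM3 : M ^ 3 = 1 := by
    have := congrArg (fun B : SL2 F => (B : Matrix (Fin 2) (Fin 2) F)) h3
    rw [hM]
    simpa using this
  obtain ⟨t, ht⟩ : ∃ t : F, t = M 0 0 + M 1 1 := ⟨_, rfl⟩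
  have htr : M.trace = t := by rw [Matrix.trace_fin_two, ht]
  have hsq : M ^ 2 = t • M - 1 := by
    rw [pow_two]
    ext i j
    fin_cases i <;> fin_cases j <;>
      simp [Matrix.mul_apply, Fin.sum_univ_two, ht] <;>
      first
        | ring1
        | linear_combination hdet
        | linear_combination (-1 : F) * hdet
  have hcube : M ^ 3 = (t ^ 2 - 1) • M - t • (1 : Matrix (Fin 2) (Fin 2) F) := by
    have h0 : M ^ 3 = M ^ 2 * M := pow_succ M 2
    rw [h0, hsq, sub_mul, smul_mul_assoc, one_mul, ← pow_two, hsq]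
    module
  rw [hM3] at hcube
  rw [htr]
  by_cases h1 : t ^ 2 - 1 = 0
  · rw [h1, zero_smul, zero_sub] at hcube
    have h00 := congrFun (congrFun hcube 0) 0
    simp at h00
    linear_combination h00
  · exfalso
    apply hns ((1 + t) / (t ^ 2 - 1))
    have h4 : (t ^ 2 - 1) • M = (1 + t) • (1 : Matrix (Fin 2) (Fin 2) F) := by
      rw [add_smul, one_smul]
      exact eq_add_of_sub_eq hcube.symm
    have h5 : M = (t ^ 2 - 1)⁻¹ • ((t ^ 2 - 1) • M) := by
      rw [smul_smul, inv_mul_cancel₀ h1, one_smul]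
    rw [h5, h4, smul_smul]
    congr 1
    field_simp

/-- the conic `x² + xy + y² + x + y + 1 = 0` has a point over a finite field of characteristic
`≠ 2, 3` -/
theorem bp2d6_conic [Fintype F] (hodd : Fintype.card F % 2 = 1) (h2 : (2 : F) ≠ 0)
    (h3 : (3 : F) ≠ 0) : ∃ x y : F, x ^ 2 + x * y + y ^ 2 + x + y + 1 = 0 := by
  have h4 : (4 : F) ≠ 0 := by
    have : (4 : F) = 2 * 2 := by norm_num
    rw [this]; exact mul_ne_zero h2 h2
  have hf2 : (Polynomial.X ^ 2 + Polynomial.C (2 / 3 : F) : Polynomial F).degree = 2 :=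
    Polynomial.degree_X_pow_add_C (by norm_num) _
  have hg2 : (Polynomial.C (3 / 4 : F) * Polynomial.X ^ 2 : Polynomial F).degree = 2 :=
    Polynomial.degree_C_mul_X_pow 2 (div_ne_zero h3 h4)
  obtain ⟨a, b, hab⟩ := FiniteField.exists_root_sum_quadratic hf2 hg2 hodd
  simp only [Polynomial.eval_add, Polynomial.eval_pow, Polynomial.eval_X, Polynomial.eval_C,
    Polynomial.eval_mul] at hab
  refine ⟨a - (b - 1 / 3) / 2 - 1 / 2, b - 1 / 3, ?_⟩
  have hform : (a - (b - 1 / 3) / 2 - 1 / 2) ^ 2 + (a - (b - 1 / 3) / 2 - 1 / 2) * (b - 1 / 3)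
      + (b - 1 / 3) ^ 2 + (a - (b - 1 / 3) / 2 - 1 / 2) + (b - 1 / 3) + 1
      = a ^ 2 + 2 / 3 + 3 / 4 * b ^ 2 := by
    field_simp
    ring
  rw [hform]
  exact hab

end D6

section D6main

variable {F : Type u} [Field F] [Fintype F]

/-- **D6**.  `p ≠ 2, 3`, `|H| = 3`, `H = ⟨a⟩`, lift `a'` of trace `-1`, WLOG `!![0,-1;1,-1]`;
`b' = !![x, y; x + y + 1, -1 - x]` with `x² + x y + y² + x + y + 1 = 0`
(`FiniteField.exists_root_sum_quadratic` after completing squares) has trace `-1`, `det 1`, and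
`c' := - b'⁻¹ a'` has trace `-1`: `a = b c` in `PSL₂`, `b, c` of order 3 and not in `H`; T7. -/
theorem not_binS_three_odd (p : ℕ) [Fact p.Prime] [CharP F p] (hp2 : p ≠ 2) (hp3 : p ≠ 3)
    (h7 : 7 ≤ Fintype.card F) (H : Subgroup (PSL2 F)) (hH : Nat.card H = 3) : ¬ BinS H := by
  have hchar : ringChar F = p := ringChar.eq F p
  have hodd : Fintype.card F % 2 = 1 :=
    FiniteField.odd_card_of_char_ne_two (by rw [hchar]; exact hp2)
  have h2 : (2 : F) ≠ 0 := Ring.two_ne_zero (by rw [hchar]; exact hp2)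
  have h3 : (3 : F) ≠ 0 := by
    intro h
    have h' : ((3 : ℕ) : F) = 0 := by exact_mod_cast h
    rw [CharP.cast_eq_zero_iff F p] at h'
    exact hp3 ((Nat.prime_dvd_prime_iff_eq Fact.out Nat.prime_three).mp h')
  obtain ⟨a, ha, ha1, ha3⟩ := bp2d6_exists H hH
  -- a lift of `a` of order dividing 3
  obtain ⟨a0, ha0⟩ := QuotientGroup.mk'_surjective (Subgroup.center (SL2 F)) a
  have ha0' : pr F a0 = a := ha0
  obtain ⟨a', ha', ha'3⟩ : ∃ a' : SL2 F, pr F a' = a ∧ a' ^ 3 = 1 := by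
    have h1 : pr F (a0 ^ 3) = 1 := by rw [map_pow, ha0', ha3]
    rcases (bp2d6_pr_eq_one_iff _).mp h1 with h | h
    · exact ⟨a0, ha0', h⟩
    · refine ⟨-a0, by rw [bp2d6_pr_neg, ha0'], ?_⟩
      rw [Odd.neg_pow (by decide), h, neg_neg]
  have hns : ∀ c : F, (a' : Matrix (Fin 2) (Fin 2) F) ≠ c • (1 : Matrix (Fin 2) (Fin 2) F) := by
    intro c hc
    apply ha1
    rw [← ha', bp2d6_pr_scalar a' c hc]
  have htr : (a' : Matrix (Fin 2) (Fin 2) F).trace = -1 := bp2d6_trace a' ha'3 hns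
  have hu : ∀ n : F, n ≠ 0 → ∃ x : F × F, Cfsg.Agent.Lib.helper15.nrm (-1 : F) x = n := by
    intro n _
    refine Cfsg.Agent.Lib.helper15.nrm_universal hodd h2 (-1) ?_ n
    intro h
    apply h3
    linear_combination (-1 : F) * h
  -- the companion matrix
  obtain ⟨C, hC⟩ : ∃ C : SL2 F, C = Cfsg.Agent.Lib.helper15.compSL (-1 : F) := ⟨_, rfl⟩
  have hCcoe : (C : Matrix (Fin 2) (Fin 2) F) = !![0, -1; 1, -1] := by
    rw [hC]; rfl
  have hCtr : (C : Matrix (Fin 2) (Fin 2) F).trace = -1 := by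
    rw [hC]; exact Cfsg.Agent.Lib.helper15.compSL_trace _
  have hCns : ∀ c : F, (C : Matrix (Fin 2) (Fin 2) F) ≠ c • (1 : Matrix (Fin 2) (Fin 2) F) := by
    rw [hC]; exact Cfsg.Agent.Lib.helper15.compSL_nonscalar _
  obtain ⟨P, hP⟩ := Cfsg.Agent.Lib.helper15.conj_of_trace_eq a' C hns hCns (by rw [htr, hCtr])
    (by rw [htr]; exact hu)
  obtain ⟨x, y, hxy⟩ := bp2d6_conic hodd h2 h3
  obtain ⟨b', hb'⟩ : ∃ b' : SL2 F,
      (b' : Matrix (Fin 2) (Fin 2) F) = !![x, y; x + y + 1, -1 - x] :=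
    ⟨⟨!![x, y; x + y + 1, -1 - x], by
      rw [Matrix.det_fin_two_of]; linear_combination (-1 : F) * hxy⟩, rfl⟩
  obtain ⟨c', hc'⟩ : ∃ c' : SL2 F,
      (c' : Matrix (Fin 2) (Fin 2) F) = !![y, -(1 + x + y); -x, -(y + 1)] :=
    ⟨⟨!![y, -(1 + x + y); -x, -(y + 1)], by
      rw [Matrix.det_fin_two_of]; linear_combination (-1 : F) * hxy⟩, rfl⟩
  have hb'tr : (b' : Matrix (Fin 2) (Fin 2) F).trace = -1 := by
    rw [hb', Matrix.trace_fin_two_of]; ring
  have hc'tr : (c' : Matrix (Fin 2) (Fin 2) F).trace = -1 := by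
    rw [hc', Matrix.trace_fin_two_of]; ring
  have hb'ns : ∀ c : F, (b' : Matrix (Fin 2) (Fin 2) F) ≠ c • (1 : Matrix (Fin 2) (Fin 2) F) := by
    intro c hc
    rw [hb'] at hc
    have e00 : x = c := by simpa using congrFun (congrFun hc 0) 0
    have e01 : y = 0 := by simpa using congrFun (congrFun hc 0) 1
    have e10 : x + y + 1 = 0 := by simpa using congrFun (congrFun hc 1) 0
    have e11 : -1 - x = c := by simpa using congrFun (congrFun hc 1) 1
    apply one_ne_zero (α := F)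
    linear_combination 2 * e10 - 2 * e01 - e00 + e11
  have hc'ns : ∀ c : F, (c' : Matrix (Fin 2) (Fin 2) F) ≠ c • (1 : Matrix (Fin 2) (Fin 2) F) := by
    intro c hc
    rw [hc'] at hc
    have e00 : y = c := by simpa using congrFun (congrFun hc 0) 0
    have e01 : -(1 + x + y) = 0 := by simpa using congrFun (congrFun hc 0) 1
    have e10 : -x = 0 := by simpa using congrFun (congrFun hc 1) 0
    have e11 : -(y + 1) = c := by simpa using congrFun (congrFun hc 1) 1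
    apply one_ne_zero (α := F)
    linear_combination (-2 : F) * e01 + 2 * e10 - e00 + e11
  obtain ⟨X', hX'⟩ := Cfsg.Agent.Lib.helper15.conj_of_trace_eq C b' hCns hb'ns
    (by rw [hCtr, hb'tr]) (by rw [hCtr]; exact hu)
  obtain ⟨Y', hY'⟩ := Cfsg.Agent.Lib.helper15.conj_of_trace_eq C c' hCns hc'ns
    (by rw [hCtr, hc'tr]) (by rw [hCtr]; exact hu)
  have hbc : b' * c' = -C := by
    apply Subtype.ext
    rw [Matrix.SpecialLinearGroup.coe_mul, Matrix.SpecialLinearGroup.coe_neg, hb', hc', hCcoe]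
    ext i j
    fin_cases i <;> fin_cases j <;>
      simp [Matrix.mul_apply, Fin.sum_univ_two] <;>
      first
        | ring1
        | linear_combination hxy
        | linear_combination (-1 : F) * hxy
  -- everything in `PSL₂`
  obtain ⟨A, hA⟩ : ∃ A : PSL2 F, A = pr F C := ⟨_, rfl⟩
  obtain ⟨B, hB⟩ : ∃ B : PSL2 F, B = pr F b' := ⟨_, rfl⟩
  obtain ⟨D, hD⟩ : ∃ D : PSL2 F, D = pr F c' := ⟨_, rfl⟩
  obtain ⟨p0, hp0⟩ : ∃ p0 : PSL2 F, p0 = pr F P := ⟨_, rfl⟩
  obtain ⟨x0, hx0⟩ : ∃ x0 : PSL2 F, x0 = pr F X' := ⟨_, rfl⟩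
  obtain ⟨y0, hy0⟩ : ∃ y0 : PSL2 F, y0 = pr F Y' := ⟨_, rfl⟩
  have hpa : p0 * a * p0⁻¹ = A := by
    rw [hp0, hA, ← ha', ← map_inv, ← map_mul, ← map_mul, hP]
  have hxa : x0 * A * x0⁻¹ = B := by
    rw [hx0, hA, hB, ← map_inv, ← map_mul, ← map_mul, hX']
  have hya : y0 * A * y0⁻¹ = D := by
    rw [hy0, hA, hD, ← map_inv, ← map_mul, ← map_mul, hY']
  have hprod : B * D = A := by
    rw [hB, hD, hA, ← map_mul, hbc, bp2d6_pr_neg]
  have ha_eq : a = p0⁻¹ * A * p0 := by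
    rw [← hpa]; group
  have hb_eq : (p0⁻¹ * x0 * p0) * a * (p0⁻¹ * x0 * p0)⁻¹ = p0⁻¹ * B * p0 := by
    rw [← hxa, ← hpa]; group
  have hc_eq : (p0⁻¹ * y0 * p0) * a * (p0⁻¹ * y0 * p0)⁻¹ = p0⁻¹ * D * p0 := by
    rw [← hya, ← hpa]; group
  have habc : a = (p0⁻¹ * B * p0) * (p0⁻¹ * D * p0) := by
    have h1 : (p0⁻¹ * B * p0) * (p0⁻¹ * D * p0) = p0⁻¹ * (B * D) * p0 := by group
    rw [h1, hprod]
    exact ha_eq
  refine not_binS_of_triple H a (p0⁻¹ * B * p0) (p0⁻¹ * D * p0) (p0⁻¹ * x0 * p0)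
    (p0⁻¹ * y0 * p0) ha ?_ ?_ habc ?_
  · have h1 : (p0⁻¹ * x0 * p0)⁻¹ * (p0⁻¹ * B * p0) * (p0⁻¹ * x0 * p0) = a := by
      rw [← hb_eq]; group
    rw [h1]; exact ha
  · have h1 : (p0⁻¹ * y0 * p0)⁻¹ * (p0⁻¹ * D * p0) * (p0⁻¹ * y0 * p0) = a := by
      rw [← hc_eq]; group
    rw [h1]; exact ha
  · intro h₁ h₂ hh₁ hx₁ hh₂ hy₂ heq
    -- `b ∈ H`
    have hbmem : p0⁻¹ * B * p0 ∈ H := by
      by_cases h11 : h₁ = 1
      · have h2a : h₂ = a := by rw [heq, h11, one_mul]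
        rw [h2a] at hy₂
        have hcm := bp2d6_conj_mem H hH ha ha ha1 hy₂
        rw [hc_eq] at hcm
        have h1 : p0⁻¹ * B * p0 = a * (p0⁻¹ * D * p0)⁻¹ := by
          rw [habc]; group
        rw [h1]
        exact H.mul_mem ha (H.inv_mem hcm)
      · have hbm := bp2d6_conj_mem H hH ha hh₁ h11 hx₁
        rw [hb_eq] at hbm
        exact hbm
    have hcomm : a * (p0⁻¹ * B * p0) = (p0⁻¹ * B * p0) * a :=
      bp2d6_commute H hH ha ha1 hbmem
    have hAB : A * B = B * A := by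
      rw [ha_eq] at hcomm
      have h1 : A * B = p0 * (p0⁻¹ * A * p0 * (p0⁻¹ * B * p0)) * p0⁻¹ := by group
      rw [h1, hcomm]
      group
    have hpr : pr F (C * b') = pr F (b' * C) := by
      rw [map_mul, map_mul, ← hA, ← hB]
      exact hAB
    apply h2
    rcases bp2d6_pr_eq _ _ hpr with hm | hm
    · rw [Matrix.SpecialLinearGroup.coe_mul, Matrix.SpecialLinearGroup.coe_mul, hb', hCcoe,
        Matrix.mul_fin_two, Matrix.mul_fin_two] at hm
      have e00 : 0 * x + -1 * (x + y + 1) = x * 0 + y * 1 := congrFun (congrFun hm 0) 0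
      have e01 : 0 * y + -1 * (-1 - x) = x * -1 + y * -1 := congrFun (congrFun hm 0) 1
      linear_combination (3 * x + 3 * y + 2) * e00 + (3 * y + 1) * e01 + 3 * hxy
    · rw [Matrix.SpecialLinearGroup.coe_mul, Matrix.SpecialLinearGroup.coe_mul, hb', hCcoe,
        Matrix.mul_fin_two, Matrix.mul_fin_two] at hm
      have e00 : 0 * x + -1 * (x + y + 1) = -(x * 0 + y * 1) := congrFun (congrFun hm 0) 0
      have e01 : 0 * y + -1 * (-1 - x) = -(x * -1 + y * -1) := congrFun (congrFun hm 0) 1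
      have e10 : 1 * x + -1 * (x + y + 1) = -((x + y + 1) * 0 + (-1 - x) * 1) :=
        congrFun (congrFun hm 1) 0
      linear_combination e00 + e01 - e10

end D6main

end Cfsg.Agent.Lib.Helper28.BP2
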