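import Mathlib
import Cfsg.Prelude.Def_CaseTheorems
import Cfsg.Agent.Lib.helper7.BR.Defs
import Cfsg.Agent.Lib.Helper18.BRF.Defs
import Cfsg.Agent.Lib.Helper18.PPrimeCore
import Cfsg.Agent.Lib.Helper1.PLength
import Cfsg.Agent.Lib.Helper25.BRFQPERF
import Cfsg.Agent.Lib.Helper25.BRFNN
import Cfsg.Agent.Lib.Helper26.BRFQSYL
import Cfsg.Agent.Lib.Helper29.BRFFCRIT

/-!
# Project BRF (S4700), piece ASM, core form : ISO as a hypothesis
-/

set_option autoImplicit false
set_option linter.unusedVariables false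
set_option linter.unusedSectionVars false
set_option linter.style.haveILetI false

namespace Cfsg.Agent.Lib.Helper18.BRF

open Classical
open Cfsg.Agent.Lib.Helper25
open Cfsg.Agent.Lib.helper7.BR

universe u

/-- ASM with ISO (for the quotient) as a hypothesis -/
theorem brfasm_core {G : Type u} [Group G] [Finite G] (hperf : commutator G = ⊤) (p : ℕ)
    [Fact p.Prime] (P : Sylow p G) (hP : Nat.card P = p) (n : ℕ)
    (hn : Nat.card (Sylow p G) = 1 + n * p)
    (hISO : commutator (G ⧸ Cfsg.pPrimeCore p G) = ⊤ →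
      Cfsg.pPrimeCore p (G ⧸ Cfsg.pPrimeCore p G) = ⊥ →
      ∀ Q : Sylow p (G ⧸ Cfsg.pPrimeCore p G),
        Nat.card ↥(Q : Subgroup (G ⧸ Cfsg.pPrimeCore p G)) = p →
        Nat.card (Sylow p (G ⧸ Cfsg.pPrimeCore p G)) = 1 + n * p → ¬ FF p n →
      (∃ (F : Type) (_ : Field F) (_ : Fintype F), Fintype.card F = p ∧ 3 < p ∧
        Nonempty (G ⧸ Cfsg.pPrimeCore p G ≃* Matrix.ProjectiveSpecialLinearGroup (Fin 2) F)) ∨
      (∃ (m : ℕ) (F : Type) (_ : Field F) (_ : Fintype F), Fintype.card F = 2 ^ m ∧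
        p = 2 ^ m + 1 ∧ 3 < p ∧
        Nonempty (G ⧸ Cfsg.pPrimeCore p G ≃* Matrix.SpecialLinearGroup (Fin 2) F))) :
    (∃ (F : Type) (_ : Field F) (_ : Fintype F), Fintype.card F = p ∧ 3 < p ∧
      Nonempty (G ⧸ Cfsg.pPrimeCore p G ≃* Matrix.ProjectiveSpecialLinearGroup (Fin 2) F)) ∨
    (∃ (m : ℕ) (F : Type) (_ : Field F) (_ : Fintype F), Fintype.card F = 2 ^ m ∧ p = 2 ^ m + 1 ∧
      3 < p ∧ Nonempty (G ⧸ Cfsg.pPrimeCore p G ≃* Matrix.SpecialLinearGroup (Fin 2) F)) ∨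
    (∃ h u : ℕ, 0 < h ∧ 0 < u ∧ n * (u + 1) = h * u * p + u ^ 2 + u + h) := by
  have hpp := (Fact.out : p.Prime)
  have hp2 := hpp.two_le
  by_cases hF : FF p n
  · exact Or.inr (Or.inr hF)
  set K := Cfsg.pPrimeCore p G with hKdef
  have hK : (Nat.card K).Coprime p := pPrimeCore_card_coprime_h18 p
  have hperfQ : commutator (G ⧸ K) = ⊤ := quot_perfect K hperf
  have hcoreQ : Cfsg.pPrimeCore p (G ⧸ K) = ⊥ :=
    Cfsg.Agent.Lib.Helper1.pPrimeCore_quotient_eq_bot p
  obtain ⟨Q⟩ := (inferInstance : Nonempty (Sylow p (G ⧸ K)))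
  have hQ : Nat.card ↥(Q : Subgroup (G ⧸ K)) = p := by
    rw [quot_sylow_card p K hK P Q]
    exact hP
  have hQn : ¬ (Q : Subgroup (G ⧸ K)).Normal := sylow_not_normal hperfQ p Q hQ
  -- the number of Sylow subgroups of the quotient
  have hmod := card_sylow_modEq_one p (G ⧸ K)
  obtain ⟨N, hN⟩ : ∃ N : ℕ, N = Nat.card (Sylow p (G ⧸ K)) := ⟨_, rfl⟩
  rw [← hN] at hmod
  have hN1 : N % p = 1 := by
    have := hmod
    rw [Nat.ModEq, Nat.mod_eq_of_lt (show 1 < p by omega)] at this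
    exact this
  obtain ⟨n', hNeq⟩ : ∃ n' : ℕ, N = 1 + n' * p := by
    refine ⟨N / p, ?_⟩
    have := Nat.div_add_mod N p
    rw [hN1] at this
    have h2 : N / p * p = p * (N / p) := Nat.mul_comm _ _
    omega
  have hn'1 : 1 ≤ n' := by
    by_contra hcon
    have h0 : n' = 0 := by omega
    apply hQn
    have hN1' : N = 1 := by rw [hNeq, h0, zero_mul, add_zero]
    have hidx : (Subgroup.normalizer ((Q : Subgroup (G ⧸ K)) : Set (G ⧸ K))).index = 1 := by
      have h3 := Sylow.card_eq_index_normalizer Q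
      rw [← hN] at h3
      exact h3.symm.trans hN1'
    rw [Subgroup.index_eq_one] at hidx
    exact Subgroup.normalizer_eq_top_iff.mp hidx
  have hdvd : N ∣ Nat.card (Sylow p G) := by
    rw [hN]
    exact quot_sylow_count p K
  rw [hn, hNeq] at hdvd
  obtain ⟨m, hm⟩ := hdvd
  have hm1 : m = 1 := by
    by_contra hne
    have hm0 : m ≠ 0 := by
      intro h0
      rw [h0, mul_zero] at hm
      omega
    exact hF (ff_of_factor p n n' m hpp hn'1 (by omega) hm)
  rw [hm1, mul_one] at hm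
  have hnn' : n' = n := by
    have : n * p = n' * p := by omega
    exact (Nat.eq_of_mul_eq_mul_right hpp.pos this).symm
  rw [hnn', hN] at hNeq
  rcases hISO hperfQ hcoreQ Q hQ hNeq hF with h | h
  · exact Or.inl h
  · exact Or.inr (Or.inl h)

end Cfsg.Agent.Lib.Helper18.BRF
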