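import Mathlib
import Cfsg.Prelude.Def_CaseTheorems
import Cfsg.Agent.Lib.helper7.BR.Defs
import Cfsg.Agent.Lib.Helper18.BRF.Defs
import Cfsg.Agent.Lib.Helper18.BRFTOPARITHcore
import Cfsg.Agent.Lib.Helper18.BRFTOPNEGcore
import Cfsg.Agent.Lib.Helper19.BRFA1F

/-!
# Project BRF (S4700), pieces TOPARITH (`top_arith`) and TOPNEG (`top_neg`) : the verbatim wrappers
-/

set_option autoImplicit false
set_option linter.unusedVariables false
set_option linter.unusedSectionVars false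

namespace Cfsg.Agent.Lib.Helper18.BRF

open Classical
open Cfsg.Agent.Lib.Helper25
open Cfsg.Agent.Lib.helper7.BR

universe u

/-- A1F for `q = p - 1` -/
theorem brftopneg_A1 (p n : ℕ) (hp : p.Prime) (hn : 1 ≤ n) (hF : ¬ FF p n) :
    ∀ e : ℕ, e ∣ (p - 1) * (1 + n * p) → e % p = 1 → 2 ≤ e → e = 1 + n * p := by
  intro e he h1 h2
  have := hp.two_le
  exact af_plus p (p - 1) 1 n e hp (by rw [mul_one]) (by omega) hn hF he h1 h2

/-- A2F for `q = p - 1` -/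
theorem brftopneg_A2 (p n : ℕ) (hp : p.Prime) (hn : 1 ≤ n) (hF : ¬ FF p n) :
    ∀ e : ℕ, e ∣ (p - 1) * (1 + n * p) → (e + 1) % p = 0 →
      e + 1 = p ∨ e = (p - 1) * (1 + n * p) := by
  intro e he h1
  have := hp.two_le
  rcases af_minus p (p - 1) 1 n e hp (by rw [mul_one]) (by omega) hn hF he h1 with h | h
  · exact Or.inl h
  · exact Or.inr h.2

/-- TOPARITH : the case `q = p - 1` (`t = 1`). -/
theorem top_arith {ι : Type*} (X : Finset ι) (triv : ι) (htriv : triv ∈ X) (a : ι → ℤ) (d : ι → ℕ)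
    (p n : ℕ) (hp : p.Prime) (hn : 1 ≤ n) (hF : ¬ FF p n) (hcard : X.card = p)
    (ha : ∀ i ∈ X, a i = 1 ∨ a i = -1) (hatriv : a triv = 1) (hdtriv : d triv = 1)
    (hdvd : ∀ i ∈ X, d i ∣ (p - 1) * (1 + n * p))
    (hcong : ∀ i ∈ X, (p : ℤ) ∣ (d i : ℤ) - a i)
    (hge : ∀ i ∈ X, i ≠ triv → 2 ≤ d i)
    (hsum : ∑ i ∈ X, a i * (d i : ℤ) = 0) :
    ∃ i ∈ X, a i = -1 ∧ d i + 1 = p :=
  brftoparith_core X triv htriv a d p n hp hn hcard ha hatriv hdtriv hdvd hcong hge hsum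
    (brftopneg_A1 p n hp hn hF) (brftopneg_A2 p n hp hn hF)

section main

variable {G : Type u} [Group G] [Fintype G] {p : ℕ} [Fact p.Prime]

/-- TOPNEG : the case `q = p - 1`, `C_G(P)` arbitrary: a character of degree `p - 1` with value `-1` on the `x y`. -/
theorem top_neg (hperf : commutator G = ⊤) (P : Sylow p G) (hP : Nat.card ↥(P : Subgroup G) = p)
    (n : ℕ) (hrel : (cen P).relIndex (nrm P) = p - 1)
    (hcidx : (cen P).index = (p - 1) * (1 + n * p)) (hn : 1 ≤ n) (hF : ¬ FF p n) :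
    ∃ χ : Cfsg.IrrCharacter G, (χ : G → ℂ) 1 = (p : ℂ) - 1 ∧
      ∀ x ∈ (P : Subgroup G), x ≠ 1 → ∀ y ∈ cen P, ¬ p ∣ orderOf y → (χ : G → ℂ) (x * y) = -1 :=
  brftopneg_core hperf P hP n hrel hcidx hn (brftopneg_A1 p n Fact.out hn hF)
    (brftopneg_A2 p n Fact.out hn hF)

end main

end Cfsg.Agent.Lib.Helper18.BRF
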