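import Mathlib
import Cfsg.Prelude.Def_CaseTheorems
import Cfsg.Agent.Lib.helper7.BR.Defs
import Cfsg.Agent.Lib.Helper18.BRF.Defs
import Cfsg.Agent.Lib.Helper18.BRFASMcore
import Cfsg.Agent.Lib.Helper18.BRFTOPNEG
import Cfsg.Agent.Lib.Helper16.BRFCEN
import Cfsg.Agent.Lib.Helper24.BRFMID
import Cfsg.Agent.Lib.Helper25.BRFT1F
import Cfsg.Agent.Lib.Helper25.BRFNN
import Cfsg.Agent.Lib.Helper27.BRFBOUNDcore

/-!
# Project BRF (S4700), piece ASM : `brf_main` (S4700 for `G : Type u`)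

BOUND and ISO are instantiated here from their landed cores (`Helper27.BRFBOUNDcore`) under the names
`brfasm_card_lt`, `brfasm_iso` (the verbatim `card_lt`, `iso_of_core_bot` are helper27's).
-/

set_option autoImplicit false
set_option linter.unusedVariables false
set_option linter.unusedSectionVars false
set_option linter.style.haveILetI false

namespace Cfsg.Agent.Lib.Helper18.BRF

open Classical
open Cfsg.Agent.Lib.Helper25
open Cfsg.Agent.Lib.helper7.BR

universe u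

/-- BOUND, from its core -/
theorem brfasm_card_lt {G : Type u} [Group G] [Fintype G] {p : ℕ} [Fact p.Prime]
    (hperf : commutator G = ⊤) (hcore : Cfsg.pPrimeCore p G = ⊥) (P : Sylow p G)
    (hP : Nat.card ↥(P : Subgroup G) = p) (hPn : ¬ (P : Subgroup G).Normal) (n : ℕ)
    (hidx : (nrm P).index = 1 + n * p) (hF : ¬ FF p n) : 3 ≤ p ∧ Nat.card G < p ^ 3 :=
  brfbound_core cen_eq top_neg top_false mid_caseF hperf hcore P hP hPn n hidx hF

/-- ISO, from its core -/
theorem brfasm_iso {G : Type u} [Group G] [Finite G] (hperf : commutator G = ⊤) (p : ℕ)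
    [Fact p.Prime] (hcore : Cfsg.pPrimeCore p G = ⊥) (P : Sylow p G)
    (hP : Nat.card ↥(P : Subgroup G) = p) (n : ℕ) (hn : Nat.card (Sylow p G) = 1 + n * p)
    (hF : ¬ FF p n) :
    (∃ (F : Type) (_ : Field F) (_ : Fintype F), Fintype.card F = p ∧ 3 < p ∧
      Nonempty (G ≃* Matrix.ProjectiveSpecialLinearGroup (Fin 2) F)) ∨
    (∃ (m : ℕ) (F : Type) (_ : Field F) (_ : Fintype F), Fintype.card F = 2 ^ m ∧ p = 2 ^ m + 1 ∧
      3 < p ∧ Nonempty (G ≃* Matrix.SpecialLinearGroup (Fin 2) F)) :=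
  brfiso_core (fun h p _ P hP => sylow_not_normal h p P hP)
    (fun p _ a b P c d n e f => brfasm_card_lt a b P c d n e f) hperf p hcore P hP n hn hF

/-- ASM : S4700 for `G : Type u`. -/
theorem brf_main {G : Type u} [Group G] [Finite G] (hperf : commutator G = ⊤) (p : ℕ) [Fact p.Prime]
    (P : Sylow p G) (hP : Nat.card P = p) (n : ℕ) (hn : Nat.card (Sylow p G) = 1 + n * p) :
    (∃ (F : Type) (_ : Field F) (_ : Fintype F), Fintype.card F = p ∧ 3 < p ∧
      Nonempty (G ⧸ Cfsg.pPrimeCore p G ≃* Matrix.ProjectiveSpecialLinearGroup (Fin 2) F)) ∨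
    (∃ (m : ℕ) (F : Type) (_ : Field F) (_ : Fintype F), Fintype.card F = 2 ^ m ∧ p = 2 ^ m + 1 ∧
      3 < p ∧ Nonempty (G ⧸ Cfsg.pPrimeCore p G ≃* Matrix.SpecialLinearGroup (Fin 2) F)) ∨
    (∃ h u : ℕ, 0 < h ∧ 0 < u ∧ n * (u + 1) = h * u * p + u ^ 2 + u + h) :=
  brfasm_core hperf p P hP n hn
    (fun hperfQ hcoreQ Q hQ hNeq hF => brfasm_iso hperfQ p hcoreQ Q hQ n hNeq hF)

end Cfsg.Agent.Lib.Helper18.BRF
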