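import Mathlib
import Cfsg.Agent.Lib.Helper18.BSQ8Group

set_option autoImplicit false

namespace Cfsg.Agent.Lib.Helper18.BSQ8

open Cfsg.Agent.Lib.Helper9 Cfsg.Agent.Lib.Helper18 Cfsg.Agent.Lib.Helper1
open Cfsg.Agent.Lib.Helper21 Cfsg.Agent.Lib.helper7 Cfsg.Agent.Lib.Helper25

variable {G : Type*} [Group G]

/-- The elements of even order of the centralizer of `z`. -/
def q8X (z : G) : Set G := {s | s ∈ Subgroup.centralizer ({z} : Set G) ∧ Even (orderOf s)}

/-- An element of even order commuting with `z` has `z` as a power, when `z` is the only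
involution commuting with `z`. -/
theorem q8_pow_eq_z [Finite G] {z : G}
    (hcomm : ∀ t : G, orderOf t = 2 → t * z = z * t → t = z) {s : G}
    (hs : s ∈ q8X z) : s ^ (orderOf s / 2) = z := by
  obtain ⟨hsC, k, hk⟩ := hs
  have hpos : 0 < orderOf s := orderOf_pos s
  have hk0 : k ≠ 0 := by omega
  have hdiv : orderOf s / 2 = k := by omega
  rw [hdiv]
  apply hcomm
  · rw [orderOf_pow_of_dvd hk0 ⟨2, by omega⟩, hk]
    have : (k + k) / k = 2 := by
      rw [← two_mul, Nat.mul_div_cancel _ (Nat.pos_of_ne_zero hk0)]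
    exact this
  · have h1 : s * z = z * s := Subgroup.mem_centralizer_singleton_iff.mp hsC
    have h2 : Commute s z := h1
    exact (h2.pow_left k).eq

/-- The TI property of the `2`-singular elements of `C_G(z)`. -/
theorem q8_TI [Finite G] {z : G}
    (hcomm : ∀ t : G, orderOf t = 2 → t * z = z * t → t = z) :
    ∀ g : G, g ∉ Subgroup.centralizer ({z} : Set G) → ∀ s ∈ q8X z, g * s * g⁻¹ ∉ q8X z := by
  intro g hg s hs hgs
  apply hg
  have h1 := q8_pow_eq_z hcomm hs
  have h2 := q8_pow_eq_z hcomm hgs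
  rw [orderOf_conj_h18, conj_pow, h1] at h2
  rw [Subgroup.mem_centralizer_singleton_iff]
  calc g * z = (g * z * g⁻¹) * g := by group
    _ = z * g := by rw [h2]

/-- A class function induced from a function supported on `q8X z` vanishes on the elements
of odd order. -/
theorem q8_ind_vanish_odd [Fintype G] (z : G)
    (φ : ↥(Subgroup.centralizer ({z} : Set G)) → ℂ)
    (hφX : ∀ x : ↥(Subgroup.centralizer ({z} : Set G)), (x : G) ∉ q8X z → φ x = 0)
    (g : G) (hg : Odd (orderOf g)) :
    Cfsg.indFun (Subgroup.centralizer ({z} : Set G)) φ g = 0 := by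
  haveI : Finite G := Finite.of_fintype G
  by_contra hne
  obtain ⟨x, hx⟩ := h7_ti_indFun_support _ (q8X z) φ hφX g hne
  have h1 : Even (orderOf (x⁻¹ * g * x)) := hx.2
  have h2 := orderOf_conj_h18 x⁻¹ g
  rw [inv_inv] at h2
  rw [h2] at h1
  exact (Nat.not_even_iff_odd.mpr hg) h1

/-- The product `y z y⁻¹ z` has odd order when `z` is an isolated involution. -/
theorem q8_comm_odd [Finite G] {z : G} (hiso : Cfsg.IsIsolatedInvolution z) (y : G) :
    Odd (orderOf (y * z * y⁻¹ * z)) := by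
  have h1 := isolated_mul_conj_odd hiso y
  have e : y * z * y⁻¹ * z = z⁻¹ * (z * (y * z * y⁻¹)) * z := by group
  have h2 := orderOf_conj_h18 z⁻¹ (z * (y * z * y⁻¹))
  rw [inv_inv] at h2
  rw [e, h2]
  exact h1

/-- Induced class functions supported on `q8X z` vanish at `y z y⁻¹ z` and at `1`. -/
theorem q8_ind_vanish_comm [Fintype G] {z : G} (hiso : Cfsg.IsIsolatedInvolution z)
    (φ : ↥(Subgroup.centralizer ({z} : Set G)) → ℂ)
    (hφX : ∀ x : ↥(Subgroup.centralizer ({z} : Set G)), (x : G) ∉ q8X z → φ x = 0) (y : G) :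
    Cfsg.indFun (Subgroup.centralizer ({z} : Set G)) φ (y * z * y⁻¹ * z) = 0 := by
  haveI : Finite G := Finite.of_fintype G
  exact q8_ind_vanish_odd z φ hφX _ (q8_comm_odd hiso y)

theorem q8_ind_vanish_one [Fintype G] (z : G)
    (φ : ↥(Subgroup.centralizer ({z} : Set G)) → ℂ)
    (hφX : ∀ x : ↥(Subgroup.centralizer ({z} : Set G)), (x : G) ∉ q8X z → φ x = 0) :
    Cfsg.indFun (Subgroup.centralizer ({z} : Set G)) φ 1 = 0 :=
  q8_ind_vanish_odd z φ hφX 1 (by rw [orderOf_one]; exact odd_one)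

end Cfsg.Agent.Lib.Helper18.BSQ8
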