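import Mathlib
import Cfsg.Agent.Lib.helper3.BSZ.Defs

/-! # BSZ rows D01 (`bm_elt`), D02 (`bm_inv`), D03 (`bm_meet`), verbatim -/

set_option autoImplicit false

namespace Cfsg.Agent.Lib.helper3.BSZ

open Cfsg Cfsg.Agent.Lib.helper3

variable {F : Type*} [Field F] [Fintype F] {m : ℕ}

/-- D01 -/
theorem bm_elt (hF : Fintype.card F = 2 ^ (2 * m + 1)) (hm : 1 ≤ m) {c : Sz F m}
    (hc : c • oInf F m = oInf F m) (hcQ : c ∉ Qs hF) :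
    ∃ (x y : F) (k : Fˣ), k ≠ 1 ∧ c = gT hF x y * gD hF k * (gT hF x y)⁻¹ := by
  obtain ⟨a, b, k, rfl⟩ := stab_decomp hF hm hc
  have hk : k ≠ 1 := by
    rintro rfl
    apply hcQ
    rw [gD_one, mul_one]
    exact gT_mem_Qs hF a b
  obtain ⟨x, y, h⟩ := exists_conj_gD hF a b hk
  exact ⟨x, y, k, hk, h⟩

/-- D02 -/
theorem bm_inv (hF : Fintype.card F = 2 ^ (2 * m + 1)) (x y : F) (k : Fˣ) :
    (gT hF x y * gJ hF * (gT hF x y)⁻¹) * (gT hF x y * gD hF k * (gT hF x y)⁻¹) *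
        (gT hF x y * gJ hF * (gT hF x y)⁻¹)⁻¹ = (gT hF x y * gD hF k * (gT hF x y)⁻¹)⁻¹ := by
  have h1 : gJ hF * gD hF k * (gJ hF)⁻¹ = (gD hF k)⁻¹ := by
    rw [gJ_gD, gD_inv, mul_assoc, mul_inv_cancel, mul_one]
  have h2 : (gT hF x y * gJ hF * (gT hF x y)⁻¹) * (gT hF x y * gD hF k * (gT hF x y)⁻¹) *
        (gT hF x y * gJ hF * (gT hF x y)⁻¹)⁻¹ =
      gT hF x y * (gJ hF * gD hF k * (gJ hF)⁻¹) * (gT hF x y)⁻¹ := by group
  rw [h2, h1]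
  group

/-- D03 -/
theorem bm_meet (hF : Fintype.card F = 2 ^ (2 * m + 1)) (x y : F) {h : Sz F m} (hQ : h ∈ Qs hF)
    (hh : ((gT hF x y * gJ hF * (gT hF x y)⁻¹)⁻¹ * h * (gT hF x y * gJ hF * (gT hF x y)⁻¹)) • oInf F m =
      oInf F m) : h = 1 := by
  have hg : (gT hF x y * gJ hF * (gT hF x y)⁻¹) • oInf F m = oPt m x y := by
    have h1 : (gT hF x y)⁻¹ • oInf F m = oInf F m := by
      rw [inv_smul_eq_iff, gT_oInf]
    rw [mul_smul, mul_smul, h1, gJ_oInf, gT_oZero]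
  have hfix : h • oPt m x y = oPt m x y := by
    rw [mul_smul, mul_smul, hg, inv_smul_eq_iff, hg] at hh
    exact hh
  obtain ⟨a, b, rfl⟩ := (mem_Qs hF).mp hQ
  by_cases hab : a = 0 ∧ b = 0
  · rw [hab.1, hab.2, gT_zero]
  · exact absurd (gT_fixed hF hab hfix) (oPt_ne_oInf x y)

end Cfsg.Agent.Lib.helper3.BSZ
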