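import Mathlib
import Cfsg.Agent.Lib.helper15.PSL.Defs
import Cfsg.Agent.Lib.helper15.BH.Main
import Cfsg.Agent.Lib.helper23.PSLDEGSUM
import Cfsg.Agent.Lib.Helper11.BHKSUM

/-!
# Project BT (S0997), part II (sub-project BT2), piece EPS (helper18)
-/

set_option autoImplicit false
set_option linter.unusedVariables false
set_option linter.unusedSectionVars false
open scoped ComplexConjugate
open Classical

namespace Cfsg.Agent.Lib.helper15.BT2

open Cfsg.Agent.Lib.helper7 Cfsg.Agent.Lib.helper7.BR Cfsg.Agent.Lib.helper2 Cfsg.Agent.Lib.Helper25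
  Cfsg.Agent.Lib.Helper29 Cfsg.Agent.Lib.helper15.BH Cfsg.Agent.Lib.helper15.PSL

universe u

variable {G : Type u} [Group G] [Fintype G] {p : ℕ} [Fact p.Prime]

/-- EPS : the sign is `-1` and both members of `Y` have degree `f + 1` -/
theorem bt2_eps (P : Sylow p G) (hP : Nat.card ↥(P : Subgroup G) = p) (f : ℕ) (hpf : 2 * f + 1 = p)
    (hf1 : 1 ≤ f) {X Y : Finset (Cfsg.IrrCharacter G)} {a : Cfsg.IrrCharacter G → ℤ} {ε : ℤ}
    (hB0 : PB0 p f (P : Subgroup G) X Y a ε) (θ : Cfsg.IrrCharacter G) (hθY : θ ∈ Y)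
    (hθ1 : leoDeg θ = f + 1) : ε = -1 ∧ ∀ η ∈ Y, leoDeg η = f + 1 := by
  have hpp := (Fact.out : p.Prime)
  have hone : ¬ p ∣ orderOf (1 : G) := by
    rw [orderOf_one]
    intro hdvd
    exact hpp.one_lt.ne' (Nat.dvd_one.mp hdvd)
  constructor
  · obtain ⟨n, hn⟩ := bhksum_nat (P : Subgroup G) (isCharacter_of_irr θ)
    rw [hB0.sumP θ hθY, leoDeg_spec, hθ1, hP] at hn
    rcases hB0.eps_pm with he | he
    · exfalso
      rw [he] at hn
      have h2 : ((f + 1 : ℕ) : ℂ) - ((1 : ℤ) : ℂ) * (f : ℂ) = (1 : ℂ) := by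
        push_cast; ring
      rw [h2] at hn
      have h3 : (1 : ℕ) = n * p := by exact_mod_cast hn
      have h4 : p ∣ 1 := ⟨n, by rw [h3]; ring⟩
      exact hpp.one_lt.ne' (Nat.dvd_one.mp h4)
    · exact he
  · intro η hη
    have hdeq : (leoDeg η : ℂ) = (leoDeg θ : ℂ) := by
      rw [← leoDeg_spec η, ← leoDeg_spec θ]
      exact hB0.agree η hη θ hθY 1 hone
    have : leoDeg η = leoDeg θ := by exact_mod_cast hdeq
    rw [this, hθ1]

end Cfsg.Agent.Lib.helper15.BT2
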