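import Mathlib
import Cfsg.Agent.Lib.helper15.PSL.Defs
import Cfsg.Agent.Lib.helper15.BH.Main
import Cfsg.Agent.Lib.helper23.PSLDEGSUM
import Cfsg.Agent.Lib.Helper25.BHE1

/-!
# Project BT (S0997), part II (sub-project BT2), piece INNER (helper18)
-/

set_option autoImplicit false
set_option linter.unusedVariables false
set_option linter.unusedSectionVars false
open scoped ComplexConjugate
open Classical

namespace Cfsg.Agent.Lib.helper15.BT2

open Cfsg.Agent.Lib.helper7 Cfsg.Agent.Lib.helper7.BR Cfsg.Agent.Lib.helper2 Cfsg.Agent.Lib.Helper25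
  Cfsg.Agent.Lib.Helper29 Cfsg.Agent.Lib.helper15.BH Cfsg.Agent.Lib.helper15.PSL

universe u

variable {G : Type u} [Group G] [Fintype G] {p : ℕ} [Fact p.Prime]

/-- `⟨θ conj θ', 1⟩ = ⟨θ, θ'⟩` -/
theorem bt2inner_triv (θ θ' : Cfsg.IrrCharacter G) :
    Cfsg.classInner (fun g => (θ : G → ℂ) g * conj ((θ' : G → ℂ) g))
      ((trivIrr G : Cfsg.IrrCharacter G) : G → ℂ) =
    Cfsg.classInner (θ : G → ℂ) (θ' : G → ℂ) := by
  unfold Cfsg.classInner
  congr 1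
  refine Finset.sum_congr rfl (fun g _ => ?_)
  rw [trivIrr_apply]
  simp

/-- INNER : the multiplicities in `W = θ conj θ` and `W' = θ conj θ'` (`Y = {θ, θ'}`) -/
theorem bt2_inner (P : Sylow p G) (f : ℕ)
    {X Y : Finset (Cfsg.IrrCharacter G)} {a : Cfsg.IrrCharacter G → ℤ} {ε : ℤ}
    (hB0 : PB0 p f (P : Subgroup G) X Y a ε) (θ θ' : Cfsg.IrrCharacter G) (hθY : θ ∈ Y)
    (hθ'Y : θ' ∈ Y) (hne : θ' ≠ θ) :
    (∀ ξ ∈ X, Cfsg.classInner (fun g => (θ : G → ℂ) g * conj ((θ : G → ℂ) g)) (ξ : G → ℂ) -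
      Cfsg.classInner (fun g => (θ : G → ℂ) g * conj ((θ' : G → ℂ) g)) (ξ : G → ℂ) = (a ξ : ℂ)) ∧
    (∑ η ∈ Y, (Cfsg.classInner (fun g => (θ : G → ℂ) g * conj ((θ : G → ℂ) g)) (η : G → ℂ) -
      Cfsg.classInner (fun g => (θ : G → ℂ) g * conj ((θ' : G → ℂ) g)) (η : G → ℂ)) = -(ε : ℂ)) ∧
    Cfsg.classInner (fun g => (θ : G → ℂ) g * conj ((θ : G → ℂ) g)) ((trivIrr G : Cfsg.IrrCharacter G) : G → ℂ) = 1 ∧
    Cfsg.classInner (fun g => (θ : G → ℂ) g * conj ((θ' : G → ℂ) g)) ((trivIrr G : Cfsg.IrrCharacter G) : G → ℂ) = 0 := by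
  have hreg : ∀ g : G, ¬ p ∣ orderOf g → (θ' : G → ℂ) g = (θ : G → ℂ) g :=
    fun g hg => hB0.agree θ' hθ'Y θ hθY g hg
  refine ⟨?_, ?_, ?_, ?_⟩
  · intro ξ hξ
    have := inner_diff_of_const_sing p θ θ' hne hreg (ξ : G → ℂ) (a ξ : ℂ)
      (fun g hg => hB0.valX ξ hξ g hg)
    rw [this]
    simp
  · have := inner_diff_of_const_sing p θ θ' hne hreg (fun g => ∑ η ∈ Y, (η : G → ℂ) g)
      (-(ε : ℂ)) hB0.sumY
    have e1 : ∀ V : G → ℂ, Cfsg.classInner V (fun g => ∑ η ∈ Y, (η : G → ℂ) g) =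
        ∑ η ∈ Y, Cfsg.classInner V (η : G → ℂ) := by
      intro V
      have := h7_classInner_sum_right Y V (fun η => (η : G → ℂ))
      rw [← this]
      congr 1
      funext g
      simp
    rw [e1, e1, ← Finset.sum_sub_distrib] at this
    rw [this]
    simp
  · rw [bt2inner_triv, irr_classInner, if_pos rfl]
  · rw [bt2inner_triv, irr_classInner, if_neg (fun h => hne h.symm)]

end Cfsg.Agent.Lib.helper15.BT2
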