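import Mathlib
import Cfsg.Prelude.Def_ChevStructure
import Cfsg.Prelude.Def_LieTypes
import Cfsg.Prelude.Def_ChevB2
import Cfsg.Agent.Lib.helper8.BTT.Defs
import Cfsg.Agent.Lib.Helper22.BTTGEN3

/-!
# Project BTT (S2154, designer helper8), rows GRP7 (`B_par`) and GRP8 (`U_fil`): cores (helper18) with the
statements of GRP2 (`x_par`, `x_fil`), GRP3 (`H_lev`), ROOT4 (`dom_nonneg`), GEN1 (`fil_one fil_mul fil_mono`),
GEN4 (`fil_inv par_inv`) as hypotheses; GEN3 cited.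
-/

set_option autoImplicit false

namespace Cfsg.Agent.Lib.helper8.BTT

open Cfsg.Lie Cfsg.Lie.ChevalleyDatum

universe u

section grp
variable {F : Type u} [Field F] (D : ChevalleyDatum)

/-- core of GRP7 -/
theorem bttgrp7_core (L : Fin D.nroots → ℝ)
    (hx_par : ∀ s < D.nroots, ∀ t : F, 0 ≤ lv D L s → Par (lvl D L) (D.x F s t))
    (hH_lev : ∀ h : GL D.Idx F, h ∈ D.diagonalSubgroup F →
      Lev (lvl D L) (lvl D L) (h : Matrix D.Idx D.Idx F))
    (hnonneg : ∀ r, D.IsPosRoot r → 0 ≤ lv D L r)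
    (hpar_inv : ∀ g : GL D.Idx F, Par (lvl D L) (g : Matrix D.Idx D.Idx F) →
      Par (lvl D L) ((g⁻¹ : GL D.Idx F) : Matrix D.Idx D.Idx F))
    (b : GL D.Idx F) (hb : b ∈ D.borelSubgroup F) : Par (lvl D L) (b : Matrix D.Idx D.Idx F) := by
  let P : Subgroup (GL D.Idx F) :=
    { carrier := {g | Par (lvl D L) (g : Matrix D.Idx D.Idx F)}
      mul_mem' := fun {a b} ha hb => by
        show Par (lvl D L) ((a * b : GL D.Idx F) : Matrix D.Idx D.Idx F)
        rw [Units.val_mul]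
        exact par_mul _ _ _ ha hb
      one_mem' := by
        show Par (lvl D L) ((1 : GL D.Idx F) : Matrix D.Idx D.Idx F)
        rw [Units.val_one]
        exact par_one _
      inv_mem' := fun {a} ha => hpar_inv a ha }
  have hU : D.posUnipotent F ≤ P := by
    unfold ChevalleyDatum.posUnipotent
    rw [Subgroup.closure_le]
    rintro g ⟨r, t, hr, hg⟩
    show Par (lvl D L) (g : Matrix D.Idx D.Idx F)
    rw [hg]
    exact hx_par r hr.1 t (hnonneg r hr)
  have hH : D.diagonalSubgroup F ≤ P := fun h hh => lev_par _ _ (hH_lev h hh)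
  exact (sup_le hU hH : D.borelSubgroup F ≤ P) hb

/-- core of GRP8 -/
theorem bttgrp8_core (L₀ : Fin D.nroots → ℝ)
    (hpos : ∀ r, D.IsPosRoot r → 1 ≤ lv D L₀ r)
    (hx_fil : ∀ s < D.nroots, ∀ t : F, 0 ≤ lv D L₀ s → Fil (lvl D L₀) (lv D L₀ s) (D.x F s t))
    (hone : Fil (lvl D L₀) 1 (1 : Matrix D.Idx D.Idx F))
    (hmul : ∀ M M' : Matrix D.Idx D.Idx F, Fil (lvl D L₀) 1 M → Fil (lvl D L₀) 1 M' →
      Fil (lvl D L₀) 1 (M * M'))
    (hmono : ∀ c : ℝ, 1 ≤ c → ∀ M : Matrix D.Idx D.Idx F, Fil (lvl D L₀) c M → Fil (lvl D L₀) 1 M)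
    (hinv : ∀ g : GL D.Idx F, Fil (lvl D L₀) 1 (g : Matrix D.Idx D.Idx F) →
      Fil (lvl D L₀) 1 ((g⁻¹ : GL D.Idx F) : Matrix D.Idx D.Idx F))
    (g : GL D.Idx F) (hg : g ∈ D.posUnipotent F) :
    Fil (lvl D L₀) 1 (g : Matrix D.Idx D.Idx F) := by
  let P : Subgroup (GL D.Idx F) :=
    { carrier := {g | Fil (lvl D L₀) 1 (g : Matrix D.Idx D.Idx F)}
      mul_mem' := fun {a b} ha hb => by
        show Fil (lvl D L₀) 1 ((a * b : GL D.Idx F) : Matrix D.Idx D.Idx F)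
        rw [Units.val_mul]
        exact hmul _ _ ha hb
      one_mem' := by
        show Fil (lvl D L₀) 1 ((1 : GL D.Idx F) : Matrix D.Idx D.Idx F)
        rw [Units.val_one]
        exact hone
      inv_mem' := fun {a} ha => hinv a ha }
  have hU : D.posUnipotent F ≤ P := by
    unfold ChevalleyDatum.posUnipotent
    rw [Subgroup.closure_le]
    rintro g ⟨r, t, hr, hg⟩
    show Fil (lvl D L₀) 1 (g : Matrix D.Idx D.Idx F)
    rw [hg]
    have h1 := hpos r hr
    exact hmono _ h1 _ (hx_fil r hr.1 t (by linarith))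
  exact hU hg

end grp

end Cfsg.Agent.Lib.helper8.BTT
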