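import Mathlib
import Cfsg.Prelude.Def_ChevStructure
import Cfsg.Prelude.Def_LieTypes
import Cfsg.Prelude.Def_ChevB2
import Cfsg.Agent.Lib.helper8.BTT.Defs
import Cfsg.Agent.Lib.Helper18.BTTGRP78core
import Cfsg.Agent.Lib.helper8.BTTGEN1
import Cfsg.Agent.Lib.helper2.BTTGEN4
import Cfsg.Agent.Lib.Helper26.BTTGRP2
import Cfsg.Agent.Lib.helper15.BTTGRP3
import Cfsg.Agent.Lib.Helper9.BTTROOT4

/-!
# Project BTT (S2154, designer helper8), rows GRP7 (`B_par`) and GRP8 (`U_fil`), VERBATIM (helper18):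
the cores `bttgrp7_core`, `bttgrp8_core` fed with GRP2, GRP3, ROOT4, GEN1, GEN4.
-/

set_option autoImplicit false

namespace Cfsg.Agent.Lib.helper8.BTT

open Cfsg.Lie Cfsg.Lie.ChevalleyDatum

universe u

section grp
variable {F : Type u} [Field F] (D : ChevalleyDatum)

/-- GRP7 [S-M]: `B ⊆ Par` for dominant `L` (GRP2, GRP3, ROOT4 `dom_nonneg`, GEN3, GEN4). -/
theorem B_par (hD : D ∈ [chevG2, chevB2, chevD4, chevF4, chevE6, chevE7, chevE8])
    [Finite F] (L : Fin D.nroots → ℝ) (hL : L ∈ levE D) (hdom : Dom D L)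
    (b : GL D.Idx F) (hb : b ∈ D.borelSubgroup F) : Par (lvl D L) (b : Matrix D.Idx D.Idx F) :=
  bttgrp7_core D L (fun s hs t hpos => x_par D hD L hL s hs t hpos)
    (fun h hh => H_lev D hD (lvl D L) h hh)
    (fun r hr => dom_nonneg D hD L hL hdom r hr)
    (fun g hg => par_inv (lvl D L) g hg) b hb

/-- GRP8 [S-M]: `U ⊆ Fil ℓ_{L₀} 1` (GRP2, GEN1, GEN4). -/
theorem U_fil (hD : D ∈ [chevG2, chevB2, chevD4, chevF4, chevE6, chevE7, chevE8])
    [Finite F] (L₀ : Fin D.nroots → ℝ) (hL₀ : L₀ ∈ levE D)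
    (hpos : ∀ r, D.IsPosRoot r → 1 ≤ lv D L₀ r) (g : GL D.Idx F) (hg : g ∈ D.posUnipotent F) :
    Fil (lvl D L₀) 1 (g : Matrix D.Idx D.Idx F) :=
  bttgrp8_core D L₀ hpos (fun s hs t hp => x_fil D hD L₀ hL₀ s hs t hp)
    (fil_one (lvl D L₀) 1)
    (fun M M' h h' => fil_mul (lvl D L₀) 1 zero_le_one M M' h h')
    (fun c hc M h => fil_mono (lvl D L₀) c 1 hc M h)
    (fun g hg => fil_inv (lvl D L₀) 1 zero_le_one g hg) g hg

end grp

end Cfsg.Agent.Lib.helper8.BTT
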