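import Mathlib
import Cfsg.Prelude.Def_ChevStructure
import Cfsg.Prelude.Def_LieTypes
import Cfsg.Prelude.Def_ChevB2
import Cfsg.Agent.Lib.helper8.BTT.Defs
import Cfsg.Agent.S2326

/-!
# Project BTT (S2154, designer helper8), row GRP9 (helper18): `exists_conj_le_U`, VERBATIM.
-/

set_option autoImplicit false

namespace Cfsg.Agent.Lib.helper8.BTT

open Cfsg.Lie Cfsg.Lie.ChevalleyDatum

universe u

section grp
variable {F : Type u} [Field F] (D : ChevalleyDatum)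

/-- GRP9 [M]: a `p`-subgroup of `G` is conjugate into `U` (S2326 + Sylow's theorem in `↥(D.group F)`). -/
theorem exists_conj_le_U (hD : D ∈ [chevG2, chevB2, chevD4, chevF4, chevE6, chevE7, chevE8])
    [Fintype F] (p : ℕ) [Fact p.Prime] [CharP F p]
    (V : Subgroup (GL D.Idx F)) (hVG : V ≤ D.group F) (hV : IsPGroup p V) :
    ∃ g ∈ D.group F, ∀ v ∈ V, g⁻¹ * v * g ∈ D.posUnipotent F := by
  obtain ⟨P, hP⟩ := Cfsg.Agent.S2326.result (F := F) p D hD
  have hV' : IsPGroup p (V.subgroupOf (D.group F)) := hV.comap_subtype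
  obtain ⟨Q, hQ⟩ := hV'.exists_le_sylow
  obtain ⟨g, hg⟩ := MulAction.exists_smul_eq (↥(D.group F)) P Q
  refine ⟨(g : GL D.Idx F), g.2, ?_⟩
  intro v hv
  have hvQ : (⟨v, hVG hv⟩ : ↥(D.group F)) ∈ (Q : Subgroup ↥(D.group F)) := hQ hv
  rw [← hg, Sylow.coe_subgroup_smul, Subgroup.mem_pointwise_smul_iff_inv_smul_mem, hP] at hvQ
  have h2 : g⁻¹ * (⟨v, hVG hv⟩ : ↥(D.group F)) * g⁻¹⁻¹ ∈ (D.posUnipotent F).subgroupOf (D.group F) := hvQ
  rw [inv_inv] at h2
  exact h2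

end grp

end Cfsg.Agent.Lib.helper8.BTT
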