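import Mathlib
import Cfsg.Agent.Lib.Helper22.C3L.Defs
import Cfsg.Agent.Lib.Helper18.C3LD1core
import Cfsg.Agent.Lib.Helper18.C3LUTR
import Cfsg.Agent.Lib.Helper1.C3LD1A
import Cfsg.Agent.Lib.Helper1.C3LD1B

set_option autoImplicit false
set_option linter.unusedVariables false
set_option linter.unusedSectionVars false

/-!
# Project C3L, piece D1 (helper18): `d1`.
-/

namespace Cfsg.Agent.Lib.Helper22.C3L

open Module

variable {F K V : Type*} [Field F] [Field K] [Algebra F K] [AddCommGroup V] [Module F V] [Module K V]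
  [IsScalarTower F K V]

/-- D1 [M] from one to all transvections of the second kind (TRANS + TVCONJ + D1A/D1B). -/
theorem d1 [Finite K] [FiniteDimensional K V] (hr : 2 ≤ finrank F K) (hm : 2 ≤ finrank K V)
    (H : Subgroup (V ≃ₗ[F] V)) (hC : C1 F K V ≤ H) (hT : HasTv2 K H) : AllTv2 K H := by
  have : FiniteDimensional F K := Module.Finite.of_finite
  refine c3ld1_core H hC (fun hv hw => c1_trans hm hv hw) ?_ hT
  intro φ₀ z h0 hz hφ hK hmem
  by_cases h3 : 3 ≤ finrank K V
  · exact d1a h3 H hC h0 hz hφ hK hmem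
  · exact d1b hr (by omega) H hC h0 hz hφ hK hmem

end Cfsg.Agent.Lib.Helper22.C3L
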