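import Mathlib
import Cfsg.Agent.Lib.Helper22.C3L.Defs
import Cfsg.Agent.Lib.Helper10.C3O.Defs

set_option autoImplicit false
set_option linter.unusedVariables false
set_option linter.unusedSectionVars false

/-!
# C3O / ALLL core (helper18): `LineFull` at one singular `K`-line gives `LineFull` at all of them
(`o_trans` as a hypothesis; the conjugation formula for the `F`-Siegel maps is proved here).
-/

namespace Cfsg.Agent.Lib.Helper10.C3O

open Module Cfsg.Agent.Lib.Helper22.C3L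

variable {F K V : Type*} [Field F] [Field K] [Algebra F K] [AddCommGroup V] [Module F V] [Module K V]
  [IsScalarTower F K V]

/-- `k ρ_{z,w} k⁻¹ = ρ_{k z, k w}` for an isometry `k` of `f` -/
theorem c3oalll_conj (B : V →ₗ[K] V →ₗ[K] K) {k : V ≃ₗ[F] V} (hk : k ∈ Of F B) (z w x : V) :
    k (fsg F B z w (k.symm x)) = fsg F B (k z) (k w) x := by
  have h1 : ∀ u : V, tf F B (k.symm x) u = tf F B x (k u) := by
    intro u
    have := hk (k.symm x) u
    rw [LinearEquiv.apply_symm_apply] at this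
    exact this.symm
  unfold fsg
  rw [map_sub, map_sub, map_add, map_smul, map_smul, map_smul, LinearEquiv.apply_symm_apply, h1, h1, hk w w]

/-- ALLL core: `o_trans` as a hypothesis -/
theorem c3oalll_core (B : V →ₗ[K] V →ₗ[K] K)
    (htrans : ∀ {u u' : V}, u ≠ 0 → B u u = 0 → u' ≠ 0 → B u' u' = 0 →
      ∃ g ∈ OmB F B, ∃ a : K, a ≠ 0 ∧ g u = a • u')
    (H : Subgroup (V ≃ₗ[F] V)) (hC : OmB F B ≤ H) {v : V} (hv : v ≠ 0) (hv0 : B v v = 0)
    (h1 : LineFull B H v) : ∀ v' : V, v' ≠ 0 → B v' v' = 0 → LineFull B H v' := by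
  intro v' hv' hv'0 z' hz' y' hy'
  obtain ⟨g, hg, a, ha, hga⟩ := htrans hv hv0 hv' hv'0
  have hgO : g ∈ OB F B := OmB_le_OB B hg
  obtain ⟨b, rfl⟩ := (mem_Kl F K).mp hz'
  -- the preimages
  have hz : g.symm (b • v') ∈ Kl F K v := by
    refine (mem_Kl F K).mpr ⟨b / a, ?_⟩
    apply g.injective
    rw [LinearEquiv.apply_symm_apply, hgO.1, hga, smul_smul, div_mul_cancel₀ _ ha]
  have hy : B (g.symm y') v = 0 := by
    have h2 := hgO.2 (g.symm y') v
    rw [LinearEquiv.apply_symm_apply, hga, map_smul, hy', smul_zero] at h2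
    exact h2.symm
  obtain ⟨h, hh, hhx⟩ := h1 _ hz _ hy
  refine ⟨g * h * g⁻¹, H.mul_mem (H.mul_mem (hC hg) hh) (H.inv_mem (hC hg)), fun x => ?_⟩
  have e : (g * h * g⁻¹) x = g (h (g.symm x)) := rfl
  rw [e, hhx, c3oalll_conj B (OB_le_Of B hgO), LinearEquiv.apply_symm_apply, LinearEquiv.apply_symm_apply]

end Cfsg.Agent.Lib.Helper10.C3O
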