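import Mathlib
import Cfsg.Agent.Lib.Helper19.D8Simple
import Cfsg.Agent.Lib.Helper19.D8A6
import Cfsg.Agent.Lib.Helper18.ConjCount

set_option autoImplicit false

namespace Cfsg.Agent.Lib.Helper18.CD8

open DihedralGroup Cfsg.Agent.Lib.Helper19.D8Group Cfsg.Agent.Lib.Helper19.D8Conj

theorem d4_cent_sr : ∀ (i : ZMod 4) (y : DihedralGroup 4), y * sr i = sr i * y →
    y = 1 ∨ y = r 2 ∨ y = sr i ∨ y = r 2 * sr i := by
  decide

theorem d4_r1_sr : ∀ i : ZMod 4, (r 1 : DihedralGroup 4) * sr i * (r 1)⁻¹ = r 2 * sr i := by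
  decide

theorem d4_r2_sr_comm : ∀ i : ZMod 4, (r 2 : DihedralGroup 4) * sr i = sr i * r 2 := by
  decide

theorem d4_eight : ∀ (i : ZMod 4) (y : DihedralGroup 4),
    (y = 1 ∨ y = r 2 ∨ y = sr i ∨ y = r 2 * sr i) ∨
    (y = r 1 * 1 ∨ y = r 1 * r 2 ∨ y = r 1 * sr i ∨ y = r 1 * (r 2 * sr i)) := by
  decide

section basic

variable {G : Type*} [Group G] {t : G}
  (e : ↥(Subgroup.centralizer ({t} : Set G)) ≃* DihedralGroup 4)

/-- the four group spanned by `t` and `w`, as a predicate -/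
def VF (t w x : G) : Prop := x = 1 ∨ x = t ∨ x = w ∨ x = t * w

include e in
theorem exists_sr (ht1 : t ≠ 1) {w : G} (hwC : w ∈ Subgroup.centralizer ({t} : Set G))
    (hw2 : w * w = 1) (hw1 : w ≠ 1) (hwt : w ≠ t) : ∃ i : ZMod 4, w = el e (sr i) := by
  obtain ⟨y, rfl⟩ := exists_el e hwC
  have h1 : y * y = 1 := by
    apply el_injective e
    rw [el_mul, hw2, el_one]
  have h2 : y ≠ 1 := by
    rintro rfl
    exact hw1 (el_one e)
  have h3 : y ≠ r 2 := by
    rintro rfl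
    exact hwt (el_r2 e ht1)
  obtain ⟨i, rfl⟩ := d4_invol y h1 h2 h3
  exact ⟨i, rfl⟩

include e in
/-- elements of the centraliser of `t` commuting with `w` -/
theorem vf_of_comm (ht1 : t ≠ 1) {w : G} (hwC : w ∈ Subgroup.centralizer ({t} : Set G))
    (hw2 : w * w = 1) (hw1 : w ≠ 1) (hwt : w ≠ t) {x : G}
    (hxC : x ∈ Subgroup.centralizer ({t} : Set G)) (hxw : x * w = w * x) : VF t w x := by
  obtain ⟨i, rfl⟩ := exists_sr e ht1 hwC hw2 hw1 hwt
  obtain ⟨y, rfl⟩ := exists_el e hxC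
  have h1 : y * sr i = sr i * y := by
    apply el_injective e
    rw [el_mul, el_mul, hxw]
  rcases d4_cent_sr i y h1 with h | h | h | h
  · left; rw [h, el_one]
  · right; left; rw [h, el_r2 e ht1]
  · right; right; left; rw [h]
  · right; right; right; rw [h, el_mul, el_r2 e ht1]

include e in
/-- the element of order four and the coset decomposition of the centraliser -/
theorem exists_a (ht1 : t ≠ 1) {w : G} (hwC : w ∈ Subgroup.centralizer ({t} : Set G))
    (hw2 : w * w = 1) (hw1 : w ≠ 1) (hwt : w ≠ t) :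
    ∃ a : G, a ∈ Subgroup.centralizer ({t} : Set G) ∧ a * a = t ∧ a * w * a⁻¹ = t * w ∧
      ∀ x ∈ Subgroup.centralizer ({t} : Set G), VF t w x ∨ ∃ v, VF t w v ∧ x = a * v := by
  obtain ⟨i, rfl⟩ := exists_sr e ht1 hwC hw2 hw1 hwt
  refine ⟨el e (r 1), el_mem e _, a_sq e ht1, ?_, ?_⟩
  · rw [← el_inv, ← el_mul, ← el_mul, d4_r1_sr, el_mul, el_r2 e ht1]
  · intro x hx
    obtain ⟨y, rfl⟩ := exists_el e hx
    rcases d4_eight i y with (h | h | h | h) | (h | h | h | h)
    · left; left; rw [h, el_one]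
    · left; right; left; rw [h, el_r2 e ht1]
    · left; right; right; left; rw [h]
    · left; right; right; right; rw [h, el_mul, el_r2 e ht1]
    · right; exact ⟨1, Or.inl rfl, by rw [h, el_mul, el_one]⟩
    · right; exact ⟨t, Or.inr (Or.inl rfl), by rw [h, el_mul, el_r2 e ht1]⟩
    · right; exact ⟨el e (sr i), Or.inr (Or.inr (Or.inl rfl)), by rw [h, el_mul]⟩
    · right
      exact ⟨t * el e (sr i), Or.inr (Or.inr (Or.inr rfl)), by
        rw [h, el_mul, el_mul, el_r2 e ht1]⟩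

end basic

end Cfsg.Agent.Lib.Helper18.CD8
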