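import Mathlib
import Cfsg.Agent.Lib.Helper18.CD8A
import Cfsg.Agent.S0215

set_option autoImplicit false

namespace Cfsg.Agent.Lib.Helper18.CD8

open DihedralGroup Cfsg.Agent.Lib.Helper19.D8Group Cfsg.Agent.Lib.Helper19.D8Conj

/-- the isolated case: Glauberman plus a square root argument -/
theorem isolated_case {G : Type*} [Group G] [Finite G] {t : G}
    (e : ↥(Subgroup.centralizer ({t} : Set G)) ≃* DihedralGroup 4) (ht : orderOf t = 2)
    (hiso : ∀ g : G, g * t * g⁻¹ ∈ Subgroup.centralizer ({t} : Set G) → g * t * g⁻¹ = t) :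
    Subgroup.centralizer ({t} : Set G) ⊔ Cfsg.oddCore G = ⊤ := by
  have ht1 : t ≠ 1 := ne_one_of_orderOf ht
  have htt : t * t = 1 := sq_eq_one_of_orderOf ht
  have hti : t⁻¹ = t := inv_eq_of_mul_eq_one_left htt
  obtain ⟨P, hP⟩ := exists_sylow_eq e ht1
  have htP : t ∈ P := by
    show t ∈ (P : Subgroup G)
    rw [hP]; exact t_mem
  obtain ⟨N, hN, hodd, hcomm⟩ := Cfsg.Agent.S0215.result P t ht htP (by
    intro g hg
    apply hiso
    have : g * t * g⁻¹ ∈ (P : Subgroup G) := hg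
    rwa [hP] at this)
  have hNO : N ≤ Cfsg.oddCore G := le_sSup ⟨hN, Nat.coprime_two_right.mpr hodd⟩
  rw [eq_top_iff]
  intro g _
  have hn : t * g * t⁻¹ * g⁻¹ ∈ N := hcomm g
  set n := t * g * t⁻¹ * g⁻¹ with hndef
  have hinv : t * n * t⁻¹ = n⁻¹ := by
    rw [hndef, hti]
    calc t * (t * g * t * g⁻¹) * t = (t * t) * g * t * g⁻¹ * t := by group
      _ = g * t * g⁻¹ * t := by rw [htt, one_mul]
      _ = (t * g * t * g⁻¹)⁻¹ := by
        rw [mul_inv_rev, mul_inv_rev, mul_inv_rev, inv_inv, hti]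
        group
  obtain ⟨k, hk⟩ := hodd
  have hnpow : n ^ (2 * k + 1) = 1 := by
    rw [← hk]
    have h1 : (⟨n, hn⟩ : ↥N) ^ Nat.card ↥N = 1 := pow_card_eq_one'
    have h2 : ((⟨n, hn⟩ : ↥N) ^ Nat.card ↥N : ↥N).1 = (1 : ↥N).1 := by rw [h1]
    rw [Subgroup.coe_pow, Subgroup.coe_one] at h2
    exact h2
  have hmN : n ^ (k + 1) ∈ N := N.pow_mem hn _
  set m := n ^ (k + 1) with hmdef
  have hm2 : m * m = n := by
    rw [hmdef, ← pow_add]
    have : k + 1 + (k + 1) = (2 * k + 1) + 1 := by ring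
    rw [this, pow_succ, hnpow, one_mul]
  have hmt : t * m * t⁻¹ = m⁻¹ := by
    rw [hmdef, ← conj_pow, hinv, inv_pow]
  have htg : t * g * t⁻¹ = n * g := by
    rw [hndef]; group
  have hc : m * g ∈ Subgroup.centralizer ({t} : Set G) := by
    rw [Subgroup.mem_centralizer_singleton_iff]
    have h1 : t * (m * g) * t⁻¹ = m * g := by
      calc t * (m * g) * t⁻¹ = (t * m * t⁻¹) * (t * g * t⁻¹) := by group
        _ = m⁻¹ * (n * g) := by rw [hmt, htg]
        _ = m⁻¹ * (m * m * g) := by rw [hm2]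
        _ = m * g := by group
    calc m * g * t = t * (t⁻¹ * (m * g) * t) := by group
      _ = t * (t * (m * g) * t⁻¹) := by rw [hti]
      _ = t * (m * g) := by rw [h1]
  have hg : g = m⁻¹ * (m * g) := by group
  rw [hg]
  exact Subgroup.mul_mem _ (Subgroup.mem_sup_right (hNO (N.inv_mem hmN))) (Subgroup.mem_sup_left hc)

end Cfsg.Agent.Lib.Helper18.CD8
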