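import Mathlib
import Cfsg.Agent.Lib.Helper18.CD8A
import Cfsg.Agent.Lib.Helper24.G42A
import Cfsg.Agent.S0497

set_option autoImplicit false

namespace Cfsg.Agent.Lib.Helper18.CD8

open DihedralGroup Cfsg.Agent.Lib.Helper19.D8Group Cfsg.Agent.Lib.Helper19.D8Conj

/-- the case without subgroups of index two -/
theorem simple_case {G : Type*} [Group G] [Finite G] {t : G}
    (e : ↥(Subgroup.centralizer ({t} : Set G)) ≃* DihedralGroup 4) (ht : orderOf t = 2)
    (hG : ∀ H : Subgroup G, H.index ≠ 2) :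
    Nonempty (G ≃* Matrix.SpecialLinearGroup (Fin 3) (ZMod 2)) ∨
      Nonempty (G ≃* ↥(alternatingGroup (Fin 6))) := by
  haveI := Cfsg.Agent.Lib.Helper19.D8Simple.isSimpleGroup_of_no_index_two e hG ht
  have hperf := Cfsg.Agent.Lib.Helper19.D8Simple.perfect_of_no_index_two e hG ht
  rcases Cfsg.Agent.Lib.Helper19.D8Char.card_eq e hperf ht with h | h
  · left
    obtain ⟨f⟩ := Cfsg.Agent.Lib.Helper24.g42_iso_gl3 h
    exact ⟨f.trans (Cfsg.Agent.Lib.Helper24.g42_glSl (Fin 3))⟩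
  · right
    exact Cfsg.Agent.S0497.result h

end Cfsg.Agent.Lib.Helper18.CD8
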