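import Mathlib
import Cfsg.Agent.Lib.Helper18.CD8A

set_option autoImplicit false

namespace Cfsg.Agent.Lib.Helper18.CD8

open DihedralGroup Cfsg.Agent.Lib.Helper19.D8Group Cfsg.Agent.Lib.Helper19.D8Conj

/-- three conjugates and a centraliser of order eight give order twenty-four -/
theorem card_eq_24 {H : Type*} [Group H] [Finite H] (t w : H)
    (hC : Nat.card (Subgroup.centralizer ({t} : Set H)) = 8)
    (hcl : ∀ h : H, h * t * h⁻¹ = t ∨ h * t * h⁻¹ = w ∨ h * t * h⁻¹ = t * w)
    (h1 : ∃ h : H, h * t * h⁻¹ = w) (h2 : ∃ h : H, h * t * h⁻¹ = t * w)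
    (htw : t ≠ w) (hw1 : w ≠ 1) (ht1 : t ≠ 1) : Nat.card H = 24 := by
  have h := Cfsg.Agent.Lib.Helper18.card_isConj_mul_card_centralizer t
  rw [hC] at h
  have hset : {x : H | IsConj t x} = {t, w, t * w} := by
    ext x
    simp only [Set.mem_setOf_eq, Set.mem_insert_iff, Set.mem_singleton_iff]
    constructor
    · intro hx
      obtain ⟨c, hc⟩ := isConj_iff.mp hx
      rw [← hc]
      exact hcl c
    · rintro (rfl | rfl | rfl)
      · exact IsConj.refl _
      · obtain ⟨c, hc⟩ := h1
        exact isConj_iff.mpr ⟨c, hc⟩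
      · obtain ⟨c, hc⟩ := h2
        exact isConj_iff.mpr ⟨c, hc⟩
  have h3 : Nat.card {x : H // IsConj t x} = 3 := by
    have : Nat.card {x : H // IsConj t x} = ({x : H | IsConj t x}).ncard := by
      rw [← Nat.card_coe_set_eq]; rfl
    rw [this, hset]
    have hn1 : w ∉ ({t * w} : Set H) := by
      rw [Set.mem_singleton_iff]
      intro hh
      apply ht1
      have : t = (t * w) * w⁻¹ := by group
      rw [this, ← hh]; group
    have hn2 : t ∉ ({w, t * w} : Set H) := by
      simp only [Set.mem_insert_iff, Set.mem_singleton_iff, not_or]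
      refine ⟨htw, ?_⟩
      intro hh
      apply hw1
      have : w = t⁻¹ * (t * w) := by group
      rw [this, ← hh]; group
    rw [Set.ncard_insert_of_notMem hn2, Set.ncard_insert_of_notMem hn1, Set.ncard_singleton]
  rw [h3] at h
  omega

theorem d4_conj_vf : ∀ (i : ZMod 4) (c y : DihedralGroup 4),
    (y = 1 ∨ y = r 2 ∨ y = sr i ∨ y = r 2 * sr i) →
    (c * y * c⁻¹ = 1 ∨ c * y * c⁻¹ = r 2 ∨ c * y * c⁻¹ = sr i ∨ c * y * c⁻¹ = r 2 * sr i) := by
  decide

section basic

variable {G : Type*} [Group G] {t : G}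
  (e : ↥(Subgroup.centralizer ({t} : Set G)) ≃* DihedralGroup 4)

theorem vf_swap {t w x : G} (hcomm : t * w = w * t) (h : VF t w x) : VF w t x := by
  rcases h with h | h | h | h
  · left; exact h
  · right; right; left; exact h
  · right; left; exact h
  · right; right; right; rw [h, hcomm]

theorem vf_mem_C {t w x : G} (hcomm : t * w = w * t) (h : VF t w x) :
    x ∈ Subgroup.centralizer ({t} : Set G) := by
  rw [Subgroup.mem_centralizer_singleton_iff]
  rcases h with h | h | h | h
  · rw [h, one_mul, mul_one]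
  · rw [h]
  · rw [h, hcomm]
  · rw [h, mul_assoc, ← hcomm]

theorem vf_sq {t w x : G} (hcomm : t * w = w * t) (htt : t * t = 1) (hww : w * w = 1)
    (h : VF t w x) : x * x = 1 := by
  rcases h with h | h | h | h
  · rw [h, one_mul]
  · rw [h, htt]
  · rw [h, hww]
  · rw [h]
    calc t * w * (t * w) = t * (w * t) * w := by group
      _ = t * (t * w) * w := by rw [hcomm]
      _ = (t * t) * (w * w) := by group
      _ = 1 := by rw [htt, hww, one_mul]

include e in
/-- the centraliser of `t` normalises the four group -/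
theorem conj_vf (ht1 : t ≠ 1) {w : G} (hwC : w ∈ Subgroup.centralizer ({t} : Set G))
    (hw2 : w * w = 1) (hw1 : w ≠ 1) (hwt : w ≠ t) {c v : G}
    (hc : c ∈ Subgroup.centralizer ({t} : Set G)) (hv : VF t w v) :
    VF t w (c * v * c⁻¹) := by
  obtain ⟨i, rfl⟩ := exists_sr e ht1 hwC hw2 hw1 hwt
  obtain ⟨c', rfl⟩ := exists_el e hc
  have hv' : ∃ y, v = el e y ∧ (y = 1 ∨ y = r 2 ∨ y = sr i ∨ y = r 2 * sr i) := by
    rcases hv with h | h | h | h
    · exact ⟨1, by rw [h, el_one], Or.inl rfl⟩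
    · exact ⟨r 2, by rw [h, el_r2 e ht1], Or.inr (Or.inl rfl)⟩
    · exact ⟨sr i, h, Or.inr (Or.inr (Or.inl rfl))⟩
    · exact ⟨r 2 * sr i, by rw [h, el_mul, el_r2 e ht1], Or.inr (Or.inr (Or.inr rfl))⟩
  obtain ⟨y, rfl, hy⟩ := hv'
  rw [← el_inv, ← el_mul, ← el_mul]
  rcases d4_conj_vf i c' y hy with h | h | h | h
  · left; rw [h, el_one]
  · right; left; rw [h, el_r2 e ht1]
  · right; right; left; rw [h]
  · right; right; right; rw [h, el_mul, el_r2 e ht1]

end basic

end Cfsg.Agent.Lib.Helper18.CD8
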