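import Mathlib
import Cfsg.Agent.Lib.Helper18.CD8D
import Cfsg.Agent.S3277

set_option autoImplicit false

namespace Cfsg.Agent.Lib.Helper18.CD8

open DihedralGroup Cfsg.Agent.Lib.Helper19.D8Group Cfsg.Agent.Lib.Helper19.D8Conj

section abstract

variable {H : Type*} [Group H] [Finite H]

/-- an involution normalising a nontrivial elementary abelian normal 2-subgroup centralises a
nontrivial element of it -/
theorem exists_fixed_in_normal (x : H) (hxx : x * x = 1) (E : Subgroup H) [hEn : E.Normal]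
    (hEc : ∀ a ∈ E, ∀ b ∈ E, a * b = b * a) (hE2 : ∀ a ∈ E, a * a = 1) (hE : E ≠ ⊥) :
    ∃ v ∈ E, v ≠ 1 ∧ x * v = v * x := by
  have hxi : x⁻¹ = x := inv_eq_of_mul_eq_one_left hxx
  obtain ⟨u, huE, hu1⟩ := E.bot_or_exists_ne_one.resolve_left hE
  have hu'E : x * u * x⁻¹ ∈ E := hEn.conj_mem u huE x
  by_cases hfix : x * u * x⁻¹ = u
  · refine ⟨u, huE, hu1, ?_⟩
    calc x * u = (x * u * x⁻¹) * x := by group
      _ = u * x := by rw [hfix]
  · refine ⟨u * (x * u * x⁻¹), E.mul_mem huE hu'E, ?_, ?_⟩
    · intro h1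
      apply hfix
      have h2 : u * u = 1 := hE2 u huE
      have h3 : x * u * x⁻¹ = u⁻¹ := eq_inv_of_mul_eq_one_right h1
      rw [h3]
      exact inv_eq_of_mul_eq_one_left h2
    · have h4 : x * (x * u * x⁻¹) * x⁻¹ = u := by
        rw [hxi]
        calc x * (x * u * x) * x = (x * x) * u * (x * x) := by group
          _ = u := by rw [hxx, one_mul, mul_one]
      calc x * (u * (x * u * x⁻¹)) = (x * u * x⁻¹) * (x * (x * u * x⁻¹) * x⁻¹) * x := by group
        _ = (x * u * x⁻¹) * u * x := by rw [h4]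
        _ = u * (x * u * x⁻¹) * x := by rw [hEc _ hu'E _ huE]

theorem four_set_ncard {x y : H} (hxx : x * x = 1) (hx1 : x ≠ 1) (hy1 : y ≠ 1) (hxy : x ≠ y) :
    ({1, x, y, x * y} : Set H).ncard = 4 := by
  have hn1 : y ∉ ({x * y} : Set H) := by
    rw [Set.mem_singleton_iff]
    intro hh
    apply hx1
    have : x = (x * y) * y⁻¹ := by group
    rw [this, ← hh]; group
  have hn2 : x ∉ ({y, x * y} : Set H) := by
    simp only [Set.mem_insert_iff, Set.mem_singleton_iff, not_or]
    refine ⟨hxy, ?_⟩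
    intro hh
    apply hy1
    have : y = x⁻¹ * (x * y) := by group
    rw [this, ← hh]; group
  have hn3 : (1 : H) ∉ ({x, y, x * y} : Set H) := by
    simp only [Set.mem_insert_iff, Set.mem_singleton_iff, not_or]
    refine ⟨fun h => hx1 h.symm, fun h => hy1 h.symm, ?_⟩
    intro hh
    apply hxy
    have h1 : x⁻¹ = x := inv_eq_of_mul_eq_one_left hxx
    have h2 : y = x⁻¹ := (inv_eq_of_mul_eq_one_right hh.symm).symm
    rw [h2, h1]
  rw [Set.ncard_insert_of_notMem hn3, Set.ncard_insert_of_notMem hn2,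
    Set.ncard_insert_of_notMem hn1, Set.ncard_singleton]

/-- the abstract statement about the subgroup of index two -/
theorem a5_or_normal_four (x y : H) (hxx : x * x = 1) (hyy : y * y = 1) (hx1 : x ≠ 1) (hy1 : y ≠ 1)
    (hxy : x ≠ y) (hcomm : x * y = y * x)
    (hcent : ∀ c : H, c * x = x * c → c = 1 ∨ c = x ∨ c = y ∨ c = x * y)
    (hconj1 : ∃ m : H, m * x * m⁻¹ = y) (hconj2 : ∃ m : H, m * x * m⁻¹ = x * y)
    (h8 : (Nat.card H).factorization 2 = 2) :
    (∀ m : H, m * x * m⁻¹ = x ∨ m * x * m⁻¹ = y ∨ m * x * m⁻¹ = x * y) ∨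
      Nonempty (H ≃* ↥(alternatingGroup (Fin 5))) := by
  have hxi : x⁻¹ = x := inv_eq_of_mul_eq_one_left hxx
  have hx2 : orderOf x = 2 := orderOf_eq_prime (by rw [pow_two]; exact hxx) hx1
  have hxyxy : (x * y) * (x * y) = 1 := by
    calc x * y * (x * y) = x * (y * x) * y := by group
      _ = x * (x * y) * y := by rw [hcomm]
      _ = (x * x) * (y * y) := by group
      _ = 1 := by rw [hxx, hyy, one_mul]
  have hxy1 : x * y ≠ 1 := by
    intro hh
    apply hxy
    have h2 : y = x⁻¹ := (inv_eq_of_mul_eq_one_right hh).symm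
    rw [h2, hxi]
  by_cases hE : ∃ E : Subgroup H, E.Normal ∧ Cfsg.IsElementaryAbelian 2 E ∧
      (Nat.card ↥E = 2 ∨ Nat.card ↥E = 4)
  · left
    obtain ⟨E, hEn, ⟨hEc, hE2⟩, hEcard⟩ := hE
    haveI := hEn
    have hEc' : ∀ a ∈ E, ∀ b ∈ E, a * b = b * a := by
      intro a ha b hb
      have := hEc.is_comm.comm (⟨a, ha⟩ : ↥E) ⟨b, hb⟩
      exact congrArg Subtype.val this
    have hE2' : ∀ a ∈ E, a * a = 1 := by
      intro a ha
      rw [← pow_two]; exact hE2 a ha
    have hEbot : E ≠ ⊥ := by
      rintro rfl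
      rw [Subgroup.card_bot] at hEcard
      omega
    obtain ⟨v, hvE, hv1, hvx⟩ := exists_fixed_in_normal x hxx E hEc' hE2' hEbot
    have hxE : x ∈ E := by
      rcases hcent v hvx.symm with h | h | h | h
      · exact absurd h hv1
      · rw [← h]; exact hvE
      · obtain ⟨m, hm⟩ := hconj1
        have : x = m⁻¹ * v * m⁻¹⁻¹ := by rw [h, ← hm]; group
        rw [this]
        exact hEn.conj_mem v hvE _
      · obtain ⟨m, hm⟩ := hconj2
        have : x = m⁻¹ * v * m⁻¹⁻¹ := by rw [h, ← hm]; group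
        rw [this]
        exact hEn.conj_mem v hvE _
    have hyE : y ∈ E := by
      obtain ⟨m, hm⟩ := hconj1
      rw [← hm]; exact hEn.conj_mem x hxE _
    have hsub : ({1, x, y, x * y} : Set H) ⊆ (E : Set H) := by
      intro z hz
      simp only [Set.mem_insert_iff, Set.mem_singleton_iff] at hz
      rcases hz with rfl | rfl | rfl | rfl
      · exact E.one_mem
      · exact hxE
      · exact hyE
      · exact E.mul_mem hxE hyE
    have hEn4 : (E : Set H).ncard = Nat.card ↥E := by
      rw [← Nat.card_coe_set_eq]; rfl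
    have h4 := four_set_ncard hxx hx1 hy1 hxy
    have hle : ({1, x, y, x * y} : Set H).ncard ≤ (E : Set H).ncard :=
      Set.ncard_le_ncard hsub (Set.toFinite _)
    have hEq : ({1, x, y, x * y} : Set H) = (E : Set H) := by
      apply Set.eq_of_subset_of_ncard_le hsub _ (Set.toFinite _)
      rw [h4, hEn4]
      rw [h4, hEn4] at hle
      omega
    intro m
    have hmE : m * x * m⁻¹ ∈ (E : Set H) := hEn.conj_mem x hxE m
    rw [← hEq] at hmE
    simp only [Set.mem_insert_iff, Set.mem_singleton_iff] at hmE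
    rcases hmE with h | h | h | h
    · exfalso
      apply hx1
      have : x = m⁻¹ * (m * x * m⁻¹) * m := by group
      rw [this, h]; group
    · exact Or.inl h
    · exact Or.inr (Or.inl h)
    · exact Or.inr (Or.inr h)
  · right
    have hne : ∀ E : Subgroup H, E.Normal → Cfsg.IsElementaryAbelian 2 E →
        Nat.card ↥E ≠ 2 ∧ Nat.card ↥E ≠ 4 := by
      intro E hEn hEe
      constructor
      · intro h2
        exact hE ⟨E, hEn, hEe, Or.inl h2⟩
      · intro h4
        exact hE ⟨E, hEn, hEe, Or.inr h4⟩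
    have hCset : ((Subgroup.centralizer ({x} : Set H) : Subgroup H) : Set H) = {1, x, y, x * y} := by
      ext c
      simp only [SetLike.mem_coe, Subgroup.mem_centralizer_singleton_iff, Set.mem_insert_iff,
        Set.mem_singleton_iff]
      constructor
      · intro hc
        exact hcent c hc
      · rintro (rfl | rfl | rfl | rfl)
        · rw [one_mul, mul_one]
        · rfl
        · exact hcomm.symm
        · rw [mul_assoc, ← hcomm, ← mul_assoc]
    have hC4 : Nat.card ↥(Subgroup.centralizer ({x} : Set H)) = 4 := by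
      have : Nat.card ↥(Subgroup.centralizer ({x} : Set H)) =
          ((Subgroup.centralizer ({x} : Set H) : Subgroup H) : Set H).ncard := by
        rw [← Nat.card_coe_set_eq]; rfl
      rw [this, hCset]
      exact four_set_ncard hxx hx1 hy1 hxy
    have hCe : ∀ c ∈ Subgroup.centralizer ({x} : Set H), c ^ 2 = 1 := by
      intro c hc
      rw [Subgroup.mem_centralizer_singleton_iff] at hc
      rw [pow_two]
      rcases hcent c hc with rfl | rfl | rfl | rfl
      · rw [one_mul]
      · exact hxx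
      · exact hyy
      · exact hxyxy
    have hnc : ¬ Cfsg.HasNormalPComplement 2 H := by
      rintro ⟨P, K, hKn, hcompl⟩
      haveI := hKn
      have hP4 : Nat.card ↥(P : Subgroup H) = 4 := by
        rw [P.card_eq_multiplicity, h8]; norm_num
      have hKidx : K.index = 4 := by
        rw [hcompl.symm.index_eq_card, hP4]
      have hPidx : (P : Subgroup H).index = Nat.card ↥K := hcompl.index_eq_card
      have hcop : (Nat.card ↥(P : Subgroup H)).Coprime (P : Subgroup H).index :=
        P.card_coprime_index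
      rw [hP4, hPidx] at hcop
      have hq : Nat.card (H ⧸ K) = 2 ^ 2 := by
        rw [← Subgroup.index_eq_card, hKidx]; norm_num
      haveI : Fact (Nat.Prime 2) := ⟨Nat.prime_two⟩
      have hqc := IsPGroup.isMulCommutative_of_card_eq_prime_sq hq
      obtain ⟨m, hm⟩ := hconj1
      have hzK : x⁻¹ * y ∈ K := by
        rw [← QuotientGroup.eq_one_iff, ← hm]
        have h1 : ((x⁻¹ * (m * x * m⁻¹) : H) : H ⧸ K) =
            ((x : H) : H ⧸ K)⁻¹ * ((m : H) : H ⧸ K) * ((x : H) : H ⧸ K) * ((m : H) : H ⧸ K)⁻¹ := by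
          simp only [QuotientGroup.mk_mul, QuotientGroup.mk_inv, mul_assoc]
        rw [h1, hqc.is_comm.comm ((x : H) : H ⧸ K)⁻¹ ((m : H) : H ⧸ K)]
        group
      rw [hxi] at hzK
      have ho : orderOf (x * y) = 2 :=
        orderOf_eq_prime (by rw [pow_two]; exact hxyxy) hxy1
      have hdvd : 2 ∣ Nat.card ↥K := by
        rw [← ho]
        exact Subgroup.orderOf_dvd_natCard K hzK
      have : 2 ∣ Nat.gcd 4 (Nat.card ↥K) := Nat.dvd_gcd (by norm_num) hdvd
      rw [Nat.Coprime] at hcop
      rw [hcop] at this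
      omega
    exact Cfsg.Agent.S3277.result x hx2 hC4 hCe hnc hne

end abstract

end Cfsg.Agent.Lib.Helper18.CD8
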