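import Mathlib
import Cfsg.Agent.Lib.Helper18.CD8E

set_option autoImplicit false

namespace Cfsg.Agent.Lib.Helper18.CD8

open DihedralGroup Cfsg.Agent.Lib.Helper19.D8Group Cfsg.Agent.Lib.Helper19.D8Conj

/-- fusion data for two commuting conjugate involutions with dihedral centralisers -/
structure FD {G : Type*} [Group G] (t w a a' : G) : Prop where
  ht1 : t ≠ 1
  hw1 : w ≠ 1
  htt : t * t = 1
  hww : w * w = 1
  hwt : w ≠ t
  hcomm : t * w = w * t
  haC : a * t = t * a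
  haa : a * a = t
  haw : a * w * a⁻¹ = t * w
  hdec : ∀ x ∈ Subgroup.centralizer ({t} : Set G), VF t w x ∨ ∃ v, VF t w v ∧ x = a * v
  ha'C : a' * w = w * a'
  ha'a' : a' * a' = w
  ha't : a' * t * a'⁻¹ = w * t
  hdec' : ∀ x ∈ Subgroup.centralizer ({w} : Set G), VF w t x ∨ ∃ v, VF w t v ∧ x = a' * v

section construct

variable {G : Type*} [Group G] {t w : G}

theorem exists_fd (e : ↥(Subgroup.centralizer ({t} : Set G)) ≃* DihedralGroup 4)
    (e' : ↥(Subgroup.centralizer ({w} : Set G)) ≃* DihedralGroup 4)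
    (ht1 : t ≠ 1) (htt : t * t = 1) (hw1 : w ≠ 1) (hww : w * w = 1) (hwt : w ≠ t)
    (hcomm : t * w = w * t) : ∃ a a' : G, FD t w a a' := by
  have hwC : w ∈ Subgroup.centralizer ({t} : Set G) :=
    Subgroup.mem_centralizer_singleton_iff.mpr hcomm.symm
  have htC' : t ∈ Subgroup.centralizer ({w} : Set G) :=
    Subgroup.mem_centralizer_singleton_iff.mpr hcomm
  obtain ⟨a, haC, haa, haw, hdec⟩ := exists_a e ht1 hwC hww hw1 hwt
  obtain ⟨a', ha'C, ha'a', ha't, hdec'⟩ := exists_a e' hw1 htC' htt ht1 (Ne.symm hwt)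
  exact ⟨a, a', ht1, hw1, htt, hww, hwt, hcomm,
    Subgroup.mem_centralizer_singleton_iff.mp haC, haa, haw, hdec,
    Subgroup.mem_centralizer_singleton_iff.mp ha'C, ha'a', ha't, hdec'⟩

end construct

namespace FD

variable {G : Type*} [Group G] {t w a a' : G}

theorem ti (h : FD t w a a') : t⁻¹ = t := inv_eq_of_mul_eq_one_left h.htt

theorem wi (h : FD t w a a') : w⁻¹ = w := inv_eq_of_mul_eq_one_left h.hww

theorem a_conj_t (h : FD t w a a') : a * t * a⁻¹ = t := by
  rw [h.haC]; group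

theorem a_inv_conj_t (h : FD t w a a') : a⁻¹ * t * a = t := by
  rw [mul_assoc, ← h.haC]; group

theorem a_inv_conj_w (h : FD t w a a') : a⁻¹ * w * a = t * w := by
  have h1 : w = a⁻¹ * (t * w) * a := by rw [← h.haw]; group
  have h2 : a⁻¹ * (t * w) * a = (a⁻¹ * t * a) * (a⁻¹ * w * a) := by group
  rw [h2, h.a_inv_conj_t] at h1
  have h3 : a⁻¹ * w * a = t⁻¹ * w := by
    calc a⁻¹ * w * a = t⁻¹ * (t * (a⁻¹ * w * a)) := by group
      _ = t⁻¹ * w := by rw [← h1]
  rw [h3, h.ti]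

theorem a'_conj_w (h : FD t w a a') : a' * w * a'⁻¹ = w := by
  rw [h.ha'C]; group

theorem tw_ne_one (h : FD t w a a') : t * w ≠ 1 := by
  intro hh
  apply h.hwt
  have h2 : w = t⁻¹ := (inv_eq_of_mul_eq_one_right hh).symm
  rw [h2, h.ti]

theorem tw_ne_t (h : FD t w a a') : t * w ≠ t := by
  intro hh
  apply h.hw1
  have : w = t⁻¹ * (t * w) := by group
  rw [this, hh]; group

theorem tw_ne_w (h : FD t w a a') : t * w ≠ w := by
  intro hh
  apply h.ht1
  have : t = (t * w) * w⁻¹ := by group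
  rw [this, hh]; group

/-- the first fusing element -/
theorem m1 (h : FD t w a a') : (a⁻¹ * a') * t * (a⁻¹ * a')⁻¹ = w := by
  calc (a⁻¹ * a') * t * (a⁻¹ * a')⁻¹ = a⁻¹ * (a' * t * a'⁻¹) * a := by group
    _ = a⁻¹ * (w * t) * a := by rw [h.ha't]
    _ = (a⁻¹ * w * a) * (a⁻¹ * t * a) := by group
    _ = t * w * t := by rw [h.a_inv_conj_w, h.a_inv_conj_t]
    _ = t * (t * w) := by rw [mul_assoc, ← h.hcomm]
    _ = w := by rw [← mul_assoc, h.htt, one_mul]

/-- the second fusing element -/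
theorem m2 (h : FD t w a a') : (a' * a) * t * (a' * a)⁻¹ = t * w := by
  calc (a' * a) * t * (a' * a)⁻¹ = a' * (a * t * a⁻¹) * a'⁻¹ := by group
    _ = a' * t * a'⁻¹ := by rw [h.a_conj_t]
    _ = t * w := by rw [h.ha't, h.hcomm]

theorem vf_t (h : FD t w a a') : VF t w t := Or.inr (Or.inl rfl)

theorem vf_w (h : FD t w a a') : VF t w w := Or.inr (Or.inr (Or.inl rfl))

theorem vf_tw (h : FD t w a a') : VF t w (t * w) := Or.inr (Or.inr (Or.inr rfl))

end FD

end Cfsg.Agent.Lib.Helper18.CD8
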