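import Mathlib
import Cfsg.Agent.Lib.Helper18.CD8F

set_option autoImplicit false

namespace Cfsg.Agent.Lib.Helper18.CD8

open DihedralGroup Cfsg.Agent.Lib.Helper19.D8Group Cfsg.Agent.Lib.Helper19.D8Conj

/-- analysis of a subgroup of index two -/
theorem index_two_case {G : Type*} [Group G] [Finite G] {t w a a' : G}
    (e : ↥(Subgroup.centralizer ({t} : Set G)) ≃* DihedralGroup 4)
    (e' : ↥(Subgroup.centralizer ({w} : Set G)) ≃* DihedralGroup 4) (h : FD t w a a')
    (M : Subgroup G) (hM : M.index = 2) :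
    (∀ g : G, g * t * g⁻¹ = t ∨ g * t * g⁻¹ = w ∨ g * t * g⁻¹ = t * w) ∨
      Nonempty (↥M ≃* ↥(alternatingGroup (Fin 5))) := by
  haveI hMn : M.Normal := Subgroup.normal_of_index_eq_two hM
  have hmul : ∀ {a b : G}, a * b ∈ M ↔ (a ∈ M ↔ b ∈ M) :=
    fun {a b} => Subgroup.mul_mem_iff_of_index_two hM (a := a) (b := b)
  have htM : t ∈ M := by rw [← h.haa]; exact hmul.mpr Iff.rfl
  have hwM : w ∈ M := by rw [← h.m1]; exact hMn.conj_mem _ htM _
  have hvM : ∀ v, VF t w v → v ∈ M := by
    rintro v (rfl | rfl | rfl | rfl)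
    exacts [M.one_mem, htM, hwM, M.mul_mem htM hwM]
  have haM : a ∉ M := by
    intro haM
    have hCM : Subgroup.centralizer ({t} : Set G) ≤ M := by
      intro x hx
      rcases h.hdec x hx with hv | ⟨v, hv, rfl⟩
      · exact hvM _ hv
      · exact M.mul_mem haM (hvM _ hv)
    have := Cfsg.Agent.Lib.Helper19.D8Simple.eq_top_of_le e h.ht1 M hCM
    rw [this, Subgroup.index_top] at hM; omega
  have ha'M : a' ∉ M := by
    intro ha'M
    have hCM : Subgroup.centralizer ({w} : Set G) ≤ M := by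
      intro x hx
      rcases h.hdec' x hx with hv | ⟨v, hv, rfl⟩
      · exact hvM _ (vf_swap h.hcomm.symm hv)
      · exact M.mul_mem ha'M (hvM _ (vf_swap h.hcomm.symm hv))
    have := Cfsg.Agent.Lib.Helper19.D8Simple.eq_top_of_le e' h.hw1 M hCM
    rw [this, Subgroup.index_top] at hM; omega
  have hCM : ∀ x ∈ Subgroup.centralizer ({t} : Set G), x ∈ M → VF t w x := by
    intro x hx hxM
    rcases h.hdec x hx with hv | ⟨v, hv, rfl⟩
    · exact hv
    · exfalso
      apply haM
      have : a = a * v * v⁻¹ := by group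
      rw [this]
      exact M.mul_mem hxM (M.inv_mem (hvM _ hv))
  have hm1M : a⁻¹ * a' ∈ M :=
    hmul.mpr ⟨fun hh => absurd (M.inv_mem_iff.mp hh) haM, fun hh => absurd hh ha'M⟩
  have hm2M : a' * a ∈ M := hmul.mpr ⟨fun hh => absurd hh ha'M, fun hh => absurd hh haM⟩
  have h8 : (Nat.card ↥M).factorization 2 = 2 := by
    obtain ⟨P, hP⟩ := exists_sylow_eq e h.ht1
    have h1 : Nat.card ↥(P : Subgroup G) = 8 := by rw [hP]; exact card_centralizer_t e
    have h2 := P.card_eq_multiplicity
    rw [h1] at h2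
    have h3 : (Nat.card G).factorization 2 = 3 := by
      have : 2 ^ 3 = 2 ^ (Nat.card G).factorization 2 := by rw [← h2]; norm_num
      exact (Nat.pow_right_injective (le_refl 2) this).symm
    have h4 : Nat.card ↥M * 2 = Nat.card G := by rw [← hM]; exact M.card_mul_index
    rw [← h4, Nat.factorization_mul (Nat.card_pos.ne') two_ne_zero] at h3
    rw [Finsupp.add_apply, Nat.Prime.factorization_self Nat.prime_two] at h3
    omega
  set x : ↥M := ⟨t, htM⟩ with hxdef
  set y : ↥M := ⟨w, hwM⟩ with hydef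
  have key : ∀ (m z : ↥M), m * x * m⁻¹ = z → (m : G) * t * (m : G)⁻¹ = (z : G) := by
    intro m z hz
    have := congrArg Subtype.val hz
    simpa using this
  have hcent : ∀ c : ↥M, c * x = x * c → c = 1 ∨ c = x ∨ c = y ∨ c = x * y := by
    intro c hc
    have h1 : (c : G) * t = t * (c : G) := by
      have := congrArg Subtype.val hc
      simpa using this
    rcases hCM c (Subgroup.mem_centralizer_singleton_iff.mpr h1) c.2 with hh | hh | hh | hh
    · left; exact Subtype.ext hh
    · right; left; exact Subtype.ext hh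
    · right; right; left; exact Subtype.ext hh
    · right; right; right; exact Subtype.ext hh
  rcases a5_or_normal_four (H := ↥M) x y (Subtype.ext h.htt) (Subtype.ext h.hww)
    (fun hh => h.ht1 (congrArg Subtype.val hh)) (fun hh => h.hw1 (congrArg Subtype.val hh))
    (fun hh => h.hwt (congrArg Subtype.val hh).symm) (Subtype.ext h.hcomm) hcent
    ⟨⟨a⁻¹ * a', hm1M⟩, Subtype.ext h.m1⟩ ⟨⟨a' * a, hm2M⟩, Subtype.ext h.m2⟩ h8 with hcl | hA5
  · left
    have hclM : ∀ g ∈ M, g * t * g⁻¹ = t ∨ g * t * g⁻¹ = w ∨ g * t * g⁻¹ = t * w := by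
      intro g hg
      rcases hcl ⟨g, hg⟩ with hh | hh | hh
      · left; exact key _ _ hh
      · right; left; exact key _ _ hh
      · right; right; exact key _ _ hh
    intro g
    by_cases hg : g ∈ M
    · exact hclM g hg
    · have hgM : g * a⁻¹ ∈ M :=
        hmul.mpr ⟨fun hh => absurd hh hg, fun hh => absurd (M.inv_mem_iff.mp hh) haM⟩
      have h1 : g * t * g⁻¹ = (g * a⁻¹) * t * (g * a⁻¹)⁻¹ := by
        calc g * t * g⁻¹ = g * (a⁻¹ * t * a) * g⁻¹ := by rw [h.a_inv_conj_t]
          _ = (g * a⁻¹) * t * (g * a⁻¹)⁻¹ := by group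
      rw [h1]
      exact hclM _ hgM
  · right
    exact hA5

end Cfsg.Agent.Lib.Helper18.CD8
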