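import Mathlib
import Cfsg.Agent.Lib.Helper18.CD8F
import Cfsg.Agent.S1012

set_option autoImplicit false

namespace Cfsg.Agent.Lib.Helper18.CD8

open DihedralGroup Cfsg.Agent.Lib.Helper19.D8Group Cfsg.Agent.Lib.Helper19.D8Conj

section gen

variable {G : Type*} [Group G]

theorem comm_of_conj {y x : G} (hh : y * x * y⁻¹ = x) : y * x = x * y := by
  calc y * x = (y * x * y⁻¹) * y := by group
    _ = x * y := by rw [hh]

theorem conj_inj {y u v : G} (hh : y * u * y⁻¹ = y * v * y⁻¹) : u = v := by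
  have : u = y⁻¹ * (y * u * y⁻¹) * y := by group
  rw [this, hh]; group

theorem pow_card_of_mem {H : Subgroup G} [Finite H] {y : G} (hy : y ∈ H) :
    y ^ Nat.card ↥H = 1 := by
  have h1 : (⟨y, hy⟩ : ↥H) ^ Nat.card ↥H = 1 := pow_card_eq_one'
  have h2 : ((⟨y, hy⟩ : ↥H) ^ Nat.card ↥H : ↥H).1 = (1 : ↥H).1 := by rw [h1]
  rw [Subgroup.coe_pow, Subgroup.coe_one] at h2
  exact h2

end gen

/-- the case of a normal four group: the symmetric group of degree four -/
theorem s4_case {G : Type*} [Group G] [Finite G] {t w a a' : G}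
    (e : ↥(Subgroup.centralizer ({t} : Set G)) ≃* DihedralGroup 4)
    (e' : ↥(Subgroup.centralizer ({w} : Set G)) ≃* DihedralGroup 4) (h : FD t w a a')
    (hcl : ∀ g : G, g * t * g⁻¹ = t ∨ g * t * g⁻¹ = w ∨ g * t * g⁻¹ = t * w) :
    Nonempty (G ≃* Equiv.Perm (Fin 4)) := by
  have hcard : Nat.card G = 24 :=
    card_eq_24 t w (card_centralizer_t e) hcl ⟨_, h.m1⟩ ⟨_, h.m2⟩ (Ne.symm h.hwt) h.hw1 h.ht1
  have hclw : ∀ g : G, g * w * g⁻¹ = t ∨ g * w * g⁻¹ = w ∨ g * w * g⁻¹ = t * w := by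
    intro g
    have h1 : g * w * g⁻¹ = (g * (a⁻¹ * a')) * t * (g * (a⁻¹ * a'))⁻¹ := by
      calc g * w * g⁻¹ = g * ((a⁻¹ * a') * t * (a⁻¹ * a')⁻¹) * g⁻¹ := by rw [h.m1]
        _ = (g * (a⁻¹ * a')) * t * (g * (a⁻¹ * a'))⁻¹ := by group
    rw [h1]
    exact hcl _
  have hwC : w ∈ Subgroup.centralizer ({t} : Set G) :=
    Subgroup.mem_centralizer_singleton_iff.mpr h.hcomm.symm
  have hV : ∀ y : G, y * t * y⁻¹ = t → y * w * y⁻¹ = w → VF t w y := by
    intro y h1 h2
    exact vf_of_comm e h.ht1 hwC h.hww h.hw1 h.hwt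
      (Subgroup.mem_centralizer_singleton_iff.mpr (comm_of_conj h1)) (comm_of_conj h2)
  have hV2 : ∀ y : G, y * t * y⁻¹ = t → y * w * y⁻¹ = w → y * y = 1 := by
    intro y h1 h2
    exact vf_sq h.hcomm h.htt h.hww (hV y h1 h2)
  have h8t : ∀ y : G, y * t * y⁻¹ = t → y ^ 8 = 1 := by
    intro y h1
    rw [← card_centralizer_t e]
    exact pow_card_of_mem (Subgroup.mem_centralizer_singleton_iff.mpr (comm_of_conj h1))
  have h8w : ∀ y : G, y * w * y⁻¹ = w → y ^ 8 = 1 := by
    intro y h1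
    rw [← card_centralizer_t e']
    exact pow_card_of_mem (Subgroup.mem_centralizer_singleton_iff.mpr (comm_of_conj h1))
  have hwtw : w * (t * w) = t := by
    rw [← mul_assoc, ← h.hcomm, mul_assoc, h.hww, mul_one]
  have htww : t * w * t = w := by
    rw [mul_assoc, ← h.hcomm, ← mul_assoc, h.htt, one_mul]
  have h6 : ∀ y : G, orderOf y ≠ 6 := by
    intro y hy6
    have hdvd : ∀ k : ℕ, y ^ k = 1 → 6 ∣ k := by
      intro k hk
      rw [← hy6]
      exact orderOf_dvd_of_pow_eq_one hk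
    have hconjtw : y * (t * w) * y⁻¹ = (y * t * y⁻¹) * (y * w * y⁻¹) := by group
    have hy3 : y * y ^ 3 * y⁻¹ = y ^ 3 := by
      rw [pow_succ, pow_two]; group
    have e3 : y ^ 3 = y * y * y := by rw [pow_succ, pow_two]
    have h3c : ∀ z : G, y ^ 3 * z * (y ^ 3)⁻¹ = y * (y * (y * z * y⁻¹) * y⁻¹) * y⁻¹ := by
      intro z; rw [e3]; group
    have h2c : ∀ z : G, (y * y) * z * (y * y)⁻¹ = y * (y * z * y⁻¹) * y⁻¹ := by
      intro z; group
    -- the three-cycle situation
    have hcyc : y ^ 3 * t * (y ^ 3)⁻¹ = t → y ^ 3 * w * (y ^ 3)⁻¹ = w →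
        y * t * y⁻¹ ≠ t → y * w * y⁻¹ ≠ w → y * (t * w) * y⁻¹ ≠ t * w → False := by
      intro h3t h3w hnt hnw hntw
      rcases hV _ h3t h3w with hh | hh | hh | hh
      · have := hdvd 3 hh
        omega
      · apply hnt
        rw [← hh]; exact hy3
      · apply hnw
        rw [← hh]; exact hy3
      · apply hntw
        rw [← hh]; exact hy3
    rcases hcl y with ht | ht | ht <;> rcases hclw y with hw | hw | hw
    · exact h.hwt (conj_inj (hw.trans ht.symm))
    · have := hV2 y ht hw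
      have := hdvd 2 (by rw [pow_two]; exact this)
      omega
    · have := hdvd 8 (h8t y ht)
      omega
    · have h1 : (y * y) * t * (y * y)⁻¹ = t := by rw [h2c, ht, hw]
      have h2 : (y * y) * w * (y * y)⁻¹ = w := by rw [h2c, hw, ht]
      have h3 := hV2 _ h1 h2
      have := hdvd 4 (by
        have : y ^ 4 = y * y * (y * y) := by
          rw [show 4 = 2 + 2 from rfl, pow_add, pow_two]
        rw [this]; exact h3)
      omega
    · exact h.hwt (conj_inj (hw.trans ht.symm))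
    · -- t -> w -> tw -> t
      have htw : y * (t * w) * y⁻¹ = t := by rw [hconjtw, ht, hw, hwtw]
      apply hcyc
      · rw [h3c, ht, hw, htw]
      · rw [h3c, hw, htw, ht]
      · rw [ht]; exact h.hwt
      · rw [hw]; exact h.tw_ne_w
      · rw [htw]; exact fun hh => h.tw_ne_t hh.symm
    · -- t -> tw -> w -> t
      have htw : y * (t * w) * y⁻¹ = w := by rw [hconjtw, ht, hw, htww]
      apply hcyc
      · rw [h3c, ht, htw, hw]
      · rw [h3c, hw, ht, htw]
      · rw [ht]; exact h.tw_ne_t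
      · rw [hw]; exact fun hh => h.hwt hh.symm
      · rw [htw]; exact fun hh => h.tw_ne_w hh.symm
    · have := hdvd 8 (h8w y hw)
      omega
    · exact h.hwt (conj_inj (hw.trans ht.symm))
  exact Cfsg.Agent.S1012.result hcard h6

end Cfsg.Agent.Lib.Helper18.CD8
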