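import Mathlib
import Cfsg.Agent.Lib.Helper18.CD8H

set_option autoImplicit false

namespace Cfsg.Agent.Lib.Helper18.CD8

open DihedralGroup Cfsg.Agent.Lib.Helper19.D8Group Cfsg.Agent.Lib.Helper19.D8Conj

/-- a group of order 120 acting faithfully on the cosets of a subgroup of index five -/
theorem perm5_of_core_bot {G : Type*} [Group G] [Finite G] (hG : Nat.card G = 120)
    (N : Subgroup G) (hN : N.index = 5) (hcore : N.normalCore = ⊥) :
    Nonempty (G ≃* Equiv.Perm (Fin 5)) := by
  have hq : Nat.card (G ⧸ N) = 5 := by rw [← Subgroup.index_eq_card, hN]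
  have hker : (MulAction.toPermHom G (G ⧸ N)).ker = ⊥ := by
    rw [← Subgroup.normalCore_eq_ker, hcore]
  have hinj : Function.Injective (MulAction.toPermHom G (G ⧸ N)) :=
    (MonoidHom.ker_eq_bot_iff _).mp hker
  haveI : Finite (G ⧸ N) := Nat.finite_of_card_ne_zero (by rw [hq]; norm_num)
  have hcardP : Nat.card (Equiv.Perm (G ⧸ N)) = 120 := by
    rw [Nat.card_perm, hq]; rfl
  have hbij : Function.Bijective (MulAction.toPermHom G (G ⧸ N)) := by
    apply Function.Injective.bijective_of_nat_card_le hinj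
    rw [hcardP, hG]
  have e1 : G ≃* Equiv.Perm (G ⧸ N) := MulEquiv.ofBijective _ hbij
  have e2 : (G ⧸ N) ≃ Fin 5 := Finite.equivFinOfCardEq hq
  exact ⟨e1.trans e2.permCongrHom⟩

end Cfsg.Agent.Lib.Helper18.CD8
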