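import Mathlib
import Cfsg.Agent.Lib.Helper18.CD8I

set_option autoImplicit false

namespace Cfsg.Agent.Lib.Helper18.CD8

open DihedralGroup Cfsg.Agent.Lib.Helper19.D8Group Cfsg.Agent.Lib.Helper19.D8Conj

/-- the normaliser of the four group has order twenty-four -/
theorem card_normalizer_four {G : Type*} [Group G] [Finite G] {t w a a' : G}
    (e : ↥(Subgroup.centralizer ({t} : Set G)) ≃* DihedralGroup 4)
    (e' : ↥(Subgroup.centralizer ({w} : Set G)) ≃* DihedralGroup 4) (h : FD t w a a') :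
    Nat.card ↥(Subgroup.normalizer
      ((Subgroup.centralizer ({t} : Set G) ⊓ Subgroup.centralizer ({w} : Set G) : Subgroup G) :
        Set G)) = 24 := by
  set V : Subgroup G := Subgroup.centralizer ({t} : Set G) ⊓ Subgroup.centralizer ({w} : Set G)
    with hVdef
  have hwC : w ∈ Subgroup.centralizer ({t} : Set G) :=
    Subgroup.mem_centralizer_singleton_iff.mpr h.hcomm.symm
  have htC' : t ∈ Subgroup.centralizer ({w} : Set G) :=
    Subgroup.mem_centralizer_singleton_iff.mpr h.hcomm
  have hVmem : ∀ x : G, x ∈ V ↔ VF t w x := by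
    intro x
    constructor
    · intro hx
      rw [hVdef, Subgroup.mem_inf] at hx
      exact vf_of_comm e h.ht1 hwC h.hww h.hw1 h.hwt hx.1
        (Subgroup.mem_centralizer_singleton_iff.mp hx.2)
    · intro hx
      rw [hVdef, Subgroup.mem_inf]
      exact ⟨vf_mem_C h.hcomm hx, vf_mem_C h.hcomm.symm (vf_swap h.hcomm hx)⟩
  set N : Subgroup G := Subgroup.normalizer (V : Set G) with hNdef
  have hnorm : ∀ c : G, (∀ v, VF t w v → VF t w (c * v * c⁻¹)) →
      (∀ v, VF t w v → VF t w (c⁻¹ * v * c)) → c ∈ N := by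
    intro c h1 h2
    rw [hNdef, Subgroup.mem_normalizer_iff]
    intro n
    rw [hVmem, hVmem]
    constructor
    · exact h1 n
    · intro hn
      have : n = c⁻¹ * (c * n * c⁻¹) * c := by group
      rw [this]
      exact h2 _ hn
  have hCN : Subgroup.centralizer ({t} : Set G) ≤ N := by
    intro c hc
    apply hnorm
    · intro v hv
      exact conj_vf e h.ht1 hwC h.hww h.hw1 h.hwt hc hv
    · intro v hv
      have := conj_vf e h.ht1 hwC h.hww h.hw1 h.hwt (Subgroup.inv_mem _ hc) hv
      rwa [inv_inv] at this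
  have hC'N : Subgroup.centralizer ({w} : Set G) ≤ N := by
    intro c hc
    apply hnorm
    · intro v hv
      exact vf_swap h.hcomm.symm
        (conj_vf e' h.hw1 htC' h.htt h.ht1 (Ne.symm h.hwt) hc (vf_swap h.hcomm hv))
    · intro v hv
      have := conj_vf e' h.hw1 htC' h.htt h.ht1 (Ne.symm h.hwt) (Subgroup.inv_mem _ hc)
        (vf_swap h.hcomm hv)
      rw [inv_inv] at this
      exact vf_swap h.hcomm.symm this
  have haN : a ∈ N := hCN (Subgroup.mem_centralizer_singleton_iff.mpr h.haC)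
  have ha'N : a' ∈ N := hC'N (Subgroup.mem_centralizer_singleton_iff.mpr h.ha'C)
  have htN : t ∈ N := hCN t_mem
  have hwN : w ∈ N := hCN hwC
  -- apply the counting lemma inside `N`
  have hcentN : Nat.card ↥(Subgroup.centralizer ({(⟨t, htN⟩ : ↥N)} : Set ↥N)) = 8 := by
    rw [← card_centralizer_t e]
    apply Nat.card_congr
    refine
      { toFun := fun c => ⟨(c : ↥N), ?_⟩
        invFun := fun c => ⟨⟨c, hCN c.2⟩, ?_⟩
        left_inv := fun c => rfl
        right_inv := fun c => rfl }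
    · have := Subgroup.mem_centralizer_singleton_iff.mp c.2
      have h2 := congrArg Subtype.val this
      rw [Subgroup.mem_centralizer_singleton_iff]
      simpa using h2
    · rw [Subgroup.mem_centralizer_singleton_iff]
      apply Subtype.ext
      have := Subgroup.mem_centralizer_singleton_iff.mp c.2
      simpa using this
  have hclN : ∀ n : ↥N, n * (⟨t, htN⟩ : ↥N) * n⁻¹ = ⟨t, htN⟩ ∨
      n * (⟨t, htN⟩ : ↥N) * n⁻¹ = ⟨w, hwN⟩ ∨
      n * (⟨t, htN⟩ : ↥N) * n⁻¹ = ⟨t, htN⟩ * ⟨w, hwN⟩ := by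
    intro n
    have hn : (n : G) ∈ Subgroup.normalizer (V : Set G) := n.2
    rw [Subgroup.mem_normalizer_iff] at hn
    have h1 : (n : G) * t * (n : G)⁻¹ ∈ V := (hn t).mp ((hVmem t).mpr h.vf_t)
    rcases (hVmem _).mp h1 with hh | hh | hh | hh
    · exfalso
      apply h.ht1
      have : t = (n : G)⁻¹ * ((n : G) * t * (n : G)⁻¹) * (n : G) := by group
      rw [this, hh]; group
    · left; exact Subtype.ext hh
    · right; left; exact Subtype.ext hh
    · right; right; exact Subtype.ext hh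
  exact card_eq_24 (H := ↥N) ⟨t, htN⟩ ⟨w, hwN⟩ hcentN hclN
    ⟨⟨a⁻¹ * a', N.mul_mem (N.inv_mem haN) ha'N⟩, Subtype.ext h.m1⟩
    ⟨⟨a' * a, N.mul_mem ha'N haN⟩, Subtype.ext h.m2⟩
    (fun hh => h.hwt (congrArg Subtype.val hh).symm)
    (fun hh => h.hw1 (congrArg Subtype.val hh))
    (fun hh => h.ht1 (congrArg Subtype.val hh))

end Cfsg.Agent.Lib.Helper18.CD8
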