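import Mathlib
import Cfsg.Agent.Lib.Helper18.CD8J
import Cfsg.Agent.Lib.Helper18.CD8G

set_option autoImplicit false

namespace Cfsg.Agent.Lib.Helper18.CD8

open DihedralGroup Cfsg.Agent.Lib.Helper19.D8Group Cfsg.Agent.Lib.Helper19.D8Conj

/-- the case of a subgroup of index two isomorphic to the alternating group of degree five -/
theorem s5_case {G : Type*} [Group G] [Finite G] {t w a a' : G}
    (e : ↥(Subgroup.centralizer ({t} : Set G)) ≃* DihedralGroup 4)
    (e' : ↥(Subgroup.centralizer ({w} : Set G)) ≃* DihedralGroup 4) (h : FD t w a a')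
    (M : Subgroup G) (hM : M.index = 2) (f : ↥M ≃* ↥(alternatingGroup (Fin 5))) :
    Nonempty (G ≃* Equiv.Perm (Fin 5)) := by
  haveI hMn : M.Normal := Subgroup.normal_of_index_eq_two hM
  have hmul : ∀ {a b : G}, a * b ∈ M ↔ (a ∈ M ↔ b ∈ M) :=
    fun {a b} => Subgroup.mul_mem_iff_of_index_two hM (a := a) (b := b)
  have htM : t ∈ M := by rw [← h.haa]; exact hmul.mpr Iff.rfl
  have hMcard : Nat.card ↥M = 60 := by
    rw [Nat.card_congr f.toEquiv, nat_card_alternatingGroup, Nat.card_eq_fintype_card,
      Fintype.card_fin]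
    rfl
  have hGcard : Nat.card G = 120 := by
    rw [← M.card_mul_index, hMcard, hM]
  set N : Subgroup G := Subgroup.normalizer
      ((Subgroup.centralizer ({t} : Set G) ⊓ Subgroup.centralizer ({w} : Set G) : Subgroup G) :
        Set G) with hNdef
  have hNcard : Nat.card ↥N = 24 := card_normalizer_four e e' h
  have hNidx : N.index = 5 := by
    have := N.card_mul_index
    rw [hNcard, hGcard] at this
    omega
  haveI : Nontrivial ↥(alternatingGroup (Fin 5)) := IsSimpleGroup.toNontrivial
  haveI : Nontrivial ↥M := f.toEquiv.nontrivial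
  haveI hMs : IsSimpleGroup ↥M :=
    IsSimpleGroup.isSimpleGroup_of_surjective (f.symm.toMonoidHom) f.symm.surjective
  apply perm5_of_core_bot hGcard N hNidx
  set K : Subgroup G := N.normalCore with hKdef
  have hKN : K ≤ N := Subgroup.normalCore_le N
  haveI hKn : K.Normal := Subgroup.normalCore_normal N
  have hKM : ∀ k ∈ K, k ∈ M → k = 1 := by
    haveI : (K.subgroupOf M).Normal := Subgroup.Normal.subgroupOf hKn M
    rcases IsSimpleGroup.eq_bot_or_eq_top_of_normal (K.subgroupOf M) inferInstance with hb | ht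
    · intro k hk hkM
      have : (⟨k, hkM⟩ : ↥M) ∈ K.subgroupOf M := by
        rw [Subgroup.mem_subgroupOf]; exact hk
      rw [hb, Subgroup.mem_bot] at this
      exact congrArg Subtype.val this
    · exfalso
      rw [Subgroup.subgroupOf_eq_top] at ht
      have := Subgroup.card_le_of_le (ht.trans hKN)
      rw [hMcard, hNcard] at this
      omega
  rw [eq_bot_iff]
  intro k hk
  rw [Subgroup.mem_bot]
  by_contra hk1
  have hkM : k ∉ M := fun hkM => hk1 (hKM k hk hkM)
  -- `k` is central
  have hcentral : ∀ g : G, g * k * g⁻¹ = k := by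
    intro g
    have h1 : g * k * g⁻¹ ∈ K := hKn.conj_mem k hk g
    have h2 : g * k * g⁻¹ ∉ M := by
      intro hh
      apply hkM
      have : k = g⁻¹ * (g * k * g⁻¹) * g⁻¹⁻¹ := by group
      rw [this]
      exact hMn.conj_mem _ hh _
    have h3 : g * k * g⁻¹ * k⁻¹ ∈ M :=
      hmul.mpr ⟨fun hh => absurd hh h2, fun hh => absurd (M.inv_mem_iff.mp hh) hkM⟩
    have h4 := hKM _ (K.mul_mem h1 (K.inv_mem hk)) h3
    exact mul_inv_eq_one.mp h4
  have hkt : k = t := by
    apply central_eq_t e h.ht1 k _ hk1
    · intro x _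
      have := hcentral x
      calc x * k = (x * k * x⁻¹) * x := by group
        _ = k * x := by rw [this]
    · rw [Subgroup.mem_centralizer_singleton_iff]
      have := hcentral t
      calc k * t = t⁻¹ * (t * k * t⁻¹) * t * t := by group
        _ = t⁻¹ * k * t * t := by rw [this]
        _ = t * k := by rw [h.ti, mul_assoc, mul_assoc, h.htt, mul_one]
  exact hkM (hkt ▸ htM)

end Cfsg.Agent.Lib.Helper18.CD8
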