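import Mathlib
import Cfsg.Agent.Lib.helper6.CEB.Defs
import Cfsg.Agent.Lib.Helper24.STCI1
import Cfsg.Agent.Lib.Helper5.CEDG2
import Cfsg.Agent.Lib.Helper26.CEDT1
import Cfsg.Agent.Lib.helper6.STBW9
import Cfsg.Agent.Lib.Helper20.STBH2

/-!
# Project CEB (designer helper6; central extensions for the lead's `B_m` family, S2094), rows A1 `t3r_hs` `t3c_hs` and A2 `HT_three` (helper18), VERBATIM.
The torus trick with `g := S.hs d v` (three indices, `q ≥ 5`): CED `CL_tor` for `S.toSysD`.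
-/

set_option autoImplicit false

namespace Cfsg.Agent.Lib.helper6.CEB

open Cfsg.Agent.Lib.helper15.St2 Cfsg.Agent.Lib.helper7.Ce Cfsg.Agent.Lib.helper3.STC Cfsg.Agent.Lib.Lead.STD
  Cfsg.Agent.Lib.helper7.CED Cfsg.Agent.Lib.Lead.STB
open Cfsg.Agent.Lib.helper7.CEC (I2 I3 I4 U3)

universe v w w'

section A

variable {K : Type*} [Field K] {ι : Type*} {Γ G : Type*} [Group Γ] [Group G] {S : SysB K ι G} {σ : Γ →* G}

/-- `ab a ≠ ab b` unpacked -/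
theorem ceba1_ne {a b : ι ⊕ ι} (h : ab a ≠ ab b) : a ≠ b ∧ a ≠ ng b ∧ b ≠ a ∧ b ≠ ng a := by
  refine ⟨?_, ?_, ?_, ?_⟩
  · rintro rfl; exact h rfl
  · intro e; exact h (ab_eq_iff.mpr (Or.inr e))
  · rintro rfl; exact h rfl
  · intro e
    apply h
    rw [e, ab_ng]

/-- A1 [S-M] -/
theorem t3r_hs [DecidableEq ι] [Finite K] (h : IsCE σ) (v : K) (hv0 : v ≠ 0) (hv2 : v ^ 2 ≠ 1) :
    ∀ a b d : ι ⊕ ι, ab a ≠ ab b → ab a ≠ ab d → ab b ≠ ab d → ∀ t u : K, CL σ (S.x a b t) (S.x a d u) := by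
  intro a b d hab had hbd t u
  obtain ⟨ab1, ab2, ba1, ba2⟩ := ceba1_ne hab
  obtain ⟨ad1, ad2, da1, da2⟩ := ceba1_ne had
  obtain ⟨bd1, bd2, db1, db2⟩ := ceba1_ne hbd
  refine CL_tor (S := S.toSysD) h ab1 ad1 ad2 (S.hs d v) (dhb d v) (S.isMon_hs d v hv0).1 ?_ ?_ ?_ t u
  · rw [stbw9_dhb_of_ne ad1 ad2, stbw9_dhb_of_ne bd1 bd2, inv_one, mul_one]
  · rw [stbw9_dhb_of_ne ad1 ad2, stbw9_dhb_a, one_mul]
    intro e
    apply hv2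
    rw [← inv_inv (v ^ 2), e, inv_one]
  · intro t' u'
    exact S.comm a b a d ab1 ab2 ad1 ad2 ba1 ad1 bd2 (ne_ng a) t' u'

/-- A1 [S-M]  `g := S.hs c v` fixes `x a b` and scales `x c b` by `v²`. -/
theorem t3c_hs [DecidableEq ι] [Finite K] (h : IsCE σ) (v : K) (hv0 : v ≠ 0) (hv2 : v ^ 2 ≠ 1) :
    ∀ a b c : ι ⊕ ι, ab a ≠ ab b → ab c ≠ ab b → ab a ≠ ab c → ∀ t u : K, CL σ (S.x a b t) (S.x c b u) := by
  intro a b c hab hcb hac t u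
  obtain ⟨ab1, ab2, ba1, ba2⟩ := ceba1_ne hab
  obtain ⟨cb1, cb2, bc1, bc2⟩ := ceba1_ne hcb
  obtain ⟨ac1, ac2, ca1, ca2⟩ := ceba1_ne hac
  refine CL_tor (S := S.toSysD) h ab1 cb1 cb2 (S.hs c v) (dhb c v) (S.isMon_hs c v hv0).1 ?_ ?_ ?_ t u
  · rw [stbw9_dhb_of_ne ac1 ac2, stbw9_dhb_of_ne bc1 bc2, inv_one, mul_one]
  · rw [stbw9_dhb_a, stbw9_dhb_of_ne bc1 bc2, inv_one, mul_one]
    exact hv2
  · intro t' u'
    exact S.comm a b c b ab1 ab2 cb1 cb2 bc1 ab1 (ne_ng b) ac2 t' u'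

/-- A2 [S]  model CEC T12 `HT_three` -/
theorem HT_three [DecidableEq ι] [Finite K] (h : IsCE σ) (h3 : I3 ι) (u3 : U3 ι) (v : K) (hv0 : v ≠ 0) (hv2 : v ^ 2 ≠ 1) :
    HT S.toSysD σ := by
  refine ⟨t1_milnor h h3, t3r_hs h v hv0 hv2, t3c_hs h v hv0 hv2, ?_⟩
  intro a b c d hab hcd hac had hbc hbd t u
  exfalso
  exact hcd (u3 a b c d hab (Ne.symm hac) (Ne.symm hbc) (Ne.symm had) (Ne.symm hbd))

end A

end Cfsg.Agent.Lib.helper6.CEB
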