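import Mathlib
import Cfsg.Agent.Lib.helper6.CEB.Defs
import Cfsg.Agent.Lib.Helper24.STCI1
import Cfsg.Agent.Lib.Helper21.CEBZ1
import Cfsg.Agent.Lib.helper6.STBW9
import Cfsg.Agent.Lib.helper6.STBW13

/-!
# Project CEB (designer helper6; central extensions for the lead's `B_m` family, S2094), rows R2 `lift_ls` and R4 `lift_rels` (helper18), CORES:
`cebr2_core` on the statement of Z7 `Ds_eq_Xsh`, `cebr4_core` on the statement of Z9 `Xsh_cj`; Z8 `Xsh_map` is proved here under the own name `cebr2_Xsh_map` (on Z3 `Ds_map`, `Helper21.CEBZ1`).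
-/

set_option autoImplicit false

namespace Cfsg.Agent.Lib.helper6.CEB

open Cfsg.Agent.Lib.helper15.St2 Cfsg.Agent.Lib.helper7.Ce Cfsg.Agent.Lib.helper3.STC Cfsg.Agent.Lib.Lead.STD
  Cfsg.Agent.Lib.helper7.CED Cfsg.Agent.Lib.Lead.STB
open Cfsg.Agent.Lib.helper7.CEC (I2 I3 I4 U3)

universe v w w'

section R

variable {K : Type*} [Field K] {ι : Type*} {Γ G : Type*} [Group Γ] [Group G] {S : SysB K ι G} {σ : Γ →* G}

/-- own-name copy of Z8 `Xsh_map` -/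
theorem cebr2_Xsh_map (h : IsCE σ) (P : SysD K ι Γ) (hP : ∀ a b t, σ (P.x a b t) = S.x a b t) (h2 : I2 ι) (a : ι ⊕ ι) (s : K) :
    σ (Xsh S h P h2 a s) = S.xs a s := by
  unfold Xsh
  rw [Ds_map h P hP (Ne.symm (Classical.choose_spec (h2 a))) s 1, mul_one]

/-- `a ≠ b`, `a ≠ ng b` packed -/
theorem cebr2_ab {a b : ι ⊕ ι} (hab : a ≠ b) (hab' : a ≠ ng b) : ab a ≠ ab b := by
  intro e
  rcases ab_eq_iff.mp e with e | e
  · exact hab e
  · exact hab' e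

/-- the core of R2 `lift_ls`: `hDX` is the statement of Z7 `Ds_eq_Xsh`. -/
theorem cebr2_core (h : IsCE σ) (h2 : I2 ι) (P : SysD K ι Γ) (hP : ∀ a b t, σ (P.x a b t) = S.x a b t)
    (hDX : ∀ {a b : ι ⊕ ι}, ab a ≠ ab b → ∀ t u : K, Ds S h P a b t u = Xsh S h P h2 a (t * u))
    {a b : ι ⊕ ι} (hab : a ≠ b) (hab' : a ≠ ng b) (t u : K) :
    P.x a b t * Xsh S h P h2 b u * (P.x a b t)⁻¹ * (Xsh S h P h2 b u)⁻¹ = Xsh S h P h2 a (t * u) * P.x a (ng b) (t * u ^ 2) := by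
  have e1 : cm (P.x a b t) (Xsh S h P h2 b u) = Zs S h a b t u := Zs_eq h (hP a b t) (cebr2_Xsh_map h P hP h2 b u)
  have e2 : Zs S h a b t u = Ds S h P a b t u * P.x a (ng b) (t * u ^ 2) := by
    unfold Ds
    rw [inv_mul_cancel_right]
  show cm (P.x a b t) (Xsh S h P h2 b u) = _
  rw [e1, e2, hDX (cebr2_ab hab hab') t u]

/-- the core of R4 `lift_rels`: `hXcj` is the statement of Z9 `Xsh_cj`. -/
theorem cebr4_core [DecidableEq ι] (h : IsCE σ) (h2 : I2 ι) (P : SysD K ι Γ) (hP : ∀ a b t, σ (P.x a b t) = S.x a b t)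
    (hXcj : ∀ {g : G} {π : Equiv.Perm (ι ⊕ ι)} {d : ι ⊕ ι → K} {d0 : K}, S.IsMon g π d d0 → ∀ {e : Γ}, σ e = g → ∀ (a : ι ⊕ ι) (s : K),
      cj e (Xsh S h P h2 a s) = Xsh S h P h2 (π a) (d a * d0 * s))
    (a : ι ⊕ ι) (t u : K) (ht : t ≠ 0) :
    cj (Xsh S h P h2 a t * Xsh S h P h2 (ng a) t⁻¹ * Xsh S h P h2 a t) (Xsh S h P h2 a u) = Xsh S h P h2 (ng a) (t⁻¹ ^ 2 * u) := by
  have he : σ (Xsh S h P h2 a t * Xsh S h P h2 (ng a) t⁻¹ * Xsh S h P h2 a t) = S.ws a t := by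
    rw [map_mul, map_mul, cebr2_Xsh_map h P hP h2, cebr2_Xsh_map h P hP h2]
    rfl
  rw [hXcj (S.isMon_ws a t ht) he a u, SysB.swb_self, stbw9_dwb_a]
  congr 1
  ring

end R

end Cfsg.Agent.Lib.helper6.CEB
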