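import Mathlib
import Cfsg.Agent.Lib.helper6.CEB.Defs
import Cfsg.Agent.Lib.Helper18.CEBR2core
import Cfsg.Agent.Lib.helper6.CEBZ5
import Cfsg.Agent.Lib.Helper21.CEBZ9

/-!
# Project CEB (designer helper6; central extensions for the lead's `B_m` family, S2094), rows R2 `lift_ls` and R4 `lift_rels` (helper18), VERBATIM:
`cebr2_core` / `cebr4_core` (`Helper18.CEBR2core`) at Z7 `Ds_eq_Xsh` (`helper6.CEBZ5`) and Z9 `Xsh_cj` (`Helper21.CEBZ9`).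
-/

set_option autoImplicit false

namespace Cfsg.Agent.Lib.helper6.CEB

open Cfsg.Agent.Lib.helper15.St2 Cfsg.Agent.Lib.helper7.Ce Cfsg.Agent.Lib.helper3.STC Cfsg.Agent.Lib.Lead.STD
  Cfsg.Agent.Lib.helper7.CED Cfsg.Agent.Lib.Lead.STB
open Cfsg.Agent.Lib.helper7.CEC (I2 I3 I4 U3)

universe v w w'

section R

variable {K : Type*} [Field K] {ι : Type*} {Γ G : Type*} [Group Γ] [Group G] {S : SysB K ι G} {σ : Γ →* G}

/-- R2 [S-M]  the relation `ls` for the lifts -/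
theorem lift_ls [DecidableEq ι] [Finite K] (h : IsCE σ) (hCs : HCs S σ) (hSs : HSs S σ) (h2 : I2 ι) (h3 : I3 ι) (P : SysD K ι Γ)
    (hP : ∀ a b t, σ (P.x a b t) = S.x a b t) {a b : ι ⊕ ι} (hab : a ≠ b) (hab' : a ≠ ng b) (t u : K) :
    P.x a b t * Xsh S h P h2 b u * (P.x a b t)⁻¹ * (Xsh S h P h2 b u)⁻¹ = Xsh S h P h2 a (t * u) * P.x a (ng b) (t * u ^ 2) :=
  cebr2_core h h2 P hP (fun hab t u => Ds_eq_Xsh h hCs hSs h2 h3 P hP hab t u) hab hab' t u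

/-- R4 [S-M]  the relation `rels` for the lifts -/
theorem lift_rels [DecidableEq ι] [Finite K] (h : IsCE σ) (hCs : HCs S σ) (hSs : HSs S σ) (h2 : I2 ι) (h3 : I3 ι) (P : SysD K ι Γ)
    (hP : ∀ a b t, σ (P.x a b t) = S.x a b t) (a : ι ⊕ ι) (t u : K) (ht : t ≠ 0) :
    cj (Xsh S h P h2 a t * Xsh S h P h2 (ng a) t⁻¹ * Xsh S h P h2 a t) (Xsh S h P h2 a u) = Xsh S h P h2 (ng a) (t⁻¹ ^ 2 * u) :=
  cebr4_core h h2 P hP (fun hg _ he a s => Xsh_cj h hCs hSs h2 h3 P hP hg he a s) a t u ht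

end R

end Cfsg.Agent.Lib.helper6.CEB
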