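import Mathlib
import Cfsg.Agent.Lib.helper7.CEC.Defs
import Cfsg.Agent.Lib.Helper21.STCM.GenTop
import Cfsg.Prelude.Def_Classical
import Cfsg.Prelude.Def_KGroupFacts

/-!
# Project CEC (S2092, designer helper7), row M1 (`split_of_sysC_core`) (helper18), VERBATIM (Defs only).
-/

set_option autoImplicit false

namespace Cfsg.Agent.Lib.helper7.CEC

open Cfsg.Agent.Lib.helper15.St2 Cfsg.Agent.Lib.helper7.Ce Cfsg.Agent.Lib.helper3.STC

section M

open Cfsg.Agent.Lib.helper3.STC.Mat Matrix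

universe u

/-- the root elements of a system lie in the subgroup they generate -/
theorem cecm1_x_mem {K : Type*} [Field K] {ι : Type*} {Γ : Type*} [Group Γ] (P : SysC K ι Γ)
    (a b : ι ⊕ ι) (t : K) : P.x a b t ∈ P.XQ (fun _ _ => True) := by
  by_cases h : a = b
  · rw [h, P.diag]; exact one_mem _
  · exact Subgroup.subset_closure ⟨a, b, t, h, trivial, rfl⟩

/-- a Steinberg system of type `C`, restricted to the subgroup generated by its root elements -/
def cecm1_res {K : Type*} [Field K] {ι : Type*} {Γ : Type*} [Group Γ] (P : SysC K ι Γ) :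
    SysC K ι (P.XQ (fun _ _ => True)) where
  x a b t := ⟨P.x a b t, cecm1_x_mem P a b t⟩
  diag a t := Subtype.ext (P.diag a t)
  sym a b hab t := Subtype.ext (P.sym a b hab t)
  add a b hab t u := Subtype.ext (P.add a b hab t u)
  comm a b c d hab hcd hbc had hbd hac t u := Subtype.ext (P.comm a b c d hab hcd hbc had hbd hac t u)
  comm3 a b c hab hab' hbc hbc' hac hac' t u := Subtype.ext (P.comm3 a b c hab hab' hbc hbc' hac hac' t u)
  ssl a b hab hab' t u := Subtype.ext (P.ssl a b hab hab' t u)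
  ls a b hab hab' t u := Subtype.ext (P.ls a b hab hab' t u)
  rel a b hab t u ht := Subtype.ext (P.rel a b hab t u ht)

theorem cecm1_res_gen {K : Type*} [Field K] {ι : Type*} {Γ : Type*} [Group Γ] (P : SysC K ι Γ) :
    (cecm1_res P).XQ (fun _ _ => True) = ⊤ := by
  have h : {g : P.XQ (fun _ _ => True) | ∃ (a b : ι ⊕ ι) (t : K),
        a ≠ b ∧ True ∧ g = (cecm1_res P).x a b t} =
      ((↑) : P.XQ (fun _ _ => True) → Γ) ⁻¹' {g | ∃ a b t, a ≠ b ∧ True ∧ g = P.x a b t} := by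
    ext ⟨g, hg⟩
    constructor
    · rintro ⟨a, b, t, hab, -, h⟩
      exact ⟨a, b, t, hab, trivial, congrArg Subtype.val h⟩
    · rintro ⟨a, b, t, hab, -, h⟩
      exact ⟨a, b, t, hab, trivial, Subtype.ext h⟩
  show Subgroup.closure {g : P.XQ (fun _ _ => True) | ∃ (a b : ι ⊕ ι) (t : K),
        a ≠ b ∧ True ∧ g = (cecm1_res P).x a b t} = ⊤
  rw [h]
  exact Subgroup.closure_closure_coe_preimage

/-- M1 [M] -/
theorem split_of_sysC_core {K : Type*} [Field K] {ι : Type*} {Γ G : Type*} [Group Γ] [Group G] {l : Type*} [Fintype l] [DecidableEq l]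
    (S : SysC K ι G) (R : S.Rep l) (hgen : S.XQ (fun _ _ => True) = ⊤) {σ : Γ →* G}
    (P : SysC K ι Γ) (hP : ∀ a b t, σ (P.x a b t) = S.x a b t)
    (hinj : ∀ (Γ₀ : Subgroup Γ) (P₀ : SysC K ι Γ₀) (R₀ : P₀.Rep l), P₀.XQ (fun _ _ => True) = ⊤ → Function.Injective R₀.φ) :
    ∃ s : G →* Γ, ∀ g, σ (s g) = g := by
  set Γ₀ : Subgroup Γ := P.XQ (fun _ _ => True) with hΓ₀
  let τ : Γ₀ →* G := σ.comp Γ₀.subtype
  let R₀ : (cecm1_res P).Rep l :=
    { e := R.e
      φ := R.φ.comp τ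
      hφ := fun a b hab t => by
        have h := R.hφ a b hab t
        rw [← hP a b t] at h
        exact h }
  have hinj₀ : Function.Injective (R.φ.comp τ) := hinj Γ₀ (cecm1_res P) R₀ (cecm1_res_gen P)
  have hτinj : Function.Injective τ := by
    intro x y hxy
    apply hinj₀
    show R.φ (τ x) = R.φ (τ y)
    rw [hxy]
  have hτsurj : Function.Surjective τ := by
    rw [← MonoidHom.range_eq_top, eq_top_iff, ← hgen]
    show Subgroup.closure {g | ∃ a b t, a ≠ b ∧ True ∧ g = S.x a b t} ≤ τ.range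
    rw [Subgroup.closure_le]
    rintro _ ⟨a, b, t, -, -, rfl⟩
    exact ⟨⟨P.x a b t, cecm1_x_mem P a b t⟩, hP a b t⟩
  let e : Γ₀ ≃* G := MulEquiv.ofBijective τ ⟨hτinj, hτsurj⟩
  refine ⟨Γ₀.subtype.comp e.symm.toMonoidHom, ?_⟩
  intro g
  show τ (e.symm g) = g
  exact e.apply_symm_apply g

end M

end Cfsg.Agent.Lib.helper7.CEC
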