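import Mathlib
import Cfsg.Agent.Lib.helper7.CEC.Defs
import Cfsg.Agent.Lib.Helper21.STCM.GenTop
import Cfsg.Prelude.Def_Classical
import Cfsg.Prelude.Def_KGroupFacts
import Cfsg.Agent.S0246

/-!
# Project CEC (S2092, designer helper7), row M8 (`center_sp`) (helper18), VERBATIM; on `Cfsg.Agent.S0246.result`
(the order of the centre of `Sp_{2m}(q)`).
-/

set_option autoImplicit false

namespace Cfsg.Agent.Lib.helper7.CEC

open Cfsg.Agent.Lib.helper15.St2 Cfsg.Agent.Lib.helper7.Ce Cfsg.Agent.Lib.helper3.STC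

section M

open Cfsg.Agent.Lib.helper3.STC.Mat Matrix

universe u

variable {F : Type u} [Field F] [Fintype F]

/-- M8 [M-L] -/
theorem center_sp (m : ℕ) (hm : 1 ≤ m) :
    IsCyclic (Subgroup.center (symplecticGroup (Fin m) F)) ∧
      Nat.card (Subgroup.center (symplecticGroup (Fin m) F)) = Nat.gcd 2 (Fintype.card F - 1) := by
  have hcard := Cfsg.Agent.S0246.result (F := F) (q := Fintype.card F) rfl m hm
  refine ⟨?_, hcard⟩
  have hdvd : Nat.gcd 2 (Fintype.card F - 1) ∣ 2 := Nat.gcd_dvd_left _ _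
  have h12 : Nat.gcd 2 (Fintype.card F - 1) = 1 ∨ Nat.gcd 2 (Fintype.card F - 1) = 2 :=
    (Nat.dvd_prime Nat.prime_two).mp hdvd
  rcases h12 with h1 | h2
  · rw [h1] at hcard
    haveI : Subsingleton (Subgroup.center (symplecticGroup (Fin m) F)) :=
      (Nat.card_eq_one_iff_unique.mp hcard).1
    exact isCyclic_of_subsingleton
  · rw [h2] at hcard
    haveI : Fact (Nat.Prime 2) := ⟨Nat.prime_two⟩
    exact isCyclic_of_prime_card hcard

end M

end Cfsg.Agent.Lib.helper7.CEC
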