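import Mathlib
import Cfsg.Agent.Lib.helper7.CEC.Defs
import Cfsg.Agent.Lib.Helper21.STCM.GenTop
import Cfsg.Prelude.Def_Classical
import Cfsg.Prelude.Def_KGroupFacts
import Cfsg.Agent.Lib.helper7.CeH
import Cfsg.Agent.Lib.Helper18.CECM8

/-!
# Project CEC (S2092, designer helper7), row M9 (`psp_mult`) (helper18), VERBATIM: copy of helper7's `Ce.psl_mult`
with `center_sp` (M8).
-/

set_option autoImplicit false

namespace Cfsg.Agent.Lib.helper7.CEC

open Cfsg.Agent.Lib.helper15.St2 Cfsg.Agent.Lib.helper7.Ce Cfsg.Agent.Lib.helper3.STC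

section M

open Cfsg.Agent.Lib.helper3.STC.Mat Matrix

universe u

variable {F : Type u} [Field F] [Fintype F]

/-- M9 [M] -/
theorem psp_mult (m : ℕ) (hm : 1 ≤ m)
    (hSp : Cfsg.HasCyclicSchurMultiplier (symplecticGroup (Fin m) F) 1)
    (hperf : commutator (symplecticGroup (Fin m) F) = ⊤) :
    Cfsg.HasCyclicSchurMultiplier (Cfsg.PSp m F) (Nat.gcd 2 (Fintype.card F - 1)) := by
  classical
  have hfin : Finite (symplecticGroup (Fin m) F) := Subtype.finite
  set σ : symplecticGroup (Fin m) F →* Cfsg.PSp m F :=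
    QuotientGroup.mk' (Subgroup.center (symplecticGroup (Fin m) F)) with hσdef
  have hker : σ.ker = Subgroup.center (symplecticGroup (Fin m) F) := QuotientGroup.ker_mk' _
  have hσ : Cfsg.IsStemExtension σ := by
    refine ⟨QuotientGroup.mk'_surjective _, ?_, ?_⟩
    · rw [hker]
    · rw [hperf]; exact le_top
  obtain ⟨hcyc, hcard⟩ := center_sp (F := F) m hm
  obtain ⟨e0⟩ := cyclic_equiv hcyc _ hcard
  have e : Multiplicative (ZMod (Nat.gcd 2 (Fintype.card F - 1))) ≃* σ.ker :=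
    e0.trans (MulEquiv.subgroupCongr hker.symm)
  refine ⟨⟨symplecticGroup (Fin m) F, inferInstance, hfin, σ, hσ, ⟨e.symm⟩⟩, ?_⟩
  intro Δ _ _ τ hτ
  have hfinQ : Finite (Cfsg.PSp m F) :=
    Finite.of_surjective σ (QuotientGroup.mk'_surjective _)
  obtain ⟨π, hπ⟩ := Cfsg.Agent.Lib.helper23.scv_cover_of_trivial σ hσ hSp Δ τ hτ
  exact ⟨π.comp e.toMonoidHom, hπ.comp e.surjective⟩

end M

end Cfsg.Agent.Lib.helper7.CEC
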