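import Mathlib
import Cfsg.Agent.Lib.helper7.CED.Defs
import Cfsg.Agent.Lib.Helper22.CECG1
import Cfsg.Agent.Lib.Lead.STDB1
import Cfsg.Agent.Lib.helper6.STDW14
import Cfsg.Agent.Lib.Helper16.STDW13
import Cfsg.Agent.Lib.Helper16.STDH3
import Cfsg.Agent.Lib.Helper28.STDK3
import Cfsg.Agent.Lib.Helper18.STDR5
import Cfsg.Agent.Lib.Lead.SPN.Defs

/-!
# Project CED (S2096 + S2097, designer helper7), row M6 (`split_of_sysD`): the CORE (helper18), on the STATEMENT of M5 `ker_le_zz`.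
Model: `Helper18.CECM1`.
-/

set_option autoImplicit false

namespace Cfsg.Agent.Lib.helper7.CED

open Cfsg.Agent.Lib.helper15.St2 Cfsg.Agent.Lib.helper7.Ce Cfsg.Agent.Lib.helper3.STC Cfsg.Agent.Lib.Lead.STD
  Cfsg.Agent.Lib.helper7.CEC

section M'

universe v w w'

variable {K : Type*} [Field K]

/-- the root elements of a system lie in the subgroup they generate -/
theorem cedm6_x_mem {ι : Type*} {Γ : Type*} [Group Γ] (P : SysD K ι Γ)
    (a b : ι ⊕ ι) (t : K) : P.x a b t ∈ P.XQ (fun _ _ => True) := by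
  by_cases h : a = b
  · rw [h, P.diag]; exact one_mem _
  · by_cases h' : a = ng b
    · have := P.opp (ng b) t
      rw [ng_ng] at this
      rw [h', this]; exact one_mem _
    · exact Subgroup.subset_closure ⟨a, b, t, h, h', trivial, rfl⟩

/-- the restricted system is generated -/
theorem cedm6_res_gen {ι : Type*} {Γ : Type*} [Group Γ] (P : SysD K ι Γ) :
    (P.restrict (P.XQ (fun _ _ => True)) (cedm6_x_mem P)).XQ (fun _ _ => True) = ⊤ := by
  have h : {g : P.XQ (fun _ _ => True) | ∃ (a b : ι ⊕ ι) (t : K),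
        a ≠ b ∧ a ≠ ng b ∧ True ∧ g = (P.restrict (P.XQ (fun _ _ => True)) (cedm6_x_mem P)).x a b t} =
      ((↑) : P.XQ (fun _ _ => True) → Γ) ⁻¹' {g | ∃ a b t, a ≠ b ∧ a ≠ ng b ∧ True ∧ g = P.x a b t} := by
    ext ⟨g, hg⟩
    constructor
    · rintro ⟨a, b, t, hab, hab', -, h⟩
      exact ⟨a, b, t, hab, hab', trivial, congrArg Subtype.val h⟩
    · rintro ⟨a, b, t, hab, hab', -, h⟩
      exact ⟨a, b, t, hab, hab', trivial, Subtype.ext h⟩
  show Subgroup.closure {g : P.XQ (fun _ _ => True) | ∃ (a b : ι ⊕ ι) (t : K),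
        a ≠ b ∧ a ≠ ng b ∧ True ∧ g = (P.restrict (P.XQ (fun _ _ => True)) (cedm6_x_mem P)).x a b t} = ⊤
  rw [h]
  exact Subgroup.closure_closure_coe_preimage

/-- a homomorphism matching the root elements matches the spin elements -/
theorem cedm6_map_zz {ι : Type*} {Γ G : Type*} [Group Γ] [Group G] (S : SysD K ι G) (P : SysD K ι Γ) (σ : Γ →* G)
    (hP : ∀ a b t, σ (P.x a b t) = S.x a b t) (a b : ι ⊕ ι) : σ (zz P a b) = zz S a b := by
  unfold zz SysD.h SysD.w
  simp only [map_mul, hP]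

/-- M6 on the statement of M5 `ker_le_zz` -/
theorem cedm6_core {ι : Type v} {Γ : Type w} {G : Type w'} [Group Γ] [Group G] {l : Type*} [Fintype l] [DecidableEq l]
    (S : SysD K ι G) (R : S.Rep l) (hgen : S.XQ (fun _ _ => True) = ⊤) {a b : ι ⊕ ι}
    (hspin : zz S a b = 1 → (2 : K) = 0) {σ : Γ →* G}
    (P : SysD K ι Γ) (hP : ∀ a b t, σ (P.x a b t) = S.x a b t)
    (hM5 : ∀ (Γ₀ : Subgroup Γ) (P₀ : SysD K ι Γ₀) (R₀ : P₀.Rep l), P₀.XQ (fun _ _ => True) = ⊤ →
      ∀ g, R₀.φ g = 1 → g = 1 ∨ g = zz P₀ a b) :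
    ∃ s : G →* Γ, ∀ g, σ (s g) = g := by
  set Γ₀ : Subgroup Γ := P.XQ (fun _ _ => True) with hΓ₀
  let τ : Γ₀ →* G := σ.comp Γ₀.subtype
  let P₀ : SysD K ι Γ₀ := P.restrict Γ₀ (cedm6_x_mem P)
  let R₀ : P₀.Rep l :=
    { e := R.e
      φ := R.φ.comp τ
      hφ := fun a b hab hab' t => by
        have h := R.hφ a b hab hab' t
        rw [← hP a b t] at h
        exact h }
  have hker : ∀ g : Γ₀, τ g = 1 → g = 1 := by
    intro g hg
    have h1 : R₀.φ g = 1 := by
      show R.φ (τ g) = 1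
      rw [hg, map_one]
    rcases hM5 Γ₀ P₀ R₀ (cedm6_res_gen P) g h1 with h | h
    · exact h
    · have h2 : τ (zz P₀ a b) = zz S a b :=
        cedm6_map_zz S P₀ τ (fun a b t => hP a b t) a b
      rw [← h, hg] at h2
      have h3 : (2 : K) = 0 := hspin h2.symm
      have h4 : (-1 : K) = 1 := by
        have : (1 : K) + 1 = 0 := by rw [one_add_one_eq_two]; exact h3
        exact neg_eq_of_add_eq_zero_left this
      rw [h]
      unfold zz
      rw [h4, SysD.h_one, SysD.h_one, one_mul]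
  have hτinj : Function.Injective τ := (injective_iff_map_eq_one τ).mpr hker
  have hτsurj : Function.Surjective τ := by
    rw [← MonoidHom.range_eq_top, eq_top_iff, ← hgen]
    show Subgroup.closure {g | ∃ a b t, a ≠ b ∧ a ≠ ng b ∧ True ∧ g = S.x a b t} ≤ τ.range
    rw [Subgroup.closure_le]
    rintro _ ⟨a, b, t, -, -, -, rfl⟩
    exact ⟨⟨P.x a b t, cedm6_x_mem P a b t⟩, hP a b t⟩
  let e : Γ₀ ≃* G := MulEquiv.ofBijective τ ⟨hτinj, hτsurj⟩
  refine ⟨Γ₀.subtype.comp e.symm.toMonoidHom, ?_⟩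
  intro g
  show τ (e.symm g) = g
  exact e.apply_symm_apply g

end M'

end Cfsg.Agent.Lib.helper7.CED
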