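import Mathlib
import Cfsg.Agent.Lib.helper7.CED.Defs
import Cfsg.Agent.Lib.Helper22.CECG1
import Cfsg.Agent.Lib.Lead.STDB1
import Cfsg.Agent.Lib.helper6.STDW14
import Cfsg.Agent.Lib.Helper16.STDW13
import Cfsg.Agent.Lib.Helper16.STDH3
import Cfsg.Agent.Lib.Helper28.STDK3
import Cfsg.Agent.Lib.Helper18.STDR5
import Cfsg.Agent.Lib.Lead.SPN.Defs
import Cfsg.Agent.Lib.Helper18.CEDM6core
import Cfsg.Agent.Lib.Helper16.CEDM5

/-!
# Project CED (S2096 + S2097, designer helper7), row M6 (`split_of_sysD`) (helper18), VERBATIM vs `helper7/CED/Skel.lean.txt`.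
Wrapper of `Helper18.CEDM6core` on M5 `ker_le_zz` (`Helper16.CEDM5`).
-/

set_option autoImplicit false

namespace Cfsg.Agent.Lib.helper7.CED

open Cfsg.Agent.Lib.helper15.St2 Cfsg.Agent.Lib.helper7.Ce Cfsg.Agent.Lib.helper3.STC Cfsg.Agent.Lib.Lead.STD
  Cfsg.Agent.Lib.helper7.CEC

section M'

universe v w w'

variable {K : Type*} [Field K] [Finite K]

/-- M6 [M-L]  model CEC M1 `split_of_sysC_core` (`Helper18.CECM1`).  `Γ₀ := P.XQ (fun _ _ => True)`; `P₀ := P.restrict Γ₀ _ : SysD K ι Γ₀`; `R₀ : P₀.Rep l` with `φ := R.φ.comp (σ.comp Γ₀.subtype)` (`hP`, `R.hφ`);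
`P₀.XQ (fun _ _ => True) = ⊤`.  `σ` is injective on `Γ₀`: if `σ g = 1` then `R₀.φ g = 1`, so `g = 1` or `g = zz P₀ a b` (`ker_le_zz`); in the second case `zz S a b = σ (zz P a b) = σ g = 1` (`zz_restrict`, `zz_map` for
`P.map σ`, whose root elements are those of `S` by `hP`: or directly `unfold zz SysD.h SysD.w`, `map_mul`, `hP`), so `2 = 0` in `K` (`hspin`), `-1 = 1`, and `zz P₀ a b = h 1 * h 1 = 1` (`h_one`).
`σ` maps `Γ₀` onto `G` (`hgen`: the image contains the generators `S.x a b t`); `s :=` the inverse (`MulEquiv.ofBijective`) followed by `Γ₀.subtype`. -/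
theorem split_of_sysD {ι : Type v} [Finite ι] [DecidableEq ι] {Γ : Type w} {G : Type w'} [Group Γ] [Group G] {l : Type*} [Fintype l] [DecidableEq l]
    (S : SysD K ι G) (R : S.Rep l) (hgen : S.XQ (fun _ _ => True) = ⊤) (h3 : I3 ι) {a b : ι ⊕ ι} (hab : ab a ≠ ab b)
    (hspin : zz S a b = 1 → (2 : K) = 0) {σ : Γ →* G}
    (P : SysD K ι Γ) (hP : ∀ a b t, σ (P.x a b t) = S.x a b t) :
    ∃ s : G →* Γ, ∀ g, σ (s g) = g :=
  cedm6_core S R hgen hspin P hP (fun Γ₀ P₀ R₀ hg g hg1 => ker_le_zz P₀ R₀ hg h3 hab g hg1)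

end M'

end Cfsg.Agent.Lib.helper7.CED
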