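import Mathlib
import Cfsg.Agent.Lib.helper17.CEM.Defs
import Cfsg.Agent.Lib.Helper24.CECM3
import Cfsg.Agent.Lib.Helper24.CEMT1
import Cfsg.Agent.Lib.helper14.CEDY4
import Cfsg.Agent.Lib.Helper5.CEDY10
import Cfsg.Agent.Lib.helper7.CEDS5
import Cfsg.Agent.Lib.helper6.STDW14

/-!
# Project CEM (designer helper17; central extensions for the family S2099), row Y5 (helper18), CORE of `exists_longLift`:
the lifted long root system, from the statements of Y2 `Ys_B_tor`, Y3 `Ys_B_two`, Y4 `Ys_I_three`, F3 `exists_nm_ne_one`, F4 `field_two` (T1 `HC_long`, T4 `HLS_all`: `Helper24.CEMT1`;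
CED `Ys_BI_four`, `rootLift_four`, `exists_sysD` as they are).
-/

set_option autoImplicit false

namespace Cfsg.Agent.Lib.helper17.CEM

open Cfsg.Agent.Lib.helper15.St2 Cfsg.Agent.Lib.helper7.Ce Cfsg.Agent.Lib.helper3.STC Cfsg.Agent.Lib.Lead.STD
  Cfsg.Agent.Lib.helper7.CEC Cfsg.Agent.Lib.helper7.CED Cfsg.Agent.Lib.helper17.STM

section Y

variable {F : Type*} [Field F] [Finite F] {A B : F} [Fact (∀ r : F, r ^ 2 ≠ -B + A * r)] {ι : Type*} {Γ G : Type*} [Group Γ] [Group G]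
  {S : SysM F A B ι G} {σ : Γ →* G}

/-- the core of Y5: the hypotheses are the statements of Y2, Y3, Y4 (at `S`, `h`) and of F3, F4. -/
theorem cemy5_core {m : ℕ} (hm : 3 ≤ m) {S : SysM F A B (Fin m) G} (h : IsCE σ)
    (hY2 : ∀ v : Kq F A B, v ≠ 0 → nm v ≠ 1 → PB S.toSysD h)
    (hY3 : (∀ t : F, t = 0 ∨ t = 1) → PB S.toSysD h)
    (hY4 : U3 (Fin m) → PI S.toSysD h)
    (hF3 : 3 ≤ Nat.card F → ∃ v : Kq F A B, v ≠ 0 ∧ nm v ≠ 1)
    (hF4 : Nat.card F = 2 → ∀ t : F, t = 0 ∨ t = 1) : Nonempty (LongLift S σ) := by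
  have hC : HC S.toSysD σ := HC_long h
  have h3 : I3 (Fin m) := I3_fin hm
  have hBI : PB S.toSysD h ∧ PI S.toSysD h := by
    rcases Nat.lt_or_ge m 4 with h4 | h4
    · have hm3 : m = 3 := by omega
      subst hm3
      refine ⟨?_, hY4 U3_fin⟩
      have hc2 : 1 < Nat.card F := Finite.one_lt_card
      rcases Nat.lt_or_ge (Nat.card F) 3 with hq | hq
      · exact hY3 (hF4 (by omega))
      · obtain ⟨v, hv0, hv1⟩ := hF3 hq
        exact hY2 v hv0 hv1
    · exact Ys_BI_four h hC (I4_fin h4)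
  obtain ⟨L, -⟩ := rootLift_four h hC h3 hBI.1 hBI.2
  obtain ⟨P, hP⟩ := exists_sysD hC S.toSysD.hW_all h3 L
  exact ⟨⟨P, hP⟩⟩

end Y

end Cfsg.Agent.Lib.helper17.CEM
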