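import Mathlib
import Cfsg.Agent.Lib.helper17.CEM.Defs
import Cfsg.Agent.Lib.Helper24.CECM3
import Cfsg.Agent.Lib.Helper24.CEMT1
import Cfsg.Agent.Lib.Helper20.CEMY1
import Cfsg.Agent.Lib.Helper19.CEMF3
import Cfsg.Agent.Lib.Helper18.CEMY5core

/-!
# Project CEM (designer helper17; central extensions for the family S2099), row Y5 (helper18), VERBATIM: `exists_longLift`
= `cemy5_core` (`Helper18.CEMY5core`) at Y2 Y3 Y4 (`Helper20.CEMY1`), F3 F4 (`Helper19.CEMF3`), T1 T4 (`Helper24.CEMT1`).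
-/

set_option autoImplicit false

namespace Cfsg.Agent.Lib.helper17.CEM

open Cfsg.Agent.Lib.helper15.St2 Cfsg.Agent.Lib.helper7.Ce Cfsg.Agent.Lib.helper3.STC Cfsg.Agent.Lib.Lead.STD
  Cfsg.Agent.Lib.helper7.CEC Cfsg.Agent.Lib.helper7.CED Cfsg.Agent.Lib.helper17.STM

section Y

variable {F : Type*} [Field F] [Finite F] {A B : F} [Fact (∀ r : F, r ^ 2 ≠ -B + A * r)] {ι : Type*} {Γ G : Type*} [Group Γ] [Group G]
  {S : SysM F A B ι G} {σ : Γ →* G}

/-- Y5 [M]  **the lifted long root system.** -/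
theorem exists_longLift {m : ℕ} (hm : 3 ≤ m) {S : SysM F A B (Fin m) G} (h : IsCE σ) : Nonempty (LongLift S σ) :=
  cemy5_core hm h (fun v hv0 hv1 => Ys_B_tor h (HC_long h) v hv0 hv1) (fun hF => Ys_B_two h (HC_long h) hF)
    (fun u3 => Ys_I_three h (HC_long h) (HLS_all h (I3_fin hm)) u3) (fun hq => exists_nm_ne_one hq) (fun hq t => field_two hq t)

end Y

end Cfsg.Agent.Lib.helper17.CEM
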