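import Mathlib
import Cfsg.Agent.Lib.helper7.CEU.Defs
import Cfsg.Agent.Lib.Helper27.STU.Defs3
import Cfsg.Agent.Lib.Helper5.STULA5
import Cfsg.Agent.Lib.Helper24.STCI1

/-!
# Project CEU (designer helper7, the `n ≥ 4` half of S2089), row E6 (helper18), CORE: `ceue6_core`
= `r1_even` with the statement of E5 `lift_even` (at `Δ := Γ`) as the hypothesis `hE5`.
Wrapper: `r1_even hF hev hW Z := ceue6_core hev hW Z (fun X Y hX hY hWX hWY => lift_even hF hev X Y hX hY hWX hWY)`.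
-/

set_option autoImplicit false

namespace Cfsg.Agent.Lib.helper7.CEU

open Cfsg.Agent.Lib.helper15.St2 Cfsg.Agent.Lib.helper7.Ce Cfsg.Agent.Lib.helper3.STC Cfsg.Agent.Lib.Helper27.STU

open Cfsg.Agent.Lib.helper7.CEC (I2 I3 I4 U2 U3)

section E

variable {F : Type*} [Field F] [StarRing F] {od : Prop}

variable {ι : Type*} {Γ G : Type*} [Group Γ] [Group G] {S : SysU F od ι G} {σ : Γ →* G} {h : IsCE σ}

/-- in the even case the coefficient of `wl a ξ` on `d` is `1` -/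
theorem ceue6_d0l (hev : ¬ od) (ξ : Lam F od) (hξ : ξ.c ≠ 0) : d0l ξ = 1 := by
  unfold d0l
  rw [Lam.c_skew_of_even hev ξ, neg_div, neg_neg, div_self hξ]

/-- the conjugation rule for the lifted long Weyl element -/
theorem ceue6_cj [DecidableEq ι] (hev : ¬ od) (hW : S.HW) (Z : LongLift S h) (a : ι ⊕ ι) (ξ η : Lam F od) (hξ : ξ.c ≠ 0) :
    cj (Z.Z a ξ * Z.Z (ng a) (Lam.mu ξ) * Z.Z a (Lam.nu ξ)) (Z.Z a η) = Z.Z (ng a) (Lam.act (star ξ.c)⁻¹ η) := by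
  have hmap : σ (Z.Z a ξ * Z.Z (ng a) (Lam.mu ξ) * Z.Z a (Lam.nu ξ)) = S.wl a ξ := by
    rw [map_mul, map_mul, Z.map, Z.map, Z.map]
    rfl
  have h1 := Z.eqv (S.wl a ξ) _ _ _ (hW.2 a ξ hξ) _ hmap a η
  rw [Equiv.swap_apply_left, ceue6_d0l hev ξ hξ, inv_one, mul_one] at h1
  have h2 : Cfsg.Agent.Lib.Helper27.STU.dwl a ξ a = (star ξ.c)⁻¹ := by
    unfold Cfsg.Agent.Lib.Helper27.STU.dwl
    rw [if_pos rfl]
  rw [h2] at h1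
  exact h1

/-- E6 core: `hE5` = the statement of E5 `lift_even hF hev` at `Δ := Γ` -/
theorem ceue6_core [DecidableEq ι] (hev : ¬ od) (hW : S.HW) (Z : LongLift S h)
    (hE5 : ∀ (X Y : Lam F od → Γ), (∀ ξ η, X (ξ * η) = X ξ * X η) → (∀ ξ η, Y (ξ * η) = Y ξ * Y η) →
      (∀ ξ η : Lam F od, ξ.c ≠ 0 → cj (X ξ * Y (Lam.mu ξ) * X (Lam.nu ξ)) (X η) = Y (Lam.act (star ξ.c)⁻¹ η)) →
      (∀ ξ η : Lam F od, ξ.c ≠ 0 → cj (Y ξ * X (Lam.mu ξ) * Y (Lam.nu ξ)) (Y η) = X (Lam.act (star ξ.c)⁻¹ η)) →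
      ∃ ρ : ↥(SUm F od) →* Γ, ∀ ξ, ρ (XpU ξ) = X ξ ∧ ρ (XmU ξ) = Y ξ) :
    ∀ a, ∃ ρ : ↥(SUm F od) →* Γ, ∀ ξ, ρ (XpU ξ) = Z.Z a ξ ∧ ρ (XmU ξ) = Z.Z (ng a) ξ := by
  intro a
  refine hE5 (Z.Z a) (Z.Z (ng a)) (Z.mul a) (Z.mul (ng a)) (fun ξ η hξ => ceue6_cj hev hW Z a ξ η hξ) (fun ξ η hξ => ?_)
  have h1 := ceue6_cj hev hW Z (ng a) ξ η hξ
  rw [ng_ng] at h1
  exact h1

end E

end Cfsg.Agent.Lib.helper7.CEU
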