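import Mathlib
import Cfsg.Agent.Lib.helper7.CEU.Defs
import Cfsg.Agent.Lib.Helper27.STU.Defs3
import Cfsg.Agent.Lib.Helper18.CEUE6core
import Cfsg.Agent.Lib.Helper29.CEUE5

/-!
# Project CEU (designer helper7, the `n ≥ 4` half of S2089), row E6 (helper18), VERBATIM: `r1_even`
= `ceue6_core` (`Helper18.CEUE6core`) at E5 `lift_even` (`Helper29.CEUE5`).
-/

set_option autoImplicit false

namespace Cfsg.Agent.Lib.helper7.CEU

open Cfsg.Agent.Lib.helper15.St2 Cfsg.Agent.Lib.helper7.Ce Cfsg.Agent.Lib.helper3.STC Cfsg.Agent.Lib.Helper27.STU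

open Cfsg.Agent.Lib.helper7.CEC (I2 I3 I4 U2 U3)

section E

open Matrix

variable {F : Type*} [Field F] [StarRing F] {od : Prop}

variable {ι : Type*} {Γ G : Type*} [Group Γ] [Group G] {S : SysU F od ι G} {σ : Γ →* G} {h : IsCE σ}

/-- E6 [M]  `lift_even` with `X := Z.Z a`, `Y := Z.Z (ng a)`. -/
theorem r1_even [Finite F] [DecidableEq ι] (hF : Hyp F) (hev : ¬ od) (hW : S.HW) (Z : LongLift S h) :
    ∀ a, ∃ ρ : ↥(SUm F od) →* Γ, ∀ ξ, ρ (XpU ξ) = Z.Z a ξ ∧ ρ (XmU ξ) = Z.Z (ng a) ξ :=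
  ceue6_core hev hW Z (fun X Y hX hY hWX hWY => lift_even hF hev X Y hX hY hWX hWY)

end E

end Cfsg.Agent.Lib.helper7.CEU
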