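import Mathlib
import Cfsg.Agent.Lib.helper7.CEU.Defs
import Cfsg.Agent.Lib.Helper27.STU.Defs3
import Cfsg.Agent.Lib.helper8.STULA1

/-!
# Project CEU (designer helper7, the `n ≥ 4` half of S2089), row G4 (helper18), VERBATIM: `CL_tor_tr`
the torus trick for a long root subgroup in the parametrisation by `Lam.tr`.
-/

set_option autoImplicit false

namespace Cfsg.Agent.Lib.helper7.CEU

open Cfsg.Agent.Lib.helper15.St2 Cfsg.Agent.Lib.helper7.Ce Cfsg.Agent.Lib.helper3.STC Cfsg.Agent.Lib.Helper27.STU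

open Cfsg.Agent.Lib.helper7.CEC (I2 I3 I4 U2 U3)

section G

variable {F : Type*} [Field F] [StarRing F] {od : Prop} {ι : Type*} {Γ G : Type*} [Group Γ] [Group G] {S : SysU F od ι G} {σ : Γ →* G}

/-- G4 [S-M] -/
theorem CL_tor_tr (h : IsCE σ) {c : ι ⊕ ι} {g : G} {d : ι ⊕ ι → F} {d0 : F} (hg : S.IsMon g 1 d d0)
    (hsc : d c * star (d c) ≠ 1) {w : G} (hfix : cj g w = w) (hcomm : ∀ x, S.xl c (Lam.tr x) * w = w * S.xl c (Lam.tr x)) (x : F) :
    CL σ (S.xl c (Lam.tr x)) w := by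
  have hd0 : d0 * star d0 = 1 := hg.1.d0_norm
  have hd0ne : d0 ≠ 0 := fun e => by rw [e, zero_mul] at hd0; exact zero_ne_one hd0
  have hsd0 : star d0 ≠ 0 := fun e => by rw [e, mul_zero] at hd0; exact zero_ne_one hd0
  refine h.torus (fun x => S.xl c (Lam.tr x)) (fun s t => ?_) w g (d c * star (d c)) hsc hcomm (fun t => ?_) hfix x
  · show S.xl c (Lam.tr (s + t)) = S.xl c (Lam.tr s) * S.xl c (Lam.tr t)
    rw [Lam.tr_add, S.addl]
  · show cj g (S.xl c (Lam.tr t)) = S.xl c (Lam.tr (d c * star (d c) * t))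
    have h1 := hg.2.2 c (Lam.tr t)
    rw [Equiv.Perm.one_apply, Lam.act_tr] at h1
    rw [h1]
    congr 2
    rw [star_mul', star_inv₀]
    field_simp
    linear_combination (-(d c * star (d c) * t)) * hd0

end G

end Cfsg.Agent.Lib.helper7.CEU
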