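import Mathlib
import Cfsg.Agent.Lib.helper7.CEU.Defs
import Cfsg.Agent.Lib.Helper27.STU.Defs3
import Cfsg.Agent.Lib.Helper5.STULA5

/-!
# Project CEU (designer helper7, the `n ≥ 4` half of S2089), row G6 (helper18), VERBATIM:
`act_even`, `tr_sk`, `tr_eq_one`, `star_eq_of_tr_eq_one`, `exists_tr`, `act_bar_tr` (facts on the form parameter group).
-/

set_option autoImplicit false

namespace Cfsg.Agent.Lib.helper7.CEU

open Cfsg.Agent.Lib.helper15.St2 Cfsg.Agent.Lib.helper7.Ce Cfsg.Agent.Lib.helper3.STC Cfsg.Agent.Lib.Helper27.STU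

open Cfsg.Agent.Lib.helper7.CEC (I2 I3 I4 U2 U3)

section G

variable {F : Type*} [Field F] [StarRing F] {od : Prop} {ι : Type*} {Γ G : Type*} [Group Γ] [Group G] {S : SysU F od ι G} {σ : Γ →* G}

/-- G6 [S]  form parameters.  In the even case `Lam.act t ξ` only depends on `t * star t` (`Lam.ext`, `ξ.hv hev`). -/
theorem act_even (hev : ¬ od) (t : F) (ht : t * star t = 1) (ξ : Lam F od) : Lam.act t ξ = ξ := by
  apply Lam.ext
  · show t * ξ.v = ξ.v
    rw [ξ.hv hev, mul_zero]
  · show t * star t * ξ.c = ξ.c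
    rw [ht, one_mul]

/-- G6 [S]  `Lam.ext`; `v`: both `0` by `hev`; `c`: `x - star x`. -/
theorem tr_sk (x : F) : (Lam.tr x : Lam F od) = Lam.sk (x - star x) (by simp) := by
  apply Lam.ext
  · rfl
  · rfl

/-- G6 [S]  if `star x = x` then `Lam.tr x = 1`. -/
theorem tr_eq_one {x : F} (hx : star x = x) : (Lam.tr x : Lam F od) = 1 := by
  apply Lam.ext
  · rfl
  · show x - star x = 0
    rw [hx, sub_self]

/-- G6 [S]  conversely (`congrArg Lam.c`, `sub_eq_zero`). -/
theorem star_eq_of_tr_eq_one {x : F} (hx : (Lam.tr x : Lam F od) = 1) : star x = x := by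
  have h := congrArg Lam.c hx
  have h' : x - star x = 0 := h
  exact (sub_eq_zero.1 h').symm

/-- G6 [S-M]  in the even case every element is a trace. -/
theorem exists_tr (hF : Hyp F) (hev : ¬ od) (ζ : Lam F od) : ∃ x : F, ζ = Lam.tr x := by
  obtain ⟨γ, hγ0, hγ⟩ := hF.ex_skew
  have hc : star ζ.c = -ζ.c := Lam.c_skew_of_even hev ζ
  have hfix : star (ζ.c / γ) = ζ.c / γ := by
    rw [star_div₀, hc, hγ, neg_div_neg_eq]
  obtain ⟨y, hy⟩ := hF.trace_surj (ζ.c / γ) hfix
  refine ⟨γ * y, ?_⟩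
  apply Lam.ext
  · show ζ.v = 0
    exact ζ.hv hev
  · show ζ.c = γ * y - star (γ * y)
    rw [star_mul', hγ]
    have : ζ.c = γ * (ζ.c / γ) := by field_simp
    rw [this, ← hy]
    ring

/-- G6 [S]  `Lam.ext`; `star (u * star u) = u * star u`. -/
theorem act_bar_tr (x u : F) : Lam.act (star u) (Lam.bar (Lam.tr x : Lam F od)) = Lam.tr (-(u * star u * x)) := by
  apply Lam.ext
  · show star u * 0 = 0
    rw [mul_zero]
  · show star u * star (star u) * star (x - star x) = -(u * star u * x) - star (-(u * star u * x))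
    simp only [star_star, star_sub, star_neg, star_mul']
    ring

end G

end Cfsg.Agent.Lib.helper7.CEU
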