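import Mathlib
import Cfsg.Agent.Lib.helper7.CEU.Defs
import Cfsg.Agent.Lib.Helper27.STU.Defs3
import Cfsg.Agent.Lib.Helper24.STCI1
import Cfsg.Agent.Lib.Helper24.STUB1
import Cfsg.Agent.Lib.Helper18.CEUG4
import Cfsg.Agent.Lib.Helper18.CEUG6
import Cfsg.Agent.Lib.Helper19.CEUT1

/-!
# Project CEU (designer helper7, the `n ≥ 4` half of S2089), row T7b (helper18), VERBATIM: `t7_torus`
(even case, two indices) lifts of two long root elements with different `ab` commute, by the torus trick with `g := S.hl c ξ₁ ξ₂`.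
-/

set_option autoImplicit false

namespace Cfsg.Agent.Lib.helper7.CEU

open Cfsg.Agent.Lib.helper15.St2 Cfsg.Agent.Lib.helper7.Ce Cfsg.Agent.Lib.helper3.STC Cfsg.Agent.Lib.Helper27.STU

open Cfsg.Agent.Lib.helper7.CEC (I2 I3 I4 U2 U3)

section T

variable {F : Type*} [Field F] [StarRing F] {od : Prop} {ι : Type*} {Γ G : Type*} [Group Γ] [Group G] {S : SysU F od ι G} {σ : Γ →* G}

/-- in the even case two long root elements with different `ab` commute -/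
theorem ceut7b_comm (hev : ¬ od) {a c : ι ⊕ ι} (hac : ab a ≠ ab c) (ξ η : Lam F od) :
    S.xl a ξ * S.xl c η = S.xl c η * S.xl a ξ := by
  obtain ⟨ac1, ac2, ca1, ca2⟩ := ceut1_ne hac
  have h1 := S.hh a c ac1 ac2 ξ η
  rw [ξ.hv hev, zero_mul, neg_zero, S.xs_zero ac2 (by rw [ng_ng]; exact ac1)] at h1
  have h2 : S.xl a ξ * S.xl c η * (S.xl a ξ)⁻¹ = S.xl c η := by
    have := congrArg (· * S.xl c η) h1
    simpa using this
  have := congrArg (· * S.xl a ξ) h2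
  simpa using this

/-- T7 [M]  (even case, two indices) -/
theorem t7_torus [DecidableEq ι] (h : IsCE σ) (hH : S.HH) (hev : ¬ od) (hex : ∀ ζ : Lam F od, ∃ x : F, ζ = Lam.tr x)
    {ξ₁ ξ₂ : Lam F od} (h1 : ξ₁.c ≠ 0) (h2 : ξ₂.c ≠ 0) (hN : (ξ₁.c / ξ₂.c) * star (ξ₁.c / ξ₂.c) ≠ 1) :
    ∀ a c : ι ⊕ ι, ab a ≠ ab c → ∀ ξ η : Lam F od, CL σ (S.xl a ξ) (S.xl c η) := by
  intro a c hac ξ η
  obtain ⟨ac1, ac2, ca1, ca2⟩ := ceut1_ne hac
  obtain ⟨x, rfl⟩ := hex η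
  have hg := hH.2 c ξ₁ ξ₂ h1 h2
  refine (CL_tor_tr h hg ?_ ?_ ?_ x).symm
  · rw [ceut1_dhl_self]
    exact hN
  · have := hg.2.2 a ξ
    rw [Equiv.Perm.one_apply, ceut1_dhl_of_ne _ ac1 ac2, one_mul] at this
    rw [this]
    congr 1
    apply act_even hev
    have hd0 := hg.1.d0_norm
    have hd0ne : d0h (ξ₁.c / ξ₂.c) ≠ 0 := fun e => by rw [e, zero_mul] at hd0; exact zero_ne_one hd0
    have hsd0 : star (d0h (ξ₁.c / ξ₂.c)) ≠ 0 := fun e => by rw [e, mul_zero] at hd0; exact zero_ne_one hd0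
    rw [star_inv₀, ← mul_inv, hd0, inv_one]
  · intro x'
    exact (ceut7b_comm hev hac ξ (Lam.tr x')).symm

end T

end Cfsg.Agent.Lib.helper7.CEU
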