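import Mathlib
import Cfsg.Agent.Lib.helper7.CEU.Defs
import Cfsg.Agent.Lib.Helper27.STU.Defs3
import Cfsg.Agent.Lib.Helper24.STCI1
import Cfsg.Agent.Lib.Helper24.STUB1
import Cfsg.Agent.Lib.Helper11.STUB3
import Cfsg.Agent.Lib.Helper19.CEUT1

/-!
# Project CEU (designer helper7, the `n ≥ 4` half of S2089), row T8 (helper18), VERBATIM: `t1_of_t7`
lifts of two elements of the same short root subgroup commute, from the long roots.  Port of `helper4.CECZ2`.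
-/

set_option autoImplicit false

namespace Cfsg.Agent.Lib.helper7.CEU

open Cfsg.Agent.Lib.helper15.St2 Cfsg.Agent.Lib.helper7.Ce Cfsg.Agent.Lib.helper3.STC Cfsg.Agent.Lib.Helper27.STU

open Cfsg.Agent.Lib.helper7.CEC (I2 I3 I4 U2 U3)

section T

variable {F : Type*} [Field F] [StarRing F] {od : Prop} {ι : Type*} {Γ G : Type*} [Group Γ] [Group G] {S : SysU F od ι G} {σ : Γ →* G}

/-- T8 [M]  the same short root, from the long roots -/
theorem t1_of_t7 (h : IsCE σ) {ξ₀ : Lam F od} (hξ₀ : ξ₀.c ≠ 0)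
    (h5 : ∀ a d : ι ⊕ ι, ab a ≠ ab d → ∀ (ξ : Lam F od) (u : F), CL σ (S.xl a ξ) (S.xs a d u))
    (h2' : ∀ (a : ι ⊕ ι) (ξ η : Lam F od), CL σ (S.xl a ξ) (S.xl a η))
    (h7 : ∀ a c : ι ⊕ ι, ab a ≠ ab c → ∀ ξ η : Lam F od, CL σ (S.xl a ξ) (S.xl c η)) :
    ∀ a b : ι ⊕ ι, ab a ≠ ab b → ∀ t u : F, CL σ (S.xs a b t) (S.xs a b u) := by
  intro a b hab t u
  obtain ⟨h1, h2, h3, h4⟩ := ceut1_ne hab
  have hnba : ng b ≠ ng a := fun e => h1 (ng_inj.1 e).symm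
  have hnba' : ng b ≠ ng (ng a) := by
    rw [ng_ng]
    exact fun e => h2 e.symm
  -- the long root `ng b` against the short root `(a, b)`
  have hLS : ∀ (ζ : Lam F od) (s : F), CL σ (S.xl (ng b) ζ) (S.xs a b s) := by
    intro ζ s
    have := h5 (ng b) (ng a) (by rw [ab_ng, ab_ng]; exact fun e => hab e.symm) ζ (-(star s))
    rw [← S.sym a b h1 h2 s] at this
    exact this
  have hLL : ∀ ζ ζ' : Lam F od, CL σ (S.xl (ng b) ζ) (S.xl (ng b) ζ') := h2' (ng b)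
  have hAL : ∀ ζ : Lam F od, CL σ (S.xl a ξ₀) (S.xl (ng b) ζ) := fun ζ => h7 a (ng b) (by rwa [ab_ng]) ξ₀ ζ
  have hls : cm (S.xl a ξ₀) (S.xs (ng a) b (t / ξ₀.c)) =
      S.xs a b (ξ₀.c * (t / ξ₀.c)) * S.xl (ng b) (Lam.act (star (t / ξ₀.c)) (Lam.bar ξ₀)) :=
    S.ls a b h1 h2 ξ₀ (t / ξ₀.c)
  have hwA : S.xs a b u * S.xl a ξ₀ = S.xl a ξ₀ * S.xs a b u := (S.comm_ls a a b h1 h2 (ne_ng a) h3 ξ₀ u).symm
  have hcjB : cj (S.xs a b u) (S.xs (ng a) b (t / ξ₀.c)) =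
      S.xl (ng b) (Lam.tr (-(star u) * (t / ξ₀.c))) * S.xs (ng a) b (t / ξ₀.c) := by
    have := S.cj_ssl hnba hnba' (-(star u)) (t / ξ₀.c)
    rw [ng_ng, ← S.sym a b h1 h2 u] at this
    exact this
  -- Milnor-type step
  have hM : CL σ (cm (S.xl a ξ₀) (S.xs (ng a) b (t / ξ₀.c))) (S.xs a b u) := by
    set A' := lf h (S.xl a ξ₀) with hA'
    set B' := lf h (S.xs (ng a) b (t / ξ₀.c)) with hB'
    set w' := lf h (S.xs a b u) with hw'
    set C' := lf h (S.xl (ng b) (Lam.tr (-(star u) * (t / ξ₀.c)))) with hC'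
    have e1 : σ (cj w' A') = σ A' := by
      rw [map_cj, map_lf, map_lf]
      unfold cj
      rw [hwA, mul_inv_cancel_right]
    have e2 : σ (cj w' B') = σ (C' * B') := by
      rw [map_cj, map_mul, map_lf, map_lf, map_lf]
      exact hcjB
    have e3 : cj w' (cm A' B') = cm A' (C' * B') := by
      rw [cj_cm]
      exact h.cm_congr e1 e2
    have e4 : cm A' C' = 1 := cm_eq_one_iff.2 (hAL _ A' C' (map_lf h _) (map_lf h _))
    have hcl : CL σ (cm (S.xl a ξ₀) (S.xs (ng a) b (t / ξ₀.c))) (S.xl (ng b) (Lam.tr (-(star u) * (t / ξ₀.c)))) := by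
      rw [hls]
      exact h.CL_mul_left (hLS _ _).symm (hLL _ _)
    have e5 : C' * cm A' B' * C'⁻¹ = cm A' B' := by
      have := hcl (cm A' B') C' (by rw [map_cm, map_lf, map_lf]) (map_lf h _)
      rw [← this, mul_inv_cancel_right]
    have e6 : cj w' (cm A' B') = cm A' B' := by
      rw [e3, cm_mul_right, e4, one_mul, e5]
    have e7 : w' * cm A' B' = cm A' B' * w' := mul_eq_of_cj e6
    exact h.CL_of_lift' (by rw [map_cm, map_lf, map_lf]) (map_lf h _) e7.symm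
  have hx : S.xs a b t = cm (S.xl a ξ₀) (S.xs (ng a) b (t / ξ₀.c)) *
      S.xl (ng b) (Lam.act (star (t / ξ₀.c)) (Lam.bar ξ₀))⁻¹ := by
    rw [hls, S.xl_inv, mul_inv_cancel_right, mul_div_cancel₀ _ hξ₀]
  rw [hx]
  exact h.CL_mul_left hM (hLS _ u)

end T

end Cfsg.Agent.Lib.helper7.CEU
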