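import Mathlib.GroupTheory.Commutator.Basic
import Cfsg.Prelude.Def_BaumannBlocks
import Cfsg.Agent.Lib.Helper18.ChermakDelgado4

set_option autoImplicit false

open scoped Pointwise
open scoped commutatorElement

namespace Cfsg.Agent.Lib.Helper18

variable {G : Type*} [Group G]

/-- For centrally large `Q`, `R`: `(Q ⊓ R) ⊔ C(Q)` is centrally large. -/
theorem cl_inf_sup_centralizer [Finite G] {Q R : Subgroup G} (hQ : Cfsg.IsCentrallyLarge Q)
    (hR : Cfsg.IsCentrallyLarge R) :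
    Cfsg.IsCentrallyLarge ((Q ⊓ R) ⊔ Subgroup.centralizer (Q : Set G)) := by
  obtain ⟨hQ1, hQ2⟩ := centrallyLarge_centralizerLarge hQ
  obtain ⟨hR1, hR2⟩ := centrallyLarge_centralizerLarge hR
  have hCQle : Subgroup.centralizer (Q : Set G) ≤ Q := by rw [hQ2]; exact inf_le_left
  have hCRle : Subgroup.centralizer (R : Set G) ≤ R := by rw [hR2]; exact inf_le_left
  obtain ⟨_, _, e3, e4⟩ := cd_core _ cdm_le_max Q R hQ1 hR1
  obtain ⟨hCQ, hQCC⟩ := cd_centralizer hQ1
  obtain ⟨hCR, _⟩ := cd_centralizer hR1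
  obtain ⟨f1, _, _, _⟩ := cd_core _ cdm_le_max _ _ hCQ hCR
  have hCD : Subgroup.centralizer ((Q ⊓ R : Subgroup G) : Set G) =
      Subgroup.centralizer (Q : Set G) ⊔ Subgroup.centralizer (R : Set G) := by
    symm
    apply Subgroup.eq_of_le_of_card_ge (centralizer_sup_le_centralizer_inf Q R)
    rw [e4]
    have : Nat.card ↥(Subgroup.centralizer (Q : Set G) ⊔ Subgroup.centralizer (R : Set G)) =
        Nat.card (((Subgroup.centralizer (Q : Set G) ⊔ Subgroup.centralizer (R : Set G) : Subgroup G)) : Set G) := rfl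
    rw [this, f1]
  obtain ⟨_, g2, _, _⟩ := cd_core _ cdm_le_max (Q ⊓ R) (Subgroup.centralizer (Q : Set G)) e3 hCQ
  have hU : Cfsg.IsCentralizerLarge ((Q ⊓ R) ⊔ Subgroup.centralizer (Q : Set G)) := g2
  rw [centralizerLarge_centrallyLarge_iff hU, centralizer_sup_h18, hCD, ← hQCC]
  rintro x ⟨hx1, hx2⟩
  have hx1' : x ∈ ((Subgroup.centralizer (Q : Set G) ⊔ Subgroup.centralizer (R : Set G) : Subgroup G) : Set G) := hx1
  rw [f1] at hx1'
  obtain ⟨y, hy, z, hz, rfl⟩ := hx1'
  have hzQ : z ∈ Q := by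
    have : z = y⁻¹ * (y * z) := by simp
    rw [this]
    exact Q.mul_mem (Q.inv_mem (hCQle hy)) hx2
  have hzD : z ∈ Q ⊓ R := ⟨hzQ, hCRle hz⟩
  exact Subgroup.mul_mem _ ((le_sup_right : _ ≤ (Q ⊓ R) ⊔ Subgroup.centralizer (Q : Set G)) hy)
    ((le_sup_left : _ ≤ (Q ⊓ R) ⊔ Subgroup.centralizer (Q : Set G)) hzD)

theorem mcl_eq_inf_sup [Finite G] {Q R : Subgroup G} (hQ : Cfsg.IsMinimalCentrallyLarge Q)
    (hR : Cfsg.IsCentrallyLarge R) :
    (Q ⊓ R) ⊔ Subgroup.centralizer (Q : Set G) = Q := by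
  have h1 := cl_inf_sup_centralizer hQ.1 hR
  have hCQle : Subgroup.centralizer (Q : Set G) ≤ Q := by
    rw [(centrallyLarge_centralizerLarge hQ.1).2]; exact inf_le_left
  exact hQ.2 _ (sup_le inf_le_left hCQle) h1

theorem commutatorElement_mul_central_left {d z g : G} (hz : g * z = z * g) :
    ⁅d * z, g⁆ = ⁅d, g⁆ := by
  rw [commutatorElement_def, commutatorElement_def, mul_inv_rev]
  have h1 : z * g * z⁻¹ = g := by rw [← hz]; simp
  calc d * z * g * (z⁻¹ * d⁻¹) * g⁻¹ = d * (z * g * z⁻¹) * d⁻¹ * g⁻¹ := by simp [mul_assoc]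
    _ = d * g * d⁻¹ * g⁻¹ := by rw [h1]

theorem commutatorElement_mul_central_right {d z g : G} (hz : g * z = z * g) :
    ⁅g, d * z⁆ = ⁅g, d⁆ := by
  rw [commutatorElement_def, commutatorElement_def, mul_inv_rev]
  have h1 : z * g⁻¹ * z⁻¹ = g⁻¹ := by
    have : g⁻¹ * z = z * g⁻¹ := by
      have := congrArg (fun t => g⁻¹ * t * g⁻¹) hz
      simpa [mul_assoc] using this.symm
    rw [← this]; simp
  calc g * (d * z) * g⁻¹ * (z⁻¹ * d⁻¹) = g * d * (z * g⁻¹ * z⁻¹) * d⁻¹ := by simp [mul_assoc]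
    _ = g * d * g⁻¹ * d⁻¹ := by rw [h1]

theorem commutator_eq_of_sup_central {Q D : Subgroup G} (hDQ : D ≤ Q)
    (h : D ⊔ Subgroup.centralizer (Q : Set G) = Q) : ⁅Q, Q⁆ = ⁅D, D⁆ := by
  apply le_antisymm _ (Subgroup.commutator_mono hDQ hDQ)
  set Z := Subgroup.centralizer (Q : Set G) with hZ
  have hnorm : D ≤ Subgroup.normalizer (Z : Set G) := by
    have : Q ≤ Subgroup.centralizer (Z : Set G) := le_centralizer_centralizer_h18 Q
    exact le_trans hDQ (le_trans this (Subgroup.centralizer_le_normalizer _))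
  have hset : (Q : Set G) = (D : Set G) * (Z : Set G) := by
    rw [← Subgroup.coe_mul_of_left_le_normalizer_right _ _ hnorm, h]
  rw [Subgroup.commutator_le]
  intro g₁ hg₁ g₂ hg₂
  have hg₁' : g₁ ∈ (Q : Set G) := hg₁
  have hg₂' : g₂ ∈ (Q : Set G) := hg₂
  rw [hset] at hg₁' hg₂'
  obtain ⟨d₁, hd₁, z₁, hz₁, rfl⟩ := hg₁'
  obtain ⟨d₂, hd₂, z₂, hz₂, rfl⟩ := hg₂'
  show ⁅d₁ * z₁, d₂ * z₂⁆ ∈ ⁅D, D⁆
  rw [commutatorElement_mul_central_left (hz₁ _ hg₂),
    commutatorElement_mul_central_right (hz₂ _ (hDQ hd₁))]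
  exact Subgroup.commutator_mem_commutator hd₁ hd₂

theorem mcl_commutator_eq [Finite G] {Q R : Subgroup G} (hQ : Cfsg.IsMinimalCentrallyLarge Q)
    (hR : Cfsg.IsMinimalCentrallyLarge R) : ⁅Q, Q⁆ = ⁅R, R⁆ := by
  have h1 := commutator_eq_of_sup_central inf_le_left (mcl_eq_inf_sup hQ hR.1)
  have h2 := commutator_eq_of_sup_central inf_le_left (mcl_eq_inf_sup hR hQ.1)
  rw [h1, h2, inf_comm]

theorem mcl_arith {q r d zq zr cd u v e M : ℕ} (hMpos : 0 < M) (hd : 0 < d) (hzq : 0 < zq) (hzr : 0 < zr)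
    (hq : q * u = d * zq) (hr : r * v = d * zr) (hcd : cd * e = zq * zr)
    (hmq : q * zq = M) (hmr : r * zr = M) (hmd : d * cd = M) (heu : e ≤ u) (hev : e ≤ v) :
    zq = zr ∧ q = r := by
  have e1 : M * u = d * (zq * zq) := by
    calc M * u = (q * u) * zq := by rw [← hmq]; ring
      _ = d * (zq * zq) := by rw [hq]; ring
  have e2 : M * v = d * (zr * zr) := by
    calc M * v = (r * v) * zr := by rw [← hmr]; ring
      _ = d * (zr * zr) := by rw [hr]; ring
  have e3 : M * e = d * (zq * zr) := by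
    calc M * e = d * (cd * e) := by rw [← hmd]; ring
      _ = d * (zq * zr) := by rw [hcd]
  have e4 : (M * u) * (M * v) = (M * e) * (M * e) := by
    rw [e1, e2, e3]; ring
  have e5 : u * v = e * e := by
    have : (M * M) * (u * v) = (M * M) * (e * e) := by
      calc (M * M) * (u * v) = (M * u) * (M * v) := by ring
        _ = (M * e) * (M * e) := e4
        _ = (M * M) * (e * e) := by ring
    exact Nat.eq_of_mul_eq_mul_left (Nat.mul_pos hMpos hMpos) this
  have hepos : 0 < e := by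
    rcases Nat.eq_zero_or_pos e with h | h
    · rw [h, mul_zero] at e3
      exact absurd e3.symm (Nat.mul_pos hd (Nat.mul_pos hzq hzr)).ne'
    · exact h
  have hue : u = e := by
    by_contra hne
    have hlt : e < u := lt_of_le_of_ne heu (Ne.symm hne)
    have : e * e < u * v := calc e * e < u * e := Nat.mul_lt_mul_of_pos_right hlt hepos
      _ ≤ u * v := Nat.mul_le_mul_left u hev
    exact absurd e5 this.ne'
  have e6 : d * (zq * zq) = d * (zq * zr) := by rw [← e1, ← e3, hue]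
  have e7 : zq * zq = zq * zr := Nat.eq_of_mul_eq_mul_left hd e6
  have e8 : zq = zr := Nat.eq_of_mul_eq_mul_left hzq e7
  refine ⟨e8, ?_⟩
  have : q * zq = r * zq := by rw [hmq, e8, hmr]
  exact Nat.eq_of_mul_eq_mul_right hzq this

theorem mcl_card_eq [Finite G] {Q R : Subgroup G} (hQ : Cfsg.IsMinimalCentrallyLarge Q)
    (hR : Cfsg.IsMinimalCentrallyLarge R) :
    Nat.card ↥(Subgroup.centralizer (Q : Set G)) = Nat.card ↥(Subgroup.centralizer (R : Set G)) ∧
      Nat.card Q = Nat.card R := by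
  obtain ⟨hQ1, hQ2⟩ := centrallyLarge_centralizerLarge hQ.1
  obtain ⟨hR1, hR2⟩ := centrallyLarge_centralizerLarge hR.1
  have hCQle : Subgroup.centralizer (Q : Set G) ≤ Q := by rw [hQ2]; exact inf_le_left
  have hCRle : Subgroup.centralizer (R : Set G) ≤ R := by rw [hR2]; exact inf_le_left
  obtain ⟨_, _, e3, e4⟩ := cd_core _ cdm_le_max Q R hQ1 hR1
  have hQeq := mcl_eq_inf_sup hQ hR.1
  have hReq := mcl_eq_inf_sup hR hQ.1
  rw [inf_comm] at hReq
  set D := Q ⊓ R with hD
  have p1 := card_mul_set_mul_card_inf D (Subgroup.centralizer (Q : Set G))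
  have p2 := card_mul_set_mul_card_inf D (Subgroup.centralizer (R : Set G))
  have p3 := card_mul_set_mul_card_inf (Subgroup.centralizer (Q : Set G)) (Subgroup.centralizer (R : Set G))
  rw [← e4] at p3
  have hnQ : D ≤ Subgroup.normalizer ((Subgroup.centralizer (Q : Set G) : Subgroup G) : Set G) :=
    le_trans inf_le_left (le_trans (le_centralizer_centralizer_h18 Q) (Subgroup.centralizer_le_normalizer _))
  have hnR : D ≤ Subgroup.normalizer ((Subgroup.centralizer (R : Set G) : Subgroup G) : Set G) :=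
    le_trans inf_le_right (le_trans (le_centralizer_centralizer_h18 R) (Subgroup.centralizer_le_normalizer _))
  have c1 : Nat.card ((D : Set G) * (Subgroup.centralizer (Q : Set G) : Set G) : Set G) = Nat.card Q := by
    rw [← Subgroup.coe_mul_of_left_le_normalizer_right _ _ hnQ, hQeq]; rfl
  have c2 : Nat.card ((D : Set G) * (Subgroup.centralizer (R : Set G) : Set G) : Set G) = Nat.card R := by
    rw [← Subgroup.coe_mul_of_left_le_normalizer_right _ _ hnR, hReq]; rfl
  rw [c1] at p1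
  rw [c2] at p2
  have hE1 : Subgroup.centralizer (Q : Set G) ⊓ Subgroup.centralizer (R : Set G) ≤
      D ⊓ Subgroup.centralizer (Q : Set G) :=
    le_inf (le_inf (le_trans inf_le_left hCQle) (le_trans inf_le_right hCRle)) inf_le_left
  have hE2 : Subgroup.centralizer (Q : Set G) ⊓ Subgroup.centralizer (R : Set G) ≤
      D ⊓ Subgroup.centralizer (R : Set G) :=
    le_inf (le_inf (le_trans inf_le_left hCQle) (le_trans inf_le_right hCRle)) inf_le_right
  have hMpos : 0 < Cfsg.maxCentralizerProduct G := by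
    have : cdm Q = Cfsg.maxCentralizerProduct G := hQ1
    rw [← this]; exact Nat.mul_pos Nat.card_pos Nat.card_pos
  exact mcl_arith hMpos (Nat.card_pos (α := ↥D)) Nat.card_pos Nat.card_pos p1 p2 p3 hQ1 hR1 e3
    (Nat.card_mono (Set.toFinite _) hE1) (Nat.card_mono (Set.toFinite _) hE2)

end Cfsg.Agent.Lib.Helper18
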