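import Mathlib.GroupTheory.Commutator.Basic
import Cfsg.Prelude.Def_BaumannBlocks
import Cfsg.Agent.Lib.Helper18.ChermakDelgado5

set_option autoImplicit false

open scoped Pointwise

namespace Cfsg.Agent.Lib.Helper18

variable {G : Type*} [Group G]

theorem cfm_of_isMulCommutative {B : Subgroup G} (hB : IsMulCommutative B) :
    cfm B = Nat.card B * Nat.card B := by
  unfold cfm
  have : B ⊓ Subgroup.centralizer (B : Set G) = B :=
    inf_eq_left.mpr (Subgroup.le_centralizer_iff_isMulCommutative.mpr hB)
  rw [this]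

theorem isMulCommutative_of_le_h18 {A B : Subgroup G} (h : A ≤ B) (hB : IsMulCommutative B) :
    IsMulCommutative A := by
  rw [← Subgroup.le_centralizer_iff_isMulCommutative] at hB ⊢
  exact le_trans h (le_trans hB (Subgroup.centralizer_le h))

theorem mcl_iff_maxAbelian [Finite G] {Q : Subgroup G} (hQ : Cfsg.IsMinimalCentrallyLarge Q)
    (hQa : IsMulCommutative Q) (X : Subgroup G) :
    Cfsg.IsMinimalCentrallyLarge X ↔ X ∈ Cfsg.maxAbelianSubgroups G := by
  have hM : Nat.card Q * Nat.card Q = Cfsg.maxCentralProduct G := by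
    rw [← cfm_of_isMulCommutative hQa]
    exact (isCentrallyLarge_iff Q).mp hQ.1
  have hle : ∀ B : Subgroup G, IsMulCommutative B → Nat.card B ≤ Nat.card Q := by
    intro B hB
    have h1 : Nat.card B * Nat.card B ≤ Nat.card Q * Nat.card Q := by
      rw [hM, ← cfm_of_isMulCommutative hB]
      exact cfm_le_max B
    exact Nat.mul_self_le_mul_self_iff.mp h1
  constructor
  · intro hX
    have hXa : IsMulCommutative X := by
      rw [← Subgroup.commutator_self_eq_bot_iff, mcl_commutator_eq hX hQ,
        Subgroup.commutator_self_eq_bot_iff]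
      exact hQa
    refine ⟨hXa, ?_⟩
    intro B hB
    rw [(mcl_card_eq hX hQ).2]
    exact hle B hB
  · rintro ⟨hXa, hXmax⟩
    have hcard : Nat.card X = Nat.card Q := le_antisymm (hle X hXa) (hXmax Q hQa)
    have hXcl : Cfsg.IsCentrallyLarge X := by
      rw [isCentrallyLarge_iff, cfm_of_isMulCommutative hXa, hcard, hM]
    refine ⟨hXcl, ?_⟩
    intro R' hR'X hR'cl
    have hR'a : IsMulCommutative R' := isMulCommutative_of_le_h18 hR'X hXa
    have h1 : Nat.card R' * Nat.card R' = Nat.card X * Nat.card X := by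
      rw [hcard, hM, ← cfm_of_isMulCommutative hR'a]
      exact (isCentrallyLarge_iff R').mp hR'cl
    have h2 : Nat.card X ≤ Nat.card R' := Nat.mul_self_le_mul_self_iff.mp h1.ge
    exact Subgroup.eq_of_le_of_card_ge hR'X h2

end Cfsg.Agent.Lib.Helper18
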