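import Mathlib
import Cfsg.Agent.S4163
import Cfsg.Agent.Lib.Helper22.Basic
import Cfsg.Agent.Lib.Helper22.Sylow2

set_option autoImplicit false

namespace Cfsg.Agent.Lib.Helper18.ClassGraph

open scoped Pointwise commutatorElement

variable {G : Type*} [Group G]

/-- class size of `g`, as the index of its centralizer -/
noncomputable def cs (g : G) : ℕ := (Subgroup.centralizer ({g} : Set G)).index

theorem cs_def (g : G) : cs g = (Subgroup.centralizer ({g} : Set G)).index := rfl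

theorem mem_cent {g k : G} : k ∈ Subgroup.centralizer ({g} : Set G) ↔ k * g = g * k :=
  Subgroup.mem_centralizer_singleton_iff

theorem cs_ne_zero [Finite G] (g : G) : cs g ≠ 0 := Subgroup.index_ne_zero_of_finite

theorem cs_conj (c g : G) : cs (c * g * c⁻¹) = cs g :=
  Cfsg.Agent.Lib.Helper22.index_centralizer_conj g c

theorem cent_inv (g : G) :
    Subgroup.centralizer ({g⁻¹} : Set G) = Subgroup.centralizer ({g} : Set G) := by
  ext k
  rw [mem_cent, mem_cent]
  constructor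
  · intro h
    have h2 : g * (k * g⁻¹) * g = g * (g⁻¹ * k) * g := by rw [h]
    simpa [mul_assoc] using h2.symm
  · intro h
    have h2 : g⁻¹ * (k * g) * g⁻¹ = g⁻¹ * (g * k) * g⁻¹ := by rw [h]
    simpa [mul_assoc] using h2.symm

theorem cs_inv (g : G) : cs g⁻¹ = cs g := by
  unfold cs
  rw [cent_inv]

theorem cs_eq_one_iff (g : G) : cs g = 1 ↔ ∀ h : G, h * g = g * h := by
  unfold cs
  rw [Subgroup.index_eq_one]
  constructor
  · intro h k
    have : k ∈ Subgroup.centralizer ({g} : Set G) := by rw [h]; trivial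
    exact mem_cent.1 this
  · intro h
    rw [eq_top_iff]
    intro k _
    exact mem_cent.2 (h k)

theorem cs_eq_one_iff_mem_center (g : G) : cs g = 1 ↔ g ∈ Subgroup.center G := by
  rw [cs_eq_one_iff, Subgroup.mem_center_iff]

/-- the conjugacy class as a set -/
def cls (g : G) : Set G := {w | ∃ c : G, w = c * g * c⁻¹}

theorem cls_eq (g : G) : cls g = {w : G | ∃ h ∈ (⊤ : Subgroup G), w = h * g * h⁻¹} := by
  ext w
  simp [cls]

theorem ncard_cls (g : G) : (cls g).ncard = cs g := by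
  rw [cls_eq, Cfsg.Agent.S4163.ncard_conj_orbit, Subgroup.relIndex_top_right]
  rfl

theorem self_mem_cls (g : G) : g ∈ cls g := ⟨1, by simp⟩

theorem conj_mem_cls {g w : G} (hw : w ∈ cls g) (c : G) : c * w * c⁻¹ ∈ cls g := by
  obtain ⟨d, rfl⟩ := hw
  exact ⟨c * d, by group⟩

theorem cs_of_mem_cls {g w : G} (hw : w ∈ cls g) : cs w = cs g := by
  obtain ⟨d, rfl⟩ := hw
  exact cs_conj d g

theorem cls_eq_of_mem {g w : G} (hw : w ∈ cls g) : cls w = cls g := by
  obtain ⟨d, rfl⟩ := hw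
  ext v
  constructor
  · rintro ⟨c, rfl⟩
    exact ⟨c * d, by group⟩
  · rintro ⟨c, rfl⟩
    exact ⟨c * d⁻¹, by group⟩

/-- coprime indices: relative index equals index -/
theorem relIndex_eq_index_of_coprime [Finite G] (H K : Subgroup G)
    (h : Nat.Coprime H.index K.index) : H.relIndex K = H.index := by
  have h1 : H.relIndex K * K.index = (H ⊓ K).index := by
    rw [← Subgroup.inf_relIndex_right, Subgroup.relIndex_mul_index inf_le_right]
  have h2 : K.relIndex H * H.index = (H ⊓ K).index := by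
    rw [← Subgroup.inf_relIndex_left, Subgroup.relIndex_mul_index inf_le_left]
  have h3 : H.index ∣ H.relIndex K * K.index := by
    rw [h1, ← h2]; exact dvd_mul_left _ _
  have h4 : H.index ∣ H.relIndex K := h.dvd_of_dvd_mul_right h3
  have h5 : (H ⊓ K).index ≤ H.index * K.index := Subgroup.index_inf_le
  have hK0 : 0 < K.index := Nat.pos_of_ne_zero Subgroup.index_ne_zero_of_finite
  have h6 : H.relIndex K ≤ H.index := by
    rw [← h1] at h5
    exact Nat.le_of_mul_le_mul_right h5 hK0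
  have h7 : 0 < H.relIndex K := by
    rcases Nat.eq_zero_or_pos (H.relIndex K) with h0 | h0
    · rw [h0, zero_mul] at h1
      exact absurd h1.symm Subgroup.index_ne_zero_of_finite
    · exact h0
  exact le_antisymm h6 (Nat.le_of_dvd h7 h4)

theorem index_inf_of_coprime [Finite G] (H K : Subgroup G)
    (h : Nat.Coprime H.index K.index) : (H ⊓ K).index = H.index * K.index := by
  rw [← relIndex_eq_index_of_coprime H K h, ← Subgroup.inf_relIndex_right,
    Subgroup.relIndex_mul_index inf_le_right]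

/-- if the class sizes of `x` and `y` are coprime, the centralizer of `y` is transitive on the
class of `x` -/
theorem exists_mem_centralizer_conj [Finite G] (x y : G) (h : (cs x).Coprime (cs y)) (a : G) :
    ∃ v ∈ Subgroup.centralizer ({y} : Set G), a * x * a⁻¹ = v * x * v⁻¹ := by
  have h1 : {w : G | ∃ v ∈ Subgroup.centralizer ({y} : Set G), w = v * x * v⁻¹}.ncard = cs x := by
    rw [Cfsg.Agent.S4163.ncard_conj_orbit]
    exact relIndex_eq_index_of_coprime _ _ h
  have h2 : {w : G | ∃ v ∈ Subgroup.centralizer ({y} : Set G), w = v * x * v⁻¹} ⊆ cls x := by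
    rintro w ⟨v, _, rfl⟩
    exact ⟨v, rfl⟩
  have h3 := Set.eq_of_subset_of_ncard_le h2 (by rw [h1, ncard_cls]) (Set.toFinite _)
  have h4 : a * x * a⁻¹ ∈ cls x := ⟨a, rfl⟩
  rw [← h3] at h4
  obtain ⟨v, hv, hv2⟩ := h4
  exact ⟨v, hv, hv2⟩

theorem conj_mul_of_coprime [Finite G] (x y : G) (h : (cs x).Coprime (cs y)) (a : G) :
    ∃ v : G, (a * x * a⁻¹) * y = v * (x * y) * v⁻¹ := by
  obtain ⟨v, hv, hv2⟩ := exists_mem_centralizer_conj x y h a
  refine ⟨v, ?_⟩
  rw [hv2]
  have h1 : v * y = y * v := mem_cent.1 hv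
  calc v * x * v⁻¹ * y = v * x * v⁻¹ * (y * v) * v⁻¹ := by group
    _ = v * x * v⁻¹ * (v * y) * v⁻¹ := by rw [h1]
    _ = v * (x * y) * v⁻¹ := by group

theorem cs_mul_dvd [Finite G] (x y : G) (h : (cs x).Coprime (cs y)) :
    cs (x * y) ∣ cs x * cs y := by
  have h1 : Subgroup.centralizer ({x} : Set G) ⊓ Subgroup.centralizer ({y} : Set G) ≤
      Subgroup.centralizer ({x * y} : Set G) := by
    intro k hk
    rw [Subgroup.mem_inf, mem_cent, mem_cent] at hk
    rw [mem_cent, ← mul_assoc, hk.1, mul_assoc, hk.2, mul_assoc]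
  have h2 := Subgroup.index_dvd_of_le h1
  rwa [index_inf_of_coprime _ _ h] at h2

theorem cs_le_cs_mul [Finite G] (x y : G) (h : (cs x).Coprime (cs y)) :
    cs x ≤ cs (x * y) := by
  rw [← ncard_cls x, ← ncard_cls (x * y)]
  have hinj : Function.Injective (fun w : G => w * y) := mul_left_injective y
  rw [← Set.ncard_image_of_injective _ hinj]
  apply Set.ncard_le_ncard _ (Set.toFinite _)
  rintro _ ⟨w, ⟨a, rfl⟩, rfl⟩
  obtain ⟨v, hv⟩ := conj_mul_of_coprime x y h a
  exact ⟨v, hv⟩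

theorem cs_mul_comm (x y : G) : cs (x * y) = cs (y * x) := by
  have : y * x = x⁻¹ * (x * y) * x⁻¹⁻¹ := by group
  rw [this, cs_conj]

theorem cs_le_cs_mul' [Finite G] (x y : G) (h : (cs x).Coprime (cs y)) :
    cs y ≤ cs (x * y) := by
  rw [cs_mul_comm]
  exact cs_le_cs_mul y x h.symm


/-- `m` is an `S`-number: all its prime divisors lie in `S` -/
def SNum (S : Set ℕ) (m : ℕ) : Prop := ∀ p : ℕ, p.Prime → p ∣ m → p ∈ S

theorem SNum.one (S : Set ℕ) : SNum S 1 := by
  intro p hp hd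
  exact absurd (Nat.dvd_one.1 hd) hp.ne_one

theorem SNum.of_dvd {S : Set ℕ} {a b : ℕ} (ha : SNum S a) (h : b ∣ a) : SNum S b :=
  fun p hp hd => ha p hp (hd.trans h)

theorem SNum.coprime {S1 S2 : Set ℕ} (hdisj : ∀ p, p ∈ S1 → p ∈ S2 → False) {a b : ℕ}
    (ha : SNum S1 a) (hb : SNum S2 b) : a.Coprime b := by
  apply Nat.Coprime.symm
  apply Nat.Coprime.symm
  exact Nat.coprime_of_dvd fun k hk h1 h2 => hdisj k (ha k hk h1) (hb k hk h2)

theorem SNum.eq_one {S1 S2 : Set ℕ} (hdisj : ∀ p, p ∈ S1 → p ∈ S2 → False) {a : ℕ}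
    (ha : SNum S1 a) (hb : SNum S2 a) : a = 1 := by
  have := SNum.coprime hdisj ha hb
  exact (Nat.coprime_self a).1 this

section twosets

variable [Finite G] {S1 S2 : Set ℕ} (hdisj : ∀ p, p ∈ S1 → p ∈ S2 → False)
  (hdich : ∀ g : G, SNum S1 (cs g) ∨ SNum S2 (cs g))

include hdisj hdich in
theorem cs_mul_eq (x y : G) (hx : SNum S1 (cs x)) (hy : SNum S2 (cs y)) (hlt : cs x < cs y) :
    cs (x * y) = cs y := by
  have hcop : (cs x).Coprime (cs y) := SNum.coprime hdisj hx hy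
  have hdvd := cs_mul_dvd x y hcop
  have hle := cs_le_cs_mul' x y hcop
  rcases hdich (x * y) with h | h
  · exfalso
    have h1 : (cs (x * y)).Coprime (cs y) := SNum.coprime hdisj h hy
    have h2 : cs (x * y) ∣ cs x := h1.dvd_of_dvd_mul_right hdvd
    have h3 := Nat.le_of_dvd (Nat.pos_of_ne_zero (cs_ne_zero x)) h2
    omega
  · have h1 : (cs x).Coprime (cs (x * y)) := SNum.coprime hdisj hx h
    have h2 : cs (x * y) ∣ cs y := h1.symm.dvd_of_dvd_mul_left hdvd
    have h3 := Nat.le_of_dvd (Nat.pos_of_ne_zero (cs_ne_zero y)) h2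
    omega

include hdisj hdich in
theorem comm_mul_conj (x y : G) (hx : SNum S1 (cs x)) (hy : SNum S2 (cs y)) (hlt : cs x < cs y)
    (a : G) : ∃ v : G, ⁅a, x⁆ * y = v * y * v⁻¹ := by
  have hx' : SNum S1 (cs x⁻¹) := by rw [cs_inv]; exact hx
  have h1 : cs (x⁻¹ * y) = cs y := cs_mul_eq hdisj hdich x⁻¹ y hx' hy (by rw [cs_inv]; exact hlt)
  have hcop : (cs x).Coprime (cs (x⁻¹ * y)) := by
    rw [h1]; exact SNum.coprime hdisj hx hy
  obtain ⟨v, hv⟩ := conj_mul_of_coprime x (x⁻¹ * y) hcop a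
  refine ⟨v, ?_⟩
  rw [commutatorElement_def]
  calc a * x * a⁻¹ * x⁻¹ * y = a * x * a⁻¹ * (x⁻¹ * y) := by group
    _ = v * (x * (x⁻¹ * y)) * v⁻¹ := hv
    _ = v * y * v⁻¹ := by group

end twosets

/-- the left stabilizer of the conjugacy class of `y` -/
def St [Finite G] (y : G) : Subgroup G where
  carrier := {k | ∀ w ∈ cls y, k * w ∈ cls y}
  one_mem' := by
    intro w hw
    rwa [one_mul]
  mul_mem' := by
    intro a b ha hb w hw
    rw [mul_assoc]
    exact ha _ (hb w hw)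
  inv_mem' := by
    intro k hk w hw
    have hinj : Function.Injective (fun t : cls y => (⟨k * t.1, hk t.1 t.2⟩ : cls y)) := by
      intro s t hst
      have : k * s.1 = k * t.1 := congrArg Subtype.val hst
      exact Subtype.ext (mul_left_cancel this)
    obtain ⟨t, ht⟩ := Finite.surjective_of_injective hinj ⟨w, hw⟩
    have h1 : k * t.1 = w := congrArg Subtype.val ht
    have h2 : k⁻¹ * w = t.1 := by rw [← h1]; group
    rw [h2]
    exact t.2

theorem mem_St [Finite G] {y k : G} : k ∈ St y ↔ ∀ w ∈ cls y, k * w ∈ cls y := Iff.rfl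

instance St_normal [Finite G] (y : G) : (St y).Normal := by
  constructor
  intro k hk g w hw
  have h1 : g⁻¹ * w * g⁻¹⁻¹ ∈ cls y := conj_mem_cls hw g⁻¹
  have h2 := hk _ h1
  have h3 := conj_mem_cls h2 g
  have : g * k * g⁻¹ * w = g * (k * (g⁻¹ * w * g⁻¹⁻¹)) * g⁻¹ := by group
  rw [this]
  exact h3

theorem mul_mem_cls_of_mem_St [Finite G] {y k w : G} (hk : k ∈ St y) (hw : w ∈ cls y) :
    w * k ∈ cls y := by
  have h1 : k⁻¹ * w * k⁻¹⁻¹ ∈ cls y := conj_mem_cls hw k⁻¹
  have h2 := hk _ h1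
  have : w * k = k * (k⁻¹ * w * k⁻¹⁻¹) := by group
  rw [this]
  exact h2

theorem card_dvd_of_le_St [Finite G] (y : G) (L : Subgroup G) (h : L ≤ St y) :
    Nat.card L ∣ cs y := by
  have h1 : (QuotientGroup.mk : G → G ⧸ L) ⁻¹' ((QuotientGroup.mk : G → G ⧸ L) '' (cls y)) =
      cls y := by
    rw [QuotientGroup.preimage_image_mk_eq_mul]
    ext w
    constructor
    · rintro ⟨a, ha, b, hb, rfl⟩
      exact mul_mem_cls_of_mem_St (h hb) ha
    · intro hw
      exact ⟨w, hw, 1, L.one_mem, mul_one w⟩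
  have h2 := QuotientGroup.card_preimage_mk L ((QuotientGroup.mk : G → G ⧸ L) '' (cls y))
  rw [h1] at h2
  have h3 : Nat.card (cls y) = cs y := by
    rw [← ncard_cls y]; rfl
  rw [← h3, h2]
  exact dvd_mul_right _ _


/-- generators of `K`: commutators with elements of `S1`-class size -/
def Kgen (G : Type*) [Group G] (S1 : Set ℕ) : Set G :=
  {c | ∃ a x : G, SNum S1 (cs x) ∧ c = ⁅a, x⁆}

/-- `K = [G, T1]` -/
def KK (G : Type*) [Group G] (S1 : Set ℕ) : Subgroup G := Subgroup.normalClosure (Kgen G S1)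

instance KK_normal (S1 : Set ℕ) : (KK G S1).Normal := Subgroup.normalClosure_normal

theorem comm_mem_KK {S1 : Set ℕ} (a x : G) (hx : SNum S1 (cs x)) : ⁅a, x⁆ ∈ KK G S1 :=
  Subgroup.subset_normalClosure ⟨a, x, hx, rfl⟩

section twosets2

variable [Finite G] {S1 S2 : Set ℕ} (hdisj : ∀ p, p ∈ S1 → p ∈ S2 → False)
  (hdich : ∀ g : G, SNum S1 (cs g) ∨ SNum S2 (cs g))

include hdisj hdich in
theorem comm_mem_St (x y : G) (hx : SNum S1 (cs x)) (hy : SNum S2 (cs y)) (hlt : cs x < cs y)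
    (a : G) : ⁅a, x⁆ ∈ St y := by
  intro w hw
  have hcw : cs w = cs y := cs_of_mem_cls hw
  obtain ⟨v, hv⟩ := comm_mul_conj hdisj hdich x w hx (by rw [hcw]; exact hy)
    (by rw [hcw]; exact hlt) a
  rw [hv]
  exact conj_mem_cls hw v

include hdisj hdich in
theorem KK_le_St (y : G) (hy : SNum S2 (cs y)) (hbig : ∀ x : G, SNum S1 (cs x) → cs x < cs y) :
    KK G S1 ≤ St y := by
  apply Subgroup.normalClosure_le_normal
  rintro c ⟨a, x, hx, rfl⟩
  exact comm_mem_St hdisj hdich x y hx hy (hbig x hx) a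

variable (b : G) (hb : ∀ g : G, cs g ≤ cs b) (hbS : SNum S2 (cs b)) (hb1 : cs b ≠ 1)

include hdisj hdich hb hbS hb1 in
theorem card_KK_dvd : Nat.card (KK G S1) ∣ cs b := by
  apply card_dvd_of_le_St
  apply KK_le_St hdisj hdich b hbS
  intro x hx
  rcases lt_or_eq_of_le (hb x) with h | h
  · exact h
  · exfalso
    rw [h] at hx
    exact hb1 (SNum.eq_one hdisj hx hbS)

include hdisj hdich hb hbS hb1 in
theorem all_big (y : G) (hy : SNum S2 (cs y)) (hy1 : cs y ≠ 1) (x : G) (hx : SNum S1 (cs x)) :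
    cs x < cs y := by
  by_contra hcon
  have hle : cs y ≤ cs x := not_lt.1 hcon
  haveI : Nonempty {x : G // SNum S1 (cs x)} := ⟨⟨x, hx⟩⟩
  obtain ⟨⟨x0, hx0⟩, hmax⟩ := Finite.exists_max (fun t : {x : G // SNum S1 (cs x)} => cs t.1)
  have hmax' : ∀ t : G, SNum S1 (cs t) → cs t ≤ cs x0 := fun t ht => hmax ⟨t, ht⟩
  have hlt : cs y < cs x0 := by
    rcases lt_or_eq_of_le (hle.trans (hmax' x hx)) with h | h
    · exact h
    · exfalso
      rw [h] at hy
      rw [h] at hy1
      exact hy1 (SNum.eq_one hdisj hx0 hy)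
  have hdisj' : ∀ p, p ∈ S2 → p ∈ S1 → False := fun p h2 h1 => hdisj p h1 h2
  have hdich' : ∀ g : G, SNum S2 (cs g) ∨ SNum S1 (cs g) := fun g => (hdich g).symm
  have hall : ∀ a : G, ⁅a, y⁆ = 1 := by
    intro a
    have h1 : ⁅a, y⁆ ∈ St x0 := comm_mem_St hdisj' hdich' y x0 hy hx0 hlt a
    obtain ⟨v, hv⟩ := comm_mul_conj hdisj' hdich' y x0 hy hx0 hlt a
    have h2 : ⁅a, y⁆ = ⁅v, x0⁆ := by
      rw [commutatorElement_def v x0, ← hv]; group
    have h3 : ⁅a, y⁆ ∈ KK G S1 := by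
      rw [h2]; exact comm_mem_KK v x0 hx0
    have h4 : orderOf ⁅a, y⁆ ∣ cs x0 := by
      rw [← Nat.card_zpowers]
      apply card_dvd_of_le_St
      rw [Subgroup.zpowers_le]
      exact h1
    have h5 : orderOf ⁅a, y⁆ ∣ cs b :=
      (Subgroup.orderOf_dvd_natCard _ h3).trans (card_KK_dvd hdisj hdich b hb hbS hb1)
    have h6 : (cs x0).Coprime (cs b) := SNum.coprime hdisj hx0 hbS
    have h7 : orderOf ⁅a, y⁆ = 1 := Nat.eq_one_of_dvd_coprimes h6 h4 h5
    exact orderOf_eq_one_iff.1 h7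
  apply hy1
  rw [cs_eq_one_iff]
  intro a
  have h1 := hall a
  rw [commutatorElement_def] at h1
  have h2 : a * y = (a * y * a⁻¹ * y⁻¹) * (y * a) := by group
  rw [h2, h1, one_mul]

include hdisj hdich hb hbS hb1 in
theorem lt_of_SNum (x y : G) (hx : SNum S1 (cs x)) (hy : ¬ SNum S1 (cs y)) :
    SNum S2 (cs y) ∧ cs x < cs y := by
  have hy2 : SNum S2 (cs y) := (hdich y).resolve_left hy
  have hy1 : cs y ≠ 1 := by
    intro h
    apply hy
    rw [h]
    exact SNum.one S1
  exact ⟨hy2, all_big hdisj hdich b hb hbS hb1 y hy2 hy1 x hx⟩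

include hdisj hdich hb hbS hb1 in
theorem exists_NN : ∃ N : Subgroup G, N.Normal ∧ ∀ x : G, x ∈ N ↔ SNum S1 (cs x) := by
  refine ⟨{ carrier := {x | SNum S1 (cs x)}
            one_mem' := ?one
            mul_mem' := ?mul
            inv_mem' := ?inv }, ⟨?nor⟩, fun x => Iff.rfl⟩
  case one =>
    have h1 : cs (1 : G) = 1 := by
      rw [cs_eq_one_iff]; intro h; simp
    show SNum S1 (cs (1 : G))
    rw [h1]; exact SNum.one S1
  case mul =>
    intro x x' hx hx'
    by_contra hcon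
    have hx1 : SNum S1 (cs x⁻¹) := by rw [cs_inv]; exact hx
    obtain ⟨hy2, hlt⟩ := lt_of_SNum hdisj hdich b hb hbS hb1 x⁻¹ (x * x') hx1 hcon
    have h1 := cs_mul_eq hdisj hdich x⁻¹ (x * x') hx1 hy2 hlt
    rw [inv_mul_cancel_left] at h1
    apply hcon
    show SNum S1 (cs (x * x'))
    rw [← h1]
    exact hx'
  case inv =>
    intro x hx
    show SNum S1 (cs x⁻¹)
    rw [cs_inv]; exact hx
  case nor =>
    intro x hx g
    show SNum S1 (cs (g * x * g⁻¹))
    rw [cs_conj]; exact hx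

/-- `|K : K ∩ H|` divides `|G : H|` for `K` normal -/
theorem relIndex_dvd_index_of_normal_right (H K : Subgroup G) [K.Normal] :
    H.relIndex K ∣ H.index := by
  have h1 : Nat.card (H ⊔ K : Subgroup G) = Nat.card K * K.relIndex H :=
    Cfsg.Agent.Lib.Helper22.card_sup_normal H K
  have h2 : Nat.card H * H.relIndex (H ⊔ K) = Nat.card (H ⊔ K : Subgroup G) :=
    Cfsg.Agent.Lib.Helper22.card_mul_relIndex_of_le le_sup_left
  have h3 : Nat.card (H ⊓ K : Subgroup G) * H.relIndex K = Nat.card K := by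
    rw [← Subgroup.inf_relIndex_right]
    exact Cfsg.Agent.Lib.Helper22.card_mul_relIndex_of_le inf_le_right
  have h4 : Nat.card (H ⊓ K : Subgroup G) * K.relIndex H = Nat.card H := by
    rw [← Subgroup.inf_relIndex_left]
    exact Cfsg.Agent.Lib.Helper22.card_mul_relIndex_of_le inf_le_left
  have h5 : H.relIndex K = H.relIndex (H ⊔ K) := by
    have h6 : Nat.card (H ⊓ K : Subgroup G) * K.relIndex H * H.relIndex (H ⊔ K) =
        Nat.card (H ⊓ K : Subgroup G) * K.relIndex H * H.relIndex K := by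
      calc Nat.card (H ⊓ K : Subgroup G) * K.relIndex H * H.relIndex (H ⊔ K)
          = Nat.card H * H.relIndex (H ⊔ K) := by rw [h4]
        _ = Nat.card K * K.relIndex H := by rw [h2, h1]
        _ = Nat.card (H ⊓ K : Subgroup G) * H.relIndex K * K.relIndex H := by rw [h3]
        _ = Nat.card (H ⊓ K : Subgroup G) * K.relIndex H * H.relIndex K := by ring
    have h7 : Nat.card (H ⊓ K : Subgroup G) * K.relIndex H ≠ 0 := by
      rw [h4]; exact Nat.card_pos.ne'
    exact (Nat.eq_of_mul_eq_mul_left (Nat.pos_of_ne_zero h7) h6).symm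
  rw [h5]
  exact Subgroup.relIndex_dvd_index_of_le le_sup_left

include hdisj hdich hb hbS hb1 in
theorem KK_le_centralizer (x : G) (hx : SNum S1 (cs x)) :
    KK G S1 ≤ Subgroup.centralizer ({x} : Set G) := by
  rw [← Subgroup.relIndex_eq_one]
  have h1 : (Subgroup.centralizer ({x} : Set G)).relIndex (KK G S1) ∣ cs x :=
    relIndex_dvd_index_of_normal_right _ _
  have h2 : (Subgroup.centralizer ({x} : Set G)).relIndex (KK G S1) ∣ cs b :=
    (Subgroup.relIndex_dvd_card _ _).trans (card_KK_dvd hdisj hdich b hb hbS hb1)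
  exact Nat.eq_one_of_dvd_coprimes (SNum.coprime hdisj hx hbS) h1 h2

include hdisj hdich hb hbS hb1 in
/-- summary of part A -/
theorem partA : ∃ N K : Subgroup G, N.Normal ∧ K.Normal ∧ (∀ x : G, x ∈ N ↔ SNum S1 (cs x)) ∧
    K ≤ N ∧ (∀ g : G, ∀ x ∈ N, ⁅g, x⁆ ∈ K) ∧ SNum S2 (Nat.card K) ∧
    (∀ y : G, y ∉ N → K ≤ St y) ∧ (∀ x ∈ N, K ≤ Subgroup.centralizer ({x} : Set G)) := by
  obtain ⟨N, hNn, hN⟩ := exists_NN hdisj hdich b hb hbS hb1
  refine ⟨N, KK G S1, hNn, inferInstance, hN, ?_, ?_, ?_, ?_, ?_⟩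
  · apply Subgroup.normalClosure_le_normal
    rintro c ⟨a, x, hx, rfl⟩
    rw [commutatorElement_def]
    exact N.mul_mem (hNn.conj_mem x ((hN x).2 hx) a) (N.inv_mem ((hN x).2 hx))
  · intro g x hx
    exact comm_mem_KK g x ((hN x).1 hx)
  · exact hbS.of_dvd (card_KK_dvd hdisj hdich b hb hbS hb1)
  · intro y hy
    have hy' : ¬ SNum S1 (cs y) := fun h => hy ((hN y).2 h)
    have hy2 : SNum S2 (cs y) := (hdich y).resolve_left hy'
    apply KK_le_St hdisj hdich y hy2
    intro x hx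
    exact (lt_of_SNum hdisj hdich b hb hbS hb1 x y hx hy').2
  · intro x hx
    exact KK_le_centralizer hdisj hdich b hb hbS hb1 x ((hN x).1 hx)

end twosets2

end Cfsg.Agent.Lib.Helper18.ClassGraph
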