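import Mathlib
import Cfsg.Agent.Lib.Helper18.ClassGraph
import Cfsg.Agent.Lib.Helper22.Sylow

set_option autoImplicit false

namespace Cfsg.Agent.Lib.Helper18.ClassGraphB

open scoped Pointwise commutatorElement
open Cfsg.Agent.Lib.Helper18.ClassGraph

variable {G : Type*} [Group G]

section partB

variable [Finite G] (N K : Subgroup G) [hNn : N.Normal] [hKn : K.Normal]
  (hcomm : ∀ g : G, ∀ x ∈ N, ⁅g, x⁆ ∈ K)
  (hcent : ∀ x ∈ N, ∀ k ∈ K, k * x = x * k)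
  (hconj : ∀ y : G, y ∉ N → ∀ k ∈ K, ∃ v : G, k * y = v * y * v⁻¹)
  (p : ℕ) [hp : Fact p.Prime] (hpK : ¬ p ∣ Nat.card K) (hpy : ∀ y : G, y ∉ N → ¬ p ∣ cs y)
  (u : G) (hu : u ∉ Subgroup.center G) (a : ℕ) (hua : orderOf u = p ^ a)

include hpK in
theorem eq_one_of_pow (c : G) (hc : c ∈ K) (h : c ^ (p ^ a) = 1) : c = 1 := by
  have h1 : orderOf c ∣ p ^ a := orderOf_dvd_of_pow_eq_one h
  have h2 : orderOf c ∣ Nat.card K := Subgroup.orderOf_dvd_natCard _ hc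
  have h3 : (p ^ a).Coprime (Nat.card K) :=
    Nat.Coprime.pow_left _ ((Nat.Prime.coprime_iff_not_dvd hp.out).2 hpK)
  exact orderOf_eq_one_iff.1 (Nat.eq_one_of_dvd_coprimes h3 h1 h2)

include hcomm hcent hpK hu hua in
theorem u_not_mem : u ∉ N := by
  intro huN
  apply hu
  rw [Subgroup.mem_center_iff]
  intro g
  have hc : ⁅g, u⁆ ∈ K := hcomm g u huN
  have hcu : ⁅g, u⁆ * u = u * ⁅g, u⁆ := hcent u huN _ hc
  have h1 : g * u * g⁻¹ = ⁅g, u⁆ * u := by rw [commutatorElement_def]; group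
  have h2 : (g * u * g⁻¹) ^ (p ^ a) = 1 := by
    rw [conj_pow, ← hua, pow_orderOf_eq_one]; group
  rw [h1, (show Commute ⁅g, u⁆ u from hcu).mul_pow, ← hua, pow_orderOf_eq_one, mul_one, hua] at h2
  have h3 := eq_one_of_pow K p hpK a _ hc h2
  rw [commutatorElement_def] at h3
  have h4 : g * u = (g * u * g⁻¹ * u⁻¹) * (u * g) := by group
  rw [h4, h3, one_mul]

include hcomm hcent hconj hpK hu hua in
theorem fpf_u (k : G) (hk : k ∈ K) (hku : k * u = u * k) : k = 1 := by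
  obtain ⟨v, hv⟩ := hconj u (u_not_mem N K hcomm hcent p hpK u hu a hua) k hk
  have h2 : (k * u) ^ (p ^ a) = 1 := by
    rw [hv, conj_pow, ← hua, pow_orderOf_eq_one]; group
  rw [(show Commute k u from hku).mul_pow, ← hua, pow_orderOf_eq_one, mul_one, hua] at h2
  exact eq_one_of_pow K p hpK a _ hk h2

/-- elements centralizing `u` modulo `K` -/
def Du (K : Subgroup G) [hKn : K.Normal] (u : G) : Subgroup G where
  carrier := {g | ⁅g, u⁆ ∈ K}
  one_mem' := by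
    show ⁅(1 : G), u⁆ ∈ K
    rw [commutatorElement_def]; simp
  mul_mem' := by
    intro g h hg hh
    show ⁅g * h, u⁆ ∈ K
    have : ⁅g * h, u⁆ = g * ⁅h, u⁆ * g⁻¹ * ⁅g, u⁆ := by
      simp only [commutatorElement_def]; group
    rw [this]
    exact K.mul_mem (hKn.conj_mem _ hh g) hg
  inv_mem' := by
    intro g hg
    show ⁅g⁻¹, u⁆ ∈ K
    have : ⁅g⁻¹, u⁆ = g⁻¹ * (⁅g, u⁆)⁻¹ * g⁻¹⁻¹ := by
      simp only [commutatorElement_def]; group
    rw [this]
    exact hKn.conj_mem _ (K.inv_mem hg) g⁻¹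

include hcomm hpy hua in
theorem Du_eq_top : Du K u = ⊤ := by
  apply Cfsg.Agent.Lib.Helper22.eq_top_of_conj_cover
  intro g
  by_cases hg : g ∈ N
  · refine ⟨1, ?_⟩
    show ⁅1⁻¹ * g * 1, u⁆ ∈ K
    have h1 : ⁅1⁻¹ * g * 1, u⁆ = (⁅u, g⁆)⁻¹ := by
      rw [commutatorElement_inv]; simp
    rw [h1]
    exact K.inv_mem (hcomm u g hg)
  · have h1 : ¬ p ∣ (Subgroup.centralizer ({g} : Set G)).index := hpy g hg
    obtain ⟨R, hR, -⟩ := Cfsg.Agent.Lib.Helper22.exists_sylow_le_of_pelement p _ h1 1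
      (Subgroup.one_mem _) 0 (by simp)
    have hpg : IsPGroup p (Subgroup.zpowers u) := by
      apply IsPGroup.of_card (n := a)
      rw [Nat.card_zpowers, hua]
    obtain ⟨P, hP⟩ := hpg.exists_le_sylow
    obtain ⟨c, hc⟩ := MulAction.exists_smul_eq G R P
    have h2 : u ∈ ((c • R : Sylow p G) : Subgroup G) := by
      rw [hc]; exact hP (Subgroup.mem_zpowers u)
    rw [Cfsg.Agent.Lib.Helper22.mem_smul_sylow_iff] at h2
    have h3 := mem_cent.1 (hR h2)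
    refine ⟨c⁻¹, ?_⟩
    show ⁅c⁻¹⁻¹ * g * c⁻¹, u⁆ ∈ K
    have h4 : ⁅c⁻¹⁻¹ * g * c⁻¹, u⁆ = 1 := by
      rw [commutatorElement_eq_one_iff_commute]
      show c⁻¹⁻¹ * g * c⁻¹ * u = u * (c⁻¹⁻¹ * g * c⁻¹)
      have e1 : c⁻¹⁻¹ * g * c⁻¹ * u = c * (g * (c⁻¹ * u * c)) * c⁻¹ := by group
      have e2 : u * (c⁻¹⁻¹ * g * c⁻¹) = c * ((c⁻¹ * u * c) * g) * c⁻¹ := by group
      rw [e1, e2, h3]
    rw [h4]
    exact K.one_mem

include hcomm hpy hua in
theorem comm_u_mem (g : G) : ⁅g, u⁆ ∈ K := by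
  have : g ∈ Du K u := by
    rw [Du_eq_top N K hcomm p hpy u a hua]; trivial
  exact this

include hcomm hcent hconj hpK hpy hu hua in
theorem exists_KH (g : G) :
    ∃ k ∈ K, ∃ h ∈ Subgroup.centralizer ({u} : Set G), g = k * h := by
  have hmem : ∀ k : K, ⁅(k : G), u⁆ ∈ K := fun k => comm_u_mem N K hcomm p hpy u a hua k
  have hinj : Function.Injective (fun k : K => (⟨⁅(k : G), u⁆, hmem k⟩ : K)) := by
    intro k1 k2 h12
    have h1 : ⁅(k1 : G), u⁆ = ⁅(k2 : G), u⁆ := congrArg Subtype.val h12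
    rw [commutatorElement_def, commutatorElement_def] at h1
    have h2 : (k1 : G) * u * (k1 : G)⁻¹ = (k2 : G) * u * (k2 : G)⁻¹ := mul_right_cancel h1
    have h3 : ((k2 : G)⁻¹ * k1) * u = u * ((k2 : G)⁻¹ * k1) := by
      calc ((k2 : G)⁻¹ * k1) * u = (k2 : G)⁻¹ * ((k1 : G) * u * (k1 : G)⁻¹) * k1 := by group
        _ = (k2 : G)⁻¹ * ((k2 : G) * u * (k2 : G)⁻¹) * k1 := by rw [h2]
        _ = u * ((k2 : G)⁻¹ * k1) := by group
    have h4 := fpf_u N K hcomm hcent hconj p hpK u hu a hua _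
      (K.mul_mem (K.inv_mem k2.2) k1.2) h3
    apply Subtype.ext
    have : (k1 : G) = k2 * ((k2 : G)⁻¹ * k1) := by group
    rw [this, h4, mul_one]
  obtain ⟨k, hk⟩ := Finite.surjective_of_injective hinj
    ⟨⁅g, u⁆, comm_u_mem N K hcomm p hpy u a hua g⟩
  have h1 : ⁅(k : G), u⁆ = ⁅g, u⁆ := congrArg Subtype.val hk
  rw [commutatorElement_def, commutatorElement_def] at h1
  have h2 : (k : G) * u * (k : G)⁻¹ = g * u * g⁻¹ := mul_right_cancel h1
  refine ⟨k, k.2, (k : G)⁻¹ * g, ?_, by group⟩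
  rw [mem_cent]
  calc (k : G)⁻¹ * g * u = (k : G)⁻¹ * (g * u * g⁻¹) * g := by group
    _ = (k : G)⁻¹ * ((k : G) * u * (k : G)⁻¹) * g := by rw [h2]
    _ = u * ((k : G)⁻¹ * g) := by group

include hcomm hcent hconj hpK hu hua in
theorem K_inf_H (k : G) (hk : k ∈ K) (hkH : k ∈ Subgroup.centralizer ({u} : Set G)) : k = 1 :=
  fpf_u N K hcomm hcent hconj p hpK u hu a hua k hk (mem_cent.1 hkH)

include hcomm hcent hconj hpK hpy hu hua in
theorem N_inf_H (d : G) (hdN : d ∈ N) (hdH : d ∈ Subgroup.centralizer ({u} : Set G)) :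
    d ∈ Subgroup.center G := by
  rw [Subgroup.mem_center_iff]
  intro g
  obtain ⟨k, hk, h, hh, rfl⟩ := exists_KH N K hcomm hcent hconj p hpK hpy u hu a hua g
  have h1 : k * d = d * k := hcent d hdN k hk
  have h2 : ⁅h, d⁆ ∈ K := hcomm h d hdN
  have h3 : ⁅h, d⁆ ∈ Subgroup.centralizer ({u} : Set G) := by
    rw [commutatorElement_def]
    exact Subgroup.mul_mem _ (Subgroup.mul_mem _ (Subgroup.mul_mem _ hh hdH)
      (Subgroup.inv_mem _ hh)) (Subgroup.inv_mem _ hdH)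
  have h4 := K_inf_H N K hcomm hcent hconj p hpK u hu a hua _ h2 h3
  rw [commutatorElement_eq_one_iff_commute] at h4
  have h5 : h * d = d * h := h4
  rw [mul_assoc, h5, ← mul_assoc, h1, mul_assoc]

include hcomm hcent hconj hpK hpy hu hua in
theorem fpf (h : G) (hh : h ∈ Subgroup.centralizer ({u} : Set G)) (hhZ : h ∉ Subgroup.center G)
    (k : G) (hk : k ∈ K) (hkh : k * h = h * k) : k = 1 := by
  have hhN : h ∉ N := fun hN => hhZ (N_inf_H N K hcomm hcent hconj p hpK hpy u hu a hua h hN hh)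
  have hmem : ∀ k : K, ⁅(k : G), h⁆ ∈ K := by
    intro k
    rw [commutatorElement_def, mul_assoc, mul_assoc]
    apply K.mul_mem k.2
    rw [← mul_assoc]
    exact hKn.conj_mem _ (K.inv_mem k.2) h
  have hsurj : Function.Surjective (fun k : K => (⟨⁅(k : G), h⁆, hmem k⟩ : K)) := by
    rintro ⟨k, hk⟩
    obtain ⟨v, hv⟩ := hconj h hhN k hk
    obtain ⟨k', hk', h', hh', rfl⟩ := exists_KH N K hcomm hcent hconj p hpK hpy u hu a hua v
    have hw : h' * h * h'⁻¹ ∈ Subgroup.centralizer ({u} : Set G) :=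
      Subgroup.mul_mem _ (Subgroup.mul_mem _ hh' hh) (Subgroup.inv_mem _ hh')
    have e1 : (k' * (h' * h * h'⁻¹) * k'⁻¹ * (h' * h * h'⁻¹)⁻¹)⁻¹ * k = (h' * h * h'⁻¹) * h⁻¹ := by
      have : k = (k * h) * h⁻¹ := by group
      rw [this, hv]; group
    have e2 : (k' * (h' * h * h'⁻¹) * k'⁻¹ * (h' * h * h'⁻¹)⁻¹)⁻¹ * k ∈ K := by
      apply K.mul_mem (K.inv_mem _) hk
      rw [mul_assoc, mul_assoc]
      apply K.mul_mem hk'
      rw [← mul_assoc]
      exact hKn.conj_mem _ (K.inv_mem hk') _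
    have e3 : (h' * h * h'⁻¹) * h⁻¹ ∈ Subgroup.centralizer ({u} : Set G) :=
      Subgroup.mul_mem _ hw (Subgroup.inv_mem _ hh)
    have e4 : (h' * h * h'⁻¹) * h⁻¹ = 1 := by
      apply K_inf_H N K hcomm hcent hconj p hpK u hu a hua _ _ e3
      rw [← e1]; exact e2
    have e5 : h' * h * h'⁻¹ = h := by
      have : h' * h * h'⁻¹ = (h' * h * h'⁻¹ * h⁻¹) * h := by group
      rw [this, e4, one_mul]
    refine ⟨⟨k', hk'⟩, ?_⟩
    apply Subtype.ext
    show ⁅k', h⁆ = k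
    rw [commutatorElement_def]
    have : k = (k * h) * h⁻¹ := by group
    rw [this, hv]
    have e6 : k' * h' * h * (k' * h')⁻¹ = k' * (h' * h * h'⁻¹) * k'⁻¹ := by group
    rw [e6, e5]
  have hinj := Finite.injective_iff_surjective.2 hsurj
  have h1 : (⟨⁅k, h⁆, hmem ⟨k, hk⟩⟩ : K) = ⟨⁅(1 : G), h⁆, hmem 1⟩ := by
    apply Subtype.ext
    show ⁅k, h⁆ = ⁅(1 : G), h⁆
    rw [commutatorElement_def, commutatorElement_def, hkh]; group
  have h2 := hinj (a₁ := ⟨k, hk⟩) (a₂ := 1) h1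
  exact congrArg Subtype.val h2

include hcomm hcent hconj hpK hpy hu hua in
theorem cent_le_H (h : G) (hh : h ∈ Subgroup.centralizer ({u} : Set G))
    (hhZ : h ∉ Subgroup.center G) (v : G) (hv : v * h = h * v) :
    v ∈ Subgroup.centralizer ({u} : Set G) := by
  obtain ⟨k, hk, h', hh', rfl⟩ := exists_KH N K hcomm hcent hconj p hpK hpy u hu a hua v
  have key : k⁻¹ * h * k = h' * h * h'⁻¹ := by
    calc k⁻¹ * h * k = k⁻¹ * (h * (k * h')) * h'⁻¹ := by group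
      _ = k⁻¹ * (k * h' * h) * h'⁻¹ := by rw [hv]
      _ = h' * h * h'⁻¹ := by group
  have e1 : (h * k * h⁻¹)⁻¹ * k = (h * h') * (h' * h)⁻¹ := by
    calc (h * k * h⁻¹)⁻¹ * k = h * (k⁻¹ * h * k)⁻¹ := by group
      _ = h * (h' * h * h'⁻¹)⁻¹ := by rw [key]
      _ = (h * h') * (h' * h)⁻¹ := by group
  have e2 : (h * k * h⁻¹)⁻¹ * k ∈ K := K.mul_mem (K.inv_mem (hKn.conj_mem _ hk h)) hk
  have e3 : (h * h') * (h' * h)⁻¹ ∈ Subgroup.centralizer ({u} : Set G) :=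
    Subgroup.mul_mem _ (Subgroup.mul_mem _ hh hh')
      (Subgroup.inv_mem _ (Subgroup.mul_mem _ hh' hh))
  have e4 : (h * k * h⁻¹)⁻¹ * k = 1 := by
    apply K_inf_H N K hcomm hcent hconj p hpK u hu a hua _ e2
    rw [e1]; exact e3
  have e5 : k * h = h * k := by
    have : k = (h * k * h⁻¹) * ((h * k * h⁻¹)⁻¹ * k) := by group
    rw [e4, mul_one] at this
    calc k * h = (h * k * h⁻¹) * h := by rw [← this]
      _ = h * k := by group
  have e6 := fpf N K hcomm hcent hconj p hpK hpy u hu a hua h hh hhZ k hk e5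
  rw [e6, one_mul]
  exact hh'

include hcomm hcent hconj hpK hpy hu hua in
theorem K_ne_bot : ∃ x ∈ K, x ≠ 1 := by
  by_contra hcon
  push Not at hcon
  apply hu
  rw [Subgroup.mem_center_iff]
  intro g
  obtain ⟨k, hk, h, hh, rfl⟩ := exists_KH N K hcomm hcent hconj p hpK hpy u hu a hua g
  rw [hcon k hk, one_mul]
  exact mem_cent.1 hh

include hcomm hcent hconj hpK hpy hu hua in
theorem H_comm (hKN : K ≤ N) (hcop : ∀ x ∈ N, ∀ y : G, y ∉ N → (cs x).Coprime (cs y))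
    (h1 : G) (hh1 : h1 ∈ Subgroup.centralizer ({u} : Set G))
    (h2 : G) (hh2 : h2 ∈ Subgroup.centralizer ({u} : Set G)) : h1 * h2 = h2 * h1 := by
  by_cases hZ : h1 ∈ Subgroup.center G
  · exact ((Subgroup.mem_center_iff.1 hZ) h2).symm
  have hhN : h1 ∉ N := fun hN => hZ (N_inf_H N K hcomm hcent hconj p hpK hpy u hu a hua h1 hN hh1)
  obtain ⟨x, hxK, hx1⟩ := K_ne_bot N K hcomm hcent hconj p hpK hpy u hu a hua
  obtain ⟨v, hv, hv2⟩ := exists_mem_centralizer_conj x h1 (hcop x (hKN hxK) h1 hhN) h2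
  have hvH := cent_le_H N K hcomm hcent hconj p hpK hpy u hu a hua h1 hh1 hZ v (mem_cent.1 hv)
  -- t = v⁻¹ h2 centralizes x
  have ht : (v⁻¹ * h2) * x = x * (v⁻¹ * h2) := by
    calc (v⁻¹ * h2) * x = v⁻¹ * (h2 * x * h2⁻¹) * h2 := by group
      _ = v⁻¹ * (v * x * v⁻¹) * h2 := by rw [hv2]
      _ = x * (v⁻¹ * h2) := by group
  have htH : v⁻¹ * h2 ∈ Subgroup.centralizer ({u} : Set G) :=
    Subgroup.mul_mem _ (Subgroup.inv_mem _ hvH) hh2
  have htZ : v⁻¹ * h2 ∈ Subgroup.center G := by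
    by_contra hcon
    exact hx1 (fpf N K hcomm hcent hconj p hpK hpy u hu a hua _ htH hcon x hxK ht.symm)
  have e2 : h1 * (v⁻¹ * h2) = (v⁻¹ * h2) * h1 := (Subgroup.mem_center_iff.1 htZ) h1
  have e3 : v * h1 = h1 * v := mem_cent.1 hv
  calc h1 * h2 = (h1 * v) * (v⁻¹ * h2) := by group
    _ = (v * h1) * (v⁻¹ * h2) := by rw [e3]
    _ = v * (h1 * (v⁻¹ * h2)) := by group
    _ = v * ((v⁻¹ * h2) * h1) := by rw [e2]
    _ = h2 * h1 := by group

end partB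

end Cfsg.Agent.Lib.Helper18.ClassGraphB
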