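import Mathlib
import Cfsg.Prelude.Def_Solvable
import Cfsg.Agent.Lib.Helper18.ClassGraphB
import Cfsg.Agent.Lib.helper23.PrimeGraphSolv

set_option autoImplicit false

namespace Cfsg.Agent.Lib.Helper18.ClassGraphC

open scoped Pointwise commutatorElement
open Cfsg.Agent.Lib.Helper18.ClassGraph Cfsg.Agent.Lib.Helper18.ClassGraphB

variable {G : Type*} [Group G]

/-- abstract structure theorem: from the data of part B, `G/Z(G)` is Frobenius with abelian
kernel `KZ/Z` and abelian complement `C(u)/Z`. -/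
theorem frob_of_data [Finite G] (N K : Subgroup G) [hNn : N.Normal] [hKn : K.Normal]
    (hKN : K ≤ N)
    (hcomm : ∀ g : G, ∀ x ∈ N, ⁅g, x⁆ ∈ K)
    (hcent : ∀ x ∈ N, ∀ k ∈ K, k * x = x * k)
    (hconj : ∀ y : G, y ∉ N → ∀ k ∈ K, ∃ v : G, k * y = v * y * v⁻¹)
    (hcop : ∀ x ∈ N, ∀ y : G, y ∉ N → (cs x).Coprime (cs y))
    (p : ℕ) [hp : Fact p.Prime] (hpK : ¬ p ∣ Nat.card K) (hpy : ∀ y : G, y ∉ N → ¬ p ∣ cs y)
    (u : G) (hu : u ∉ Subgroup.center G) (a : ℕ) (hua : orderOf u = p ^ a) :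
    Cfsg.IsFrobeniusComplement
      ((Subgroup.centralizer ({u} : Set G)).map (QuotientGroup.mk' (Subgroup.center G))) ∧
    Cfsg.frobeniusKernel
      ((Subgroup.centralizer ({u} : Set G)).map (QuotientGroup.mk' (Subgroup.center G))) =
      ((K.map (QuotientGroup.mk' (Subgroup.center G)) : Subgroup (G ⧸ Subgroup.center G)) :
        Set (G ⧸ Subgroup.center G)) ∧
    (∀ h1 ∈ Subgroup.centralizer ({u} : Set G), ∀ h2 ∈ Subgroup.centralizer ({u} : Set G),
      h1 * h2 = h2 * h1) := by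
  obtain ⟨H, hH⟩ : ∃ H : Subgroup G, H = Subgroup.centralizer ({u} : Set G) := ⟨_, rfl⟩
  obtain ⟨π, hπ⟩ : ∃ π : G →* G ⧸ Subgroup.center G, π = QuotientGroup.mk' (Subgroup.center G) :=
    ⟨_, rfl⟩
  rw [← hH, ← hπ]
  have hπs : Function.Surjective π := by rw [hπ]; exact QuotientGroup.mk'_surjective _
  have hπ1 : ∀ g : G, π g = 1 ↔ g ∈ Subgroup.center G := by
    intro g; rw [hπ]; exact QuotientGroup.eq_one_iff g
  have hπeq : ∀ g h : G, π g = π h ↔ g⁻¹ * h ∈ Subgroup.center G := by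
    intro g h; rw [hπ]; exact QuotientGroup.eq
  have hZH : Subgroup.center G ≤ H := by
    intro z hz
    rw [hH, mem_cent]
    exact ((Subgroup.mem_center_iff.1 hz) u).symm
  have hKH : ∀ k ∈ K, k ∈ H → k = 1 := by
    intro k hk hkH
    rw [hH] at hkH
    exact K_inf_H N K hcomm hcent hconj p hpK u hu a hua k hk hkH
  have hdec : ∀ g : G, ∃ k ∈ K, ∃ h ∈ H, g = k * h := by
    intro g
    rw [hH]
    exact exists_KH N K hcomm hcent hconj p hpK hpy u hu a hua g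
  have hfpf : ∀ h ∈ H, h ∉ Subgroup.center G → ∀ k ∈ K, k * h = h * k → k = 1 := by
    intro h hh hhZ k hk hkh
    rw [hH] at hh
    exact fpf N K hcomm hcent hconj p hpK hpy u hu a hua h hh hhZ k hk hkh
  have hHc : ∀ h1 ∈ H, ∀ h2 ∈ H, h1 * h2 = h2 * h1 := by
    intro h1 hh1 h2 hh2
    rw [hH] at hh1 hh2
    exact H_comm N K hcomm hcent hconj p hpK hpy u hu a hua hKN hcop h1 hh1 h2 hh2
  haveI : (K.map π).Normal := Subgroup.Normal.map hKn π hπs
  have hdisj : K.map π ⊓ H.map π = ⊥ := by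
    rw [eq_bot_iff]
    rintro q ⟨⟨k, hk, rfl⟩, ⟨h, hh, hkh⟩⟩
    rw [Subgroup.mem_bot]
    have h1 : h⁻¹ * k ∈ Subgroup.center G := (hπeq h k).1 hkh
    have h2 : k ∈ H := by
      have : k = h * (h⁻¹ * k) := by group
      rw [this]
      exact H.mul_mem hh (hZH h1)
    rw [hKH k hk h2, map_one]
  have hmul : ((K.map π : Subgroup (G ⧸ Subgroup.center G)) : Set (G ⧸ Subgroup.center G)) *
      ((H.map π : Subgroup (G ⧸ Subgroup.center G)) : Set (G ⧸ Subgroup.center G)) =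
      Set.univ := by
    rw [Set.eq_univ_iff_forall]
    intro q
    obtain ⟨g, rfl⟩ := hπs q
    obtain ⟨k, hk, h, hh, rfl⟩ := hdec g
    rw [map_mul]
    exact Set.mul_mem_mul (Subgroup.mem_map_of_mem π hk) (Subgroup.mem_map_of_mem π hh)
  have hcompl : (K.map π).IsComplement' (H.map π) :=
    Subgroup.isComplement'_of_disjoint_and_mul_eq_univ (disjoint_iff.2 hdisj) hmul
  have hK1 : K.map π ≠ ⊥ := by
    intro hbot
    obtain ⟨x, hxK, hx1⟩ := K_ne_bot N K hcomm hcent hconj p hpK hpy u hu a hua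
    have h1 : π x ∈ K.map π := Subgroup.mem_map_of_mem π hxK
    rw [hbot, Subgroup.mem_bot, hπ1] at h1
    exact hx1 (hKH x hxK (hZH h1))
  have hH1 : H.map π ≠ ⊥ := by
    intro hbot
    have huH : u ∈ H := by rw [hH, mem_cent]
    have h1 : π u ∈ H.map π := Subgroup.mem_map_of_mem π huH
    rw [hbot, Subgroup.mem_bot, hπ1] at h1
    exact hu h1
  have hrec := Cfsg.Agent.Lib.helper23.pgs_frob_recog (K.map π) (H.map π) hcompl.card_mul_card
    hdisj hK1 hH1 (by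
      rintro c ⟨h, hh, rfl⟩ hc1 kk ⟨k, hk, rfl⟩ hck
      have hhZ : h ∉ Subgroup.center G := fun hz => hc1 ((hπ1 h).2 hz)
      rw [← map_mul, ← map_mul, hπeq] at hck
      have h1 : (h * k)⁻¹ * (k * h) ∈ K := by
        have : (h * k)⁻¹ * (k * h) = k⁻¹ * (h⁻¹ * k * h⁻¹⁻¹) := by group
        rw [this]
        exact K.mul_mem (K.inv_mem hk) (hKn.conj_mem _ hk h⁻¹)
      have h2 := hKH _ h1 (hZH hck)
      have h3 : k * h = h * k := by
        have : k * h = (h * k) * ((h * k)⁻¹ * (k * h)) := by group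
        rw [this, h2, mul_one]
      rw [hfpf h hh hhZ k hk h3, map_one])
  refine ⟨hrec.1, hrec.2, hHc⟩


/-- main theorem: two "colours" of class sizes, the largest class of colour `S2`, some prime of
colour `S1` occurring: then `G/Z(G)` is Frobenius with abelian kernel and complement. -/
theorem main [Finite G] {S1 S2 : Set ℕ} (hdisj : ∀ p, p ∈ S1 → p ∈ S2 → False)
    (hdich : ∀ g : G, SNum S1 (cs g) ∨ SNum S2 (cs g))
    (b : G) (hb : ∀ g : G, cs g ≤ cs b) (hbS : SNum S2 (cs b))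
    (p : ℕ) (hp : p.Prime) (hpS : p ∈ S1) (g1 : G) (hpg : p ∣ cs g1) :
    ∃ H : Subgroup (G ⧸ Subgroup.center G), Cfsg.IsFrobeniusComplement H ∧ IsMulCommutative H ∧
      ∀ x ∈ Cfsg.frobeniusKernel H, ∀ y ∈ Cfsg.frobeniusKernel H, x * y = y * x := by
  have hb1 : cs b ≠ 1 := by
    intro h1
    have h2 := hb g1
    rw [h1] at h2
    have h3 := Nat.le_of_dvd (Nat.pos_of_ne_zero (cs_ne_zero g1)) hpg
    have := hp.two_le
    omega
  obtain ⟨N, K, hNn, hKn, hN, hKN, hcomm, hKS2, hSt, hcentz⟩ :=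
    partA hdisj hdich b hb hbS hb1
  haveI : Fact p.Prime := ⟨hp⟩
  have hpK : ¬ p ∣ Nat.card K := fun h => hdisj p hpS (hKS2 p hp h)
  have hS2 : ∀ y : G, y ∉ N → SNum S2 (cs y) := by
    intro y hy
    exact (hdich y).resolve_left (fun h' => hy ((hN y).2 h'))
  have hpy : ∀ y : G, y ∉ N → ¬ p ∣ cs y := fun y hy h => hdisj p hpS (hS2 y hy p hp h)
  have hcent : ∀ x ∈ N, ∀ k ∈ K, k * x = x * k := fun x hx k hk => mem_cent.1 (hcentz x hx hk)
  have hconj : ∀ y : G, y ∉ N → ∀ k ∈ K, ∃ v : G, k * y = v * y * v⁻¹ :=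
    fun y hy k hk => (hSt y hy hk) y (self_mem_cls y)
  have hcop : ∀ x ∈ N, ∀ y : G, y ∉ N → (cs x).Coprime (cs y) :=
    fun x hx y hy => SNum.coprime hdisj ((hN x).1 hx) (hS2 y hy)
  obtain ⟨P⟩ : Nonempty (Sylow p G) := inferInstance
  have hu : ∃ u ∈ (P : Subgroup G), u ∉ Subgroup.center G := by
    by_contra hcon
    push Not at hcon
    have h1 : (P : Subgroup G) ≤ Subgroup.centralizer ({g1} : Set G) := by
      intro x hx
      rw [mem_cent]
      exact ((Subgroup.mem_center_iff.1 (hcon x hx)) g1).symm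
    exact P.not_dvd_index (hpg.trans (Subgroup.index_dvd_of_le h1))
  obtain ⟨u, huP, hu⟩ := hu
  obtain ⟨a, hua⟩ := Cfsg.Agent.Lib.Helper22.orderOf_of_mem_pgroup p P P.2 u huP
  obtain ⟨h1, h2, h3⟩ := frob_of_data N K hKN hcomm hcent hconj hcop p hpK hpy u hu a hua
  refine ⟨_, h1, ⟨⟨?_⟩⟩, ?_⟩
  · rintro ⟨x, c1, hc1, rfl⟩ ⟨y, c2, hc2, rfl⟩
    apply Subtype.ext
    show (QuotientGroup.mk' (Subgroup.center G)) c1 * (QuotientGroup.mk' (Subgroup.center G)) c2 =
      (QuotientGroup.mk' (Subgroup.center G)) c2 * (QuotientGroup.mk' (Subgroup.center G)) c1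
    rw [← map_mul, ← map_mul, h3 c1 hc1 c2 hc2]
  · intro x hx y hy
    rw [h2] at hx hy
    obtain ⟨k1, hk1, rfl⟩ := hx
    obtain ⟨k2, hk2, rfl⟩ := hy
    rw [← map_mul, ← map_mul, hcent k2 (hKN hk2) k1 hk1]

end Cfsg.Agent.Lib.Helper18.ClassGraphC
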