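import Mathlib
import Cfsg.Agent.Lib.Helper18.ChermakDelgado

set_option autoImplicit false

namespace Cfsg.Agent.Lib.Helper18

open scoped Pointwise

/-- subgroups of coprime index factorize the group -/
theorem exists_mul_of_coprime_index {H : Type*} [Group H] [Finite H] (A B : Subgroup H)
    (hc : A.index.Coprime B.index) (h : H) : ∃ l ∈ B, ∃ a ∈ A, h = l * a := by
  have h1 : A.index ∣ (A ⊓ B).index := Subgroup.index_dvd_of_le inf_le_left
  have h2 : B.index ∣ (A ⊓ B).index := Subgroup.index_dvd_of_le inf_le_right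
  have h3 : A.index * B.index ∣ (A ⊓ B).index := hc.mul_dvd_of_dvd_of_dvd h1 h2
  have h4 : (A ⊓ B).index ≤ A.index * B.index := Subgroup.index_inf_le
  have h5 : (A ⊓ B).index = A.index * B.index :=
    le_antisymm h4 (Nat.le_of_dvd (Nat.pos_of_ne_zero Subgroup.index_ne_zero_of_finite) h3)
  have hA := A.card_mul_index
  have hB := B.card_mul_index
  have hI := (A ⊓ B).card_mul_index
  have hprod := card_mul_set_mul_card_inf B A
  rw [inf_comm] at hprod
  have hn : 0 < Nat.card H := Nat.card_pos
  have hx : Nat.card ((B : Set H) * (A : Set H) : Set H) = Nat.card H := by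
    apply Nat.eq_of_mul_eq_mul_right hn
    calc Nat.card ((B : Set H) * (A : Set H) : Set H) * Nat.card H
        = Nat.card ((B : Set H) * (A : Set H) : Set H) *
            (Nat.card ↥(A ⊓ B) * (A.index * B.index)) := by rw [← h5, hI]
      _ = (Nat.card ((B : Set H) * (A : Set H) : Set H) * Nat.card ↥(A ⊓ B)) *
            (A.index * B.index) := by ring
      _ = (Nat.card B * Nat.card A) * (A.index * B.index) := by rw [hprod]
      _ = (Nat.card A * A.index) * (Nat.card B * B.index) := by ring
      _ = Nat.card H * Nat.card H := by rw [hA, hB]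
  have huniv : ((B : Set H) * (A : Set H) : Set H) = Set.univ := by
    rw [Set.eq_univ_iff_ncard, ← Nat.card_coe_set_eq]
    exact hx
  have hmem : h ∈ ((B : Set H) * (A : Set H) : Set H) := huniv ▸ Set.mem_univ h
  obtain ⟨l, hl, a, ha, hla⟩ := Set.mem_mul.mp hmem
  exact ⟨l, hl, a, ha, hla.symm⟩

end Cfsg.Agent.Lib.Helper18
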