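import Mathlib.GroupTheory.Sylow
import Mathlib.GroupTheory.SpecificGroups.Cyclic
import Mathlib.NumberTheory.Basic
import Mathlib.GroupTheory.Transfer
import Mathlib.Data.Nat.Prime.Int
import Mathlib.RingTheory.PrincipalIdealDomain
import Mathlib.RingTheory.Coprime.Lemmas
import Mathlib.RingTheory.Int.Basic

namespace Cfsg.Agent.Lib.Helper18

variable {G : Type*} [Group G]

theorem conj_pow_zpow_of_conj_eq {n c : G} {u : ℤ} (h : n * c * n⁻¹ = c ^ u) (j : ℕ) :
    n ^ j * c * (n ^ j)⁻¹ = c ^ (u ^ j) := by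
  induction j with
  | zero => simp
  | succ j ih =>
    have : n ^ (j + 1) * c * (n ^ (j + 1))⁻¹ = n * (n ^ j * c * (n ^ j)⁻¹) * n⁻¹ := by
      rw [pow_succ']; simp [mul_assoc]
    rw [this, ih, ← conj_zpow, h, ← zpow_mul, pow_succ']

theorem commute_of_pow_commute_of_coprime {n c : G} {a b : ℕ} (hab : Nat.Coprime a b)
    (ha : Commute (n ^ a) c) (hb : Commute (n ^ b) c) : Commute n c := by
  obtain ⟨α, β, hαβ⟩ := (Nat.isCoprime_iff_coprime.mpr hab)
  have h1 : n = (n ^ a) ^ α * (n ^ b) ^ β := by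
    rw [← zpow_natCast n a, ← zpow_natCast n b, ← zpow_mul, ← zpow_mul, ← zpow_add]
    have : (a : ℤ) * α + (b : ℤ) * β = 1 := by linarith
    rw [this, zpow_one]
  rw [h1]
  exact (ha.zpow_left α).mul_left (hb.zpow_left β)

theorem normalizer_le_centralizer_of_cyclic_sylow [Finite G] {p : ℕ} [hp : Fact p.Prime] (P : Sylow p G)
    (hcyc : IsCyclic ↥(P : Subgroup G)) {x : G} (hxP : x ∈ (P : Subgroup G)) (hx1 : x ≠ 1)
    (hN : Subgroup.normalizer ((P : Subgroup G) : Set G) ≤ Subgroup.centralizer ({x} : Set G)) :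
    Subgroup.normalizer ((P : Subgroup G) : Set G) ≤ Subgroup.centralizer ((P : Subgroup G) : Set G) := by
  obtain ⟨c, hc⟩ := hcyc.exists_generator
  set c' : G := (c : G) with hc'
  have hgen : ∀ y ∈ (P : Subgroup G), ∃ i : ℤ, c' ^ i = y := by
    intro y hy
    obtain ⟨i, hi⟩ := Subgroup.mem_zpowers_iff.mp (hc ⟨y, hy⟩)
    refine ⟨i, ?_⟩
    have := congrArg Subtype.val hi
    simpa using this
  obtain ⟨a, ha⟩ := IsPGroup.iff_card.mp P.isPGroup'
  have hord : orderOf c' = p ^ a := by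
    rw [hc', Subgroup.orderOf_coe, orderOf_eq_card_of_forall_mem_zpowers hc]
    exact ha
  obtain ⟨s, hs⟩ := hgen x hxP
  have hnd : ¬ ((p ^ a : ℕ) : ℤ) ∣ s := by
    intro hd
    rw [← hord, orderOf_dvd_iff_zpow_eq_one, hs] at hd
    exact hx1 hd
  have ha1 : a ≠ 0 := by
    rintro rfl
    apply hnd
    simp
  obtain ⟨k, rfl⟩ := Nat.exists_eq_succ_of_ne_zero ha1
  intro n hn
  have hncP : n * c' * n⁻¹ ∈ (P : Subgroup G) := (Subgroup.mem_normalizer_iff.mp hn c').mp c.2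
  obtain ⟨u, hu⟩ := hgen _ hncP
  have hnx : n * x * n⁻¹ = x := by
    have := hN hn
    rw [Subgroup.mem_centralizer_iff] at this
    have h1 := this x (Set.mem_singleton x)
    calc n * x * n⁻¹ = x * n * n⁻¹ := by rw [h1]
      _ = x := by simp
  have h2 : c' ^ (u * s) = c' ^ s := by
    rw [zpow_mul, hu, conj_zpow, hs, hnx]
  rw [zpow_eq_zpow_iff_modEq, hord] at h2
  have h3 : ((p ^ (k + 1) : ℕ) : ℤ) ∣ s * (u - 1) := by
    have := (Int.modEq_iff_dvd.mp h2.symm)
    have e : u * s - s = s * (u - 1) := by ring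
    rwa [e] at this
  have h4 : (p : ℤ) ∣ u - 1 := by
    by_contra hcon
    have hpi : Prime (p : ℤ) := Nat.prime_iff_prime_int.mp hp.out
    have hcop : IsCoprime (p : ℤ) (u - 1) := hpi.coprime_iff_not_dvd.mpr hcon
    have hcop' : IsCoprime (((p ^ (k + 1) : ℕ)) : ℤ) (u - 1) := by
      push_cast
      exact hcop.pow_left
    exact hnd (hcop'.dvd_of_dvd_mul_right h3)
  have h5 : ((p : ℤ) ^ (k + 1)) ∣ u ^ p ^ k - 1 ^ p ^ k := dvd_sub_pow_of_dvd_sub h4 k
  rw [one_pow] at h5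
  have h6 : c' ^ (u ^ p ^ k) = c' := by
    have : c' ^ (u ^ p ^ k) = c' ^ (1 : ℤ) := by
      rw [zpow_eq_zpow_iff_modEq, hord]
      apply Int.ModEq.symm
      rw [Int.modEq_iff_dvd]
      push_cast
      exact h5
    rw [this, zpow_one]
  have h7 : Commute (n ^ p ^ k) c' := by
    have := conj_pow_zpow_of_conj_eq hu.symm (p ^ k)
    rw [h6] at this
    unfold Commute SemiconjBy
    calc n ^ p ^ k * c' = (n ^ p ^ k * c' * (n ^ p ^ k)⁻¹) * n ^ p ^ k := by simp [mul_assoc]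
      _ = c' * n ^ p ^ k := by rw [this]
  obtain ⟨e, t, ht, hnt⟩ := Nat.exists_eq_pow_mul_and_not_dvd (orderOf_pos n).ne' p hp.out.ne_one
  have h8 : n ^ t ∈ (P : Subgroup G) := by
    have hpg : IsPGroup p (Subgroup.zpowers (n ^ t)) := by
      rintro ⟨g, hg⟩
      obtain ⟨i, rfl⟩ := Subgroup.mem_zpowers_iff.mp hg
      refine ⟨e, Subtype.ext ?_⟩
      simp only [Subgroup.coe_pow, Subgroup.coe_one]
      rw [← zpow_natCast, ← zpow_mul, mul_comm, zpow_mul, zpow_natCast, ← pow_mul, mul_comm t, ← hnt,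
        pow_orderOf_eq_one, one_zpow]
    have h9 := hpg.inf_normalizer_sylow P
    have h10 : n ^ t ∈ Subgroup.zpowers (n ^ t) ⊓ (P : Subgroup G) := by
      rw [← h9]
      exact ⟨Subgroup.mem_zpowers _, Subgroup.pow_mem _ hn t⟩
    exact h10.2
  have h11 : Commute (n ^ t) c' := by
    obtain ⟨i, hi⟩ := hgen _ h8
    rw [← hi]
    exact (Commute.refl c').zpow_left i
  have hcop2 : Nat.Coprime t (p ^ k) := by
    apply Nat.Coprime.pow_right
    exact ((Nat.Prime.coprime_iff_not_dvd hp.out).mpr ht).symm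
  have h12 : Commute n c' := commute_of_pow_commute_of_coprime hcop2 h11 h7
  rw [Subgroup.mem_centralizer_iff]
  intro y hy
  obtain ⟨i, hi⟩ := hgen y hy
  rw [← hi]
  exact (h12.zpow_right i).eq.symm

end Cfsg.Agent.Lib.Helper18
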