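import Mathlib

set_option autoImplicit false

namespace Cfsg.Agent.Lib.Helper18.DerangeInvol

open scoped BigOperators

section

open Classical

variable {G Ω : Type*} [Group G] [MulAction G Ω] [Fintype G] [Fintype Ω]

/-- number of fixed points -/
noncomputable def fixN (g : G) : ℕ := (Finset.univ.filter (fun ω : Ω => g • ω = ω)).card

/-- order of a two point stabilizer -/
noncomputable def st2 (γ δ : Ω) : ℕ := (Finset.univ.filter (fun g : G => g • γ = γ ∧ g • δ = δ)).card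

theorem fixN_eq_sum (g : G) :
    fixN (Ω := Ω) g = ∑ ω : Ω, if g • ω = ω then 1 else 0 := by
  unfold fixN
  rw [Finset.card_filter]

theorem st2_eq_sum (γ δ : Ω) :
    st2 (G := G) γ δ = ∑ g : G, if (g • γ = γ ∧ g • δ = δ) then 1 else 0 := by
  unfold st2
  rw [Finset.card_filter]

theorem sum_fixN_sq :
    ∑ g : G, fixN (Ω := Ω) g * fixN (Ω := Ω) g = ∑ γ : Ω, ∑ δ : Ω, st2 (G := G) γ δ := by
  have h1 : ∀ g : G, fixN (Ω := Ω) g * fixN (Ω := Ω) g =
      ∑ γ : Ω, ∑ δ : Ω, if (g • γ = γ ∧ g • δ = δ) then 1 else 0 := by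
    intro g
    rw [fixN_eq_sum, Finset.sum_mul_sum]
    apply Finset.sum_congr rfl
    intro γ _
    apply Finset.sum_congr rfl
    intro δ _
    by_cases h1 : g • γ = γ <;> by_cases h2 : g • δ = δ <;> simp [h1, h2]
  simp_rw [h1, st2_eq_sum]
  rw [Finset.sum_comm]
  apply Finset.sum_congr rfl
  intro γ _
  rw [Finset.sum_comm]

theorem sum_fixN :
    ∑ g : G, fixN (Ω := Ω) g = ∑ γ : Ω, st2 (G := G) γ γ := by
  simp_rw [fixN_eq_sum, st2_eq_sum]
  rw [Finset.sum_comm]
  apply Finset.sum_congr rfl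
  intro γ _
  apply Finset.sum_congr rfl
  intro g _
  simp

theorem st2_self_mul_card [MulAction.IsPretransitive G Ω] (γ : Ω) :
    st2 (G := G) γ γ * Fintype.card Ω = Fintype.card G := by
  have h1 : st2 (G := G) γ γ = Nat.card (MulAction.stabilizer G γ) := by
    unfold st2
    rw [Nat.card_eq_fintype_card, Fintype.card_subtype]
    congr 1
    ext g
    simp [MulAction.mem_stabilizer_iff]
  rw [h1, ← Nat.card_eq_fintype_card, ← Nat.card_eq_fintype_card,
    ← MulAction.index_stabilizer_of_transitive G γ, Subgroup.card_mul_index]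

theorem sum_fixN_eq_card [MulAction.IsPretransitive G Ω] [Nonempty Ω] :
    ∑ g : G, fixN (Ω := Ω) g = Fintype.card G := by
  rw [sum_fixN]
  have hpos : 0 < Fintype.card Ω := Fintype.card_pos
  apply Nat.eq_of_mul_eq_mul_right hpos
  rw [Finset.sum_mul]
  simp_rw [st2_self_mul_card]
  rw [Finset.sum_const, Finset.card_univ, smul_eq_mul, mul_comm]

/-- the derangements -/
noncomputable def der : Finset G := Finset.univ.filter (fun g : G => ∀ ω : Ω, g • ω ≠ ω)

theorem mem_der {g : G} : g ∈ der (G := G) (Ω := Ω) ↔ ∀ ω : Ω, g • ω ≠ ω := by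
  unfold der
  simp

theorem card_der_le (hinv : ∀ g : G, (∀ ω : Ω, g • ω ≠ ω) → g * g = 1) (γ : Ω) :
    (der (G := G) (Ω := Ω)).card ≤ ∑ δ ∈ Finset.univ.erase γ, st2 (G := G) γ δ := by
  have hmap : ∀ x ∈ der (G := G) (Ω := Ω), x • γ ∈ Finset.univ.erase γ := by
    intro x hx
    rw [Finset.mem_erase]
    exact ⟨mem_der.mp hx γ, Finset.mem_univ _⟩
  rw [Finset.card_eq_sum_card_fiberwise hmap]
  apply Finset.sum_le_sum
  intro δ _
  rcases ((der (G := G) (Ω := Ω)).filter (fun x => x • γ = δ)).eq_empty_or_nonempty with h | ⟨x0, hx0⟩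
  · rw [h]
    simp
  · unfold st2
    rw [Finset.mem_filter] at hx0
    obtain ⟨hx0d, hx0γ⟩ := hx0
    have hx0sq : x0 * x0 = 1 := hinv x0 (mem_der.mp hx0d)
    have hx0inv : x0⁻¹ = x0 := inv_eq_of_mul_eq_one_right hx0sq
    apply Finset.card_le_card_of_injOn (fun y => x0⁻¹ * y)
    · intro y hy
      have hy' := Finset.mem_filter.mp hy
      obtain ⟨hyd, hyγ⟩ := hy'
      have hysq : y * y = 1 := hinv y (mem_der.mp hyd)
      have hyδ : y • δ = γ := by
        rw [← hyγ, ← mul_smul, hysq, one_smul]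
      have hx0δ : x0 • δ = γ := by
        rw [← hx0γ, ← mul_smul, hx0sq, one_smul]
      simp only [Finset.coe_filter, Finset.mem_univ, true_and, Set.mem_setOf_eq]
      constructor
      · rw [mul_smul, hyγ, hx0inv, hx0δ]
      · rw [mul_smul, hyδ, hx0inv, hx0γ]
    · intro y1 _ y2 _ h
      exact mul_left_cancel h

theorem eq_one_of_fix_two [MulAction.IsPretransitive G Ω] [FaithfulSMul G Ω]
    (hinv : ∀ g : G, (∀ ω : Ω, g • ω ≠ ω) → g * g = 1)
    (h : G) (γ δ : Ω) (hne : γ ≠ δ) (h1 : h • γ = γ) (h2 : h • δ = δ) : h = 1 := by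
  haveI : Nonempty Ω := ⟨γ⟩
  obtain ⟨n, hn⟩ : ∃ n : ℕ, n = Fintype.card Ω := ⟨_, rfl⟩
  have hS1 := sum_fixN_eq_card (G := G) (Ω := Ω)
  have hS2 := sum_fixN_sq (G := G) (Ω := Ω)
  have hS1' := sum_fixN (G := G) (Ω := Ω)
  -- the derangement bound
  have hD : n * (der (G := G) (Ω := Ω)).card + ∑ g : G, fixN (Ω := Ω) g ≤
      ∑ g : G, fixN (Ω := Ω) g * fixN (Ω := Ω) g := by
    rw [hS2, hS1']
    have e1 : n * (der (G := G) (Ω := Ω)).card = ∑ _γ : Ω, (der (G := G) (Ω := Ω)).card := by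
      rw [Finset.sum_const, Finset.card_univ, smul_eq_mul, hn]
    rw [e1, ← Finset.sum_add_distrib]
    apply Finset.sum_le_sum
    intro γ' _
    have := card_der_le (G := G) (Ω := Ω) hinv γ'
    have e2 := Finset.add_sum_erase Finset.univ (fun δ' => st2 (G := G) γ' δ') (Finset.mem_univ γ')
    omega
  -- pass to integers
  obtain ⟨f, hf⟩ : ∃ f : G → ℤ, f = fun g => ((fixN (Ω := Ω) g : ℤ) - 1) * ((fixN (Ω := Ω) g : ℤ) - n) :=
    ⟨_, rfl⟩
  have hfsum : ∑ g : G, f g = (∑ g : G, (fixN (Ω := Ω) g * fixN (Ω := Ω) g : ℕ) : ℤ)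
      - ((∑ g : G, fixN (Ω := Ω) g : ℕ) : ℤ) := by
    have e0 : ∀ g : G, f g = ((fixN (Ω := Ω) g * fixN (Ω := Ω) g : ℕ) : ℤ)
        - ((n : ℤ) + 1) * (fixN (Ω := Ω) g : ℤ) + n := by
      intro g
      rw [hf]
      push_cast
      ring
    simp_rw [e0]
    rw [Finset.sum_add_distrib, Finset.sum_sub_distrib, ← Finset.mul_sum, Finset.sum_const,
      Finset.card_univ]
    have e3 : ((∑ g : G, fixN (Ω := Ω) g : ℕ) : ℤ) = (Fintype.card G : ℤ) := by
      rw [hS1]
    push_cast at e3 ⊢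
    rw [e3]
    simp only [nsmul_eq_mul]
    ring
  have hfder : ∀ g ∈ der (G := G) (Ω := Ω), f g = n := by
    intro g hg
    have h0 : fixN (Ω := Ω) g = 0 := by
      unfold fixN
      rw [Finset.card_eq_zero, Finset.filter_eq_empty_iff]
      intro ω _
      exact mem_der.mp hg ω
    rw [hf]
    simp only [h0]
    push_cast
    ring
  have hfnon : ∀ g : G, g ∉ der (G := G) (Ω := Ω) → f g ≤ 0 := by
    intro g hg
    rw [mem_der] at hg
    push Not at hg
    obtain ⟨ω, hω⟩ := hg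
    have h1 : 1 ≤ fixN (Ω := Ω) g := by
      unfold fixN
      rw [Nat.succ_le_iff, Finset.card_pos]
      exact ⟨ω, by simp [hω]⟩
    have h2 : fixN (Ω := Ω) g ≤ n := by
      unfold fixN
      rw [hn]
      exact Finset.card_le_univ _
    rw [hf]
    have h1' : (0 : ℤ) ≤ (fixN (Ω := Ω) g : ℤ) - 1 := by
      have : (1 : ℤ) ≤ (fixN (Ω := Ω) g : ℤ) := by exact_mod_cast h1
      linarith
    have h2' : (fixN (Ω := Ω) g : ℤ) - n ≤ 0 := by
      have : (fixN (Ω := Ω) g : ℤ) ≤ n := by exact_mod_cast h2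
      linarith
    exact mul_nonpos_of_nonneg_of_nonpos h1' h2'
  have hsplit : ∑ g : G, f g = ∑ g ∈ der (G := G) (Ω := Ω), f g +
      ∑ g ∈ Finset.univ.filter (fun g => g ∉ der (G := G) (Ω := Ω)), f g := by
    have := Finset.sum_filter_add_sum_filter_not Finset.univ
      (fun g => g ∈ der (G := G) (Ω := Ω)) f
    rw [← this]
    congr 1
    apply Finset.sum_congr _ (fun _ _ => rfl)
    ext g
    simp
  have hder_sum : ∑ g ∈ der (G := G) (Ω := Ω), f g = (n : ℤ) * (der (G := G) (Ω := Ω)).card := by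
    rw [Finset.sum_congr rfl hfder, Finset.sum_const, nsmul_eq_mul, mul_comm]
  have hnon_ge : 0 ≤ ∑ g ∈ Finset.univ.filter (fun g => g ∉ der (G := G) (Ω := Ω)), f g := by
    have hD' : ((n * (der (G := G) (Ω := Ω)).card + ∑ g : G, fixN (Ω := Ω) g : ℕ) : ℤ) ≤
        ((∑ g : G, fixN (Ω := Ω) g * fixN (Ω := Ω) g : ℕ) : ℤ) := by exact_mod_cast hD
    push_cast at hD' hfsum
    linarith
  have hnon_zero : ∀ g ∈ Finset.univ.filter (fun g => g ∉ der (G := G) (Ω := Ω)), f g = 0 := by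
    have hle : ∑ g ∈ Finset.univ.filter (fun g => g ∉ der (G := G) (Ω := Ω)), f g ≤ 0 :=
      Finset.sum_nonpos (fun g hg => hfnon g (Finset.mem_filter.mp hg).2)
    have heq : ∑ g ∈ Finset.univ.filter (fun g => g ∉ der (G := G) (Ω := Ω)), f g = 0 :=
      le_antisymm hle hnon_ge
    exact (Finset.sum_eq_zero_iff_of_nonpos
      (fun g hg => hfnon g (Finset.mem_filter.mp hg).2)).mp heq
  have hhnot : h ∉ der (G := G) (Ω := Ω) := by
    rw [mem_der]
    push Not
    exact ⟨γ, h1⟩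
  have hfh : f h = 0 := hnon_zero h (Finset.mem_filter.mpr ⟨Finset.mem_univ _, hhnot⟩)
  have h2le : 2 ≤ fixN (Ω := Ω) h := by
    unfold fixN
    rw [← Finset.card_pair hne]
    apply Finset.card_le_card
    intro ω hω
    rw [Finset.mem_insert, Finset.mem_singleton] at hω
    rcases hω with rfl | rfl <;> simp [h1, h2]
  have hfix : fixN (Ω := Ω) h = n := by
    rw [hf] at hfh
    rcases mul_eq_zero.mp hfh with e | e
    · exfalso
      have : (fixN (Ω := Ω) h : ℤ) = 1 := by linarith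
      have : fixN (Ω := Ω) h = 1 := by exact_mod_cast this
      omega
    · have : (fixN (Ω := Ω) h : ℤ) = n := by linarith
      exact_mod_cast this
  have hall : ∀ ω : Ω, h • ω = ω := by
    unfold fixN at hfix
    rw [hn, Finset.card_eq_iff_eq_univ] at hfix
    intro ω
    have := Finset.mem_univ ω
    rw [← hfix, Finset.mem_filter] at this
    exact this.2
  apply FaithfulSMul.eq_of_smul_eq_smul (α := Ω)
  intro ω
  rw [hall ω, one_smul]

end

end Cfsg.Agent.Lib.Helper18.DerangeInvol
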