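import Mathlib
import Cfsg.Agent.Lib.Helper18.Dihedral8

set_option autoImplicit false

namespace Cfsg.Agent.Lib.Helper18

open Subgroup

/-- refined version: also an involution inverting the element of order 4 -/
theorem order_four_elts' {K : Type*} [Group K] (hK : Nat.card K = 8)
    (hna : ∃ a b : K, a * b ≠ b * a)
    (hnu : ¬ ∃ z : K, ∀ a : K, orderOf a = 2 → a = z) :
    ∃ r x : K, orderOf r = 4 ∧ r ≠ r⁻¹ ∧ x * r * x⁻¹ = r⁻¹ ∧
      ∀ u : K, orderOf u = 4 → (u = r ∨ u = r⁻¹) := by
  classical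
  haveI : Finite K := Nat.finite_of_card_ne_zero (by rw [hK]; norm_num)
  obtain ⟨x, y, hx, hy, hxy, htop, _⟩ := dihedral_of_card_eight hK hna hnu
  have hxx : x * x = 1 := by rw [← pow_two, ← hx]; exact pow_orderOf_eq_one x
  have hyy : y * y = 1 := by rw [← pow_two, ← hy]; exact pow_orderOf_eq_one y
  have hxi : x⁻¹ = x := inv_eq_of_mul_eq_one_left hxx
  have hyi : y⁻¹ = y := inv_eq_of_mul_eq_one_left hyy
  refine ⟨x * y, x, hxy, ?_, ?_, fun u hu => ?_⟩
  · intro h
    have h2 : (x * y) * (x * y) = 1 := by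
      nth_rewrite 2 [h]
      exact mul_inv_cancel _
    have : orderOf (x * y) ∣ 2 := by
      apply orderOf_dvd_of_pow_eq_one
      rw [pow_two]; exact h2
    rw [hxy] at this
    omega
  · rw [mul_inv_rev, hxi, hyi, ← mul_assoc, hxx, one_mul]
  · have hmem : u ∈ zpowers (x * y) := by
      by_contra hnot
      have := Cfsg.Agent.Lib.Helper24.ti_order_two_of_not_mem hx hy u (by rw [htop]; trivial) hnot
      omega
    rw [mem_zpowers_iff_mem_range_orderOf, hxy] at hmem
    simp only [Finset.mem_image, Finset.mem_range] at hmem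
    obtain ⟨i, hi, rfl⟩ := hmem
    have hr4 : (x * y) ^ 4 = 1 := by rw [← hxy]; exact pow_orderOf_eq_one _
    interval_cases i
    · rw [pow_zero, orderOf_one] at hu; omega
    · left; rw [pow_one]
    · rw [orderOf_pow' _ (by norm_num : 2 ≠ 0), hxy] at hu
      norm_num at hu
    · right
      apply eq_inv_of_mul_eq_one_left
      rw [← pow_succ, hr4]

end Cfsg.Agent.Lib.Helper18
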