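import Mathlib
import Cfsg.Agent.Lib.Helper18.Dihedral8b
import Cfsg.Agent.S0992

set_option autoImplicit false

namespace Cfsg.Agent.Lib.Helper18

open Subgroup

/-- packaged structure of a dihedral group of order 8 (given abstractly) -/
structure D8Data (K : Type*) [Group K] where
  r : K
  x : K
  hr : orderOf r = 4
  hne : r ≠ r⁻¹
  hconj : x * r * x⁻¹ = r⁻¹
  hall : ∀ u : K, orderOf u = 4 → (u = r ∨ u = r⁻¹)
  hcard : Nat.card K = 8

theorem exists_d8Data {K : Type*} [Group K] (hK : Nat.card K = 8)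
    (hna : ∃ a b : K, a * b ≠ b * a)
    (hnu : ¬ ∃ z : K, ∀ a : K, orderOf a = 2 → a = z) : Nonempty (D8Data K) := by
  obtain ⟨r, x, hr, hne, hconj, hall⟩ := order_four_elts' hK hna hnu
  exact ⟨⟨r, x, hr, hne, hconj, hall, hK⟩⟩

namespace D8Data

theorem finite {K : Type*} [Group K] (D : D8Data K) : Finite K :=
  Nat.finite_of_card_ne_zero (by rw [D.hcard]; norm_num)

variable {K : Type*} [Group K] (D : D8Data K)

theorem r4 : D.r ^ 4 = 1 := by rw [← D.hr]; exact pow_orderOf_eq_one _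

theorem z_order : orderOf (D.r ^ 2) = 2 := by
  rw [orderOf_pow' D.r (by norm_num : 2 ≠ 0), D.hr]; norm_num

theorem z_ne_one : D.r ^ 2 ≠ 1 := by
  intro h
  have := D.z_order
  rw [h, orderOf_one] at this
  omega

theorem z_inv : (D.r ^ 2)⁻¹ = D.r ^ 2 := by
  apply inv_eq_of_mul_eq_one_left
  rw [← pow_add]
  exact D.r4

theorem conj_r (a : K) : a * D.r * a⁻¹ = D.r ∨ a * D.r * a⁻¹ = D.r⁻¹ := by
  apply D.hall
  have h : SemiconjBy a D.r (a * D.r * a⁻¹) := by
    unfold SemiconjBy; group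
  rw [← h.orderOf_eq, D.hr]

theorem z_central (a : K) : a * D.r ^ 2 = D.r ^ 2 * a := by
  have h1 : a * D.r ^ 2 * a⁻¹ = (a * D.r * a⁻¹) ^ 2 := by
    rw [pow_two, pow_two]; group
  have h2 : a * D.r ^ 2 * a⁻¹ = D.r ^ 2 := by
    rw [h1]
    rcases D.conj_r a with e | e
    · rw [e]
    · rw [e, inv_pow, D.z_inv]
  calc a * D.r ^ 2 = (a * D.r ^ 2 * a⁻¹) * a := by group
    _ = D.r ^ 2 * a := by rw [h2]

theorem x_not_comm : D.x * D.r ≠ D.r * D.x := by
  intro h
  apply D.hne
  rw [← D.hconj, h, mul_assoc, mul_inv_cancel, mul_one]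

theorem mem_zpowers_r (a : K) (ha : a ∈ zpowers D.r) :
    a = 1 ∨ a = D.r ∨ a = D.r ^ 2 ∨ a = D.r ^ 3 := by
  classical
  haveI := D.finite
  rw [mem_zpowers_iff_mem_range_orderOf, D.hr] at ha
  simp only [Finset.mem_image, Finset.mem_range] at ha
  obtain ⟨i, hi, rfl⟩ := ha
  interval_cases i
  · left; simp
  · right; left; simp
  · right; right; left; rfl
  · right; right; right; rfl

theorem r3_order : orderOf (D.r ^ 3) = 4 := by
  rw [orderOf_pow' D.r (by norm_num : 3 ≠ 0), D.hr]; norm_num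

/-- the centralizer of `r` is `⟨r⟩` -/
theorem cent_r : centralizer ({D.r} : Set K) = zpowers D.r := by
  haveI := D.finite
  symm
  apply eq_of_le_of_card_ge
  · rw [zpowers_le, mem_centralizer_iff]
    intro y hy
    rw [Set.mem_singleton_iff] at hy
    rw [hy]
  · rw [Nat.card_zpowers, D.hr]
    have h1 : Nat.card (centralizer ({D.r} : Set K)) ∣ 8 :=
      D.hcard ▸ Subgroup.card_subgroup_dvd_card _
    have h2 : Nat.card (centralizer ({D.r} : Set K)) ≠ 8 := by
      intro h8
      have : centralizer ({D.r} : Set K) = ⊤ :=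
        Subgroup.eq_top_of_card_eq _ (by rw [h8, D.hcard])
      have hx : D.x ∈ centralizer ({D.r} : Set K) := by rw [this]; trivial
      rw [mem_centralizer_iff] at hx
      exact D.x_not_comm (hx D.r rfl).symm
    have h3 := Nat.le_of_dvd (by norm_num) h1
    obtain ⟨c, hc⟩ : ∃ c, c = Nat.card (centralizer ({D.r} : Set K)) := ⟨_, rfl⟩
    rw [← hc] at h1 h2 h3 ⊢
    interval_cases c <;> omega

/-- an involution other than `r²` does not commute with `r` -/
theorem invol_not_comm (s : K) (hs : orderOf s = 2) (hsz : s ≠ D.r ^ 2) : s * D.r ≠ D.r * s := by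
  intro h
  have hmem : s ∈ centralizer ({D.r} : Set K) := by
    rw [mem_centralizer_iff]
    intro y hy
    rw [Set.mem_singleton_iff] at hy
    rw [hy]
    exact h.symm
  rw [D.cent_r] at hmem
  rcases D.mem_zpowers_r s hmem with e | e | e | e
  · rw [e, orderOf_one] at hs; omega
  · rw [e, D.hr] at hs; omega
  · exact hsz e
  · rw [e, D.r3_order] at hs; omega

theorem card_cent_invol (s : K) (hs : orderOf s = 2) (hsz : s ≠ D.r ^ 2) :
    Nat.card (centralizer ({s} : Set K)) = 4 := by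
  classical
  haveI := D.finite
  set C := centralizer ({s} : Set K) with hC
  have h1 : Nat.card C ∣ 8 := D.hcard ▸ Subgroup.card_subgroup_dvd_card _
  have h2 : Nat.card C ≠ 8 := by
    intro h8
    have : C = ⊤ := Subgroup.eq_top_of_card_eq _ (by rw [h8, D.hcard])
    have hx : D.r ∈ C := by rw [this]; trivial
    rw [hC, mem_centralizer_iff] at hx
    exact D.invol_not_comm s hs hsz (hx s rfl)
  have hs1 : s ≠ 1 := by
    intro h0
    rw [h0, orderOf_one] at hs
    omega
  have hsC : s ∈ C := by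
    rw [hC, mem_centralizer_iff]
    intro y hy
    rw [Set.mem_singleton_iff] at hy
    rw [hy]
  have hzC : D.r ^ 2 ∈ C := by
    rw [hC, mem_centralizer_iff]
    intro y hy
    rw [Set.mem_singleton_iff] at hy
    rw [hy]
    exact D.z_central s
  have h31 : Nat.card C ≠ 1 := by
    intro h1'
    have := Subgroup.card_eq_one.mp h1'
    rw [this, mem_bot] at hsC
    exact hs1 hsC
  have h32 : Nat.card C ≠ 2 := by
    intro h2'
    obtain ⟨w, hw1, hw2⟩ := (Nat.card_eq_two_iff' (1 : C)).mp h2'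
    have e1 := hw2 ⟨s, hsC⟩ (fun h0 => hs1 (congrArg Subtype.val h0))
    have e2 := hw2 ⟨D.r ^ 2, hzC⟩ (fun h0 => D.z_ne_one (congrArg Subtype.val h0))
    exact hsz (congrArg Subtype.val (e1.trans e2.symm))
  have h4 := Nat.le_of_dvd (by norm_num) h1
  obtain ⟨c, hc⟩ : ∃ c, c = Nat.card C := ⟨_, rfl⟩
  rw [← hc] at h1 h2 h31 h32 h4 ⊢
  interval_cases c <;> omega

theorem klein_cent_invol (s : K) (hs : orderOf s = 2) (hsz : s ≠ D.r ^ 2) :
    IsKleinFour (centralizer ({s} : Set K)) := by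
  haveI := D.finite
  apply Cfsg.Agent.S0992.klein_of_not_cyclic (D.card_cent_invol s hs hsz)
  intro hcyc
  obtain ⟨g, hg⟩ := IsCyclic.exists_ofOrder_eq_natCard (α := centralizer ({s} : Set K))
  rw [D.card_cent_invol s hs hsz] at hg
  have hg' : orderOf (g : K) = 4 := by rw [Subgroup.orderOf_coe]; exact hg
  have hrmem : D.r ∈ centralizer ({s} : Set K) := by
    rcases D.hall _ hg' with e | e
    · rw [← e]; exact g.2
    · have : D.r = (g : K)⁻¹ := by rw [e, inv_inv]
      rw [this]; exact (centralizer ({s} : Set K)).inv_mem g.2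
  rw [mem_centralizer_iff] at hrmem
  exact D.invol_not_comm s hs hsz (hrmem s rfl)

end D8Data

end Cfsg.Agent.Lib.Helper18
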