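import Mathlib
import Cfsg.Agent.Lib.Helper18.Dihedral8c
import Cfsg.Agent.Lib.Helper18.ChermakDelgado

set_option autoImplicit false

namespace Cfsg.Agent.Lib.Helper18

open Subgroup
open scoped Pointwise

namespace D8Data

variable {K : Type*} [Group K] (D : D8Data K)

/-- an element inverting `r` is an involution -/
theorem order_of_inverting (a : K) (ha : a * D.r * a⁻¹ = D.r⁻¹) : orderOf a = 2 := by
  haveI := D.finite
  have hnc : a * D.r ≠ D.r * a := by
    intro h
    apply D.hne
    rw [← ha, h, mul_assoc, mul_inv_cancel, mul_one]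
  have hd : orderOf a ∣ 8 := D.hcard ▸ orderOf_dvd_natCard a
  have hle := Nat.le_of_dvd (by norm_num) hd
  have hpos := orderOf_pos a
  have h1 : orderOf a ≠ 1 := by
    intro h
    rw [orderOf_eq_one_iff] at h
    apply hnc
    rw [h, one_mul, mul_one]
  have h4 : orderOf a ≠ 4 := by
    intro h
    rcases D.hall a h with e | e
    · apply hnc; rw [e]
    · apply hnc; rw [e]; group
  have h8 : orderOf a ≠ 8 := by
    intro h
    have h2 : orderOf (a ^ 2) = 4 := by
      rw [orderOf_pow' a (by norm_num : 2 ≠ 0), h]; norm_num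
    have hr : D.r ∈ zpowers a := by
      rcases D.hall _ h2 with e | e
      · rw [← e]; exact (zpowers a).pow_mem (mem_zpowers a) 2
      · have : D.r = (a ^ 2)⁻¹ := by rw [e, inv_inv]
        rw [this]; exact (zpowers a).inv_mem ((zpowers a).pow_mem (mem_zpowers a) 2)
    obtain ⟨k, hk⟩ := mem_zpowers_iff.mp hr
    apply hnc
    rw [← hk]
    exact ((Commute.refl a).zpow_right k).eq
  obtain ⟨o, ho⟩ : ∃ o, o = orderOf a := ⟨_, rfl⟩
  rw [← ho] at hd hle hpos h1 h4 h8 ⊢
  interval_cases o <;> omega

theorem x_order : orderOf D.x = 2 := D.order_of_inverting D.x D.hconj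

theorem xr_conj : (D.x * D.r) * D.r * (D.x * D.r)⁻¹ = D.r⁻¹ := by
  have : (D.x * D.r) * D.r * (D.x * D.r)⁻¹ = D.x * D.r * D.x⁻¹ := by group
  rw [this, D.hconj]

theorem xr_order : orderOf (D.x * D.r) = 2 := D.order_of_inverting _ D.xr_conj

theorem ne_z_of_inverting (a : K) (ha : a * D.r * a⁻¹ = D.r⁻¹) : a ≠ D.r ^ 2 := by
  intro h
  apply D.hne
  rw [← ha, h]
  group

theorem x_inv : D.x⁻¹ = D.x := by
  apply inv_eq_of_mul_eq_one_left
  have := D.x_order
  rw [← pow_two, ← this]
  exact pow_orderOf_eq_one _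

theorem x_xr_not_comm : D.x * (D.x * D.r) ≠ (D.x * D.r) * D.x := by
  intro h
  apply D.hne
  have h1 : D.x * (D.x * D.r) = D.r := by
    rw [← mul_assoc]
    have : D.x * D.x = 1 := by
      have := D.x_inv
      calc D.x * D.x = D.x * D.x⁻¹ := by rw [this]
        _ = 1 := mul_inv_cancel _
    rw [this, one_mul]
  have h2 : (D.x * D.r) * D.x = D.r⁻¹ := by
    have := D.hconj
    rw [D.x_inv] at this
    exact this
  calc D.r = D.x * (D.x * D.r) := h1.symm
    _ = (D.x * D.r) * D.x := h
    _ = D.r⁻¹ := h2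

/-- every Klein four-subgroup contains `r²` -/
theorem z_mem_klein (U : Subgroup K) [hU : IsKleinFour U] : D.r ^ 2 ∈ U := by
  classical
  haveI := D.finite
  have h1 := card_mul_set_mul_card_inf U (zpowers D.r)
  have hUc : Nat.card U = 4 := IsKleinFour.card_four
  rw [hUc, Nat.card_zpowers, D.hr] at h1
  have h2 : Nat.card ((U : Set K) * (zpowers D.r : Set K) : Set K) ≤ 8 := by
    rw [← D.hcard]
    exact Finite.card_subtype_le _
  have h3 : 2 ≤ Nat.card (U ⊓ zpowers D.r : Subgroup K) := by
    by_contra hlt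
    push Not at hlt
    have hpos : 0 < Nat.card (U ⊓ zpowers D.r : Subgroup K) := Nat.card_pos
    have : Nat.card (U ⊓ zpowers D.r : Subgroup K) = 1 := by omega
    rw [this, mul_one] at h1
    omega
  have hne : (U ⊓ zpowers D.r : Subgroup K) ≠ ⊥ := by
    intro h
    rw [h, Subgroup.card_bot] at h3
    omega
  obtain ⟨a, ha1⟩ := (Subgroup.ne_bot_iff_exists_ne_one.mp hne)
  have haU : (a : K) ∈ U := (mem_inf.mp a.2).1
  have haA : (a : K) ∈ zpowers D.r := (mem_inf.mp a.2).2
  have ha1' : (a : K) ≠ 1 := fun h => ha1 (Subtype.ext h)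
  have hsq : (a : K) * (a : K) = 1 := by
    have := IsKleinFour.mul_self (⟨(a : K), haU⟩ : U)
    exact congrArg Subtype.val this
  rcases D.mem_zpowers_r _ haA with e | e | e | e
  · exact absurd e ha1'
  · exfalso
    rw [e, ← pow_two] at hsq
    exact D.z_ne_one hsq
  · rw [← e]; exact haU
  · exfalso
    rw [e, ← pow_add] at hsq
    have : D.r ^ 2 = 1 := by
      have h6 : D.r ^ (3 + 3) = D.r ^ 4 * D.r ^ 2 := by rw [← pow_add]
      rw [h6, D.r4, one_mul] at hsq
      exact hsq
    exact D.z_ne_one this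

/-- a Klein four-subgroup is the centralizer of any of its involutions other than `r²` -/
theorem klein_eq_cent (U : Subgroup K) [hU : IsKleinFour U] (s : K) (hs : s ∈ U) (hs1 : s ≠ 1)
    (hsz : s ≠ D.r ^ 2) : U = centralizer ({s} : Set K) := by
  haveI := D.finite
  have hso : orderOf s = 2 := by
    apply orderOf_eq_prime
    · rw [pow_two]
      have := IsKleinFour.mul_self (⟨s, hs⟩ : U)
      exact congrArg Subtype.val this
    · exact hs1
  apply eq_of_le_of_card_ge
  · intro u hu
    rw [mem_centralizer_iff]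
    intro y hy
    rw [Set.mem_singleton_iff] at hy
    rw [hy]
    have := (IsKleinFour.isMulCommutative (G := U)).is_comm.comm ⟨s, hs⟩ ⟨u, hu⟩
    exact congrArg Subtype.val this
  · have hUc : Nat.card U = 4 := IsKleinFour.card_four
    rw [D.card_cent_invol s hso hsz, hUc]

theorem klein_cases (U : Subgroup K) [hU : IsKleinFour U] :
    U = centralizer ({D.x} : Set K) ∨ U = centralizer ({D.x * D.r} : Set K) := by
  classical
  haveI := D.finite
  have hz := D.z_mem_klein U
  -- an element of U other than 1 and z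
  obtain ⟨s, hsU, hs1, hsz⟩ : ∃ s ∈ U, s ≠ 1 ∧ s ≠ D.r ^ 2 := by
    by_contra hcon
    push Not at hcon
    have hle : Nat.card U ≤ 2 := by
      have hinj : Function.Injective (fun u : U => if (u : K) = 1 then (0 : Fin 2) else 1) := by
        intro a b hab
        apply Subtype.ext
        by_cases ha : (a : K) = 1 <;> by_cases hb : (b : K) = 1
        · rw [ha, hb]
        · simp [ha, hb] at hab
        · simp [ha, hb] at hab
        · rw [hcon a a.2 ha, hcon b b.2 hb]
      have := Nat.card_le_card_of_injective _ hinj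
      simpa using this
    have hUc : Nat.card U = 4 := IsKleinFour.card_four
    rw [hUc] at hle
    omega
  have hso : orderOf s = 2 := by
    apply orderOf_eq_prime
    · rw [pow_two]
      have := IsKleinFour.mul_self (⟨s, hsU⟩ : U)
      exact congrArg Subtype.val this
    · exact hs1
  have hsA : s ∉ zpowers D.r := by
    intro h
    rcases D.mem_zpowers_r s h with e | e | e | e
    · exact hs1 e
    · rw [e, D.hr] at hso; omega
    · exact hsz e
    · rw [e, D.r3_order] at hso; omega
  have hxA : D.x ∉ zpowers D.r := by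
    intro h
    obtain ⟨k, hk⟩ := mem_zpowers_iff.mp h
    apply D.x_not_comm
    rw [← hk]
    exact ((Commute.refl D.r).zpow_left k).eq
  have hidx : (zpowers D.r).index = 2 := by
    have := (zpowers D.r).card_mul_index
    rw [Nat.card_zpowers, D.hr, D.hcard] at this
    omega
  have hmem : D.x⁻¹ * s ∈ zpowers D.r := by
    rw [mul_mem_iff_of_index_two hidx]
    constructor
    · intro h; exact absurd ((zpowers D.r).inv_mem_iff.mp h) hxA
    · intro h; exact absurd h hsA
  rw [D.x_inv] at hmem
  have hxx : D.x * D.x = 1 := by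
    calc D.x * D.x = D.x * D.x⁻¹ := by rw [D.x_inv]
      _ = 1 := mul_inv_cancel _
  have hs_eq : ∀ a : K, D.x * s = a → s = D.x * a := by
    intro a ha
    rw [← ha, ← mul_assoc, hxx, one_mul]
  rcases D.mem_zpowers_r _ hmem with e | e | e | e
  · left
    have : s = D.x := by rw [hs_eq 1 e, mul_one]
    exact D.klein_eq_cent U D.x (this ▸ hsU) (this ▸ hs1) (this ▸ hsz)
  · right
    have : s = D.x * D.r := hs_eq _ e
    exact D.klein_eq_cent U _ (this ▸ hsU) (this ▸ hs1) (this ▸ hsz)
  · left
    have h1 : s = D.x * D.r ^ 2 := hs_eq _ e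
    have hxU : D.x ∈ U := by
      have : D.x = s * D.r ^ 2 := by
        rw [h1, mul_assoc, ← pow_add, D.r4, mul_one]
      rw [this]
      exact U.mul_mem hsU hz
    have hx1 : D.x ≠ 1 := by
      intro h0
      have := D.x_order
      rw [h0, orderOf_one] at this
      omega
    exact D.klein_eq_cent U D.x hxU hx1 (D.ne_z_of_inverting _ D.hconj)
  · right
    have h1 : s = D.x * D.r ^ 3 := hs_eq _ e
    have hxU : D.x * D.r ∈ U := by
      have : D.x * D.r = s * D.r ^ 2 := by
        rw [h1, mul_assoc, ← pow_add]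
        have : D.r ^ (3 + 2) = D.r ^ 4 * D.r := by rw [← pow_succ]
        rw [this, D.r4, one_mul]
      rw [this]
      exact U.mul_mem hsU hz
    have hx1 : D.x * D.r ≠ 1 := by
      intro h0
      have := D.xr_order
      rw [h0, orderOf_one] at this
      omega
    exact D.klein_eq_cent U _ hxU hx1 (D.ne_z_of_inverting _ D.xr_conj)

theorem card_klein {K : Type*} [Group K] (D : D8Data K) :
    Nat.card {U : Subgroup K // IsKleinFour U} = 2 := by
  have hK1 := D.klein_cent_invol D.x D.x_order (D.ne_z_of_inverting _ D.hconj)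
  have hK2 := D.klein_cent_invol (D.x * D.r) D.xr_order (D.ne_z_of_inverting _ D.xr_conj)
  rw [Nat.card_eq_two_iff]
  refine ⟨⟨_, hK1⟩, ⟨_, hK2⟩, ?_, ?_⟩
  · intro h
    have h1 : centralizer ({D.x} : Set K) = centralizer ({D.x * D.r} : Set K) :=
      congrArg Subtype.val h
    have h2 : D.x * D.r ∈ centralizer ({D.x * D.r} : Set K) := by
      rw [mem_centralizer_iff]
      intro y hy
      rw [Set.mem_singleton_iff] at hy
      rw [hy]
    rw [← h1, mem_centralizer_iff] at h2
    exact D.x_xr_not_comm (h2 D.x rfl)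
  · ext U
    simp only [Set.mem_insert_iff, Set.mem_singleton_iff, Set.mem_univ, iff_true]
    haveI := U.2
    rcases D.klein_cases U.1 with e | e
    · left; exact Subtype.ext e
    · right; exact Subtype.ext e

end D8Data

end Cfsg.Agent.Lib.Helper18
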