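import Cfsg.Agent.Lib.Helper29.ExtrL.Basic

/-!
# EXTRACTION-L, piece E (`finish`): an overgroup of the monomial group of determinant one inside
`SL` that contains one nontrivial "row transvection" `1 + e_i ψ` contains all of `SL`.
-/

set_option autoImplicit false

namespace Cfsg.Agent.Lib.Helper18.ExtrL

open Matrix Cfsg.Agent.Lib.Helper29.ExtrL

variable {ι : Type} [Fintype ι] [DecidableEq ι] {F : Type*} [Field F]

/-- `1 + e_i ψ`. -/
def rowMat (i : ι) (ψ : ι → F) : Matrix ι ι F := 1 + Matrix.vecMulVec (Pi.single i 1) ψ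

theorem rowMat_apply (i : ι) (ψ : ι → F) (a b : ι) :
    rowMat i ψ a b = (if a = b then 1 else 0) + (if a = i then ψ b else 0) := by
  unfold rowMat
  rw [Matrix.add_apply, Matrix.one_apply, Matrix.vecMulVec_apply, Pi.single_apply]
  by_cases h : a = i
  · simp [h]
  · simp [h]

theorem rowMat_zero (i : ι) : rowMat i (0 : ι → F) = 1 := by
  ext a b
  rw [rowMat_apply, Matrix.one_apply]
  simp

theorem rowMat_mul (i : ι) (ψ φ : ι → F) (hψ : ψ i = 0) :
    rowMat i ψ * rowMat i φ = rowMat i (ψ + φ) := by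
  ext a b
  rw [Matrix.mul_apply, rowMat_apply]
  simp only [rowMat_apply, add_mul, mul_add, Finset.sum_add_distrib, ite_mul, mul_ite, one_mul,
    mul_one, zero_mul, mul_zero, Finset.sum_ite_eq', Finset.mem_univ, if_true,
    Pi.add_apply]
  by_cases hai : a = i
  · subst hai
    simp [hψ]
    ring
  · simp [hai]

theorem rowMat_single (i l : ι) (y : F) : rowMat i (Pi.single l y) = Matrix.transvection i l y := by
  ext a b
  rw [rowMat_apply, Matrix.transvection, Matrix.add_apply, Matrix.one_apply, Matrix.single_apply,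
    Pi.single_apply]
  by_cases h1 : a = i
  · by_cases h2 : b = l
    · simp [h1, h2]
    · simp [h1, h2, Ne.symm h2]
  · simp [h1, Ne.symm h1]

/-- the additive group `V` of all `ψ` with `ψ i = 0` and `1 + e_i ψ ∈ M`. -/
def InV (M : Subgroup (Matrix.GeneralLinearGroup ι F)) (i : ι) (ψ : ι → F) : Prop :=
  ψ i = 0 ∧ ∃ x ∈ M, ((x : Matrix.GeneralLinearGroup ι F) : Matrix ι ι F) = rowMat i ψ

theorem inV_zero (M : Subgroup (Matrix.GeneralLinearGroup ι F)) (i : ι) : InV M i 0 :=
  ⟨rfl, 1, M.one_mem, by rw [rowMat_zero]; rfl⟩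

theorem inV_add {M : Subgroup (Matrix.GeneralLinearGroup ι F)} {i : ι} {ψ φ : ι → F}
    (h1 : InV M i ψ) (h2 : InV M i φ) : InV M i (ψ + φ) := by
  obtain ⟨h1i, x, hx, hxv⟩ := h1
  obtain ⟨h2i, y, hy, hyv⟩ := h2
  refine ⟨by rw [Pi.add_apply, h1i, h2i, add_zero], x * y, M.mul_mem hx hy, ?_⟩
  rw [Units.val_mul, hxv, hyv, rowMat_mul i ψ φ h1i]

theorem inV_neg {M : Subgroup (Matrix.GeneralLinearGroup ι F)} {i : ι} {ψ : ι → F}
    (h1 : InV M i ψ) : InV M i (-ψ) := by
  obtain ⟨h1i, x, hx, hxv⟩ := h1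
  refine ⟨by rw [Pi.neg_apply, h1i, neg_zero], x⁻¹, M.inv_mem hx, ?_⟩
  have h2 : rowMat i ψ * rowMat i (-ψ) = 1 := by
    rw [rowMat_mul i ψ (-ψ) h1i, add_neg_cancel, rowMat_zero]
  have h3 : ((x⁻¹ : Matrix.GeneralLinearGroup ι F) : Matrix ι ι F) * (x : Matrix ι ι F) = 1 := by
    rw [← Units.val_mul, inv_mul_cancel]; rfl
  calc ((x⁻¹ : Matrix.GeneralLinearGroup ι F) : Matrix ι ι F)
      = ((x⁻¹ : Matrix.GeneralLinearGroup ι F) : Matrix ι ι F) * (rowMat i ψ * rowMat i (-ψ)) := by
        rw [h2, Matrix.mul_one]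
    _ = (((x⁻¹ : Matrix.GeneralLinearGroup ι F) : Matrix ι ι F) * (x : Matrix ι ι F))
          * rowMat i (-ψ) := by rw [hxv, Matrix.mul_assoc]
    _ = rowMat i (-ψ) := by rw [h3, Matrix.one_mul]

theorem inV_sub {M : Subgroup (Matrix.GeneralLinearGroup ι F)} {i : ι} {ψ φ : ι → F}
    (h1 : InV M i ψ) (h2 : InV M i φ) : InV M i (ψ - φ) := by
  rw [sub_eq_add_neg]
  exact inV_add h1 (inV_neg h2)

/-- conjugation by a diagonal element of `M`. -/
theorem inV_twist {M : Subgroup (Matrix.GeneralLinearGroup ι F)} {i : ι} {ψ : ι → F}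
    (d : ι → Fˣ) (hd : dg d ∈ M) (h1 : InV M i ψ) :
    InV M i (fun b => (d i : F) * ψ b * (((d b)⁻¹ : Fˣ) : F)) := by
  obtain ⟨h1i, x, hx, hxv⟩ := h1
  refine ⟨by simp only [h1i, mul_zero, zero_mul], dg d * x * (dg d)⁻¹,
    M.mul_mem (M.mul_mem hd hx) (M.inv_mem hd), ?_⟩
  ext a b
  rw [Units.val_mul, Units.val_mul, dg_inv_val, Matrix.mul_diagonal, dg_mul_apply, hxv,
    rowMat_apply, rowMat_apply]
  by_cases hab : a = b
  · subst hab
    by_cases hai : a = i
    · subst hai
      simp [h1i]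
    · simp [hai]
  · by_cases hai : a = i
    · subst hai
      simp [hab]
    · simp [hab, hai]

/-- the difference of a twist and the original. -/
theorem inV_diff {M : Subgroup (Matrix.GeneralLinearGroup ι F)} {i : ι} {ψ : ι → F}
    (d : ι → Fˣ) (hd : dg d ∈ M) (hdi : d i = 1) (h1 : InV M i ψ) :
    InV M i (fun b => ψ b * ((((d b)⁻¹ : Fˣ) : F) - 1)) := by
  have h2 := inV_sub (inV_twist d hd h1) h1
  have h3 : ((fun b => (d i : F) * ψ b * (((d b)⁻¹ : Fˣ) : F)) - ψ)
      = (fun b => ψ b * ((((d b)⁻¹ : Fˣ) : F) - 1)) := by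
    funext b
    rw [Pi.sub_apply, hdi, Units.val_one, one_mul, mul_sub, mul_one]
  rw [h3] at h2
  exact h2

theorem exists_ne3 (hn : 4 ≤ Fintype.card ι) (a b c : ι) : ∃ j, j ≠ a ∧ j ≠ b ∧ j ≠ c := by
  have h : ({a, b, c} : Finset ι).card < (Finset.univ : Finset ι).card := by
    rw [Finset.card_univ]
    exact lt_of_le_of_lt Finset.card_le_three (by omega)
  obtain ⟨j, -, hj⟩ := Finset.exists_mem_notMem_of_card_lt_card h
  simp only [Finset.mem_insert, Finset.mem_singleton, not_or] at hj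
  exact ⟨j, hj.1, hj.2.1, hj.2.2⟩

/-- the function defining `Tij`. -/
def tijFun (i j : ι) (e : Fˣ) : ι → Fˣ := fun l => if l = i then e else if l = j then e⁻¹ else 1

theorem dg_tijFun_mem {M : Subgroup (Matrix.GeneralLinearGroup ι F)} (hN : HasMonoSL M) {i j : ι}
    (hij : i ≠ j) (e : Fˣ) : dg (tijFun i j e) ∈ M :=
  Tij_mem hN hij e

/-- Step 1: from a nonzero `ψ ∈ V` to a nonzero multiple of a coordinate function. -/
theorem exists_single {M : Subgroup (Matrix.GeneralLinearGroup ι F)} (hN : HasMonoSL M)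
    (hn : 4 ≤ Fintype.card ι) (e : Fˣ) (he : e ≠ 1) {i : ι} {ψ : ι → F}
    (h1 : InV M i ψ) (hψ : ψ ≠ 0) :
    ∃ (l : ι) (c : F), l ≠ i ∧ c ≠ 0 ∧ InV M i (Pi.single l c) := by
  obtain ⟨l, hl⟩ := Function.ne_iff.mp hψ
  rw [Pi.zero_apply] at hl
  have hli : l ≠ i := by
    rintro rfl
    exact hl h1.1
  obtain ⟨j, hji, hjl, -⟩ := exists_ne3 hn i l l
  obtain ⟨j', hj'i, hj'l, hj'j⟩ := exists_ne3 hn i l j
  have hd1 : tijFun l j e i = 1 := by
    unfold tijFun
    rw [if_neg (Ne.symm hli), if_neg (Ne.symm hji)]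
  have hd2 : tijFun l j' e i = 1 := by
    unfold tijFun
    rw [if_neg (Ne.symm hli), if_neg (Ne.symm hj'i)]
  have h2 := inV_diff (tijFun l j e) (dg_tijFun_mem hN (Ne.symm hjl) e) hd1 h1
  have h3 := inV_diff (tijFun l j' e) (dg_tijFun_mem hN (Ne.symm hj'l) e) hd2 h2
  have he' : (((e⁻¹ : Fˣ) : F) - 1) ≠ 0 := by
    rw [sub_ne_zero]
    intro h
    apply he
    rw [Units.val_eq_one, inv_eq_one] at h
    exact h
  refine ⟨l, ψ l * (((e⁻¹ : Fˣ) : F) - 1) * (((e⁻¹ : Fˣ) : F) - 1), hli,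
    mul_ne_zero (mul_ne_zero hl he') he', ?_⟩
  have h4 : (fun b => ψ b * ((((tijFun l j e b)⁻¹ : Fˣ) : F) - 1)
        * ((((tijFun l j' e b)⁻¹ : Fˣ) : F) - 1))
      = Pi.single l (ψ l * (((e⁻¹ : Fˣ) : F) - 1) * (((e⁻¹ : Fˣ) : F) - 1)) := by
    funext b
    by_cases hbl : b = l
    · subst hbl
      rw [Pi.single_eq_same]
      unfold tijFun
      rw [if_pos rfl, if_pos rfl]
    · rw [Pi.single_eq_of_ne hbl]
      by_cases hbj : b = j
      · subst hbj
        have : tijFun l j' e b = 1 := by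
          unfold tijFun
          rw [if_neg hbl, if_neg (Ne.symm hj'j)]
        rw [this, inv_one, Units.val_one, sub_self, mul_zero]
      · have : tijFun l j e b = 1 := by
          unfold tijFun
          rw [if_neg hbl, if_neg hbj]
        rw [this, inv_one, Units.val_one, sub_self, mul_zero, zero_mul]
  rw [h4] at h3
  exact h3

/-- Step 2: all multiples of a coordinate function. -/
theorem inV_single_all {M : Subgroup (Matrix.GeneralLinearGroup ι F)} (hN : HasMonoSL M)
    (hn : 4 ≤ Fintype.card ι) {i l : ι} {c : F} (hli : l ≠ i) (hc : c ≠ 0)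
    (h1 : InV M i (Pi.single l c)) (y : F) : InV M i (Pi.single l y) := by
  by_cases hy : y = 0
  · rw [hy, Pi.single_zero]
    exact inV_zero M i
  obtain ⟨j, hji, hjl, -⟩ := exists_ne3 hn i l l
  have hyc : y / c ≠ 0 := div_ne_zero hy hc
  have h2 := inV_twist (tijFun i j (Units.mk0 (y / c) hyc))
    (dg_tijFun_mem hN (Ne.symm hji) _) h1
  have h3 : (fun b => ((tijFun i j (Units.mk0 (y / c) hyc) i : Fˣ) : F) * (Pi.single l c : ι → F) b
        * (((tijFun i j (Units.mk0 (y / c) hyc) b)⁻¹ : Fˣ) : F))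
      = Pi.single l y := by
    funext b
    by_cases hbl : b = l
    · subst hbl
      rw [Pi.single_eq_same, Pi.single_eq_same]
      unfold tijFun
      rw [if_pos rfl, if_neg hli, if_neg (Ne.symm hjl), inv_one, Units.val_one, mul_one,
        Units.val_mk0, div_mul_cancel₀ y hc]
    · rw [Pi.single_eq_of_ne hbl, Pi.single_eq_of_ne hbl, mul_zero, zero_mul]
  rw [h3] at h2
  exact h2

/-- `M` contains the whole root subgroup `{1 + y E_{kl}}`. -/
def HasTv (M : Subgroup (Matrix.GeneralLinearGroup ι F)) (k l : ι) : Prop :=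
  ∀ y : F, ∃ x ∈ M, ((x : Matrix.GeneralLinearGroup ι F) : Matrix ι ι F) = Matrix.transvection k l y

theorem hasTv_of_inV {M : Subgroup (Matrix.GeneralLinearGroup ι F)} {i l : ι}
    (h : ∀ y : F, InV M i (Pi.single l y)) : HasTv M i l := by
  intro y
  obtain ⟨-, x, hx, hxv⟩ := h y
  exact ⟨x, hx, by rw [hxv, rowMat_single]⟩

/-- the permutation matrix of a transposition as an element of `GL`. -/
noncomputable def swapGL (p q : ι) : Matrix.GeneralLinearGroup ι F :=
  ⟨(Equiv.swap p q).permMatrix F, (Equiv.swap p q).permMatrix F,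
    by rw [← Matrix.permMatrix_mul, Equiv.swap_mul_self, Matrix.permMatrix_one],
    by rw [← Matrix.permMatrix_mul, Equiv.swap_mul_self, Matrix.permMatrix_one]⟩

theorem swapGL_apply (p q a b : ι) :
    ((swapGL p q : Matrix.GeneralLinearGroup ι F) : Matrix ι ι F) a b
      = if a = Equiv.swap p q b then 1 else 0 := by
  show PEquiv.toMatrix (Equiv.toPEquiv (Equiv.swap p q)) a b = _
  rw [PEquiv.toMatrix_apply, Equiv.toPEquiv_apply]
  by_cases h : a = Equiv.swap p q b
  · rw [if_pos h, h, Equiv.swap_apply_self, if_pos (Option.mem_some_self b)]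
  · rw [if_neg h, if_neg]
    intro h2
    rw [Option.mem_some_iff] at h2
    apply h
    rw [← h2, Equiv.swap_apply_self]

/-- the sign function `-1` at `p`, `1` elsewhere. -/
def sgnFun (p : ι) : ι → Fˣ := fun b => if b = p then -1 else 1

/-- the signed permutation matrix of a transposition, of determinant one. -/
noncomputable def swapW (p q : ι) : Matrix.GeneralLinearGroup ι F := swapGL p q * dg (sgnFun p)

theorem swapW_apply (p q a b : ι) :
    ((swapW p q : Matrix.GeneralLinearGroup ι F) : Matrix ι ι F) a b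
      = if a = Equiv.swap p q b then ((sgnFun p b : Fˣ) : F) else 0 := by
  unfold swapW
  rw [Units.val_mul, mul_dg_apply, swapGL_apply]
  by_cases h : a = Equiv.swap p q b
  · rw [if_pos h, if_pos h, one_mul]
  · rw [if_neg h, if_neg h, zero_mul]

theorem det_swapW {p q : ι} (hpq : p ≠ q) :
    ((swapW p q : Matrix.GeneralLinearGroup ι F) : Matrix ι ι F).det = 1 := by
  unfold swapW
  rw [Units.val_mul, Matrix.det_mul, det_dg]
  have h1 : ((swapGL p q : Matrix.GeneralLinearGroup ι F) : Matrix ι ι F).det = -1 := by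
    show ((Equiv.swap p q).permMatrix F).det = -1
    rw [Matrix.det_permutation, Equiv.Perm.sign_swap hpq]
    simp
  have h2 : ∏ b, ((sgnFun p b : Fˣ) : F) = -1 := by
    have : ∀ b : ι, ((sgnFun p b : Fˣ) : F) = if b = p then (-1 : F) else 1 := by
      intro b
      unfold sgnFun
      by_cases hb : b = p
      · rw [if_pos hb, if_pos hb, Units.val_neg, Units.val_one]
      · rw [if_neg hb, if_neg hb, Units.val_one]
    rw [Finset.prod_congr rfl (fun b _ => this b), Finset.prod_ite_eq' Finset.univ p,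
      if_pos (Finset.mem_univ p)]
  rw [h1, h2]
  ring

theorem isMono_swapW (p q : ι) :
    IsMono ((swapW p q : Matrix.GeneralLinearGroup ι F) : Matrix ι ι F) := by
  intro b
  refine ⟨Equiv.swap p q b, fun a ha => ?_⟩
  rw [swapW_apply, if_neg ha]

theorem swapW_mem {M : Subgroup (Matrix.GeneralLinearGroup ι F)} (hN : HasMonoSL M) {p q : ι}
    (hpq : p ≠ q) : swapW p q ∈ M :=
  hN _ (isMono_swapW p q) (det_swapW hpq)

/-- conjugating a root subgroup by a signed transposition. -/
theorem hasTv_swap {M : Subgroup (Matrix.GeneralLinearGroup ι F)} (hN : HasMonoSL M) (p q : ι)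
    {k l : ι} (h : HasTv M k l) : HasTv M (Equiv.swap p q k) (Equiv.swap p q l) := by
  rcases eq_or_ne p q with hpq | hpq
  · subst hpq
    rw [Equiv.swap_self, Equiv.refl_apply, Equiv.refl_apply]
    exact h
  intro y
  -- s k * y' = y * s l where y' is the parameter of the preimage
  obtain ⟨x, hx, hxv⟩ := h (y * ((sgnFun p l : Fˣ) : F) * (((sgnFun p k)⁻¹ : Fˣ) : F))
  have hW : (swapW p q : Matrix.GeneralLinearGroup ι F) ∈ M := swapW_mem hN hpq
  refine ⟨swapW p q * x * (swapW p q)⁻¹, M.mul_mem (M.mul_mem hW hx) (M.inv_mem hW), ?_⟩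
  have hkey : Matrix.transvection (Equiv.swap p q k) (Equiv.swap p q l) y
        * ((swapW p q : Matrix.GeneralLinearGroup ι F) : Matrix ι ι F)
      = ((swapW p q : Matrix.GeneralLinearGroup ι F) : Matrix ι ι F) * (x : Matrix ι ι F) := by
    rw [hxv]
    unfold Matrix.transvection
    rw [Matrix.add_mul, Matrix.mul_add, Matrix.one_mul, Matrix.mul_one]
    congr 1
    ext a b
    by_cases ha : a = Equiv.swap p q k
    · subst ha
      rw [Matrix.single_mul_apply_same]
      by_cases hb : b = l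
      · subst hb
        rw [Matrix.mul_single_apply_same, swapW_apply, swapW_apply, if_pos rfl, if_pos rfl]
        have : ((sgnFun p k : Fˣ) : F) * (((sgnFun p k)⁻¹ : Fˣ) : F) = 1 := by
          rw [← Units.val_mul, mul_inv_cancel, Units.val_one]
        calc y * ((sgnFun p b : Fˣ) : F)
            = y * ((sgnFun p b : Fˣ) : F) * (((sgnFun p k : Fˣ) : F) * (((sgnFun p k)⁻¹ : Fˣ) : F)) := by
              rw [this, mul_one]
          _ = _ := by ring
      · rw [Matrix.mul_single_apply_of_ne (hbj := hb), swapW_apply, if_neg, mul_zero]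
        intro h2
        exact hb ((Equiv.swap p q).injective h2).symm
    · rw [Matrix.single_mul_apply_of_ne (h := ha)]
      by_cases hb : b = l
      · subst hb
        rw [Matrix.mul_single_apply_same, swapW_apply, if_neg ha, zero_mul]
      · rw [Matrix.mul_single_apply_of_ne (hbj := hb)]
  have hinv : ((swapW p q : Matrix.GeneralLinearGroup ι F) : Matrix ι ι F)
      * (((swapW p q)⁻¹ : Matrix.GeneralLinearGroup ι F) : Matrix ι ι F) = 1 := by
    rw [← Units.val_mul, mul_inv_cancel]; rfl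
  rw [Units.val_mul, Units.val_mul, ← hkey, Matrix.mul_assoc, hinv, Matrix.mul_one]

/-- all root subgroups. -/
theorem hasTv_all {M : Subgroup (Matrix.GeneralLinearGroup ι F)} (hN : HasMonoSL M)
    {i l : ι} (hil : i ≠ l) (h : HasTv M i l) (k' l' : ι) (hkl : k' ≠ l') : HasTv M k' l' := by
  have h1 := hasTv_swap hN i k' h
  rw [Equiv.swap_apply_left] at h1
  have hne : Equiv.swap i k' l ≠ k' := by
    intro h2
    have : Equiv.swap i k' l = Equiv.swap i k' i := by rw [h2, Equiv.swap_apply_left]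
    exact hil ((Equiv.swap i k').injective this).symm
  have h2 := hasTv_swap hN (Equiv.swap i k' l) l' h1
  rw [Equiv.swap_apply_left, Equiv.swap_apply_of_ne_of_ne (Ne.symm hne) hkl] at h2
  exact h2

/-- products of transvections lie in `M`. -/
theorem list_transvec_mem {M : Subgroup (Matrix.GeneralLinearGroup ι F)}
    (h : ∀ k l : ι, k ≠ l → HasTv M k l) (L : List (Matrix.TransvectionStruct ι F)) :
    ∃ u ∈ M, ((u : Matrix.GeneralLinearGroup ι F) : Matrix ι ι F)
      = (L.map Matrix.TransvectionStruct.toMatrix).prod := by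
  induction L with
  | nil => exact ⟨1, M.one_mem, by rw [List.map_nil, List.prod_nil]; rfl⟩
  | cons t L ih =>
    obtain ⟨u, hu, huv⟩ := ih
    obtain ⟨x, hx, hxv⟩ := h t.i t.j t.hij t.c
    refine ⟨x * u, M.mul_mem hx hu, ?_⟩
    rw [List.map_cons, List.prod_cons, Units.val_mul, hxv, huv]
    rfl

theorem isMono_diagonal (D : ι → F) : IsMono (Matrix.diagonal D) := by
  intro a
  refine ⟨a, fun i hi => ?_⟩
  rw [Matrix.diagonal_apply_ne _ hi]

/-- Step 4: `M` contains all root subgroups, hence all of `SL`. -/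
theorem mem_of_hasTv {M : Subgroup (Matrix.GeneralLinearGroup ι F)} (hMS : InSL M)
    (hN : HasMonoSL M) (h : ∀ k l : ι, k ≠ l → HasTv M k l)
    (g : Matrix.GeneralLinearGroup ι F) (hg : (g : Matrix ι ι F).det = 1) : g ∈ M := by
  obtain ⟨L, L', D, hD⟩ :=
    Matrix.Pivot.exists_list_transvec_mul_diagonal_mul_list_transvec (g : Matrix ι ι F)
  obtain ⟨u, hu, huv⟩ := list_transvec_mem h L
  obtain ⟨u', hu', hu'v⟩ := list_transvec_mem h L'
  rw [← huv, ← hu'v] at hD
  have hw : ((u⁻¹ * g * u'⁻¹ : Matrix.GeneralLinearGroup ι F) : Matrix ι ι F)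
      = Matrix.diagonal D := by
    have h1 : ((u⁻¹ : Matrix.GeneralLinearGroup ι F) : Matrix ι ι F) * (u : Matrix ι ι F) = 1 := by
      rw [← Units.val_mul, inv_mul_cancel]; rfl
    have h2 : (u' : Matrix ι ι F) * ((u'⁻¹ : Matrix.GeneralLinearGroup ι F) : Matrix ι ι F) = 1 := by
      rw [← Units.val_mul, mul_inv_cancel]; rfl
    rw [Units.val_mul, Units.val_mul, hD]
    calc ((u⁻¹ : Matrix.GeneralLinearGroup ι F) : Matrix ι ι F)
          * ((u : Matrix ι ι F) * Matrix.diagonal D * (u' : Matrix ι ι F))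
          * ((u'⁻¹ : Matrix.GeneralLinearGroup ι F) : Matrix ι ι F)
        = (((u⁻¹ : Matrix.GeneralLinearGroup ι F) : Matrix ι ι F) * (u : Matrix ι ι F))
          * Matrix.diagonal D
          * ((u' : Matrix ι ι F) * ((u'⁻¹ : Matrix.GeneralLinearGroup ι F) : Matrix ι ι F)) := by
          simp only [Matrix.mul_assoc]
      _ = Matrix.diagonal D := by rw [h1, h2, Matrix.one_mul, Matrix.mul_one]
  have hdet : ((u⁻¹ * g * u'⁻¹ : Matrix.GeneralLinearGroup ι F) : Matrix ι ι F).det = 1 := by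
    rw [Units.val_mul, Units.val_mul, Matrix.det_mul, Matrix.det_mul,
      hMS _ (M.inv_mem hu), hMS _ (M.inv_mem hu'), hg, mul_one, mul_one]
  have hmem : (u⁻¹ * g * u'⁻¹ : Matrix.GeneralLinearGroup ι F) ∈ M := by
    apply hN _ _ hdet
    rw [hw]
    exact isMono_diagonal D
  have : g = u * (u⁻¹ * g * u'⁻¹) * u' := by group
  rw [this]
  exact M.mul_mem (M.mul_mem hu hmem) hu'

variable [Fintype F]

theorem exists_unit_ne_one (hq : 4 ≤ Fintype.card F) : ∃ e : Fˣ, e ≠ 1 := by
  classical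
  have h : ({0, 1} : Finset F).card < (Finset.univ : Finset F).card := by
    rw [Finset.card_univ]
    exact lt_of_le_of_lt Finset.card_le_two (by omega)
  obtain ⟨z, -, hz⟩ := Finset.exists_mem_notMem_of_card_lt_card h
  simp only [Finset.mem_insert, Finset.mem_singleton, not_or] at hz
  refine ⟨Units.mk0 z hz.1, ?_⟩
  intro h2
  apply hz.2
  have := congrArg Units.val h2
  rwa [Units.val_mk0, Units.val_one] at this

/-- **Piece E.** An overgroup of the monomial group of determinant one in `SL` that contains a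
nontrivial `1 + e_i ψ` (with `ψ i = 0`) contains `SL`. -/
theorem finish (hq : 4 ≤ Fintype.card F) (hn : 4 ≤ Fintype.card ι)
    (M : Subgroup (Matrix.GeneralLinearGroup ι F)) (hMS : InSL M) (hN : HasMonoSL M)
    (i : ι) (ψ : ι → F) (hψi : ψ i = 0) (hψ : ψ ≠ 0)
    (x : Matrix.GeneralLinearGroup ι F) (hx : x ∈ M)
    (hxv : (x : Matrix ι ι F) = 1 + Matrix.vecMulVec (Pi.single i 1) ψ) :
    ∀ g : Matrix.GeneralLinearGroup ι F, (g : Matrix ι ι F).det = 1 → g ∈ M := by
  obtain ⟨e, he⟩ := exists_unit_ne_one hq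
  have h1 : InV M i ψ := ⟨hψi, x, hx, hxv⟩
  obtain ⟨l, c, hli, hc, h2⟩ := exists_single hN hn e he h1 hψ
  have h3 : HasTv M i l := hasTv_of_inV (inV_single_all hN hn hli hc h2)
  have h4 : ∀ k' l' : ι, k' ≠ l' → HasTv M k' l' := hasTv_all hN (Ne.symm hli) h3
  exact mem_of_hasTv hMS hN h4

end Cfsg.Agent.Lib.Helper18.ExtrL
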