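import Mathlib.GroupTheory.Sylow
import Cfsg.Prelude.Def_SubgroupEmbedding
import Cfsg.Agent.Lib.Helper18.SylowIn
import Cfsg.Agent.Lib.Helper18.PPrimeCore

set_option autoImplicit false

namespace Cfsg.Agent.Lib.Helper18

variable {G : Type*} [Group G]

theorem extremelyClosed_sup_eq_of_isPGroup [Finite G] {p : ℕ} [Fact p.Prime] {H : Subgroup G}
    (hcl : Cfsg.IsExtremelyClosed H) (g : G)
    (hT : IsPGroup p ↥(H ⊔ H.map (MulAut.conj g).toMonoidHom)) :
    H ⊔ H.map (MulAut.conj g).toMonoidHom = H := by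
  by_contra hne
  have hlt : H < H ⊔ H.map (MulAut.conj g).toMonoidHom := lt_of_le_of_ne le_sup_left (Ne.symm hne)
  obtain ⟨z, hzT, hzN, hzH⟩ := exists_mem_normalizer_not_mem_of_lt_pGroup hT hlt
  apply hzH
  have : z ∈ (H ⊔ H.map (MulAut.conj g).toMonoidHom) ⊓ Subgroup.normalizer (H : Set G) := ⟨hzT, hzN⟩
  rwa [hcl g] at this

theorem extremelyClosed_normalizer_le [Finite G] {p : ℕ} [Fact p.Prime] {H : Subgroup G}
    (hcl : Cfsg.IsExtremelyClosed H) {Q : Subgroup G} (hQ : IsPGroup p Q) (hHQ : H ≤ Q) :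
    Subgroup.normalizer (Q : Set G) ≤ Subgroup.normalizer (H : Set G) := by
  intro n hn
  have h1 : H.map (MulAut.conj n).toMonoidHom ≤ Q := by
    rintro _ ⟨h, hh, rfl⟩
    simp only [MulEquiv.coe_toMonoidHom, MulAut.conj_apply]
    exact (Subgroup.mem_normalizer_iff.mp hn h).mp (hHQ hh)
  have h2 : H ⊔ H.map (MulAut.conj n).toMonoidHom ≤ Q := sup_le hHQ h1
  have h3 := extremelyClosed_sup_eq_of_isPGroup hcl n (hQ.to_le h2)
  have h4 : conjSub n H ≤ H := by
    have : H.map (MulAut.conj n).toMonoidHom ≤ H ⊔ H.map (MulAut.conj n).toMonoidHom := le_sup_right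
    rwa [h3] at this
  exact mem_normalizer_of_conjSub_le h4

end Cfsg.Agent.Lib.Helper18
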