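import Mathlib
import Cfsg.Agent.Lib.Helper18.SylowIn
import Cfsg.Agent.Lib.Helper18.CyclicSylow

set_option autoImplicit false
open scoped commutatorElement

/-! A finite group with cyclic Sylow subgroups whose elements of prime order are central is cyclic
(helper18; tool for B & G Lemma 15.3 = statement S1438). -/

namespace Cfsg.Agent.Lib.Helper18.FifteenThree

open Cfsg.Agent.Lib.Helper18

open scoped IsMulCommutative in
/-- a finite group all of whose Sylow subgroups are cyclic and all of whose elements of prime order
are central is commutative -/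
theorem comm_of_zgroup_of_central {X : Type*} [Group X] [Finite X]
    (hcyc : ∀ (p : ℕ) [Fact p.Prime] (P : Sylow p X), IsCyclic ↥(P : Subgroup X))
    (hcent : ∀ x : X, (orderOf x).Prime → ∀ y : X, y * x = x * y) :
    ∀ a b : X, a * b = b * a := by
  have hcard : Nat.card (commutator X) = 1 := by
    by_contra hne
    obtain ⟨p, hp, hpd⟩ := Nat.exists_prime_and_dvd hne
    haveI : Fact p.Prime := ⟨hp⟩
    obtain ⟨P⟩ : Nonempty (Sylow p X) := inferInstance
    haveI hPc : IsCyclic ↥(P : Subgroup X) := hcyc p P
    have hP : Subgroup.normalizer ((P : Subgroup X) : Set X) ≤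
        Subgroup.centralizer ((P : Subgroup X) : Set X) := by
      by_cases hbot : (P : Subgroup X) = ⊥
      · rw [hbot]
        intro g _
        rw [Subgroup.mem_centralizer_iff]
        intro h hh
        rw [Subgroup.coe_bot, Set.mem_singleton_iff] at hh
        rw [hh, one_mul, mul_one]
      · have hpP : p ∣ Nat.card (P : Subgroup X) := by
          obtain ⟨n, hn⟩ := IsPGroup.iff_card.mp P.isPGroup'
          rw [hn]
          cases n with
          | zero =>
            exfalso
            rw [pow_zero] at hn
            exact hbot (Subgroup.card_eq_one.mp hn)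
          | succ n => exact Dvd.intro_left (p ^ n) rfl
        obtain ⟨x, hx⟩ := exists_prime_orderOf_dvd_card' p hpP
        have hxo : orderOf (x : X) = p := by rw [Subgroup.orderOf_coe, hx]
        have hx1 : (x : X) ≠ 1 := by
          intro h
          rw [h, orderOf_one] at hxo
          exact hp.one_lt.ne hxo
        apply normalizer_le_centralizer_of_cyclic_sylow P (hcyc p P) x.2 hx1
        intro g _
        rw [Subgroup.mem_centralizer_iff]
        intro h hh
        rw [Set.mem_singleton_iff] at hh
        rw [hh]
        exact (hcent (x : X) (by rw [hxo]; exact hp) g).symm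
    apply P.not_dvd_index
    refine hpd.trans ?_
    rw [(MonoidHom.ker_transferSylow_isComplement' P hP).index_eq_card]
    exact Subgroup.card_dvd_of_le (Abelianization.commutator_subset_ker _)
  have hbot : commutator X = ⊥ := Subgroup.card_eq_one.mp hcard
  intro a b
  have h1 : ⁅a, b⁆ ∈ commutator X := by
    rw [commutator_def]
    exact Subgroup.commutator_mem_commutator (Subgroup.mem_top a) (Subgroup.mem_top b)
  rw [hbot, Subgroup.mem_bot] at h1
  exact commutatorElement_eq_one_iff_mul_comm.mp h1

/-- a finite group all of whose Sylow subgroups are cyclic and all of whose elements of prime order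
are central is cyclic -/
theorem isCyclic_of_zgroup_of_central {X : Type*} [Group X] [Finite X]
    (hcyc : ∀ (p : ℕ) [Fact p.Prime] (P : Sylow p X), IsCyclic ↥(P : Subgroup X))
    (hcent : ∀ x : X, (orderOf x).Prime → ∀ y : X, y * x = x * y) : IsCyclic X := by
  have hcomm := comm_of_zgroup_of_central hcyc hcent
  haveI : IsZGroup X := ⟨fun p hp P => by
    haveI : Fact p.Prime := ⟨hp⟩
    exact hcyc p P⟩
  let _ : CommGroup X := ⟨hcomm⟩
  exact IsCyclic.of_exponent_eq_card (IsZGroup.exponent_eq_card X)

/-- subgroup form -/
theorem isCyclic_of_cyclic_sylow_of_central {G : Type*} [Group G] [Finite G] (X : Subgroup G)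
    (hcyc : ∀ (p : ℕ) [Fact p.Prime] (P : Subgroup G), IsSylowIn p P X → IsCyclic ↥P)
    (hcent : ∀ x ∈ X, (orderOf x).Prime → ∀ y ∈ X, y * x = x * y) : IsCyclic ↥X := by
  apply isCyclic_of_zgroup_of_central
  · intro p _ P
    have h1 : IsCyclic ↥((P : Subgroup ↥X).map X.subtype) :=
      hcyc p _ (isSylowIn_of_sylow P)
    exact (MulEquiv.isCyclic ((P : Subgroup ↥X).equivMapOfInjective X.subtype
      X.subtype_injective)).mpr h1
  · intro x hx y
    have h1 := hcent (x : G) x.2 (by rwa [Subgroup.orderOf_coe]) (y : G) y.2
    exact Subtype.ext h1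

end Cfsg.Agent.Lib.Helper18.FifteenThree
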