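import Mathlib
import Cfsg.Agent.Lib.Helper18.FifteenThreeA
import Cfsg.Agent.Lib.Helper18.Isolated
import Cfsg.Agent.Lib.Helper11.LemLA
import Cfsg.Agent.Lib.Helper28.BGtT
import Cfsg.Agent.S1417
import Cfsg.Agent.S1430
import Cfsg.Agent.S1431
import Cfsg.Agent.S1432

set_option autoImplicit false

/-! B & G Lemma 15.3 (statement S1438), first half (helper18): for a nontrivial Hall subgroup `H` of
`M_σ`, `C_M(H) = C_{M_σ}(H) X` with `X` a cyclic `τ₂(M)`-group. -/

namespace Cfsg.Agent.Lib.Helper18.FifteenThree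

open Cfsg Cfsg.Agent.Lib.Helper18 Cfsg.Agent.Lib.Helper28.BGt

variable {G : Type*} [Group G]

theorem hall_cent [Finite G] (hG : Cfsg.IsMinSimpleOddOrder G) {M : Subgroup G} (hM : IsCoatom M)
    {H : Subgroup G} (hH : H ≤ Cfsg.sigmaCore M) (hH1 : H ≠ ⊥)
    (hHall : (Nat.card H).Coprime (H.relIndex (Cfsg.sigmaCore M))) :
    ∃ X : Subgroup G, IsCyclic X ∧ (∀ p : ℕ, p.Prime → p ∣ Nat.card X → p ∈ Cfsg.tau2 M) ∧
      M ⊓ Subgroup.centralizer (H : Set G) =
        (Cfsg.sigmaCore M ⊓ Subgroup.centralizer (H : Set G)) ⊔ X := by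
  classical
  haveI : IsSimpleGroup G := hG.2.1
  haveI hsolM : Group.IsSolvable ↥M := Cfsg.Agent.Lib.Helper11.MaxSubB.coatom_solvable hG M hM
  obtain ⟨C, hCdef⟩ : ∃ C : Subgroup G, C = M ⊓ Subgroup.centralizer (H : Set G) := ⟨_, rfl⟩
  have hCM : C ≤ M := by rw [hCdef]; exact inf_le_left
  have hCH : C ≤ Subgroup.centralizer (H : Set G) := by rw [hCdef]; exact inf_le_right
  haveI hsolC : Group.IsSolvable ↥C := Cfsg.Agent.Lib.Lead.solvable_of_le hCM
  obtain ⟨X, hX, -⟩ := Cfsg.Agent.Lib.Helper11.LemLA.exists_piHallOf_ge {q | q ∉ Cfsg.sigma M} C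
    (Y := ⊥) bot_le (by
      intro q hq hqd
      rw [Subgroup.card_bot] at hqd
      exact absurd (Nat.dvd_one.mp hqd) hq.one_lt.ne')
  have hXC : X ≤ C := hX.1
  have hXM : X ≤ M := hXC.trans hCM
  have hXcent : X ≤ Subgroup.centralizer (H : Set G) := hXC.trans hCH
  obtain ⟨h0, hh0, hh01⟩ := exists_ne_one_of_ne_bot' hH1
  have hh0σ : h0 ∈ Cfsg.sigmaCore M := hH hh0
  -- the primes of `X`
  have hτ : ∀ p : ℕ, p.Prime → p ∣ Nat.card X → p ∈ Cfsg.tau2 M := by
    intro p hp hpd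
    haveI : Fact p.Prime := ⟨hp⟩
    obtain ⟨x', hx'⟩ := exists_prime_orderOf_dvd_card' p hpd
    have hx'o : orderOf (x' : G) = p := by rw [Subgroup.orderOf_coe, hx']
    have hx'1 : (x' : G) ≠ 1 := by
      intro h
      rw [h, orderOf_one] at hx'o
      exact hp.one_lt.ne hx'o
    have hx'M : (x' : G) ∈ M := hXM x'.2
    have hx'c : (x' : G) ∈ Subgroup.centralizer ({h0} : Set G) := by
      rw [Subgroup.mem_centralizer_iff]
      intro z hz
      rw [Set.mem_singleton_iff] at hz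
      subst hz
      exact Subgroup.mem_centralizer_iff.mp (hXcent x'.2) z hh0
    have hpσ : p ∉ Cfsg.sigma M := hX.2.1 p hp hpd
    rcases Cfsg.Agent.S1432.result hG M hM h0 hh0σ hh01 x' ⟨hx'M, hx'c⟩ hx'1 (by
      intro q hq hqd
      rw [hx'o] at hqd
      rw [(Nat.prime_dvd_prime_iff_eq hq hp).mp hqd]
      exact hpσ) with ⟨hκ, -⟩ | ⟨h2, -, -⟩
    · exfalso
      have hpκ : p ∈ Cfsg.kappa M := hκ p hp (by rw [hx'o])
      have hPM : Subgroup.zpowers (x' : G) ≤ M := by rw [Subgroup.zpowers_le]; exact hx'M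
      obtain ⟨K, hK, hPK⟩ := Cfsg.Agent.Lib.Helper11.LemLA.exists_piHallOf_ge (Cfsg.kappa M) M hPM (by
        intro q hq hqd
        rw [Nat.card_zpowers, hx'o] at hqd
        rw [(Nat.prime_dvd_prime_iff_eq hq hp).mp hqd]
        exact hpκ)
      have hx'K : (x' : G) ∈ K := hPK (Subgroup.mem_zpowers _)
      have hK1 : K ≠ ⊥ := by
        intro h
        rw [h, Subgroup.mem_bot] at hx'K
        exact hx'1 hx'K
      have h30 := (Cfsg.Agent.S1430.result hG M hM K hK hK1).1 x' hx'K hx'1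
      have hHK : H ≤ Cfsg.sigmaCore M ⊓ Subgroup.centralizer (K : Set G) := by
        rw [← h30]
        refine le_inf hH ?_
        intro h hh
        rw [Subgroup.mem_centralizer_iff]
        intro z hz
        rw [Set.mem_singleton_iff] at hz
        subst hz
        exact (Subgroup.mem_centralizer_iff.mp (hXcent x'.2) h hh).symm
      obtain ⟨q, hq, hqd⟩ := Nat.exists_prime_and_dvd
        (show Nat.card H ≠ 1 from fun h => hH1 (Subgroup.card_eq_one.mp h))
      haveI : Fact q.Prime := ⟨hq⟩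
      obtain ⟨Q, hQ, -⟩ := exists_isSylowIn_ge (p := q) (R := ⊥) (H := H) bot_le IsPGroup.of_bot
      have hQσ : IsSylowIn q Q (Cfsg.sigmaCore M) := by
        refine ⟨hQ.le.trans hH, hQ.isPGroup, ?_⟩
        rw [← Subgroup.relIndex_mul_relIndex Q H (Cfsg.sigmaCore M) hQ.le hH]
        intro hd
        rcases (Nat.Prime.dvd_mul hq).mp hd with h | h
        · exact hQ.not_dvd h
        · exact hq.one_lt.ne' (Nat.eq_one_of_dvd_coprimes hHall hqd h)
      obtain ⟨S, hS⟩ := hQσ.exists_sylow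
      have hSmap : (S : Subgroup ↥(Cfsg.sigmaCore M)).map (Cfsg.sigmaCore M).subtype = Q := by
        rw [hS]
        exact Subgroup.map_subgroupOf_eq_of_le hQσ.le
      have h31 := ((Cfsg.Agent.S1431.result hG M hM K hK hK1).2.2.1 q hq
        (hqd.trans (Subgroup.card_dvd_of_le hHK)) S).2.2
      apply h31
      rw [hSmap]
      exact hQ.le.trans hHK
    · exact h2 p hp (by rw [hx'o])
  -- a complement containing `X`
  obtain ⟨E, hE, hXE⟩ := exists_compl_ge hG hM hXM (fun q hq hqd => hX.2.1 q hq hqd)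
  have hXcyc : IsCyclic ↥X := by
    apply isCyclic_of_cyclic_sylow_of_central X
    · intro p hpF P hP
      by_cases hP1 : P = ⊥
      · rw [hP1]
        exact isCyclic_of_subsingleton
      have hp2 : p ≠ 2 := Cfsg.Agent.Lib.Helper11.BenderD.odd_prime_of_pgroup hG p P hP1 hP.isPGroup
      by_contra hnc
      have hr : ¬ Cfsg.PRankLE p 1 ↥P := fun h =>
        hnc (Cfsg.Agent.Lib.Helper11.BenderQ.isCyclic_of_pRankLE_one p hp2 hP.isPGroup h)
      obtain ⟨A, hAP, hAe, hA2⟩ :=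
        Cfsg.Agent.Lib.Helper1.BG10.exists_elemAb_sq_of_not_pRankLE_one p P hr
      have hAX : A ≤ X := hAP.trans hP.le
      have hpd : p ∣ Nat.card X := by
        have h1 : Nat.card A ∣ Nat.card X := Subgroup.card_dvd_of_le hAX
        rw [hA2] at h1
        exact (dvd_pow_self p two_ne_zero).trans h1
      have hpτ := hτ p hpF.out hpd
      have h17 := (Cfsg.Agent.S1417.result hG M hM p hpτ A ⟨hAX.trans hXM, hAe, hA2⟩).2.2.2.1
      apply hH1
      rw [eq_bot_iff, ← h17]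
      refine le_inf hH ?_
      intro h hh
      rw [Subgroup.mem_centralizer_iff]
      intro a ha
      exact (Subgroup.mem_centralizer_iff.mp (hXcent (hAX ha)) h hh).symm
    · intro x hx hxo y hy
      obtain ⟨p, hpdef⟩ : ∃ p : ℕ, p = orderOf x := ⟨_, rfl⟩
      have hp : p.Prime := by rw [hpdef]; exact hxo
      haveI : Fact p.Prime := ⟨hp⟩
      have hpd : p ∣ Nat.card X := by
        rw [hpdef]
        exact Subgroup.orderOf_dvd_natCard X hx
      have hpτ := hτ p hp hpd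
      obtain ⟨A, hAE, hAe, hA2⟩ := exists_sq_le_compl hG hM hE hpτ
      have c : Tau2Ctx M E p A :=
        ⟨hG, Cfsg.Agent.Lib.Helper11.JsubC.t1416 hG, Cfsg.Agent.Lib.Helper11.JsubC.t1417 hG, hM, hE,
          hpτ, hAE, hAe, hA2⟩
      have hxA : x ∈ A :=
        c.le_A_of_card (X := Subgroup.zpowers x) (Subgroup.zpowers_le.mpr (hXE hx))
          (by rw [Nat.card_zpowers, hpdef]) (Subgroup.mem_zpowers x)
      have hyc : y ∈ Subgroup.centralizer (A : Set G) :=
        c.tau2elem_centralizes (Cfsg.Agent.Lib.Helper11.LemLA.nc hG) (hXE hy) (by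
          intro q hq hqd
          exact hτ q hq (hqd.trans (Subgroup.orderOf_dvd_natCard X hy)))
      exact (Subgroup.mem_centralizer_iff.mp hyc x hxA).symm
  refine ⟨X, hXcyc, hτ, ?_⟩
  rw [← hCdef]
  have hσC : Cfsg.sigmaCore M ⊓ Subgroup.centralizer (H : Set G) ≤ C := by
    rw [hCdef]
    exact inf_le_inf_right _ (sigmaCore_le M)
  apply le_antisymm
  · rw [← Subgroup.relIndex_eq_one, Nat.eq_one_iff_not_exists_prime_dvd]
    intro r hr hrd
    haveI : Fact r.Prime := ⟨hr⟩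
    by_cases hrσ : r ∈ Cfsg.sigma M
    · obtain ⟨R, hR, -⟩ := exists_isSylowIn_ge (p := r) (R := ⊥) (H := C) bot_le IsPGroup.of_bot
      have hRσ : R ≤ Cfsg.sigmaCore M :=
        Cfsg.Agent.Lib.Helper1.BG12.pgroup_le_sigmaCore hG M hM r hrσ R (hR.le.trans hCM) hR.isPGroup
      have hRle : R ≤ Cfsg.sigmaCore M ⊓ Subgroup.centralizer (H : Set G) :=
        le_inf hRσ (hR.le.trans hCH)
      apply hR.not_dvd
      rw [← Subgroup.relIndex_mul_relIndex R
        ((Cfsg.sigmaCore M ⊓ Subgroup.centralizer (H : Set G)) ⊔ X) C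
        (hRle.trans le_sup_left) (sup_le hσC hXC)]
      exact Dvd.dvd.mul_left hrd _
    · exact hX.2.2 r hr hrσ (hrd.trans (Subgroup.relIndex_dvd_of_le_left C le_sup_right))
  · exact sup_le hσC hXC

end Cfsg.Agent.Lib.Helper18.FifteenThree
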