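import Mathlib
import Cfsg.Prelude.Def_OddOrderLocal
import Cfsg.Agent.Lib.Helper18.SylowIn
import Cfsg.Agent.Lib.Helper18.BGFifteenA
import Cfsg.Agent.Lib.Helper18.NaFinishA
import Cfsg.Agent.Lib.Helper18.FifteenTwoC
import Cfsg.Agent.Lib.Helper1.BG14.SigmaATI
import Cfsg.Agent.Lib.Helper1.BG15.SigmaDecomp
import Cfsg.Agent.Lib.Helper10.TypeP

set_option autoImplicit false

/-! B & G Corollary 15.3(b) (statement S1438, second half), abstract part (helper18): Hall
subgroups of nilpotent groups are characteristic; a solvable group `Ms` with a normal Sylow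
`q`-subgroup `Q` all of whose complements are nilpotent: fusion in Hall subgroups of `Ms` under
an overgroup `M` normalizing `Ms` and `Q` is controlled by normalizers. -/

namespace Cfsg.Agent.Lib.Helper18.FifteenThree

open Cfsg Cfsg.Agent.Lib.Helper18 Cfsg.Agent.Lib.Helper18.FifteenTwo

variable {G : Type*} [Group G] [Finite G]

/-- a Hall subgroup of a nilpotent group is normalized by everything normalizing the group -/
theorem hall_nilpotent_normalizer {N H : Subgroup G} (hN : Group.IsNilpotent N) (hHN : H ≤ N)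
    (hHall : (Nat.card H).Coprime (H.relIndex N)) :
    Subgroup.normalizer (N : Set G) ≤ Subgroup.normalizer (H : Set G) := by
  intro g hg
  have hgN : conjSub g N = N := conjSub_eq_of_mem_normalizer hg
  have hle : H ≤ H ⊓ conjSub g H := by
    apply Cfsg.Agent.Lib.Helper18.BGFifteenA.le_of_forall_sylow_le inf_le_left
    intro p hp
    haveI : Fact p.Prime := ⟨hp⟩
    obtain ⟨S⟩ : Nonempty (Sylow p ↥H) := inferInstance
    obtain ⟨P, hPdef⟩ : ∃ P : Subgroup G, P = (S : Subgroup ↥H).map H.subtype := ⟨_, rfl⟩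
    have hP : IsSylowIn p P H := hPdef ▸ isSylowIn_of_sylow S
    refine ⟨P, hP, le_inf hP.le ?_⟩
    by_cases hpH : p ∣ Nat.card H
    · have hpN : ¬ p ∣ H.relIndex N := by
        intro h
        have h1 : p ∣ Nat.gcd (Nat.card H) (H.relIndex N) := Nat.dvd_gcd hpH h
        rw [hHall.gcd_eq_one] at h1
        exact hp.one_lt.ne' (Nat.dvd_one.mp h1)
      have hPN : IsSylowIn p P N := ⟨hP.le.trans hHN, hP.isPGroup, by
        rw [← Subgroup.relIndex_mul_relIndex P H N hP.le hHN]
        intro h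
        rcases (Nat.Prime.dvd_mul hp).mp h with h | h
        · exact hP.not_dvd h
        · exact hpN h⟩
      obtain ⟨T, hT⟩ := hPN.exists_sylow
      haveI := hN
      have hTn : (T : Subgroup ↥N).Normal := inferInstance
      have hNP : N ≤ Subgroup.normalizer (P : Set G) := by
        intro x hx
        apply mem_normalizer_of_conjSub_le
        intro y hy
        rw [mem_conjSub] at hy
        have hyN' : x⁻¹ * y * x ∈ N := hPN.le hy
        have h1 : (⟨x⁻¹ * y * x, hyN'⟩ : ↥N) ∈ (T : Subgroup ↥N) := by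
          rw [hT, Subgroup.mem_subgroupOf]
          exact hy
        have h2 := hTn.conj_mem _ h1 ⟨x, hx⟩
        rw [hT, Subgroup.mem_subgroupOf] at h2
        have e : ((⟨x, hx⟩ * ⟨x⁻¹ * y * x, hyN'⟩ * (⟨x, hx⟩ : ↥N)⁻¹ : ↥N) : G) = y := by
          simp only [Subgroup.coe_mul, InvMemClass.coe_inv]
          group
        rwa [e] at h2
      have hPg : IsSylowIn p (conjSub g P) N := by
        have := hPN.conjSub g
        rwa [hgN] at this
      obtain ⟨x, hx, hxle⟩ := hPN.exists_conj_le hPg.le hPg.isPGroup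
      have h3 : conjSub g P ≤ conjSub x⁻¹ P := conjSub_le_iff.mp hxle
      rw [conjSub_eq_of_mem_normalizer (hNP (N.inv_mem hx))] at h3
      have h4 : conjSub g P = P := Subgroup.eq_of_le_of_card_ge h3 (by rw [card_conjSub])
      rw [← h4]
      exact conjSub_mono hP.le
    · have hbot : P = ⊥ := by
        obtain ⟨n, hn⟩ := IsPGroup.iff_card.mp hP.isPGroup
        have hdvd : Nat.card P ∣ Nat.card H := Subgroup.card_dvd_of_le hP.le
        rcases Nat.eq_zero_or_pos n with h0 | h0
        · rw [h0, pow_zero] at hn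
          exact Subgroup.card_eq_one.mp hn
        · exfalso
          apply hpH
          rw [hn] at hdvd
          exact (dvd_pow_self p h0.ne').trans hdvd
      rw [hbot]
      exact bot_le
  have hle' : H ≤ conjSub g H := hle.trans inf_le_right
  have heq : H = conjSub g H := Subgroup.eq_of_le_of_card_ge hle' (by rw [card_conjSub])
  exact mem_normalizer_of_conjSub_le heq.ge

/-- a solvable group with a normal Sylow `q`-subgroup -/
structure NSyl (Ms Q : Subgroup G) (q : ℕ) : Prop where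
  hq : q.Prime
  hsolv : Group.IsSolvable Ms
  hQMs : Q ≤ Ms
  hMsQ : Ms ≤ Subgroup.normalizer (Q : Set G)
  hQ : IsPGroup q Q
  hsyl : ¬ q ∣ Q.relIndex Ms

namespace NSyl

variable {Ms Q : Subgroup G} {q : ℕ}

theorem cop_card (c : NSyl Ms Q q) {n : ℕ} (hn : ¬ q ∣ n) : (Nat.card Q).Coprime n := by
  haveI : Fact q.Prime := ⟨c.hq⟩
  obtain ⟨k, hk⟩ := IsPGroup.iff_card.mp c.hQ
  rw [hk]
  apply Nat.Coprime.pow_left
  exact (Nat.Prime.coprime_iff_not_dvd c.hq).mpr hn

/-- Schur–Zassenhaus -/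
theorem exists_compl (c : NSyl Ms Q q) : ∃ D : Subgroup G, Cfsg.IsComplIn Q D Ms := by
  haveI hn : (Q.subgroupOf Ms).Normal := Subgroup.normal_subgroupOf_of_le_normalizer c.hMsQ
  have hcQ : Nat.card (Q.subgroupOf Ms) = Nat.card Q :=
    Nat.card_congr (Subgroup.subgroupOfEquivOfLe c.hQMs).toEquiv
  have hcop : (Nat.card (Q.subgroupOf Ms)).Coprime (Q.subgroupOf Ms).index := by
    rw [hcQ]
    exact c.cop_card c.hsyl
  obtain ⟨H, hH⟩ := Subgroup.exists_right_complement'_of_coprime hcop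
  refine ⟨H.map Ms.subtype, ?_⟩
  have hcH : Nat.card (H.map Ms.subtype) = Nat.card H :=
    Subgroup.card_map_of_injective (Subgroup.subtype_injective _)
  have hmul := hH.card_mul_card
  rw [hcQ] at hmul
  apply Cfsg.Agent.Lib.Helper18.NaFinish.isComplIn_of_card c.hQMs (Subgroup.map_subtype_le _)
  · rw [eq_bot_iff]
    rintro x ⟨hxQ, y, hy, rfl⟩
    have h1 : y ∈ Q.subgroupOf Ms ⊓ H := by
      refine Subgroup.mem_inf.mpr ⟨?_, hy⟩
      rw [Subgroup.mem_subgroupOf]
      exact hxQ
    rw [hH.disjoint.eq_bot, Subgroup.mem_bot] at h1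
    rw [Subgroup.mem_bot, h1]
    rfl
  · rw [hcH]
    exact hmul

theorem card_compl (c : NSyl Ms Q q) {D : Subgroup G} (hD : Cfsg.IsComplIn Q D Ms) :
    Nat.card D = Q.relIndex Ms := by
  have h1 : Nat.card Q * Q.relIndex Ms = Nat.card Ms :=
    Cfsg.Agent.Lib.Helper1.BG12.card_mul_relIndex_of_le c.hQMs
  rw [Cfsg.Agent.Lib.Helper1.BG15.card_of_isComplIn hD] at h1
  exact (Nat.eq_of_mul_eq_mul_left Nat.card_pos h1).symm

theorem cop_compl (c : NSyl Ms Q q) {D : Subgroup G} (hD : Cfsg.IsComplIn Q D Ms) :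
    (Nat.card Q).Coprime (Nat.card D) := by
  rw [c.card_compl hD]
  exact c.cop_card c.hsyl

/-- conjugates of complements are complements -/
theorem compl_conj (c : NSyl Ms Q q) {D : Subgroup G} (hD : Cfsg.IsComplIn Q D Ms) {w : G}
    (hwMs : w ∈ Subgroup.normalizer (Ms : Set G)) :
    Cfsg.IsComplIn Q (conjSub w D) Ms := by
  have hle : conjSub w D ≤ Ms := by
    have h1 : conjSub w D ≤ conjSub w Ms := conjSub_mono hD.2.1
    rwa [conjSub_eq_of_mem_normalizer hwMs] at h1
  apply Cfsg.Agent.Lib.Helper18.NaFinish.isComplIn_of_card c.hQMs hle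
  · apply Subgroup.inf_eq_bot_of_coprime
    rw [card_conjSub]
    exact c.cop_compl hD
  · rw [card_conjSub]
    exact (Cfsg.Agent.Lib.Helper1.BG15.card_of_isComplIn hD).symm

/-- a `q'`-subgroup lies in a complement -/
theorem exists_compl_ge (c : NSyl Ms Q q) {Y : Subgroup G} (hY : Y ≤ Ms)
    (hYq : (Nat.card Y).Coprime (Nat.card Q)) :
    ∃ D : Subgroup G, Cfsg.IsComplIn Q D Ms ∧ Y ≤ D := by
  obtain ⟨D₀, hD₀⟩ := c.exists_compl
  obtain ⟨w, hw, hwY⟩ := Cfsg.Agent.Lib.Helper1.BG14.hall_conj_into c.hsolv hD₀.2.1 hY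
    (n := Nat.card Q) (by rw [Cfsg.Agent.Lib.Helper1.BG15.card_of_isComplIn hD₀, mul_comm])
    (c.cop_compl hD₀).symm hYq
  refine ⟨conjSub w D₀, c.compl_conj hD₀ (Subgroup.le_normalizer hw), ?_⟩
  intro y hy
  rw [mem_conjSub]
  exact hwY y hy

/-- the Frattini argument for complements -/
theorem frattini (c : NSyl Ms Q q) {D : Subgroup G} (hD : Cfsg.IsComplIn Q D Ms) {m : G}
    (hmMs : m ∈ Subgroup.normalizer (Ms : Set G)) :
    ∃ u ∈ Q, ∃ n ∈ Subgroup.normalizer (D : Set G), m = u * n := by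
  have hD' := c.compl_conj hD hmMs
  obtain ⟨w, hw, hwY⟩ := Cfsg.Agent.Lib.Helper1.BG14.hall_conj_into c.hsolv hD.2.1 hD'.2.1
    (n := Nat.card Q) (by rw [Cfsg.Agent.Lib.Helper1.BG15.card_of_isComplIn hD, mul_comm])
    (c.cop_compl hD).symm (by rw [card_conjSub]; exact (c.cop_compl hD).symm)
  have hle : conjSub (w⁻¹ * m) D ≤ D := by
    rw [← conjSub_mul]
    intro x hx
    rw [mem_conjSub, inv_inv] at hx
    have := hwY _ hx
    have e : w⁻¹ * (w * x * w⁻¹) * w = x := by group
    rwa [e] at this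
  have hn : w⁻¹ * m ∈ Subgroup.normalizer (D : Set G) := mem_normalizer_of_conjSub_le hle
  obtain ⟨a, ha, d, hd, hwad⟩ := hD.2.2.2 w hw
  refine ⟨a, ha, d * (w⁻¹ * m), Subgroup.mul_mem _ (Subgroup.le_normalizer hd) hn, ?_⟩
  rw [hwad]
  group

end NSyl

end Cfsg.Agent.Lib.Helper18.FifteenThree
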