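import Mathlib
import Cfsg.Prelude.Def_OddOrderLocal
import Cfsg.Agent.Lib.Helper18.FifteenThreeC

set_option autoImplicit false

/-! B & G Corollary 15.3(b), abstract fusion lemma (helper18). -/

namespace Cfsg.Agent.Lib.Helper18.FifteenThree

open Cfsg Cfsg.Agent.Lib.Helper18 Cfsg.Agent.Lib.Helper18.FifteenTwo

variable {G : Type*} [Group G] [Finite G]

namespace NSyl

variable {Ms Q : Subgroup G} {q : ℕ}

/-- if `q` divides the order of the Hall subgroup `H` then `Q ≤ H` -/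
theorem Q_le_of_dvd (c : NSyl Ms Q q) {H : Subgroup G} (hH : H ≤ Ms)
    (hHall : (Nat.card H).Coprime (H.relIndex Ms)) (hqH : q ∣ Nat.card H) : Q ≤ H := by
  haveI : Fact q.Prime := ⟨c.hq⟩
  have hqN : ¬ q ∣ H.relIndex Ms := by
    intro h
    have h1 : q ∣ Nat.gcd (Nat.card H) (H.relIndex Ms) := Nat.dvd_gcd hqH h
    rw [hHall.gcd_eq_one] at h1
    exact c.hq.one_lt.ne' (Nat.dvd_one.mp h1)
  obtain ⟨S⟩ : Nonempty (Sylow q ↥H) := inferInstance
  have hP : IsSylowIn q ((S : Subgroup ↥H).map H.subtype) H := isSylowIn_of_sylow S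
  have hPMs : IsSylowIn q ((S : Subgroup ↥H).map H.subtype) Ms := ⟨hP.le.trans hH, hP.isPGroup, by
    rw [← Subgroup.relIndex_mul_relIndex _ H Ms hP.le hH]
    intro h
    rcases (Nat.Prime.dvd_mul c.hq).mp h with h | h
    · exact hP.not_dvd h
    · exact hqN h⟩
  obtain ⟨x, hx, hxle⟩ := hPMs.exists_conj_le c.hQMs c.hQ
  rw [conjSub_eq_of_mem_normalizer (c.hMsQ hx)] at hxle
  exact hxle.trans hP.le

/-- fusion in a Hall subgroup `H` of `Ms` under `M` is controlled by `N_M(H)` -/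
theorem fusion (c : NSyl Ms Q q) {M H : Subgroup G} (hMMs : M ≤ Subgroup.normalizer (Ms : Set G))
    (hMQ : M ≤ Subgroup.normalizer (Q : Set G)) (hQM : Q ≤ M)
    (hDnil : ∀ D : Subgroup G, Cfsg.IsComplIn Q D Ms → Group.IsNilpotent D) (hH : H ≤ Ms)
    (hHall : (Nat.card H).Coprime (H.relIndex Ms)) {x : G} (hx : x ∈ H) {m : G} (hm : m ∈ M)
    (hmx : m * x * m⁻¹ ∈ H) :
    ∃ n ∈ M ⊓ Subgroup.normalizer (H : Set G), n * x * n⁻¹ = m * x * m⁻¹ := by
  by_cases hqH : q ∣ Nat.card H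
  · -- `Q ≤ H` and `H` is normal in `M`
    have hQH : Q ≤ H := c.Q_le_of_dvd hH hHall hqH
    have c' : NSyl H Q q :=
      { hq := c.hq
        hsolv := by
          haveI := c.hsolv
          exact solvable_of_solvable_injective (Subgroup.inclusion_injective hH)
        hQMs := hQH
        hMsQ := hH.trans c.hMsQ
        hQ := c.hQ
        hsyl := by
          intro h
          apply c.hsyl
          rw [← Subgroup.relIndex_mul_relIndex Q H Ms hQH hH]
          exact Dvd.dvd.mul_right h _ }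
    obtain ⟨H₁, hH₁⟩ := c'.exists_compl
    have hH₁H : H₁ ≤ H := hH₁.2.1
    obtain ⟨D, hD, hH₁D⟩ := c.exists_compl_ge (hH₁H.trans hH) (c'.cop_compl hH₁).symm
    have hDn := hDnil D hD
    have hcH : Nat.card H = Nat.card Q * Nat.card H₁ :=
      Cfsg.Agent.Lib.Helper1.BG15.card_of_isComplIn hH₁
    have hcMs : Nat.card Ms = Nat.card Q * Nat.card D :=
      Cfsg.Agent.Lib.Helper1.BG15.card_of_isComplIn hD
    have hrel : H₁.relIndex D = H.relIndex Ms := by
      have h1 : Nat.card H * H.relIndex Ms = Nat.card Ms :=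
        Cfsg.Agent.Lib.Helper1.BG12.card_mul_relIndex_of_le hH
      have h2 : Nat.card H₁ * H₁.relIndex D = Nat.card D :=
        Cfsg.Agent.Lib.Helper1.BG12.card_mul_relIndex_of_le hH₁D
      rw [hcH, hcMs, mul_assoc] at h1
      have h3 : Nat.card H₁ * H.relIndex Ms = Nat.card D :=
        Nat.eq_of_mul_eq_mul_left Nat.card_pos h1
      rw [← h2] at h3
      exact (Nat.eq_of_mul_eq_mul_left Nat.card_pos h3).symm
    have hHall₁ : (Nat.card H₁).Coprime (H₁.relIndex D) := by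
      rw [hrel]
      exact Nat.Coprime.coprime_dvd_left (Subgroup.card_dvd_of_le hH₁H) hHall
    have hND : Subgroup.normalizer (D : Set G) ≤ Subgroup.normalizer (H₁ : Set G) :=
      hall_nilpotent_normalizer hDn hH₁D hHall₁
    have hsup : Q ⊔ H₁ = H := Cfsg.Agent.Lib.Helper10.isComplIn_sup hH₁
    have hMH : M ≤ Subgroup.normalizer (H : Set G) := by
      intro m' hm'
      obtain ⟨u, hu, n, hn, hmun⟩ := c.frattini hD (hMMs hm')
      have hnM : n ∈ M := by
        have : n = u⁻¹ * m' := by rw [hmun]; group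
        rw [this]
        exact M.mul_mem (M.inv_mem (hQM hu)) hm'
      have hnH : n ∈ Subgroup.normalizer (H : Set G) := by
        rw [← hsup]
        exact mem_normalizer_sup (hMQ hnM) (hND hn)
      rw [hmun]
      exact Subgroup.mul_mem _ (Subgroup.le_normalizer (hQH hu)) hnH
    exact ⟨m, Subgroup.mem_inf.mpr ⟨hm, hMH hm⟩, rfl⟩
  · -- `H` is a `q'`-group, inside a nilpotent complement `D`
    have hcopHQ : (Nat.card H).Coprime (Nat.card Q) := (c.cop_card hqH).symm
    obtain ⟨D, hD, hHD⟩ := c.exists_compl_ge hH hcopHQ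
    have hDn := hDnil D hD
    have hHallD : (Nat.card H).Coprime (H.relIndex D) := by
      apply Nat.Coprime.coprime_dvd_right _ hHall
      rw [← Subgroup.relIndex_mul_relIndex H D Ms hHD hD.2.1]
      exact Dvd.intro _ rfl
    have hND : Subgroup.normalizer (D : Set G) ≤ Subgroup.normalizer (H : Set G) :=
      hall_nilpotent_normalizer hDn hHD hHallD
    obtain ⟨u, hu, n, hn, hmun⟩ := c.frattini hD (hMMs hm)
    have hnM : n ∈ M := by
      have : n = u⁻¹ * m := by rw [hmun]; group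
      rw [this]
      exact M.mul_mem (M.inv_mem (hQM hu)) hm
    have hnH : n ∈ Subgroup.normalizer (H : Set G) := hND hn
    refine ⟨n, Subgroup.mem_inf.mpr ⟨hnM, hnH⟩, ?_⟩
    have hy : n * x * n⁻¹ ∈ H := (Subgroup.mem_normalizer_iff.mp hnH x).mp hx
    have hmy : m * x * m⁻¹ = u * (n * x * n⁻¹) * u⁻¹ := by rw [hmun]; group
    have hz : u * (n * x * n⁻¹) * u⁻¹ * (n * x * n⁻¹)⁻¹ ∈ Q ⊓ D := by
      refine Subgroup.mem_inf.mpr ⟨?_, ?_⟩
      · have h1 : (n * x * n⁻¹) * u⁻¹ * (n * x * n⁻¹)⁻¹ ∈ Q :=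
          (Subgroup.mem_normalizer_iff.mp (c.hMsQ (hH hy)) u⁻¹).mp (Q.inv_mem hu)
        have e : u * (n * x * n⁻¹) * u⁻¹ * (n * x * n⁻¹)⁻¹ =
            u * ((n * x * n⁻¹) * u⁻¹ * (n * x * n⁻¹)⁻¹) := by group
        rw [e]
        exact Q.mul_mem hu h1
      · rw [← hmy]
        exact D.mul_mem (hHD hmx) (D.inv_mem (hHD hy))
    rw [hD.2.2.1, Subgroup.mem_bot] at hz
    rw [hmy]
    calc n * x * n⁻¹ = (u * (n * x * n⁻¹) * u⁻¹ * (n * x * n⁻¹)⁻¹)⁻¹ *
          (u * (n * x * n⁻¹) * u⁻¹) := by group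
      _ = u * (n * x * n⁻¹) * u⁻¹ := by rw [hz, inv_one, one_mul]

end NSyl

end Cfsg.Agent.Lib.Helper18.FifteenThree
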