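import Mathlib
import Cfsg.Prelude.Def_OddOrderLocal
import Cfsg.Agent.Lib.Helper18.FifteenThreeD
import Cfsg.Agent.Lib.Helper18.FifteenTwoH
import Cfsg.Agent.Lib.Helper1.BG14b.Fusion
import Cfsg.Agent.S1351
import Cfsg.Agent.S1352

set_option autoImplicit false

/-! B & G Corollary 15.3(b) (statement S1438, second half) (helper18): elements of a Hall
subgroup `H` of `M_σ` that are conjugate in `G` are conjugate in `N_M(H)`. -/

namespace Cfsg.Agent.Lib.Helper18.FifteenThree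

open Cfsg Cfsg.Agent.Lib.Helper18 Cfsg.Agent.Lib.Helper18.FifteenTwo
open Cfsg.Agent.Lib.Helper11.MaxSubB

variable {G : Type*} [Group G] [Finite G]

theorem hall_fusion (hG : Cfsg.IsMinSimpleOddOrder G) {M : Subgroup G} (hM : IsCoatom M)
    {H : Subgroup G} (hH : H ≤ Cfsg.sigmaCore M)
    (hHall : (Nat.card H).Coprime (H.relIndex (Cfsg.sigmaCore M))) :
    ∀ x ∈ H, ∀ g : G, g * x * g⁻¹ ∈ H →
      ∃ n ∈ M ⊓ Subgroup.normalizer (H : Set G), n * x * n⁻¹ = g * x * g⁻¹ := by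
  intro x hx g hgx
  by_cases hx1 : x = 1
  · refine ⟨1, Subgroup.one_mem _, ?_⟩
    rw [hx1]
    group
  have hMsM : Cfsg.sigmaCore M ≤ M := BGThirteenA.sigmaCore_le M
  have hMMs : M ≤ Subgroup.normalizer (Cfsg.sigmaCore M : Set G) :=
    Cfsg.Agent.Lib.Helper28.BGt.le_normalizer_sigmaCore M
  obtain ⟨m, hm, b, hb, hgmb⟩ :=
    Cfsg.Agent.Lib.Helper1.BG14b.fusion_decomp hG hM (hH hx) hx1 (hMsM (hH hgx))
  have hbC := Cfsg.Agent.Lib.Helper1.BG14b.supportR_le_centralizer hG hM (hH hx) hx1 hb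
  have hbx : b * x * b⁻¹ = x := by
    have h1 := Subgroup.mem_centralizer_singleton_iff.mp hbC
    calc b * x * b⁻¹ = (b * x) * b⁻¹ := by group
      _ = (x * b) * b⁻¹ := by rw [h1]
      _ = x := by group
  have hmx : m * x * m⁻¹ = g * x * g⁻¹ := by
    rw [hgmb]
    calc m * x * m⁻¹ = m * (b * x * b⁻¹) * m⁻¹ := by rw [hbx]
      _ = m * b * x * (m * b)⁻¹ := by group
  rw [← hmx] at hgx ⊢
  by_cases hnil : Group.IsNilpotent (Cfsg.sigmaCore M)
  · exact ⟨m, Subgroup.mem_inf.mpr ⟨hm, hall_nilpotent_normalizer hnil hH hHall (hMMs hm)⟩, rfl⟩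
  · obtain ⟨⟨K, hK⟩, hKc⟩ := Cfsg.Agent.S1351.result hG M hM
    obtain ⟨⟨U, hKU⟩, -⟩ := Cfsg.Agent.S1352.result hG M hM K (hKc K hK) hK
    have c : Setting M K := ⟨hG, hM, hK, hnil⟩
    have hU : U = ⊥ := c.U_eq_bot hKU.compl
    have hqp := Cfsg.Agent.S1373.result hG M hM K U hKU c.hK1 hU
    obtain ⟨q, hcard⟩ : ∃ q : ℕ,
        Nat.card ↥(Cfsg.sigmaCore M ⊓ Subgroup.centralizer (K : Set G)) = q := ⟨_, rfl⟩
    rw [hcard] at hqp
    haveI hq : Fact q.Prime := ⟨hqp⟩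
    have ns : NSyl (Cfsg.sigmaCore M) (fP (Cfsg.sigmaCore M) q) q :=
      { hq := hqp
        hsolv := c.solvMs
        hQMs := c.Q_le q
        hMsQ := c.MsM.trans (c.MQ q)
        hQ := fP_isPGroup _ q
        hsyl := c.Q_sylow hcard }
    apply ns.fusion c.MMs (c.MQ q) ((c.Q_le q).trans c.MsM) _ hH hHall hx hm hgx
    intro D hD
    obtain ⟨g', -, cx⟩ := c.exists_ctx hcard hD
    exact cx.D_nil

end Cfsg.Agent.Lib.Helper18.FifteenThree
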