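import Mathlib
import Cfsg.Agent.Lib.Helper18.Fpf4Mod
import Cfsg.Agent.Lib.Helper1.FPF.Basic
import Cfsg.Agent.Lib.Helper1.Fitting
import Cfsg.Agent.Lib.Helper1.Cores
import Cfsg.Agent.Lib.Helper12.Local

set_option autoImplicit false

namespace Cfsg.Agent.Lib.Helper18.Fpf4

open Cfsg.Agent.Lib.Helper1.FPF

universe u

theorem odd_card_of_fpf4 {G : Type*} [Group G] [Finite G] (σ : MulAut G) (h4 : σ ^ 4 = 1)
    (hf : ∀ g : G, σ g = g → g = 1) : Odd (Nat.card G) := by
  have hA : IsPGroup 2 ↥(Subgroup.zpowers σ) := by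
    intro a
    refine ⟨2, ?_⟩
    obtain ⟨k, hk⟩ := Subgroup.mem_zpowers_iff.mp a.2
    apply Subtype.ext
    rw [Subgroup.coe_pow, ← hk, Subgroup.coe_one]
    have : ((2 : ℕ) ^ 2) = 4 := by norm_num
    rw [this, ← zpow_natCast, ← zpow_mul, mul_comm, zpow_mul, zpow_natCast, h4, one_zpow]
  haveI : Fact (Nat.Prime 2) := ⟨Nat.prime_two⟩
  have h1 := hA.card_modEq_card_fixedPoints G
  have h2 : MulAction.fixedPoints ↥(Subgroup.zpowers σ) G = {1} := by
    ext g
    rw [Set.mem_singleton_iff]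
    constructor
    · intro hg
      have := hg ⟨σ, Subgroup.mem_zpowers σ⟩
      rw [Subgroup.smul_def, MulAut.smul_def] at this
      exact hf g this
    · intro hg a
      rw [hg, Subgroup.smul_def, MulAut.smul_def, map_one]
  rw [h2] at h1
  have h3 : Nat.card ↥({1} : Set G) = 1 := by
    rw [Nat.card_eq_one_iff_unique]
    exact ⟨inferInstance, ⟨⟨1, rfl⟩⟩⟩
  rw [h3] at h1
  rw [Nat.odd_iff]
  exact h1

section MinInv

variable {G : Type u} [Group G] [Finite G]

theorem exists_min_inv (φ : G ≃* G) [Nontrivial G] :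
    ∃ M : Subgroup G, M.Normal ∧ Inv φ M ∧ M ≠ ⊥ ∧
      ∀ N : Subgroup G, N.Normal → Inv φ N → N ≤ M → N = ⊥ ∨ N = M := by
  classical
  have hex : ∃ k : ℕ, ∃ N : Subgroup G, N.Normal ∧ Inv φ N ∧ N ≠ ⊥ ∧ Nat.card ↥N = k :=
    ⟨_, ⊤, inferInstance, inv_top φ, top_ne_bot, rfl⟩
  obtain ⟨M, hMn, hMi, hMne, hMc⟩ := Nat.find_spec hex
  refine ⟨M, hMn, hMi, hMne, ?_⟩
  intro N hNn hNi hNM
  by_cases hN : N = ⊥
  · exact Or.inl hN
  · right
    have h1 : Nat.find hex ≤ Nat.card ↥N := Nat.find_min' hex ⟨N, hNn, hNi, hN, rfl⟩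
    rw [← hMc] at h1
    exact Subgroup.eq_of_le_of_card_ge hNM h1

theorem min_inv_abelian [Group.IsSolvable G] (φ : G ≃* G) (M : Subgroup G) (hMn : M.Normal)
    (hMi : Inv φ M) (hMne : M ≠ ⊥)
    (hmin : ∀ N : Subgroup G, N.Normal → Inv φ N → N ≤ M → N = ⊥ ∨ N = M) :
    ∀ a ∈ M, ∀ b ∈ M, a * b = b * a := by
  have h1 : ⁅M, M⁆ < M := Group.IsSolvable.commutator_lt_of_ne_bot hMne
  have h2 : (⁅M, M⁆).Normal := Subgroup.commutator_normal M M
  have h3 : Inv φ ⁅M, M⁆ := by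
    apply inv_of_map_eq
    rw [Subgroup.map_commutator, map_eq_of_inv hMi]
  rcases hmin _ h2 h3 h1.le with h4 | h4
  · have h5 := (Subgroup.commutator_eq_bot_iff_le_centralizer).mp h4
    intro a ha b hb
    have := Subgroup.mem_centralizer_iff.mp (h5 ha) b hb
    exact this.symm
  · exact absurd h4 h1.ne

theorem min_inv_exponent [Group.IsSolvable G] (φ : G ≃* G) (M : Subgroup G) (hMn : M.Normal)
    (hMi : Inv φ M) (hMne : M ≠ ⊥)
    (hmin : ∀ N : Subgroup G, N.Normal → Inv φ N → N ≤ M → N = ⊥ ∨ N = M) :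
    ∃ p : ℕ, p.Prime ∧ ∀ m ∈ M, m ^ p = 1 := by
  have hab := min_inv_abelian φ M hMn hMi hMne hmin
  have hcard : Nat.card ↥M ≠ 1 := by
    intro h
    exact hMne (Subgroup.card_eq_one.mp h)
  obtain ⟨p, hp, hpd⟩ := Nat.exists_prime_and_dvd hcard
  refine ⟨p, hp, ?_⟩
  haveI : Fact p.Prime := ⟨hp⟩
  let Om : Subgroup G :=
    { carrier := {m | m ∈ M ∧ m ^ p = 1}
      one_mem' := ⟨M.one_mem, one_pow p⟩
      mul_mem' := by
        intro a b ha hb
        refine ⟨M.mul_mem ha.1 hb.1, ?_⟩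
        have hc : Commute a b := hab a ha.1 b hb.1
        rw [hc.mul_pow, ha.2, hb.2, one_mul]
      inv_mem' := by
        intro a ha
        refine ⟨M.inv_mem ha.1, ?_⟩
        rw [inv_pow, ha.2, inv_one] }
  have hOmM : Om ≤ M := fun m hm => hm.1
  have hOmn : Om.Normal := by
    constructor
    intro n hn g
    refine ⟨hMn.conj_mem n hn.1 g, ?_⟩
    rw [conj_pow, hn.2]
    group
  have hOmi : Inv φ Om := by
    intro x hx
    refine ⟨hMi x hx.1, ?_⟩
    rw [← map_pow, hx.2, map_one]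
  obtain ⟨x, hx⟩ := exists_prime_orderOf_dvd_card' p hpd
  have hxne : (x : G) ≠ 1 := by
    intro h
    have : x = 1 := Subtype.ext h
    rw [this, orderOf_one] at hx
    exact hp.one_lt.ne hx
  have hxOm : (x : G) ∈ Om := by
    refine ⟨x.2, ?_⟩
    have : x ^ p = 1 := by rw [← hx]; exact pow_orderOf_eq_one x
    have h2 := congrArg Subtype.val this
    rw [Subgroup.coe_pow] at h2
    exact h2
  rcases hmin Om hOmn hOmi hOmM with h | h
  · rw [h, Subgroup.mem_bot] at hxOm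
    exact absurd hxOm hxne
  · intro m hm
    rw [← h] at hm
    exact hm.2

end MinInv

section Steps

variable {G : Type u} [Group G] [Finite G]

theorem step_nilp (hodd : Odd (Nat.card G)) (φ : G ≃* G)
    (hφ : MonoidHom.FixedPointFree (φ : G →* G)) (h4 : (φ : MulAut G) ^ 4 = 1)
    (M : Subgroup G) [hMn : M.Normal] (hMi : Inv φ M)
    (hmin : ∀ N : Subgroup G, N.Normal → Inv φ N → N ≤ M → N = ⊥ ∨ N = M)
    (hab : ∀ a ∈ M, ∀ b ∈ M, a * b = b * a) (p : ℕ) (hp : p.Prime) (hexp : ∀ m ∈ M, m ^ p = 1)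
    (hnil : Group.IsNilpotent (G ⧸ M)) :
    ∀ g : G, g⁻¹ * ((φ : MulAut G) ^ 2) g ∈ Subgroup.centralizer (M : Set G) := by
  classical
  haveI : Fact p.Prime := ⟨hp⟩
  letI iCG : CommGroup ↥M :=
    { (inferInstance : Group ↥M) with mul_comm := fun a b => Subtype.ext (hab a a.2 b b.2) }
  obtain ⟨c, hc⟩ : ∃ c : G →* MulAut ↥M, c = MulAut.conjNormal := ⟨_, rfl⟩
  obtain ⟨s, hs⟩ : ∃ s : MulAut ↥M, s = resAut φ M hMi := ⟨_, rfl⟩
  have hc_apply : ∀ (g : G) (m : ↥M), ((c g m : ↥M) : G) = g * m * g⁻¹ := by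
    intro g m
    rw [hc]
    exact MulAut.conjNormal_apply g m
  have hs_apply : ∀ m : ↥M, ((s m : ↥M) : G) = φ m := by
    intro m
    rw [hs]
    rfl
  have hker : ∀ g : G, c g = 1 ↔ g ∈ Subgroup.centralizer (M : Set G) := by
    intro g
    rw [Subgroup.mem_centralizer_iff]
    constructor
    · intro h m hm
      have h1 := hc_apply g ⟨m, hm⟩
      rw [h] at h1
      change m = g * m * g⁻¹ at h1
      calc m * g = (g * m * g⁻¹) * g := by rw [← h1]
        _ = g * m := by group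
    · intro h
      ext m
      rw [hc_apply]
      change g * (m : G) * g⁻¹ = (m : G)
      rw [← h m m.2]
      group
  have hsc : ∀ g : G, s * c g = c (φ g) * s := by
    intro g
    ext m
    show ((s (c g m) : ↥M) : G) = ((c (φ g) (s m) : ↥M) : G)
    rw [hs_apply, hc_apply, hc_apply, hs_apply]
    simp [map_mul, map_inv]
  have hsc2 : ∀ g : G, s ^ 2 * c g = c (((φ : MulAut G) ^ 2) g) * s ^ 2 := by
    intro g
    have h1 : ((φ : MulAut G) ^ 2) g = φ (φ g) := rfl
    rw [h1, pow_two, mul_assoc, hsc, ← mul_assoc, hsc, mul_assoc]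
  have hMC : M ≤ Subgroup.centralizer (M : Set G) := by
    intro m hm
    rw [Subgroup.mem_centralizer_iff]
    intro x hx
    exact hab x hx m hm
  have hCn : (Subgroup.centralizer (M : Set G)).Normal := Subgroup.normal_centralizer
  have hCi : Inv φ (Subgroup.centralizer (M : Set G)) := inv_centralizer hMi
  -- the hypotheses of the module step
  have hMp : IsPGroup p ↥M := by
    intro m
    refine ⟨1, ?_⟩
    apply Subtype.ext
    rw [pow_one]
    exact hexp m m.2
  have hs4 : s ^ 4 = 1 := by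
    rw [hs]
    exact resAut_pow_eq_one φ M hMi 4 h4
  have hsfix : ∀ m : ↥M, s m = m → m = 1 := by
    intro m hm
    apply Subtype.ext
    apply hφ
    show φ (m : G) = m
    rw [← hs_apply, hm]
  have hΓnil : Group.IsNilpotent ↥c.range := by
    have hle : M ≤ c.rangeRestrict.ker := by
      intro m hm
      rw [MonoidHom.mem_ker]
      apply Subtype.ext
      exact (hker m).mpr (hMC hm)
    have hsurj : Function.Surjective (QuotientGroup.lift M c.rangeRestrict hle) := by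
      intro y
      obtain ⟨g, hg⟩ := c.rangeRestrict_surjective y
      exact ⟨QuotientGroup.mk g, by rw [QuotientGroup.lift_mk]; exact hg⟩
    exact Group.nilpotent_of_surjective (QuotientGroup.lift M c.rangeRestrict hle) hsurj
  have hΓodd : Odd (Nat.card ↥c.range) := Odd.of_dvd_nat hodd (Subgroup.card_range_dvd c)
  have hsΓ : ∀ γ ∈ c.range, s * γ * s⁻¹ ∈ c.range := by
    rintro γ ⟨g, rfl⟩
    refine ⟨φ g, ?_⟩
    rw [hsc g]
    group
  have hΓfix : ∀ γ ∈ c.range, s * γ = γ * s → γ = 1 := by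
    rintro γ ⟨g, rfl⟩ hcomm
    rw [hsc g] at hcomm
    have h1 : c (φ g) = c g := mul_right_cancel hcomm
    have h2 : c ((φ g)⁻¹ * g) = 1 := by
      rw [map_mul, map_inv, h1, inv_mul_cancel]
    have h3 := (hker _).mp h2
    have h5 : g ∈ Subgroup.centralizer (M : Set G) :=
      Cfsg.Agent.S0032.result φ hφ (Subgroup.centralizer (M : Set G)) hCi g h3
    exact (hker g).mpr h5
  have hirr : ∀ N : Subgroup ↥M, (∀ γ ∈ c.range, ∀ n ∈ N, γ n ∈ N) → (∀ n ∈ N, s n ∈ N) →
      N = ⊥ ∨ N = ⊤ := by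
    intro N hNΓ hNs
    have h1 : (N.map M.subtype).Normal := by
      constructor
      rintro _ ⟨n, hn, rfl⟩ g
      refine ⟨c g n, hNΓ _ ⟨g, rfl⟩ n hn, ?_⟩
      exact hc_apply g n
    have h2 : Inv φ (N.map M.subtype) := by
      rintro _ ⟨n, hn, rfl⟩
      exact ⟨s n, hNs n hn, hs_apply n⟩
    have h3 : N.map M.subtype ≤ M := by
      rintro _ ⟨n, _, rfl⟩
      exact n.2
    rcases hmin _ h1 h2 h3 with h | h
    · left
      exact (Subgroup.map_eq_bot_iff_of_injective N M.subtype_injective).mp h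
    · right
      rw [eq_top_iff]
      intro m _
      have h5 : (m : G) ∈ N.map M.subtype := by rw [h]; exact m.2
      obtain ⟨n, hn, hnm⟩ := h5
      have : n = m := Subtype.ext hnm
      rw [← this]
      exact hn
  have hmain := fpf4_module (M := ↥M) p hMp s hs4 hsfix c.range hΓnil hΓodd hsΓ hΓfix hirr
  intro g
  have h1 := hmain (c g) ⟨g, rfl⟩
  rw [hsc2 g] at h1
  have h2 : c (((φ : MulAut G) ^ 2) g) = c g := mul_right_cancel h1
  apply (hker _).mp
  rw [map_mul, map_inv, h2, inv_mul_cancel]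

theorem centralizer_le_fitting (M : Subgroup G) [hMn : M.Normal]
    (hab : ∀ a ∈ M, ∀ b ∈ M, a * b = b * a) (hnil : Group.IsNilpotent (G ⧸ M)) :
    Subgroup.centralizer (M : Set G) ≤ Cfsg.fittingSubgroup G := by
  have hCn : (Subgroup.centralizer (M : Set G)).Normal := Subgroup.normal_centralizer
  apply Cfsg.Agent.Lib.Helper1.le_fittingSubgroup hCn
  let f : ↥(Subgroup.centralizer (M : Set G)) →* G ⧸ M :=
    (QuotientGroup.mk' M).comp (Subgroup.centralizer (M : Set G)).subtype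
  apply Subgroup.isNilpotent_of_ker_le_center f
  · intro x hx
    rw [MonoidHom.mem_ker] at hx
    have h1 : (x : G) ∈ M := by
      have : (QuotientGroup.mk' M) (x : G) = 1 := hx
      rwa [QuotientGroup.mk'_apply, QuotientGroup.eq_one_iff] at this
    rw [Subgroup.mem_center_iff]
    intro y
    apply Subtype.ext
    rw [Subgroup.coe_mul, Subgroup.coe_mul]
    have h2 := Subgroup.mem_centralizer_iff.mp y.2 (x : G) h1
    exact h2.symm

end Steps

section Main

theorem step_sub {G : Type u} [Group G] [Finite G] (hodd : Odd (Nat.card G)) (φ : G ≃* G)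
    (h4 : (φ : MulAut G) ^ 4 = 1)
    (L : Subgroup G) [hLn : L.Normal] (hLi : Inv φ L)
    (hL : ∀ g : G, g⁻¹ * ((φ : MulAut G) ^ 2) g ∈ L)
    (hIH : ∀ l : ↥L, l⁻¹ * ((resAut φ L hLi : MulAut ↥L) ^ 2) l ∈ Cfsg.fittingSubgroup ↥L) :
    ∀ g : G, g⁻¹ * ((φ : MulAut G) ^ 2) g ∈ Cfsg.fittingSubgroup G := by
  have hFL : (Cfsg.fittingSubgroup ↥L).map L.subtype ≤ Cfsg.fittingSubgroup G := by
    haveI : (Cfsg.fittingSubgroup ↥L).Characteristic :=
      Cfsg.Agent.Lib.Helper12.fittingSubgroup_characteristic ↥L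
    have hn : ((Cfsg.fittingSubgroup ↥L).map L.subtype).Normal :=
      ConjAct.normal_of_characteristic_of_normal
    apply Cfsg.Agent.Lib.Helper1.le_fittingSubgroup hn
    haveI : Group.IsNilpotent ↥(Cfsg.fittingSubgroup ↥L) :=
      Cfsg.Agent.Lib.Helper1.fittingSubgroup_nilpotent
    exact Group.nilpotent_of_mulEquiv
      ((Cfsg.fittingSubgroup ↥L).equivMapOfInjective L.subtype L.subtype_injective)
  have hττ : ∀ x : G, ((φ : MulAut G) ^ 2) (((φ : MulAut G) ^ 2) x) = x := by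
    intro x
    have h1 : ((φ : MulAut G) ^ 2) (((φ : MulAut G) ^ 2) x) =
        ((φ : MulAut G) ^ 2 * (φ : MulAut G) ^ 2) x := rfl
    rw [h1, ← pow_add, h4]
    rfl
  intro g
  obtain ⟨x, hx⟩ : ∃ x : G, x = g⁻¹ * ((φ : MulAut G) ^ 2) g := ⟨_, rfl⟩
  rw [← hx]
  have hxL : x ∈ L := by rw [hx]; exact hL g
  have hτx : ((φ : MulAut G) ^ 2) x = x⁻¹ := by
    rw [hx, map_mul, map_inv, hττ]
    group
  have hn_odd : Odd (orderOf x) := Odd.of_dvd_nat hodd (orderOf_dvd_natCard x)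
  obtain ⟨k, hk⟩ := hn_odd
  have hyL : x ^ (k + 1) ∈ L := L.pow_mem hxL _
  have hτy : ((φ : MulAut G) ^ 2) (x ^ (k + 1)) = (x ^ (k + 1))⁻¹ := by
    rw [map_pow, hτx, inv_pow]
  have h1 := hIH ⟨x ^ (k + 1), hyL⟩
  have h2 : (x ^ (k + 1))⁻¹ * (x ^ (k + 1))⁻¹ ∈ (Cfsg.fittingSubgroup ↥L).map L.subtype := by
    refine ⟨_, h1, ?_⟩
    rw [Subgroup.subtype_apply, Subgroup.coe_mul, Subgroup.coe_inv, resAut_pow_coe]
    show (x ^ (k + 1))⁻¹ * ((φ : MulAut G) ^ 2) (x ^ (k + 1)) = _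
    rw [hτy]
  have h3 := hFL h2
  have h4' : (x ^ (k + 1))⁻¹ * (x ^ (k + 1))⁻¹ = x⁻¹ := by
    rw [← mul_inv_rev, ← pow_add]
    have : k + 1 + (k + 1) = orderOf x + 1 := by omega
    rw [this, pow_succ, pow_orderOf_eq_one, one_mul]
  rw [h4'] at h3
  have := (Cfsg.fittingSubgroup G).inv_mem h3
  rwa [inv_inv] at this

theorem fpf4_aux : ∀ (n : ℕ) (G : Type u) [Group G] [Finite G], Nat.card G = n →
    Group.IsSolvable G → Odd (Nat.card G) →
    ∀ φ : G ≃* G, MonoidHom.FixedPointFree (φ : G →* G) → (φ : MulAut G) ^ 4 = 1 →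
    ∀ g : G, g⁻¹ * ((φ : MulAut G) ^ 2) g ∈ Cfsg.fittingSubgroup G := by
  intro n
  induction n using Nat.strong_induction_on with
  | _ n ih =>
  intro G _ _ hcard hsol hodd φ hφ h4
  rcases subsingleton_or_nontrivial G with hG | hG
  · intro g
    have : g⁻¹ * ((φ : MulAut G) ^ 2) g = 1 := Subsingleton.elim _ _
    rw [this]
    exact Subgroup.one_mem _
  obtain ⟨M, hMn, hMi, hMne, hmin⟩ := exists_min_inv φ
  haveI := hMn
  have hab := min_inv_abelian φ M hMn hMi hMne hmin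
  obtain ⟨p, hp, hexp⟩ := min_inv_exponent φ M hMn hMi hMne hmin
  -- the quotient
  have hmul : Nat.card G = Nat.card (G ⧸ M) * Nat.card ↥M :=
    Subgroup.card_eq_card_quotient_mul_card_subgroup M
  have hM1 : 1 < Nat.card ↥M := (Subgroup.one_lt_card_iff_ne_bot M).mpr hMne
  have hq0 : 0 < Nat.card (G ⧸ M) := Nat.card_pos
  have hcq : Nat.card (G ⧸ M) < n := by
    rw [← hcard, hmul]
    nlinarith
  have hoddq : Odd (Nat.card (G ⧸ M)) := Odd.of_dvd_nat hodd ⟨_, hmul⟩
  have hq := ih _ hcq (G ⧸ M) rfl inferInstance hoddq (quotAut φ M hMi) (quotAut_fpf φ hφ M hMi)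
    (quotAut_pow_eq_one φ M hMi 4 h4)
  obtain ⟨FM, hFM⟩ : ∃ FM : Subgroup G,
      FM = (Cfsg.fittingSubgroup (G ⧸ M)).comap (QuotientGroup.mk' M) := ⟨_, rfl⟩
  have hFMmem : ∀ x : G, x ∈ FM ↔ (QuotientGroup.mk x : G ⧸ M) ∈ Cfsg.fittingSubgroup (G ⧸ M) := by
    intro x
    rw [hFM]
    rfl
  have hFMn : FM.Normal := by
    rw [hFM]
    haveI : (Cfsg.fittingSubgroup (G ⧸ M)).Normal := Cfsg.Agent.Lib.Helper1.fittingSubgroup_normal
    exact Subgroup.Normal.comap inferInstance _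
  have hFMi : Inv φ FM := by
    intro x hx
    rw [hFMmem] at hx ⊢
    rw [← quotAut_mk φ M hMi x]
    have hch := Cfsg.Agent.Lib.Helper12.fittingSubgroup_characteristic (G ⧸ M)
    have h1 := (Subgroup.characteristic_iff_map_eq.mp hch) (quotAut φ M hMi)
    rw [← h1]
    exact Subgroup.mem_map_of_mem _ hx
  have hFML : ∀ g : G, g⁻¹ * ((φ : MulAut G) ^ 2) g ∈ FM := by
    intro g
    rw [hFMmem]
    have h1 := hq (QuotientGroup.mk g)
    rw [quotAut_pow_mk] at h1
    exact h1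
  by_cases hFMtop : FM = ⊤
  · -- G / M is nilpotent
    have hnil : Group.IsNilpotent (G ⧸ M) := by
      have h1 : Cfsg.fittingSubgroup (G ⧸ M) = ⊤ := by
        rw [eq_top_iff]
        intro y _
        obtain ⟨x, rfl⟩ := QuotientGroup.mk_surjective y
        rw [← hFMmem, hFMtop]
        exact Subgroup.mem_top x
      haveI : Group.IsNilpotent ↥(Cfsg.fittingSubgroup (G ⧸ M)) :=
        Cfsg.Agent.Lib.Helper1.fittingSubgroup_nilpotent
      have e : ↥(Cfsg.fittingSubgroup (G ⧸ M)) ≃* (G ⧸ M) :=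
        (MulEquiv.subgroupCongr h1).trans Subgroup.topEquiv
      exact Group.nilpotent_of_mulEquiv e
    intro g
    exact centralizer_le_fitting M hab hnil
      (step_nilp hodd φ hφ h4 M hMi hmin hab p hp hexp hnil g)
  · have hcl : Nat.card ↥FM < n := by
      rw [← hcard]
      apply lt_of_le_of_ne (Subgroup.card_le_card_group FM)
      intro h
      exact hFMtop ((Subgroup.card_eq_iff_eq_top FM).mp h)
    have hoddl : Odd (Nat.card ↥FM) := Odd.of_dvd_nat hodd (Subgroup.card_subgroup_dvd_card FM)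
    have hl := ih _ hcl ↥FM rfl inferInstance hoddl (resAut φ FM hFMi) (resAut_fpf φ hφ FM hFMi)
      (resAut_pow_eq_one φ FM hFMi 4 h4)
    haveI := hFMn
    exact step_sub hodd φ h4 FM hFMi hFML hl

theorem fpf4_commutator_nilpotent {G : Type u} [Group G] [Finite G] (hG : Group.IsSolvable G)
    (σ : MulAut G) (hσ : σ ^ 4 = 1) (hfpf : ∀ g : G, σ g = g → g = 1) :
    Group.IsNilpotent ↥(commutator G) := by
  have hodd := odd_card_of_fpf4 σ hσ hfpf
  have hφ : MonoidHom.FixedPointFree ((σ : G ≃* G) : G →* G) := hfpf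
  have hmain := fpf4_aux _ G rfl hG hodd σ hφ hσ
  haveI hFn : (Cfsg.fittingSubgroup G).Normal := Cfsg.Agent.Lib.Helper1.fittingSubgroup_normal
  have hFi : Inv σ (Cfsg.fittingSubgroup G) := by
    have hch := Cfsg.Agent.Lib.Helper12.fittingSubgroup_characteristic G
    have h1 := (Subgroup.characteristic_iff_map_eq.mp hch) σ
    intro x hx
    rw [← h1]
    exact Subgroup.mem_map_of_mem _ hx
  -- the quotient is abelian
  obtain ⟨ψ, hψ⟩ : ∃ ψ : (G ⧸ Cfsg.fittingSubgroup G) ≃* (G ⧸ Cfsg.fittingSubgroup G),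
      ψ = quotAut σ (Cfsg.fittingSubgroup G) hFi := ⟨_, rfl⟩
  have hψfpf : MonoidHom.FixedPointFree (ψ : (G ⧸ Cfsg.fittingSubgroup G) →* _) := by
    rw [hψ]
    exact quotAut_fpf σ hφ _ hFi
  have hψinv : Function.Involutive (ψ : (G ⧸ Cfsg.fittingSubgroup G) →* _) := by
    intro y
    obtain ⟨x, rfl⟩ := QuotientGroup.mk_surjective y
    show ψ (ψ (QuotientGroup.mk x)) = QuotientGroup.mk x
    rw [hψ, quotAut_mk, quotAut_mk]
    have h1 := hmain x
    have h2 : ((σ : MulAut G) ^ 2) x = σ (σ x) := rfl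
    rw [h2] at h1
    exact (QuotientGroup.eq.mpr h1).symm
  have hcomm : ∀ a b : G ⧸ Cfsg.fittingSubgroup G, a * b = b * a :=
    fun a b => hψfpf.commute_all_of_involutive hψinv a b
  have hle : commutator G ≤ Cfsg.fittingSubgroup G := by
    rw [commutator_eq_closure, Subgroup.closure_le]
    rintro _ ⟨a, b, rfl⟩
    rw [SetLike.mem_coe, ← QuotientGroup.eq_one_iff]
    rw [commutatorElement_def, QuotientGroup.mk_mul, QuotientGroup.mk_mul, QuotientGroup.mk_mul,
      QuotientGroup.mk_inv, QuotientGroup.mk_inv, hcomm (QuotientGroup.mk a) (QuotientGroup.mk b)]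
    group
  haveI : Group.IsNilpotent ↥(Cfsg.fittingSubgroup G) :=
    Cfsg.Agent.Lib.Helper1.fittingSubgroup_nilpotent
  exact Group.nilpotent_of_mulEquiv (Subgroup.subgroupOfEquivOfLe hle)

end Main

end Cfsg.Agent.Lib.Helper18.Fpf4
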