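import Mathlib
import Cfsg.Agent.Lib.Helper9.OddAut1
import Cfsg.Agent.Lib.Lead.Coprime
import Cfsg.Agent.Lib.Helper1.Fusion

set_option autoImplicit false

/-! Subgroups of a Sylow subgroup that are strongly closed (elementwise form), the hypothesis
"all subgroups of a fixed order are strongly closed", and its inheritance. -/

namespace Cfsg.Agent.Lib.Helper18.HSub

variable {G : Type*} [Group G]

/-- `E` is strongly closed in `P` with respect to `G` (elementwise form). -/
def SC (P E : Subgroup G) : Prop :=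
  ∀ x ∈ E, ∀ g : G, g * x * g⁻¹ ∈ P → g * x * g⁻¹ ∈ E

/-- all subgroups of `P` of order `p ^ d` (and of order four when `p ^ d = 2`) are strongly
closed in `P` -/
def HHyp (p : ℕ) (P : Subgroup G) (d : ℕ) : Prop :=
  ∀ E : Subgroup G, E ≤ P → (Nat.card E = p ^ d ∨ (p ^ d = 2 ∧ Nat.card E = 4)) → SC P E

/-- `p` is at most every prime divisor of the group order -/
def MinP (p : ℕ) (G : Type*) [Group G] : Prop :=
  ∀ q : ℕ, q.Prime → q ∣ Nat.card G → p ≤ q

theorem SC.inf {P E₁ E₂ : Subgroup G} (h1 : SC P E₁) (h2 : SC P E₂) : SC P (E₁ ⊓ E₂) := by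
  intro x hx g hg
  exact Subgroup.mem_inf.mpr ⟨h1 x (Subgroup.mem_inf.mp hx).1 g hg, h2 x (Subgroup.mem_inf.mp hx).2 g hg⟩

theorem SC.conj_mem {P E : Subgroup G} (h : SC P E) (hEP : E ≤ P) {u x : G} (hu : u ∈ P)
    (hx : x ∈ E) : u * x * u⁻¹ ∈ E :=
  h x hx u (P.mul_mem (P.mul_mem hu (hEP hx)) (P.inv_mem hu))

/-- `E ⊓ Q` is normalized by the normalizer of `Q` -/
theorem SC.mem_normalizer_inf {P E Q : Subgroup G} (h : SC P E) (hQP : Q ≤ P) {g : G}
    (hg : g ∈ Subgroup.normalizer (Q : Set G)) :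
    g ∈ Subgroup.normalizer ((E ⊓ Q : Subgroup G) : Set G) := by
  rw [Subgroup.mem_normalizer_iff]
  intro x
  constructor
  · intro hx
    obtain ⟨hxE, hxQ⟩ := Subgroup.mem_inf.mp hx
    have h1 : g * x * g⁻¹ ∈ Q := (Subgroup.mem_normalizer_iff.mp hg x).mp hxQ
    exact Subgroup.mem_inf.mpr ⟨h x hxE g (hQP h1), h1⟩
  · intro hx
    obtain ⟨hxE, hxQ⟩ := Subgroup.mem_inf.mp hx
    have h1 : x ∈ Q := (Subgroup.mem_normalizer_iff.mp hg x).mpr hxQ
    have h2 : g⁻¹ * (g * x * g⁻¹) * g⁻¹⁻¹ = x := by group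
    have h3 := h (g * x * g⁻¹) hxE g⁻¹ (by rw [h2]; exact hQP h1)
    rw [h2] at h3
    exact Subgroup.mem_inf.mpr ⟨h3, h1⟩

theorem mem_normalizer_of_conj_mem [Finite G] (E : Subgroup G) (g : G)
    (h : ∀ x ∈ E, g * x * g⁻¹ ∈ E) : g ∈ Subgroup.normalizer (E : Set G) := by
  have hle : E.map (MulAut.conj g).toMonoidHom ≤ E := by
    rintro _ ⟨x, hx, rfl⟩
    exact h x hx
  have hcard : Nat.card (E.map (MulAut.conj g).toMonoidHom) = Nat.card E :=
    Subgroup.card_map_of_injective (MulAut.conj g).injective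
  have heq : E.map (MulAut.conj g).toMonoidHom = E :=
    Subgroup.eq_of_le_of_card_ge hle hcard.ge
  rw [Subgroup.mem_normalizer_iff]
  intro x
  constructor
  · exact h x
  · intro hx
    rw [← heq] at hx
    obtain ⟨y, hy, hyx⟩ := hx
    have : y = x := by
      have h1 : g * y * g⁻¹ = g * x * g⁻¹ := hyx
      exact mul_left_cancel (mul_right_cancel h1)
    rw [← this]; exact hy

/-- a strongly closed subgroup is normalized by every element carrying it into `P` -/
theorem SC.mem_normalizer [Finite G] {P E : Subgroup G} (h : SC P E) {g : G}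
    (hg : ∀ x ∈ E, g * x * g⁻¹ ∈ P) : g ∈ Subgroup.normalizer (E : Set G) :=
  mem_normalizer_of_conj_mem E g (fun x hx => h x hx g (hg x hx))

theorem SC.le_normalizer [Finite G] {P E : Subgroup G} (h : SC P E) (hEP : E ≤ P) :
    P ≤ Subgroup.normalizer (E : Set G) := by
  intro u hu
  exact h.mem_normalizer (fun x hx => P.mul_mem (P.mul_mem hu (hEP hx)) (P.inv_mem hu))

/-- the hypothesis of the statement gives normality in `P` -/
theorem le_normalizer_of_H [Finite G] {p : ℕ} [Fact p.Prime] {P E : Subgroup G} (hP : IsPGroup p P)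
    (hEP : E ≤ P)
    (hH : ∀ g : G, E.map (MulAut.conj g).toMonoidHom ⊓ Subgroup.normalizer (E : Set G) ≤ E) :
    P ≤ Subgroup.normalizer (E : Set G) := by
  by_contra hcon
  have hlt : Subgroup.normalizer (E : Set G) ⊓ P < P := by
    refine lt_of_le_of_ne inf_le_right ?_
    intro heq
    apply hcon
    rw [← heq]; exact inf_le_left
  haveI : Finite ↥P := inferInstance
  have hnil : Group.IsNilpotent ↥P := hP.isNilpotent
  obtain ⟨u, huP, huN, hu⟩ :=
    Cfsg.Agent.Lib.Lead.exists_mem_normalizer_not_mem _ P hlt hnil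
  apply hu
  refine Subgroup.mem_inf.mpr ⟨?_, huP⟩
  apply mem_normalizer_of_conj_mem
  intro x hx
  have hxN : x ∈ Subgroup.normalizer (E : Set G) ⊓ P :=
    Subgroup.mem_inf.mpr ⟨Subgroup.le_normalizer hx, hEP hx⟩
  have h1 : u * x * u⁻¹ ∈ Subgroup.normalizer (E : Set G) ⊓ P :=
    (Subgroup.mem_normalizer_iff.mp huN x).mp hxN
  apply hH u
  refine Subgroup.mem_inf.mpr ⟨⟨x, hx, rfl⟩, (Subgroup.mem_inf.mp h1).1⟩

theorem sc_of_H [Finite G] {p : ℕ} [Fact p.Prime] {P E : Subgroup G} (hP : IsPGroup p P)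
    (hEP : E ≤ P)
    (hH : ∀ g : G, E.map (MulAut.conj g).toMonoidHom ⊓ Subgroup.normalizer (E : Set G) ≤ E) :
    SC P E := by
  intro x hx g hg
  apply hH g
  exact Subgroup.mem_inf.mpr ⟨⟨x, hx, rfl⟩, le_normalizer_of_H hP hEP hH hg⟩

end Cfsg.Agent.Lib.Helper18.HSub
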