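import Mathlib
import Cfsg.Agent.Lib.Helper18.HSub1

set_option autoImplicit false

/-! Inheritance of the hypothesis `HHyp` to other Sylow subgroups, subgroups and quotients. -/

namespace Cfsg.Agent.Lib.Helper18.HSub

variable {G : Type*} [Group G]

theorem HHyp.sylow [Finite G] {p : ℕ} [Fact p.Prime] {d : ℕ} (P P' : Sylow p G)
    (h : HHyp p (P : Subgroup G) d) : HHyp p (P' : Subgroup G) d := by
  obtain ⟨a, ha⟩ := MulAction.exists_smul_eq G P P'
  have hmem : ∀ x : G, x ∈ (P' : Subgroup G) ↔ a⁻¹ * x * a ∈ (P : Subgroup G) := by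
    intro x
    rw [← ha]
    exact Cfsg.Agent.Lib.Helper1.mem_sylow_smul_iff a x P
  intro E hEP hcard
  have hE₀P : E.map (MulAut.conj a⁻¹).toMonoidHom ≤ (P : Subgroup G) := by
    rintro _ ⟨x, hx, rfl⟩
    have := (hmem x).mp (hEP hx)
    simpa [MulAut.conj_apply] using this
  have hcard₀ : Nat.card (E.map (MulAut.conj a⁻¹).toMonoidHom) = Nat.card E :=
    Subgroup.card_map_of_injective (MulAut.conj a⁻¹).injective
  have hsc := h _ hE₀P (by rw [hcard₀]; exact hcard)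
  intro x hx g hg
  have h1 : a⁻¹ * x * a ∈ E.map (MulAut.conj a⁻¹).toMonoidHom :=
    ⟨x, hx, by simp [MulAut.conj_apply]⟩
  have h2 : (a⁻¹ * g * a) * (a⁻¹ * x * a) * (a⁻¹ * g * a)⁻¹ = a⁻¹ * (g * x * g⁻¹) * a := by group
  have h3 := hsc _ h1 (a⁻¹ * g * a) (by rw [h2]; exact (hmem _).mp hg)
  rw [h2] at h3
  obtain ⟨y, hy, hyx⟩ := h3
  have h4 : a⁻¹ * y * a = a⁻¹ * (g * x * g⁻¹) * a := by
    simpa [MulAut.conj_apply] using hyx
  have h5 : y = g * x * g⁻¹ := mul_left_cancel (mul_right_cancel h4)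
  rw [← h5]; exact hy

theorem HHyp.subgroup [Finite G] {p : ℕ} [Fact p.Prime] {d : ℕ} (K : Subgroup G) (P : Sylow p G)
    (PK : Sylow p ↥K) (h : HHyp p (P : Subgroup G) d) : HHyp p (PK : Subgroup ↥K) d := by
  have hpg : IsPGroup p ((PK : Subgroup ↥K).map K.subtype) := PK.2.map _
  obtain ⟨P', hP'⟩ := hpg.exists_le_sylow
  have h' := HHyp.sylow P P' h
  intro E hEP hcard
  have hE : E.map K.subtype ≤ (P' : Subgroup G) := by
    rintro _ ⟨x, hx, rfl⟩
    exact hP' ⟨x, hEP hx, rfl⟩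
  have hc : Nat.card (E.map K.subtype) = Nat.card E :=
    Subgroup.card_map_of_injective K.subtype_injective
  have hsc := h' _ hE (by rw [hc]; exact hcard)
  intro x hx g hg
  have h1 : ((g * x * g⁻¹ : ↥K) : G) ∈ (P' : Subgroup G) := hP' ⟨_, hg, rfl⟩
  have h2 := hsc (x : G) ⟨x, hx, rfl⟩ (g : G) (by simpa using h1)
  obtain ⟨y, hy, hyx⟩ := h2
  have h3 : y = g * x * g⁻¹ := by
    apply Subtype.ext
    rw [show ((K.subtype y : G)) = (y : G) from rfl] at hyx
    rw [hyx]; simp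
  rw [← h3]; exact hy

theorem card_comap_mk' [Finite G] (N : Subgroup G) [N.Normal] (H : Subgroup (G ⧸ N)) :
    Nat.card (H.comap (QuotientGroup.mk' N)) = Nat.card N * Nat.card H := by
  have e1 := Subgroup.card_mul_index (H.comap (QuotientGroup.mk' N))
  rw [Subgroup.index_comap_of_surjective _ (QuotientGroup.mk'_surjective N)] at e1
  have e2 := Subgroup.card_mul_index H
  have e3 := Subgroup.card_eq_card_quotient_mul_card_subgroup N
  have hpos : 0 < H.index := Nat.pos_of_ne_zero Subgroup.index_ne_zero_of_finite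
  apply Nat.eq_of_mul_eq_mul_right hpos
  rw [e1, e3, ← e2]
  ring

theorem comap_le_of_le_map {N P : Subgroup G} [N.Normal] (hNP : N ≤ P)
    (E : Subgroup (G ⧸ N)) (hE : E ≤ P.map (QuotientGroup.mk' N)) :
    E.comap (QuotientGroup.mk' N) ≤ P := by
  intro x hx
  obtain ⟨u, hu, hux⟩ := hE (Subgroup.mem_comap.mp hx)
  have h1 : u⁻¹ * x ∈ N := by
    rw [← QuotientGroup.eq]
    exact hux
  have : x = u * (u⁻¹ * x) := by group
  rw [this]
  exact P.mul_mem hu (hNP h1)

theorem HHyp.quotient [Finite G] {p : ℕ} [Fact p.Prime] {d m : ℕ} (N : Subgroup G) [N.Normal]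
    (P : Subgroup G) (hNP : N ≤ P) (hN : Nat.card N = p ^ m) (hmd : m ≤ d)
    (h2 : p ^ (d - m) ≠ 2) (h : HHyp p P d) :
    HHyp p (P.map (QuotientGroup.mk' N)) (d - m) := by
  intro E hEP hcard
  have hcard' : Nat.card E = p ^ (d - m) := by
    rcases hcard with h1 | ⟨h1, _⟩
    · exact h1
    · exact absurd h1 h2
  have hle := comap_le_of_le_map hNP E hEP
  have hc : Nat.card (E.comap (QuotientGroup.mk' N)) = p ^ d := by
    rw [card_comap_mk', hN, hcard', ← pow_add]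
    congr 1; omega
  have hsc := h _ hle (Or.inl hc)
  intro x hx g hg
  obtain ⟨x₀, rfl⟩ := QuotientGroup.mk'_surjective N x
  obtain ⟨g₀, rfl⟩ := QuotientGroup.mk'_surjective N g
  have h3 : g₀ * x₀ * g₀⁻¹ ∈ P := by
    have : (QuotientGroup.mk' N) (g₀ * x₀ * g₀⁻¹) ∈ P.map (QuotientGroup.mk' N) := by
      simpa using hg
    obtain ⟨u, hu, hux⟩ := this
    have h1 : u⁻¹ * (g₀ * x₀ * g₀⁻¹) ∈ N := by
      rw [← QuotientGroup.eq]
      exact hux
    have : g₀ * x₀ * g₀⁻¹ = u * (u⁻¹ * (g₀ * x₀ * g₀⁻¹)) := by group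
    rw [this]
    exact P.mul_mem hu (hNP h1)
  have h4 := hsc x₀ (Subgroup.mem_comap.mpr hx) g₀ h3
  have h5 := Subgroup.mem_comap.mp h4
  simpa using h5

theorem MinP.subgroup [Finite G] {p : ℕ} (h : MinP p G) (K : Subgroup G) : MinP p ↥K := by
  intro q hq hdvd
  exact h q hq (hdvd.trans (Subgroup.card_subgroup_dvd_card K))

theorem MinP.quotient [Finite G] {p : ℕ} (h : MinP p G) (N : Subgroup G) [N.Normal] :
    MinP p (G ⧸ N) := by
  intro q hq hdvd
  apply h q hq (hdvd.trans ?_)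
  rw [Subgroup.card_eq_card_quotient_mul_card_subgroup N]
  exact dvd_mul_right _ _

theorem MinP.coprime_orderOf [Finite G] {p : ℕ} [hp : Fact p.Prime] (h : MinP p G) (g : G) :
    (orderOf g).Coprime (p - 1) := by
  apply Nat.Coprime.symm
  rw [Nat.coprime_iff_gcd_eq_one]
  by_contra hne
  obtain ⟨q, hq, hqd⟩ := Nat.exists_prime_and_dvd hne
  have h1 : q ∣ p - 1 := hqd.trans (Nat.gcd_dvd_left _ _)
  have h2 : q ∣ orderOf g := hqd.trans (Nat.gcd_dvd_right _ _)
  have h3 : p ≤ q := h q hq (h2.trans (orderOf_dvd_natCard g))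
  have h4 : q ≤ p - 1 := Nat.le_of_dvd (by have := hp.out.one_lt; omega) h1
  have := hp.out.one_lt
  omega

end Cfsg.Agent.Lib.Helper18.HSub
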