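import Mathlib
import Cfsg.Agent.Lib.Helper18.HSub2
import Cfsg.Agent.Lib.Helper21.OmegaLemma

set_option autoImplicit false

/-! Coprime automorphisms of cyclic groups and of groups with a centralized maximal subgroup. -/

namespace Cfsg.Agent.Lib.Helper18.HSub

variable {G : Type*} [Group G]

theorem centralizes_cyclic [Finite G] {p : ℕ} [hp : Fact p.Prime] (C : Subgroup G)
    (hC : IsCyclic ↥C) (hCp : IsPGroup p C) (g : G)
    (hg : g ∈ Subgroup.normalizer (C : Set G))
    (h1 : (orderOf g).Coprime p) (h2 : (orderOf g).Coprime (p - 1)) :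
    g ∈ Subgroup.centralizer (C : Set G) := by
  have hord : orderOf (C.normalizerMonoidHom ⟨g, hg⟩) ∣ orderOf g := by
    have := orderOf_map_dvd C.normalizerMonoidHom (⟨g, hg⟩ : ↥(Subgroup.normalizer (C : Set G)))
    rwa [Subgroup.orderOf_mk] at this
  have hcard : orderOf (C.normalizerMonoidHom ⟨g, hg⟩) ∣ Nat.card (MulAut ↥C) :=
    orderOf_dvd_natCard _
  obtain ⟨k, hk⟩ := IsPGroup.iff_card.mp hCp
  have hcop : (orderOf g).Coprime (Nat.card (MulAut ↥C)) := by
    rw [IsCyclic.card_mulAut, hk]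
    rcases Nat.eq_zero_or_pos k with h0 | h0
    · rw [h0, pow_zero, Nat.totient_one]; exact Nat.coprime_one_right _
    · rw [Nat.totient_prime_pow hp.out h0]
      exact Nat.Coprime.mul_right (Nat.Coprime.pow_right _ h1) h2
  have h3 : orderOf (C.normalizerMonoidHom ⟨g, hg⟩) = 1 :=
    Nat.eq_one_of_dvd_coprimes hcop hord hcard
  rw [orderOf_eq_one_iff] at h3
  have h4 : (⟨g, hg⟩ : ↥(Subgroup.normalizer (C : Set G))) ∈ C.normalizerMonoidHom.ker :=
    MonoidHom.mem_ker.mpr h3
  rw [Subgroup.normalizerMonoidHom_ker, Subgroup.mem_subgroupOf] at h4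
  exact h4

/-- a normal subgroup of order `p`, `p` the least prime divisor, is central -/
theorem central_of_card_prime [Finite G] {p : ℕ} [hp : Fact p.Prime] (hmin : MinP p G)
    (Z : Subgroup G) [Z.Normal] (hZ : Nat.card Z = p) (g z : G) (hz : z ∈ Z) :
    g * z = z * g := by
  haveI : IsCyclic ↥Z := isCyclic_of_prime_card hZ
  have hord : orderOf ((MulAut.conjNormal (H := Z)) g) ∣ orderOf g := orderOf_map_dvd _ g
  have hcard : orderOf ((MulAut.conjNormal (H := Z)) g) ∣ Nat.card (MulAut ↥Z) :=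
    orderOf_dvd_natCard _
  have hcop : (orderOf g).Coprime (Nat.card (MulAut ↥Z)) := by
    rw [IsCyclic.card_mulAut, hZ, Nat.totient_prime hp.out]
    exact hmin.coprime_orderOf g
  have h3 : orderOf ((MulAut.conjNormal (H := Z)) g) = 1 :=
    Nat.eq_one_of_dvd_coprimes hcop hord hcard
  rw [orderOf_eq_one_iff] at h3
  have h4 : ((MulAut.conjNormal (H := Z)) g) ⟨z, hz⟩ = ⟨z, hz⟩ := by rw [h3]; rfl
  have h5 : g * z * g⁻¹ = z := by
    have := congrArg Subtype.val h4
    simpa [MulAut.conjNormal_apply] using this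
  calc g * z = (g * z * g⁻¹) * g := by group
    _ = z * g := by rw [h5]

theorem normal_subgroupOf_of_index_prime [Finite G] {p : ℕ} [hp : Fact p.Prime] (Q Q₀ : Subgroup G)
    (hQ : IsPGroup p Q) (hle : Q₀ ≤ Q) (hidx : Nat.card Q = p * Nat.card Q₀) :
    Q ≤ Subgroup.normalizer (Q₀ : Set G) := by
  have hc0 : Nat.card (Q₀.subgroupOf Q) = Nat.card Q₀ :=
    Nat.card_congr (Subgroup.subgroupOfEquivOfLe hle).toEquiv
  have hindex : (Q₀.subgroupOf Q).index = p := by
    have h1 := Subgroup.card_mul_index (Q₀.subgroupOf Q)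
    rw [hc0, hidx, mul_comm p] at h1
    exact Nat.eq_of_mul_eq_mul_left Nat.card_pos h1
  have hminFac : (Nat.card ↥Q).minFac = p := by
    obtain ⟨k, hk⟩ := IsPGroup.iff_card.mp hQ
    rw [hk]
    apply Nat.Prime.pow_minFac hp.out
    intro hk0
    rw [hk0, pow_zero] at hk
    have : 0 < Nat.card Q₀ := Nat.card_pos
    have := hp.out.one_lt
    rw [hk] at hidx
    have h2 : 1 < p * Nat.card Q₀ := by nlinarith
    omega
  haveI : (Q₀.subgroupOf Q).Normal :=
    Subgroup.normal_of_index_eq_minFac_card (by rw [hindex, hminFac])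
  intro q hq
  rw [Subgroup.mem_normalizer_iff]
  have key : ∀ (q : G) (_ : q ∈ Q) (x : G), x ∈ Q₀ → q * x * q⁻¹ ∈ Q₀ := by
    intro q hq x hx
    have h1 : (⟨x, hle hx⟩ : ↥Q) ∈ Q₀.subgroupOf Q := Subgroup.mem_subgroupOf.mpr hx
    have h2 := (inferInstance : (Q₀.subgroupOf Q).Normal).conj_mem _ h1 ⟨q, hq⟩
    exact Subgroup.mem_subgroupOf.mp h2
  intro x
  constructor
  · exact key q hq x
  · intro hx
    have := key q⁻¹ (Q.inv_mem hq) _ hx
    have e : q⁻¹ * (q * x * q⁻¹) * q⁻¹⁻¹ = x := by group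
    rwa [e] at this

end Cfsg.Agent.Lib.Helper18.HSub
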