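import Mathlib
import Cfsg.Agent.Lib.Helper18.HSub3

set_option autoImplicit false

/-! A coprime automorphism centralizing a maximal subgroup of a `p`-group, `p` least prime. -/

namespace Cfsg.Agent.Lib.Helper18.HSub

variable {G : Type*} [Group G]

theorem centralizes_of_maximal [Finite G] {p : ℕ} [hp : Fact p.Prime] (Q Q₀ : Subgroup G)
    (hQ : IsPGroup p Q) (hle : Q₀ ≤ Q) (hidx : Nat.card Q = p * Nat.card Q₀) (g : G)
    (hgQ : g ∈ Subgroup.normalizer (Q : Set G)) (hgQ₀ : g ∈ Subgroup.normalizer (Q₀ : Set G))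
    (hc : g ∈ Subgroup.centralizer (Q₀ : Set G))
    (h1 : (orderOf g).Coprime p) (h2 : (orderOf g).Coprime (p - 1)) :
    g ∈ Subgroup.centralizer (Q : Set G) := by
  have hQN : Q ≤ Subgroup.normalizer (Q₀ : Set G) :=
    normal_subgroupOf_of_index_prime Q Q₀ hQ hle hidx
  obtain ⟨K, hKdef⟩ : ∃ K : Subgroup G,
      K = Subgroup.normalizer (Q : Set G) ⊓ Subgroup.normalizer (Q₀ : Set G) := ⟨_, rfl⟩
  have hK1 : K ≤ Subgroup.normalizer (Q : Set G) := by rw [hKdef]; exact inf_le_left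
  have hK2 : K ≤ Subgroup.normalizer (Q₀ : Set G) := by rw [hKdef]; exact inf_le_right
  have hQK : Q ≤ K := by
    rw [hKdef]; exact le_inf Subgroup.le_normalizer hQN
  have hgK : g ∈ K := by rw [hKdef]; exact Subgroup.mem_inf.mpr ⟨hgQ, hgQ₀⟩
  haveI hn0 : (Q₀.subgroupOf K).Normal := Subgroup.normal_subgroupOf_of_le_normalizer hK2
  haveI hn1 : (Q.subgroupOf K).Normal := Subgroup.normal_subgroupOf_of_le_normalizer hK1
  obtain ⟨C, hCdef⟩ : ∃ C : Subgroup (↥K ⧸ Q₀.subgroupOf K),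
      C = (Q.subgroupOf K).map (QuotientGroup.mk' (Q₀.subgroupOf K)) := ⟨_, rfl⟩
  haveI hCn : C.Normal := by
    rw [hCdef]
    exact Subgroup.Normal.map hn1 _ (QuotientGroup.mk'_surjective _)
  have hcomap : C.comap (QuotientGroup.mk' (Q₀.subgroupOf K)) = Q.subgroupOf K := by
    rw [hCdef]
    apply Subgroup.comap_map_eq_self
    rw [QuotientGroup.ker_mk']
    intro x hx
    exact Subgroup.mem_subgroupOf.mpr (hle (Subgroup.mem_subgroupOf.mp hx))
  have hcQ : Nat.card (Q.subgroupOf K) = Nat.card Q :=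
    Nat.card_congr (Subgroup.subgroupOfEquivOfLe hQK).toEquiv
  have hcQ₀ : Nat.card (Q₀.subgroupOf K) = Nat.card Q₀ :=
    Nat.card_congr (Subgroup.subgroupOfEquivOfLe (hle.trans hQK)).toEquiv
  have hCcard : Nat.card C = p := by
    have h3 := card_comap_mk' (Q₀.subgroupOf K) C
    rw [hcomap, hcQ, hcQ₀, hidx, mul_comm p] at h3
    exact (Nat.eq_of_mul_eq_mul_left Nat.card_pos h3).symm
  haveI hCcyc : IsCyclic ↥C := isCyclic_of_prime_card hCcard
  have hCp : IsPGroup p C := IsPGroup.of_card (n := 1) (by rw [hCcard, pow_one])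
  have hord : orderOf ((QuotientGroup.mk' (Q₀.subgroupOf K)) ⟨g, hgK⟩) ∣ orderOf g := by
    have := orderOf_map_dvd (QuotientGroup.mk' (Q₀.subgroupOf K)) (⟨g, hgK⟩ : ↥K)
    rwa [Subgroup.orderOf_mk] at this
  have hcen := centralizes_cyclic C hCcyc hCp ((QuotientGroup.mk' (Q₀.subgroupOf K)) ⟨g, hgK⟩)
    (by rw [Subgroup.normalizer_eq_top]; trivial)
    (Nat.Coprime.coprime_dvd_left hord h1) (Nat.Coprime.coprime_dvd_left hord h2)
  rw [Subgroup.mem_centralizer_iff]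
  intro q hq
  have hqC : (QuotientGroup.mk' (Q₀.subgroupOf K)) ⟨q, hQK hq⟩ ∈ C := by
    rw [hCdef]
    exact ⟨⟨q, hQK hq⟩, Subgroup.mem_subgroupOf.mpr hq, rfl⟩
  have h3 := Subgroup.mem_centralizer_iff.mp hcen _ hqC
  have h4 : (QuotientGroup.mk' (Q₀.subgroupOf K))
      ((⟨q, hQK hq⟩ : ↥K)⁻¹ * (⟨g, hgK⟩ * ⟨q, hQK hq⟩ * (⟨g, hgK⟩ : ↥K)⁻¹)) = 1 := by
    rw [map_mul, map_mul, map_mul, map_inv, map_inv, ← h3]
    group
  have h5 : q⁻¹ * (g * q * g⁻¹) ∈ Q₀ := by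
    have := (QuotientGroup.eq_one_iff _).mp h4
    exact Subgroup.mem_subgroupOf.mp this
  have hu : g * (q⁻¹ * (g * q * g⁻¹)) = (q⁻¹ * (g * q * g⁻¹)) * g :=
    (Subgroup.mem_centralizer_iff.mp hc _ h5).symm
  exact (Cfsg.Agent.Lib.Helper21.comm_of_comm_commutator Q hQ g hgQ h1 q hq hu).symm

end Cfsg.Agent.Lib.Helper18.HSub
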