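import Mathlib
import Cfsg.Agent.Lib.Helper18.HSub4
import Cfsg.Agent.Lib.Helper21.FrobeniusNPC
import Cfsg.Agent.Lib.Helper22.Sylow2

set_option autoImplicit false

/-! The local analysis: Frobenius' hypothesis when the fixed order is `p` or `p ^ 2`. -/

namespace Cfsg.Agent.Lib.Helper18.HSub

variable {G : Type*} [Group G]

theorem isCyclic_of_le {Q F : Subgroup G} (h : Q ≤ F) (hF : IsCyclic ↥F) : IsCyclic ↥Q := by
  haveI := hF
  exact isCyclic_of_surjective (Subgroup.subgroupOfEquivOfLe h).toMonoidHom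
    (Subgroup.subgroupOfEquivOfLe h).surjective

theorem card_lt_of_le_of_ne [Finite G] {A B : Subgroup G} (h : A ≤ B) (hne : A ≠ B) :
    Nat.card A < Nat.card B := by
  rcases (Subgroup.card_le_of_le h).lt_or_eq with h1 | h1
  · exact h1
  · exact absurd (Subgroup.eq_of_le_of_card_ge h h1.ge) hne

/-- a non-cyclic group of order `p ^ (d + 1)` has a second subgroup of order `p ^ d` -/
theorem exists_other_maximal [Finite G] {p : ℕ} [hp : Fact p.Prime] {d : ℕ} (F Q : Subgroup G)
    (hF : Nat.card F = p ^ (d + 1)) (hQF : Q ≤ F) (hQ : Nat.card Q = p ^ d)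
    (hncyc : ¬ IsCyclic ↥F) :
    ∃ E : Subgroup G, E ≤ F ∧ Nat.card E = p ^ d ∧ E ≠ Q := by
  have hFp : IsPGroup p F := IsPGroup.of_card hF
  have hlt : Q < F := by
    refine lt_of_le_of_ne hQF ?_
    intro h
    rw [h, hF] at hQ
    have := Nat.pow_right_injective hp.out.two_le hQ
    omega
  obtain ⟨x, hxF, hxQ⟩ := SetLike.exists_of_lt hlt
  obtain ⟨j, hj⟩ := Cfsg.Agent.Lib.Helper22.orderOf_of_mem_pgroup p F hFp x hxF
  have hzF : Subgroup.zpowers x ≤ F := Subgroup.zpowers_le.mpr hxF
  have hzc : Nat.card (Subgroup.zpowers x) = p ^ j := by rw [Nat.card_zpowers, hj]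
  have hjle : j ≤ d + 1 := by
    have h1 := Subgroup.card_dvd_of_le hzF
    rw [hzc, hF] at h1
    exact (Nat.pow_dvd_pow_iff_le_right hp.out.one_lt).mp h1
  have hjne : j ≠ d + 1 := by
    intro h
    apply hncyc
    have : Subgroup.zpowers x = F := Subgroup.eq_of_le_of_card_ge hzF (by rw [hzc, hF, h])
    rw [← this]
    infer_instance
  obtain ⟨E, hzE, hEF, hEc⟩ := Cfsg.Agent.Lib.Helper9.oa_exists_between p (Subgroup.zpowers x) F hzF hzc hF
    (show j ≤ d by omega) (Nat.le_succ d)
  refine ⟨E, hEF, hEc, ?_⟩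
  intro h
  apply hxQ
  rw [← h]
  exact hzE (Subgroup.mem_zpowers x)

theorem frobHyp_small [Finite G] {p : ℕ} [hp : Fact p.Prime] (hmin : MinP p G) (P : Sylow p G)
    {d : ℕ} (hd1 : 1 ≤ d) (hd2 : d ≤ 2) (hdn : p ^ d < Nat.card (P : Subgroup G))
    (hH : HHyp p (P : Subgroup G) d) : Cfsg.Agent.Lib.Helper21.FrobHyp p G := by
  apply Cfsg.Agent.Lib.Helper21.frobHyp_of_sylow P
  have key : ∀ n : ℕ, ∀ Q : Subgroup G, Q ≤ (P : Subgroup G) → Nat.card Q = n →
      ∀ g ∈ Subgroup.normalizer (Q : Set G), (orderOf g).Coprime p →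
      g ∈ Subgroup.centralizer (Q : Set G) := by
    intro n
    induction n using Nat.strong_induction_on with
    | _ n ih =>
    intro Q hQP hn g hg hcop
    have hQp : IsPGroup p Q := P.2.to_le hQP
    have hcop2 := hmin.coprime_orderOf (p := p) g
    by_cases hcyc : IsCyclic ↥Q
    · exact centralizes_cyclic Q hcyc hQp g hg hcop hcop2
    obtain ⟨k, hk⟩ := IsPGroup.iff_card.mp hQp
    have hk2 : 2 ≤ k := by
      by_contra hlt
      push Not at hlt
      apply hcyc
      interval_cases k
      · rw [pow_zero] at hk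
        haveI : Subsingleton ↥Q := (Nat.card_eq_one_iff_unique.mp hk).1
        exact isCyclic_of_subsingleton
      · rw [pow_one] at hk
        exact isCyclic_of_prime_card hk
    obtain ⟨m, hm⟩ := IsPGroup.iff_card.mp P.2
    have hdm : d < m := by
      rw [hm] at hdn
      exact (Nat.pow_lt_pow_iff_right hp.out.one_lt).mp hdn
    have hconjP : ∀ x ∈ Q, g * x * g⁻¹ ∈ (P : Subgroup G) := fun x hx =>
      hQP ((Subgroup.mem_normalizer_iff.mp hg x).mp hx)
    by_cases hkd : k = d
    · -- the order is exactly `p ^ d`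
      obtain ⟨F, hQF, hFP, hFc⟩ := Cfsg.Agent.Lib.Helper9.oa_exists_between p Q (P : Subgroup G)
        hQP (hkd ▸ hk) hm (Nat.le_succ d) (by omega)
      have hFn : ¬ IsCyclic ↥F := fun h => hcyc (isCyclic_of_le hQF h)
      obtain ⟨E, hEF, hEc, hEQ⟩ := exists_other_maximal F Q hFc hQF (hkd ▸ hk) hFn
      have hEP : E ≤ (P : Subgroup G) := hEF.trans hFP
      have hsc := hH E hEP (Or.inl hEc)
      have hgN : g ∈ Subgroup.normalizer ((E ⊓ Q : Subgroup G) : Set G) :=
        hsc.mem_normalizer_inf hQP hg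
      have hne : E ⊓ Q ≠ Q := by
        intro h
        apply hEQ
        have hQE : Q ≤ E := by rw [← h]; exact inf_le_left
        exact (Subgroup.eq_of_le_of_card_ge hQE (by rw [hEc, hk, hkd])).symm
      have hlt : Nat.card (E ⊓ Q : Subgroup G) < Nat.card Q := card_lt_of_le_of_ne inf_le_right hne
      have hcen : g ∈ Subgroup.centralizer ((E ⊓ Q : Subgroup G) : Set G) :=
        ih _ (hn ▸ hlt) (E ⊓ Q) (inf_le_right.trans hQP) rfl g hgN hcop
      -- the order of the intersection
      have hidx : Nat.card Q = p * Nat.card (E ⊓ Q : Subgroup G) := by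
        have hle : E ⊓ Q ≤ F := inf_le_right.trans hQF
        have h1 := Subgroup.relIndex_inf_le (H := E) (K := Q) (L := F)
        have h2 := Cfsg.Agent.Lib.Helper22.card_mul_relIndex_of_le hEF
        have h3 := Cfsg.Agent.Lib.Helper22.card_mul_relIndex_of_le hQF
        have h4 := Cfsg.Agent.Lib.Helper22.card_mul_relIndex_of_le hle
        have hpd : 0 < p ^ d := pow_pos hp.out.pos d
        have e2 : E.relIndex F = p := by
          rw [hEc, hFc, pow_succ] at h2
          exact Nat.eq_of_mul_eq_mul_left hpd h2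
        have e3 : Q.relIndex F = p := by
          rw [hk, hkd, hFc, pow_succ] at h3
          exact Nat.eq_of_mul_eq_mul_left hpd h3
        rw [e2, e3] at h1
        obtain ⟨j, hj⟩ := IsPGroup.iff_card.mp (hQp.to_le (inf_le_right : E ⊓ Q ≤ Q))
        have hjk : j < d := by
          rw [hj, hk, hkd] at hlt
          exact (Nat.pow_lt_pow_iff_right hp.out.one_lt).mp hlt
        have hjd : d ≤ j + 1 := by
          by_contra hcon
          push Not at hcon
          have h5 : p ^ j * (p * p) < p ^ (d + 1) := by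
            calc p ^ j * (p * p) = p ^ (j + 2) := by ring
              _ < p ^ (d + 1) := (Nat.pow_lt_pow_iff_right hp.out.one_lt).mpr (by omega)
          have h6 : Nat.card (E ⊓ Q : Subgroup G) * (E ⊓ Q).relIndex F ≤ p ^ j * (p * p) := by
            rw [hj]; exact Nat.mul_le_mul_left _ h1
          rw [h4, hFc] at h6
          exact absurd h6 (not_le.mpr h5)
        have hjd' : d = j + 1 := by omega
        rw [hk, hkd, hj, hjd', pow_succ]
        ring
      exact centralizes_of_maximal Q (E ⊓ Q) hQp inf_le_right hidx g hg hgN hcen hcop hcop2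
    · -- the order exceeds `p ^ d`
      have hdk : d < k := by omega
      apply Cfsg.Agent.Lib.Helper21.comm_of_comm_small g hcop Q hQp hg
      intro a ha hsmall
      obtain ⟨i, hi⟩ := Cfsg.Agent.Lib.Helper22.orderOf_of_mem_pgroup p Q hQp a ha
      have hzQ : Subgroup.zpowers a ≤ Q := Subgroup.zpowers_le.mpr ha
      have hzc : Nat.card (Subgroup.zpowers a) = p ^ i := by rw [Nat.card_zpowers, hi]
      have hE : ∃ E : Subgroup G, a ∈ E ∧ E ≤ Q ∧ Nat.card E < Nat.card Q ∧
          (Nat.card E = p ^ d ∨ (p ^ d = 2 ∧ Nat.card E = 4)) := by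
        by_cases hid : i ≤ d
        · obtain ⟨E, hzE, hEQ, hEc⟩ := Cfsg.Agent.Lib.Helper9.oa_exists_between p
            (Subgroup.zpowers a) Q hzQ hzc hk hid hdk.le
          refine ⟨E, hzE (Subgroup.mem_zpowers a), hEQ, ?_, Or.inl hEc⟩
          rw [hEc, hk]
          exact (Nat.pow_lt_pow_iff_right hp.out.one_lt).mpr hdk
        · push Not at hid
          rcases hsmall with h1 | ⟨h2, h4⟩
          · exfalso
            have h3 : orderOf a ∣ p := orderOf_dvd_of_pow_eq_one h1
            rw [hi] at h3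
            have h5 : p ^ i ∣ p ^ 1 := by rwa [pow_one]
            have := (Nat.pow_dvd_pow_iff_le_right hp.out.one_lt).mp h5
            omega
          · have h3 : orderOf a ∣ 4 := orderOf_dvd_of_pow_eq_one h4
            rw [hi, h2] at h3
            have h5 : 2 ^ i ∣ 2 ^ 2 := h3
            have h6 := (Nat.pow_dvd_pow_iff_le_right (by norm_num)).mp h5
            have hi2 : i = 2 := by omega
            have hd1' : d = 1 := by omega
            refine ⟨Subgroup.zpowers a, Subgroup.mem_zpowers a, hzQ, ?_, Or.inr ⟨?_, ?_⟩⟩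
            · apply card_lt_of_le_of_ne hzQ
              intro h
              apply hcyc
              rw [← h]
              infer_instance
            · rw [h2, hd1']; norm_num
            · rw [hzc, h2, hi2]; norm_num
      obtain ⟨E, haE, hEQ, hElt, hEc⟩ := hE
      have hsc := hH E (hEQ.trans hQP) hEc
      have hgE : g ∈ Subgroup.normalizer (E : Set G) :=
        hsc.mem_normalizer (fun x hx => hconjP x (hEQ hx))
      have hcen := ih _ (hn ▸ hElt) E (hEQ.trans hQP) rfl g hgE hcop
      exact (Subgroup.mem_centralizer_iff.mp hcen a haE).symm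
  intro Q hQP g hg hcop
  exact key _ Q hQP rfl g hg hcop

end Cfsg.Agent.Lib.Helper18.HSub
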