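import Mathlib
import Cfsg.Agent.Lib.Helper18.HSub5
import Cfsg.Agent.Lib.Helper1.TNPC.Basic
import Cfsg.Agent.Lib.helper4.PrimeDegree
import Cfsg.Agent.Lib.Helper22.SchurZassenhaus

set_option autoImplicit false

/-! Normal `p`-complements: lifting from normal subgroups of `p`-power index, control of fusion,
the Frattini argument for a normal `p`-subgroup with `p`-nilpotent quotient. -/

namespace Cfsg.Agent.Lib.Helper18.HSub

open Cfsg Cfsg.Agent.Lib.Helper1.TNPC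

variable {G : Type*} [Group G]

theorem npc_small [Finite G] {p : ℕ} [hp : Fact p.Prime] (hmin : MinP p G) (P : Sylow p G)
    {d : ℕ} (hd1 : 1 ≤ d) (hd2 : d ≤ 2) (hdn : p ^ d < Nat.card (P : Subgroup G))
    (hH : HHyp p (P : Subgroup G) d) : HasNormalPComplement p G := by
  obtain ⟨N, hNn, hNc⟩ := (frobHyp_small hmin P hd1 hd2 hdn hH).exists_normal_complement P
  exact ⟨P, N, hNn, hNc⟩

theorem npc_of_normal_ppow_index [Finite G] {p : ℕ} [hp : Fact p.Prime] (K : Subgroup G)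
    [K.Normal] (j : ℕ) (hj : K.index = p ^ j) (h : HasNormalPComplement p ↥K) :
    HasNormalPComplement p G := by
  obtain ⟨Y, hYn, hYc, k, hk⟩ := npc_iff.mp h
  haveI := hYn
  haveI hchar : Y.Characteristic := by
    apply Cfsg.Agent.Lib.helper4.characteristic_of_normal_coprime
    rw [hk]
    exact Nat.Coprime.pow_right k hYc
  haveI hn : (Y.map K.subtype).Normal := ConjAct.normal_of_characteristic_of_normal
  rw [npc_iff]
  refine ⟨Y.map K.subtype, hn, ?_, k + j, ?_⟩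
  · rw [Subgroup.card_map_of_injective K.subtype_injective]; exact hYc
  · rw [Subgroup.index_map_subtype, hk, hj, pow_add]

/-- in a group with a normal `p`-complement the Sylow subgroup controls its own fusion -/
theorem controls_of_npc [Finite G] {p : ℕ} [hp : Fact p.Prime] (K : Subgroup G) (P : Sylow p G)
    (hPK : (P : Subgroup G) ≤ K) (h : HasNormalPComplement p ↥K) (x : G)
    (hx : x ∈ (P : Subgroup G)) (g : G) (hg : g ∈ K) (hgx : g * x * g⁻¹ ∈ (P : Subgroup G)) :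
    ∃ u ∈ (P : Subgroup G), g * x * g⁻¹ = u * x * u⁻¹ := by
  obtain ⟨Y, hYn, hYc, k, hk⟩ := npc_iff.mp h
  haveI := hYn
  have hcomp : Y.IsComplement' ((P.subtype hPK : Sylow p ↥K) : Subgroup ↥K) :=
    Cfsg.Agent.S0072.isComplement'_sylow_of_normal_pcomp Y hYc hk (P.subtype hPK)
  obtain ⟨⟨y, u⟩, hyu, -⟩ := Subgroup.IsComplement.existsUnique hcomp (⟨g, hg⟩ : ↥K)
  have huP : ((u : ↥K) : G) ∈ (P : Subgroup G) := by
    have h1 : (u : ↥K) ∈ (P : Subgroup G).subgroupOf K := u.2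
    exact Subgroup.mem_subgroupOf.mp h1
  refine ⟨((u : ↥K) : G), huP, ?_⟩
  have hg' : g = ((y : ↥K) : G) * ((u : ↥K) : G) := by
    have := congrArg (Subtype.val) hyu
    simpa using this.symm
  -- `v = u x u⁻¹`
  obtain ⟨v, hv⟩ : ∃ v : G, v = ((u : ↥K) : G) * x * ((u : ↥K) : G)⁻¹ := ⟨_, rfl⟩
  have hvP : v ∈ (P : Subgroup G) := by
    rw [hv]; exact (P : Subgroup G).mul_mem ((P : Subgroup G).mul_mem huP hx) ((P : Subgroup G).inv_mem huP)
  have hgv : g * x * g⁻¹ = ((y : ↥K) : G) * v * ((y : ↥K) : G)⁻¹ := by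
    rw [hg', hv]; group
  rw [← hv]
  -- the commutator lies in `Y ⊓ P`
  have hc1 : (y : ↥K) * ⟨v, hPK hvP⟩ * (y : ↥K)⁻¹ * (⟨v, hPK hvP⟩ : ↥K)⁻¹ ∈ Y := by
    have h1 : (⟨v, hPK hvP⟩ : ↥K) * (y : ↥K)⁻¹ * (⟨v, hPK hvP⟩ : ↥K)⁻¹ ∈ Y :=
      hYn.conj_mem _ (Y.inv_mem y.2) _
    have e : (y : ↥K) * ⟨v, hPK hvP⟩ * (y : ↥K)⁻¹ * (⟨v, hPK hvP⟩ : ↥K)⁻¹ =
        (y : ↥K) * ((⟨v, hPK hvP⟩ : ↥K) * (y : ↥K)⁻¹ * (⟨v, hPK hvP⟩ : ↥K)⁻¹) := by group
    rw [e]
    exact Y.mul_mem y.2 h1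
  have hc2 : (y : ↥K) * ⟨v, hPK hvP⟩ * (y : ↥K)⁻¹ * (⟨v, hPK hvP⟩ : ↥K)⁻¹ ∈
      ((P.subtype hPK : Sylow p ↥K) : Subgroup ↥K) := by
    show _ ∈ (P : Subgroup G).subgroupOf K
    rw [Subgroup.mem_subgroupOf]
    have : ((y : ↥K) : G) * v * ((y : ↥K) : G)⁻¹ * v⁻¹ ∈ (P : Subgroup G) := by
      rw [← hgv]
      exact (P : Subgroup G).mul_mem hgx ((P : Subgroup G).inv_mem hvP)
    simpa using this
  have hc3 := Subgroup.disjoint_def.mp hcomp.disjoint hc1 hc2
  have hc4 : ((y : ↥K) : G) * v * ((y : ↥K) : G)⁻¹ * v⁻¹ = 1 := by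
    have := congrArg Subtype.val hc3
    simpa using this
  rw [hgv]
  exact mul_inv_eq_one.mp hc4

theorem frattini_npc [Finite G] {p : ℕ} [hp : Fact p.Prime] (N₁ : Subgroup G) [N₁.Normal]
    (hN₁ : IsPGroup p N₁) (h : HasNormalPComplement p (G ⧸ N₁)) :
    ∃ X : Subgroup G, (Nat.card X).Coprime p ∧ (∃ j : ℕ, X.index = p ^ j) ∧
      ∀ g : G, ∃ z ∈ N₁, z⁻¹ * g ∈ Subgroup.normalizer (X : Set G) := by
  obtain ⟨Nb, hNbn, hNbc, k, hk⟩ := npc_iff.mp h
  haveI := hNbn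
  obtain ⟨L, hLdef⟩ : ∃ L : Subgroup G, L = Nb.comap (QuotientGroup.mk' N₁) := ⟨_, rfl⟩
  haveI hLn : L.Normal := by rw [hLdef]; infer_instance
  have hN₁L : N₁ ≤ L := by
    rw [hLdef]
    intro x hx
    rw [Subgroup.mem_comap]
    have : (QuotientGroup.mk' N₁) x = 1 := (QuotientGroup.eq_one_iff x).mpr hx
    rw [this]; exact Nb.one_mem
  have hLcard : Nat.card L = Nat.card N₁ * Nat.card Nb := by
    rw [hLdef]; exact card_comap_mk' N₁ Nb
  have hLidx : L.index = p ^ k := by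
    rw [hLdef, Subgroup.index_comap_of_surjective _ (QuotientGroup.mk'_surjective N₁), hk]
  obtain ⟨m, hm⟩ := IsPGroup.iff_card.mp hN₁
  have hcN : Nat.card (N₁.subgroupOf L) = Nat.card N₁ :=
    Nat.card_congr (Subgroup.subgroupOfEquivOfLe hN₁L).toEquiv
  have hidxN : (N₁.subgroupOf L).index = Nat.card Nb := by
    have h1 := Subgroup.card_mul_index (N₁.subgroupOf L)
    rw [hcN, hLcard] at h1
    exact Nat.eq_of_mul_eq_mul_left Nat.card_pos h1
  have hcop : (Nat.card (N₁.subgroupOf L)).Coprime (N₁.subgroupOf L).index := by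
    rw [hcN, hidxN, hm]
    exact (Nat.Coprime.pow_right m hNbc).symm
  obtain ⟨X', hX'⟩ := Subgroup.exists_right_complement'_of_coprime hcop
  have hX'card : Nat.card X' = Nat.card Nb := by
    rw [← hidxN]; exact hX'.symm.index_eq_card.symm
  refine ⟨X'.map L.subtype, ?_, ?_, ?_⟩
  · rw [Subgroup.card_map_of_injective L.subtype_injective, hX'card]; exact hNbc
  · refine ⟨m + k, ?_⟩
    have h1 := Subgroup.card_mul_index (X'.map L.subtype)
    rw [Subgroup.card_map_of_injective L.subtype_injective, hX'card] at h1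
    have h2 := Subgroup.card_mul_index L
    rw [hLcard, hLidx, hm] at h2
    have hpos : 0 < Nat.card Nb := Nat.card_pos
    apply Nat.eq_of_mul_eq_mul_left hpos
    rw [h1, ← h2, pow_add]; ring
  · intro g
    have hXL : X'.map L.subtype ≤ L := Subgroup.map_subtype_le X'
    have hcX : Nat.card (X'.map L.subtype) = Nat.card Nb := by
      rw [Subgroup.card_map_of_injective L.subtype_injective, hX'card]
    have hcop2 : (Nat.card N₁).Coprime (Nat.card (X'.map L.subtype)) := by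
      rw [hcX, hm]; exact (Nat.Coprime.pow_right m hNbc).symm
    have hsup : N₁ ⊔ X'.map L.subtype = L := by
      apply Subgroup.eq_of_le_of_card_ge (sup_le hN₁L hXL)
      rw [Cfsg.Agent.Lib.Helper22.card_sup_of_coprime N₁ _ hcop2, hcX, hLcard]
    have hle : (X'.map L.subtype).map (MulAut.conj g).toMonoidHom ≤ N₁ ⊔ X'.map L.subtype := by
      rw [hsup]
      rintro _ ⟨x, hx, rfl⟩
      exact hLn.conj_mem x (hXL hx) g
    have hsol : Group.IsSolvable ↥N₁ := by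
      haveI : Group.IsNilpotent ↥N₁ := hN₁.isNilpotent
      infer_instance
    obtain ⟨z, hz, hzX⟩ := Cfsg.Agent.Lib.Helper22.sz_conj_solvable N₁ hsol (X'.map L.subtype)
      ((X'.map L.subtype).map (MulAut.conj g).toMonoidHom)
      (Subgroup.card_map_of_injective (MulAut.conj g).injective).symm hcop2 hle
    refine ⟨z, hz, ?_⟩
    apply mem_normalizer_of_conj_mem
    intro x hx
    have h1 : g * x * g⁻¹ ∈ (X'.map L.subtype).map (MulAut.conj g).toMonoidHom := ⟨x, hx, rfl⟩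
    rw [hzX] at h1
    obtain ⟨y, hy, hyx⟩ := h1
    have h2 : z * y * z⁻¹ = g * x * g⁻¹ := hyx
    have h3 : z⁻¹ * g * x * (z⁻¹ * g)⁻¹ = y := by
      calc z⁻¹ * g * x * (z⁻¹ * g)⁻¹ = z⁻¹ * (g * x * g⁻¹) * z := by group
        _ = z⁻¹ * (z * y * z⁻¹) * z := by rw [h2]
        _ = y := by group
    rw [h3]; exact hy

/-- a central `p`-subgroup with `p`-nilpotent quotient -/
theorem npc_of_central_quotient [Finite G] {p : ℕ} [hp : Fact p.Prime] (Z : Subgroup G) [Z.Normal]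
    (hZ : IsPGroup p Z) (hcen : ∀ z ∈ Z, ∀ g : G, g * z = z * g)
    (h : HasNormalPComplement p (G ⧸ Z)) : HasNormalPComplement p G := by
  obtain ⟨X, hXc, ⟨j, hj⟩, hfr⟩ := frattini_npc Z hZ h
  have hXn : X.Normal := by
    rw [← Subgroup.normalizer_eq_top_iff, eq_top_iff]
    intro g _
    obtain ⟨z, hz, hzg⟩ := hfr g
    have hzN : z ∈ Subgroup.normalizer (X : Set G) := by
      rw [Subgroup.mem_normalizer_iff]
      intro x
      have : z * x * z⁻¹ = x := by
        have := hcen z hz x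
        calc z * x * z⁻¹ = (x * z) * z⁻¹ := by rw [this]
          _ = x := by group
      rw [this]
    have : g = z * (z⁻¹ * g) := by group
    rw [this]
    exact Subgroup.mul_mem _ hzN hzg
  rw [npc_iff]
  exact ⟨X, hXn, hXc, j, hj⟩

end Cfsg.Agent.Lib.Helper18.HSub
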