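import Mathlib
import Cfsg.Agent.Lib.Helper18.HSub6

set_option autoImplicit false

/-! Minimal normal `p`-subgroups with a proper supplement. -/

namespace Cfsg.Agent.Lib.Helper18.HSub

open Cfsg Cfsg.Agent.Lib.Helper1.TNPC
open scoped commutatorElement

variable {G : Type*} [Group G]

theorem card_eq_mul_card_inf [Finite G] {p : ℕ} [hp : Fact p.Prime] {d : ℕ} (F E Q : Subgroup G)
    (hF : Nat.card F = p ^ (d + 1)) (hEF : E ≤ F) (hQF : Q ≤ F) (hE : Nat.card E = p ^ d)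
    (hQ : Nat.card Q = p ^ d) (hne : E ≠ Q) : Nat.card Q = p * Nat.card (E ⊓ Q : Subgroup G) := by
  have hQp : IsPGroup p Q := IsPGroup.of_card hQ
  have hne' : E ⊓ Q ≠ Q := by
    intro h
    apply hne
    have hQE : Q ≤ E := by rw [← h]; exact inf_le_left
    exact (Subgroup.eq_of_le_of_card_ge hQE (by rw [hE, hQ])).symm
  have hlt : Nat.card (E ⊓ Q : Subgroup G) < Nat.card Q := card_lt_of_le_of_ne inf_le_right hne'
  have hle : E ⊓ Q ≤ F := inf_le_right.trans hQF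
  have h1 := Subgroup.relIndex_inf_le (H := E) (K := Q) (L := F)
  have h2 := Cfsg.Agent.Lib.Helper22.card_mul_relIndex_of_le hEF
  have h3 := Cfsg.Agent.Lib.Helper22.card_mul_relIndex_of_le hQF
  have h4 := Cfsg.Agent.Lib.Helper22.card_mul_relIndex_of_le hle
  have hpd : 0 < p ^ d := pow_pos hp.out.pos d
  have e2 : E.relIndex F = p := by
    rw [hE, hF, pow_succ] at h2
    exact Nat.eq_of_mul_eq_mul_left hpd h2
  have e3 : Q.relIndex F = p := by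
    rw [hQ, hF, pow_succ] at h3
    exact Nat.eq_of_mul_eq_mul_left hpd h3
  rw [e2, e3] at h1
  obtain ⟨j, hj⟩ := IsPGroup.iff_card.mp (hQp.to_le (inf_le_right : E ⊓ Q ≤ Q))
  have hjk : j < d := by
    rw [hj, hQ] at hlt
    exact (Nat.pow_lt_pow_iff_right hp.out.one_lt).mp hlt
  have hjd : d ≤ j + 1 := by
    by_contra hcon
    push Not at hcon
    have h5 : p ^ j * (p * p) < p ^ (d + 1) := by
      calc p ^ j * (p * p) = p ^ (j + 2) := by ring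
        _ < p ^ (d + 1) := (Nat.pow_lt_pow_iff_right hp.out.one_lt).mpr (by omega)
    have h6 : Nat.card (E ⊓ Q : Subgroup G) * (E ⊓ Q).relIndex F ≤ p ^ j * (p * p) := by
      rw [hj]; exact Nat.mul_le_mul_left _ h1
    rw [h4, hF] at h6
    exact absurd h6 (not_le.mpr h5)
  have hjd' : d = j + 1 := by omega
  rw [hQ, hj, hjd', pow_succ]
  ring

theorem exists_bad_subgroup [Finite G] {p : ℕ} [hp : Fact p.Prime] (P : Sylow p G)
    (N₁ : Subgroup G) [hN₁n : N₁.Normal] (hN₁P : N₁ ≤ (P : Subgroup G))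
    (hcomm : ∀ a ∈ N₁, ∀ b ∈ N₁, a * b = b * a)
    (hmin : ∀ B : Subgroup G, B.Normal → B ≤ N₁ → B = ⊥ ∨ B = N₁)
    {m₁ d n : ℕ} (hN₁c : Nat.card N₁ = p ^ m₁) (hm₁ : 2 ≤ m₁)
    (hn : Nat.card (P : Subgroup G) = p ^ n) (hm₁d : m₁ ≤ d + 1) (hdn : d < n)
    (M : Subgroup G) (hM : M ≠ ⊤) (hsupp : ∀ g : G, ∃ z ∈ N₁, z⁻¹ * g ∈ M) :
    ∃ E : Subgroup G, E ≤ (P : Subgroup G) ∧ Nat.card E = p ^ d ∧ E ⊓ N₁ ≠ ⊥ ∧ E ⊓ N₁ ≠ N₁ := by
  have hp1 := hp.out.one_lt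
  -- step 1
  have hBn : (N₁ ⊓ M).Normal := by
    rw [← Subgroup.normalizer_eq_top_iff, eq_top_iff]
    intro g _
    apply mem_normalizer_of_conj_mem
    intro x hx
    obtain ⟨hxN, hxM⟩ := Subgroup.mem_inf.mp hx
    obtain ⟨z, hz, hzg⟩ := hsupp g
    have h1 : (z⁻¹ * g) * x * (z⁻¹ * g)⁻¹ ∈ N₁ := hN₁n.conj_mem x hxN _
    have h2 : (z⁻¹ * g) * x * (z⁻¹ * g)⁻¹ ∈ M := M.mul_mem (M.mul_mem hzg hxM) (M.inv_mem hzg)
    have e : g * x * g⁻¹ = z * ((z⁻¹ * g) * x * (z⁻¹ * g)⁻¹) * z⁻¹ := by group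
    have h3 : z * ((z⁻¹ * g) * x * (z⁻¹ * g)⁻¹) * z⁻¹ = (z⁻¹ * g) * x * (z⁻¹ * g)⁻¹ := by
      rw [hcomm z hz _ h1]; group
    rw [e, h3]
    exact Subgroup.mem_inf.mpr ⟨h1, h2⟩
  have hB : N₁ ⊓ M = ⊥ := by
    rcases hmin _ hBn inf_le_left with h | h
    · exact h
    · exfalso
      apply hM
      rw [eq_top_iff]
      intro g _
      obtain ⟨z, hz, hzg⟩ := hsupp g
      have hN₁M : N₁ ≤ M := by rw [← h]; exact inf_le_right
      have : g = z * (z⁻¹ * g) := by group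
      rw [this]
      exact M.mul_mem (hN₁M hz) hzg
  -- step 2
  have hdecomp : ∀ u ∈ (P : Subgroup G), ∃ z ∈ N₁, z⁻¹ * u ∈ (P : Subgroup G) ⊓ M := by
    intro u hu
    obtain ⟨z, hz, hzu⟩ := hsupp u
    exact ⟨z, hz, Subgroup.mem_inf.mpr
      ⟨(P : Subgroup G).mul_mem ((P : Subgroup G).inv_mem (hN₁P hz)) hu, hzu⟩⟩
  -- step 3
  have hPN : (P : Subgroup G) ≤ Subgroup.normalizer (N₁ : Set G) := by
    rw [Subgroup.normalizer_eq_top]; exact le_top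
  have hnil : Group.IsNilpotent ↥(P : Subgroup G) := P.2.isNilpotent
  have hN₁ne : N₁ ≠ ⊥ := by
    intro h
    rw [h, Subgroup.card_bot] at hN₁c
    have : 1 < p ^ m₁ := Nat.one_lt_pow (by omega) hp1
    omega
  have hlt := Cfsg.Agent.Lib.Lead.commutator_lt_of_nilpotent N₁ (P : Subgroup G) hN₁P hPN hnil hN₁ne
  have hN₁p : IsPGroup p N₁ := P.2.to_le hN₁P
  obtain ⟨i, hi⟩ := IsPGroup.iff_card.mp (hN₁p.to_le hlt.le)
  have him : i < m₁ := by
    have h1 := card_lt_of_le_of_ne hlt.le hlt.ne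
    rw [hi, hN₁c] at h1
    exact (Nat.pow_lt_pow_iff_right hp1).mp h1
  obtain ⟨Q₁, hcQ₁, hQ₁N, hQ₁c⟩ := Cfsg.Agent.Lib.Helper9.oa_exists_between p ⁅N₁, (P : Subgroup G)⁆ N₁
    hlt.le hi hN₁c (show i ≤ m₁ - 1 by omega) (Nat.sub_le m₁ 1)
  have hPQ₁ : (P : Subgroup G) ≤ Subgroup.normalizer (Q₁ : Set G) := by
    intro u hu
    apply mem_normalizer_of_conj_mem
    intro x hx
    have h1 : ⁅u, x⁆ ∈ ⁅(P : Subgroup G), N₁⁆ := Subgroup.commutator_mem_commutator hu (hQ₁N hx)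
    rw [Subgroup.commutator_comm] at h1
    have e : u * x * u⁻¹ = ⁅u, x⁆ * x := by rw [commutatorElement_def]; group
    rw [e]
    exact Q₁.mul_mem (hcQ₁ h1) hx
  -- step 4
  obtain ⟨T, hTdef⟩ : ∃ T : Subgroup G, T = Q₁ ⊔ ((P : Subgroup G) ⊓ M) := ⟨_, rfl⟩
  have hQ₁T : Q₁ ≤ T := by rw [hTdef]; exact le_sup_left
  have hP₀T : (P : Subgroup G) ⊓ M ≤ T := by rw [hTdef]; exact le_sup_right
  have hTP : T ≤ (P : Subgroup G) := by
    rw [hTdef]; exact sup_le (hQ₁N.trans hN₁P) inf_le_left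
  have hTN : T ⊓ N₁ = Q₁ := by
    apply le_antisymm
    · intro x hx
      obtain ⟨hxT, hxN⟩ := Subgroup.mem_inf.mp hx
      have hxT' : x ∈ ((Q₁ ⊔ ((P : Subgroup G) ⊓ M) : Subgroup G) : Set G) := by
        rw [← hTdef]; exact hxT
      rw [Subgroup.coe_mul_of_right_le_normalizer_left Q₁ _ (inf_le_left.trans hPQ₁)] at hxT'
      obtain ⟨q, hq, u, hu, hqu⟩ := Set.mem_mul.mp hxT'
      have hu1 : u ∈ N₁ ⊓ M := by
        refine Subgroup.mem_inf.mpr ⟨?_, (Subgroup.mem_inf.mp hu).2⟩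
        have : u = q⁻¹ * x := by rw [← hqu]; group
        rw [this]
        exact N₁.mul_mem (N₁.inv_mem (hQ₁N hq)) hxN
      rw [hB, Subgroup.mem_bot] at hu1
      rw [← hqu, hu1, mul_one]
      exact hq
    · exact le_inf hQ₁T hQ₁N
  have hsupT : T ⊔ N₁ = (P : Subgroup G) := by
    apply le_antisymm (sup_le hTP hN₁P)
    intro u hu
    obtain ⟨z, hz, hzu⟩ := hdecomp u hu
    have : u = z * (z⁻¹ * u) := by group
    rw [this]
    exact Subgroup.mul_mem _ (Subgroup.mem_sup_right hz) (Subgroup.mem_sup_left (hP₀T hzu))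
  obtain ⟨t, ht⟩ := IsPGroup.iff_card.mp (P.2.to_le hTP)
  have htn : t = n - 1 := by
    have h1 := Cfsg.Agent.Lib.Helper22.card_sup_normal T N₁
    rw [hsupT, hn, hN₁c] at h1
    have h2 : N₁.relIndex T = Q₁.relIndex T := by
      rw [← Subgroup.inf_relIndex_right, inf_comm, hTN]
    have h3 := Cfsg.Agent.Lib.Helper22.card_mul_relIndex_of_le hQ₁T
    rw [hQ₁c, ht] at h3
    rw [h2] at h1
    -- p ^ n = p ^ m₁ * r, p ^ (m₁ - 1) * r = p ^ t
    have h4 : p ^ n = p * p ^ t := by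
      rw [h1, ← h3]
      have : p ^ m₁ = p * p ^ (m₁ - 1) := by
        rw [← pow_succ']; congr 1; omega
      rw [this]; ring
    rw [← pow_succ'] at h4
    have := Nat.pow_right_injective hp.out.two_le h4
    omega
  -- step 5
  obtain ⟨E, hQ₁E, hET, hEc⟩ := Cfsg.Agent.Lib.Helper9.oa_exists_between p Q₁ T hQ₁T hQ₁c ht
    (show m₁ - 1 ≤ d by omega) (show d ≤ t by omega)
  have hEN : E ⊓ N₁ = Q₁ := by
    apply le_antisymm
    · rw [← hTN]; exact inf_le_inf_right N₁ hET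
    · exact le_inf hQ₁E hQ₁N
  refine ⟨E, hET.trans hTP, hEc, ?_, ?_⟩
  · rw [hEN]
    intro h
    rw [h, Subgroup.card_bot] at hQ₁c
    have : 1 < p ^ (m₁ - 1) := Nat.one_lt_pow (by omega) hp1
    omega
  · rw [hEN]
    intro h
    rw [h, hN₁c] at hQ₁c
    have := Nat.pow_right_injective hp.out.two_le hQ₁c
    omega

end Cfsg.Agent.Lib.Helper18.HSub
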