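import Mathlib
import Cfsg.Agent.Lib.Helper18.HSub9

set_option autoImplicit false

/-! A nontrivial abelian normal `p`-subgroup: reduction through a minimal normal subgroup. -/

namespace Cfsg.Agent.Lib.Helper18.HSub

open Cfsg Cfsg.Agent.Lib.Helper1.TNPC

variable {G : Type*} [Group G]

theorem not_isCyclic_of_minimal [Finite G] {p : ℕ} [hp : Fact p.Prime] (N₁ : Subgroup G)
    [hN₁n : N₁.Normal] (hmin : ∀ B : Subgroup G, B.Normal → B ≤ N₁ → B = ⊥ ∨ B = N₁)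
    {m₁ : ℕ} (hN₁c : Nat.card N₁ = p ^ m₁) (hm₁ : 2 ≤ m₁) : ¬ IsCyclic ↥N₁ := by
  intro hcyc
  obtain ⟨c, hc⟩ := hcyc.exists_generator
  have hco : orderOf (c : G) = p ^ m₁ := by
    rw [Subgroup.orderOf_coe, orderOf_eq_card_of_forall_mem_zpowers hc, hN₁c]
  have hgen : ∀ x ∈ N₁, ∃ i : ℤ, (c : G) ^ i = x := by
    intro x hx
    obtain ⟨i, hi⟩ := Subgroup.mem_zpowers_iff.mp (hc ⟨x, hx⟩)
    refine ⟨i, ?_⟩
    have := congrArg Subtype.val hi
    simpa using this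
  have hBn : (Subgroup.zpowers ((c : G) ^ p)).Normal := by
    rw [← Subgroup.normalizer_eq_top_iff, eq_top_iff]
    intro g _
    apply mem_normalizer_of_conj_mem
    intro x hx
    obtain ⟨i, rfl⟩ := Subgroup.mem_zpowers_iff.mp hx
    obtain ⟨a, ha⟩ := hgen (g * (c : G) * g⁻¹) (hN₁n.conj_mem _ c.2 g)
    have e : g * ((c : G) ^ p) ^ i * g⁻¹ = (((c : G) ^ p) ^ a) ^ i := by
      calc g * ((c : G) ^ p) ^ i * g⁻¹ = (g * (c : G) ^ p * g⁻¹) ^ i := (conj_zpow).symm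
        _ = ((g * (c : G) * g⁻¹) ^ p) ^ i := by rw [conj_pow]
        _ = (((c : G) ^ a) ^ p) ^ i := by rw [ha]
        _ = (((c : G) ^ p) ^ a) ^ i := by
          congr 1
          rw [← zpow_natCast, ← zpow_natCast, ← zpow_mul, ← zpow_mul, mul_comm]
    rw [e]
    exact Subgroup.zpow_mem _ (Subgroup.zpow_mem _ (Subgroup.mem_zpowers _) _) _
  have hBle : Subgroup.zpowers ((c : G) ^ p) ≤ N₁ :=
    Subgroup.zpowers_le.mpr (N₁.pow_mem c.2 p)
  have hBc : Nat.card (Subgroup.zpowers ((c : G) ^ p)) = p ^ (m₁ - 1) := by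
    rw [Nat.card_zpowers, orderOf_pow_of_dvd hp.out.ne_zero
      (by rw [hco]; exact dvd_pow_self p (by omega)), hco]
    have : p ^ m₁ = p ^ (m₁ - 1) * p := by rw [← pow_succ]; congr 1; omega
    rw [this, Nat.mul_div_cancel _ hp.out.pos]
  rcases hmin _ hBn hBle with h | h
  · rw [h, Subgroup.card_bot] at hBc
    have : 1 < p ^ (m₁ - 1) := Nat.one_lt_pow (by omega) hp.out.one_lt
    omega
  · rw [h, hN₁c] at hBc
    have := Nat.pow_right_injective hp.out.two_le hBc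
    omega

theorem minimal_normal_step [Finite G] {p : ℕ} [hp : Fact p.Prime] (hmin : MinP p G)
    (P : Sylow p G) {d : ℕ} (hd : 2 ≤ d) (hdn : p ^ d < Nat.card (P : Subgroup G))
    (hH : HHyp p (P : Subgroup G) d)
    (A : Subgroup G) [hAn : A.Normal] (hAP : A ≤ (P : Subgroup G)) (hAne : A ≠ ⊥)
    (hAcomm : ∀ a ∈ A, ∀ b ∈ A, a * b = b * a)
    (hquot : ∀ (N : Subgroup G) [N.Normal], N ≤ (P : Subgroup G) → ∀ m : ℕ, Nat.card N = p ^ m →
      1 ≤ m → m < d → HasNormalPComplement p (G ⧸ N)) :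
    HasNormalPComplement p G := by
  classical
  have hp1 := hp.out.one_lt
  have hex : ∃ c : ℕ, ∃ B : Subgroup G, B.Normal ∧ B ≤ A ∧ B ≠ ⊥ ∧ Nat.card B = c :=
    ⟨_, A, hAn, le_rfl, hAne, rfl⟩
  obtain ⟨N₁, hN₁n, hN₁A, hN₁ne, hN₁c0⟩ := Nat.find_spec hex
  have := hN₁n
  have hminN : ∀ B : Subgroup G, B.Normal → B ≤ N₁ → B = ⊥ ∨ B = N₁ := by
    intro B hBn hBN
    by_cases hB : B = ⊥
    · left; exact hB
    · right
      have h1 : Nat.find hex ≤ Nat.card B := Nat.find_min' hex ⟨B, hBn, hBN.trans hN₁A, hB, rfl⟩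
      exact Subgroup.eq_of_le_of_card_ge hBN (by rw [hN₁c0]; exact h1)
  have hN₁P : N₁ ≤ (P : Subgroup G) := hN₁A.trans hAP
  have hN₁p : IsPGroup p N₁ := P.2.to_le hN₁P
  have hcomm : ∀ a ∈ N₁, ∀ b ∈ N₁, a * b = b * a := fun a ha b hb => hAcomm a (hN₁A ha) b (hN₁A hb)
  obtain ⟨m₁, hN₁c⟩ := IsPGroup.iff_card.mp hN₁p
  have hm₁1 : 1 ≤ m₁ := by
    by_contra h
    have h0 : m₁ = 0 := by omega
    rw [h0, pow_zero] at hN₁c
    exact hN₁ne (Subgroup.card_eq_one.mp hN₁c)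
  obtain ⟨n, hn⟩ := IsPGroup.iff_card.mp P.2
  have hdn' : d < n := by
    rw [hn] at hdn; exact (Nat.pow_lt_pow_iff_right hp1).mp hdn
  have hstar : ∀ E : Subgroup G, E ≤ (P : Subgroup G) → Nat.card E = p ^ d →
      E ⊓ N₁ = ⊥ ∨ E ⊓ N₁ = N₁ := by
    intro E hEP hEc
    have hsc := hH E hEP (Or.inl hEc)
    apply hminN _ ?_ inf_le_right
    rw [← Subgroup.normalizer_eq_top_iff, eq_top_iff]
    intro g _
    exact hsc.mem_normalizer_inf hN₁P (by rw [Subgroup.normalizer_eq_top]; trivial)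
  by_cases hm1 : m₁ = 1
  · -- a central subgroup of order `p`
    rw [hm1, pow_one] at hN₁c
    have hcen := central_of_card_prime hmin N₁ hN₁c
    have hq := hquot N₁ hN₁P 1 (by rw [pow_one]; exact hN₁c) le_rfl (by omega)
    exact npc_of_central_quotient N₁ hN₁p (fun z hz g => hcen g z hz) hq
  have hm₁2 : 2 ≤ m₁ := by omega
  rcases lt_trichotomy m₁ d with hlt | heq | hgt
  · -- `m₁ < d`
    have hq := hquot N₁ hN₁P m₁ hN₁c hm₁1 hlt
    obtain ⟨X, hXc, ⟨j, hj⟩, hfr⟩ := frattini_npc N₁ hN₁p hq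
    by_cases hX : Subgroup.normalizer (X : Set G) = ⊤
    · rw [npc_iff]
      exact ⟨X, Subgroup.normalizer_eq_top_iff.mp hX, hXc, j, hj⟩
    · exfalso
      obtain ⟨E, hEP, hEc, h1, h2⟩ := exists_bad_subgroup P N₁ hN₁P hcomm hminN hN₁c hm₁2 hn
        (by omega) hdn' _ hX hfr
      rcases hstar E hEP hEc with h | h
      · exact h1 h
      · exact h2 h
  · -- `m₁ = d`
    exfalso
    have hncyc := not_isCyclic_of_minimal N₁ hminN hN₁c hm₁2
    obtain ⟨F, hN₁F, hFP, hFc⟩ := Cfsg.Agent.Lib.Helper9.oa_exists_between p N₁ (P : Subgroup G)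
      hN₁P (heq ▸ hN₁c) hn (Nat.le_succ d) (by omega)
    have hFn : ¬ IsCyclic ↥F := fun h => hncyc (isCyclic_of_le hN₁F h)
    obtain ⟨E, hEF, hEc, hEN⟩ := exists_other_maximal F N₁ hFc hN₁F (heq ▸ hN₁c) hFn
    have hcard := card_eq_mul_card_inf F E N₁ hFc hEF hN₁F hEc (heq ▸ hN₁c) hEN
    rcases hstar E (hEF.trans hFP) hEc with h | h
    · rw [h, Subgroup.card_bot, mul_one, hN₁c] at hcard
      have : p ^ 1 < p ^ m₁ := (Nat.pow_lt_pow_iff_right hp1).mpr (by omega)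
      rw [pow_one] at this
      omega
    · rw [h] at hcard
      have hpos : 0 < Nat.card N₁ := Nat.card_pos
      have : 2 * Nat.card N₁ ≤ p * Nat.card N₁ := Nat.mul_le_mul_right _ hp.out.two_le
      omega
  · -- `d < m₁`
    exfalso
    obtain ⟨E, -, hEN, hEc⟩ := Cfsg.Agent.Lib.Helper9.oa_exists_between p (⊥ : Subgroup G) N₁ bot_le
      (by simp : Nat.card (⊥ : Subgroup G) = p ^ 0) hN₁c (Nat.zero_le d) hgt.le
    have hinf : E ⊓ N₁ = E := inf_eq_left.mpr hEN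
    rcases hstar E (hEN.trans hN₁P) hEc with h | h
    · rw [hinf] at h
      rw [h, Subgroup.card_bot] at hEc
      have : 1 < p ^ d := Nat.one_lt_pow (by omega) hp1
      omega
    · rw [hinf] at h
      rw [h, hN₁c] at hEc
      have := Nat.pow_right_injective hp.out.two_le hEc
      omega

end Cfsg.Agent.Lib.Helper18.HSub
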