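import Mathlib
import Cfsg.Agent.Lib.Helper18.HSub6
import Cfsg.Agent.Lib.Helper1.Tate
import Cfsg.Agent.Lib.Helper1.Frat
import Cfsg.Agent.Lib.Helper1.Residual
import Cfsg.Agent.Lib.Helper1.SplitResidual
import Cfsg.Agent.Lib.Helper13.BurnsideRes
import Cfsg.Agent.Lib.Helper19.TransferTwo

set_option autoImplicit false

/-! The prime two: transfer arguments. -/

namespace Cfsg.Agent.Lib.Helper18.HSub

open Cfsg Cfsg.Agent.Lib.Helper1.TNPC
open scoped commutatorElement

variable {G : Type*} [Group G]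

/-- `O^p(G) ∩ P` lies in the focal subgroup of `P` -/
theorem pResidual_inf_le_focal [Finite G] {p : ℕ} [hp : Fact p.Prime] (P : Sylow p G) :
    Cfsg.pResidual p G ⊓ (P : Subgroup G) ≤ (P : Subgroup G).focalSubgroup := by
  rw [← Subgroup.ker_transferFocal_inf_eq_focalSubgroup P]
  apply inf_le_inf_right
  unfold Cfsg.pResidual
  rw [Subgroup.closure_le]
  intro g hg
  have hg' : (orderOf g).Coprime p := hg
  rw [SetLike.mem_coe, MonoidHom.mem_ker]
  have hQ : IsPGroup p (↥(P : Subgroup G) ⧸ (P : Subgroup G).focalSubgroupOf) :=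
    P.2.to_quotient _
  obtain ⟨k, hk⟩ := hQ ((P : Subgroup G).transferFocal g)
  have h1 : orderOf ((P : Subgroup G).transferFocal g) ∣ p ^ k := orderOf_dvd_of_pow_eq_one hk
  have h2 : orderOf ((P : Subgroup G).transferFocal g) ∣ orderOf g := orderOf_map_dvd _ g
  have h3 : orderOf ((P : Subgroup G).transferFocal g) = 1 :=
    Nat.eq_one_of_dvd_coprimes (Nat.Coprime.pow_right k hg') h2 h1
  exact orderOf_eq_one_iff.mp h3

/-- all maximal subgroups of a Sylow `2`-subgroup strongly closed: normal `2`-complement -/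
theorem npc_of_maximal_sc [Finite G] (P : Sylow 2 G)
    (h : ∀ M : Subgroup G, M ≤ (P : Subgroup G) → M.relIndex (P : Subgroup G) = 2 →
      SC (P : Subgroup G) M) : HasNormalPComplement 2 G := by
  haveI : Fact (Nat.Prime 2) := ⟨Nat.prime_two⟩
  haveI hRn : (Cfsg.pResidual 2 G).Normal := Cfsg.Agent.Lib.Helper1.pResidual_normal 2
  have hfocal : ∀ M : Subgroup G, M ≤ (P : Subgroup G) → M.relIndex (P : Subgroup G) = 2 →
      (P : Subgroup G).focalSubgroup ≤ M := by
    intro M hMP hidx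
    have hsc := h M hMP hidx
    rw [Subgroup.focalSubgroup_def, Subgroup.closure_le]
    rintro g ⟨hgP, x, hxP, u, rfl⟩
    have hgP' : ⁅x, u⁆ ∈ (P : Subgroup G) := hgP
    have e1 : ⁅x, u⁆ = x * (u * x⁻¹ * u⁻¹) := by rw [commutatorElement_def]; group
    have h1 : u * x⁻¹ * u⁻¹ ∈ (P : Subgroup G) := by
      have : u * x⁻¹ * u⁻¹ = x⁻¹ * ⁅x, u⁆ := by rw [commutatorElement_def]; group
      rw [this]
      exact (P : Subgroup G).mul_mem ((P : Subgroup G).inv_mem hxP) hgP'
    rw [SetLike.mem_coe, e1]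
    by_cases hxM : x ∈ M
    · exact M.mul_mem hxM (hsc x⁻¹ (M.inv_mem hxM) u h1)
    · have h2 : u * x⁻¹ * u⁻¹ ∉ M := by
        intro hcon
        apply hxM
        have e2 : u⁻¹ * (u * x⁻¹ * u⁻¹) * u⁻¹⁻¹ = x⁻¹ := by group
        have h3 := hsc _ hcon u⁻¹ (by rw [e2]; exact (P : Subgroup G).inv_mem hxP)
        rw [e2] at h3
        exact (M.inv_mem_iff).mp h3
      have hidx' : (M.subgroupOf (P : Subgroup G)).index = 2 := hidx
      have h4 := Subgroup.mul_mem_iff_of_index_two hidx'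
        (a := (⟨x, hxP⟩ : ↥(P : Subgroup G))) (b := ⟨u * x⁻¹ * u⁻¹, h1⟩)
      have h5 : (⟨x, hxP⟩ : ↥(P : Subgroup G)) * ⟨u * x⁻¹ * u⁻¹, h1⟩ ∈
          M.subgroupOf (P : Subgroup G) := by
        rw [h4]
        constructor
        · intro hh; exact absurd (Subgroup.mem_subgroupOf.mp hh) hxM
        · intro hh; exact absurd (Subgroup.mem_subgroupOf.mp hh) h2
      exact Subgroup.mem_subgroupOf.mp h5
  have hle : Cfsg.pResidual 2 G ⊓ (P : Subgroup G) ≤
      (frattini ↥(P : Subgroup G)).map (P : Subgroup G).subtype := by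
    intro x hx
    have hxf := pResidual_inf_le_focal P hx
    have hxP : x ∈ (P : Subgroup G) := (Subgroup.mem_inf.mp hx).2
    refine ⟨⟨x, hxP⟩, ?_, rfl⟩
    rw [SetLike.mem_coe, Cfsg.Agent.Lib.Helper1.mem_frattini_iff]
    intro M' hM'
    have hidx := Cfsg.Agent.Lib.Helper1.pgroup_coatom_index P.isPGroup' hM'
    have hMP : M'.map (P : Subgroup G).subtype ≤ (P : Subgroup G) := Subgroup.map_subtype_le M'
    have hrel : (M'.map (P : Subgroup G).subtype).relIndex (P : Subgroup G) = 2 := by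
      unfold Subgroup.relIndex
      rw [Subgroup.subgroupOf, Subgroup.comap_map_eq_self_of_injective
        (Subgroup.subtype_injective _), hidx]
    have h1 := hfocal _ hMP hrel hxf
    obtain ⟨y, hy, hyx⟩ := h1
    have : y = ⟨x, hxP⟩ := Subtype.ext hyx
    rw [← this]; exact hy
  have h1 := Cfsg.Agent.Lib.Helper1.Tate.tate P (Cfsg.pResidual 2 G) hle
  rw [Cfsg.Agent.Lib.Helper1.pResidual_pResidual, Subgroup.card_top] at h1
  exact ⟨P, Cfsg.pResidual 2 G, hRn,
    Cfsg.Agent.Lib.Helper13.hasNormalPComplement_of_not_dvd_card_pResidual P h1⟩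

end Cfsg.Agent.Lib.Helper18.HSub
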