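import Mathlib
import Cfsg.Agent.Lib.Helper18.HSub7

set_option autoImplicit false

/-! The prime two: a normal subgroup of order two from Thompson's transfer lemma. -/

namespace Cfsg.Agent.Lib.Helper18.HSub

open Cfsg Cfsg.Agent.Lib.Helper1.TNPC

variable {G : Type*} [Group G]

theorem eq_of_sq_eq_one_of_mem_zpowers {w : G} {d : ℕ} (hd : 1 ≤ d) (hw : orderOf w = 2 ^ d)
    {t : G} (ht : t ∈ Subgroup.zpowers w) (ht2 : t ^ 2 = 1) (ht1 : t ≠ 1) :
    t = w ^ 2 ^ (d - 1) := by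
  have hfin : IsOfFinOrder w := by
    rw [← orderOf_pos_iff, hw]; positivity
  rw [← hfin.mem_powers_iff_mem_zpowers] at ht
  obtain ⟨i, hi⟩ := ht
  have hi0 : w ^ i = t := hi
  subst hi0
  have e0 : w ^ i = w ^ (i % orderOf w) := (pow_mod_orderOf w i).symm
  rw [e0] at ht2 ht1 ⊢
  obtain ⟨i', hi'⟩ : ∃ i' : ℕ, i' = i % orderOf w := ⟨_, rfl⟩
  rw [← hi'] at ht2 ht1 ⊢
  have hlt : i' < 2 ^ d := by
    rw [hi', hw]; exact Nat.mod_lt _ (by positivity)
  have h1 : orderOf w ∣ i' * 2 := by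
    rw [orderOf_dvd_iff_pow_eq_one, pow_mul]; exact ht2
  have h2 : 2 ^ d = 2 ^ (d - 1) * 2 := by
    rw [← pow_succ]; congr 1; omega
  rw [hw, h2] at h1
  have h3 : 2 ^ (d - 1) ∣ i' := Nat.dvd_of_mul_dvd_mul_right (by norm_num) h1
  obtain ⟨c, hc⟩ := h3
  have hc2 : c < 2 := by
    by_contra hcon
    push Not at hcon
    have : 2 ^ (d - 1) * 2 ≤ 2 ^ (d - 1) * c := Nat.mul_le_mul_left _ hcon
    omega
  interval_cases c
  · exfalso; apply ht1; rw [hc]; simp
  · rw [hc, mul_one]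

theorem exists_normal_two [Finite G] (P : Sylow 2 G) {d : ℕ} (hd : 1 ≤ d)
    (hdn : 2 ^ (d + 1) < Nat.card (P : Subgroup G)) (hH : HHyp 2 (P : Subgroup G) d)
    (hsub : ∀ K : Subgroup G, (P : Subgroup G) ≤ K → K ≠ ⊤ → HasNormalPComplement 2 ↥K)
    (hno : ¬ ∃ K : Subgroup G, K.Normal ∧ K.index = 2) :
    ∃ Z : Subgroup G, Z.Normal ∧ Nat.card Z = 2 ∧ Z ≤ (P : Subgroup G) := by
  classical
  have : Fact (Nat.Prime 2) := ⟨Nat.prime_two⟩
  obtain ⟨n, hn⟩ := IsPGroup.iff_card.mp P.2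
  have hdn' : d + 1 < n := by
    rw [hn] at hdn; exact (Nat.pow_lt_pow_iff_right (by norm_num)).mp hdn
  obtain ⟨M, -, hMP, hMc⟩ := Cfsg.Agent.Lib.Helper9.oa_exists_between 2 (⊥ : Subgroup G)
    (P : Subgroup G) bot_le (by simp : Nat.card (⊥ : Subgroup G) = 2 ^ 0) hn (Nat.zero_le (n - 1))
    (Nat.sub_le n 1)
  have hPM : Nat.card (P : Subgroup G) = 2 * Nat.card M := by
    rw [hn, hMc, ← pow_succ']; congr 1; omega
  have hrel : M.relIndex (P : Subgroup G) = 2 := by
    have h1 := Cfsg.Agent.Lib.Helper22.card_mul_relIndex_of_le hMP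
    rw [hPM, mul_comm 2] at h1
    exact Nat.eq_of_mul_eq_mul_left Nat.card_pos h1
  have hMnorm : (P : Subgroup G) ≤ Subgroup.normalizer (M : Set G) :=
    normal_subgroupOf_of_index_prime (P : Subgroup G) M P.2 hMP hPM
  have hlt : M < (P : Subgroup G) := by
    refine lt_of_le_of_ne hMP ?_
    intro h
    rw [h] at hPM
    have : 0 < Nat.card (P : Subgroup G) := Nat.card_pos
    omega
  obtain ⟨y₀, hy₀P, hy₀M⟩ := SetLike.exists_of_lt hlt
  have hex : ∃ m : ℕ, ∃ y ∈ (P : Subgroup G), y ∉ M ∧ orderOf y = m := ⟨_, y₀, hy₀P, hy₀M, rfl⟩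
  obtain ⟨x, hxP, hxM, hxo⟩ := Nat.find_spec hex
  have hmin : ∀ y ∈ (P : Subgroup G), y ∉ M → orderOf x ≤ orderOf y := by
    intro y hy hyM
    rw [hxo]
    exact Nat.find_min' hex ⟨y, hy, hyM, rfl⟩
  obtain ⟨k, hk⟩ := Cfsg.Agent.Lib.Helper22.orderOf_of_mem_pgroup 2 (P : Subgroup G) P.2 x hxP
  have hk1 : 1 ≤ k := by
    by_contra h
    have h0 : k = 0 := by omega
    rw [h0, pow_zero, orderOf_eq_one_iff] at hk
    exact hxM (hk ▸ M.one_mem)
  have hord : ∀ y ∈ (P : Subgroup G), y ∉ M → 2 ^ (k - 1) < orderOf y := by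
    intro y hy hyM
    have h1 := hmin y hy hyM
    rw [hk] at h1
    have h2 : 2 ^ (k - 1) < 2 ^ k := (Nat.pow_lt_pow_iff_right (by norm_num)).mpr (by omega)
    omega
  by_contra hcon
  apply hno
  have hnc : ∀ g : G, g * x * g⁻¹ ∉ M := by
    intro g hgM
    by_cases hkd : k ≤ d
    · have hzP : Subgroup.zpowers x ≤ (P : Subgroup G) := Subgroup.zpowers_le.mpr hxP
      have hzc : Nat.card (Subgroup.zpowers x) = 2 ^ k := by rw [Nat.card_zpowers, hk]
      obtain ⟨E, hzE, hEP, hEc⟩ := Cfsg.Agent.Lib.Helper9.oa_exists_between 2 (Subgroup.zpowers x)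
        (P : Subgroup G) hzP hzc hn hkd (by omega)
      have hxE : x ∈ E := hzE (Subgroup.mem_zpowers x)
      have hscE := hH E hEP (Or.inl hEc)
      obtain ⟨j, hj⟩ := IsPGroup.iff_card.mp
        (P.2.to_le ((inf_le_left : E ⊓ M ≤ E).trans hEP))
      have hjd : j ≤ d := by
        have h1 := Subgroup.card_dvd_of_le (inf_le_left : E ⊓ M ≤ E)
        rw [hj, hEc] at h1
        exact (Nat.pow_dvd_pow_iff_le_right (by norm_num)).mp h1
      obtain ⟨E', hE₀E', hE'M, hE'c⟩ := Cfsg.Agent.Lib.Helper9.oa_exists_between 2 (E ⊓ M) M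
        inf_le_right hj hMc hjd (by omega)
      have hscE' := hH E' (hE'M.trans hMP) (Or.inl hE'c)
      have hinf : E ⊓ E' = E ⊓ M :=
        le_antisymm (inf_le_inf_left E hE'M) (le_inf inf_le_left hE₀E')
      have hsc₀ : SC (P : Subgroup G) (E ⊓ M) := hinf ▸ hscE.inf hscE'
      have h1 : g * x * g⁻¹ ∈ E := hscE x hxE g (hMP hgM)
      have h2 : g * x * g⁻¹ ∈ E ⊓ M := Subgroup.mem_inf.mpr ⟨h1, hgM⟩
      have e : g⁻¹ * (g * x * g⁻¹) * g⁻¹⁻¹ = x := by group
      have h3 := hsc₀ _ h2 g⁻¹ (by rw [e]; exact hxP)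
      rw [e] at h3
      exact hxM (Subgroup.mem_inf.mp h3).2
    · push Not at hkd
      obtain ⟨w, hw⟩ : ∃ w : G, w = x ^ 2 ^ (k - d) := ⟨_, rfl⟩
      have hwo : orderOf w = 2 ^ d := by
        rw [hw, orderOf_pow_of_dvd (by positivity)
          (by rw [hk]; exact pow_dvd_pow 2 (Nat.sub_le k d)), hk,
          Nat.pow_div (Nat.sub_le k d) (by norm_num)]
        congr 1; omega
      have hwP : w ∈ (P : Subgroup G) := by rw [hw]; exact (P : Subgroup G).pow_mem hxP _
      have hYP : Subgroup.zpowers w ≤ (P : Subgroup G) := Subgroup.zpowers_le.mpr hwP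
      have hYc : Nat.card (Subgroup.zpowers w) = 2 ^ d := by rw [Nat.card_zpowers, hwo]
      have hscY := hH _ hYP (Or.inl hYc)
      have hgw : g * w * g⁻¹ ∈ (P : Subgroup G) := by
        have : g * w * g⁻¹ = (g * x * g⁻¹) ^ 2 ^ (k - d) := by
          rw [hw, conj_pow]
        rw [this]
        exact (P : Subgroup G).pow_mem (hMP hgM) _
      have hgY : ∀ y ∈ Subgroup.zpowers w, g * y * g⁻¹ ∈ (P : Subgroup G) := by
        intro y hy
        obtain ⟨i, rfl⟩ := Subgroup.mem_zpowers_iff.mp hy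
        have : g * w ^ i * g⁻¹ = (g * w * g⁻¹) ^ i := by rw [conj_zpow]
        rw [this]
        exact (P : Subgroup G).zpow_mem hgw i
      have hgN : g ∈ Subgroup.normalizer ((Subgroup.zpowers w : Subgroup G) : Set G) :=
        hscY.mem_normalizer hgY
      by_cases hN : Subgroup.normalizer ((Subgroup.zpowers w : Subgroup G) : Set G) = ⊤
      · -- the cyclic group is normal: a normal subgroup of order two
        apply hcon
        have hzo : orderOf (w ^ 2 ^ (d - 1)) = 2 := by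
          rw [orderOf_pow_of_dvd (by positivity)
            (by rw [hwo]; exact pow_dvd_pow 2 (Nat.sub_le d 1)), hwo,
            Nat.pow_div (Nat.sub_le d 1) (by norm_num)]
          have : d - (d - 1) = 1 := by omega
          rw [this, pow_one]
        have hzY : w ^ 2 ^ (d - 1) ∈ Subgroup.zpowers w := Subgroup.pow_mem _ (Subgroup.mem_zpowers w) _
        refine ⟨Subgroup.zpowers (w ^ 2 ^ (d - 1)), ?_, ?_, ?_⟩
        · rw [← Subgroup.normalizer_eq_top_iff, eq_top_iff]
          intro a _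
          apply mem_normalizer_of_conj_mem
          intro t ht
          obtain ⟨i, rfl⟩ := Subgroup.mem_zpowers_iff.mp ht
          have e1 : a * (w ^ 2 ^ (d - 1)) ^ i * a⁻¹ = (a * w ^ 2 ^ (d - 1) * a⁻¹) ^ i := by
            rw [conj_zpow]
          rw [e1]
          apply Subgroup.zpow_mem
          have haN : a ∈ Subgroup.normalizer ((Subgroup.zpowers w : Subgroup G) : Set G) := by
            rw [hN]; trivial
          have h1 : a * w ^ 2 ^ (d - 1) * a⁻¹ ∈ Subgroup.zpowers w :=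
            (Subgroup.mem_normalizer_iff.mp haN _).mp hzY
          have hz2 : (w ^ 2 ^ (d - 1)) ^ 2 = 1 := by
            have := pow_orderOf_eq_one (w ^ 2 ^ (d - 1))
            rwa [hzo] at this
          have h2 : (a * w ^ 2 ^ (d - 1) * a⁻¹) ^ 2 = 1 := by
            rw [conj_pow, hz2]; group
          have h3 : a * w ^ 2 ^ (d - 1) * a⁻¹ ≠ 1 := by
            intro h
            have h4 : w ^ 2 ^ (d - 1) = 1 := by
              have : w ^ 2 ^ (d - 1) = a⁻¹ * (a * w ^ 2 ^ (d - 1) * a⁻¹) * a := by group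
              rw [this, h]; group
            rw [← orderOf_eq_one_iff, hzo] at h4
            omega
          rw [eq_of_sq_eq_one_of_mem_zpowers hd hwo h1 h2 h3]
          exact Subgroup.mem_zpowers _
        · rw [Nat.card_zpowers, hzo]
        · exact Subgroup.zpowers_le.mpr (hYP hzY)
      · have hPN : (P : Subgroup G) ≤
            Subgroup.normalizer ((Subgroup.zpowers w : Subgroup G) : Set G) :=
          hscY.le_normalizer hYP
        have hnpc := hsub _ hPN hN
        obtain ⟨u, hu, hux⟩ := controls_of_npc _ P hPN hnpc x hxP g hgN (hMP hgM)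
        rw [hux] at hgM
        exact hxM ((Subgroup.mem_normalizer_iff.mp (hMnorm hu) x).mpr hgM)
  obtain ⟨K, hKn, hKi, -⟩ := Cfsg.Agent.Lib.Helper19.exists_index_two_of_not_conj_mem P M hMP hrel
    k hk1 hord x hxP hk hnc
  exact ⟨K, hKn, hKi⟩

end Cfsg.Agent.Lib.Helper18.HSub
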