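import Mathlib
import Cfsg.Agent.Lib.Helper18.HSub8
import Cfsg.Agent.Lib.Helper18.HSub10
import Cfsg.Agent.Lib.Helper1.GNPC.ZJMain

set_option autoImplicit false

/-! The main induction: all subgroups of a fixed order strongly closed, `p` the least prime. -/

namespace Cfsg.Agent.Lib.Helper18.HSub

open Cfsg Cfsg.Agent.Lib.Helper1.TNPC

universe u

theorem ctA_comm {G : Type*} [Group G] (P : Subgroup G) :
    ∀ a ∈ Cfsg.centerThompsonAOf P, ∀ b ∈ Cfsg.centerThompsonAOf P, a * b = b * a := by
  intro a ha b hb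
  unfold Cfsg.centerThompsonAOf at ha hb
  exact Subgroup.mem_centralizer_iff.mp (Subgroup.mem_inf.mp hb).2 a (Subgroup.mem_inf.mp ha).1

theorem card_map_mk'_of_le {G : Type*} [Group G] [Finite G] (N P : Subgroup G) [N.Normal]
    (hNP : N ≤ P) :
    Nat.card P = Nat.card N * Nat.card (P.map (QuotientGroup.mk' N)) := by
  have h1 := card_comap_mk' N (P.map (QuotientGroup.mk' N))
  rw [Subgroup.comap_map_eq_self (by rw [QuotientGroup.ker_mk']; exact hNP)] at h1
  exact h1

theorem main_aux {p : ℕ} [hp : Fact p.Prime] :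
    ∀ (c : ℕ) (G : Type u) [Group G] [Finite G], Nat.card G = c → MinP p G →
      ∀ (P : Sylow p G) (d : ℕ), 1 ≤ d → p ^ d < Nat.card (P : Subgroup G) →
        HHyp p (P : Subgroup G) d → HasNormalPComplement p G := by
  intro c
  induction c using Nat.strong_induction_on with
  | _ c ih =>
  intro G _ _ hc hmin P d hd1 hdn hH
  have hp1 := hp.out.one_lt
  by_cases hd2 : d ≤ 2
  · exact npc_small hmin P hd1 hd2 hdn hH
  push Not at hd2
  obtain ⟨n, hn⟩ := IsPGroup.iff_card.mp P.2
  have hdn' : d < n := by
    rw [hn] at hdn; exact (Nat.pow_lt_pow_iff_right hp1).mp hdn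
  -- induction hypothesis for subgroups
  have hsubIH : ∀ K : Subgroup G, K ≠ ⊤ → ∀ PK : Sylow p ↥K,
      p ^ d < Nat.card (PK : Subgroup ↥K) → HasNormalPComplement p ↥K := by
    intro K hK PK hPK
    have hlt : Nat.card ↥K < c := by
      rw [← hc]
      have h1 : K < ⊤ := lt_top_iff_ne_top.mpr hK
      have h2 := card_lt_of_le_of_ne h1.le h1.ne
      rwa [Subgroup.card_top] at h2
    exact ih _ hlt ↥K rfl (hmin.subgroup K) PK d hd1 hPK (hH.subgroup K P PK)
  have hsub : ∀ K : Subgroup G, (P : Subgroup G) ≤ K → K ≠ ⊤ → HasNormalPComplement p ↥K := by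
    intro K hPK hK
    apply hsubIH K hK (P.subtype hPK)
    have h1 : Nat.card ((P.subtype hPK : Sylow p ↥K) : Subgroup ↥K) = Nat.card (P : Subgroup G) :=
      Nat.card_congr (Subgroup.subgroupOfEquivOfLe hPK).toEquiv
    rw [h1]; exact hdn
  -- induction hypothesis for quotients
  have hquotIH : ∀ (N : Subgroup G) [N.Normal], N ≤ (P : Subgroup G) → ∀ m : ℕ,
      Nat.card N = p ^ m → 1 ≤ m → m < d → p ^ (d - m) ≠ 2 →
      HasNormalPComplement p (G ⧸ N) := by
    intro N _ hNP m hNc hm1 hmd h2
    have hlt : Nat.card (G ⧸ N) < c := by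
      rw [← hc, Subgroup.card_eq_card_quotient_mul_card_subgroup N, hNc]
      have h3 : 1 < p ^ m := Nat.one_lt_pow (by omega) hp1
      have h4 : 0 < Nat.card (G ⧸ N) := Nat.card_pos
      nlinarith
    have hcard := card_map_mk'_of_le N (P : Subgroup G) hNP
    rw [hn, hNc] at hcard
    have hPq : Nat.card ((P : Subgroup G).map (QuotientGroup.mk' N)) = p ^ (n - m) := by
      have h5 : p ^ n = p ^ m * p ^ (n - m) := by rw [← pow_add]; congr 1; omega
      rw [h5] at hcard
      exact (Nat.eq_of_mul_eq_mul_left (pow_pos hp.out.pos m) hcard).symm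
    refine ih _ hlt (G ⧸ N) rfl (hmin.quotient N)
      (P.mapSurjective (QuotientGroup.mk'_surjective N)) (d - m) (by omega) ?_ ?_
    · rw [Sylow.coe_mapSurjective, hPq]
      exact (Nat.pow_lt_pow_iff_right hp1).mpr (by omega)
    · rw [Sylow.coe_mapSurjective]
      exact HHyp.quotient N (P : Subgroup G) hNP hNc hmd.le h2 hH
  by_cases hp2 : p = 2
  · -- the prime two
    subst hp2
    by_cases hmax : 2 ^ (d + 1) = Nat.card (P : Subgroup G)
    · apply npc_of_maximal_sc P
      intro M hMP hrel
      apply hH M hMP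
      left
      have h1 := Cfsg.Agent.Lib.Helper22.card_mul_relIndex_of_le hMP
      rw [hrel, ← hmax, pow_succ] at h1
      exact Nat.eq_of_mul_eq_mul_right (by norm_num) h1
    have hlt2 : 2 ^ (d + 1) < Nat.card (P : Subgroup G) := by
      rw [hn] at hmax ⊢
      have h1 : d + 1 ≤ n := hdn'
      rcases h1.lt_or_eq with h2 | h2
      · exact (Nat.pow_lt_pow_iff_right (by norm_num)).mpr h2
      · exact absurd (by rw [h2]) hmax
    by_cases hno : ∃ K : Subgroup G, K.Normal ∧ K.index = 2
    · obtain ⟨K, hKn, hKi⟩ := hno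
      haveI := hKn
      have hKtop : K ≠ ⊤ := by
        intro h
        rw [h, Subgroup.index_top] at hKi
        omega
      let PK : Sylow 2 ↥K := default
      have hfac : (Nat.card G).factorization 2 = n := by
        have h1 := Sylow.card_eq_multiplicity P
        rw [hn] at h1
        exact (Nat.pow_right_injective (le_refl 2) h1).symm
      have hKcard : Nat.card G = Nat.card ↥K * 2 := by
        rw [← hKi, Subgroup.card_mul_index]
      have hfacK : (Nat.card ↥K).factorization 2 = n - 1 := by
        have h1 : (Nat.card ↥K * 2).factorization 2 = (Nat.card ↥K).factorization 2 + 1 := by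
          rw [Nat.factorization_mul Nat.card_pos.ne' (by norm_num)]
          simp [Nat.prime_two.factorization_self]
        rw [← hKcard, hfac] at h1
        omega
      have hPKc : Nat.card (PK : Subgroup ↥K) = 2 ^ (n - 1) := by
        rw [Sylow.card_eq_multiplicity, hfacK]
      have hnpcK : HasNormalPComplement 2 ↥K := by
        apply hsubIH K hKtop PK
        rw [hPKc]
        rw [hn] at hlt2
        have := (Nat.pow_lt_pow_iff_right (by norm_num : 1 < 2)).mp hlt2
        exact (Nat.pow_lt_pow_iff_right (by norm_num)).mpr (by omega)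
      exact npc_of_normal_ppow_index K 1 (by rw [hKi, pow_one]) hnpcK
    · obtain ⟨Z, hZn, hZc, hZP⟩ := exists_normal_two P hd1 hlt2 hH hsub hno
      haveI := hZn
      have hcen := central_of_card_prime hmin Z hZc
      have hZp : IsPGroup 2 Z := IsPGroup.of_card (n := 1) (by rw [hZc, pow_one])
      have hq := hquotIH Z hZP 1 (by rw [hZc, pow_one]) le_rfl (by omega) (by
        intro h
        have h3 : 2 ^ 2 ≤ 2 ^ (d - 1) := Nat.pow_le_pow_right (by norm_num) (by omega)
        omega)
      exact npc_of_central_quotient Z hZp (fun z hz g => hcen g z hz) hq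
  · -- odd primes
    have hPne : (P : Subgroup G) ≠ ⊥ := by
      intro h
      rw [h, Subgroup.card_bot] at hdn
      have : 1 ≤ p ^ d := Nat.one_le_pow _ _ hp.out.pos
      omega
    by_cases hN : Subgroup.normalizer (Cfsg.centerThompsonAOf (P : Subgroup G) : Set G) = ⊤
    · haveI hAn : (Cfsg.centerThompsonAOf (P : Subgroup G)).Normal :=
        Subgroup.normalizer_eq_top_iff.mp hN
      apply minimal_normal_step hmin P (by omega) hdn hH (Cfsg.centerThompsonAOf (P : Subgroup G))
        (Cfsg.Agent.Lib.Helper1.GNPC.ctA_le _)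
        (Cfsg.Agent.Lib.Helper1.GNPC.ctA_ne_bot P.2 hPne) (ctA_comm _)
      intro N _ hNP m hNc hm1 hmd
      apply hquotIH N hNP m hNc hm1 hmd
      intro h
      have h1 : p ∣ 2 := by
        rw [← h]; exact dvd_pow_self p (by omega)
      exact hp2 ((Nat.prime_dvd_prime_iff_eq hp.out Nat.prime_two).mp h1)
    · apply Cfsg.Agent.Lib.Helper1.GNPC.glauberman_thompson_npc hp2 P
      apply hsub _ ?_ hN
      exact Subgroup.le_normalizer.trans
        (Cfsg.Agent.Lib.Helper1.GNPC.normalizer_le_normalizer_ctA (P : Subgroup G))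

end Cfsg.Agent.Lib.Helper18.HSub
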