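import Mathlib
import Cfsg.Agent.Lib.Helper18.HSub11
import Cfsg.Agent.Lib.helper17.PAct
import Cfsg.Agent.S0579

set_option autoImplicit false

/-! Supersolvability from subgroups of a fixed order: general lemmas. -/

namespace Cfsg.Agent.Lib.Helper18.HSup

open Cfsg Cfsg.Agent.Lib.Helper18.HSub

open scoped commutatorElement

universe u

variable {G : Type*} [Group G]

/-- a Sylow subgroup of a subgroup, as a subgroup of the ambient group -/
theorem exists_sylow_subgroup [Finite G] (D : Subgroup G) (r : ℕ) [Fact r.Prime] :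
    ∃ R : Subgroup G, R ≤ D ∧ IsPGroup r R ∧ ¬ r ∣ R.relIndex D := by
  obtain ⟨R₀⟩ : Nonempty (Sylow r ↥D) := inferInstance
  refine ⟨(R₀ : Subgroup ↥D).map D.subtype, ?_, R₀.2.map _, ?_⟩
  · rintro _ ⟨x, -, rfl⟩
    exact x.2
  · have h1 : ((R₀ : Subgroup ↥D).map D.subtype).subgroupOf D = (R₀ : Subgroup ↥D) :=
      Subgroup.comap_map_eq_self_of_injective D.subtype_injective _
    rw [Subgroup.relIndex, h1]
    exact R₀.not_dvd_index

/-- a subgroup containing a Sylow subgroup of `D` for every prime contains `D` -/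
theorem le_of_sylow_cover [Finite G] (D C : Subgroup G)
    (h : ∀ r : ℕ, r.Prime → ∃ R : Subgroup G, R ≤ D ∧ R ≤ C ∧ IsPGroup r R ∧ ¬ r ∣ R.relIndex D) :
    D ≤ C := by
  have hcard : Nat.card D ∣ Nat.card (D ⊓ C : Subgroup G) := by
    refine (Nat.dvd_iff_prime_pow_dvd_dvd _ _).2 fun r k hr hk => ?_
    obtain ⟨R, hRD, hRC, hRp, hidx⟩ := h r hr
    have h1 := Cfsg.Agent.Lib.Helper22.card_mul_relIndex_of_le hRD
    have h2 : r ^ k ∣ Nat.card R := by
      rw [← h1] at hk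
      refine Nat.Coprime.dvd_of_dvd_mul_right ?_ hk
      exact Nat.Coprime.pow_left k ((Nat.Prime.coprime_iff_not_dvd hr).mpr hidx)
    exact h2.trans (Subgroup.card_dvd_of_le (le_inf hRD hRC))
  have h3 := Subgroup.eq_of_le_of_card_ge (inf_le_left : D ⊓ C ≤ D)
    (Nat.le_of_dvd Nat.card_pos hcard)
  rw [← h3]; exact inf_le_right

/-- lifting elements of order prime to `p` -/
theorem exists_lift_coprime [Finite G] {H : Type*} [Group H] (p : ℕ) [hp : Fact p.Prime]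
    (f : G →* H) (D : Subgroup G) (y : H) (hy : y ∈ D.map f) (hyo : (orderOf y).Coprime p) :
    ∃ e ∈ D, f e = y ∧ (orderOf e).Coprime p := by
  obtain ⟨e₀, he₀, rfl⟩ := hy
  have ho : orderOf e₀ ≠ 0 := (orderOf_pos e₀).ne'
  obtain ⟨a, m, hm, hom⟩ := Nat.exists_eq_pow_mul_and_not_dvd ho p hp.out.ne_one
  have h1 : orderOf (e₀ ^ (p ^ a)) = m := by
    rw [orderOf_pow_of_dvd (pow_ne_zero _ hp.out.ne_zero) (by rw [hom]; exact dvd_mul_right _ _),
      hom, Nat.mul_div_cancel_left _ (pow_pos hp.out.pos _)]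
  obtain ⟨t, ht⟩ := exists_pow_eq_self_of_coprime
    (show (p ^ a).Coprime (orderOf (f e₀)) from Nat.Coprime.pow_left a hyo.symm)
  refine ⟨(e₀ ^ (p ^ a)) ^ t, D.pow_mem (D.pow_mem he₀ _) _, ?_, ?_⟩
  · rw [map_pow, map_pow]; exact ht
  · apply Nat.Coprime.coprime_dvd_left (orderOf_pow_dvd t)
    rw [h1]
    exact ((Nat.Prime.coprime_iff_not_dvd hp.out).mpr hm).symm

/-- a normal subgroup of order `p` inside an abelian normal subgroup of exponent `p` on which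
commutators and `(p - 1)`-th powers act trivially -/
theorem exists_normal_prime_in [Finite G] {p : ℕ} [hp : Fact p.Prime] (E : Subgroup G)
    [hEn : E.Normal] (hEc : ∀ x ∈ E, ∀ y ∈ E, x * y = y * x) (hEp : ∀ x ∈ E, x ^ p = 1)
    (hE : E ≠ ⊥)
    (hcomm : ∀ g h : G, ∀ v ∈ E, ⁅g, h⁆ * v = v * ⁅g, h⁆)
    (hexp : ∀ g : G, ∀ v ∈ E, g ^ (p - 1) * v * (g ^ (p - 1))⁻¹ = v) :
    ∃ v ∈ E, v ≠ 1 ∧ (Subgroup.zpowers v).Normal := by
  classical
  haveI : Fintype G := Fintype.ofFinite G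
  obtain ⟨E', hE'E, hE'ne, hE'n, hE's⟩ :=
    Cfsg.Agent.S0579.exists_common_eigen E hEc hEp hE hcomm hexp Finset.univ
  obtain ⟨v, hv1⟩ := (Subgroup.ne_bot_iff_exists_ne_one).mp hE'ne
  refine ⟨v.1, hE'E v.2, fun h => hv1 (Subtype.ext h), ⟨fun x hx g => ?_⟩⟩
  obtain ⟨i, rfl⟩ := Subgroup.mem_zpowers_iff.mp hx
  obtain ⟨k, hk⟩ := hE's g (Finset.mem_univ g)
  have : g * v.1 ^ i * g⁻¹ = (v.1 ^ k) ^ i := by
    rw [← hk v.1 v.2, conj_zpow]
  rw [this]
  exact Subgroup.zpow_mem _ (Subgroup.pow_mem _ (Subgroup.mem_zpowers _) k) i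

/-- a `p`-group `T` normalizing a nontrivial `p`-group `Q` centralizes an element of order `p`
of `Q` -/
theorem exists_central_order_p [Finite G] {p : ℕ} [hp : Fact p.Prime] {T Q : Subgroup G}
    (hT : IsPGroup p T) (hQ : IsPGroup p Q) (hQ1 : Q ≠ ⊥)
    (hTQ : T ≤ Subgroup.normalizer (Q : Set G)) :
    ∃ z ∈ Q, z ≠ 1 ∧ z ^ p = 1 ∧ ∀ t ∈ T, t * z = z * t := by
  have h1 := Cfsg.Agent.Lib.helper17.inf_centralizer_ne_bot_of_pgroups hT hQ hQ1 hTQ
  obtain ⟨⟨z₀, hz₀⟩, hz₀1⟩ := (Subgroup.ne_bot_iff_exists_ne_one).mp h1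
  have hz₀ne : z₀ ≠ 1 := fun h => hz₀1 (Subtype.ext h)
  obtain ⟨hz₀Q, hz₀c⟩ := Subgroup.mem_inf.mp hz₀
  obtain ⟨k, hk⟩ := Cfsg.Agent.Lib.Helper22.orderOf_of_mem_pgroup p Q hQ z₀ hz₀Q
  have hk1 : 1 ≤ k := by
    by_contra hcon
    have h0 : k = 0 := by omega
    rw [h0, pow_zero, orderOf_eq_one_iff] at hk
    exact hz₀ne hk
  have ho : orderOf (z₀ ^ (p ^ (k - 1))) = p := by
    rw [orderOf_pow_of_dvd (pow_ne_zero _ hp.out.ne_zero)
      (by rw [hk]; exact pow_dvd_pow p (Nat.sub_le k 1)), hk]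
    have : p ^ k = p ^ (k - 1) * p := by rw [← pow_succ]; congr 1; omega
    rw [this, Nat.mul_div_cancel_left _ (pow_pos hp.out.pos _)]
  refine ⟨z₀ ^ (p ^ (k - 1)), Q.pow_mem hz₀Q _, ?_, ?_, ?_⟩
  · intro h
    rw [h, orderOf_one] at ho
    exact hp.out.one_lt.ne ho
  · have h2 := pow_orderOf_eq_one (z₀ ^ (p ^ (k - 1)))
    rw [ho] at h2
    exact h2
  · intro t ht
    have h2 : z₀ * t = t * z₀ := (Subgroup.mem_centralizer_iff.mp hz₀c t ht).symm
    have h3 : Commute t z₀ := h2.symm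
    exact (h3.pow_right _).eq

end Cfsg.Agent.Lib.Helper18.HSup
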