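import Mathlib
import Cfsg.Agent.Lib.Helper18.HSup1
import Cfsg.Agent.Lib.helper4.Supersolvable

set_option autoImplicit false

/-! A normal `p`-subgroup `Q` with supersolvable quotient, such that the elements of order prime
to `p` of a normal subgroup `D` containing all commutators and `(p - 1)`-th powers centralize `Q`. -/

namespace Cfsg.Agent.Lib.Helper18.HSup

open Cfsg Cfsg.Agent.Lib.Helper18.HSub Cfsg.Agent.Lib.helper4

open scoped commutatorElement

universe u

theorem b1_aux {p : ℕ} [hp : Fact p.Prime] :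
    ∀ (c : ℕ) (G : Type u) [Group G] [Finite G], Nat.card G = c →
      ∀ (Q D : Subgroup G) [Q.Normal] [D.Normal], IsPGroup p Q → IsSupersolvable (G ⧸ Q) →
        (∀ g h : G, ⁅g, h⁆ ∈ D) → (∀ g : G, g ^ (p - 1) ∈ D) →
        (∀ e ∈ D, (orderOf e).Coprime p → ∀ x ∈ Q, e * x = x * e) → IsSupersolvable G := by
  intro c
  induction c using Nat.strong_induction_on with
  | _ c ih =>
  intro G _ _ hc Q D hQn hDn hQ hGQ hcomm hpow hcent
  by_cases hQ1 : Q = ⊥
  · subst hQ1
    exact isSupersolvable_of_mulEquiv (QuotientGroup.quotientBot) hGQ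
  -- a Sylow `p`-subgroup of `D`
  obtain ⟨S, hSD, hSp, hSidx⟩ := exists_sylow_subgroup D p
  have hT : IsPGroup p (S ⊔ Q : Subgroup G) := hSp.to_sup_of_normal_right hQ
  obtain ⟨z, hzQ, hz1, hzp, hzc⟩ := exists_central_order_p hT hQ hQ1
    (by rw [Subgroup.normalizer_eq_top]; exact le_top)
  -- `z` commutes with `D`
  have hzD : ∀ e ∈ D, e * z = z * e := by
    have hle : D ≤ Subgroup.centralizer {z} := by
      apply le_of_sylow_cover
      intro r hr
      by_cases hrp : r = p
      · subst hrp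
        refine ⟨S, hSD, ?_, hSp, hSidx⟩
        intro s hs
        rw [Subgroup.mem_centralizer_singleton_iff]
        exact hzc s (Subgroup.mem_sup_left hs)
      · haveI : Fact r.Prime := ⟨hr⟩
        obtain ⟨R, hRD, hRp, hRidx⟩ := exists_sylow_subgroup D r
        refine ⟨R, hRD, ?_, hRp, hRidx⟩
        intro e he
        obtain ⟨a, ha⟩ := Cfsg.Agent.Lib.Helper22.orderOf_of_mem_pgroup r R hRp e he
        have hcop : (orderOf e).Coprime p := by
          rw [ha]
          exact Nat.Coprime.pow_left a ((Nat.coprime_primes hr hp.out).mpr hrp)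
        rw [Subgroup.mem_centralizer_singleton_iff]
        exact hcent e (hRD he) hcop z hzQ
    intro e he
    have := hle he
    rw [Subgroup.mem_centralizer_singleton_iff] at this
    exact this
  -- the subgroup `N`
  obtain ⟨N, hN⟩ : ∃ N : Subgroup G, ∀ a, a ∈ N ↔
      (a ∈ Q ∧ a ^ p = 1 ∧ (∀ x ∈ Q, a * x = x * a) ∧ ∀ e ∈ D, e * a = a * e) := by
    refine ⟨{ carrier := {a | a ∈ Q ∧ a ^ p = 1 ∧ (∀ x ∈ Q, a * x = x * a) ∧ ∀ e ∈ D, e * a = a * e}
              one_mem' := ⟨Q.one_mem, one_pow _, fun x _ => by simp, fun e _ => by simp⟩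
              mul_mem' := ?_
              inv_mem' := ?_ }, fun a => Iff.rfl⟩
    · rintro a b ⟨haQ, hap, hac, haD⟩ ⟨hbQ, hbp, hbc, hbD⟩
      refine ⟨Q.mul_mem haQ hbQ, ?_, ?_, ?_⟩
      · have : Commute a b := hac b hbQ
        rw [this.mul_pow, hap, hbp, one_mul]
      · intro x hx
        rw [mul_assoc, hbc x hx, ← mul_assoc, hac x hx, mul_assoc]
      · intro e he
        rw [← mul_assoc, haD e he, mul_assoc, hbD e he, ← mul_assoc]
    · rintro a ⟨haQ, hap, hac, haD⟩
      refine ⟨Q.inv_mem haQ, by rw [inv_pow, hap, inv_one], ?_, ?_⟩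
      · intro x hx
        have := hac x hx
        calc a⁻¹ * x = a⁻¹ * (x * a) * a⁻¹ := by group
          _ = a⁻¹ * (a * x) * a⁻¹ := by rw [this]
          _ = x * a⁻¹ := by group
      · intro e he
        have := haD e he
        calc e * a⁻¹ = a⁻¹ * (a * e) * a⁻¹ := by group
          _ = a⁻¹ * (e * a) * a⁻¹ := by rw [this]
          _ = a⁻¹ * e := by group
  have hNn : N.Normal := by
    refine ⟨fun a ha g => ?_⟩
    obtain ⟨haQ, hap, hac, haD⟩ := (hN a).mp ha
    refine (hN _).mpr ⟨hQn.conj_mem a haQ g, by rw [conj_pow, hap]; group, ?_, ?_⟩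
    · intro x hx
      have h1 := hac (g⁻¹ * x * g) (by simpa using hQn.conj_mem x hx g⁻¹)
      calc g * a * g⁻¹ * x = g * (a * (g⁻¹ * x * g)) * g⁻¹ := by group
        _ = g * ((g⁻¹ * x * g) * a) * g⁻¹ := by rw [h1]
        _ = x * (g * a * g⁻¹) := by group
    · intro e he
      have h1 := haD (g⁻¹ * e * g) (by simpa using hDn.conj_mem e he g⁻¹)
      calc e * (g * a * g⁻¹) = g * ((g⁻¹ * e * g) * a) * g⁻¹ := by group
        _ = g * (a * (g⁻¹ * e * g)) * g⁻¹ := by rw [h1]
        _ = g * a * g⁻¹ * e := by group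
  have hNne : N ≠ ⊥ := by
    intro h
    have hzN : z ∈ N :=
      (hN z).mpr ⟨hzQ, hzp, fun x hx => (hzc x (Subgroup.mem_sup_right hx)).symm, hzD⟩
    rw [h, Subgroup.mem_bot] at hzN
    exact hz1 hzN
  obtain ⟨v, hvN, hv1, hVn⟩ := exists_normal_prime_in (p := p) N
    (fun a ha b hb => ((hN a).mp ha).2.2.1 b ((hN b).mp hb).1)
    (fun a ha => ((hN a).mp ha).2.1) hNne
    (fun g h a ha => ((hN a).mp ha).2.2.2 _ (hcomm g h))
    (fun g a ha => by
      have h1 := ((hN a).mp ha).2.2.2 _ (hpow g)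
      rw [h1]; group)
  obtain ⟨hvQ, hvp, -, -⟩ := (hN v).mp hvN
  have hVQ : Subgroup.zpowers v ≤ Q := by
    rw [Subgroup.zpowers_le]; exact hvQ
  have hVcard : Nat.card (Subgroup.zpowers v) = p := by
    rw [Nat.card_zpowers]
    exact orderOf_eq_prime hvp hv1
  have hlt : Nat.card (G ⧸ Subgroup.zpowers v) < c := by
    rw [← hc]
    exact card_quotient_lt _ (by rw [hVcard]; exact hp.out)
  haveI hQ'n : (Q.map (QuotientGroup.mk' (Subgroup.zpowers v))).Normal :=
    Subgroup.Normal.map hQn _ (QuotientGroup.mk'_surjective _)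
  haveI hD'n : (D.map (QuotientGroup.mk' (Subgroup.zpowers v))).Normal :=
    Subgroup.Normal.map hDn _ (QuotientGroup.mk'_surjective _)
  have hquot : IsSupersolvable (G ⧸ Subgroup.zpowers v) := by
    refine ih _ hlt (G ⧸ Subgroup.zpowers v) rfl
      (Q.map (QuotientGroup.mk' (Subgroup.zpowers v)))
      (D.map (QuotientGroup.mk' (Subgroup.zpowers v))) (hQ.map _) ?_ ?_ ?_ ?_
    · exact isSupersolvable_of_mulEquiv
        (QuotientGroup.quotientQuotientEquivQuotient (Subgroup.zpowers v) Q hVQ).symm hGQ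
    · intro g' h'
      obtain ⟨g, rfl⟩ := QuotientGroup.mk'_surjective (Subgroup.zpowers v) g'
      obtain ⟨h, rfl⟩ := QuotientGroup.mk'_surjective (Subgroup.zpowers v) h'
      exact ⟨⁅g, h⁆, hcomm g h, map_commutatorElement _ g h⟩
    · intro g'
      obtain ⟨g, rfl⟩ := QuotientGroup.mk'_surjective (Subgroup.zpowers v) g'
      exact ⟨g ^ (p - 1), hpow g, map_pow _ g _⟩
    · intro e' he' hcop x' hx'
      obtain ⟨e, he, rfl, hecop⟩ := exists_lift_coprime p _ D e' he' hcop
      obtain ⟨x, hx, rfl⟩ := hx'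
      rw [← map_mul, ← map_mul, hcent e he hecop x hx]
  exact isSupersolvable_of_cyclic_normal (Subgroup.zpowers v) hquot

end Cfsg.Agent.Lib.Helper18.HSup
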