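import Mathlib
import Cfsg.Agent.Lib.Helper18.HSup2
import Cfsg.Agent.Lib.Helper21.OmegaLemma

set_option autoImplicit false

/-! A normal `p`-subgroup all of whose subgroups of a fixed order are normal. -/

namespace Cfsg.Agent.Lib.Helper18.HSup

open Cfsg Cfsg.Agent.Lib.Helper18.HSub Cfsg.Agent.Lib.helper4 Cfsg.Agent.Lib.Helper1.TNPC

open scoped commutatorElement

universe u

variable {G : Type*} [Group G]

/-- all subgroups of `Q` of order `p ^ d` (and of order four when `p ^ d = 2`) are normal -/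
def HN (p : ℕ) (Q : Subgroup G) (d : ℕ) : Prop :=
  ∀ F : Subgroup G, F ≤ Q → (Nat.card F = p ^ d ∨ (p ^ d = 2 ∧ Nat.card F = 4)) → F.Normal

theorem HN.hHyp {p d : ℕ} {Q : Subgroup G} (h : HN p Q d) : HHyp p Q d := by
  intro F hFQ hcard x hx g _
  exact (h F hFQ hcard).conj_mem x hx g

theorem HHyp.of_map {p d : ℕ} (K : Subgroup G) (PK : Subgroup ↥K)
    (h : HHyp p (PK.map K.subtype) d) : HHyp p PK d := by
  intro E hEP hcard
  have hE : E.map K.subtype ≤ PK.map K.subtype := Subgroup.map_mono hEP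
  have hc : Nat.card (E.map K.subtype) = Nat.card E :=
    Subgroup.card_map_of_injective K.subtype_injective
  have hsc := h _ hE (by rw [hc]; exact hcard)
  intro x hx g hg
  have h2 := hsc (x : G) ⟨x, hx, rfl⟩ (g : G) ⟨g * x * g⁻¹, hg, by simp⟩
  obtain ⟨y, hy, hyx⟩ := h2
  have h3 : y = g * x * g⁻¹ := by
    apply Subtype.ext
    rw [show ((K.subtype y : G)) = (y : G) from rfl] at hyx
    rw [hyx]; simp
  rw [← h3]; exact hy

theorem exists_bad_subgroup' [Finite G] {p : ℕ} [hp : Fact p.Prime] (P : Subgroup G)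
    (hP : IsPGroup p P)
    (N₁ : Subgroup G) [hN₁n : N₁.Normal] (hN₁P : N₁ ≤ P)
    (hcomm : ∀ a ∈ N₁, ∀ b ∈ N₁, a * b = b * a)
    (hmin : ∀ B : Subgroup G, B.Normal → B ≤ N₁ → B = ⊥ ∨ B = N₁)
    {m₁ d n : ℕ} (hN₁c : Nat.card N₁ = p ^ m₁) (hm₁ : 2 ≤ m₁)
    (hn : Nat.card P = p ^ n) (hm₁d : m₁ ≤ d + 1) (hdn : d < n)
    (M : Subgroup G) (hM : M ≠ ⊤) (hsupp : ∀ g : G, ∃ z ∈ N₁, z⁻¹ * g ∈ M) :
    ∃ E : Subgroup G, E ≤ P ∧ Nat.card E = p ^ d ∧ E ⊓ N₁ ≠ ⊥ ∧ E ⊓ N₁ ≠ N₁ := by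
  have hp1 := hp.out.one_lt
  -- step 1
  have hBn : (N₁ ⊓ M).Normal := by
    rw [← Subgroup.normalizer_eq_top_iff, eq_top_iff]
    intro g _
    apply mem_normalizer_of_conj_mem
    intro x hx
    obtain ⟨hxN, hxM⟩ := Subgroup.mem_inf.mp hx
    obtain ⟨z, hz, hzg⟩ := hsupp g
    have h1 : (z⁻¹ * g) * x * (z⁻¹ * g)⁻¹ ∈ N₁ := hN₁n.conj_mem x hxN _
    have h2 : (z⁻¹ * g) * x * (z⁻¹ * g)⁻¹ ∈ M := M.mul_mem (M.mul_mem hzg hxM) (M.inv_mem hzg)
    have e : g * x * g⁻¹ = z * ((z⁻¹ * g) * x * (z⁻¹ * g)⁻¹) * z⁻¹ := by group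
    have h3 : z * ((z⁻¹ * g) * x * (z⁻¹ * g)⁻¹) * z⁻¹ = (z⁻¹ * g) * x * (z⁻¹ * g)⁻¹ := by
      rw [hcomm z hz _ h1]; group
    rw [e, h3]
    exact Subgroup.mem_inf.mpr ⟨h1, h2⟩
  have hB : N₁ ⊓ M = ⊥ := by
    rcases hmin _ hBn inf_le_left with h | h
    · exact h
    · exfalso
      apply hM
      rw [eq_top_iff]
      intro g _
      obtain ⟨z, hz, hzg⟩ := hsupp g
      have hN₁M : N₁ ≤ M := by rw [← h]; exact inf_le_right
      have : g = z * (z⁻¹ * g) := by group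
      rw [this]
      exact M.mul_mem (hN₁M hz) hzg
  -- step 2
  have hdecomp : ∀ u ∈ P, ∃ z ∈ N₁, z⁻¹ * u ∈ P ⊓ M := by
    intro u hu
    obtain ⟨z, hz, hzu⟩ := hsupp u
    exact ⟨z, hz, Subgroup.mem_inf.mpr
      ⟨P.mul_mem (P.inv_mem (hN₁P hz)) hu, hzu⟩⟩
  -- step 3
  have hPN : P ≤ Subgroup.normalizer (N₁ : Set G) := by
    rw [Subgroup.normalizer_eq_top]; exact le_top
  have hnil : Group.IsNilpotent ↥P := hP.isNilpotent
  have hN₁ne : N₁ ≠ ⊥ := by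
    intro h
    rw [h, Subgroup.card_bot] at hN₁c
    have : 1 < p ^ m₁ := Nat.one_lt_pow (by omega) hp1
    omega
  have hlt := Cfsg.Agent.Lib.Lead.commutator_lt_of_nilpotent N₁ P hN₁P hPN hnil hN₁ne
  have hN₁p : IsPGroup p N₁ := hP.to_le hN₁P
  obtain ⟨i, hi⟩ := IsPGroup.iff_card.mp (hN₁p.to_le hlt.le)
  have him : i < m₁ := by
    have h1 := card_lt_of_le_of_ne hlt.le hlt.ne
    rw [hi, hN₁c] at h1
    exact (Nat.pow_lt_pow_iff_right hp1).mp h1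
  obtain ⟨Q₁, hcQ₁, hQ₁N, hQ₁c⟩ := Cfsg.Agent.Lib.Helper9.oa_exists_between p ⁅N₁, P⁆ N₁
    hlt.le hi hN₁c (show i ≤ m₁ - 1 by omega) (Nat.sub_le m₁ 1)
  have hPQ₁ : P ≤ Subgroup.normalizer (Q₁ : Set G) := by
    intro u hu
    apply mem_normalizer_of_conj_mem
    intro x hx
    have h1 : ⁅u, x⁆ ∈ ⁅P, N₁⁆ := Subgroup.commutator_mem_commutator hu (hQ₁N hx)
    rw [Subgroup.commutator_comm] at h1
    have e : u * x * u⁻¹ = ⁅u, x⁆ * x := by rw [commutatorElement_def]; group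
    rw [e]
    exact Q₁.mul_mem (hcQ₁ h1) hx
  -- step 4
  obtain ⟨T, hTdef⟩ : ∃ T : Subgroup G, T = Q₁ ⊔ (P ⊓ M) := ⟨_, rfl⟩
  have hQ₁T : Q₁ ≤ T := by rw [hTdef]; exact le_sup_left
  have hP₀T : P ⊓ M ≤ T := by rw [hTdef]; exact le_sup_right
  have hTP : T ≤ P := by
    rw [hTdef]; exact sup_le (hQ₁N.trans hN₁P) inf_le_left
  have hTN : T ⊓ N₁ = Q₁ := by
    apply le_antisymm
    · intro x hx
      obtain ⟨hxT, hxN⟩ := Subgroup.mem_inf.mp hx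
      have hxT' : x ∈ ((Q₁ ⊔ (P ⊓ M) : Subgroup G) : Set G) := by
        rw [← hTdef]; exact hxT
      rw [Subgroup.coe_mul_of_right_le_normalizer_left Q₁ _ (inf_le_left.trans hPQ₁)] at hxT'
      obtain ⟨q, hq, u, hu, hqu⟩ := Set.mem_mul.mp hxT'
      have hu1 : u ∈ N₁ ⊓ M := by
        refine Subgroup.mem_inf.mpr ⟨?_, (Subgroup.mem_inf.mp hu).2⟩
        have : u = q⁻¹ * x := by rw [← hqu]; group
        rw [this]
        exact N₁.mul_mem (N₁.inv_mem (hQ₁N hq)) hxN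
      rw [hB, Subgroup.mem_bot] at hu1
      rw [← hqu, hu1, mul_one]
      exact hq
    · exact le_inf hQ₁T hQ₁N
  have hsupT : T ⊔ N₁ = P := by
    apply le_antisymm (sup_le hTP hN₁P)
    intro u hu
    obtain ⟨z, hz, hzu⟩ := hdecomp u hu
    have : u = z * (z⁻¹ * u) := by group
    rw [this]
    exact Subgroup.mul_mem _ (Subgroup.mem_sup_right hz) (Subgroup.mem_sup_left (hP₀T hzu))
  obtain ⟨t, ht⟩ := IsPGroup.iff_card.mp (hP.to_le hTP)
  have htn : t = n - 1 := by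
    have h1 := Cfsg.Agent.Lib.Helper22.card_sup_normal T N₁
    rw [hsupT, hn, hN₁c] at h1
    have h2 : N₁.relIndex T = Q₁.relIndex T := by
      rw [← Subgroup.inf_relIndex_right, inf_comm, hTN]
    have h3 := Cfsg.Agent.Lib.Helper22.card_mul_relIndex_of_le hQ₁T
    rw [hQ₁c, ht] at h3
    rw [h2] at h1
    -- p ^ n = p ^ m₁ * r, p ^ (m₁ - 1) * r = p ^ t
    have h4 : p ^ n = p * p ^ t := by
      rw [h1, ← h3]
      have : p ^ m₁ = p * p ^ (m₁ - 1) := by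
        rw [← pow_succ']; congr 1; omega
      rw [this]; ring
    rw [← pow_succ'] at h4
    have := Nat.pow_right_injective hp.out.two_le h4
    omega
  -- step 5
  obtain ⟨E, hQ₁E, hET, hEc⟩ := Cfsg.Agent.Lib.Helper9.oa_exists_between p Q₁ T hQ₁T hQ₁c ht
    (show m₁ - 1 ≤ d by omega) (show d ≤ t by omega)
  have hEN : E ⊓ N₁ = Q₁ := by
    apply le_antisymm
    · rw [← hTN]; exact inf_le_inf_right N₁ hET
    · exact le_inf hQ₁E hQ₁N
  refine ⟨E, hET.trans hTP, hEc, ?_, ?_⟩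
  · rw [hEN]
    intro h
    rw [h, Subgroup.card_bot] at hQ₁c
    have : 1 < p ^ (m₁ - 1) := Nat.one_lt_pow (by omega) hp1
    omega
  · rw [hEN]
    intro h
    rw [h, hN₁c] at hQ₁c
    have := Nat.pow_right_injective hp.out.two_le hQ₁c
    omega

end Cfsg.Agent.Lib.Helper18.HSup
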