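import Mathlib
import Cfsg.Agent.Lib.Helper18.HSup3

set_option autoImplicit false

/-! The cases `d = 1` (odd `p`) and `p = 2`. -/

namespace Cfsg.Agent.Lib.Helper18.HSup

open Cfsg Cfsg.Agent.Lib.Helper18.HSub Cfsg.Agent.Lib.helper4 Cfsg.Agent.Lib.Helper1.TNPC

open scoped commutatorElement

universe u

theorem one_case {G : Type u} [Group G] [Finite G] {p : ℕ} [hp : Fact p.Prime] (hp2 : p ≠ 2)
    (Q : Subgroup G) [hQn : Q.Normal] (hQ : IsPGroup p Q) (hGQ : IsSupersolvable (G ⧸ Q))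
    (h : HN p Q 1) : IsSupersolvable G := by
  have hSconj : ∀ a : G, a ∈ Q → a ^ p = 1 → ∀ g : G, g⁻¹ * a * g ∈ Q ∧ (g⁻¹ * a * g) ^ p = 1 := by
    intro a haQ hap g
    refine ⟨by simpa using hQn.conj_mem a haQ g⁻¹, ?_⟩
    have : g⁻¹ * a * g = g⁻¹ * a * g⁻¹⁻¹ := by rw [inv_inv]
    rw [this, conj_pow, hap]; group
  obtain ⟨D, hD⟩ : ∃ D : Subgroup G, ∀ e, e ∈ D ↔ ∀ a ∈ Q, a ^ p = 1 → a * e = e * a := by
    refine ⟨Subgroup.centralizer {a | a ∈ Q ∧ a ^ p = 1}, fun e => ?_⟩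
    rw [Subgroup.mem_centralizer_iff]
    constructor
    · intro h1 a haQ hap
      exact h1 a ⟨haQ, hap⟩
    · intro h1 a ha
      exact h1 a ha.1 ha.2
  haveI hDn : D.Normal := by
    refine ⟨fun e he g => ?_⟩
    rw [hD] at he ⊢
    intro a haQ hap
    obtain ⟨h1, h2⟩ := hSconj a haQ hap g
    have h3 := he _ h1 h2
    calc a * (g * e * g⁻¹) = g * ((g⁻¹ * a * g) * e) * g⁻¹ := by group
      _ = g * (e * (g⁻¹ * a * g)) * g⁻¹ := by rw [h3]
      _ = g * e * g⁻¹ * a := by group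
  have hnorm : ∀ a ∈ Q, a ^ p = 1 → a ≠ 1 → (Subgroup.zpowers a).Normal ∧
      Nat.card (Subgroup.zpowers a) = p := by
    intro a haQ hap ha1
    have hc : Nat.card (Subgroup.zpowers a) = p := by
      rw [Nat.card_zpowers]; exact orderOf_eq_prime hap ha1
    refine ⟨h _ (by rw [Subgroup.zpowers_le]; exact haQ) (Or.inl (by rw [hc, pow_one])), hc⟩
  refine b1_aux (p := p) (Nat.card G) G rfl Q D hQ hGQ ?_ ?_ ?_
  · intro g k
    rw [hD]
    intro a haQ hap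
    by_cases ha1 : a = 1
    · rw [ha1]; simp
    · obtain ⟨hn, -⟩ := hnorm a haQ hap ha1
      have h1 := Cfsg.Agent.S0579.cyclic_normal_central (Subgroup.zpowers a) g k a
        (Subgroup.mem_zpowers a)
      calc a * ⁅g, k⁆ = (⁅g, k⁆ * a * ⁅g, k⁆⁻¹) * ⁅g, k⁆ := by rw [h1]
        _ = ⁅g, k⁆ * a := by group
  · intro g
    rw [hD]
    intro a haQ hap
    by_cases ha1 : a = 1
    · rw [ha1]; simp
    · obtain ⟨hn, hc⟩ := hnorm a haQ hap ha1
      have h1 := Cfsg.Agent.S0579.cyclic_normal_pow (Subgroup.zpowers a) p hc g a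
        (Subgroup.mem_zpowers a)
      calc a * g ^ (p - 1) = (g ^ (p - 1) * a * (g ^ (p - 1))⁻¹) * g ^ (p - 1) := by rw [h1]
        _ = g ^ (p - 1) * a := by group
  · intro e he hcop x hx
    have h1 := Cfsg.Agent.Lib.Helper21.comm_of_comm_small e hcop Q hQ
      (by rw [Subgroup.normalizer_eq_top]; exact Subgroup.mem_top e)
      (by
        intro a haQ hor
        rcases hor with hap | ⟨h2, -⟩
        · exact ((hD e).mp he a haQ hap).symm
        · exact absurd h2 hp2)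
    exact (Subgroup.mem_centralizer_iff.mp h1 x hx).symm

theorem two_case {G : Type u} [Group G] [Finite G] (Q : Subgroup G) [hQn : Q.Normal]
    (hQ : IsPGroup 2 Q) {d : ℕ} (hd : 1 ≤ d) (hdn : 2 ^ d < Nat.card Q) (h : HN 2 Q d)
    (e : G) (hcop : (orderOf e).Coprime 2) : ∀ x ∈ Q, e * x = x * e := by
  haveI : Fact (Nat.Prime 2) := ⟨Nat.prime_two⟩
  obtain ⟨H, hHdef⟩ : ∃ H : Subgroup G, H = Q ⊔ Subgroup.zpowers e := ⟨_, rfl⟩
  have hQH : Q ≤ H := hHdef ▸ le_sup_left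
  have heH : e ∈ H := hHdef ▸ (Subgroup.mem_sup_right (Subgroup.mem_zpowers e))
  have hcopc : (Nat.card Q).Coprime (Nat.card (Subgroup.zpowers e)) := by
    obtain ⟨n, hn⟩ := IsPGroup.iff_card.mp hQ
    rw [hn, Nat.card_zpowers]
    exact Nat.Coprime.pow_left n hcop.symm
  have hcardH : Nat.card H = Nat.card Q * orderOf e := by
    rw [hHdef, Cfsg.Agent.Lib.Helper22.card_sup_of_coprime Q _ hcopc, Nat.card_zpowers]
  have hrel : Q.relIndex H = orderOf e := by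
    have h1 := Cfsg.Agent.Lib.Helper22.card_mul_relIndex_of_le hQH
    rw [hcardH] at h1
    exact Nat.eq_of_mul_eq_mul_left Nat.card_pos h1
  have hP'p : IsPGroup 2 (Q.subgroupOf H) :=
    hQ.comap_of_injective _ (Subgroup.subtype_injective H)
  have hidx : ¬ 2 ∣ (Q.subgroupOf H).index := by
    change ¬ 2 ∣ Q.relIndex H
    rw [hrel]
    intro h2
    have := Nat.Coprime.eq_one_of_dvd hcop.symm h2
    omega
  obtain ⟨P, hPeq⟩ : ∃ P : Sylow 2 ↥H, (P : Subgroup ↥H) = Q.subgroupOf H :=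
    ⟨hP'p.toSylow hidx, rfl⟩
  have hmap : (Q.subgroupOf H).map H.subtype = Q := Subgroup.map_subgroupOf_eq_of_le hQH
  have hHH : HHyp 2 (P : Subgroup ↥H) d := by
    rw [hPeq]
    apply HHyp.of_map
    rw [hmap]
    exact h.hHyp
  have hcardP : Nat.card (P : Subgroup ↥H) = Nat.card Q := by
    rw [hPeq]
    exact Nat.card_congr (Subgroup.subgroupOfEquivOfLe hQH).toEquiv
  have hnpc := main_aux (p := 2) (Nat.card ↥H) ↥H rfl (fun q hq _ => hq.two_le) P d hd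
    (by rw [hcardP]; exact hdn) hHH
  obtain ⟨Y, hYn, hYc, k, hYk⟩ := npc_iff.mp hnpc
  obtain ⟨e', he'⟩ : ∃ e' : ↥H, (e' : G) = e := ⟨⟨e, heH⟩, rfl⟩
  have he'o : orderOf e' = orderOf e := by rw [← he', Subgroup.orderOf_coe]
  have he'Y : e' ∈ Y := by
    rw [← QuotientGroup.eq_one_iff, ← orderOf_eq_one_iff]
    have h1 : orderOf ((e' : ↥H) : ↥H ⧸ Y) ∣ orderOf e' :=
      orderOf_map_dvd (QuotientGroup.mk' Y) _
    have h2 : orderOf ((e' : ↥H) : ↥H ⧸ Y) ∣ 2 ^ k := by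
      rw [← hYk, Subgroup.index_eq_card]; exact orderOf_dvd_natCard _
    have h4 : (orderOf ((e' : ↥H) : ↥H ⧸ Y)).Coprime (2 ^ k) :=
      Nat.Coprime.pow_right k (Nat.Coprime.coprime_dvd_left (he'o ▸ h1) hcop)
    exact Nat.Coprime.eq_one_of_dvd h4 h2
  intro x hx
  obtain ⟨x', hx'⟩ : ∃ x' : ↥H, (x' : G) = x := ⟨⟨x, hQH hx⟩, rfl⟩
  have hx'Q : x' ∈ Q.subgroupOf H := by
    rw [Subgroup.mem_subgroupOf, hx']; exact hx
  have hu1 : e' * x' * e'⁻¹ * x'⁻¹ ∈ Y := by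
    have h1 := hYn.conj_mem e'⁻¹ (Y.inv_mem he'Y) x'
    have e1 : e' * x' * e'⁻¹ * x'⁻¹ = e' * (x' * e'⁻¹ * x'⁻¹) := by group
    rw [e1]; exact Y.mul_mem he'Y h1
  have hu2 : e' * x' * e'⁻¹ * x'⁻¹ ∈ Q.subgroupOf H := by
    have hn : (Q.subgroupOf H).Normal := inferInstance
    exact Subgroup.mul_mem _ (hn.conj_mem x' hx'Q e') (Subgroup.inv_mem _ hx'Q)
  have hu : e' * x' * e'⁻¹ * x'⁻¹ = 1 := by
    rw [← orderOf_eq_one_iff]
    obtain ⟨a, ha⟩ := Cfsg.Agent.Lib.Helper22.orderOf_of_mem_pgroup 2 _ hP'p _ hu2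
    have h5 : orderOf (e' * x' * e'⁻¹ * x'⁻¹) ∣ Nat.card Y := Subgroup.orderOf_dvd_natCard Y hu1
    rw [ha] at h5 ⊢
    exact Nat.Coprime.eq_one_of_dvd (Nat.Coprime.pow_left a hYc.symm) h5
  have hu' : e' * x' = x' * e' := by
    calc e' * x' = (e' * x' * e'⁻¹ * x'⁻¹) * (x' * e') := by group
      _ = x' * e' := by rw [hu, one_mul]
  have := congrArg Subtype.val hu'
  rw [Subgroup.coe_mul, Subgroup.coe_mul, he', hx'] at this
  exact this

end Cfsg.Agent.Lib.Helper18.HSup
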