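import Mathlib
import Cfsg.Agent.Lib.Helper18.HSup4

set_option autoImplicit false

/-! A normal `p`-subgroup `Q` with supersolvable quotient all of whose subgroups of a fixed
order are normal: the group is supersolvable. -/

namespace Cfsg.Agent.Lib.Helper18.HSup

open Cfsg Cfsg.Agent.Lib.Helper18.HSub Cfsg.Agent.Lib.helper4 Cfsg.Agent.Lib.Helper1.TNPC

open scoped commutatorElement

universe u

theorem thmB_aux {p : ℕ} [hp : Fact p.Prime] :
    ∀ (c : ℕ) (G : Type u) [Group G] [Finite G], Nat.card G = c →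
      ∀ (Q : Subgroup G) [Q.Normal], IsPGroup p Q → IsSupersolvable (G ⧸ Q) →
        ∀ d : ℕ, 1 ≤ d → p ^ d < Nat.card Q → HN p Q d → IsSupersolvable G := by
  intro c
  induction c using Nat.strong_induction_on with
  | _ c ih =>
  intro G _ _ hc Q hQn hQ hGQ d hd1 hdn hH
  classical
  have hp1 := hp.out.one_lt
  by_cases hp2 : p = 2
  · subst hp2
    exact b1_aux (p := 2) (Nat.card G) G rfl Q ⊤ hQ hGQ (fun _ _ => Subgroup.mem_top _)
      (fun _ => Subgroup.mem_top _)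
      (fun e _ hcop x hx => two_case Q hQ hd1 hdn hH e hcop x hx)
  by_cases hd : d = 1
  · subst hd
    exact one_case hp2 Q hQ hGQ hH
  have hd2 : 2 ≤ d := by omega
  obtain ⟨n, hn⟩ := IsPGroup.iff_card.mp hQ
  have hdn' : d < n := by
    rw [hn] at hdn; exact (Nat.pow_lt_pow_iff_right hp1).mp hdn
  have hQ1 : Q ≠ ⊥ := by
    intro h
    rw [h, Subgroup.card_bot] at hdn
    have : 1 ≤ p ^ d := Nat.one_le_pow _ _ hp.out.pos
    omega
  -- quotients
  have hquot : ∀ (N : Subgroup G) [N.Normal], N ≤ Q → ∀ m : ℕ, Nat.card N = p ^ m →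
      1 ≤ m → m < d → IsSupersolvable (G ⧸ N) := by
    intro N hNn hNQ m hNc hm1 hmd
    have hlt : Nat.card (G ⧸ N) < c := by
      rw [← hc, Subgroup.card_eq_card_quotient_mul_card_subgroup N, hNc]
      have h1 : 1 < p ^ m := Nat.one_lt_pow (by omega) hp1
      have hpos : 0 < Nat.card (G ⧸ N) := Nat.card_pos
      nlinarith
    haveI hQ'n : (Q.map (QuotientGroup.mk' N)).Normal :=
      Subgroup.Normal.map hQn _ (QuotientGroup.mk'_surjective _)
    have hcardQ := card_map_mk'_of_le N Q hNQ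
    refine ih _ hlt (G ⧸ N) rfl (Q.map (QuotientGroup.mk' N)) (hQ.map _) ?_ (d - m) (by omega)
      ?_ ?_
    · exact isSupersolvable_of_mulEquiv
        (QuotientGroup.quotientQuotientEquivQuotient N Q hNQ).symm hGQ
    · rw [hcardQ, hNc] at hdn
      have h1 : p ^ d = p ^ m * p ^ (d - m) := by
        rw [← pow_add]; congr 1; omega
      rw [h1] at hdn
      exact lt_of_mul_lt_mul_left hdn (Nat.zero_le _)
    · intro F' hF'Q hcard
      have hcard' : Nat.card F' = p ^ (d - m) := by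
        rcases hcard with h1 | ⟨h1, -⟩
        · exact h1
        · exfalso
          have h2 : p ∣ 2 := by
            rw [← h1]; exact dvd_pow_self p (by omega)
          exact hp2 ((Nat.prime_dvd_prime_iff_eq hp.out Nat.prime_two).mp h2)
      have hFQ : F'.comap (QuotientGroup.mk' N) ≤ Q := comap_le_of_le_map hNQ F' hF'Q
      have hFc : Nat.card (F'.comap (QuotientGroup.mk' N)) = p ^ d := by
        rw [HSub.card_comap_mk', hNc, hcard', ← pow_add]; congr 1; omega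
      have hFn := hH _ hFQ (Or.inl hFc)
      have h1 := Subgroup.Normal.map hFn (QuotientGroup.mk' N) (QuotientGroup.mk'_surjective _)
      rw [Subgroup.map_comap_eq_self_of_surjective (QuotientGroup.mk'_surjective _)] at h1
      exact h1
  -- the centre of `Q`
  obtain ⟨A, hA⟩ : ∃ A : Subgroup G, ∀ a, a ∈ A ↔ (a ∈ Q ∧ ∀ x ∈ Q, a * x = x * a) := by
    refine ⟨Q ⊓ Subgroup.centralizer (Q : Set G), fun a => ?_⟩
    rw [Subgroup.mem_inf, Subgroup.mem_centralizer_iff]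
    constructor
    · rintro ⟨h1, h2⟩; exact ⟨h1, fun x hx => (h2 x hx).symm⟩
    · rintro ⟨h1, h2⟩; exact ⟨h1, fun x hx => (h2 x hx).symm⟩
  have hAn : A.Normal := by
    refine ⟨fun a ha g => ?_⟩
    obtain ⟨haQ, hac⟩ := (hA a).mp ha
    refine (hA _).mpr ⟨hQn.conj_mem a haQ g, ?_⟩
    intro x hx
    have h1 := hac (g⁻¹ * x * g) (by simpa using hQn.conj_mem x hx g⁻¹)
    calc g * a * g⁻¹ * x = g * (a * (g⁻¹ * x * g)) * g⁻¹ := by group
      _ = g * ((g⁻¹ * x * g) * a) * g⁻¹ := by rw [h1]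
      _ = x * (g * a * g⁻¹) := by group
  have hAQ : A ≤ Q := fun a ha => ((hA a).mp ha).1
  have hAne : A ≠ ⊥ := by
    obtain ⟨z, hzQ, hz1, -, hzc⟩ := exists_central_order_p hQ hQ hQ1 Subgroup.le_normalizer
    intro h
    have hzA : z ∈ A := (hA z).mpr ⟨hzQ, fun x hx => (hzc x hx).symm⟩
    rw [h, Subgroup.mem_bot] at hzA
    exact hz1 hzA
  have hAcomm : ∀ a ∈ A, ∀ b ∈ A, a * b = b * a := fun a ha b hb =>
    ((hA a).mp ha).2 b (hAQ hb)
  -- a minimal normal subgroup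
  have hex : ∃ c : ℕ, ∃ B : Subgroup G, B.Normal ∧ B ≤ A ∧ B ≠ ⊥ ∧ Nat.card B = c :=
    ⟨_, A, hAn, le_rfl, hAne, rfl⟩
  obtain ⟨N₁, hN₁n, hN₁A, hN₁ne, hN₁c0⟩ := Nat.find_spec hex
  haveI := hN₁n
  have hminN : ∀ B : Subgroup G, B.Normal → B ≤ N₁ → B = ⊥ ∨ B = N₁ := by
    intro B hBn hBN
    by_cases hB : B = ⊥
    · left; exact hB
    · right
      have h1 : Nat.find hex ≤ Nat.card B := Nat.find_min' hex ⟨B, hBn, hBN.trans hN₁A, hB, rfl⟩
      exact Subgroup.eq_of_le_of_card_ge hBN (by rw [hN₁c0]; exact h1)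
  have hN₁Q : N₁ ≤ Q := hN₁A.trans hAQ
  have hN₁p : IsPGroup p N₁ := hQ.to_le hN₁Q
  have hcomm : ∀ a ∈ N₁, ∀ b ∈ N₁, a * b = b * a := fun a ha b hb =>
    hAcomm a (hN₁A ha) b (hN₁A hb)
  obtain ⟨m₁, hN₁c⟩ := IsPGroup.iff_card.mp hN₁p
  have hm₁1 : 1 ≤ m₁ := by
    by_contra h
    have h0 : m₁ = 0 := by omega
    rw [h0, pow_zero] at hN₁c
    exact hN₁ne (Subgroup.card_eq_one.mp hN₁c)
  have hstar : ∀ E : Subgroup G, E ≤ Q → Nat.card E = p ^ d →
      E ⊓ N₁ = ⊥ ∨ E ⊓ N₁ = N₁ := by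
    intro E hEQ hEc
    have hEn := hH E hEQ (Or.inl hEc)
    exact hminN _ inferInstance inf_le_right
  by_cases hm1 : m₁ = 1
  · rw [hm1, pow_one] at hN₁c
    have hq := hquot N₁ hN₁Q 1 (by rw [pow_one]; exact hN₁c) le_rfl (by omega)
    haveI : IsCyclic ↥N₁ := isCyclic_of_prime_card hN₁c
    exact isSupersolvable_of_cyclic_normal N₁ hq
  have hm₁2 : 2 ≤ m₁ := by omega
  rcases lt_trichotomy m₁ d with hlt | heq | hgt
  · -- `m₁ < d`
    have hq := hquot N₁ hN₁Q m₁ hN₁c hm₁1 hlt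
    by_cases hcoat : ∀ M : Subgroup G, IsCoatom M → N₁ ≤ M
    · apply Cfsg.Agent.S0579.result
      intro M hM
      have hNM := hcoat M hM
      rw [← index_map_of_le N₁ M hNM]
      exact coatom_index_prime hq _ (isCoatom_map_of_le N₁ M hNM hM)
    · exfalso
      push Not at hcoat
      obtain ⟨M, hM, hNM⟩ := hcoat
      have hsup : N₁ ⊔ M = ⊤ := by
        apply hM.2
        apply lt_of_le_of_ne le_sup_right
        intro h
        apply hNM
        rw [h]; exact le_sup_left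
      have hsupp : ∀ g : G, ∃ z ∈ N₁, z⁻¹ * g ∈ M := by
        intro g
        have hg : g ∈ N₁ ⊔ M := hsup ▸ Subgroup.mem_top g
        rw [← SetLike.mem_coe, Subgroup.normal_mul] at hg
        obtain ⟨z, hz, m, hm, rfl⟩ := hg
        exact ⟨z, hz, by simpa using hm⟩
      obtain ⟨E, hEQ, hEc, h1, h2⟩ := exists_bad_subgroup' Q hQ N₁ hN₁Q hcomm hminN hN₁c hm₁2 hn
        (by omega) hdn' M hM.1 hsupp
      rcases hstar E hEQ hEc with h | h
      · exact h1 h
      · exact h2 h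
  · -- `m₁ = d`
    exfalso
    have hncyc := not_isCyclic_of_minimal N₁ hminN hN₁c hm₁2
    obtain ⟨F, hN₁F, hFQ, hFc⟩ := Cfsg.Agent.Lib.Helper9.oa_exists_between p N₁ Q
      hN₁Q (heq ▸ hN₁c) hn (Nat.le_succ d) (by omega)
    have hFn : ¬ IsCyclic ↥F := fun h => hncyc (isCyclic_of_le hN₁F h)
    obtain ⟨E, hEF, hEc, hEN⟩ := exists_other_maximal F N₁ hFc hN₁F (heq ▸ hN₁c) hFn
    have hcard := card_eq_mul_card_inf F E N₁ hFc hEF hN₁F hEc (heq ▸ hN₁c) hEN
    rcases hstar E (hEF.trans hFQ) hEc with h | h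
    · rw [h, Subgroup.card_bot, mul_one, hN₁c] at hcard
      have : p ^ 1 < p ^ m₁ := (Nat.pow_lt_pow_iff_right hp1).mpr (by omega)
      rw [pow_one] at this
      omega
    · rw [h] at hcard
      have hpos : 0 < Nat.card N₁ := Nat.card_pos
      have : 2 * Nat.card N₁ ≤ p * Nat.card N₁ := Nat.mul_le_mul_right _ hp.out.two_le
      omega
  · -- `d < m₁`
    exfalso
    obtain ⟨E, -, hEN, hEc⟩ := Cfsg.Agent.Lib.Helper9.oa_exists_between p (⊥ : Subgroup G) N₁ bot_le
      (by simp : Nat.card (⊥ : Subgroup G) = p ^ 0) hN₁c (Nat.zero_le d) hgt.le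
    have hinf : E ⊓ N₁ = E := inf_eq_left.mpr hEN
    rcases hstar E (hEN.trans hN₁Q) hEc with h | h
    · rw [hinf] at h
      rw [h, Subgroup.card_bot] at hEc
      have : 1 < p ^ d := Nat.one_lt_pow (by omega) hp1
      omega
    · rw [hinf] at h
      rw [h, hN₁c] at hEc
      have := Nat.pow_right_injective hp.out.two_le hEc
      omega

end Cfsg.Agent.Lib.Helper18.HSup
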