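import Mathlib
import Cfsg.Agent.Lib.Helper18.HSup5
import Cfsg.Agent.Lib.helper4.PrimeDegree

set_option autoImplicit false

/-! The main induction: a normal subgroup `E` with supersolvable quotient whose non-cyclic Sylow
subgroups have all subgroups of some fixed order strongly closed. -/

namespace Cfsg.Agent.Lib.Helper18.HSup

open Cfsg Cfsg.Agent.Lib.Helper18.HSub Cfsg.Agent.Lib.helper4 Cfsg.Agent.Lib.Helper1.TNPC

open scoped commutatorElement

universe u

/-- the hypothesis on the Sylow subgroups of `E` -/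
def Hyp {G : Type*} [Group G] (E : Subgroup G) : Prop :=
  ∀ p : ℕ, p.Prime → ∀ P : Subgroup G, P ≤ E → IsPGroup p P → ¬ p ∣ P.relIndex E →
    ¬ IsCyclic ↥P → ∃ d : ℕ, 1 ≤ d ∧ p ^ d < Nat.card P ∧ HHyp p P d

theorem card_map_mk'_of_coprime {G : Type*} [Group G] [Finite G] (K F : Subgroup G) [K.Normal]
    (hcop : (Nat.card K).Coprime (Nat.card F)) :
    Nat.card (F.map (QuotientGroup.mk' K)) = Nat.card F := by
  have h1 := card_map_mk'_of_le K (K ⊔ F) le_sup_left
  rw [Cfsg.Agent.Lib.Helper22.card_sup_of_coprime K F hcop, Subgroup.map_sup] at h1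
  have h2 : K.map (QuotientGroup.mk' K) = ⊥ := by
    rw [Subgroup.map_eq_bot_iff, QuotientGroup.ker_mk']
  rw [h2, bot_sup_eq] at h1
  exact (Nat.eq_of_mul_eq_mul_left Nat.card_pos h1).symm

theorem main_ss {G : Type u} [Group G] [Finite G] :
    ∀ (c : ℕ) (E : Subgroup G) [E.Normal], Nat.card E = c → IsSupersolvable (G ⧸ E) → Hyp E →
      IsSupersolvable G := by
  intro c
  induction c using Nat.strong_induction_on with
  | _ c ih =>
  intro E hEn hc hGE hyp
  by_cases hE1 : E = ⊥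
  · subst hE1
    exact isSupersolvable_of_mulEquiv QuotientGroup.quotientBot hGE
  have hcard1 : Nat.card E ≠ 1 := fun h => hE1 (Subgroup.card_eq_one.mp h)
  obtain ⟨p, hpdef⟩ : ∃ p, p = (Nat.card E).minFac := ⟨_, rfl⟩
  have hp : p.Prime := hpdef ▸ Nat.minFac_prime hcard1
  haveI : Fact p.Prime := ⟨hp⟩
  have hpdvd : p ∣ Nat.card E := hpdef ▸ Nat.minFac_dvd _
  -- a Sylow `p`-subgroup of `E`
  obtain ⟨S⟩ : Nonempty (Sylow p ↥E) := inferInstance
  obtain ⟨P₀, hP₀def⟩ : ∃ P₀ : Subgroup G, P₀ = (S : Subgroup ↥E).map E.subtype := ⟨_, rfl⟩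
  have hP₀E : P₀ ≤ E := by
    rw [hP₀def]; rintro _ ⟨x, -, rfl⟩; exact x.2
  have hP₀p : IsPGroup p P₀ := by rw [hP₀def]; exact S.2.map _
  have hP₀sub : P₀.subgroupOf E = (S : Subgroup ↥E) := by
    rw [hP₀def]; exact Subgroup.comap_map_eq_self_of_injective E.subtype_injective _
  have hP₀idx : ¬ p ∣ P₀.relIndex E := by
    rw [Subgroup.relIndex, hP₀sub]; exact S.not_dvd_index
  have hcardS : Nat.card (S : Subgroup ↥E) = Nat.card P₀ := by
    rw [hP₀def]; exact (Subgroup.card_map_of_injective E.subtype_injective).symm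
  -- `E` has a normal `p`-complement
  have hnpc : HasNormalPComplement p ↥E := by
    by_cases hcyc : IsCyclic ↥P₀
    · have hcycS : IsCyclic ↥(S : Subgroup ↥E) := by
        rw [← hP₀sub]
        exact isCyclic_of_surjective (Subgroup.subgroupOfEquivOfLe hP₀E).symm.toMonoidHom
          (Subgroup.subgroupOfEquivOfLe hP₀E).symm.surjective
      have hc' := IsCyclic.isComplement' hpdef.symm hcycS
      exact ⟨S, _, MonoidHom.normal_ker _, hc'⟩
    · obtain ⟨d, hd1, hdn, hHH⟩ := hyp p hp P₀ hP₀E hP₀p hP₀idx hcyc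
      have hmin : MinP p ↥E := fun q hq hdvd => hpdef ▸ Nat.minFac_le_of_dvd hq.two_le hdvd
      have hHS : HHyp p (S : Subgroup ↥E) d := by
        apply HHyp.of_map
        rw [← hP₀def]; exact hHH
      exact main_aux (Nat.card ↥E) ↥E rfl hmin S d hd1 (by rw [hcardS]; exact hdn) hHS
  obtain ⟨K₀, hK₀n, hK₀c, k, hK₀k⟩ := npc_iff.mp hnpc
  haveI := hK₀n
  haveI hK₀char : K₀.Characteristic :=
    characteristic_of_normal_coprime K₀ (by rw [hK₀k]; exact Nat.Coprime.pow_right k hK₀c)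
  obtain ⟨K, hKdef⟩ : ∃ K : Subgroup G, K = K₀.map E.subtype := ⟨_, rfl⟩
  haveI hKn : K.Normal := by rw [hKdef]; infer_instance
  have hKE : K ≤ E := by
    rw [hKdef]; rintro _ ⟨x, -, rfl⟩; exact x.2
  have hKc : Nat.card K = Nat.card K₀ := by
    rw [hKdef]; exact Subgroup.card_map_of_injective E.subtype_injective
  have hKcop : (Nat.card K).Coprime p := by rw [hKc]; exact hK₀c
  have hcardE : Nat.card E = Nat.card K * p ^ k := by
    have h1 := Subgroup.card_mul_index K₀
    rw [hK₀k] at h1; rw [hKc]; exact h1.symm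
  have hcardP₀ : Nat.card P₀ = p ^ k := by
    obtain ⟨n, hn⟩ := IsPGroup.iff_card.mp hP₀p
    have h1 := Cfsg.Agent.Lib.Helper22.card_mul_relIndex_of_le hP₀E
    rw [hn, hcardE] at h1
    have h2 : n ≤ k := by
      have h3 : p ^ n ∣ Nat.card K * p ^ k := ⟨_, h1.symm⟩
      have h4 := Nat.Coprime.dvd_of_dvd_mul_left (Nat.Coprime.pow_left n hKcop.symm) h3
      exact (Nat.pow_dvd_pow_iff_le_right hp.one_lt).mp h4
    have h5 : k ≤ n := by
      have h3 : p ^ k ∣ p ^ n * P₀.relIndex E := ⟨_, by rw [h1, mul_comm]⟩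
      have h4 := Nat.Coprime.dvd_of_dvd_mul_right
        (Nat.Coprime.pow_left k ((Nat.Prime.coprime_iff_not_dvd hp).mpr hP₀idx)) h3
      exact (Nat.pow_dvd_pow_iff_le_right hp.one_lt).mp h4
    rw [hn]; congr 1; omega
  have hk1 : 1 ≤ k := by
    by_contra hcon
    have h0 : k = 0 := by omega
    rw [h0, pow_zero, mul_one] at hcardE
    rw [hcardE] at hpdvd
    have := Nat.Coprime.eq_one_of_dvd hKcop.symm hpdvd
    exact hp.one_lt.ne' this
  have hKlt : Nat.card K < c := by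
    rw [← hc, hcardE]
    have h1 : 1 < p ^ k := Nat.one_lt_pow (by omega) hp.one_lt
    have hpos : 0 < Nat.card K := Nat.card_pos
    nlinarith
  have hcopKP : (Nat.card K).Coprime (Nat.card P₀) := by
    rw [hcardP₀]; exact Nat.Coprime.pow_right k hKcop
  have hsupE : K ⊔ P₀ = E := by
    apply Subgroup.eq_of_le_of_card_ge (sup_le hKE hP₀E)
    rw [Cfsg.Agent.Lib.Helper22.card_sup_of_coprime K P₀ hcopKP, hcardE, hcardP₀]
  have hdecomp : ∀ e ∈ E, ∃ k' ∈ K, ∃ s ∈ P₀, e = k' * s := by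
    intro e he
    rw [← hsupE, ← SetLike.mem_coe, Subgroup.normal_mul] at he
    obtain ⟨k', hk', s, hs, rfl⟩ := he
    exact ⟨k', hk', s, hs, rfl⟩
  -- the quotient by `K`
  have hquotK : IsSupersolvable (G ⧸ K) := by
    haveI hQ'n : (E.map (QuotientGroup.mk' K)).Normal :=
      Subgroup.Normal.map hEn _ (QuotientGroup.mk'_surjective _)
    have hQ'eq : E.map (QuotientGroup.mk' K) = P₀.map (QuotientGroup.mk' K) := by
      apply le_antisymm
      · rintro _ ⟨e, he, rfl⟩
        obtain ⟨k', hk', s, hs, rfl⟩ := hdecomp e he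
        refine ⟨s, hs, ?_⟩
        have h1 : (QuotientGroup.mk' K) k' = 1 := (QuotientGroup.eq_one_iff k').mpr hk'
        rw [map_mul, h1, one_mul]
      · exact Subgroup.map_mono hP₀E
    have hQ'p : IsPGroup p (E.map (QuotientGroup.mk' K)) := by
      rw [hQ'eq]; exact hP₀p.map _
    have hQ'c : Nat.card (E.map (QuotientGroup.mk' K)) = Nat.card P₀ := by
      rw [hQ'eq]; exact card_map_mk'_of_coprime K P₀ hcopKP
    have hGQ' : IsSupersolvable ((G ⧸ K) ⧸ E.map (QuotientGroup.mk' K)) :=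
      isSupersolvable_of_mulEquiv (QuotientGroup.quotientQuotientEquivQuotient K E hKE).symm hGE
    by_cases hcyc : IsCyclic ↥P₀
    · haveI : IsCyclic ↥(E.map (QuotientGroup.mk' K)) := by
        rw [hQ'eq]
        exact isCyclic_of_surjective ((QuotientGroup.mk' K).subgroupMap P₀)
          (MonoidHom.subgroupMap_surjective _ _)
      exact isSupersolvable_of_cyclic_normal _ hGQ'
    · obtain ⟨d, hd1, hdn, hHH⟩ := hyp p hp P₀ hP₀E hP₀p hP₀idx hcyc
      refine thmB_aux (p := p) _ (G ⧸ K) rfl _ hQ'p hGQ' d hd1 (by rw [hQ'c]; exact hdn) ?_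
      intro F' hF'Q hcard
      obtain ⟨F, hFdef⟩ : ∃ F : Subgroup G, F = P₀ ⊓ F'.comap (QuotientGroup.mk' K) := ⟨_, rfl⟩
      have hFP₀ : F ≤ P₀ := by rw [hFdef]; exact inf_le_left
      have hFmap : F.map (QuotientGroup.mk' K) = F' := by
        apply le_antisymm
        · rintro _ ⟨x, hx, rfl⟩
          rw [hFdef] at hx; exact (Subgroup.mem_inf.mp hx).2
        · intro y hy
          have hy' : y ∈ P₀.map (QuotientGroup.mk' K) := hQ'eq ▸ hF'Q hy
          obtain ⟨s, hs, rfl⟩ := hy'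
          exact ⟨s, by rw [hFdef]; exact Subgroup.mem_inf.mpr ⟨hs, hy⟩, rfl⟩
      have hFc : Nat.card F = Nat.card F' := by
        rw [← hFmap]
        symm
        apply card_map_mk'_of_coprime
        obtain ⟨j, hj⟩ := IsPGroup.iff_card.mp (hP₀p.to_le hFP₀)
        rw [hj]; exact Nat.Coprime.pow_right j hKcop
      have hsc : SC P₀ F := hHH F hFP₀ (by rw [hFc]; exact hcard)
      refine ⟨fun x' hx' g' => ?_⟩
      obtain ⟨g, rfl⟩ := QuotientGroup.mk'_surjective K g'
      rw [← hFmap] at hx' ⊢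
      obtain ⟨x, hx, rfl⟩ := hx'
      have hyE : g * x * g⁻¹ ∈ E := hEn.conj_mem x (hP₀E (hFP₀ hx)) g
      obtain ⟨a, ha⟩ := Cfsg.Agent.Lib.Helper22.orderOf_of_mem_pgroup p P₀ hP₀p x (hFP₀ hx)
      have hyo : orderOf (g * x * g⁻¹) = p ^ a := by
        rw [← ha]
        exact MulEquiv.orderOf_eq (MulAut.conj g) x
      obtain ⟨e, heE, he⟩ := Cfsg.Agent.Lib.Helper22.exists_conj_mem_of_pelement p E P₀ hP₀p
        hP₀idx (g * x * g⁻¹) hyE a hyo
      obtain ⟨k', hk', s, hs, rfl⟩ := hdecomp e heE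
      have h1 : k'⁻¹ * (g * x * g⁻¹) * k' ∈ P₀ := by
        have e1 : k'⁻¹ * (g * x * g⁻¹) * k' =
            s * ((k' * s)⁻¹ * (g * x * g⁻¹) * (k' * s)) * s⁻¹ := by group
        rw [e1]; exact P₀.mul_mem (P₀.mul_mem hs he) (P₀.inv_mem hs)
      have h2 : (k'⁻¹ * g) * x * (k'⁻¹ * g)⁻¹ ∈ F :=
        hsc x hx (k'⁻¹ * g) (by convert h1 using 1; group)
      refine ⟨(k'⁻¹ * g) * x * (k'⁻¹ * g)⁻¹, h2, ?_⟩
      have hk1 : (QuotientGroup.mk' K) k' = 1 := (QuotientGroup.eq_one_iff k').mpr hk'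
      simp only [map_mul, map_inv, hk1, inv_one, one_mul]
  -- the hypothesis for `K`
  have hypK : Hyp K := by
    intro r hr R hRK hRr hRidx hRncyc
    by_cases hrp : r = p
    · exfalso
      subst hrp
      apply hRncyc
      have h1 : Nat.card R = 1 := by
        obtain ⟨j, hj⟩ := IsPGroup.iff_card.mp hRr
        have h2 : r ^ j ∣ Nat.card K := hj ▸ Subgroup.card_dvd_of_le hRK
        have h3 := Nat.Coprime.eq_one_of_dvd (Nat.Coprime.pow_left j hKcop.symm) h2
        rw [hj]; exact h3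
      rw [Subgroup.card_eq_one] at h1
      rw [h1]; infer_instance
    · apply hyp r hr R (hRK.trans hKE) hRr ?_ hRncyc
      rw [← Subgroup.relIndex_mul_relIndex R K E hRK hKE]
      intro hdvd
      rcases (Nat.Prime.dvd_mul hr).mp hdvd with h1 | h1
      · exact hRidx h1
      · have h2 : K.relIndex E = p ^ k := by
          have h3 := Cfsg.Agent.Lib.Helper22.card_mul_relIndex_of_le hKE
          rw [hcardE] at h3
          exact Nat.eq_of_mul_eq_mul_left Nat.card_pos h3
        rw [h2] at h1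
        exact hrp ((Nat.prime_dvd_prime_iff_eq hr hp).mp (hr.dvd_of_dvd_pow h1))
  exact ih (Nat.card K) hKlt K rfl hquotK hypK

end Cfsg.Agent.Lib.Helper18.HSup
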