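import Mathlib
import Cfsg.Agent.Lib.Helper18.J1A

set_option autoImplicit false

namespace Cfsg.Agent.Lib.Helper18.J1

open Subgroup
open Cfsg.Agent.Lib.helper8 Cfsg.Agent.Lib.helper23

variable {H : Type*} [Group H] [Finite H]

theorem SD.factorization {r nr cr dr : ℕ} (h : SD H r nr cr dr) :
    (Nat.card H).factorization r = 1 := by
  haveI : Fact r.Prime := ⟨h.prime⟩
  obtain ⟨R⟩ : Nonempty (Sylow r H) := inferInstance
  have h1 := R.card_eq_multiplicity
  rw [h.cardR R] at h1
  have h2 : r ^ 1 = r ^ (Nat.card H).factorization r := by rw [pow_one]; exact h1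
  exact (Nat.pow_right_injective h.prime.two_le h2).symm

theorem SD.sylow_of_orderOf {r nr cr dr : ℕ} (h : SD H r nr cr dr) (y : H) (hy : orderOf y = r) :
    ∃ S : Sylow r H, (S : Subgroup H) = zpowers y := by
  haveI : Fact r.Prime := ⟨h.prime⟩
  refine ⟨Sylow.ofCard (zpowers y) (by rw [Nat.card_zpowers, hy, h.factorization, pow_one]), ?_⟩
  exact Sylow.coe_ofCard _ _

/-- adjacency is symmetric -/
theorem SD.adj {r nr cr dr s ns cs ds : ℕ} (hr : SD H r nr cr dr) (hs : SD H s ns cs ds)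
    (hne : r ≠ s) (h : s ∣ cr) : r ∣ cs := by
  haveI : Fact r.Prime := ⟨hr.prime⟩
  haveI : Fact s.Prime := ⟨hs.prime⟩
  obtain ⟨R⟩ : Nonempty (Sylow r H) := inferInstance
  have h1 : s ∣ Nat.card (centralizer ((R : Subgroup H) : Set H)) := by
    rw [hr.cardC R]; exact dvd_mul_of_dvd_right h r
  obtain ⟨y, hy⟩ := exists_prime_orderOf_dvd_card' s h1
  have hy' : orderOf (y : H) = s := by rw [Subgroup.orderOf_coe]; exact hy
  obtain ⟨S, hS⟩ := hs.sylow_of_orderOf (y : H) hy'
  have hRS : (R : Subgroup H) ≤ centralizer ((S : Subgroup H) : Set H) := by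
    intro x hx
    rw [mem_centralizer_iff]
    intro z hz
    have hz' : z ∈ zpowers (y : H) := by rw [← hS]; exact hz
    obtain ⟨j, rfl⟩ := mem_zpowers_iff.mp hz'
    have hc : Commute x (y : H) := mem_centralizer_iff.mp y.2 x hx
    exact (hc.zpow_right j).eq.symm
  have h2 := Subgroup.card_dvd_of_le hRS
  rw [hr.cardR R, hs.cardC S] at h2
  have hcop : Nat.Coprime r s := (Nat.coprime_primes hr.prime hs.prime).mpr hne
  exact hcop.dvd_of_dvd_mul_left h2

/-- the subgroup generated by the `r`-part of an `r`-singular element of `C(R)` is `R` -/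
theorem SD.eq_zpowers_of_sing {r nr cr dr : ℕ} (h : SD H r nr cr dr) (x : H)
    (hx : r ∣ orderOf x) (R : Sylow r H)
    (hxR : x ∈ centralizer ((R : Subgroup H) : Set H)) :
    (R : Subgroup H) = zpowers (x ^ (orderOf x / r)) := by
  haveI : Fact r.Prime := ⟨h.prime⟩
  have ho : orderOf (x ^ (orderOf x / r)) = r :=
    orderOf_pow_orderOf_div (orderOf_pos x).ne' hx
  have hyC : x ^ (orderOf x / r) ∈ centralizer ((R : Subgroup H) : Set H) := pow_mem hxR _
  have hyN := centralizer_le_normalizer _ hyC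
  have hyR : x ^ (orderOf x / r) ∈ (R : Subgroup H) :=
    h8_mem_sylow_of_mem_normalizer r R _ 1 (by rw [ho, pow_one]) hyN
  have hy1 : x ^ (orderOf x / r) ≠ 1 := by
    intro h1
    rw [h1, orderOf_one] at ho
    exact h.prime.one_lt.ne' ho.symm
  exact (h8_zpowers_eq_of_prime_card r h.prime (R : Subgroup H) (h.cardR R) _ hyR hy1).symm

theorem SD.orderOf_dvd_of_sing {r nr cr dr : ℕ} (h : SD H r nr cr dr) (x : H)
    (hx : r ∣ orderOf x) : orderOf x ∣ r * cr := by
  have ho : orderOf (x ^ (orderOf x / r)) = r :=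
    orderOf_pow_orderOf_div (orderOf_pos x).ne' hx
  obtain ⟨S, hS⟩ := h.sylow_of_orderOf _ ho
  have hxC : x ∈ centralizer ((S : Subgroup H) : Set H) := by
    rw [mem_centralizer_iff]
    intro z hz
    have hz' : z ∈ zpowers (x ^ (orderOf x / r)) := by rw [← hS]; exact hz
    obtain ⟨j, rfl⟩ := mem_zpowers_iff.mp hz'
    have hc : Commute x (x ^ (orderOf x / r)) := (Commute.refl x).pow_right _
    exact (hc.zpow_right j).eq.symm
  rw [← h.cardC S]
  exact Subgroup.orderOf_dvd_natCard _ hxC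

theorem SD.sing_disjoint {r nr cr dr : ℕ} (h : SD H r nr cr dr) {s : ℕ} (hs : s.Prime)
    (hsr : r ≠ s) (hnd : ¬ s ∣ cr) (x : H) (hx : r ∣ orderOf x) (hx' : s ∣ orderOf x) : False := by
  have h1 := hx'.trans (h.orderOf_dvd_of_sing x hx)
  have hcop : Nat.Coprime s r := (Nat.coprime_primes hs h.prime).mpr (Ne.symm hsr)
  exact hnd (hcop.dvd_of_dvd_mul_left h1)

/-- the `r`-regular elements of `C(R)` are at most `|C(R)|/r` in number -/
theorem card_reg_mul_le {r : ℕ} (hr : r.Prime) (R : Subgroup H) (hR : Nat.card R = r) :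
    Nat.card {x : centralizer (R : Set H) // ¬ r ∣ orderOf (x : H)} * r ≤
      Nat.card (centralizer (R : Set H)) := by
  have hRC := sylow_le_centralizer hr R hR
  let f : {x : centralizer (R : Set H) // ¬ r ∣ orderOf (x : H)} × R → centralizer (R : Set H) :=
    fun a => ⟨(a.1.1 : H) * (a.2 : H), mul_mem a.1.1.2 (hRC a.2.2)⟩
  have hinj : Function.Injective f := by
    rintro ⟨y, z⟩ ⟨y', z'⟩ hyz
    have e : (y.1 : H) * (z : H) = (y'.1 : H) * (z' : H) := congrArg Subtype.val hyz
    have hc : Commute (y.1 : H) (z : H) := (mem_centralizer_iff.mp y.1.2 (z : H) z.2).symm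
    have hc' : Commute (y'.1 : H) (z' : H) := (mem_centralizer_iff.mp y'.1.2 (z' : H) z'.2).symm
    set k := orderOf (y.1 : H) * orderOf (y'.1 : H) with hk
    have h1 : ((y.1 : H) * (z : H)) ^ k = (z : H) ^ k := by
      rw [hc.mul_pow, hk, pow_mul, pow_orderOf_eq_one, one_pow, one_mul]
    have h2 : ((y'.1 : H) * (z' : H)) ^ k = (z' : H) ^ k := by
      rw [hc'.mul_pow, hk, mul_comm, pow_mul, pow_orderOf_eq_one, one_pow, one_mul]
    have h3 : (z : H) ^ k = (z' : H) ^ k := by rw [← h1, ← h2, e]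
    have hcop : (Nat.card R).Coprime k := by
      rw [hR, hk]
      exact (Nat.Prime.coprime_iff_not_dvd hr).mpr (fun hd =>
        (hr.dvd_mul.mp hd).elim y.2 y'.2)
    have h4 : (powCoprime hcop) z = (powCoprime hcop) z' := by
      apply Subtype.ext
      simpa [powCoprime] using h3
    have hz : z = z' := (powCoprime hcop).injective h4
    have hy : (y.1 : H) = (y'.1 : H) := by
      rw [hz] at e
      exact mul_right_cancel e
    have hy' : y = y' := Subtype.ext (Subtype.ext hy)
    rw [hy', hz]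
  have hle := Nat.card_le_card_of_injective f hinj
  rwa [Nat.card_prod, hR] at hle

theorem SD.card_sing_centralizer {r nr cr dr : ℕ} (h : SD H r nr cr dr) (R : Sylow r H) :
    (r - 1) * cr ≤
      Nat.card {x : centralizer ((R : Subgroup H) : Set H) // r ∣ orderOf (x : H)} := by
  have h1 := card_reg_mul_le h.prime (R : Subgroup H) (h.cardR R)
  have h2 : Nat.card {x : centralizer ((R : Subgroup H) : Set H) // r ∣ orderOf (x : H)} +
      Nat.card {x : centralizer ((R : Subgroup H) : Set H) // ¬ r ∣ orderOf (x : H)} =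
      Nat.card (centralizer ((R : Subgroup H) : Set H)) := by
    rw [← Nat.card_sum]
    exact Nat.card_congr (Equiv.sumCompl _)
  rw [h.cardC R] at h1 h2
  have hr := h.prime.pos
  have h3 : Nat.card {x : centralizer ((R : Subgroup H) : Set H) // ¬ r ∣ orderOf (x : H)} ≤ cr := by
    rw [mul_comm] at h1
    exact Nat.le_of_mul_le_mul_left h1 hr
  obtain ⟨q, rfl⟩ : ∃ q, r = q + 1 := ⟨r - 1, by omega⟩
  rw [Nat.add_sub_cancel]
  nlinarith

theorem SD.sing_lower {r nr cr dr : ℕ} (h : SD H r nr cr dr) :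
    nr * (r - 1) * cr ≤ Nat.card {x : H // r ∣ orderOf x} := by
  classical
  haveI : Fact r.Prime := ⟨h.prime⟩
  haveI : Fintype (Sylow r H) := Fintype.ofFinite _
  let f : (Σ R : Sylow r H,
      {x : centralizer ((R : Subgroup H) : Set H) // r ∣ orderOf (x : H)}) →
      {x : H // r ∣ orderOf x} := fun a => ⟨(a.2.1 : H), a.2.2⟩
  have hinj : Function.Injective f := by
    rintro ⟨R, x⟩ ⟨R', x'⟩ hxx
    have e : (x.1 : H) = (x'.1 : H) := congrArg Subtype.val hxx
    have h1 := h.eq_zpowers_of_sing (x.1 : H) x.2 R x.1.2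
    have h2 := h.eq_zpowers_of_sing (x'.1 : H) x'.2 R' x'.1.2
    have hRR : R = R' := by
      apply Sylow.ext
      rw [h1, h2, e]
    subst hRR
    have : x = x' := Subtype.ext (Subtype.ext e)
    rw [this]
  have hle := Nat.card_le_card_of_injective f hinj
  rw [Nat.card_sigma] at hle
  have h3 : ∑ R : Sylow r H, (r - 1) * cr ≤
      ∑ R : Sylow r H,
        Nat.card {x : centralizer ((R : Subgroup H) : Set H) // r ∣ orderOf (x : H)} :=
    Finset.sum_le_sum (fun R _ => h.card_sing_centralizer R)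
  rw [Finset.sum_const, Finset.card_univ, ← Nat.card_eq_fintype_card, h.nsyl, smul_eq_mul] at h3
  calc nr * (r - 1) * cr = nr * ((r - 1) * cr) := by ring
    _ ≤ _ := h3.trans hle

theorem SD.not_dvd_orderOf_one {r nr cr dr : ℕ} (h : SD H r nr cr dr) :
    ¬ r ∣ orderOf (1 : H) := by
  rw [orderOf_one]
  exact fun hd => h.prime.one_lt.ne' (Nat.dvd_one.mp hd)

theorem sing3 {r nr cr dr s ns cs ds t nt ct dt : ℕ} (hr : SD H r nr cr dr)
    (hs : SD H s ns cs ds) (ht : SD H t nt ct dt) (hrs : r ≠ s) (hrt : r ≠ t) (hst : s ≠ t)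
    (h1 : ¬ s ∣ cr) (h2 : ¬ t ∣ cr) (h3 : ¬ t ∣ cs) :
    nr * (r - 1) * cr + ns * (s - 1) * cs + nt * (t - 1) * ct + 1 ≤ Nat.card H := by
  let f : (({x : H // r ∣ orderOf x} ⊕ {x : H // s ∣ orderOf x}) ⊕
      ({x : H // t ∣ orderOf x} ⊕ Unit)) → H :=
    Sum.elim (Sum.elim (fun x => x.1) (fun x => x.1)) (Sum.elim (fun x => x.1) (fun _ => 1))
  have hinj : Function.Injective f := by
    rintro ((x | x) | (x | x)) ((y | y) | (y | y)) hxy
    · have e : x.1 = y.1 := hxy
      rw [Subtype.ext e]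
    · exfalso
      have e : x.1 = y.1 := hxy
      exact hr.sing_disjoint hs.prime hrs h1 x.1 x.2 (e ▸ y.2)
    · exfalso
      have e : x.1 = y.1 := hxy
      exact hr.sing_disjoint ht.prime hrt h2 x.1 x.2 (e ▸ y.2)
    · exfalso
      have e : x.1 = 1 := hxy
      exact hr.not_dvd_orderOf_one (e ▸ x.2)
    · exfalso
      have e : x.1 = y.1 := hxy
      exact hr.sing_disjoint hs.prime hrs h1 y.1 y.2 (e ▸ x.2)
    · have e : x.1 = y.1 := hxy
      rw [Subtype.ext e]
    · exfalso
      have e : x.1 = y.1 := hxy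
      exact hs.sing_disjoint ht.prime hst h3 x.1 x.2 (e ▸ y.2)
    · exfalso
      have e : x.1 = 1 := hxy
      exact hs.not_dvd_orderOf_one (e ▸ x.2)
    · exfalso
      have e : x.1 = y.1 := hxy
      exact hr.sing_disjoint ht.prime hrt h2 y.1 y.2 (e ▸ x.2)
    · exfalso
      have e : x.1 = y.1 := hxy
      exact hs.sing_disjoint ht.prime hst h3 y.1 y.2 (e ▸ x.2)
    · have e : x.1 = y.1 := hxy
      rw [Subtype.ext e]
    · exfalso
      have e : x.1 = 1 := hxy
      exact ht.not_dvd_orderOf_one (e ▸ x.2)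
    · exfalso
      have e : (1 : H) = y.1 := hxy
      exact hr.not_dvd_orderOf_one (e ▸ y.2)
    · exfalso
      have e : (1 : H) = y.1 := hxy
      exact hs.not_dvd_orderOf_one (e ▸ y.2)
    · exfalso
      have e : (1 : H) = y.1 := hxy
      exact ht.not_dvd_orderOf_one (e ▸ y.2)
    · rfl
  have hle := Nat.card_le_card_of_injective f hinj
  rw [Nat.card_sum, Nat.card_sum, Nat.card_sum] at hle
  have hu : Nat.card Unit = 1 := Nat.card_unique
  have a1 := hr.sing_lower
  have a2 := hs.sing_lower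
  have a3 := ht.sing_lower
  omega

end Cfsg.Agent.Lib.Helper18.J1
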