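import Mathlib
import Cfsg.Agent.Lib.Helper18.J1B

set_option autoImplicit false

namespace Cfsg.Agent.Lib.Helper18.J1

open Subgroup
open Cfsg.Agent.Lib.helper8 Cfsg.Agent.Lib.helper23

variable {H : Type*} [Group H] [Finite H]

/-- an element normalizing `K` whose order is coprime to `|Aut K|` centralizes `K` -/
theorem mem_centralizer_of_coprime (K : Subgroup H) (y : H)
    (hy : y ∈ normalizer (K : Set H))
    (hcop : (orderOf y).Coprime (Nat.card (MulAut K))) : y ∈ centralizer (K : Set H) := by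
  have h1 : orderOf (K.normalizerMonoidHom ⟨y, hy⟩) ∣ orderOf y := by
    have := orderOf_map_dvd K.normalizerMonoidHom (⟨y, hy⟩ : normalizer (K : Set H))
    rwa [Subgroup.orderOf_mk] at this
  have h2 : orderOf (K.normalizerMonoidHom ⟨y, hy⟩) ∣ Nat.card (MulAut K) := orderOf_dvd_natCard _
  have h3 : orderOf (K.normalizerMonoidHom ⟨y, hy⟩) = 1 :=
    Nat.eq_one_of_dvd_coprimes hcop h1 h2
  have h4 : (⟨y, hy⟩ : normalizer (K : Set H)) ∈ K.normalizerMonoidHom.ker := by
    rw [MonoidHom.mem_ker]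
    exact orderOf_eq_one_iff.mp h3
  rw [normalizerMonoidHom_ker, mem_subgroupOf] at h4
  exact h4

theorem SD.normalizer_ne_top {r nr cr dr : ℕ} (h : SD H r nr cr dr) (R : Sylow r H) :
    normalizer ((R : Subgroup H) : Set H) ≠ ⊤ := by
  intro htop
  have h1 := h.cardN R
  rw [htop, Subgroup.card_top, ← h.eq] at h1
  have hpos : 0 < r * cr * dr := by
    rw [← h.cardN R]; exact Nat.card_pos
  have h2 : nr * (r * cr * dr) = 1 * (r * cr * dr) := by linarith
  exact h.ne1 (Nat.eq_of_mul_eq_mul_right hpos h2)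

theorem umod {n c d r nr cr dr : ℕ} (h19 : SD H 19 n c d) (hr : SD H r nr cr dr)
    (hr18 : ¬ r ∣ 18) (hrc : r ∣ c)
    (hU : ∀ (Q : Sylow 19 H) (Y : Subgroup H), Y ≠ ⊤ → (Q : Subgroup H) ≤ Y →
      Y ≤ normalizer ((Q : Subgroup H) : Set H)) : n % r = 1 := by
  haveI : Fact (Nat.Prime 19) := ⟨h19.prime⟩
  haveI : Fact r.Prime := ⟨hr.prime⟩
  obtain ⟨P⟩ : Nonempty (Sylow 19 H) := inferInstance
  have h1 : r ∣ Nat.card (centralizer ((P : Subgroup H) : Set H)) := by
    rw [h19.cardC P]; exact dvd_mul_of_dvd_right hrc 19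
  obtain ⟨y, hy⟩ := exists_prime_orderOf_dvd_card' r h1
  have hy' : orderOf (y : H) = r := by rw [Subgroup.orderOf_coe]; exact hy
  obtain ⟨S, hS⟩ := hr.sylow_of_orderOf (y : H) hy'
  have hNS := hr.normalizer_ne_top S
  -- anything commuting with `y` lies in `N(S)`
  have hcomm : ∀ x : H, Commute x (y : H) → x ∈ normalizer ((S : Subgroup H) : Set H) := by
    intro x hx
    apply centralizer_le_normalizer
    rw [mem_centralizer_iff]
    intro z hz
    have hz' : z ∈ zpowers (y : H) := by rw [← hS]; exact hz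
    obtain ⟨j, rfl⟩ := mem_zpowers_iff.mp hz'
    exact (hx.zpow_right j).eq.symm
  have hPN : (P : Subgroup H) ≤ normalizer ((S : Subgroup H) : Set H) := by
    intro x hx
    exact hcomm x (mem_centralizer_iff.mp y.2 x hx)
  have hNP := hU P _ hNS hPN
  have hpg : IsPGroup r (zpowers (y : H)) := by
    apply IsPGroup.of_card (n := 1)
    rw [Nat.card_zpowers, hy', pow_one]
  have hmod := hpg.card_modEq_card_fixedPoints (Sylow 19 H)
  have hfix : Nat.card (MulAction.fixedPoints (zpowers (y : H)) (Sylow 19 H)) = 1 := by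
    rw [Nat.card_eq_one_iff_unique]
    constructor
    · constructor
      rintro ⟨Q, hQ⟩ ⟨Q', hQ'⟩
      apply Subtype.ext
      show Q = Q'
      have key : ∀ Q₀ : Sylow 19 H, Q₀ ∈ MulAction.fixedPoints (zpowers (y : H)) (Sylow 19 H) →
          Q₀ = P := by
        intro Q₀ hQ₀
        have h2 : (y : H) • Q₀ = Q₀ := hQ₀ ⟨(y : H), mem_zpowers _⟩
        have h3 : (y : H) ∈ normalizer ((Q₀ : Subgroup H) : Set H) :=
          Sylow.smul_eq_iff_mem_normalizer.mp h2
        haveI : IsCyclic (Q₀ : Subgroup H) := isCyclic_of_prime_card (h19.cardR Q₀)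
        have hcop : (orderOf (y : H)).Coprime (Nat.card (MulAut (Q₀ : Subgroup H))) := by
          rw [IsCyclic.card_mulAut, h19.cardR Q₀, Nat.totient_prime h19.prime, hy']
          exact (Nat.Prime.coprime_iff_not_dvd hr.prime).mpr hr18
        have h4 := mem_centralizer_of_coprime (Q₀ : Subgroup H) (y : H) h3 hcop
        have h5 : (Q₀ : Subgroup H) ≤ normalizer ((P : Subgroup H) : Set H) := by
          intro x hx
          exact hNP (hcomm x (mem_centralizer_iff.mp h4 x hx))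
        have h6 := h8_le_sylow_of_le_normalizer 19 P (Q₀ : Subgroup H) Q₀.2 h5
        exact h8_sylow_eq_of_le 19 Q₀ P h6
      rw [key Q hQ, key Q' hQ']
    · refine ⟨⟨P, ?_⟩⟩
      intro g
      have hg : (g : H) ∈ normalizer ((P : Subgroup H) : Set H) := by
        obtain ⟨j, hj⟩ := mem_zpowers_iff.mp g.2
        rw [← hj]
        exact zpow_mem (centralizer_le_normalizer _ y.2) j
      exact Sylow.smul_eq_iff_mem_normalizer.mpr hg
  rw [hfix, h19.nsyl] at hmod
  have := hmod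
  rw [Nat.ModEq, Nat.mod_eq_of_lt hr.prime.one_lt] at this
  exact this

theorem p1 [IsSimpleGroup H] (hnc : ¬ IsMulCommutative H) {n c d : ℕ} (h19 : SD H 19 n c d)
    (hc : c % 2 = 1) (hd : d % 2 = 0) : ∃ f, 1 ≤ f ∧ f * 19 ≤ n + 18 ∧ 4 ∣ n - f := by
  haveI : Fact (Nat.Prime 19) := ⟨h19.prime⟩
  haveI : Fact (Nat.Prime 2) := ⟨Nat.prime_two⟩
  obtain ⟨P⟩ : Nonempty (Sylow 19 H) := inferInstance
  have hP := h19.cardR P
  have h1 : 2 ∣ Nat.card (normalizer ((P : Subgroup H) : Set H)) := by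
    rw [h19.cardN P]
    exact dvd_mul_of_dvd_right (Nat.dvd_of_mod_eq_zero hd) _
  obtain ⟨t, ht⟩ := exists_prime_orderOf_dvd_card' 2 h1
  have ht' : orderOf (t : H) = 2 := by rw [Subgroup.orderOf_coe]; exact ht
  have htC : (t : H) ∉ centralizer ((P : Subgroup H) : Set H) := by
    intro hmem
    have := Subgroup.orderOf_dvd_natCard _ hmem
    rw [ht', h19.cardC P] at this
    have h2 : (19 * c) % 2 = 1 := by omega
    omega
  have hb := Cfsg.Agent.S1018.part_b 19 P hP (t : H) t.2 htC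
  have ho := h8_card_orbits_sylow_prime 19 P hP
  rw [h19.nsyl] at ho
  have hX : Nat.card (H ⧸ normalizer ((P : Subgroup H) : Set H)) = n :=
    P.card_eq_card_quotient_normalizer.symm.trans h19.nsyl
  have hpar := h8_simple_involution_fixed (X := H ⧸ normalizer ((P : Subgroup H) : Set H)) hnc
    (t : H) (by rw [← ht']; exact pow_orderOf_eq_one _)
  rw [hX] at hpar
  refine ⟨Nat.card (MulAction.fixedBy (H ⧸ normalizer ((P : Subgroup H) : Set H)) (t : H)),
    ?_, ?_, hpar⟩
  · apply Nat.card_pos_iff.mpr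
    exact ⟨⟨⟨((1 : H) : H ⧸ normalizer ((P : Subgroup H) : Set H)),
      og2_base_fixed _ (t : H) t.2⟩⟩, inferInstance⟩
  · calc _ ≤ Nat.card (MulAction.orbitRel.Quotient ↥(P : Subgroup H)
          (H ⧸ normalizer ((P : Subgroup H) : Set H))) * 19 := Nat.mul_le_mul_right 19 hb
      _ = n + 18 := by rw [ho]

theorem p2 [IsSimpleGroup H] (hnc : ¬ IsMulCommutative H) {n c d : ℕ} (h19 : SD H 19 n c d)
    (hc : c % 2 = 0) :
    ∃ f, f % 19 = 1 ∧ 4 ∣ n - f ∧ f < n ∧
      (n + 18 < f * 19 → ∃ m' k, 1 ≤ m' ∧ m' + 1 ≤ c ∧ f * k = n * m') := by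
  haveI : Fact (Nat.Prime 19) := ⟨h19.prime⟩
  obtain ⟨P⟩ : Nonempty (Sylow 19 H) := inferInstance
  have hP := h19.cardR P
  have h2 : 2 ∣ Nat.card (centralizer ((P : Subgroup H) : Set H)) := by
    rw [h19.cardC P]
    exact dvd_mul_of_dvd_right (Nat.dvd_of_mod_eq_zero hc) _
  have hn1 : Nat.card (Sylow 19 H) ≠ 1 := by rw [h19.nsyl]; exact h19.ne1
  obtain ⟨t, -, -, f, -, hf1, hf2, hf3, hf4⟩ :=
    og3_invol_package hnc 19 (by decide) P hP h2 hn1
  have ho := h8_card_orbits_sylow_prime 19 P hP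
  rw [h19.nsyl] at ho hf2 hf3 hf4
  refine ⟨f, ?_, hf2, hf3, ?_⟩
  · have := hf1
    rw [Nat.ModEq] at this
    omega
  · intro hlt
    have hlt' : Nat.card (MulAction.orbitRel.Quotient ↥(P : Subgroup H)
        (H ⧸ normalizer ((P : Subgroup H) : Set H))) < f := by
      by_contra hge
      push_neg at hge
      have := Nat.mul_le_mul_right 19 hge
      omega
    obtain ⟨m', hm1, hm2, hm3⟩ := hf4 hlt'
    rw [h19.cardC P] at hm2
    exact ⟨m', _, hm1, by omega, hm3⟩

end Cfsg.Agent.Lib.Helper18.J1
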