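import Mathlib

set_option autoImplicit false

namespace Cfsg.Agent.Lib.Helper18.J1

/-- the arithmetic data extracted from a minimal simple configuration -/
structure AD (m n c d n5 c5 d5 n7 c7 d7 n11 c11 d11 : ℕ) : Prop where
  hm : m ∣ 175560
  e19 : n * 19 * c * d = m
  mod19 : n % 19 = 1
  ne19 : n ≠ 1
  dd19 : d ∣ 18
  dg19 : 2 ≤ d
  e5 : 5 ∣ m → n5 * 5 * c5 * d5 = m
  mod5 : 5 ∣ m → n5 % 5 = 1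
  dd5 : 5 ∣ m → d5 ∣ 4
  dg5 : 5 ∣ m → 2 ≤ d5
  e7 : 7 ∣ m → n7 * 7 * c7 * d7 = m
  mod7 : 7 ∣ m → n7 % 7 = 1
  dd7 : 7 ∣ m → d7 ∣ 6
  dg7 : 7 ∣ m → 2 ≤ d7
  e11 : 11 ∣ m → n11 * 11 * c11 * d11 = m
  mod11 : 11 ∣ m → n11 % 11 = 1
  dd11 : 11 ∣ m → d11 ∣ 10
  dg11 : 11 ∣ m → 2 ≤ d11
  a5 : 5 ∣ m → 19 ∣ c5 → 5 ∣ c
  a7 : 7 ∣ m → 19 ∣ c7 → 7 ∣ c
  a11 : 11 ∣ m → 19 ∣ c11 → 11 ∣ c
  a57 : 5 ∣ m → 7 ∣ m → 7 ∣ c5 → 5 ∣ c7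
  a711 : 7 ∣ m → 11 ∣ m → 11 ∣ c7 → 7 ∣ c11
  u5 : 5 ∣ m → 5 ∣ c → n % 5 = 1
  u7 : 7 ∣ m → 7 ∣ c → n % 7 = 1
  u11 : 11 ∣ m → 11 ∣ c → n % 11 = 1
  s57 : 5 ∣ m → 7 ∣ m → ¬ 7 ∣ c5 → ¬ 19 ∣ c5 → ¬ 19 ∣ c7 →
    n5 * 4 * c5 + n7 * 6 * c7 + n * 18 * c + 1 ≤ m
  s711 : 7 ∣ m → 11 ∣ m → ¬ 11 ∣ c7 → ¬ 19 ∣ c7 → ¬ 19 ∣ c11 →
    n7 * 6 * c7 + n11 * 10 * c11 + n * 18 * c + 1 ≤ m
  p1 : c % 2 = 1 → d % 2 = 0 → ∃ f, 1 ≤ f ∧ f * 19 ≤ n + 18 ∧ 4 ∣ n - f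
  p2 : c % 2 = 0 → ∃ f, f % 19 = 1 ∧ 4 ∣ n - f ∧ f < n ∧
      (n + 18 < f * 19 → ∃ m' k, 1 ≤ m' ∧ m' + 1 ≤ c ∧ f * k = n * m')

theorem dvd_n_of_prod {p nr r cr dr m : ℕ} (hp : p.Prime) (h : nr * r * cr * dr = m)
    (hm : p ∣ m) (h1 : ¬ p ∣ r) (h2 : ¬ p ∣ cr) (h3 : ¬ p ∣ dr) : p ∣ nr := by
  rw [← h] at hm
  rcases hp.dvd_mul.mp hm with h4 | h4
  · rcases hp.dvd_mul.mp h4 with h5 | h5
    · rcases hp.dvd_mul.mp h5 with h6 | h6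
      · exact h6
      · exact absurd h6 h1
    · exact absurd h5 h2
  · exact absurd h4 h3

theorem split19 {nr r cr dr m K : ℕ} (h : nr * r * cr * dr = m) (hm : m = 19 * r * K)
    (hr : 0 < r) (h19 : 19 ∣ nr) : ∃ j, nr = 19 * j ∧ j * (cr * dr) = K := by
  obtain ⟨j, rfl⟩ := h19
  refine ⟨j, rfl, ?_⟩
  have h1 : 19 * r * (j * (cr * dr)) = 19 * r * K := by
    rw [← hm, ← h]; ring
  exact Nat.eq_of_mul_eq_mul_left (by positivity) h1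

theorem d_of_dvd4 {x : ℕ} (h : x ∣ 4) (h2 : 2 ≤ x) : x = 2 ∨ x = 4 := by
  have : x ≤ 4 := Nat.le_of_dvd (by norm_num) h
  interval_cases x <;> omega

theorem d_of_dvd6 {x : ℕ} (h : x ∣ 6) (h2 : 2 ≤ x) : x = 2 ∨ x = 3 ∨ x = 6 := by
  have : x ≤ 6 := Nat.le_of_dvd (by norm_num) h
  interval_cases x <;> omega

theorem d_of_dvd10 {x : ℕ} (h : x ∣ 10) (h2 : 2 ≤ x) : x = 2 ∨ x = 5 ∨ x = 10 := by
  have : x ≤ 10 := Nat.le_of_dvd (by norm_num) h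
  interval_cases x <;> omega

theorem d_of_dvd18 {x : ℕ} (h : x ∣ 18) (h2 : 2 ≤ x) :
    x = 2 ∨ x = 3 ∨ x = 6 ∨ x = 9 ∨ x = 18 := by
  have : x ≤ 18 := Nat.le_of_dvd (by norm_num) h
  interval_cases x <;> omega

section
variable {m n c d n5 c5 d5 n7 c7 d7 n11 c11 d11 : ℕ}

theorem AD.ncd_dvd (h : AD m n c d n5 c5 d5 n7 c7 d7 n11 c11 d11) : n * c * d ∣ 9240 := by
  have h1 : n * c * d * 19 ∣ 9240 * 19 := by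
    have e : n * c * d * 19 = m := by rw [← h.e19]; ring
    rw [e]
    have : (9240 : ℕ) * 19 = 175560 := by norm_num
    rw [this]
    exact h.hm
  exact Nat.dvd_of_mul_dvd_mul_right (by norm_num) h1

theorem AD.n_cases (h : AD m n c d n5 c5 d5 n7 c7 d7 n11 c11 d11) :
    n = 20 ∨ n = 77 ∨ n = 210 ∨ n = 1540 := by
  have h1 : n ∣ 9240 := (Dvd.intro _ (by ring : n * (c * d) = n * c * d)).trans h.ncd_dvd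
  have h2 : n ∈ Nat.divisors 9240 := Nat.mem_divisors.mpr ⟨h1, by norm_num⟩
  have h3 := h.mod19
  have h4 := h.ne19
  simp only [Nat.divisors_ofNat, Finset.mem_insert, Finset.mem_singleton] at h2
  casesm* _ ∨ _ <;> omega

theorem AD.c_pos (h : AD m n c d n5 c5 d5 n7 c7 d7 n11 c11 d11) : 0 < c := by
  rcases Nat.eq_zero_or_pos c with h0 | h0
  · exfalso
    have h1 := h.ncd_dvd
    rw [h0] at h1
    simp at h1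
  · exact h0

end

end Cfsg.Agent.Lib.Helper18.J1
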