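import Mathlib
import Cfsg.Agent.Lib.Helper18.J1D

set_option autoImplicit false

namespace Cfsg.Agent.Lib.Helper18.J1

variable {m n c d n5 c5 d5 n7 c7 d7 n11 c11 d11 : ℕ}

theorem AD.n20 (h : AD m n c d n5 c5 d5 n7 c7 d7 n11 c11 d11) (hn : n = 20) : False := by
  subst hn
  have hcd : c * d ∣ 462 := by
    have h1 := h.ncd_dvd
    have h2 : 20 * (c * d) ∣ 20 * 462 := by
      have : 20 * (c * d) = 20 * c * d := by ring
      rw [this]; exact h1
    exact Nat.dvd_of_mul_dvd_mul_left (by norm_num) h2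
  have hcpos := h.c_pos
  have hm' : m = 380 * (c * d) := by rw [← h.e19]; ring
  have h7c : ¬ 7 ∣ c := by
    intro h7
    have h7m : 7 ∣ m := by
      rw [hm']; exact Dvd.dvd.mul_left (Dvd.dvd.mul_right h7 d) 380
    have := h.u7 h7m h7
    omega
  have h11c : ¬ 11 ∣ c := by
    intro h11
    have h11m : 11 ∣ m := by
      rw [hm']; exact Dvd.dvd.mul_left (Dvd.dvd.mul_right h11 d) 380
    have := h.u11 h11m h11
    omega
  have hmem : c * d ∈ Nat.divisors 462 := Nat.mem_divisors.mpr ⟨hcd, by norm_num⟩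
  simp only [Nat.divisors_ofNat, Finset.mem_insert, Finset.mem_singleton] at hmem
  have hcases : (c = 1 ∧ d = 2) ∨ (c = 3 ∧ d = 2) ∨ (c = 1 ∧ d = 3) ∨ (c = 2 ∧ d = 3) ∨
      (c = 1 ∧ d = 6) := by
    rcases d_of_dvd18 h.dd19 h.dg19 with rfl | rfl | rfl | rfl | rfl <;>
      casesm* _ ∨ _ <;> omega
  rcases hcases with ⟨rfl, rfl⟩ | ⟨rfl, rfl⟩ | ⟨rfl, rfl⟩ | ⟨rfl, rfl⟩ | ⟨rfl, rfl⟩
  · obtain ⟨f, hf1, hf2, hf3⟩ := h.p1 (by norm_num) (by norm_num)
    omega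
  · obtain ⟨f, hf1, hf2, hf3⟩ := h.p1 (by norm_num) (by norm_num)
    omega
  · -- m = 1140
    have hm1 : m = 1140 := by rw [hm']
    have h5m : 5 ∣ m := by rw [hm1]; norm_num
    have e5 := h.e5 h5m
    have hd5 := d_of_dvd4 (h.dd5 h5m) (h.dg5 h5m)
    have hc5 : ¬ 19 ∣ c5 := by
      intro h19
      have := h.a5 h5m h19
      omega
    have hn5 : 19 ∣ n5 := dvd_n_of_prod (by norm_num) e5 (by rw [hm1]; norm_num) (by norm_num) hc5
      (by rcases hd5 with rfl | rfl <;> norm_num)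
    obtain ⟨j, rfl, hj⟩ := split19 e5 (by rw [hm1] : m = 19 * 5 * 12) (by norm_num) hn5
    have hmod := h.mod5 h5m
    have hjm : j ∈ Nat.divisors 12 := Nat.mem_divisors.mpr ⟨Dvd.intro _ hj, by norm_num⟩
    simp only [Nat.divisors_ofNat, Finset.mem_insert, Finset.mem_singleton] at hjm
    rcases hd5 with rfl | rfl <;> casesm* _ ∨ _ <;> subst_vars <;> omega
  · obtain ⟨f, hf1, hf2, hf3, -⟩ := h.p2 (by norm_num)
    omega
  · obtain ⟨f, hf1, hf2, hf3⟩ := h.p1 (by norm_num) (by norm_num)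
    omega

end Cfsg.Agent.Lib.Helper18.J1
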