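import Mathlib
import Cfsg.Agent.Lib.Helper18.J1D

set_option autoImplicit false

namespace Cfsg.Agent.Lib.Helper18.J1

theorem j84_5 {j x : ℕ} (h : j * x = 84) (hm : (19 * j) % 5 = 1) : j = 4 ∨ j = 14 ∨ j = 84 := by
  have hjm : j ∈ Nat.divisors 84 := Nat.mem_divisors.mpr ⟨Dvd.intro _ h, by norm_num⟩
  simp only [Nat.divisors_ofNat, Finset.mem_insert, Finset.mem_singleton] at hjm
  casesm* _ ∨ _ <;> omega

theorem j60_7 {j x : ℕ} (h : j * x = 60) (hm : (19 * j) % 7 = 1) : j = 3 ∨ j = 10 := by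
  have hjm : j ∈ Nat.divisors 60 := Nat.mem_divisors.mpr ⟨Dvd.intro _ h, by norm_num⟩
  simp only [Nat.divisors_ofNat, Finset.mem_insert, Finset.mem_singleton] at hjm
  casesm* _ ∨ _ <;> omega

theorem j924_5 {j x : ℕ} (h : j * x = 924) (hm : (19 * j) % 5 = 1) : j = 4 ∨ j = 14 ∨ j = 44 ∨ j = 84 ∨ j = 154 ∨ j = 924 := by
  have hjm : j ∈ Nat.divisors 924 := Nat.mem_divisors.mpr ⟨Dvd.intro _ h, by norm_num⟩
  simp only [Nat.divisors_ofNat, Finset.mem_insert, Finset.mem_singleton] at hjm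
  casesm* _ ∨ _ <;> omega

theorem j660_7 {j x : ℕ} (h : j * x = 660) (hm : (19 * j) % 7 = 1) : j = 3 ∨ j = 10 ∨ j = 66 ∨ j = 220 := by
  have hjm : j ∈ Nat.divisors 660 := Nat.mem_divisors.mpr ⟨Dvd.intro _ h, by norm_num⟩
  simp only [Nat.divisors_ofNat, Finset.mem_insert, Finset.mem_singleton] at hjm
  casesm* _ ∨ _ <;> omega

theorem j616_5 {j x : ℕ} (h : j * x = 616) (hm : (19 * j) % 5 = 1) : j = 4 ∨ j = 14 ∨ j = 44 ∨ j = 154 := by
  have hjm : j ∈ Nat.divisors 616 := Nat.mem_divisors.mpr ⟨Dvd.intro _ h, by norm_num⟩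
  simp only [Nat.divisors_ofNat, Finset.mem_insert, Finset.mem_singleton] at hjm
  casesm* _ ∨ _ <;> omega

theorem j440_7 {j x : ℕ} (h : j * x = 440) (hm : (19 * j) % 7 = 1) : j = 10 ∨ j = 220 := by
  have hjm : j ∈ Nat.divisors 440 := Nat.mem_divisors.mpr ⟨Dvd.intro _ h, by norm_num⟩
  simp only [Nat.divisors_ofNat, Finset.mem_insert, Finset.mem_singleton] at hjm
  casesm* _ ∨ _ <;> omega

theorem j420_11 {j x : ℕ} (h : j * x = 420) (hm : (19 * j) % 11 = 1) : j = 7 ∨ j = 84 := by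
  have hjm : j ∈ Nat.divisors 420 := Nat.mem_divisors.mpr ⟨Dvd.intro _ h, by norm_num⟩
  simp only [Nat.divisors_ofNat, Finset.mem_insert, Finset.mem_singleton] at hjm
  casesm* _ ∨ _ <;> omega

theorem j22_7 {j x : ℕ} (h : j * x = 22) (hm : (19 * j) % 7 = 1) : False := by
  have hjm : j ∈ Nat.divisors 22 := Nat.mem_divisors.mpr ⟨Dvd.intro _ h, by norm_num⟩
  simp only [Nat.divisors_ofNat, Finset.mem_insert, Finset.mem_singleton] at hjm
  casesm* _ ∨ _ <;> omega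

theorem j14_11 {j x : ℕ} (h : j * x = 14) (hm : (19 * j) % 11 = 1) : j = 7 := by
  have hjm : j ∈ Nat.divisors 14 := Nat.mem_divisors.mpr ⟨Dvd.intro _ h, by norm_num⟩
  simp only [Nat.divisors_ofNat, Finset.mem_insert, Finset.mem_singleton] at hjm
  casesm* _ ∨ _ <;> omega

theorem j33_7 {j x : ℕ} (h : j * x = 33) (hm : (19 * j) % 7 = 1) : j = 3 := by
  have hjm : j ∈ Nat.divisors 33 := Nat.mem_divisors.mpr ⟨Dvd.intro _ h, by norm_num⟩
  simp only [Nat.divisors_ofNat, Finset.mem_insert, Finset.mem_singleton] at hjm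
  casesm* _ ∨ _ <;> omega

theorem j21_11 {j x : ℕ} (h : j * x = 21) (hm : (19 * j) % 11 = 1) : j = 7 := by
  have hjm : j ∈ Nat.divisors 21 := Nat.mem_divisors.mpr ⟨Dvd.intro _ h, by norm_num⟩
  simp only [Nat.divisors_ofNat, Finset.mem_insert, Finset.mem_singleton] at hjm
  casesm* _ ∨ _ <;> omega

theorem j44_7 {j x : ℕ} (h : j * x = 44) (hm : (19 * j) % 7 = 1) : False := by
  have hjm : j ∈ Nat.divisors 44 := Nat.mem_divisors.mpr ⟨Dvd.intro _ h, by norm_num⟩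
  simp only [Nat.divisors_ofNat, Finset.mem_insert, Finset.mem_singleton] at hjm
  casesm* _ ∨ _ <;> omega

theorem j28_11 {j x : ℕ} (h : j * x = 28) (hm : (19 * j) % 11 = 1) : j = 7 := by
  have hjm : j ∈ Nat.divisors 28 := Nat.mem_divisors.mpr ⟨Dvd.intro _ h, by norm_num⟩
  simp only [Nat.divisors_ofNat, Finset.mem_insert, Finset.mem_singleton] at hjm
  casesm* _ ∨ _ <;> omega

theorem j66_7 {j x : ℕ} (h : j * x = 66) (hm : (19 * j) % 7 = 1) : j = 3 ∨ j = 66 := by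
  have hjm : j ∈ Nat.divisors 66 := Nat.mem_divisors.mpr ⟨Dvd.intro _ h, by norm_num⟩
  simp only [Nat.divisors_ofNat, Finset.mem_insert, Finset.mem_singleton] at hjm
  casesm* _ ∨ _ <;> omega

theorem j42_11 {j x : ℕ} (h : j * x = 42) (hm : (19 * j) % 11 = 1) : j = 7 := by
  have hjm : j ∈ Nat.divisors 42 := Nat.mem_divisors.mpr ⟨Dvd.intro _ h, by norm_num⟩
  simp only [Nat.divisors_ofNat, Finset.mem_insert, Finset.mem_singleton] at hjm
  casesm* _ ∨ _ <;> omega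

theorem j88_7 {j x : ℕ} (h : j * x = 88) (hm : (19 * j) % 7 = 1) : False := by
  have hjm : j ∈ Nat.divisors 88 := Nat.mem_divisors.mpr ⟨Dvd.intro _ h, by norm_num⟩
  simp only [Nat.divisors_ofNat, Finset.mem_insert, Finset.mem_singleton] at hjm
  casesm* _ ∨ _ <;> omega

theorem j56_11 {j x : ℕ} (h : j * x = 56) (hm : (19 * j) % 11 = 1) : j = 7 := by
  have hjm : j ∈ Nat.divisors 56 := Nat.mem_divisors.mpr ⟨Dvd.intro _ h, by norm_num⟩
  simp only [Nat.divisors_ofNat, Finset.mem_insert, Finset.mem_singleton] at hjm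
  casesm* _ ∨ _ <;> omega

theorem j132_7 {j x : ℕ} (h : j * x = 132) (hm : (19 * j) % 7 = 1) : j = 3 ∨ j = 66 := by
  have hjm : j ∈ Nat.divisors 132 := Nat.mem_divisors.mpr ⟨Dvd.intro _ h, by norm_num⟩
  simp only [Nat.divisors_ofNat, Finset.mem_insert, Finset.mem_singleton] at hjm
  casesm* _ ∨ _ <;> omega

theorem j84_11 {j x : ℕ} (h : j * x = 84) (hm : (19 * j) % 11 = 1) : j = 7 ∨ j = 84 := by
  have hjm : j ∈ Nat.divisors 84 := Nat.mem_divisors.mpr ⟨Dvd.intro _ h, by norm_num⟩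
  simp only [Nat.divisors_ofNat, Finset.mem_insert, Finset.mem_singleton] at hjm
  casesm* _ ∨ _ <;> omega

theorem j264_7 {j x : ℕ} (h : j * x = 264) (hm : (19 * j) % 7 = 1) : j = 3 ∨ j = 24 ∨ j = 66 := by
  have hjm : j ∈ Nat.divisors 264 := Nat.mem_divisors.mpr ⟨Dvd.intro _ h, by norm_num⟩
  simp only [Nat.divisors_ofNat, Finset.mem_insert, Finset.mem_singleton] at hjm
  casesm* _ ∨ _ <;> omega

theorem j168_11 {j x : ℕ} (h : j * x = 168) (hm : (19 * j) % 11 = 1) : j = 7 ∨ j = 84 := by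
  have hjm : j ∈ Nat.divisors 168 := Nat.mem_divisors.mpr ⟨Dvd.intro _ h, by norm_num⟩
  simp only [Nat.divisors_ofNat, Finset.mem_insert, Finset.mem_singleton] at hjm
  casesm* _ ∨ _ <;> omega

end Cfsg.Agent.Lib.Helper18.J1
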