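import Mathlib
import Cfsg.Agent.Lib.Helper18.J1F

set_option autoImplicit false

namespace Cfsg.Agent.Lib.Helper18.J1

variable {m n c d n5 c5 d5 n7 c7 d7 n11 c11 d11 : ℕ}

/-- the possible Sylow 5 data in order 87780 -/
theorem five_87780 {j : ℕ} (hj : j * (c5 * d5) = 924) (hmod : (19 * j) % 5 = 1)
    (hd5 : d5 = 2 ∨ d5 = 4) : (j = 14 ∧ c5 = 33 ∧ d5 = 2) ∨ (j = 154 ∧ c5 = 3 ∧ d5 = 2) := by
  rcases j924_5 hj hmod with rfl | rfl | rfl | rfl | rfl | rfl <;>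
    rcases hd5 with rfl | rfl <;> omega

/-- the possible Sylow 7 data in order 87780 -/
theorem seven_87780 {j : ℕ} (hj : j * (c7 * d7) = 660) (hmod : (19 * j) % 7 = 1)
    (hd7 : d7 = 2 ∨ d7 = 3 ∨ d7 = 6) :
    (j = 3 ∧ c7 = 110) ∨ (j = 10 ∧ c7 = 33) ∨ (j = 10 ∧ c7 = 22) ∨ (j = 10 ∧ c7 = 11) ∨
      (j = 66 ∧ c7 = 5) ∨ (j = 220 ∧ c7 = 1) := by
  rcases j660_7 hj hmod with rfl | rfl | rfl | rfl <;>
    rcases hd7 with rfl | rfl | rfl <;> omega

theorem AD.n210 (h : AD m n c d n5 c5 d5 n7 c7 d7 n11 c11 d11) (hn : n = 210) :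
    m = 175560 := by
  subst hn
  have hcd : c * d ∣ 44 := by
    have h1 := h.ncd_dvd
    have h2 : 210 * (c * d) ∣ 210 * 44 := by
      have : 210 * (c * d) = 210 * c * d := by ring
      rw [this]; exact h1
    exact Nat.dvd_of_mul_dvd_mul_left (by norm_num) h2
  have hm' : m = 3990 * (c * d) := by rw [← h.e19]; ring
  have hmem : c * d ∈ Nat.divisors 44 := Nat.mem_divisors.mpr ⟨hcd, by norm_num⟩
  simp only [Nat.divisors_ofNat, Finset.mem_insert, Finset.mem_singleton] at hmem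
  have hcases : d = 2 ∧ (c = 1 ∨ c = 2 ∨ c = 11 ∨ c = 22) := by
    rcases d_of_dvd18 h.dd19 h.dg19 with rfl | rfl | rfl | rfl | rfl <;>
      casesm* _ ∨ _ <;> omega
  clear hmem
  obtain ⟨rfl, hc⟩ := hcases
  rcases hc with rfl | rfl | rfl | rfl
  · -- m = 7980
    exfalso
    have hm1 : m = 7980 := by rw [hm']
    have h5m : 5 ∣ m := by rw [hm1]; norm_num
    have h7m : 7 ∣ m := by rw [hm1]; norm_num
    have h19m : 19 ∣ m := by rw [hm1]; norm_num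
    have e5 := h.e5 h5m
    have e7 := h.e7 h7m
    have hd5 := d_of_dvd4 (h.dd5 h5m) (h.dg5 h5m)
    have hd7 := d_of_dvd6 (h.dd7 h7m) (h.dg7 h7m)
    have hc5 : ¬ 19 ∣ c5 := by
      intro h19
      have := h.a5 h5m h19
      omega
    have hc7 : ¬ 19 ∣ c7 := by
      intro h19
      have := h.a7 h7m h19
      omega
    have hn5 : 19 ∣ n5 := dvd_n_of_prod (by norm_num) e5 h19m (by norm_num) hc5
      (by rcases hd5 with rfl | rfl <;> norm_num)
    have hn7 : 19 ∣ n7 := dvd_n_of_prod (by norm_num) e7 h19m (by norm_num) hc7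
      (by rcases hd7 with rfl | rfl | rfl <;> norm_num)
    obtain ⟨j, rfl, hj⟩ := split19 e5 (by rw [hm1] : m = 19 * 5 * 84) (by norm_num) hn5
    obtain ⟨j₂, rfl, hj₂⟩ := split19 e7 (by rw [hm1] : m = 19 * 7 * 60) (by norm_num) hn7
    have hmod5 := h.mod5 h5m
    have hmod7 := h.mod7 h7m
    have h5 : j = 14 ∧ c5 = 3 := by
      rcases j84_5 hj hmod5 with rfl | rfl | rfl <;> rcases hd5 with rfl | rfl <;> omega
    obtain ⟨rfl, rfl⟩ := h5
    have hs := h.s57 h5m h7m (by norm_num) (by norm_num) hc7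
    rw [hm1] at hs
    rcases j60_7 hj₂ hmod7 with rfl | rfl <;> rcases hd7 with rfl | rfl | rfl <;> omega
  · -- m = 15960
    exfalso
    obtain ⟨f, hf1, hf2, hf3, hf4⟩ := h.p2 (by norm_num)
    have hf : f = 58 ∨ f = 134 := by clear hf4; omega
    have hlt : 210 + 18 < f * 19 := by clear hf4; omega
    obtain ⟨m', k, hm1, hm2, hm3⟩ := hf4 hlt
    have hm'1 : m' = 1 := by omega
    subst hm'1
    rcases hf with rfl | rfl <;> omega
  · -- m = 87780
    exfalso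
    have hm1 : m = 87780 := by rw [hm']
    have h5m : 5 ∣ m := by rw [hm1]; norm_num
    have h7m : 7 ∣ m := by rw [hm1]; norm_num
    have h19m : 19 ∣ m := by rw [hm1]; norm_num
    have e5 := h.e5 h5m
    have e7 := h.e7 h7m
    have hd5 := d_of_dvd4 (h.dd5 h5m) (h.dg5 h5m)
    have hd7 := d_of_dvd6 (h.dd7 h7m) (h.dg7 h7m)
    have hc5 : ¬ 19 ∣ c5 := by
      intro h19
      have := h.a5 h5m h19
      omega
    have hc7 : ¬ 19 ∣ c7 := by
      intro h19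
      have := h.a7 h7m h19
      omega
    have hn5 : 19 ∣ n5 := dvd_n_of_prod (by norm_num) e5 h19m (by norm_num) hc5
      (by rcases hd5 with rfl | rfl <;> norm_num)
    have hn7 : 19 ∣ n7 := dvd_n_of_prod (by norm_num) e7 h19m (by norm_num) hc7
      (by rcases hd7 with rfl | rfl | rfl <;> norm_num)
    obtain ⟨j, rfl, hj⟩ := split19 e5 (by rw [hm1] : m = 19 * 5 * 924) (by norm_num) hn5
    obtain ⟨j₂, rfl, hj₂⟩ := split19 e7 (by rw [hm1] : m = 19 * 7 * 660) (by norm_num) hn7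
    have hmod5 := h.mod5 h5m
    have hmod7 := h.mod7 h7m
    have h5 := five_87780 hj hmod5 hd5
    have h7 := seven_87780 hj₂ hmod7 hd7
    have hs := h.s57 h5m h7m
    rw [hm1] at hs
    rcases h5 with ⟨rfl, rfl, rfl⟩ | ⟨rfl, rfl, rfl⟩
    · have hs' := hs (by norm_num) (by norm_num) hc7
      rcases h7 with ⟨rfl, rfl⟩ | ⟨rfl, rfl⟩ | ⟨rfl, rfl⟩ | ⟨rfl, rfl⟩ | ⟨rfl, rfl⟩ | ⟨rfl, rfl⟩ <;>
        omega
    · have hs' := hs (by norm_num) (by norm_num) hc7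
      rcases h7 with ⟨rfl, rfl⟩ | ⟨rfl, rfl⟩ | ⟨rfl, rfl⟩ | ⟨rfl, rfl⟩ | ⟨rfl, rfl⟩ | ⟨rfl, rfl⟩ <;>
        omega
  · rw [hm']

theorem AD.n1540 (h : AD m n c d n5 c5 d5 n7 c7 d7 n11 c11 d11) (hn : n = 1540) :
    m = 175560 := by
  subst hn
  have hcd : c * d ∣ 6 := by
    have h1 := h.ncd_dvd
    have h2 : 1540 * (c * d) ∣ 1540 * 6 := by
      have : 1540 * (c * d) = 1540 * c * d := by ring
      rw [this]; exact h1
    exact Nat.dvd_of_mul_dvd_mul_left (by norm_num) h2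
  have hm' : m = 29260 * (c * d) := by rw [← h.e19]; ring
  have hmem : c * d ∈ Nat.divisors 6 := Nat.mem_divisors.mpr ⟨hcd, by norm_num⟩
  simp only [Nat.divisors_ofNat, Finset.mem_insert, Finset.mem_singleton] at hmem
  have hcases : (c = 1 ∧ d = 2) ∨ (c = 1 ∧ d = 3) ∨ c * d = 6 := by
    rcases d_of_dvd18 h.dd19 h.dg19 with rfl | rfl | rfl | rfl | rfl <;>
      casesm* _ ∨ _ <;> omega
  clear hmem
  rcases hcases with ⟨rfl, rfl⟩ | ⟨rfl, rfl⟩ | h6
  · -- m = 58520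
    exfalso
    have hm1 : m = 58520 := by rw [hm']
    have h5m : 5 ∣ m := by rw [hm1]; norm_num
    have h7m : 7 ∣ m := by rw [hm1]; norm_num
    have h19m : 19 ∣ m := by rw [hm1]; norm_num
    have e5 := h.e5 h5m
    have e7 := h.e7 h7m
    have hd5 := d_of_dvd4 (h.dd5 h5m) (h.dg5 h5m)
    have hd7 := d_of_dvd6 (h.dd7 h7m) (h.dg7 h7m)
    have hc5 : ¬ 19 ∣ c5 := by
      intro h19
      have := h.a5 h5m h19
      omega
    have hc7 : ¬ 19 ∣ c7 := by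
      intro h19
      have := h.a7 h7m h19
      omega
    have hn5 : 19 ∣ n5 := dvd_n_of_prod (by norm_num) e5 h19m (by norm_num) hc5
      (by rcases hd5 with rfl | rfl <;> norm_num)
    have hn7 : 19 ∣ n7 := dvd_n_of_prod (by norm_num) e7 h19m (by norm_num) hc7
      (by rcases hd7 with rfl | rfl | rfl <;> norm_num)
    obtain ⟨j, rfl, hj⟩ := split19 e5 (by rw [hm1] : m = 19 * 5 * 616) (by norm_num) hn5
    obtain ⟨j₂, rfl, hj₂⟩ := split19 e7 (by rw [hm1] : m = 19 * 7 * 440) (by norm_num) hn7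
    have hmod5 := h.mod5 h5m
    have hmod7 := h.mod7 h7m
    have h7 : (j₂ = 10 ∧ c7 = 22) ∨ (j₂ = 220 ∧ c7 = 1) := by
      rcases j440_7 hj₂ hmod7 with rfl | rfl <;> rcases hd7 with rfl | rfl | rfl <;> omega
    have h57 : ¬ 7 ∣ c5 := by
      intro h7c5
      have := h.a57 h5m h7m h7c5
      rcases h7 with ⟨-, rfl⟩ | ⟨-, rfl⟩ <;> omega
    have hs := h.s57 h5m h7m h57 hc5 hc7
    rw [hm1] at hs
    have h5 : (j = 14 ∧ c5 = 22) ∨ (j = 14 ∧ c5 = 11) ∨ (j = 154 ∧ c5 = 2) ∨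
        (j = 154 ∧ c5 = 1) := by
      rcases j616_5 hj hmod5 with rfl | rfl | rfl | rfl <;> rcases hd5 with rfl | rfl <;> omega
    rcases h5 with ⟨rfl, rfl⟩ | ⟨rfl, rfl⟩ | ⟨rfl, rfl⟩ | ⟨rfl, rfl⟩ <;>
      rcases h7 with ⟨rfl, rfl⟩ | ⟨rfl, rfl⟩ <;> omega
  · -- m = 87780
    exfalso
    have hm1 : m = 87780 := by rw [hm']
    have h5m : 5 ∣ m := by rw [hm1]; norm_num
    have h7m : 7 ∣ m := by rw [hm1]; norm_num
    have h11m : 11 ∣ m := by rw [hm1]; norm_num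
    have h19m : 19 ∣ m := by rw [hm1]; norm_num
    have e5 := h.e5 h5m
    have e7 := h.e7 h7m
    have e11 := h.e11 h11m
    have hd5 := d_of_dvd4 (h.dd5 h5m) (h.dg5 h5m)
    have hd7 := d_of_dvd6 (h.dd7 h7m) (h.dg7 h7m)
    have hd11 := d_of_dvd10 (h.dd11 h11m) (h.dg11 h11m)
    have hc5 : ¬ 19 ∣ c5 := by
      intro h19
      have := h.a5 h5m h19
      omega
    have hc7 : ¬ 19 ∣ c7 := by
      intro h19
      have := h.a7 h7m h19
      omega
    have hc11 : ¬ 19 ∣ c11 := by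
      intro h19
      have := h.a11 h11m h19
      omega
    have hn5 : 19 ∣ n5 := dvd_n_of_prod (by norm_num) e5 h19m (by norm_num) hc5
      (by rcases hd5 with rfl | rfl <;> norm_num)
    have hn7 : 19 ∣ n7 := dvd_n_of_prod (by norm_num) e7 h19m (by norm_num) hc7
      (by rcases hd7 with rfl | rfl | rfl <;> norm_num)
    have hn11 : 19 ∣ n11 := dvd_n_of_prod (by norm_num) e11 h19m (by norm_num) hc11
      (by rcases hd11 with rfl | rfl | rfl <;> norm_num)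
    obtain ⟨j, rfl, hj⟩ := split19 e5 (by rw [hm1] : m = 19 * 5 * 924) (by norm_num) hn5
    obtain ⟨j₂, rfl, hj₂⟩ := split19 e7 (by rw [hm1] : m = 19 * 7 * 660) (by norm_num) hn7
    obtain ⟨j₃, rfl, hj₃⟩ := split19 e11 (by rw [hm1] : m = 19 * 11 * 420) (by norm_num) hn11
    have hmod5 := h.mod5 h5m
    have hmod7 := h.mod7 h7m
    have hmod11 := h.mod11 h11m
    have h5 := five_87780 hj hmod5 hd5
    have h7 := seven_87780 hj₂ hmod7 hd7
    have hs := h.s57 h5m h7m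
    rw [hm1] at hs
    have h711 := h.a711 h7m h11m
    have hkey : j₂ = 10 ∧ c7 = 11 := by
      rcases h5 with ⟨rfl, rfl, rfl⟩ | ⟨rfl, rfl, rfl⟩
      · have hs' := hs (by norm_num) (by norm_num) hc7
        rcases h7 with ⟨rfl, rfl⟩ | ⟨rfl, rfl⟩ | ⟨rfl, rfl⟩ | ⟨rfl, rfl⟩ | ⟨rfl, rfl⟩ | ⟨rfl, rfl⟩ <;>
          omega
      · have hs' := hs (by norm_num) (by norm_num) hc7
        rcases h7 with ⟨rfl, rfl⟩ | ⟨rfl, rfl⟩ | ⟨rfl, rfl⟩ | ⟨rfl, rfl⟩ | ⟨rfl, rfl⟩ | ⟨rfl, rfl⟩ <;>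
          omega
    obtain ⟨rfl, rfl⟩ := hkey
    have h7c11 : 7 ∣ c11 := h711 (by norm_num)
    rcases j420_11 hj₃ hmod11 with rfl | rfl <;> rcases hd11 with rfl | rfl | rfl <;> omega
  · rw [hm', h6]

end Cfsg.Agent.Lib.Helper18.J1
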