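import Mathlib
import Cfsg.Agent.Lib.Helper18.J1F

set_option autoImplicit false

namespace Cfsg.Agent.Lib.Helper18.J1

variable {m n c d n5 c5 d5 n7 c7 d7 n11 c11 d11 : ℕ}

theorem AD.n77 (h : AD m n c d n5 c5 d5 n7 c7 d7 n11 c11 d11) (hn : n = 77) : False := by
  subst hn
  have hcd : c * d ∣ 120 := by
    have h1 := h.ncd_dvd
    have h2 : 77 * (c * d) ∣ 77 * 120 := by
      have : 77 * (c * d) = 77 * c * d := by ring
      rw [this]; exact h1
    exact Nat.dvd_of_mul_dvd_mul_left (by norm_num) h2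
  have hm' : m = 1463 * (c * d) := by rw [← h.e19]; ring
  have hcpos := h.c_pos
  have h7m : 7 ∣ m := by rw [hm']; exact Dvd.dvd.mul_right (by norm_num) _
  have h11m : 11 ∣ m := by rw [hm']; exact Dvd.dvd.mul_right (by norm_num) _
  have h19m : 19 ∣ m := by rw [hm']; exact Dvd.dvd.mul_right (by norm_num) _
  have h5c : ¬ 5 ∣ c := by
    intro h5
    have h5m : 5 ∣ m := by
      rw [hm']; exact Dvd.dvd.mul_left (Dvd.dvd.mul_right h5 d) 1463
    have := h.u5 h5m h5
    omega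
  have h7c : ¬ 7 ∣ c := by
    intro h7
    have := h.u7 h7m h7
    omega
  have h11c : ¬ 11 ∣ c := by
    intro h11
    have := h.u11 h11m h11
    omega
  have hc7 : ¬ 19 ∣ c7 := fun h19 => h7c (h.a7 h7m h19)
  have hc11 : ¬ 19 ∣ c11 := fun h19 => h11c (h.a11 h11m h19)
  have e7 := h.e7 h7m
  have e11 := h.e11 h11m
  have hd7 := d_of_dvd6 (h.dd7 h7m) (h.dg7 h7m)
  have hd11 := d_of_dvd10 (h.dd11 h11m) (h.dg11 h11m)
  have hn7 : 19 ∣ n7 := dvd_n_of_prod (by norm_num) e7 h19m (by norm_num) hc7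
    (by rcases hd7 with rfl | rfl | rfl <;> norm_num)
  have hn11 : 19 ∣ n11 := dvd_n_of_prod (by norm_num) e11 h19m (by norm_num) hc11
    (by rcases hd11 with rfl | rfl | rfl <;> norm_num)
  obtain ⟨j, rfl, hj⟩ := split19 e7 (by rw [hm']; ring : m = 19 * 7 * (11 * (c * d)))
    (by norm_num) hn7
  obtain ⟨j', rfl, hj'⟩ := split19 e11 (by rw [hm']; ring : m = 19 * 11 * (7 * (c * d)))
    (by norm_num) hn11
  have hmod7 := h.mod7 h7m
  have hmod11 := h.mod11 h11m
  have h711 := h.a711 h7m h11m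
  have hs := h.s711 h7m h11m
  have hmem : c * d ∈ Nat.divisors 120 := Nat.mem_divisors.mpr ⟨hcd, by norm_num⟩
  simp only [Nat.divisors_ofNat, Finset.mem_insert, Finset.mem_singleton] at hmem
  have hcases : c * d = 2 ∨ c * d = 3 ∨ c * d = 4 ∨ c * d = 6 ∨ c * d = 8 ∨
      (c * d = 12 ∧ 2 ≤ c) ∨ (c * d = 24 ∧ 4 ≤ c) := by
    clear hd7 hd11
    rcases d_of_dvd18 h.dd19 h.dg19 with rfl | rfl | rfl | rfl | rfl <;>
      casesm* _ ∨ _ <;> omega
  clear hmem
  rcases hcases with he | he | he | he | he | ⟨he, hc2⟩ | ⟨he, hc4⟩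
  · rw [he] at hj
    exact j22_7 hj hmod7
  · rw [he] at hj
    have hj3 := j33_7 hj hmod7
    subst hj3
    rcases hd7 with rfl | rfl | rfl <;> omega
  · rw [he] at hj
    exact j44_7 hj hmod7
  · rw [he] at hj hj'
    have h7o : j = 3 ∧ c7 = 11 := by
      rcases j66_7 hj hmod7 with rfl | rfl <;> rcases hd7 with rfl | rfl | rfl <;> omega
    obtain ⟨rfl, rfl⟩ := h7o
    have h7c11 : 7 ∣ c11 := h711 (by norm_num)
    have hj7 := j42_11 hj' hmod11
    subst hj7
    rcases hd11 with rfl | rfl | rfl <;> omega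
  · rw [he] at hj
    exact j88_7 hj hmod7
  · rw [he] at hj hj'
    rw [hm', he] at hs
    have h11o : j' = 7 ∧ c11 = 6 := by
      rcases j84_11 hj' hmod11 with rfl | rfl <;> rcases hd11 with rfl | rfl | rfl <;> omega
    obtain ⟨rfl, rfl⟩ := h11o
    have h7o : (j = 3 ∧ c7 = 22) ∨ (j = 66 ∧ c7 = 1) := by
      rcases j132_7 hj hmod7 with rfl | rfl <;> rcases hd7 with rfl | rfl | rfl <;> omega
    rcases h7o with ⟨rfl, rfl⟩ | ⟨rfl, rfl⟩
    · have h7c11 : 7 ∣ 6 := h711 (by norm_num)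
      omega
    · have := hs (by norm_num) (by norm_num) (by norm_num)
      omega
  · rw [he] at hj hj'
    rw [hm', he] at hs
    have h11o : (j' = 7 ∧ c11 = 12) ∨ (j' = 84 ∧ c11 = 1) := by
      rcases j168_11 hj' hmod11 with rfl | rfl <;> rcases hd11 with rfl | rfl | rfl <;> omega
    have h7o : (j = 3 ∧ c7 = 44) ∨ (j = 66 ∧ c7 = 2) := by
      rcases j264_7 hj hmod7 with rfl | rfl | rfl <;> rcases hd7 with rfl | rfl | rfl <;> omega
    rcases h7o with ⟨rfl, rfl⟩ | ⟨rfl, rfl⟩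
    · have h7c11 : 7 ∣ c11 := h711 (by norm_num)
      rcases h11o with ⟨-, rfl⟩ | ⟨-, rfl⟩ <;> omega
    · rcases h11o with ⟨rfl, rfl⟩ | ⟨rfl, rfl⟩
      · have := hs (by norm_num) (by norm_num) (by norm_num)
        omega
      · have := hs (by norm_num) (by norm_num) (by norm_num)
        omega

end Cfsg.Agent.Lib.Helper18.J1
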