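import Mathlib
import Cfsg.Agent.Lib.Helper18.J1E
import Cfsg.Agent.Lib.Helper18.J1G
import Cfsg.Agent.Lib.Helper18.J1H

set_option autoImplicit false

namespace Cfsg.Agent.Lib.Helper18.J1

variable {m n c d n5 c5 d5 n7 c7 d7 n11 c11 d11 : ℕ}

theorem AD.result (h : AD m n c d n5 c5 d5 n7 c7 d7 n11 c11 d11) : m = 175560 := by
  rcases h.n_cases with hn | hn | hn | hn
  · exact (h.n20 hn).elim
  · exact (h.n77 hn).elim
  · exact h.n210 hn
  · exact h.n1540 hn

end Cfsg.Agent.Lib.Helper18.J1
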