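import Mathlib
import Cfsg.Agent.Lib.Helper18.J1C
import Cfsg.Agent.Lib.Helper18.J1I

set_option autoImplicit false

namespace Cfsg.Agent.Lib.Helper18.J1

open Subgroup

variable {H : Type*} [Group H] [Finite H]

theorem exists_SD' [IsSimpleGroup H] (hnc : ¬ IsMulCommutative H) (r : ℕ) [hr : Fact r.Prime]
    (hrH : r ∣ Nat.card H) (hr2 : ¬ r * r ∣ Nat.card H) : ∃ nr cr dr, SD H r nr cr dr := by
  obtain ⟨k, hk⟩ := hrH
  have hrk : ¬ r ∣ k := by
    intro h
    apply hr2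
    rw [hk]
    exact Nat.mul_dvd_mul_left r h
  have hk1 : 1 < k := by
    rcases Nat.lt_or_ge 1 k with h | h
    · exact h
    · exfalso
      have hpos : 0 < Nat.card H := Nat.card_pos
      have hk0 : k = 1 := by
        rcases Nat.eq_zero_or_pos k with h0 | h0
        · rw [h0, mul_zero] at hk; omega
        · omega
      rw [hk0, mul_one] at hk
      haveI : IsCyclic H := isCyclic_of_prime_card hk
      exact hnc IsCyclic.isMulCommutative
  exact exists_SD r k hk hrk hk1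

theorem lemmaA [IsSimpleGroup H] (hnc : ¬ IsMulCommutative H)
    (hdvd : Nat.card H ∣ 175560) (h19 : 19 ∣ Nat.card H)
    (hU : ∀ (Q : Sylow 19 H) (Y : Subgroup H), Y ≠ ⊤ → (Q : Subgroup H) ≤ Y →
      Y ≤ normalizer ((Q : Subgroup H) : Set H)) :
    Nat.card H = 175560 := by
  haveI : Fact (Nat.Prime 19) := ⟨by norm_num⟩
  haveI : Fact (Nat.Prime 5) := ⟨by norm_num⟩
  haveI : Fact (Nat.Prime 7) := ⟨by norm_num⟩
  haveI : Fact (Nat.Prime 11) := ⟨by norm_num⟩
  have hsq : ∀ r : ℕ, ¬ r * r ∣ 175560 → ¬ r * r ∣ Nat.card H := fun r h h' => h (h'.trans hdvd)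
  obtain ⟨n, c, d, S19⟩ := exists_SD' hnc 19 h19 (hsq 19 (by norm_num))
  obtain ⟨n5, c5, d5, S5⟩ : ∃ n5 c5 d5, 5 ∣ Nat.card H → SD H 5 n5 c5 d5 := by
    by_cases h : 5 ∣ Nat.card H
    · obtain ⟨a, b, c, h'⟩ := exists_SD' hnc 5 h (hsq 5 (by norm_num))
      exact ⟨a, b, c, fun _ => h'⟩
    · exact ⟨0, 0, 0, fun h' => absurd h' h⟩
  obtain ⟨n7, c7, d7, S7⟩ : ∃ n7 c7 d7, 7 ∣ Nat.card H → SD H 7 n7 c7 d7 := by
    by_cases h : 7 ∣ Nat.card H
    · obtain ⟨a, b, c, h'⟩ := exists_SD' hnc 7 h (hsq 7 (by norm_num))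
      exact ⟨a, b, c, fun _ => h'⟩
    · exact ⟨0, 0, 0, fun h' => absurd h' h⟩
  obtain ⟨n11, c11, d11, S11⟩ : ∃ n11 c11 d11, 11 ∣ Nat.card H → SD H 11 n11 c11 d11 := by
    by_cases h : 11 ∣ Nat.card H
    · obtain ⟨a, b, c, h'⟩ := exists_SD' hnc 11 h (hsq 11 (by norm_num))
      exact ⟨a, b, c, fun _ => h'⟩
    · exact ⟨0, 0, 0, fun h' => absurd h' h⟩
  have hAD : AD (Nat.card H) n c d n5 c5 d5 n7 c7 d7 n11 c11 d11 :=
    { hm := hdvd
      e19 := S19.eq
      mod19 := S19.mod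
      ne19 := S19.ne1
      dd19 := S19.ddvd
      dg19 := S19.dge
      e5 := fun h => (S5 h).eq
      mod5 := fun h => (S5 h).mod
      dd5 := fun h => (S5 h).ddvd
      dg5 := fun h => (S5 h).dge
      e7 := fun h => (S7 h).eq
      mod7 := fun h => (S7 h).mod
      dd7 := fun h => (S7 h).ddvd
      dg7 := fun h => (S7 h).dge
      e11 := fun h => (S11 h).eq
      mod11 := fun h => (S11 h).mod
      dd11 := fun h => (S11 h).ddvd
      dg11 := fun h => (S11 h).dge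
      a5 := fun h h' => (S5 h).adj S19 (by norm_num) h'
      a7 := fun h h' => (S7 h).adj S19 (by norm_num) h'
      a11 := fun h h' => (S11 h).adj S19 (by norm_num) h'
      a57 := fun h5 h7 h' => (S5 h5).adj (S7 h7) (by norm_num) h'
      a711 := fun h7 h11 h' => (S7 h7).adj (S11 h11) (by norm_num) h'
      u5 := fun h hc => umod S19 (S5 h) (by norm_num) hc hU
      u7 := fun h hc => umod S19 (S7 h) (by norm_num) hc hU
      u11 := fun h hc => umod S19 (S11 h) (by norm_num) hc hU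
      s57 := fun h5 h7 h1 h2 h3 =>
        sing3 (S5 h5) (S7 h7) S19 (by norm_num) (by norm_num) (by norm_num) h1 h2 h3
      s711 := fun h7 h11 h1 h2 h3 =>
        sing3 (S7 h7) (S11 h11) S19 (by norm_num) (by norm_num) (by norm_num) h1 h2 h3
      p1 := p1 hnc S19
      p2 := p2 hnc S19 }
  exact hAD.result

end Cfsg.Agent.Lib.Helper18.J1
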