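import Mathlib
import Cfsg.Agent.Lib.Helper18.J1C

set_option autoImplicit false

namespace Cfsg.Agent.Lib.Helper18.J1

open Subgroup
open Cfsg.Agent.Lib.helper8

section
variable {G : Type*} [Group G] [Finite G]

/-- a Sylow subgroup squeezed between a normal subgroup and its own normalizer is normal -/
theorem normal_of_sandwich (p : ℕ) [Fact p.Prime] (P : Sylow p G) (X : Subgroup G) [hX : X.Normal]
    (hPX : (P : Subgroup G) ≤ X) (hXN : X ≤ normalizer ((P : Subgroup G) : Set G)) :
    (P : Subgroup G).Normal := by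
  rw [← normalizer_eq_top_iff, eq_top_iff]
  intro g _
  have h1 : ((g • P : Sylow p G) : Subgroup G) ≤ normalizer ((P : Subgroup G) : Set G) := by
    intro x hx
    apply hXN
    have hx' : g⁻¹ * x * g ∈ (P : Subgroup G) := (h8_mem_smul_sylow p g x P).mp hx
    have h2 := hX.conj_mem _ (hPX hx') g
    have e : g * (g⁻¹ * x * g) * g⁻¹ = x := by group
    rwa [e] at h2
  have h3 := h8_le_sylow_of_le_normalizer p P _ (g • P).2 h1
  have h4 := h8_sylow_eq_of_le p (g • P) P h3
  exact Sylow.smul_eq_iff_mem_normalizer.mp h4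

theorem sylow_le_normal (p : ℕ) [Fact p.Prime] (N : Subgroup G) [hN : N.Normal] (P₀ P : Sylow p G)
    (h : (P₀ : Subgroup G) ≤ N) : (P : Subgroup G) ≤ N := by
  obtain ⟨g, rfl⟩ := MulAction.exists_smul_eq G P₀ P
  intro x hx
  have hx' : g⁻¹ * x * g ∈ (P₀ : Subgroup G) := (h8_mem_smul_sylow p g x P₀).mp hx
  have h2 := hN.conj_mem _ (h hx') g
  have e : g * (g⁻¹ * x * g) * g⁻¹ = x := by group
  rwa [e] at h2

theorem card_mulAut_dvd_factorial (K : Type*) [Group K] [Finite K] :
    Nat.card (MulAut K) ∣ (Nat.card K).factorial := by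
  rw [← Nat.card_perm]
  apply Subgroup.card_dvd_of_injective (MulAut.toPerm K)
  intro a b hab
  apply MulEquiv.ext
  intro x
  exact congrArg (fun σ : Equiv.Perm K => σ x) hab

/-- a normal `p'`-subgroup all of whose Sylow subgroups have order less than `p` is centralized
by every Sylow `p`-subgroup of order `p` -/
theorem le_centralizer_of_small (p : ℕ) [hp : Fact p.Prime] (N : Subgroup G) [hN : N.Normal]
    (P : Sylow p G) (hP : Nat.card (P : Subgroup G) = p) (hpN : ¬ p ∣ Nat.card N)
    (hsmall : ∀ (r : ℕ) [Fact r.Prime] (R : Sylow r N), Nat.card (R : Subgroup N) < p) :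
    N ≤ centralizer ((P : Subgroup G) : Set G) := by
  have hfact : (Nat.card G).factorization p = 1 := by
    have h1 := P.card_eq_multiplicity
    rw [hP] at h1
    have h2 : p ^ 1 = p ^ (Nat.card G).factorization p := by rw [pow_one]; exact h1
    exact (Nat.pow_right_injective hp.out.two_le h2).symm
  have hpG : p ∣ Nat.card G := by
    rw [← hP]; exact Subgroup.card_subgroup_dvd_card _
  have hpidx : p ∣ N.index := by
    have h1 := N.card_mul_index
    rw [← h1] at hpG
    exact (hp.out.dvd_mul.mp hpG).resolve_left hpN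
  have key : ∀ (r : ℕ) [Fact r.Prime],
      r ^ (Nat.card N).factorization r ∣
        Nat.card (centralizer ((P : Subgroup G) : Set G) ⊓ N : Subgroup G) := by
    intro r hr
    obtain ⟨R⟩ : Nonempty (Sylow r N) := inferInstance
    have hRc := R.card_eq_multiplicity
    set R' : Subgroup G := (R : Subgroup N).map N.subtype with hR'
    have hR'c : Nat.card R' = Nat.card (R : Subgroup N) :=
      Subgroup.card_map_of_injective N.subtype_injective
    have hR'N : R' ≤ N := Subgroup.map_subtype_le _
    have hF : normalizer (R' : Set G) ⊔ N = ⊤ := Sylow.normalizer_sup_eq_top R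
    have hpY : p ∣ Nat.card (normalizer (R' : Set G)) := by
      have h1 : N.relIndex (normalizer (R' : Set G) ⊔ N) = N.relIndex (normalizer (R' : Set G)) :=
        Subgroup.relIndex_sup_right _ _
      rw [hF, Subgroup.relIndex_top_right] at h1
      rw [h1] at hpidx
      exact hpidx.trans (Subgroup.relIndex_dvd_card _ _)
    obtain ⟨y, hy⟩ := exists_prime_orderOf_dvd_card' p hpY
    have hy' : orderOf (y : G) = p := by rw [Subgroup.orderOf_coe]; exact hy
    have hcop : (orderOf (y : G)).Coprime (Nat.card (MulAut R')) := by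
      rw [hy']
      apply (Nat.Prime.coprime_iff_not_dvd hp.out).mpr
      intro hd
      have h2 := hd.trans (card_mulAut_dvd_factorial R')
      have h3 := (Nat.Prime.dvd_factorial hp.out).mp h2
      rw [hR'c] at h3
      exact absurd (hsmall r R) (not_lt.mpr h3)
    have hyC := mem_centralizer_of_coprime R' (y : G) y.2 hcop
    let P₁ : Sylow p G := Sylow.ofCard (zpowers (y : G)) (by
      rw [Nat.card_zpowers, hy', hfact, pow_one])
    have hP₁ : (P₁ : Subgroup G) = zpowers (y : G) := Sylow.coe_ofCard _ _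
    obtain ⟨g, hg⟩ := MulAction.exists_smul_eq G P₁ P
    set R'' : Subgroup G := R'.map (MulAut.conj g).toMonoidHom with hR''
    have hR''c : Nat.card R'' = Nat.card R' :=
      Subgroup.card_map_of_injective (MulAut.conj g).injective
    have hle : R'' ≤ centralizer ((P : Subgroup G) : Set G) ⊓ N := by
      intro z hz
      obtain ⟨x, hx, rfl⟩ := Subgroup.mem_map.mp hz
      have hxz : (MulAut.conj g).toMonoidHom x = g * x * g⁻¹ := rfl
      rw [hxz]
      refine Subgroup.mem_inf.mpr ⟨?_, hN.conj_mem _ (hR'N hx) g⟩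
      rw [mem_centralizer_iff]
      intro u hu
      have hu' : g⁻¹ * u * g ∈ (P₁ : Subgroup G) := by
        rw [← hg] at hu
        exact (h8_mem_smul_sylow p g u P₁).mp hu
      rw [hP₁] at hu'
      obtain ⟨j, hj⟩ := mem_zpowers_iff.mp hu'
      have hc : Commute (y : G) x := (mem_centralizer_iff.mp hyC x hx).symm
      have hc' : Commute (g⁻¹ * u * g) x := by rw [← hj]; exact hc.zpow_left j
      have e1 : u * (g * x * g⁻¹) = g * ((g⁻¹ * u * g) * x) * g⁻¹ := by group
      have e2 : g * x * g⁻¹ * u = g * (x * (g⁻¹ * u * g)) * g⁻¹ := by group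
      rw [e1, e2, hc'.eq]
    have h5 := Subgroup.card_dvd_of_le hle
    rwa [hR''c, hR'c, hRc] at h5
  have hdvd : Nat.card N ∣
      Nat.card (centralizer ((P : Subgroup G) : Set G) ⊓ N : Subgroup G) := by
    rw [Nat.dvd_iff_prime_pow_dvd_dvd]
    intro r k hr hrk
    haveI : Fact r.Prime := ⟨hr⟩
    have hk : k ≤ (Nat.card N).factorization r :=
      (hr.pow_dvd_iff_le_factorization Nat.card_pos.ne').mp hrk
    exact (pow_dvd_pow r hk).trans (key r)
  have hle : Nat.card N ≤
      Nat.card (centralizer ((P : Subgroup G) : Set G) ⊓ N : Subgroup G) :=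
    Nat.le_of_dvd Nat.card_pos hdvd
  have heq := Subgroup.eq_of_le_of_card_ge
    (inf_le_right : centralizer ((P : Subgroup G) : Set G) ⊓ N ≤ N) hle
  intro x hx
  have : x ∈ centralizer ((P : Subgroup G) : Set G) ⊓ N := by rw [heq]; exact hx
  exact this.1

end

end Cfsg.Agent.Lib.Helper18.J1
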