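import Mathlib
import Cfsg.Agent.Lib.Helper18.J1J
import Cfsg.Agent.Lib.Helper18.J1K

set_option autoImplicit false

namespace Cfsg.Agent.Lib.Helper18.J1

open Subgroup
open Cfsg.Agent.Lib.helper8

theorem prime_pow_not_two_primes {r k a b : ℕ} (hr : r.Prime) (ha : a.Prime) (hb : b.Prime)
    (hab : a ≠ b) (h1 : a ∣ r ^ k) (h2 : b ∣ r ^ k) : False := by
  have e1 := (Nat.prime_dvd_prime_iff_eq ha hr).mp (ha.dvd_of_dvd_pow h1)
  have e2 := (Nat.prime_dvd_prime_iff_eq hb hr).mp (hb.dvd_of_dvd_pow h2)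
  exact hab (e1.trans e2.symm)

theorem small_pp {x r k : ℕ} (hx : x ∣ 9240) (hr : r.Prime) (hxr : x = r ^ k) : x < 19 := by
  by_contra hge
  push_neg at hge
  have hmem : x ∈ Nat.divisors 9240 := Nat.mem_divisors.mpr ⟨hx, by norm_num⟩
  simp only [Nat.divisors_ofNat, Finset.mem_insert, Finset.mem_singleton] at hmem
  have hpairs : (2 ∣ x ∧ 3 ∣ x) ∨ (2 ∣ x ∧ 5 ∣ x) ∨ (2 ∣ x ∧ 7 ∣ x) ∨ (2 ∣ x ∧ 11 ∣ x) ∨
      (3 ∣ x ∧ 5 ∣ x) ∨ (3 ∣ x ∧ 7 ∣ x) ∨ (3 ∣ x ∧ 11 ∣ x) ∨ (5 ∣ x ∧ 7 ∣ x) ∨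
      (5 ∣ x ∧ 11 ∣ x) ∨ (7 ∣ x ∧ 11 ∣ x) := by
    casesm* _ ∨ _ <;> omega
  clear hmem
  rw [hxr] at hpairs
  rcases hpairs with ⟨h1, h2⟩ | ⟨h1, h2⟩ | ⟨h1, h2⟩ | ⟨h1, h2⟩ | ⟨h1, h2⟩ | ⟨h1, h2⟩ |
    ⟨h1, h2⟩ | ⟨h1, h2⟩ | ⟨h1, h2⟩ | ⟨h1, h2⟩
  · exact prime_pow_not_two_primes hr (by norm_num) (by norm_num) (by norm_num) h1 h2
  · exact prime_pow_not_two_primes hr (by norm_num) (by norm_num) (by norm_num) h1 h2
  · exact prime_pow_not_two_primes hr (by norm_num) (by norm_num) (by norm_num) h1 h2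
  · exact prime_pow_not_two_primes hr (by norm_num) (by norm_num) (by norm_num) h1 h2
  · exact prime_pow_not_two_primes hr (by norm_num) (by norm_num) (by norm_num) h1 h2
  · exact prime_pow_not_two_primes hr (by norm_num) (by norm_num) (by norm_num) h1 h2
  · exact prime_pow_not_two_primes hr (by norm_num) (by norm_num) (by norm_num) h1 h2
  · exact prime_pow_not_two_primes hr (by norm_num) (by norm_num) (by norm_num) h1 h2
  · exact prime_pow_not_two_primes hr (by norm_num) (by norm_num) (by norm_num) h1 h2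
  · exact prime_pow_not_two_primes hr (by norm_num) (by norm_num) (by norm_num) h1 h2

section
universe u
variable {G : Type u} [Group G] [Finite G]

theorem card_sylow19 (hG : Nat.card G ∣ 175560) (h19 : 19 ∣ Nat.card G) (P : Sylow 19 G) :
    haveI : Fact (Nat.Prime 19) := ⟨by norm_num⟩
    Nat.card (P : Subgroup G) = 19 := by
  haveI : Fact (Nat.Prime 19) := ⟨by norm_num⟩
  obtain ⟨m', hm'⟩ := h19
  have hnd : ¬ 19 ∣ m' := by
    intro h
    have h1 : 19 * 19 ∣ Nat.card G := by rw [hm']; exact Nat.mul_dvd_mul_left 19 h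
    have h2 := h1.trans hG
    omega
  have := h8_sylow_card 19 1 m' (by rw [pow_one]; exact hm') hnd P
  simpa using this

theorem caseA (hG : Nat.card G ∣ 175560) (N : Subgroup G) [hN : N.Normal]
    (hN19 : 19 ∣ Nat.card N)
    (ihN : haveI : Fact (Nat.Prime 19) := ⟨by norm_num⟩
      ∀ Q : Sylow 19 N, (Q : Subgroup N).Normal) (P : Sylow 19 G) :
    (P : Subgroup G).Normal := by
  haveI : Fact (Nat.Prime 19) := ⟨by norm_num⟩
  have h19 : 19 ∣ Nat.card G := hN19.trans (Subgroup.card_subgroup_dvd_card N)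
  obtain ⟨y, hy⟩ := exists_prime_orderOf_dvd_card' 19 hN19
  have hy' : orderOf (y : G) = 19 := by rw [Subgroup.orderOf_coe]; exact hy
  have hpg : IsPGroup 19 (zpowers (y : G)) := by
    apply IsPGroup.of_card (n := 1)
    rw [Nat.card_zpowers, hy', pow_one]
  obtain ⟨P₀, hP₀⟩ := hpg.exists_le_sylow
  have hP₀c := card_sylow19 hG h19 P₀
  have hP₀eq : zpowers (y : G) = (P₀ : Subgroup G) := by
    apply Subgroup.eq_of_le_of_card_ge hP₀
    rw [hP₀c, Nat.card_zpowers, hy']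
  have hP₀N : (P₀ : Subgroup G) ≤ N := by
    rw [← hP₀eq, zpowers_le]; exact y.2
  have hPN := sylow_le_normal 19 N P₀ P hP₀N
  have h1 := ihN (P.subtype hPN)
  rw [Sylow.coe_subtype] at h1
  have h2 := (Subgroup.normal_subgroupOf_iff_le_normalizer hPN).mp h1
  exact normal_of_sandwich 19 P N hPN h2

theorem caseB (hG : Nat.card G ∣ 175560) (h19 : 19 ∣ Nat.card G) (N : Subgroup G)
    [hN : N.Normal] (hN19 : ¬ 19 ∣ Nat.card N)
    (ihQ : haveI : Fact (Nat.Prime 19) := ⟨by norm_num⟩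
      ∀ Q : Sylow 19 (G ⧸ N), (Q : Subgroup (G ⧸ N)).Normal) (P : Sylow 19 G) :
    (P : Subgroup G).Normal := by
  haveI : Fact (Nat.Prime 19) := ⟨by norm_num⟩
  have hP := card_sylow19 hG h19 P
  have hNd : Nat.card N ∣ 9240 := by
    have h1 : Nat.card N ∣ 19 * 9240 := (Subgroup.card_subgroup_dvd_card N).trans hG
    have hcop : Nat.Coprime (Nat.card N) 19 :=
      (Nat.Prime.coprime_iff_not_dvd (by norm_num : Nat.Prime 19)).mpr hN19 |>.symm
    exact hcop.dvd_of_dvd_mul_left h1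
  have hsmall : ∀ (r : ℕ) [Fact r.Prime] (R : Sylow r N), Nat.card (R : Subgroup N) < 19 := by
    intro r hr R
    have h1 := R.card_eq_multiplicity
    have h2 : Nat.card (R : Subgroup N) ∣ 9240 :=
      (Subgroup.card_subgroup_dvd_card (R : Subgroup N)).trans hNd
    exact small_pp h2 hr.out h1
  have hNC := le_centralizer_of_small 19 N P hP hN19 hsmall
  have h1 := ihQ (P.mapSurjective (QuotientGroup.mk'_surjective N))
  rw [Sylow.coe_mapSurjective] at h1
  have h2 : (((P : Subgroup G).map (QuotientGroup.mk' N)).comap (QuotientGroup.mk' N)).Normal :=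
    h1.comap _
  rw [Subgroup.comap_map_eq, QuotientGroup.ker_mk'] at h2
  haveI := h2
  exact normal_of_sandwich 19 P ((P : Subgroup G) ⊔ N) le_sup_left
    (sup_le le_normalizer (hNC.trans (centralizer_le_normalizer _)))

end

end Cfsg.Agent.Lib.Helper18.J1
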