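import Mathlib
import Cfsg.Agent.Lib.Helper18.J1L

set_option autoImplicit false

namespace Cfsg.Agent.Lib.Helper18.J1

open Subgroup
open Cfsg.Agent.Lib.helper8

universe u

theorem exists_normal_of_not_simple {G : Type u} [Group G] [Nontrivial G]
    (hs : ¬ IsSimpleGroup G) : ∃ N : Subgroup G, N.Normal ∧ N ≠ ⊥ ∧ N ≠ ⊤ := by
  by_contra hcon
  push_neg at hcon
  apply hs
  refine { exists_pair_ne := exists_pair_ne G, eq_bot_or_eq_top_of_normal := ?_ }
  intro N hN
  by_cases hb : N = ⊥
  · exact Or.inl hb
  · exact Or.inr (hcon N hN hb)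

theorem main (k : ℕ) : ∀ (G : Type u) [Group G] [Finite G], Nat.card G = k → k ∣ 175560 →
    (IsSimpleGroup G ∧ k = 175560) ∨ ∀ P : Sylow 19 G, (P : Subgroup G).Normal := by
  induction k using Nat.strong_induction_on with
  | _ k ih =>
  intro G _ _ hG hk
  haveI : Fact (Nat.Prime 19) := ⟨by norm_num⟩
  have hk' : k ≤ 175560 := Nat.le_of_dvd (by norm_num) hk
  have ih' : ∀ (K : Type u) [Group K] [Finite K], Nat.card K < k → Nat.card K ∣ 175560 →
      ∀ P : Sylow 19 K, (P : Subgroup K).Normal := by
    intro K _ _ hlt hd
    rcases ih (Nat.card K) hlt K rfl hd with ⟨-, h⟩ | h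
    · exfalso; omega
    · exact h
  have hGd : Nat.card G ∣ 175560 := hG ▸ hk
  by_cases h19 : 19 ∣ Nat.card G
  swap
  · right
    intro P
    have h1 := P.card_eq_multiplicity
    rw [Nat.factorization_eq_zero_of_not_dvd h19, pow_zero] at h1
    have h2 : (P : Subgroup G) = ⊥ := Subgroup.eq_bot_of_card_eq _ h1
    rw [h2]
    infer_instance
  by_cases hs : IsSimpleGroup G
  · by_cases hc : IsMulCommutative G
    · right
      intro P
      refine ⟨fun n hn g => ?_⟩
      have : g * n * g⁻¹ = n := by rw [hc.is_comm.comm g n, mul_inv_cancel_right]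
      rw [this]; exact hn
    · left
      refine ⟨hs, ?_⟩
      rw [← hG]
      apply lemmaA hc hGd h19
      intro Q Y hY hQY
      have hlt : Nat.card Y < k := by
        rw [← hG]
        rcases Nat.lt_or_ge (Nat.card Y) (Nat.card G) with h | h
        · exact h
        · exfalso
          exact hY (Subgroup.eq_top_of_card_eq Y (le_antisymm (Subgroup.card_le_card_group Y) h))
      have hd : Nat.card Y ∣ 175560 := (Subgroup.card_subgroup_dvd_card Y).trans hGd
      have h1 := ih' Y hlt hd (Q.subtype hQY)
      rw [Sylow.coe_subtype] at h1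
      exact (Subgroup.normal_subgroupOf_iff_le_normalizer hQY).mp h1
  · right
    haveI : Nontrivial G := by
      apply (Finite.one_lt_card_iff_nontrivial).mp
      have := Nat.le_of_dvd Nat.card_pos h19
      omega
    obtain ⟨N, hN, hNb, hNt⟩ := exists_normal_of_not_simple hs
    haveI := hN
    have hNlt : Nat.card N < k := by
      rw [← hG]
      rcases Nat.lt_or_ge (Nat.card N) (Nat.card G) with h | h
      · exact h
      · exfalso
        exact hNt (Subgroup.eq_top_of_card_eq N (le_antisymm (Subgroup.card_le_card_group N) h))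
    have hNd : Nat.card N ∣ 175560 := (Subgroup.card_subgroup_dvd_card N).trans hGd
    intro P
    by_cases hN19 : 19 ∣ Nat.card N
    · exact caseA hGd N hN19 (ih' N hNlt hNd) P
    · have hidx : Nat.card (G ⧸ N) = N.index := (Subgroup.index_eq_card N).symm
      have hmul := N.card_mul_index
      have hN1 : 1 < Nat.card N := by
        rcases Nat.lt_or_ge 1 (Nat.card N) with h | h
        · exact h
        · exfalso
          have hpos : 0 < Nat.card N := Nat.card_pos
          exact hNb (Subgroup.eq_bot_of_card_eq N (by omega))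
      have hQlt : Nat.card (G ⧸ N) < k := by
        rw [hidx, ← hG, ← hmul]
        have hipos : 0 < N.index := by
          rcases Nat.eq_zero_or_pos N.index with h0 | h0
          · rw [h0, mul_zero] at hmul
            have : 0 < Nat.card G := Nat.card_pos
            omega
          · exact h0
        nlinarith
      have hQd : Nat.card (G ⧸ N) ∣ 175560 := by
        rw [hidx]
        exact (Dvd.intro_left _ hmul).trans hGd
      exact caseB hGd h19 N hN19 (ih' (G ⧸ N) hQlt hQd) P

theorem final {G : Type u} [Group G] [Finite G] (hG : Nat.card G = 175560) :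
    IsSimpleGroup G ∨ ∀ P : Sylow 19 G, (P : Subgroup G).Normal := by
  rcases main 175560 G hG (dvd_refl _) with ⟨h, -⟩ | h
  · exact Or.inl h
  · exact Or.inr h

end Cfsg.Agent.Lib.Helper18.J1
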