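import Mathlib
import Cfsg.Agent.Lib.Helper10.ZJsc
import Cfsg.Agent.Lib.Helper13.SecFusA
import Cfsg.Agent.Lib.Helper13.WcElemF
import Cfsg.Agent.Lib.Helper13.NPStable

set_option autoImplicit false

/-! Relative form of normalizer `p`-stability inside a group all of whose sections are
`p`-stable (helper18). -/

namespace Cfsg.Agent.Lib.Helper18.KInfP

open Cfsg Cfsg.Agent.Lib.Helper13

open scoped commutatorElement

universe u

variable {Y : Type u} [Group Y] [Finite Y] {p : ℕ} [Fact p.Prime]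

/-- All sections are normalizer `p`-stable. -/
abbrev SecNPS (p : ℕ) (Y : Type u) [Group Y] : Prop :=
  SecAll (fun (Q : Type u) [Group Q] => Cfsg.IsNormalizerPStable p Q) Y

/-- Relative `p`-stability: for `N ≤ V ≤ H` normalized by `H` with `V` a `p`-group, there is a
subgroup `D` of `H`, normal in `H`, a `p`-group modulo the centralizer of `V / N`, and containing
every element of `H` acting quadratically on `V / N`. -/
theorem relnps (hsec : SecNPS p Y) (H N V : Subgroup Y) (hVH : V ≤ H)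
    (hHV : H ≤ Subgroup.normalizer (V : Set Y)) (hHN : H ≤ Subgroup.normalizer (N : Set Y))
    (hVp : IsPGroup p ↥V) :
    ∃ D : Subgroup Y, D ≤ H ∧ H ≤ Subgroup.normalizer (D : Set Y) ∧
      (∀ d ∈ D, ∃ k : ℕ, ∀ v ∈ V, ⁅d ^ (p ^ k), v⁆ ∈ N) ∧
      ∀ g ∈ H, ⁅⁅V, Subgroup.zpowers g⁆, Subgroup.zpowers g⁆ ≤ N → g ∈ D := by
  haveI hN' : (N.subgroupOf H).Normal := Subgroup.normal_subgroupOf_of_le_normalizer hHN
  haveI hV' : (V.subgroupOf H).Normal := Subgroup.normal_subgroupOf_of_le_normalizer hHV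
  have hstQ : Cfsg.IsNormalizerPStable p (↥H ⧸ N.subgroupOf H) :=
    hsec (↥H ⧸ N.subgroupOf H) ⟨H, QuotientGroup.mk' (N.subgroupOf H),
      QuotientGroup.mk'_surjective _⟩
  obtain ⟨π, hπ⟩ : ∃ π : ↥H →* ↥H ⧸ N.subgroupOf H, π = QuotientGroup.mk' (N.subgroupOf H) :=
    ⟨_, rfl⟩
  have hπs : Function.Surjective π := by rw [hπ]; exact QuotientGroup.mk'_surjective _
  have hπk : π.ker = N.subgroupOf H := by rw [hπ]; exact QuotientGroup.ker_mk' _
  obtain ⟨P, hP⟩ : ∃ P : Subgroup (↥H ⧸ N.subgroupOf H), P = (V.subgroupOf H).map π := ⟨_, rfl⟩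
  haveI hPn : P.Normal := by rw [hP]; exact Subgroup.Normal.map hV' π hπs
  have hPp : IsPGroup p ↥P := by
    rw [hP]
    exact (hVp.comap_of_injective H.subtype H.subtype_injective).map π
  obtain ⟨ρ, hρ⟩ : ∃ ρ : (↥H ⧸ N.subgroupOf H) →*
      (↥H ⧸ N.subgroupOf H) ⧸ Subgroup.centralizer (P : Set (↥H ⧸ N.subgroupOf H)),
      ρ = QuotientGroup.mk' _ := ⟨_, rfl⟩
  have hρk : ρ.ker = Subgroup.centralizer (P : Set (↥H ⧸ N.subgroupOf H)) := by
    rw [hρ]; exact QuotientGroup.ker_mk' _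
  obtain ⟨E, hE⟩ : ∃ E : Subgroup ↥H, E = ((Cfsg.pCore p _).comap ρ).comap π := ⟨_, rfl⟩
  haveI hEn : E.Normal := by
    rw [hE]
    haveI : (Cfsg.pCore p ((↥H ⧸ N.subgroupOf H) ⧸
        Subgroup.centralizer (P : Set (↥H ⧸ N.subgroupOf H)))).Normal :=
      Cfsg.Agent.Lib.Helper1.pCore_normal p
    infer_instance
  refine ⟨E.map H.subtype, Subgroup.map_subtype_le _, le_normalizer_map_subtype_of_normal H E,
    ?_, ?_⟩
  · rintro _ ⟨d, hd, rfl⟩
    have hd' : ρ (π d) ∈ Cfsg.pCore p ((↥H ⧸ N.subgroupOf H) ⧸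
        Subgroup.centralizer (P : Set (↥H ⧸ N.subgroupOf H))) := by
      rw [hE] at hd; exact hd
    obtain ⟨k, hk⟩ := (Cfsg.Agent.Lib.Helper1.pCore_isPGroup p) ⟨ρ (π d), hd'⟩
    refine ⟨k, fun v hv => ?_⟩
    have h1 : ρ (π (d ^ (p ^ k))) = 1 := by
      have := congrArg Subtype.val hk
      rw [Subgroup.coe_pow, Subgroup.coe_one] at this
      rw [map_pow, map_pow]
      exact this
    have h2 : π (d ^ (p ^ k)) ∈ Subgroup.centralizer (P : Set (↥H ⧸ N.subgroupOf H)) := by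
      rw [← hρk]; exact h1
    have hvP : π ⟨v, hVH hv⟩ ∈ P := by
      rw [hP]
      exact ⟨⟨v, hVH hv⟩, Subgroup.mem_subgroupOf.mpr hv, rfl⟩
    have h3 := Subgroup.mem_centralizer_iff.mp h2 _ hvP
    have h4 : π ⁅d ^ (p ^ k), ⟨v, hVH hv⟩⁆ = 1 := by
      rw [map_commutatorElement, commutatorElement_eq_one_iff_mul_comm]
      exact h3.symm
    have h5 : ⁅d ^ (p ^ k), ⟨v, hVH hv⟩⁆ ∈ N.subgroupOf H := by
      rw [← hπk]; exact h4
    rw [Subgroup.mem_subgroupOf] at h5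
    simpa [commutatorElement_def] using h5
  · intro g hg hq
    refine ⟨⟨g, hg⟩, ?_, rfl⟩
    have hq' : ⁅⁅P, Subgroup.zpowers (π ⟨g, hg⟩)⁆, Subgroup.zpowers (π ⟨g, hg⟩)⁆ = ⊥ := by
      rw [hP, ← MonoidHom.map_zpowers, ← Subgroup.map_commutator, ← Subgroup.map_commutator,
        Subgroup.map_eq_bot_iff, hπk]
      show _ ≤ N.comap H.subtype
      rw [← Subgroup.map_le_iff_le_comap, Subgroup.map_commutator, Subgroup.map_commutator,
        MonoidHom.map_zpowers]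
      refine le_trans ?_ hq
      have h1 : (V.subgroupOf H).map H.subtype ≤ V := by
        rw [Subgroup.subgroupOf_map_subtype]; exact inf_le_left
      exact Subgroup.commutator_mono (Subgroup.commutator_mono h1 le_rfl) le_rfl
    have h2 := Cfsg.Agent.Lib.Helper10.ZJsc.hst_of_normalizerPStable hstQ P hPp _ hq'
    rw [hE]
    show ρ (π ⟨g, hg⟩) ∈ Cfsg.pCore p ((↥H ⧸ N.subgroupOf H) ⧸
        Subgroup.centralizer (P : Set (↥H ⧸ N.subgroupOf H)))
    rw [hρ]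
    exact h2

omit [Finite Y] [Fact p.Prime] in
theorem comm_pow_mem {N A : Subgroup Y} {w : Y} (hw : w ∈ Subgroup.normalizer (N : Set Y))
    (h : ∀ a ∈ A, ⁅w, a⁆ ∈ N) (n : ℕ) : ∀ a ∈ A, ⁅w ^ n, a⁆ ∈ N := by
  induction n with
  | zero =>
    intro a _
    simp only [pow_zero, commutatorElement_def, one_mul, inv_one, mul_one, mul_inv_cancel]
    exact N.one_mem
  | succ n ih =>
    intro a ha
    have h1 : ⁅w ^ (n + 1), a⁆ = w * ⁅w ^ n, a⁆ * w⁻¹ * ⁅w, a⁆ := by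
      rw [pow_succ']
      simp only [commutatorElement_def]
      group
    rw [h1]
    exact N.mul_mem ((Subgroup.mem_normalizer_iff.mp hw _).mp (ih a ha)) (h a ha)

/-- A subgroup whose elements have `p`-power powers stabilizing the chain `1 ≤ N ≤ A₀` is a
`p`-group, when `N` and `C(A₀)` are `p`-groups. -/
theorem isPGroup_of_stab (A₀ N D : Subgroup Y) (hNp : IsPGroup p ↥N)
    (hC : IsPGroup p ↥(Subgroup.centralizer (A₀ : Set Y)))
    (hDN : D ≤ Subgroup.normalizer (N : Set Y))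
    (h1 : ∀ d ∈ D, ∃ k : ℕ, ∀ v ∈ N, ⁅d ^ (p ^ k), v⁆ ∈ (⊥ : Subgroup Y))
    (h2 : ∀ d ∈ D, ∃ k : ℕ, ∀ a ∈ A₀, ⁅d ^ (p ^ k), a⁆ ∈ N) : IsPGroup p ↥D := by
  rintro ⟨d, hd⟩
  obtain ⟨k₁, hk₁⟩ := h1 d hd
  obtain ⟨k₂, hk₂⟩ := h2 d hd
  obtain ⟨j, hj⟩ := IsPGroup.iff_card.mp hNp
  have hz1 : d ^ (p ^ (k₁ + k₂)) ∈ Subgroup.centralizer (N : Set Y) := by
    rw [pow_add, pow_mul]
    apply Subgroup.pow_mem
    rw [Subgroup.mem_centralizer_iff]
    intro v hv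
    have := hk₁ v hv
    rw [Subgroup.mem_bot, commutatorElement_eq_one_iff_mul_comm] at this
    exact this.symm
  have hz2 : ∀ t ∈ A₀, d ^ (p ^ (k₁ + k₂)) * t * (d ^ (p ^ (k₁ + k₂)))⁻¹ * t⁻¹ ∈ N := by
    intro t ht
    have h3 := comm_pow_mem (N := N) (A := A₀) (w := d ^ (p ^ k₂))
      (hDN (D.pow_mem hd _)) hk₂ (p ^ k₁) t ht
    rw [← pow_mul, ← pow_add, add_comm, commutatorElement_def] at h3
    exact h3
  have h4 := pow_card_mem_centralizer_of_two_step (P₀ := A₀) (Φ := N) _ hz1 hz2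
  rw [hj, ← pow_mul, ← pow_add] at h4
  obtain ⟨m, hm⟩ := hC ⟨_, h4⟩
  refine ⟨k₁ + k₂ + j + m, ?_⟩
  have h5 := congrArg Subtype.val hm
  rw [Subgroup.coe_pow, Subgroup.coe_one] at h5
  apply Subtype.ext
  rw [Subgroup.coe_pow, Subgroup.coe_one]
  rw [← pow_mul, ← pow_add] at h5
  exact h5

end Cfsg.Agent.Lib.Helper18.KInfP
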