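import Mathlib
import Cfsg.Agent.Lib.Helper18.KInfP1

set_option autoImplicit false

/-! The largest normal `p`-subgroup of a subgroup, as a subgroup of the ambient group, and its
behaviour along subnormal chains (helper18). -/

namespace Cfsg.Agent.Lib.Helper18.KInfP

open Cfsg Cfsg.Agent.Lib.Helper13

open scoped commutatorElement

universe u

variable {Y : Type u} [Group Y]

/-- The normal `p`-subgroups of `M`. -/
def opSet (p : ℕ) (M : Subgroup Y) : Set (Subgroup Y) :=
  {X | X ≤ M ∧ M ≤ Subgroup.normalizer (X : Set Y) ∧ IsPGroup p ↥X}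

/-- The largest normal `p`-subgroup of `M`. -/
def opIn (p : ℕ) (M : Subgroup Y) : Subgroup Y := sSup (opSet p M)

theorem opIn_le (p : ℕ) (M : Subgroup Y) : opIn p M ≤ M := sSup_le (fun _ hX => hX.1)

theorem le_opIn {p : ℕ} {M X : Subgroup Y} (h1 : X ≤ M)
    (h2 : M ≤ Subgroup.normalizer (X : Set Y)) (h3 : IsPGroup p ↥X) : X ≤ opIn p M :=
  le_sSup ⟨h1, h2, h3⟩

theorem conj_mem_sSup_of_forall {𝒟 : Set (Subgroup Y)} {h : Y}
    (hh : ∀ X ∈ 𝒟, X.map (MulAut.conj h).toMonoidHom ∈ 𝒟) :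
    ∀ x ∈ sSup 𝒟, h * x * h⁻¹ ∈ sSup 𝒟 := by
  have h1 : sSup 𝒟 ≤ (sSup 𝒟).comap (MulAut.conj h).toMonoidHom := by
    apply sSup_le
    intro X hX x hx
    rw [Subgroup.mem_comap]
    exact (le_sSup (hh X hX)) ⟨x, hx, rfl⟩
  intro x hx
  have := h1 hx
  rw [Subgroup.mem_comap] at this
  simpa using this

theorem mem_normalizer_of_conj_mem {K : Subgroup Y} {h : Y}
    (h1 : ∀ x ∈ K, h * x * h⁻¹ ∈ K) (h2 : ∀ x ∈ K, h⁻¹ * x * h ∈ K) :
    h ∈ Subgroup.normalizer (K : Set Y) := by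
  rw [Subgroup.mem_normalizer_iff]
  intro x
  constructor
  · exact h1 x
  · intro hx
    have := h2 _ hx
    have e : h⁻¹ * (h * x * h⁻¹) * h = x := by group
    rwa [e] at this

theorem map_conj_mem_opSet {p : ℕ} {M X : Subgroup Y} {h : Y}
    (hh : h ∈ Subgroup.normalizer (M : Set Y)) (hX : X ∈ opSet p M) :
    X.map (MulAut.conj h).toMonoidHom ∈ opSet p M := by
  obtain ⟨h1, h2, h3⟩ := hX
  refine ⟨?_, ?_, h3.map _⟩
  · rintro _ ⟨x, hx, rfl⟩
    exact (Subgroup.mem_normalizer_iff.mp hh x).mp (h1 hx)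
  · intro m hm
    have hm' : h⁻¹ * m * h ∈ M := by
      have := (Subgroup.mem_normalizer_iff.mp (Subgroup.inv_mem _ hh) m).mp hm
      simpa using this
    have hm'' := h2 hm'
    apply mem_normalizer_of_conj_mem
    · rintro _ ⟨x, hx, rfl⟩
      refine ⟨(h⁻¹ * m * h) * x * (h⁻¹ * m * h)⁻¹,
        (Subgroup.mem_normalizer_iff.mp hm'' x).mp hx, ?_⟩
      simp only [MulEquiv.coe_toMonoidHom, MulAut.conj_apply]
      group
    · rintro _ ⟨x, hx, rfl⟩
      refine ⟨(h⁻¹ * m * h)⁻¹ * x * (h⁻¹ * m * h), ?_, ?_⟩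
      · have := (Subgroup.mem_normalizer_iff.mp (Subgroup.inv_mem _ hm'') x).mp hx
        simpa using this
      · simp only [MulEquiv.coe_toMonoidHom, MulAut.conj_apply]
        group

/-- Anything normalizing `M` normalizes its largest normal `p`-subgroup. -/
theorem normalizer_le_normalizer_opIn (p : ℕ) (M : Subgroup Y) :
    Subgroup.normalizer (M : Set Y) ≤ Subgroup.normalizer ((opIn p M : Subgroup Y) : Set Y) := by
  intro h hh
  apply mem_normalizer_of_conj_mem
  · exact conj_mem_sSup_of_forall (fun X hX => map_conj_mem_opSet hh hX)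
  · have := conj_mem_sSup_of_forall (𝒟 := opSet p M) (h := h⁻¹)
      (fun X hX => map_conj_mem_opSet (Subgroup.inv_mem _ hh) hX)
    intro x hx
    have h3 := this x hx
    rw [inv_inv] at h3
    exact h3

theorem opIn_mem_opSet [Finite Y] (p : ℕ) [Fact p.Prime] (M : Subgroup Y) :
    opIn p M ∈ opSet p M := by
  have hne : Nonempty ↥(opSet p M) :=
    ⟨⟨⊥, bot_le, by rw [Subgroup.normalizer_eq_top]; exact le_top, IsPGroup.of_bot⟩⟩
  obtain ⟨⟨X₀, hX₀⟩, hmax⟩ := Finite.exists_max (fun X : ↥(opSet p M) => Nat.card ↥(X : Subgroup Y))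
  have hle : ∀ X ∈ opSet p M, X ≤ X₀ := by
    intro X hX
    have hsup : X ⊔ X₀ ∈ opSet p M := by
      refine ⟨sup_le hX.1 hX₀.1, ?_, ?_⟩
      · intro m hm
        apply mem_normalizer_of_conj_mem
        · intro x hx
          have h1 : X ⊔ X₀ ≤ (X ⊔ X₀).comap (MulAut.conj m).toMonoidHom := by
            apply sup_le
            · intro y hy
              rw [Subgroup.mem_comap]
              exact (le_sup_left : X ≤ X ⊔ X₀)
                ((Subgroup.mem_normalizer_iff.mp (hX.2.1 hm) y).mp hy)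
            · intro y hy
              rw [Subgroup.mem_comap]
              exact (le_sup_right : X₀ ≤ X ⊔ X₀)
                ((Subgroup.mem_normalizer_iff.mp (hX₀.2.1 hm) y).mp hy)
          have := h1 hx
          rw [Subgroup.mem_comap] at this
          simpa using this
        · intro x hx
          have h1 : X ⊔ X₀ ≤ (X ⊔ X₀).comap (MulAut.conj m⁻¹).toMonoidHom := by
            apply sup_le
            · intro y hy
              rw [Subgroup.mem_comap]
              exact (le_sup_left : X ≤ X ⊔ X₀)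
                ((Subgroup.mem_normalizer_iff.mp (Subgroup.inv_mem _ (hX.2.1 hm)) y).mp hy)
            · intro y hy
              rw [Subgroup.mem_comap]
              exact (le_sup_right : X₀ ≤ X ⊔ X₀)
                ((Subgroup.mem_normalizer_iff.mp (Subgroup.inv_mem _ (hX₀.2.1 hm)) y).mp hy)
          have := h1 hx
          rw [Subgroup.mem_comap] at this
          simpa using this
      · exact IsPGroup.to_sup_of_normal_right' hX.2.2 hX₀.2.2 (hX.1.trans hX₀.2.1)
    have hcard := hmax ⟨X ⊔ X₀, hsup⟩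
    have h2 : X₀ ≤ X ⊔ X₀ := le_sup_right
    have h3 : X ⊔ X₀ = X₀ := by
      symm
      apply Subgroup.eq_of_le_of_card_ge h2
      exact hcard
    rw [← h3]
    exact le_sup_left
  have : opIn p M = X₀ := le_antisymm (sSup_le hle) (le_sSup hX₀)
  rw [this]
  exact hX₀

theorem opIn_isPGroup [Finite Y] (p : ℕ) [Fact p.Prime] (M : Subgroup Y) :
    IsPGroup p ↥(opIn p M) := (opIn_mem_opSet p M).2.2

/-- Lemma N: the largest normal `p`-subgroup of a normal subgroup `M` of `H` lies in that of `H`. -/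
theorem opIn_le_opIn_of_normal [Finite Y] (p : ℕ) [Fact p.Prime] {M H : Subgroup Y} (hMH : M ≤ H)
    (hHM : H ≤ Subgroup.normalizer (M : Set Y)) : opIn p M ≤ opIn p H :=
  le_opIn ((opIn_le p M).trans hMH) (hHM.trans (normalizer_le_normalizer_opIn p M))
    (opIn_isPGroup p M)


theorem exists_normalizing_outside [Finite Y] (p : ℕ) [Fact p.Prime] {H C₁ M : Subgroup Y}
    (hCM : C₁ ≤ M) (hMH : M ≤ H) (hne : M ≠ H)
    (hHC : H ≤ Subgroup.normalizer (C₁ : Set Y))
    (hpow : ∀ h ∈ H, ∃ k : ℕ, h ^ (p ^ k) ∈ C₁) :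
    ∃ x ∈ H, x ∉ M ∧ x ∈ Subgroup.normalizer (M : Set Y) := by
  have hC' : (C₁.subgroupOf H).Normal := Subgroup.normal_subgroupOf_of_le_normalizer hHC
  obtain ⟨π, hπ⟩ : ∃ π : ↥H →* ↥H ⧸ C₁.subgroupOf H, π = QuotientGroup.mk' (C₁.subgroupOf H) :=
    ⟨_, rfl⟩
  have hπs : Function.Surjective π := by rw [hπ]; exact QuotientGroup.mk'_surjective _
  have hπk : π.ker = C₁.subgroupOf H := by rw [hπ]; exact QuotientGroup.ker_mk' _
  have hQp : IsPGroup p (↥H ⧸ C₁.subgroupOf H) := by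
    intro q
    obtain ⟨h, rfl⟩ := hπs q
    obtain ⟨k, hk⟩ := hpow h h.2
    refine ⟨k, ?_⟩
    rw [← map_pow, ← MonoidHom.mem_ker, hπk, Subgroup.mem_subgroupOf]
    simpa using hk
  have : Group.IsNilpotent (↥H ⧸ C₁.subgroupOf H) := hQp.isNilpotent
  have hnc := Group.normalizerCondition_of_isNilpotent (G := ↥H ⧸ C₁.subgroupOf H)
  -- membership in `M` is detected in the quotient
  have hdet : ∀ h : ↥H, π h ∈ (M.subgroupOf H).map π ↔ (h : Y) ∈ M := by
    intro h
    constructor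
    · rintro ⟨m, hm, hmh⟩
      have h1 : m⁻¹ * h ∈ π.ker := by
        rw [MonoidHom.mem_ker, map_mul, map_inv, hmh]; group
      rw [hπk, Subgroup.mem_subgroupOf] at h1
      have h2 : ((m⁻¹ * h : ↥H) : Y) ∈ M := hCM h1
      have hm' : (m : Y) ∈ M := Subgroup.mem_subgroupOf.mp hm
      have h3 : (h : Y) = (m : Y) * ((m⁻¹ * h : ↥H) : Y) := by
        simp
      rw [h3]
      exact M.mul_mem hm' h2
    · intro hh
      exact ⟨h, Subgroup.mem_subgroupOf.mpr hh, rfl⟩
  have hlt : (M.subgroupOf H).map π < ⊤ := by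
    rw [lt_top_iff_ne_top]
    intro htop
    apply hne
    apply le_antisymm hMH
    intro h hh
    have : π ⟨h, hh⟩ ∈ (M.subgroupOf H).map π := by rw [htop]; exact Subgroup.mem_top _
    exact (hdet ⟨h, hh⟩).mp this
  obtain ⟨xq, hxN, hxM⟩ := SetLike.exists_of_lt (hnc _ hlt)
  obtain ⟨x, rfl⟩ := hπs xq
  refine ⟨x, x.2, fun hx => hxM ((hdet x).mpr hx), ?_⟩
  rw [Subgroup.mem_normalizer_iff] at hxN ⊢
  intro m
  constructor
  · intro hm
    have h1 := (hxN (π ⟨m, hMH hm⟩)).mp ((hdet _).mpr hm)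
    rw [← map_inv, ← map_mul, ← map_mul] at h1
    exact (hdet _).mp h1
  · intro hm
    have hmH : m ∈ H := by
      have h1 : (x : Y) * m * (x : Y)⁻¹ ∈ H := hMH hm
      have h2 := H.mul_mem (H.mul_mem (H.inv_mem x.2) h1) x.2
      have e : (x : Y)⁻¹ * ((x : Y) * m * (x : Y)⁻¹) * (x : Y) = m := by group
      rwa [e] at h2
    have h1 : π (x * ⟨m, hmH⟩ * x⁻¹) ∈ (M.subgroupOf H).map π := (hdet _).mpr hm
    rw [map_mul, map_mul, map_inv] at h1
    exact (hdet ⟨m, hmH⟩).mp ((hxN _).mpr h1)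

/-- Sub-lemma S: along the subnormal chain from `M ≥ C₁` up to `H` (with `H / C₁` a `p`-group),
the largest normal `p`-subgroups increase. -/
theorem opIn_le_opIn_of_pquot [Finite Y] (p : ℕ) [Fact p.Prime] {H C₁ : Subgroup Y}
    (hHC : H ≤ Subgroup.normalizer (C₁ : Set Y))
    (hpow : ∀ h ∈ H, ∃ k : ℕ, h ^ (p ^ k) ∈ C₁) :
    ∀ (n : ℕ) (M : Subgroup Y), C₁ ≤ M → M ≤ H → Nat.card ↥H - Nat.card ↥M = n →
      opIn p M ≤ opIn p H := by
  intro n
  induction n using Nat.strong_induction_on with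
  | _ n ih =>
  intro M hCM hMH hn
  by_cases hne : M = H
  · rw [hne]
  · obtain ⟨x, hxH, hxM, hxN⟩ := exists_normalizing_outside p hCM hMH hne hHC hpow
    obtain ⟨M₁, hM₁⟩ : ∃ M₁ : Subgroup Y, M₁ = H ⊓ Subgroup.normalizer (M : Set Y) := ⟨_, rfl⟩
    have hMM₁ : M ≤ M₁ := by rw [hM₁]; exact le_inf hMH Subgroup.le_normalizer
    have hM₁H : M₁ ≤ H := by rw [hM₁]; exact inf_le_left
    have hlt : M < M₁ := by
      refine lt_of_le_of_ne hMM₁ ?_
      intro h
      apply hxM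
      rw [h, hM₁]
      exact ⟨hxH, hxN⟩
    have hc1 : Nat.card ↥M < Nat.card ↥M₁ := by
      by_contra hcon
      exact hlt.ne (Subgroup.eq_of_le_of_card_ge hMM₁ (by omega))
    have hc2 : Nat.card ↥M₁ ≤ Nat.card ↥H := Subgroup.card_le_of_le hM₁H
    have h1 : opIn p M ≤ opIn p M₁ :=
      opIn_le_opIn_of_normal p hMM₁ (by rw [hM₁]; exact inf_le_right)
    exact h1.trans (ih (Nat.card ↥H - Nat.card ↥M₁) (by omega) M₁ (hCM.trans hMM₁) hM₁H rfl)

end Cfsg.Agent.Lib.Helper18.KInfP
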