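import Mathlib
import Cfsg.Agent.Lib.Helper18.KInfP2
import Cfsg.Agent.Lib.Helper13.KInfD
import Cfsg.Agent.Lib.Helper13.SecFusD

set_option autoImplicit false

/-! The key lemma for the lower star family in a group all of whose sections are normalizer
`p`-stable (helper18). -/

namespace Cfsg.Agent.Lib.Helper18.KInfP

open Cfsg Cfsg.Agent.Lib.Helper13

open scoped commutatorElement

universe u

variable {Y : Type u} [Group Y]

/-- The elements of `A₀` whose commutators with `A₀` lie in the central subgroup `Y₀`. -/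
def nsub (A₀ Y₀ : Subgroup Y) (hY₀ : Y₀ ≤ Subgroup.centralizer (A₀ : Set Y)) : Subgroup Y where
  carrier := {a | a ∈ A₀ ∧ ∀ x ∈ A₀, ⁅a, x⁆ ∈ Y₀}
  one_mem' := ⟨A₀.one_mem, fun x _ => by
    rw [commutatorElement_def]; simp only [one_mul, inv_one, mul_one, mul_inv_cancel]
    exact Y₀.one_mem⟩
  mul_mem' := by
    rintro a b ⟨ha, ha'⟩ ⟨hb, hb'⟩
    refine ⟨A₀.mul_mem ha hb, fun x hx => ?_⟩
    have h1 : ⁅a * b, x⁆ = a * ⁅b, x⁆ * a⁻¹ * ⁅a, x⁆ := by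
      simp only [commutatorElement_def]; group
    have h2 : a * ⁅b, x⁆ * a⁻¹ = ⁅b, x⁆ := by
      have := Subgroup.mem_centralizer_iff.mp (hY₀ (hb' x hx)) a ha
      rw [this]; group
    rw [h1, h2]
    exact Y₀.mul_mem (hb' x hx) (ha' x hx)
  inv_mem' := by
    rintro a ⟨ha, ha'⟩
    refine ⟨A₀.inv_mem ha, fun x hx => ?_⟩
    have h1 : ⁅a⁻¹, x⁆ = a⁻¹ * ⁅a, x⁆⁻¹ * a := by
      simp only [commutatorElement_def]; group
    have h2 : a⁻¹ * ⁅a, x⁆⁻¹ * a = ⁅a, x⁆⁻¹ := by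
      have := Subgroup.mem_centralizer_iff.mp (hY₀ (Y₀.inv_mem (ha' x hx))) a ha
      rw [mul_assoc, ← this]; group
    rw [h1, h2]
    exact Y₀.inv_mem (ha' x hx)

theorem mem_nsub {A₀ Y₀ : Subgroup Y} {hY₀ : Y₀ ≤ Subgroup.centralizer (A₀ : Set Y)} {a : Y} :
    a ∈ nsub A₀ Y₀ hY₀ ↔ a ∈ A₀ ∧ ∀ x ∈ A₀, ⁅a, x⁆ ∈ Y₀ := Iff.rfl

theorem nsub_le (A₀ Y₀ : Subgroup Y) (hY₀ : Y₀ ≤ Subgroup.centralizer (A₀ : Set Y)) :
    nsub A₀ Y₀ hY₀ ≤ A₀ := fun _ h => h.1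

theorem conj_mem_nsub {A₀ Y₀ : Subgroup Y} [hA₀ : A₀.Normal]
    {hY₀ : Y₀ ≤ Subgroup.centralizer (A₀ : Set Y)} {m : Y}
    (hm : m ∈ Subgroup.normalizer (Y₀ : Set Y)) :
    ∀ a ∈ nsub A₀ Y₀ hY₀, m * a * m⁻¹ ∈ nsub A₀ Y₀ hY₀ := by
  rintro a ⟨ha, ha'⟩
  refine ⟨hA₀.conj_mem a ha m, fun x hx => ?_⟩
  have h1 : ⁅m * a * m⁻¹, x⁆ = m * ⁅a, m⁻¹ * x * m⁆ * m⁻¹ := by
    simp only [commutatorElement_def]; group
  rw [h1]
  have hx' : m⁻¹ * x * m ∈ A₀ := by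
    have := hA₀.conj_mem x hx m⁻¹
    rwa [inv_inv] at this
  exact (Subgroup.mem_normalizer_iff.mp hm _).mp (ha' _ hx')

theorem normalizer_le_normalizer_nsub {A₀ Y₀ : Subgroup Y} [hA₀ : A₀.Normal]
    (hY₀ : Y₀ ≤ Subgroup.centralizer (A₀ : Set Y)) :
    Subgroup.normalizer (Y₀ : Set Y) ≤
      Subgroup.normalizer ((nsub A₀ Y₀ hY₀ : Subgroup Y) : Set Y) := by
  intro m hm
  apply mem_normalizer_of_conj_mem
  · exact conj_mem_nsub hm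
  · intro x hx
    have := conj_mem_nsub (hY₀ := hY₀) (Subgroup.inv_mem _ hm) x hx
    rwa [inv_inv] at this

theorem le_normalizer_inf {K A B : Subgroup Y} (hA : K ≤ Subgroup.normalizer (A : Set Y))
    (hB : K ≤ Subgroup.normalizer (B : Set Y)) :
    K ≤ Subgroup.normalizer ((A ⊓ B : Subgroup Y) : Set Y) := by
  intro k hk
  rw [Subgroup.mem_normalizer_iff]
  intro x
  rw [Subgroup.mem_inf, Subgroup.mem_inf, Subgroup.mem_normalizer_iff.mp (hA hk) x,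
    Subgroup.mem_normalizer_iff.mp (hB hk) x]

theorem centralizer_le_normalizer_of_le {V W : Subgroup Y} (hWV : W ≤ V) :
    Subgroup.centralizer (V : Set Y) ≤ Subgroup.normalizer (W : Set Y) := by
  intro c hc
  have hc' := Subgroup.mem_centralizer_iff.mp hc
  apply mem_normalizer_of_conj_mem
  · intro x hx
    have := hc' x (hWV hx)
    have e : c * x * c⁻¹ = x := by rw [← this]; group
    rw [e]; exact hx
  · intro x hx
    have := hc' x (hWV hx)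
    have e : c⁻¹ * x * c = x := by rw [mul_assoc, this]; group
    rw [e]; exact hx

/-- A subgroup acting quadratically: each of its elements does. -/
theorem quad_zpowers_le {V B N : Subgroup Y} (h : ⁅⁅V, B⁆, B⁆ ≤ N) {g : Y} (hg : g ∈ B) :
    ⁅⁅V, Subgroup.zpowers g⁆, Subgroup.zpowers g⁆ ≤ N := by
  have hz : Subgroup.zpowers g ≤ B := Subgroup.zpowers_le.mpr hg
  exact (Subgroup.commutator_mono (Subgroup.commutator_mono le_rfl hz) hz).trans h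

section Main

variable [Finite Y] {p : ℕ} [Fact p.Prime]

set_option maxHeartbeats 800000 in
/-- Lemma X. -/
theorem lemmaX (hsec : SecNPS p Y) (A₀ B H : Subgroup Y) [hA₀n : A₀.Normal]
    (hA₀p : IsPGroup p ↥A₀)
    (hA2 : ⁅A₀, A₀⁆ ≤ Subgroup.centralizer (A₀ : Set Y))
    (hC : IsPGroup p ↥(Subgroup.centralizer (A₀ : Set Y)))
    (hB2 : ⁅B, B⁆ ≤ Subgroup.centralizer (B : Set Y))
    (hAB : A₀ ≤ Subgroup.normalizer (B : Set Y))
    (hstar : ∀ A : Subgroup Y, A ≤ A₀ → B ≤ Subgroup.normalizer (A : Set Y) → ⁅B, ⁅A, A⁆⁆ = ⊥ →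
      ⁅B, A⁆ ≤ B ⊓ Subgroup.centralizer (B : Set Y))
    (hA₀H : A₀ ≤ H) (hBH : B ≤ H) : B ≤ opIn p H := by
  obtain ⟨Y', hY'⟩ : ∃ Y' : Subgroup Y, Y' = ⁅A₀, A₀⁆ := ⟨_, rfl⟩
  haveI hY'n : Y'.Normal := by rw [hY']; infer_instance
  have hY'A : Y' ≤ A₀ := by rw [hY']; exact Subgroup.commutator_le_left A₀ A₀
  have hY'c : Y' ≤ Subgroup.centralizer (A₀ : Set Y) := by rw [hY']; exact hA2
  have hAcY : A₀ ≤ Subgroup.centralizer (Y' : Set Y) := Subgroup.le_centralizer_iff.mp hY'c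
  have hY'p : IsPGroup p ↥Y' := hA₀p.to_le hY'A
  have hNtop : ∀ K : Subgroup Y, K ≤ Subgroup.normalizer (Y' : Set Y) := by
    intro K; rw [Subgroup.normalizer_eq_top]; exact le_top
  have hNbot : ∀ K : Subgroup Y, K ≤ Subgroup.normalizer ((⊥ : Subgroup Y) : Set Y) := by
    intro K; rw [Subgroup.normalizer_eq_top]; exact le_top
  have hNA₀ : ∀ K : Subgroup Y, K ≤ Subgroup.normalizer (A₀ : Set Y) := by
    intro K; rw [Subgroup.normalizer_eq_top]; exact le_top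
  -- Step 1: `B` is quadratic on `Y'`
  have hY'ab : ⁅Y', Y'⁆ = ⊥ := by
    rw [Subgroup.commutator_eq_bot_iff_le_centralizer]
    exact hY'c.trans (Subgroup.centralizer_le hY'A)
  have hBY' : ⁅B, Y'⁆ ≤ B ⊓ Subgroup.centralizer (B : Set Y) :=
    hstar Y' hY'A (hNtop B) (by rw [hY'ab, Subgroup.commutator_bot_right])
  have hqY' : ⁅⁅Y', B⁆, B⁆ = ⊥ := quadratic_of_commutator_le_zIn hBY'
  -- Step 2
  obtain ⟨D₁, hD₁H, hHD₁, hpow₁, hq₁⟩ := relnps hsec H ⊥ Y' (hY'A.trans hA₀H) (hNtop H)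
    (hNbot H) hY'p
  have hBD₁ : B ≤ D₁ := fun g hg => hq₁ g (hBH hg) (quad_zpowers_le hqY'.le hg)
  have hA₀D₁ : A₀ ≤ D₁ := by
    intro a ha
    apply hq₁ a (hA₀H ha)
    have h1 : ⁅Y', Subgroup.zpowers a⁆ = ⊥ := by
      rw [Subgroup.commutator_eq_bot_iff_le_centralizer]
      exact hY'c.trans (Subgroup.centralizer_le (Subgroup.zpowers_le.mpr ha))
    rw [h1, Subgroup.commutator_bot_left]
  obtain ⟨C₁, hC₁⟩ : ∃ C₁ : Subgroup Y, C₁ = D₁ ⊓ Subgroup.centralizer (Y' : Set Y) := ⟨_, rfl⟩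
  have hC₁D₁ : C₁ ≤ D₁ := by rw [hC₁]; exact inf_le_left
  have hA₀C₁ : A₀ ≤ C₁ := by rw [hC₁]; exact le_inf hA₀D₁ hAcY
  have hpowC : ∀ d ∈ D₁, ∃ k : ℕ, d ^ (p ^ k) ∈ C₁ := by
    intro d hd
    obtain ⟨k, hk⟩ := hpow₁ d hd
    refine ⟨k, ?_⟩
    rw [hC₁]
    refine Subgroup.mem_inf.mpr ⟨D₁.pow_mem hd _, ?_⟩
    rw [Subgroup.mem_centralizer_iff]
    intro v hv
    have := hk v hv
    rw [Subgroup.mem_bot, commutatorElement_eq_one_iff_mul_comm] at this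
    exact this.symm
  have hD₁C₁ : D₁ ≤ Subgroup.normalizer (C₁ : Set Y) := by
    rw [hC₁]
    apply le_normalizer_inf Subgroup.le_normalizer
    haveI : (Subgroup.centralizer (Y' : Set Y)).Normal := Subgroup.normal_centralizer
    rw [Subgroup.normalizer_eq_top]; exact le_top
  obtain ⟨M₀, hM₀⟩ : ∃ M₀ : Subgroup Y, M₀ = B ⊔ C₁ := ⟨_, rfl⟩
  have hBM₀ : B ≤ M₀ := by rw [hM₀]; exact le_sup_left
  have hC₁M₀ : C₁ ≤ M₀ := by rw [hM₀]; exact le_sup_right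
  have hM₀D₁ : M₀ ≤ D₁ := by rw [hM₀]; exact sup_le hBD₁ hC₁D₁
  have hA₀M₀ : A₀ ≤ M₀ := hA₀C₁.trans hC₁M₀
  -- Step 3
  obtain ⟨Y₀, hY₀⟩ : ∃ Y₀ : Subgroup Y, Y₀ = Y' ⊓ Subgroup.centralizer (B : Set Y) := ⟨_, rfl⟩
  have hY₀Y' : Y₀ ≤ Y' := by rw [hY₀]; exact inf_le_left
  have hY₀B : Y₀ ≤ Subgroup.centralizer (B : Set Y) := by rw [hY₀]; exact inf_le_right
  have hY₀c : Y₀ ≤ Subgroup.centralizer (A₀ : Set Y) := hY₀Y'.trans hY'c
  have hM₀Y₀ : M₀ ≤ Subgroup.normalizer (Y₀ : Set Y) := by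
    rw [hM₀]
    apply sup_le
    · rw [hY₀]
      exact le_normalizer_inf (hNtop B)
        (Subgroup.le_normalizer.trans (normalizer_le_normalizer_centralizer' B))
    · rw [hC₁]
      exact inf_le_right.trans (centralizer_le_normalizer_of_le hY₀Y')
  obtain ⟨NB, hNB⟩ : ∃ NB : Subgroup Y, NB = nsub A₀ Y₀ hY₀c := ⟨_, rfl⟩
  have hNBA : NB ≤ A₀ := by rw [hNB]; exact nsub_le _ _ _
  have hM₀NB : M₀ ≤ Subgroup.normalizer (NB : Set Y) := by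
    rw [hNB]; exact hM₀Y₀.trans (normalizer_le_normalizer_nsub hY₀c)
  have hNBp : IsPGroup p ↥NB := hA₀p.to_le hNBA
  have hNB' : ⁅NB, NB⁆ ≤ Y₀ := by
    rw [Subgroup.commutator_le]
    intro a ha x hx
    rw [hNB] at ha
    exact ha.2 x (hNBA hx)
  have hBNB : ⁅B, NB⁆ ≤ B ⊓ Subgroup.centralizer (B : Set Y) := by
    apply hstar NB hNBA (hBM₀.trans hM₀NB)
    rw [Subgroup.commutator_comm, Subgroup.commutator_eq_bot_iff_le_centralizer]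
    exact hNB'.trans hY₀B
  have hqNB : ⁅⁅NB, B⁆, B⁆ = ⊥ := quadratic_of_commutator_le_zIn hBNB
  have hqA₀ : ⁅⁅A₀, B⁆, B⁆ ≤ NB := by
    have h1 : ⁅A₀, B⁆ ≤ A₀ ⊓ B :=
      le_inf (Subgroup.commutator_le_left A₀ B)
        (Subgroup.le_normalizer_iff_commutator_le_right.mp hAB)
    have h2 : ⁅A₀ ⊓ B, B⁆ ≤ (B ⊓ Subgroup.centralizer (B : Set Y)) ⊓ A₀ := by
      refine le_inf (le_inf ?_ ?_) ?_
      · refine (Subgroup.commutator_mono inf_le_right le_rfl).trans ?_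
        rw [Subgroup.commutator_le]
        intro a ha b hb
        exact B.mul_mem (B.mul_mem (B.mul_mem ha hb) (B.inv_mem ha)) (B.inv_mem hb)
      · exact (Subgroup.commutator_mono inf_le_right le_rfl).trans hB2
      · exact (Subgroup.commutator_mono inf_le_left le_rfl).trans (Subgroup.commutator_le_left A₀ B)
    refine (Subgroup.commutator_mono h1 le_rfl).trans (h2.trans ?_)
    rintro e ⟨⟨heB, heZ⟩, heA⟩
    rw [hNB, mem_nsub]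
    refine ⟨heA, fun x hx => ?_⟩
    rw [hY₀]
    refine Subgroup.mem_inf.mpr
      ⟨by rw [hY']; exact Subgroup.commutator_mem_commutator heA hx, ?_⟩
    rw [Subgroup.mem_centralizer_iff]
    intro b hb
    -- `c = [b, x]` lies in `B ∩ A₀`
    have hcB : ⁅b, x⁆ ∈ B := by
      rw [commutatorElement_def, mul_assoc, mul_assoc]
      refine B.mul_mem hb ?_
      have := (Subgroup.mem_normalizer_iff.mp (hAB hx) b⁻¹).mp (B.inv_mem hb)
      rw [← mul_assoc]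
      exact this
    have hcA : ⁅b, x⁆ ∈ A₀ := by
      rw [commutatorElement_def]
      exact A₀.mul_mem (hA₀n.conj_mem x hx b) (A₀.inv_mem hx)
    have hec : e * ⁅b, x⁆ = ⁅b, x⁆ * e := (Subgroup.mem_centralizer_iff.mp heZ _ hcB).symm
    have heb : e * b = b * e := (Subgroup.mem_centralizer_iff.mp heZ _ hb).symm
    have hyc : ⁅b, x⁆ * ⁅e, x⁆ = ⁅e, x⁆ * ⁅b, x⁆ := by
      have h3 : ⁅e, x⁆ ∈ Subgroup.centralizer (A₀ : Set Y) :=
        hY'c (by rw [hY']; exact Subgroup.commutator_mem_commutator heA hx)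
      exact Subgroup.mem_centralizer_iff.mp h3 _ hcA
    -- `b [e,x] b⁻¹ = [e, b x b⁻¹] = [e, c x] = [e,c] c [e,x] c⁻¹ = [e,x]`
    have h4 : b * ⁅e, x⁆ * b⁻¹ = ⁅b * e * b⁻¹, ⁅b, x⁆ * x⁆ := by
      simp only [commutatorElement_def]; group
    have h5 : b * e * b⁻¹ = e := by rw [← heb]; group
    have h6 : ⁅e, ⁅b, x⁆ * x⁆ = ⁅e, ⁅b, x⁆⁆ * (⁅b, x⁆ * ⁅e, x⁆ * ⁅b, x⁆⁻¹) := by
      simp only [commutatorElement_def]; group
    have h7 : ⁅e, ⁅b, x⁆⁆ = 1 := commutatorElement_eq_one_iff_mul_comm.mpr hec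
    have h8 : ⁅b, x⁆ * ⁅e, x⁆ * ⁅b, x⁆⁻¹ = ⁅e, x⁆ := by rw [hyc]; group
    rw [h5, h6, h7, h8, one_mul] at h4
    calc b * ⁅e, x⁆ = (b * ⁅e, x⁆ * b⁻¹) * b := by group
      _ = ⁅e, x⁆ * b := by rw [h4]
  obtain ⟨D₂, hD₂M, hMD₂, hpow₂, hq₂⟩ := relnps hsec M₀ ⊥ NB (hNBA.trans hA₀M₀) hM₀NB
    (hNbot M₀) hNBp
  obtain ⟨D₃, hD₃M, hMD₃, hpow₃, hq₃⟩ := relnps hsec M₀ NB A₀ hA₀M₀ (hNA₀ M₀) hM₀NB hA₀p
  have hD : D₂ ⊓ D₃ ≤ opIn p M₀ := by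
    apply le_opIn (inf_le_left.trans hD₂M) (le_normalizer_inf hMD₂ hMD₃)
    exact isPGroup_of_stab A₀ NB (D₂ ⊓ D₃) hNBp hC ((inf_le_left.trans hD₂M).trans hM₀NB)
      (fun d hd => hpow₂ d hd.1) (fun d hd => hpow₃ d hd.2)
  have hBD : B ≤ D₂ ⊓ D₃ := fun g hg =>
    ⟨hq₂ g (hBM₀ hg) (quad_zpowers_le hqNB.le hg), hq₃ g (hBM₀ hg) (quad_zpowers_le hqA₀ hg)⟩
  -- Steps 4 and 5
  have h4 : opIn p M₀ ≤ opIn p D₁ :=
    opIn_le_opIn_of_pquot p hD₁C₁ hpowC _ M₀ hC₁M₀ hM₀D₁ rfl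
  have h5 : opIn p D₁ ≤ opIn p H := opIn_le_opIn_of_normal p hD₁H hHD₁
  exact ((hBD.trans hD).trans h4).trans h5

end Main

end Cfsg.Agent.Lib.Helper18.KInfP
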