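import Mathlib
import Cfsg.Agent.Lib.Helper18.KInfP3
import Cfsg.Agent.Lib.Helper13.KInfI

set_option autoImplicit false

/-! Glauberman's K-infinity theorem, `p`-stable form: in a group with `C(O_p) ≤ O_p` all of whose
sections are normalizer `p`-stable, the K-infinity subgroups of a Sylow `p`-subgroup are normal
(helper18). -/

namespace Cfsg.Agent.Lib.Helper18.KInfP

open Cfsg Cfsg.Agent.Lib.Helper13

open scoped commutatorElement

universe u

variable {G : Type u} [Group G] [Finite G] {p : ℕ} [Fact p.Prime]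

theorem opIn_top_le_pCore : opIn p (⊤ : Subgroup G) ≤ Cfsg.pCore p G := by
  have h := opIn_mem_opSet p (⊤ : Subgroup G)
  have hn : (opIn p (⊤ : Subgroup G)).Normal :=
    Subgroup.normalizer_eq_top_iff.mp (top_le_iff.mp h.2.1)
  exact Cfsg.Agent.Lib.Helper1.le_pCore hn h.2.2

/-- The centralizer of a critical subgroup of `O_p(G)` is a `p`-group when `C(O_p) ≤ O_p`. -/
theorem isPGroup_centralizer_critical
    (hc : Subgroup.centralizer ((Cfsg.pCore p G : Subgroup G) : Set G) ≤ Cfsg.pCore p G)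
    (A : Subgroup G) [hAn : A.Normal] (hAT : A ≤ Cfsg.pCore p G)
    (hCT : Cfsg.pCore p G ⊓ Subgroup.centralizer (A : Set G) ≤ A) :
    IsPGroup p ↥(Subgroup.centralizer (A : Set G)) := by
  have hTn : (Cfsg.pCore p G).Normal := pCore_normal' p
  have hTp : IsPGroup p ↥(Cfsg.pCore p G) := pCore_isPGroup
  have hAp : IsPGroup p ↥A := hTp.to_le hAT
  haveI hCn : (Subgroup.centralizer (A : Set G)).Normal := Subgroup.normal_centralizer
  obtain ⟨j, hj⟩ := IsPGroup.iff_card.mp hAp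
  rintro ⟨x, hx⟩
  have hz2 : ∀ t ∈ Cfsg.pCore p G, x * t * x⁻¹ * t⁻¹ ∈ A := by
    intro t ht
    apply hCT
    refine Subgroup.mem_inf.mpr ⟨?_, ?_⟩
    · exact (Cfsg.pCore p G).mul_mem (hTn.conj_mem t ht x) ((Cfsg.pCore p G).inv_mem ht)
    · have h1 : x * t * x⁻¹ * t⁻¹ = x * (t * x⁻¹ * t⁻¹) := by group
      rw [h1]
      exact (Subgroup.centralizer (A : Set G)).mul_mem hx
        (hCn.conj_mem _ ((Subgroup.centralizer (A : Set G)).inv_mem hx) t)
  have h4 := pow_card_mem_centralizer_of_two_step (P₀ := Cfsg.pCore p G) (Φ := A) x hx hz2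
  rw [hj] at h4
  obtain ⟨m, hm⟩ := hTp ⟨_, hc h4⟩
  refine ⟨j + m, ?_⟩
  have h5 := congrArg Subtype.val hm
  rw [Subgroup.coe_pow, Subgroup.coe_one, ← pow_mul, ← pow_add] at h5
  apply Subtype.ext
  rw [Subgroup.coe_pow, Subgroup.coe_one]
  exact h5

/-- A subgroup acting quadratically on `Z(A)` and on `A / Z(A)` lies in `O_p(G)`. -/
theorem le_pCore_of_quad2 (hsec : SecNPS p G) (A : Subgroup G) [hAn : A.Normal]
    (hAp : IsPGroup p ↥A) (hC : IsPGroup p ↥(Subgroup.centralizer (A : Set G)))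
    (B : Subgroup G)
    (h1 : ⁅⁅A ⊓ Subgroup.centralizer (A : Set G), B⁆, B⁆ = ⊥)
    (h2 : ⁅⁅A, B⁆, B⁆ ≤ A ⊓ Subgroup.centralizer (A : Set G)) : B ≤ Cfsg.pCore p G := by
  obtain ⟨Z, hZ⟩ : ∃ Z : Subgroup G, Z = A ⊓ Subgroup.centralizer (A : Set G) := ⟨_, rfl⟩
  rw [← hZ] at h1 h2
  haveI hZn : Z.Normal := by
    rw [hZ]
    haveI : (Subgroup.centralizer (A : Set G)).Normal := Subgroup.normal_centralizer
    infer_instance
  have hZA : Z ≤ A := by rw [hZ]; exact inf_le_left
  have hZp : IsPGroup p ↥Z := hAp.to_le hZA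
  have hN : ∀ (X : Subgroup G) [X.Normal], (⊤ : Subgroup G) ≤ Subgroup.normalizer (X : Set G) := by
    intro X _; rw [Subgroup.normalizer_eq_top]
  obtain ⟨D₂, -, hMD₂, hpow₂, hq₂⟩ := relnps hsec ⊤ ⊥ Z le_top (hN Z) (hN ⊥) hZp
  obtain ⟨D₃, -, hMD₃, hpow₃, hq₃⟩ := relnps hsec ⊤ Z A le_top (hN A) (hN Z) hAp
  have hD : D₂ ⊓ D₃ ≤ opIn p (⊤ : Subgroup G) := by
    apply le_opIn le_top (le_normalizer_inf hMD₂ hMD₃)
    exact isPGroup_of_stab A Z (D₂ ⊓ D₃) hZp hC (le_top.trans (hN Z))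
      (fun d hd => hpow₂ d hd.1) (fun d hd => hpow₃ d hd.2)
  have hBD : B ≤ D₂ ⊓ D₃ := fun g hg =>
    ⟨hq₂ g (Subgroup.mem_top _) (quad_zpowers_le h1.le hg),
      hq₃ g (Subgroup.mem_top _) (quad_zpowers_le h2 hg)⟩
  exact (hBD.trans hD).trans opIn_top_le_pCore

set_option maxHeartbeats 800000 in
/-- The `p`-stable K-infinity theorem. -/
theorem kinf_normal_of_secNPS (hsec : SecNPS p G)
    (hc : Subgroup.centralizer ((Cfsg.pCore p G : Subgroup G) : Set G) ≤ Cfsg.pCore p G)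
    (S : Sylow p G) :
    (Cfsg.inducedFunctor (G := G) Cfsg.kInfLower (S : Subgroup G)).Normal ∧
      (Cfsg.inducedFunctor (G := G) Cfsg.kInfUpper (S : Subgroup G)).Normal := by
  have hTn : (Cfsg.pCore p G).Normal := pCore_normal' p
  have hTp : IsPGroup p ↥(Cfsg.pCore p G) := pCore_isPGroup
  have hTS : Cfsg.pCore p G ≤ (S : Subgroup G) := pCore_le_sylow S
  obtain ⟨A, hAn, hAT, hATc, hCT⟩ := exists_critical_in (Cfsg.pCore p G) hTp
  have hA2 : A ∈ Cfsg.classTwoSubgroups G :=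
    ((Subgroup.commutator_mono le_rfl hAT).trans hATc).trans inf_le_right
  have hA2' : ⁅A, A⁆ ≤ Subgroup.centralizer (A : Set G) := hA2
  have hAp : IsPGroup p ↥A := hTp.to_le hAT
  have hC : IsPGroup p ↥(Subgroup.centralizer (A : Set G)) :=
    isPGroup_centralizer_critical hc A hAT hCT
  have hAnorm : ∀ K : Subgroup G, K ≤ Subgroup.normalizer (A : Set G) := by
    intro K; rw [Subgroup.normalizer_eq_top]; exact le_top
  have hquad : ∀ B : Subgroup G, ⁅⁅A, B⁆, B⁆ = ⊥ → B ≤ Cfsg.pCore p G := by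
    intro B hB
    apply le_pCore_of_quad2 hsec A hAp hC B
    · exact le_bot_iff.mp ((Subgroup.commutator_mono (Subgroup.commutator_mono inf_le_left le_rfl)
        le_rfl).trans hB.le)
    · rw [hB]; exact bot_le
  have hconf := kinf_sandwich hTS hAT (A₀ := A) ?_ ?_ ?_ ?_
  · exact kinf_normal_of_eq S hconf
  · -- `A` in the lower family
    intro Q _
    refine ⟨hA2, hAnorm Q, ?_⟩
    intro A' _ _ hAN hcomm hZAA
    have hA'T : A' ≤ Cfsg.pCore p G := by
      apply le_pCore_of_quad2 hsec A hAp hC A' hZAA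
      have h1 : ⁅A, A'⁆ ≤ A' := Subgroup.le_normalizer_iff_commutator_le_right.mp hAN
      have h2 : ⁅A', A'⁆ ≤ Subgroup.centralizer (A : Set G) := by
        rw [← Subgroup.commutator_eq_bot_iff_le_centralizer, Subgroup.commutator_comm]
        exact hcomm
      refine le_inf ?_ ((Subgroup.commutator_mono h1 le_rfl).trans h2)
      exact (Subgroup.commutator_mono (Subgroup.commutator_le_left A A') le_rfl).trans
        (Subgroup.commutator_le_left A A')
    exact (Subgroup.commutator_mono le_rfl hA'T).trans hATc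
  · -- `A` in the upper family
    intro Q hQT
    exact ⟨hA2, (Subgroup.commutator_mono le_rfl hQT).trans hATc⟩
  · -- the upper family is confined
    rintro Q hAQ _ B ⟨⟨_, hBQ⟩, _⟩
    apply hquad
    exact quadratic_of_commutator_le_zIn ((Subgroup.commutator_mono le_rfl hAQ).trans hBQ)
  · -- the lower family is confined
    rintro Q hAQ _ B ⟨⟨hB2, hQB, hB⟩, _⟩
    have hAB : A ≤ Subgroup.normalizer (B : Set G) := hAQ.trans hQB
    have hZB : B ⊓ Subgroup.centralizer (B : Set G) ≤ Cfsg.pCore p G := by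
      apply hquad
      have h1 : ⁅A, B ⊓ Subgroup.centralizer (B : Set G)⁆ ≤ B :=
        (Subgroup.commutator_mono le_rfl inf_le_left).trans
          (Subgroup.le_normalizer_iff_commutator_le_right.mp hAB)
      refine le_bot_iff.mp ((Subgroup.commutator_mono h1 le_rfl).trans ?_)
      rw [Subgroup.commutator_comm]
      exact (zIn_commutator_eq_bot B).le
    have hstar : ∀ A' : Subgroup G, A' ≤ A → B ≤ Subgroup.normalizer (A' : Set G) →
        ⁅B, ⁅A', A'⁆⁆ = ⊥ → ⁅B, A'⁆ ≤ B ⊓ Subgroup.centralizer (B : Set G) := by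
      intro A' hA'A hBN hcomm
      have hcA' : Subgroup.centralizer (A : Set G) ≤ Subgroup.centralizer (A' : Set G) :=
        Subgroup.centralizer_le hA'A
      apply hB A' _ (hA'A.trans hAQ) hBN hcomm
      · rw [Subgroup.commutator_eq_bot_iff_le_centralizer]
        refine (Subgroup.commutator_mono hZB hA'A).trans ?_
        rw [Subgroup.commutator_comm]
        exact (hATc.trans inf_le_right).trans hcA'
      · show ⁅A', A'⁆ ≤ _
        exact ((Subgroup.commutator_mono hA'A hA'A).trans hA2').trans hcA'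
    exact (lemmaX hsec A B ⊤ hAp hA2' hC hB2 hAB hstar le_top le_top).trans opIn_top_le_pCore

end Cfsg.Agent.Lib.Helper18.KInfP
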