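import Mathlib
import Cfsg.Agent.Lib.Helper18.KInfP4
import Cfsg.Agent.Lib.Helper13.SecFusI
import Cfsg.Agent.Lib.Helper13.EngF
import Cfsg.Agent.Lib.helper17.QdStab9

set_option autoImplicit false

/-! Control of strong fusion by the K-infinity subgroups in groups all of whose sections are
normalizer `p`-stable (helper18). -/

namespace Cfsg.Agent.Lib.Helper18.KInfP

open Cfsg Cfsg.Agent.Lib.Helper13

universe u

variable {G : Type u} [Group G] [Finite G] {p : ℕ} [Fact p.Prime]

theorem secNPS_of_sections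
    (hst : ∀ (K R : Subgroup G) [hR : (R.subgroupOf K).Normal],
      Cfsg.IsNormalizerPStable p (↥K ⧸ R.subgroupOf K)) : SecNPS p G :=
  secAll_of_sections (Pr := fun (Q : Type u) [Group Q] => Cfsg.IsNormalizerPStable p Q)
    (fun _ _ _ _ _ e h => Cfsg.Agent.Lib.helper17.QdStab9.nps_of_mulEquiv e h) hst

theorem sections_of_secNPS (hsec : SecNPS p G) (K R : Subgroup G)
    [hR : (R.subgroupOf K).Normal] : Cfsg.IsNormalizerPStable p (↥K ⧸ R.subgroupOf K) :=
  hsec _ ⟨K, QuotientGroup.mk' (R.subgroupOf K), QuotientGroup.mk'_surjective _⟩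

theorem fcs_kInfLower_of_secNPS (hsec : SecNPS p G) : FCS p {Cfsg.kInfLower} G := by
  have h𝓦 : ∀ W' ∈ ({Cfsg.kInfLower} : Set (∀ (Q : Type u) [Group Q], Subgroup Q)),
      Cfsg.IsCharPFunctor.{u} p W' := by
    intro W' hW'
    rw [Set.mem_singleton_iff] at hW'
    rw [hW']; exact isCharPFunctor_kInfLower p
  apply sec_main h𝓦 _ G rfl
  rintro Q _ _ ⟨K, f, hf⟩ hc
  apply fcs_singleton_of_normal
  intro T
  exact (kinf_normal_of_secNPS (secAll_section hsec K f hf) hc T).1

theorem fcs_kInfUpper_of_secNPS (hsec : SecNPS p G) : FCS p {Cfsg.kInfUpper} G := by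
  have h𝓦 : ∀ W' ∈ ({Cfsg.kInfUpper} : Set (∀ (Q : Type u) [Group Q], Subgroup Q)),
      Cfsg.IsCharPFunctor.{u} p W' := by
    intro W' hW'
    rw [Set.mem_singleton_iff] at hW'
    rw [hW']; exact isCharPFunctor_kInfUpper p
  apply sec_main h𝓦 _ G rfl
  rintro Q _ _ ⟨K, f, hf⟩ hc
  apply fcs_singleton_of_normal
  intro T
  exact (kinf_normal_of_secNPS (secAll_section hsec K f hf) hc T).2

theorem csf_kInfLower_of_secNPS (hsec : SecNPS p G) (S : Sylow p G) :
    Cfsg.ControlsStrongFusion p (Cfsg.inducedFunctor Cfsg.kInfLower (S : Subgroup G)) :=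
  controlsStrongFusion_of_fcs_singleton Cfsg.kInfLower (isCharPFunctor_kInfLower p)
    (fcs_kInfLower_of_secNPS hsec) S

theorem csf_kInfUpper_of_secNPS (hsec : SecNPS p G) (S : Sylow p G) :
    Cfsg.ControlsStrongFusion p (Cfsg.inducedFunctor Cfsg.kInfUpper (S : Subgroup G)) :=
  controlsStrongFusion_of_fcs_singleton Cfsg.kInfUpper (isCharPFunctor_kInfUpper p)
    (fcs_kInfUpper_of_secNPS hsec) S

end Cfsg.Agent.Lib.Helper18.KInfP
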