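import Mathlib
import Cfsg.Agent.Lib.Helper18.KInfP5
import Cfsg.Agent.Lib.helper17.QdStab12
import Cfsg.Agent.Lib.helper17.QdStab11

set_option autoImplicit false

/-! The lower K-infinity subgroup does not control strong fusion in `Qd(p)`; transport of control of
strong fusion along isomorphisms (helper18). -/

namespace Cfsg.Agent.Lib.Helper18.KInfP

open Cfsg Cfsg.Agent.Lib.Helper13

universe u v

/-- The lower K-infinity subgroup is carried along by injective homomorphisms (any universes). -/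
theorem induced_kInfLower_map {A : Type u} {B : Type v} [Group A] [Group B] (f : A →* B)
    (hf : Function.Injective f) (T : Subgroup A) :
    (Cfsg.inducedFunctor (G := A) Cfsg.kInfLower T).map f =
      Cfsg.inducedFunctor (G := B) Cfsg.kInfLower (T.map f) := by
  rw [inducedFunctor_kInfLower (T.map f)]
  show ((Cfsg.kInfLower ↥T).map T.subtype).map f = _
  rw [Subgroup.map_map]
  have hinj : Function.Injective (f.comp T.subtype) := hf.comp T.subtype_injective
  have hr : (f.comp T.subtype).range = T.map f := by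
    rw [MonoidHom.range_comp, Subgroup.range_subtype]
  show (⨆ n, Cfsg.kSeqEven ↥T n).map (f.comp T.subtype) = _
  rw [Subgroup.map_iSup]
  refine iSup_congr (fun n => ?_)
  rw [kmap_seqEven hinj n, hr]

/-- Control of strong fusion is carried along by isomorphisms. -/
theorem csf_map_equiv {p : ℕ} [Fact p.Prime] {A : Type u} {B : Type v} [Group A] [Group B]
    [Finite A] [Finite B] (e : A ≃* B) (U : Subgroup A)
    (h : Cfsg.ControlsStrongFusion p U) :
    Cfsg.ControlsStrongFusion p (U.map e.toMonoidHom) := by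
  obtain ⟨T', hUT', hctl⟩ := h
  have hes : Function.Surjective e.toMonoidHom := e.surjective
  refine ⟨T'.mapSurjective hes, ?_, ?_⟩
  · rw [Sylow.coe_mapSurjective]
    exact Subgroup.map_mono hUT'
  · intro X hX
    rw [Sylow.coe_mapSurjective] at hX ⊢
    refine ⟨hX, fun g hg => ?_⟩
    have hmem : ∀ a : A, e a ∈ (T' : Subgroup A).map e.toMonoidHom → a ∈ (T' : Subgroup A) := by
      rintro a ⟨a', ha', h⟩
      have : a' = a := e.injective h
      rw [← this]; exact ha'
    have hX₀ : (e ⁻¹' X) ⊆ ((T' : Subgroup A) : Set A) := by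
      intro a ha
      exact hmem a (hX ha)
    obtain ⟨-, hc⟩ := hctl _ hX₀
    have hg₀ : (fun a => e.symm g * a * (e.symm g)⁻¹) '' (e ⁻¹' X) ⊆ ((T' : Subgroup A) : Set A) := by
      rintro _ ⟨a, ha, rfl⟩
      apply hmem
      rw [map_mul, map_mul, map_inv, e.apply_symm_apply]
      exact hg ⟨e a, ha, rfl⟩
    obtain ⟨x₀, hx₀, hxa⟩ := hc (e.symm g) hg₀
    refine ⟨e x₀, Subgroup.le_normalizer_map e.toMonoidHom ⟨x₀, hx₀, rfl⟩, fun b hb => ?_⟩
    have hb' : e.symm b ∈ e ⁻¹' X := by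
      rw [Set.mem_preimage, e.apply_symm_apply]; exact hb
    have h1 := congrArg e (hxa _ hb')
    rw [map_mul, map_mul, map_inv, map_mul, map_mul, map_inv, e.apply_symm_apply,
      e.apply_symm_apply] at h1
    exact h1

section Qd

open Matrix Cfsg.Agent.Lib.helper15.Qd Cfsg.Agent.Lib.helper15.NatMod
open Cfsg.Agent.Lib.helper17

variable {p : ℕ} [hp : Fact p.Prime]

/-- In `Qd(p)`, the lower K-infinity subgroup does not control strong fusion. -/
theorem qd_not_csf_kInfLower (S : Sylow p ↥(Cfsg.qdOver (ZMod p))) :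
    ¬ Cfsg.ControlsStrongFusion p
      (Cfsg.inducedFunctor Cfsg.kInfLower (S : Subgroup ↥(Cfsg.qdOver (ZMod p)))) := by
  have hfin : Finite ↥(Cfsg.qdOver (ZMod p)) := QdStab12.finite_qd
  rintro ⟨T', hUT', hctl⟩
  have hVn : ((blk (ZMod p)).ker).Normal := inferInstance
  have hVS : (blk (ZMod p)).ker ≤ (S : Subgroup _) := (isPGroup_ker (p := p)).le_sylow_of_normal S
  have hVT' : (blk (ZMod p)).ker ≤ (T' : Subgroup _) := (isPGroup_ker (p := p)).le_sylow_of_normal T'
  have hSne : (S : Subgroup ↥(Cfsg.qdOver (ZMod p))) ≠ ⊥ := by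
    intro hb
    have h1 : mk (1 : Matrix.SpecialLinearGroup (Fin 2) (ZMod p)) ![1, 0] ∈ (S : Subgroup _) :=
      hVS (mk_one_mem_ker _)
    rw [hb, Subgroup.mem_bot, ← mk_one_zero] at h1
    have h2 := congrFun (mk_injective h1).2 0
    simp at h2
  have hW := isCharPFunctor_kInfLower.{0} p
  have hT₀ne : Cfsg.kInfLower ↥(S : Subgroup ↥(Cfsg.qdOver (ZMod p))) ≠ ⊥ := by
    apply hW.1 _ S.isPGroup'
    obtain ⟨x, hx1⟩ := (Subgroup.ne_bot_iff_exists_ne_one).mp hSne
    exact ⟨⟨x, 1, hx1⟩⟩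
  have hchar : (Cfsg.kInfLower ↥(S : Subgroup ↥(Cfsg.qdOver (ZMod p)))).Characteristic := by
    rw [Subgroup.characteristic_iff_map_eq]
    intro φ
    exact hW.2 _ _ S.isPGroup' φ
  obtain ⟨hN, hNtop⟩ := QdChar.qd_main S _ hT₀ne hchar
  have hN' : Subgroup.normalizer ((Cfsg.inducedFunctor Cfsg.kInfLower
      (S : Subgroup ↥(Cfsg.qdOver (ZMod p))) : Subgroup ↥(Cfsg.qdOver (ZMod p))) :
        Set ↥(Cfsg.qdOver (ZMod p))) =
      Subgroup.normalizer ((S : Subgroup ↥(Cfsg.qdOver (ZMod p))) : Set ↥(Cfsg.qdOver (ZMod p))) := hN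
  apply hNtop
  rw [eq_top_iff]
  intro g _
  have hA : (((blk (ZMod p)).ker : Subgroup _) : Set ↥(Cfsg.qdOver (ZMod p))) ⊆
      ((T' : Subgroup ↥(Cfsg.qdOver (ZMod p))) : Set ↥(Cfsg.qdOver (ZMod p))) := hVT'
  obtain ⟨-, hc⟩ := hctl _ hA
  have hgA : (fun a => g * a * g⁻¹) '' (((blk (ZMod p)).ker : Subgroup _) : Set ↥(Cfsg.qdOver (ZMod p)))
      ⊆ ((T' : Subgroup ↥(Cfsg.qdOver (ZMod p))) : Set ↥(Cfsg.qdOver (ZMod p))) := by
    rintro _ ⟨a, ha, rfl⟩
    exact hVT' (hVn.conj_mem a ha g)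
  obtain ⟨x, hx, hxa⟩ := hc g hgA
  rw [hN'] at hx
  have hcent : x⁻¹ * g ∈ Subgroup.centralizer
      (((blk (ZMod p)).ker : Subgroup _) : Set ↥(Cfsg.qdOver (ZMod p))) := by
    rw [Subgroup.mem_centralizer_iff]
    intro a ha
    have h1 := hxa a ha
    calc a * (x⁻¹ * g) = x⁻¹ * (x * a * x⁻¹) * g := by group
      _ = x⁻¹ * (g * a * g⁻¹) * g := by rw [← h1]
      _ = x⁻¹ * g * a := by group
  have h2 : x⁻¹ * g ∈ Subgroup.normalizer ((S : Subgroup ↥(Cfsg.qdOver (ZMod p))) : Set _) :=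
    Subgroup.le_normalizer (hVS (QdStab10.centralizer_le_ker hcent))
  have h3 := Subgroup.mul_mem _ hx h2
  rwa [mul_inv_cancel_left] at h3

/-- If the lower K-infinity subgroup controls strong fusion in every section, `Qd(p)` is not
involved. -/
theorem not_involves_of_csf_kInfLower {G : Type u} [Group G] [Finite G]
    (h : ∀ (K R : Subgroup G) [hR : (R.subgroupOf K).Normal],
      ∀ T : Sylow p (↥K ⧸ R.subgroupOf K), Cfsg.ControlsStrongFusion p
        (Cfsg.inducedFunctor (G := (↥K ⧸ R.subgroupOf K)) Cfsg.kInfLower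
          (T : Subgroup (↥K ⧸ R.subgroupOf K)))) :
    ¬ Cfsg.Involves ↥(Cfsg.qd p) G := by
  rintro ⟨K, R, hR, ⟨e⟩⟩
  have hfin : Finite ↥(Cfsg.qdOver (ZMod p)) := QdStab12.finite_qd
  have e' : (↥K ⧸ R.subgroupOf K) ≃* ↥(Cfsg.qdOver (ZMod p)) := e
  have hes : Function.Surjective e'.toMonoidHom := e'.surjective
  have h1 := csf_map_equiv e' _ (h K R default)
  rw [induced_kInfLower_map e'.toMonoidHom e'.injective] at h1
  have h2 : ((default : Sylow p (↥K ⧸ R.subgroupOf K)) : Subgroup (↥K ⧸ R.subgroupOf K)).map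
      e'.toMonoidHom = (((default : Sylow p (↥K ⧸ R.subgroupOf K)).mapSurjective hes :
        Sylow p ↥(Cfsg.qdOver (ZMod p))) : Subgroup ↥(Cfsg.qdOver (ZMod p))) :=
    (Sylow.coe_mapSurjective hes _).symm
  rw [h2] at h1
  exact qd_not_csf_kInfLower _ h1

end Qd

end Cfsg.Agent.Lib.Helper18.KInfP
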