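import Mathlib
import Cfsg.Agent.Lib.Helper18.KStarD
import Cfsg.Agent.Lib.Helper13.BG14L

set_option autoImplicit false

/-! The statement of S1431 modulo helper13's `Nonreg1310` (B & G Lemma 13.10 in the nonregular
case) (helper18). -/

namespace Cfsg.Agent.Lib.Helper18.KStar

open Cfsg

variable {G : Type*} [Group G]

theorem kstar_main_of_nonreg [Finite G] (hG : Cfsg.IsMinSimpleOddOrder G) {M K : Subgroup G}
    (hM : IsCoatom M) (hK : Cfsg.IsPiHallOf (Cfsg.kappa M) K M) (hK1 : K ≠ ⊥)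
    (H : Cfsg.Agent.Lib.Helper13.BG14.Nonreg1310 M) :
    (∀ g : G, g ∉ M → (Cfsg.sigmaCore M ⊓ Subgroup.centralizer (K : Set G)) ⊓
        M.map (MulAut.conj g).toMonoidHom = ⊥) ∧
      (∀ g ∈ M, g ∉ K ⊔ (Cfsg.sigmaCore M ⊓ Subgroup.centralizer (K : Set G)) →
        K ⊓ K.map (MulAut.conj g).toMonoidHom = ⊥) ∧
      (∀ (p : ℕ), p.Prime →
        p ∣ Nat.card ↥(Cfsg.sigmaCore M ⊓ Subgroup.centralizer (K : Set G)) →
        ∀ S : Sylow p ↥(Cfsg.sigmaCore M),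
        Cfsg.InUniqueMaximal
          ((S : Subgroup ↥(Cfsg.sigmaCore M)).map (Cfsg.sigmaCore M).subtype) ∧
        (S : Subgroup ↥(Cfsg.sigmaCore M)).map (Cfsg.sigmaCore M).subtype ≤ M ∧
        ¬ (S : Subgroup ↥(Cfsg.sigmaCore M)).map (Cfsg.sigmaCore M).subtype ≤
          (Cfsg.sigmaCore M ⊓ Subgroup.centralizer (K : Set G))) ∧
      ∀ Y : Subgroup G, (∀ p : ℕ, p.Prime → p ∣ Nat.card Y → p ∈ Cfsg.sigma M) →
        Y ⊓ (Cfsg.sigmaCore M ⊓ Subgroup.centralizer (K : Set G)) ≠ ⊥ →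
        Y ≤ Cfsg.sigmaCore M :=
  kstar_main hG hM hK hK1 (Cfsg.Agent.Lib.Helper13.BG14.bg14_two_final hG hM hK hK1 H)

end Cfsg.Agent.Lib.Helper18.KStar
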