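import Mathlib
import Cfsg.Agent.Lib.Helper18.KW2
import Cfsg.Agent.S0559
import Cfsg.Agent.S0562
import Cfsg.Agent.S0566

set_option autoImplicit false

namespace Cfsg.Agent.Lib.Helper18.KW

open Cfsg.Agent.Lib.Helper18
open scoped Pointwise

variable {G : Type*} [Group G] [Finite G]

/-- a minimal counterexample to the coprime Kegel-Wielandt theorem. -/
structure Cex (A B : Subgroup G) : Prop where
  nilA : Group.IsNilpotent A
  nilB : Group.IsNilpotent B
  cop : (Nat.card A).Coprime (Nat.card B)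
  fz : ∀ g : G, ∃ a ∈ A, ∃ b ∈ B, g = a * b
  simple : ∀ N : Subgroup G, N.Normal → N = ⊥ ∨ N = ⊤
  nonsolv : ¬ Group.IsSolvable G
  ih : ∀ L : Subgroup G, L ≠ ⊤ → Fz L A B → Group.IsSolvable L
  npA : ∀ q : ℕ, q.Prime → ¬ IsPGroup q A
  npB : ∀ q : ℕ, q.Prime → ¬ IsPGroup q B

variable {A B : Subgroup G}

theorem Cex.symm (c : Cex A B) : Cex B A where
  nilA := c.nilB
  nilB := c.nilA
  cop := c.cop.symm
  fz := by
    intro g
    obtain ⟨a, ha, b, hb, h1⟩ := c.fz g⁻¹
    refine ⟨b⁻¹, inv_mem hb, a⁻¹, inv_mem ha, ?_⟩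
    rw [← mul_inv_rev, ← h1, inv_inv]
  simple := c.simple
  nonsolv := c.nonsolv
  ih := fun L hL h => c.ih L hL h.symm
  npA := c.npB
  npB := c.npA

theorem Cex.inf (c : Cex A B) : A ⊓ B = ⊥ :=
  (Subgroup.disjoint_of_coprime_natCard c.cop).eq_bot

theorem Cex.card (c : Cex A B) : Nat.card G = Nat.card A * Nat.card B := by
  have h := (fz_top c.fz).card c.inf
  rw [Subgroup.card_top, top_inf_eq, top_inf_eq] at h
  exact h

theorem Cex.index (c : Cex A B) : A.index = Nat.card B := by
  have h1 := A.card_mul_index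
  rw [c.card] at h1
  exact Nat.eq_of_mul_eq_mul_left Nat.card_pos h1

theorem Cex.not_dvd_B (c : Cex A B) {q : ℕ} (hq : q.Prime) (h : q ∣ Nat.card A) :
    ¬ q ∣ Nat.card B := by
  intro h2
  have := Nat.dvd_gcd h h2
  rw [c.cop.gcd_eq_one] at this
  exact hq.one_lt.ne' (Nat.dvd_one.mp this)

theorem Cex.sylA (c : Cex A B) {q : ℕ} (hq : q.Prime) (h : ¬ q ∣ Nat.card B) :
    IsSylowIn q (sp A q) ⊤ := by
  have h1 := sp_isSylowIn c.nilA hq
  refine ⟨le_top, h1.isPGroup, ?_⟩
  rw [← Subgroup.relIndex_mul_relIndex _ _ _ h1.le le_top, Subgroup.relIndex_top_right, c.index]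
  intro hd
  rcases (Nat.Prime.dvd_mul hq).mp hd with h2 | h2
  · exact h1.not_dvd h2
  · exact h h2

theorem Cex.exists_other (c : Cex A B) (q : ℕ) : ∃ r : ℕ, r.Prime ∧ r ≠ q ∧ r ∣ Nat.card A := by
  by_contra hcon
  push Not at hcon
  by_cases hq : q.Prime
  · apply c.npA q hq
    have h1 : Nat.card A = q ^ (Nat.card A).primeFactorsList.length := by
      apply Nat.eq_prime_pow_of_unique_prime_dvd Nat.card_pos.ne'
      intro d hd hdA
      by_contra hne
      exact hcon d hd hne hdA
    exact IsPGroup.of_card h1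
  · have h1 : Nat.card A = 1 := by
      by_contra hne
      obtain ⟨r, hr, hrA⟩ := Nat.exists_prime_and_dvd hne
      have : r ≠ q := by rintro rfl; exact hq hr
      exact hcon r hr this hrA
    apply c.npA 2 Nat.prime_two
    exact IsPGroup.of_card (n := 0) (by rw [h1, pow_zero])

theorem Cex.false_of_normal (c : Cex A B) {R : Subgroup G} (hR : R ≠ ⊥)
    (hs : Group.IsSolvable R) (hn : Subgroup.normalizer (R : Set G) = ⊤) : False := by
  have hRn : R.Normal := Subgroup.normalizer_eq_top_iff.mp hn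
  rcases c.simple R hRn with h | h
  · exact hR h
  · apply c.nonsolv
    subst h
    exact Group.isSolvable_of_surjective (f := (Subgroup.topEquiv (G := G)).toMonoidHom)
      (Subgroup.topEquiv (G := G)).surjective

theorem Cex.false_of_normal_pgroup (c : Cex A B) {R : Subgroup G} {r : ℕ} (hr : r.Prime)
    (hRr : IsPGroup r R) (hR : R ≠ ⊥) (hn : Subgroup.normalizer (R : Set G) = ⊤) : False := by
  have := Fact.mk hr
  have := hRr.isNilpotent
  exact c.false_of_normal hR inferInstance hn

theorem mem_normalizer_of_comm {g : G} {R : Subgroup G} (h : ∀ x ∈ R, g * x = x * g) :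
    g ∈ Subgroup.normalizer (R : Set G) := by
  rw [Subgroup.mem_normalizer_iff]
  intro x
  constructor
  · intro hx
    rw [h x hx, mul_inv_cancel_right]
    exact hx
  · intro hx
    have h1 := h _ hx
    have h2 : g * x * g⁻¹ = x := by
      have : g * (g * x * g⁻¹) = g * x := by
        rw [h1]; group
      exact mul_left_cancel this
    rw [h2] at hx
    exact hx

/-- `A` together with a nonidentity central element of `B` generates `G`. -/
theorem Cex.gen_A_y (c : Cex A B) {M : Subgroup G} (hA : A ≤ M) {y : G} (hyM : y ∈ M)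
    (hy1 : y ≠ 1) (hyc : ∀ b ∈ B, b * y = y * b) : M = ⊤ := by
  have h1 : Subgroup.normalClosure {y} ≤ M := by
    unfold Subgroup.normalClosure
    rw [Subgroup.closure_le]
    intro x hx
    rw [Group.mem_conjugatesOfSet_iff] at hx
    obtain ⟨a, ha, hax⟩ := hx
    rw [Set.mem_singleton_iff] at ha
    subst ha
    rw [isConj_iff] at hax
    obtain ⟨g, rfl⟩ := hax
    obtain ⟨a', ha', b, hb, rfl⟩ := c.fz g
    have h2 : a' * b * a * (a' * b)⁻¹ = a' * a * a'⁻¹ := by
      have := hyc b hb
      calc a' * b * a * (a' * b)⁻¹ = a' * (b * a) * b⁻¹ * a'⁻¹ := by group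
        _ = a' * (a * b) * b⁻¹ * a'⁻¹ := by rw [this]
        _ = a' * a * a'⁻¹ := by group
    rw [h2]
    exact M.mul_mem (M.mul_mem (hA ha') hyM) (M.inv_mem (hA ha'))
  have h2 : Subgroup.normalClosure {y} ≠ ⊥ := by
    intro h
    have : y ∈ Subgroup.normalClosure {y} := Subgroup.subset_normalClosure rfl
    rw [h, Subgroup.mem_bot] at this
    exact hy1 this
  rcases c.simple _ Subgroup.normalClosure_normal with h | h
  · exact absurd h h2
  · rw [h] at h1
    exact top_le_iff.mp h1

theorem conjSub_coe_mul {S Q R : Subgroup G} (h : (S : Set G) = (Q : Set G) * (R : Set G))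
    (g : G) : (conjSub g S : Set G) = (conjSub g Q : Set G) * (conjSub g R : Set G) := by
  unfold conjSub
  rw [Subgroup.coe_map, Subgroup.coe_map, Subgroup.coe_map, h, Set.image_mul]

theorem conjSub_ne_top {S : Subgroup G} (h : S ≠ ⊤) (g : G) : conjSub g S ≠ ⊤ := by
  intro h1
  apply h
  rw [eq_top_iff]
  intro x _
  have : g * x * g⁻¹ ∈ conjSub g S := by rw [h1]; trivial
  rw [mem_conjSub] at this
  simpa [mul_assoc] using this

theorem normal_sub_of_le_normalizer {H K : Subgroup G} (h1 : H ≤ K)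
    (h2 : K ≤ Subgroup.normalizer (H : Set G)) : (H.subgroupOf K).Normal :=
  (Subgroup.normal_subgroupOf_iff_le_normalizer h1).mpr h2

/-- Sylow subgroups of `A` and `B` generate `G`. -/
theorem Cex.lev0 (c : Cex A B) {q s : ℕ} (hq : q.Prime) (hqA : q ∣ Nat.card A) (hs : s.Prime)
    (hsB : s ∣ Nat.card B) : sp A q ⊔ sp B s = ⊤ := by
  by_contra hT
  obtain ⟨T, hTdef⟩ : ∃ T, T = sp A q ⊔ sp B s := ⟨_, rfl⟩
  rw [← hTdef] at hT
  have hQ1 : sp A q ≠ ⊥ := sp_ne_bot c.nilA hq hqA
  have hR1 : sp B s ≠ ⊥ := sp_ne_bot c.nilB hs hsB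
  have hQT : sp A q ≤ T := by rw [hTdef]; exact le_sup_left
  have hRT : sp B s ≤ T := by rw [hTdef]; exact le_sup_right
  have hTbot : T ≠ ⊥ := by
    intro h
    apply hQ1
    rw [eq_bot_iff, ← h]
    exact hQT
  have hL : Subgroup.normalizer (T : Set G) ≠ ⊤ := by
    intro h
    have hn : T.Normal := Subgroup.normalizer_eq_top_iff.mp h
    rcases c.simple T hn with h1 | h1
    · exact hTbot h1
    · exact hT h1
  have fzL : Fz (Subgroup.normalizer (T : Set G)) A B := by
    intro g hg
    have := Cfsg.Agent.S0562.result A B (sp A q) (sp B s) c.fz (sp_le A q)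
      (normal_sub_of_le_normalizer (sp_le A q) (sp_le_normalizer A q)) (sp_le B s)
      (normal_sub_of_le_normalizer (sp_le B s) (sp_le_normalizer B s)) g
      (by rw [← hTdef]; exact hg)
    rw [← hTdef] at this
    exact this
  have hsol := c.ih _ hL fzL
  have hAq := c.sylA hq (c.not_dvd_B hq hqA)
  have hBs := c.symm.sylA hs (c.symm.not_dvd_B hs hsB)
  have hTL : T ≤ Subgroup.normalizer (T : Set G) := Subgroup.le_normalizer
  obtain ⟨S, hS⟩ := perm (Subgroup.normalizer (T : Set G)) A B (sp A q) (sp B s) hsol fzL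
     (le_inf (hQT.trans hTL) (sp_le A q))
     (inf_le_right.trans (sp_le_normalizer A q))
     (sylowIn_coprime hq (hAq.of_le (hQT.trans hTL) le_top))
     (le_inf (hRT.trans hTL) (sp_le B s))
     (inf_le_right.trans (sp_le_normalizer B s))
     (sylowIn_coprime hs (hBs.of_le (hRT.trans hTL) le_top))
  have hST : S ≤ T := by
    intro x hx
    have : x ∈ (S : Set G) := hx
    rw [hS, Set.mem_mul] at this
    obtain ⟨a, ha, b, hb, rfl⟩ := this
    exact T.mul_mem (hQT ha) (hRT hb)
  have hStop : S ≠ ⊤ := by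
    intro h
    apply hT
    rw [h] at hST
    exact top_le_iff.mp hST
  obtain ⟨N, hN, hNtop, hNle⟩ := Cfsg.Agent.S0566.result (sp A q) (sp B s) hQ1 hR1 (by
    intro x
    obtain ⟨_, g, hgA, hgB⟩ := Cfsg.Agent.S0559.result A B A (MulAut.conj x • B) c.fz
      ⟨1, by simp⟩ ⟨x, rfl⟩
    have hgA' : conjSub g A = A := hgA.symm
    have hgB' : conjSub x B = conjSub g B := hgB
    refine ⟨conjSub g S, conjSub_ne_top hStop g, ?_⟩
    rw [conjSub_coe_mul hS g]
    have e1 : conjSub g (sp A q) = sp A q := by rw [← sp_conj, hgA']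
    have e2 : conjSub g (sp B s) = MulAut.conj x • sp B s := by
      change _ = conjSub x (sp B s)
      rw [← sp_conj, ← sp_conj, hgB']
    rw [e1, e2])
  rcases c.simple N hN with h | h
  · rw [h] at hNle
    rcases hNle with h1 | h1
    · exact hQ1 (le_bot_iff.mp h1)
    · exact hR1 (le_bot_iff.mp h1)
  · exact hNtop h

end Cfsg.Agent.Lib.Helper18.KW
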