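import Mathlib
import Cfsg.Agent.Lib.Helper18.KW3
import Cfsg.Agent.Lib.Helper1.MinNormal

set_option autoImplicit false

namespace Cfsg.Agent.Lib.Helper18.KW

open Cfsg.Agent.Lib.Helper18
open scoped Pointwise

variable {G : Type*} [Group G] [Finite G] {A B : Subgroup G}

theorem exists_pow_of_mem_sp {H : Subgroup G} (nil : Group.IsNilpotent H) {s : ℕ} (hs : s.Prime)
    {y : G} (hy : y ∈ sp H s) : ∃ k : ℕ, y ^ s ^ k = 1 := by
  obtain ⟨k, hk⟩ := (sp_isPGroup nil hs) ⟨y, hy⟩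
  refine ⟨k, ?_⟩
  have := congrArg Subtype.val hk
  simpa using this

/-- a nontrivial subgroup with a normal minimal `r`-subgroup. -/
theorem exists_min_normal_pgroup {W : Subgroup G} (hsol : Group.IsSolvable W) (hW : W ≠ ⊥) :
    ∃ (r : ℕ) (R₀ : Subgroup G), r.Prime ∧ IsPGroup r R₀ ∧ R₀ ≠ ⊥ ∧ R₀ ≤ W ∧
      W ≤ Subgroup.normalizer (R₀ : Set G) := by
  have := hsol
  have : Nontrivial W := (Subgroup.nontrivial_iff_ne_bot W).mpr hW
  obtain ⟨N₀, hN₀n, hN₀, hmin⟩ := Cfsg.Agent.Lib.Helper1.exists_minimal_normal (G := W)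
  obtain ⟨-, r, hr, hexp⟩ := Cfsg.Agent.Lib.Helper1.minimal_normal_of_solvable N₀ hN₀ hmin
  refine ⟨r, N₀.map W.subtype, hr, ?_, ?_, ?_, ?_⟩
  · rintro ⟨_, ⟨x, hx, rfl⟩⟩
    refine ⟨1, ?_⟩
    apply Subtype.ext
    have := congrArg Subtype.val (hexp x hx)
    simpa using this
  · intro h
    apply hN₀
    rw [eq_bot_iff]
    intro x hx
    have : W.subtype x ∈ N₀.map W.subtype := ⟨x, hx, rfl⟩
    rw [h, Subgroup.mem_bot] at this
    rw [Subgroup.mem_bot]
    apply Subtype.ext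
    simpa using this
  · rintro _ ⟨x, _, rfl⟩
    exact x.2
  · intro w hw
    apply mem_normalizer_of_conjSub_le
    rintro _ ⟨_, ⟨x, hx, rfl⟩, rfl⟩
    refine ⟨⟨w, hw⟩ * x * ⟨w, hw⟩⁻¹, hN₀n.conj_mem x hx _, ?_⟩
    simp

theorem dvd_card_of_pgroup_ne_bot {r : ℕ} (hr : r.Prime) {R : Subgroup G} (hR : IsPGroup r R)
    (hR1 : R ≠ ⊥) : r ∣ Nat.card R := by
  have := Fact.mk hr
  obtain ⟨n, hn⟩ := hR.exists_card_eq
  rw [hn]
  have : n ≠ 0 := by
    rintro rfl
    rw [pow_zero] at hn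
    exact hR1 (Subgroup.card_eq_one.mp hn)
  exact dvd_pow_self r this

/-- a normal `r`-subgroup lies in every Sylow `r`-subgroup. -/
theorem le_of_sylowIn_of_normal {r : ℕ} (hr : r.Prime) {Q W R₀ : Subgroup G}
    (hQ : IsSylowIn r Q W) (hR₀ : IsPGroup r R₀) (hle : R₀ ≤ W)
    (hn : W ≤ Subgroup.normalizer (R₀ : Set G)) : R₀ ≤ Q := by
  have := Fact.mk hr
  obtain ⟨x, hx, h1⟩ := hQ.exists_conj_le hle hR₀
  rw [conjSub_eq_of_mem_normalizer (hn hx)] at h1
  exact h1

theorem Cex.lev1 (c : Cex A B) {q s : ℕ} (hq : q.Prime) (hqA : q ∣ Nat.card A) (hs : s.Prime)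
    (hsB : s ∣ Nat.card B) {M : Subgroup G} (hM : sp A q ≤ M) {y : G} (hyM : y ∈ M)
    (hys : y ∈ sp B s) (hy1 : y ≠ 1) (hyc : ∀ b ∈ B, b * y = y * b) : M = ⊤ := by
  by_contra hMtop
  obtain ⟨T, hTdef⟩ : ∃ T, T = sp A q ⊔ Subgroup.zpowers y := ⟨_, rfl⟩
  have hQT : sp A q ≤ T := by rw [hTdef]; exact le_sup_left
  have hYT : Subgroup.zpowers y ≤ T := by rw [hTdef]; exact le_sup_right
  have hyT : y ∈ T := hYT (Subgroup.mem_zpowers y)
  have hTM : T ≤ M := by
    rw [hTdef]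
    exact sup_le hM ((Subgroup.zpowers_le).mpr hyM)
  have hT : T ≠ ⊤ := by
    intro h
    rw [h] at hTM
    exact hMtop (top_le_iff.mp hTM)
  have hTbot : T ≠ ⊥ := by
    intro h
    rw [h, Subgroup.mem_bot] at hyT
    exact hy1 hyT
  have hL : Subgroup.normalizer (T : Set G) ≠ ⊤ := by
    intro h
    have hn : T.Normal := Subgroup.normalizer_eq_top_iff.mp h
    rcases c.simple T hn with h1 | h1
    · exact hTbot h1
    · exact hT h1
  have hyB : y ∈ B := sp_le B s hys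
  have hYB : Subgroup.zpowers y ≤ B := (Subgroup.zpowers_le).mpr hyB
  have hYn : B ≤ Subgroup.normalizer (Subgroup.zpowers y : Set G) := by
    intro b hb
    apply mem_normalizer_of_comm
    intro x hx
    obtain ⟨n, rfl⟩ := Subgroup.mem_zpowers_iff.mp hx
    exact ((Commute.zpow_right (show Commute b y from hyc b hb)) n).eq
  have fzL : Fz (Subgroup.normalizer (T : Set G)) A B := by
    intro g hg
    have := Cfsg.Agent.S0562.result A B (sp A q) (Subgroup.zpowers y) c.fz (sp_le A q)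
      (normal_sub_of_le_normalizer (sp_le A q) (sp_le_normalizer A q)) hYB
      (normal_sub_of_le_normalizer hYB hYn) g
      (by rw [← hTdef]; exact hg)
    rw [← hTdef] at this
    exact this
  have hsol := c.ih _ hL fzL
  have hsA : ¬ s ∣ Nat.card A := c.symm.not_dvd_B hs hsB
  have hAq := c.sylA hq (c.not_dvd_B hq hqA)
  have hTL : T ≤ Subgroup.normalizer (T : Set G) := Subgroup.le_normalizer
  obtain ⟨L, hLdef⟩ : ∃ L, L = Subgroup.normalizer (T : Set G) := ⟨_, rfl⟩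
  rw [← hLdef] at hL fzL hsol hTL
  have hRsyl : IsSylowIn s (sp (L ⊓ B) s) L := fzL.sylow_right c.inf c.nilB hs hsA
  have hQsyl : IsSylowIn q (sp A q) L := hAq.of_le (hQT.trans hTL) le_top
  have nilLB : Group.IsNilpotent (L ⊓ B : Subgroup G) := by
    have := c.nilB
    exact Subgroup.isNilpotent_of_ker_le_center (Subgroup.inclusion (inf_le_right : L ⊓ B ≤ B))
      (by rw [(MonoidHom.ker_eq_bot_iff _).mpr (Subgroup.inclusion_injective _)]; exact bot_le)
  have hyR : y ∈ sp (L ⊓ B) s := by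
    obtain ⟨k, hk⟩ := exists_pow_of_mem_sp c.nilB hs hys
    exact mem_sp_of_pow ⟨hTL hyT, hyB⟩ k hk
  obtain ⟨W, hW⟩ := perm L A B (sp A q) (sp (L ⊓ B) s) hsol fzL
     (le_inf (hQT.trans hTL) (sp_le A q))
     (inf_le_right.trans (sp_le_normalizer A q))
     (sylowIn_coprime hq hQsyl)
     (sp_le _ s)
     (sp_le_normalizer _ s)
     (sylowIn_coprime hs hRsyl)
  have hQW : sp A q ≤ W := by
    intro x hx
    change x ∈ (W : Set G)
    rw [hW, Set.mem_mul]
    exact ⟨x, hx, 1, Subgroup.one_mem _, mul_one x⟩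
  have hRW : sp (L ⊓ B) s ≤ W := by
    intro x hx
    change x ∈ (W : Set G)
    rw [hW, Set.mem_mul]
    exact ⟨1, Subgroup.one_mem _, x, hx, one_mul x⟩
  have hWL : W ≤ L := by
    intro x hx
    have : x ∈ (W : Set G) := hx
    rw [hW, Set.mem_mul] at this
    obtain ⟨a, ha, b, hb, rfl⟩ := this
    exact L.mul_mem (hQsyl.le ha) (hRsyl.le hb)
  have hWsol : Group.IsSolvable W := by
    have := hsol
    exact Group.isSolvable_of_isSolvable_injective (Subgroup.inclusion_injective hWL)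
  have hWbot : W ≠ ⊥ := by
    intro h
    have := hRW hyR
    rw [h, Subgroup.mem_bot] at this
    exact hy1 this
  obtain ⟨r, R₀, hr, hR₀r, hR₀1, hR₀W, hWn⟩ := exists_min_normal_pgroup hWsol hWbot
  have hrdvd : r ∣ Nat.card (sp A q) * Nat.card (sp (L ⊓ B) s) := by
    have h1 : r ∣ Nat.card W :=
      (dvd_card_of_pgroup_ne_bot hr hR₀r hR₀1).trans (Subgroup.card_dvd_of_le hR₀W)
    have h2 := Cfsg.Agent.Lib.Helper5.card_mul_set_mul_card_inf (sp A q) (sp (L ⊓ B) s)
    rw [← hW] at h2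
    have h3 : Nat.card W ∣ Nat.card (sp A q) * Nat.card (sp (L ⊓ B) s) := by
      rw [← h2]
      exact Dvd.intro _ rfl
    exact h1.trans h3
  have hcases : r = q ∨ r = s := by
    have := Fact.mk hq
    have := Fact.mk hs
    obtain ⟨n1, hn1⟩ := hQsyl.isPGroup.exists_card_eq
    obtain ⟨n2, hn2⟩ := hRsyl.isPGroup.exists_card_eq
    rw [hn1, hn2] at hrdvd
    rcases (Nat.Prime.dvd_mul hr).mp hrdvd with h | h
    · exact Or.inl ((Nat.prime_dvd_prime_iff_eq hr hq).mp (hr.dvd_of_dvd_pow h))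
    · exact Or.inr ((Nat.prime_dvd_prime_iff_eq hr hs).mp (hr.dvd_of_dvd_pow h))
  rcases hcases with hrq | hrs
  · rw [hrq] at hR₀r
    have hR₀Q : R₀ ≤ sp A q :=
      le_of_sylowIn_of_normal hq (hQsyl.of_le hQW hWL) hR₀r hR₀W hWn
    have hAn : A ≤ Subgroup.normalizer (R₀ : Set G) := by
      apply sp_gen c.nilA
      intro q' hq'
      by_cases hqq : q' = q
      · subst hqq
        exact hQW.trans hWn
      · intro x hx
        apply mem_normalizer_of_comm
        intro t ht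
        exact sp_comm c.nilA hq' hq hqq hx (hR₀Q ht)
    have := c.gen_A_y hAn (hWn (hRW hyR)) hy1 hyc
    exact c.false_of_normal_pgroup hq hR₀r hR₀1 this
  · rw [hrs] at hR₀r
    have hR₀R : R₀ ≤ sp (L ⊓ B) s :=
      le_of_sylowIn_of_normal hs (hRsyl.of_le hRW hWL) hR₀r hR₀W hWn
    have hR₀B : R₀ ≤ sp B s := hR₀R.trans (sp_mono inf_le_right s)
    obtain ⟨s', hs', hne, hs'B⟩ := c.symm.exists_other s
    have h1 : sp B s' ≤ Subgroup.normalizer (R₀ : Set G) := by
      intro x hx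
      apply mem_normalizer_of_comm
      intro t ht
      exact sp_comm c.nilB hs' hs hne hx (hR₀B ht)
    have h2 : sp A q ⊔ sp B s' ≤ Subgroup.normalizer (R₀ : Set G) :=
      sup_le (hQW.trans hWn) h1
    rw [c.lev0 hq hqA hs' hs'B] at h2
    exact c.false_of_normal_pgroup hs hR₀r hR₀1 (top_le_iff.mp h2)

/-- conjugated form of `lev1`. -/
theorem Cex.lev1' (c : Cex A B) {q s : ℕ} (hq : q.Prime) (hqA : q ∣ Nat.card A) (hs : s.Prime)
    (hsB : s ∣ Nat.card B) {M : Subgroup G} (hM : sp A q ≤ M) (u : G) {y : G} (hyM : y ∈ M)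
    (hys : y ∈ conjSub u (sp B s)) (hy1 : y ≠ 1) (hyc : ∀ b ∈ conjSub u B, b * y = y * b) :
    M = ⊤ := by
  obtain ⟨_, g, hgA, hgB⟩ := Cfsg.Agent.S0559.result A B A (MulAut.conj u • B) c.fz
    ⟨1, by simp⟩ ⟨u, rfl⟩
  have hgA' : conjSub g A = A := hgA.symm
  have hgB' : conjSub u B = conjSub g B := hgB
  have e1 : conjSub g (sp A q) = sp A q := by rw [← sp_conj, hgA']
  have e2 : conjSub u (sp B s) = conjSub g (sp B s) := by rw [← sp_conj, ← sp_conj, hgB']
  have key : conjSub g⁻¹ M = ⊤ := by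
    apply c.lev1 hq hqA hs hsB (y := g⁻¹ * y * g)
    · intro x hx
      rw [mem_conjSub, inv_inv]
      apply hM
      rw [← e1]
      exact conj_mem_conjSub hx
    · rw [mem_conjSub, inv_inv]
      have : g * (g⁻¹ * y * g) * g⁻¹ = y := by group
      rw [this]
      exact hyM
    · rw [e2, mem_conjSub] at hys
      exact hys
    · intro h
      apply hy1
      have : y = g * (g⁻¹ * y * g) * g⁻¹ := by group
      rw [this, h]
      group
    · intro b hb
      have h1 : g * b * g⁻¹ ∈ conjSub u B := by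
        rw [hgB']
        exact conj_mem_conjSub hb
      have h2 := hyc _ h1
      calc b * (g⁻¹ * y * g) = g⁻¹ * ((g * b * g⁻¹) * y) * g := by group
        _ = g⁻¹ * (y * (g * b * g⁻¹)) * g := by rw [h2]
        _ = g⁻¹ * y * g * b := by group
  rw [eq_top_iff]
  intro x _
  have : g⁻¹ * x * g ∈ conjSub g⁻¹ M := by rw [key]; trivial
  rw [mem_conjSub, inv_inv] at this
  have e : g * (g⁻¹ * x * g) * g⁻¹ = x := by group
  rw [e] at this
  exact this

end Cfsg.Agent.Lib.Helper18.KW
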