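import Mathlib
import Cfsg.Agent.Lib.Helper18.KW4

set_option autoImplicit false

namespace Cfsg.Agent.Lib.Helper18.KW

open Cfsg.Agent.Lib.Helper18
open scoped Pointwise

variable {G : Type*} [Group G] [Finite G] {A B : Subgroup G}

theorem conjSub_nilpotent {H : Subgroup G} (nil : Group.IsNilpotent H) (g : G) :
    Group.IsNilpotent (conjSub g H) := by
  have := nil
  exact Group.nilpotent_of_mulEquiv (H.equivMapOfInjective _ (MulAut.conj g).injective)

theorem eq_top_of_conjSub_eq_top {M : Subgroup G} {g : G} (h : conjSub g M = ⊤) : M = ⊤ := by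
  by_contra h1
  exact conjSub_ne_top h1 g h

/-- a nonidentity central element of the Sylow `q`-subgroup of `A` normalizes no nontrivial
`s`-subgroup for `s` dividing `|B|`. -/
theorem Cex.noinv (c : Cex A B) {q s : ℕ} (hq : q.Prime) (hqA : q ∣ Nat.card A) (hs : s.Prime)
    (hsB : s ∣ Nat.card B) {z : G} (hz : z ∈ sp A q) (hz1 : z ≠ 1)
    (hzc : ∀ a ∈ A, a * z = z * a) {S : Subgroup G} (hS : IsPGroup s S) (hS1 : S ≠ ⊥)
    (hzS : z ∈ Subgroup.normalizer (S : Set G)) : False := by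
  have := Fact.mk hs
  have hBs : IsSylowIn s (sp B s) ⊤ := c.symm.sylA hs (c.symm.not_dvd_B hs hsB)
  obtain ⟨x, -, hx⟩ := hBs.exists_conj_le (le_top : S ≤ ⊤) hS
  rw [conjSub_le_iff] at hx
  obtain ⟨u, hu⟩ : ∃ u, u = x⁻¹ := ⟨_, rfl⟩
  rw [← hu] at hx
  obtain ⟨s', hs', hne, hs'B⟩ := c.symm.exists_other s
  have nilu : Group.IsNilpotent (conjSub u B) := conjSub_nilpotent c.nilB u
  have h1 : conjSub u (sp B s') ≤ Subgroup.normalizer (S : Set G) := by
    intro t ht
    apply mem_normalizer_of_comm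
    intro w hw
    have hw' := hx hw
    rw [← sp_conj] at ht hw'
    exact sp_comm nilu hs' hs hne ht hw'
  have key : conjSub u⁻¹ (Subgroup.normalizer (S : Set G)) = ⊤ := by
    apply c.symm.lev1' hs' hs'B hq hqA (M := conjSub u⁻¹ (Subgroup.normalizer (S : Set G)))
      (y := u⁻¹ * z * u) ?_ u⁻¹
    · rw [mem_conjSub, inv_inv]
      have : u * (u⁻¹ * z * u) * u⁻¹ = z := by group
      rw [this]
      exact hzS
    · have := conj_mem_conjSub (g := u⁻¹) hz
      rw [inv_inv] at this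
      exact this
    · intro h
      apply hz1
      have : z = u * (u⁻¹ * z * u) * u⁻¹ := by group
      rw [this, h]
      group
    · intro a ha
      rw [mem_conjSub, inv_inv] at ha
      have h2 := hzc _ ha
      calc a * (u⁻¹ * z * u) = u⁻¹ * ((u * a * u⁻¹) * z) * u := by group
        _ = u⁻¹ * (z * (u * a * u⁻¹)) * u := by rw [h2]
        _ = u⁻¹ * z * u * a := by group
    · intro t ht
      rw [mem_conjSub, inv_inv]
      exact h1 (conj_mem_conjSub ht)
  exact c.false_of_normal_pgroup hs hS hS1 (eq_top_of_conjSub_eq_top key)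

theorem Cex.cent_z (c : Cex A B) {q : ℕ} (hq : q.Prime) (hqA : q ∣ Nat.card A) {z : G}
    (hz : z ∈ sp A q) (hz1 : z ≠ 1) (hzc : ∀ a ∈ A, a * z = z * a) :
    Subgroup.centralizer {z} = A := by
  have hAC : A ≤ Subgroup.centralizer {z} := by
    intro a ha
    rw [Subgroup.mem_centralizer_singleton_iff]
    exact hzc a ha
  have hcop : (Nat.card (Subgroup.centralizer {z})).Coprime (Nat.card B) := by
    apply Nat.coprime_of_dvd
    intro k hk hkC hkB
    have := Fact.mk hk
    obtain ⟨w, hw⟩ := exists_prime_orderOf_dvd_card' k hkC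
    have hw' : orderOf (w : G) = k := by rw [Subgroup.orderOf_coe]; exact hw
    have hS : IsPGroup k (Subgroup.zpowers (w : G)) := by
      apply IsPGroup.of_card (n := 1)
      rw [Nat.card_zpowers, hw', pow_one]
    have hS1 : Subgroup.zpowers (w : G) ≠ ⊥ := by
      intro h
      rw [Subgroup.zpowers_eq_bot] at h
      rw [h, orderOf_one] at hw'
      exact hk.one_lt.ne hw'
    have hzS : z ∈ Subgroup.normalizer (Subgroup.zpowers (w : G) : Set G) := by
      apply mem_normalizer_of_comm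
      intro x hx
      obtain ⟨n, rfl⟩ := Subgroup.mem_zpowers_iff.mp hx
      have hwz : (w : G) * z = z * (w : G) := Subgroup.mem_centralizer_singleton_iff.mp w.2
      exact ((Commute.zpow_right (show Commute z (w : G) from hwz.symm)) n).eq
    exact c.noinv hq hqA hk hkB hz hz1 hzc hS hS1 hzS
  have hdvd : Nat.card (Subgroup.centralizer {z}) ∣ Nat.card A := by
    apply Nat.Coprime.dvd_of_dvd_mul_right hcop
    rw [← c.card]
    exact Subgroup.card_subgroup_dvd_card _
  exact (Subgroup.eq_of_le_of_card_ge hAC (Nat.le_of_dvd Nat.card_pos hdvd)).symm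

theorem Cex.N1a (c : Cex A B) {q : ℕ} (hq : q.Prime) (hqA : q ∣ Nat.card A) {z : G}
    (hz : z ∈ sp A q) (hz1 : z ≠ 1) (hzc : ∀ a ∈ A, a * z = z * a) {g : G}
    (hg : g * z * g⁻¹ ∈ A) {r : ℕ} (hr : r.Prime) (hrq : r ≠ q) :
    conjSub g (sp A r) = sp A r := by
  have h1 : g * z * g⁻¹ ∈ sp A q := by
    obtain ⟨k, hk⟩ := exists_pow_of_mem_sp c.nilA hq hz
    apply mem_sp_of_pow hg k
    rw [conj_pow, hk]
    group
  have h2 : Subgroup.centralizer {g * z * g⁻¹} = conjSub g A := by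
    rw [centralizer_conj, c.cent_z hq hqA hz hz1 hzc]
  have h3 : sp A r ≤ conjSub g A := by
    intro x hx
    rw [← h2, Subgroup.mem_centralizer_singleton_iff]
    exact sp_comm c.nilA hr hq hrq hx h1
  have h4 : sp A r ≤ conjSub g (sp A r) := by
    rw [← sp_conj]
    exact le_sp h3 (sp_isPGroup c.nilA hr)
  exact (Subgroup.eq_of_le_of_card_ge h4 (card_conjSub g _).le).symm

theorem Cex.N1 (c : Cex A B) {q : ℕ} (hq : q.Prime) (hqA : q ∣ Nat.card A) {z : G}
    (hz : z ∈ sp A q) (hz1 : z ≠ 1) (hzc : ∀ a ∈ A, a * z = z * a) {g : G}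
    (hg : g * z * g⁻¹ ∈ A) : conjSub g A = A := by
  obtain ⟨q', hq', hne, hq'A⟩ := c.exists_other q
  obtain ⟨z₂, hz₂, hz₂o, hz₂c⟩ := exists_central c.nilA hq' hq'A
  have hz₂1 : z₂ ≠ 1 := by
    rintro rfl
    rw [orderOf_one] at hz₂o
    exact hq'.one_lt.ne hz₂o
  have h1 := c.N1a hq hqA hz hz1 hzc hg hq' hne
  have h2 : g * z₂ * g⁻¹ ∈ A := by
    apply sp_le A q'
    rw [← h1]
    exact conj_mem_conjSub hz₂
  have h3 : ∀ r : ℕ, r.Prime → conjSub g (sp A r) = sp A r := by
    intro r hr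
    by_cases hrq : r = q'
    · subst hrq; exact h1
    · exact c.N1a hq' hq'A hz₂ hz₂1 hz₂c h2 hr hrq
  have h4 : A ≤ conjSub g A := by
    apply sp_gen c.nilA
    intro r hr
    rw [← h3 r hr]
    exact conjSub_mono (sp_le A r)
  exact (Subgroup.eq_of_le_of_card_ge h4 (card_conjSub g _).le).symm

theorem Cex.N4 (c : Cex A B) {q : ℕ} (hq : q.Prime) (hqA : q ∣ Nat.card A) :
    Subgroup.normalizer (sp A q : Set G) ≤ Subgroup.normalizer (A : Set G) := by
  intro g hg
  obtain ⟨z, hz, hzo, hzc⟩ := exists_central c.nilA hq hqA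
  have hz1 : z ≠ 1 := by
    rintro rfl
    rw [orderOf_one] at hzo
    exact hq.one_lt.ne hzo
  have h1 : g * z * g⁻¹ ∈ sp A q := (Subgroup.mem_normalizer_iff.mp hg z).mp hz
  have h2 := c.N1 hq hqA hz hz1 hzc (sp_le A q h1)
  exact mem_normalizer_of_conjSub_le (le_of_eq h2)

end Cfsg.Agent.Lib.Helper18.KW
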