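import Mathlib
import Cfsg.Agent.Lib.Helper18.KW5
import Cfsg.Agent.S0581
import Cfsg.Agent.Lib.Helper1.Fitting
import Cfsg.Agent.Lib.Helper1.CFitting

set_option autoImplicit false

namespace Cfsg.Agent.Lib.Helper18.KW

open Cfsg.Agent.Lib.Helper18
open scoped Pointwise

variable {G : Type*} [Group G] [Finite G] {A B : Subgroup G}

theorem card_sup_dvd_of_le_normalizer (H K : Subgroup G)
    (h : H ≤ Subgroup.normalizer (K : Set G)) :
    Nat.card (H ⊔ K : Subgroup G) ∣ Nat.card H * Nat.card K := by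
  have h1 := Cfsg.Agent.Lib.Helper5.card_mul_relIndex_of_le (le_sup_left : H ≤ H ⊔ K)
  rw [relIndex_sup_of_le_normalizer H K h] at h1
  rw [← h1]
  exact Nat.mul_dvd_mul_left _ (Subgroup.relIndex_dvd_card H K)

theorem Cex.hall (c : Cex A B) : (Nat.card A).Coprime A.index := by
  rw [c.index]
  exact c.cop

/-- a solvable subgroup containing `z` normalizes `A`. -/
theorem Cex.ov (c : Cex A B) {q : ℕ} (hq : q.Prime) (hqA : q ∣ Nat.card A) {z : G}
    (hz : z ∈ sp A q) (hz1 : z ≠ 1) (hzc : ∀ a ∈ A, a * z = z * a) {X : Subgroup G}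
    (hX : Group.IsSolvable X) (hzX : z ∈ X) : X ≤ Subgroup.normalizer (A : Set G) := by
  have := hX
  obtain ⟨F, hFdef⟩ : ∃ F : Subgroup X, F = Cfsg.fittingSubgroup X := ⟨_, rfl⟩
  have hFn : F.Normal := by rw [hFdef]; exact Cfsg.Agent.Lib.Helper1.fittingSubgroup_normal
  have hFnil : Group.IsNilpotent F := by
    rw [hFdef]; exact Cfsg.Agent.Lib.Helper1.fittingSubgroup_nilpotent
  have hFc : Subgroup.centralizer (F : Set X) ≤ F := by
    rw [hFdef]; exact Cfsg.Agent.Lib.Helper1.centralizer_fittingSubgroup_le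
  obtain ⟨F', hF'def⟩ : ∃ F' : Subgroup G, F' = F.map X.subtype := ⟨_, rfl⟩
  have nilF' : Group.IsNilpotent F' := by
    rw [hF'def]
    exact Group.nilpotent_of_mulEquiv (F.equivMapOfInjective _ X.subtype_injective)
  have hF'X : F' ≤ X := by
    rw [hF'def]
    rintro _ ⟨x, _, rfl⟩
    exact x.2
  have hXn : X ≤ Subgroup.normalizer (F' : Set G) := by
    intro x hx
    apply mem_normalizer_of_conjSub_le
    rw [hF'def]
    rintro _ ⟨_, ⟨f, hf, rfl⟩, rfl⟩
    refine ⟨⟨x, hx⟩ * f * ⟨x, hx⟩⁻¹, hFn.conj_mem f hf _, ?_⟩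
    simp
  have hcop : (Nat.card F').Coprime (Nat.card B) := by
    apply Nat.coprime_of_dvd
    intro k hk hkF hkB
    exact c.noinv hq hqA hk hkB hz hz1 hzc (sp_isPGroup nilF' hk) (sp_ne_bot nilF' hk hkF)
      (normalizer_le_normalizer_sp F' k (hXn hzX))
  obtain ⟨K, hKdef⟩ : ∃ K : Subgroup G, K = Subgroup.zpowers z ⊔ F' := ⟨_, rfl⟩
  have hK : ∀ p : ℕ, p.Prime → p ∣ Nat.card K → p ∣ Nat.card A := by
    intro p hp hpK
    have h1 : Nat.card K ∣ Nat.card (Subgroup.zpowers z) * Nat.card F' := by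
      rw [hKdef]
      apply card_sup_dvd_of_le_normalizer
      rw [Subgroup.zpowers_le]
      exact hXn hzX
    rcases (Nat.Prime.dvd_mul hp).mp (hpK.trans h1) with h2 | h2
    · rw [Nat.card_zpowers] at h2
      obtain ⟨k, hk⟩ := exists_pow_of_mem_sp c.nilA hq hz
      have h3 : p ∣ q ^ k := h2.trans (orderOf_dvd_of_pow_eq_one hk)
      have h4 : p = q := (Nat.prime_dvd_prime_iff_eq hp hq).mp (hp.dvd_of_dvd_pow h3)
      rw [h4]
      exact hqA
    · have h3 : p ∣ Nat.card A * Nat.card B := by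
        rw [← c.card]
        exact h2.trans (Subgroup.card_subgroup_dvd_card _)
      rcases (Nat.Prime.dvd_mul hp).mp h3 with h4 | h4
      · exact h4
      · exfalso
        have := Nat.dvd_gcd h2 h4
        rw [hcop.gcd_eq_one] at this
        exact hp.one_lt.ne' (Nat.dvd_one.mp this)
  obtain ⟨x, hx⟩ := Cfsg.Agent.S0581.result A K c.nilA c.hall hK
  have hx' : K ≤ conjSub x A := hx
  have hzK : z ∈ K := by
    rw [hKdef]
    exact Subgroup.mem_sup_left (Subgroup.mem_zpowers z)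
  have h1 : x⁻¹ * z * x ∈ A := mem_conjSub.mp (hx' hzK)
  have h2 : conjSub x⁻¹ A = A := by
    apply c.N1 hq hqA hz hz1 hzc
    rw [inv_inv]
    exact h1
  have h3 : conjSub x A = A := by
    have := congrArg (conjSub x) h2
    rw [conjSub_mul, mul_inv_cancel, conjSub_one] at this
    exact this.symm
  rw [h3] at hx'
  have hF'A : F' ≤ A := by
    refine le_trans ?_ hx'
    rw [hKdef]
    exact le_sup_right
  have hzF' : z ∈ F' := by
    have h4 : (⟨z, hzX⟩ : X) ∈ Subgroup.centralizer (F : Set X) := by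
      rw [Subgroup.mem_centralizer_iff]
      intro f hf
      apply Subtype.ext
      have hfA : (f : G) ∈ A := hF'A (by rw [hF'def]; exact ⟨f, hf, rfl⟩)
      exact hzc _ hfA
    have h5 := hFc h4
    rw [hF'def]
    exact ⟨⟨z, hzX⟩, h5, rfl⟩
  intro g hg
  have h6 : g * z * g⁻¹ ∈ F' := (Subgroup.mem_normalizer_iff.mp (hXn hg) z).mp hzF'
  have h7 := c.N1 hq hqA hz hz1 hzc (hF'A h6)
  exact mem_normalizer_of_conjSub_le (le_of_eq h7)

theorem Cex.exists_prime (c : Cex A B) : ∃ q : ℕ, q.Prime ∧ q ∣ Nat.card A := by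
  obtain ⟨r, hr, -, hrA⟩ := c.exists_other 0
  exact ⟨r, hr, hrA⟩

theorem Cex.centralizer_ne_top (c : Cex A B) {a : G} (ha1 : a ≠ 1) :
    Subgroup.centralizer {a} ≠ ⊤ := by
  intro h
  have h1 : a ∈ Subgroup.center G := by
    rw [Subgroup.mem_center_iff]
    intro g
    have : g ∈ Subgroup.centralizer {a} := by rw [h]; trivial
    exact Subgroup.mem_centralizer_singleton_iff.mp this
  have h2 : Subgroup.center G ≠ ⊥ := by
    intro h3
    rw [h3, Subgroup.mem_bot] at h1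
    exact ha1 h1
  have h4 : Group.IsSolvable (Subgroup.center G) :=
    Group.isSolvable_of_comm (fun a b => Subtype.ext (Subgroup.mem_center_iff.mp b.2 a.1))
  exact c.false_of_normal h2 h4 (Subgroup.normalizer_eq_top_iff.mpr inferInstance)

/-- the centralizer of an element of `A` normalizing `B` is factorized. -/
theorem Cex.fz_centralizer (c : Cex A B) {a : G} (ha : a ∈ A)
    (haB : a ∈ Subgroup.normalizer (B : Set G)) : Fz (Subgroup.centralizer {a}) A B := by
  intro g hg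
  obtain ⟨α, hα, β, hβ, rfl⟩ := c.fz g
  have hg' : α * β * a = a * (α * β) := Subgroup.mem_centralizer_singleton_iff.mp hg
  have h1 : β * a * β⁻¹ * a⁻¹ ∈ B := by
    have h2 : a * β⁻¹ * a⁻¹ ∈ B := (Subgroup.mem_normalizer_iff.mp haB β⁻¹).mp (B.inv_mem hβ)
    have : β * a * β⁻¹ * a⁻¹ = β * (a * β⁻¹ * a⁻¹) := by group
    rw [this]
    exact B.mul_mem hβ h2
  have h2 : β * a * β⁻¹ * a⁻¹ ∈ A := by
    have : β * a * β⁻¹ = α⁻¹ * a * α := by
      calc β * a * β⁻¹ = α⁻¹ * (α * β * a) * β⁻¹ := by group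
        _ = α⁻¹ * (a * (α * β)) * β⁻¹ := by rw [hg']
        _ = α⁻¹ * a * α := by group
    rw [this]
    exact A.mul_mem (A.mul_mem (A.mul_mem (A.inv_mem hα) ha) hα) (A.inv_mem ha)
  have h3 : β * a * β⁻¹ * a⁻¹ ∈ A ⊓ B := ⟨h2, h1⟩
  rw [c.inf, Subgroup.mem_bot] at h3
  have hβC : β * a = a * β := by
    have : β * a = (β * a * β⁻¹ * a⁻¹) * (a * β) := by group
    rw [this, h3, one_mul]
  have hαC : α * a = a * α := by
    calc α * a = α * (a * β) * β⁻¹ := by group
      _ = α * (β * a) * β⁻¹ := by rw [hβC]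
      _ = (α * β * a) * β⁻¹ := by group
      _ = (a * (α * β)) * β⁻¹ := by rw [hg']
      _ = a * α := by group
  exact ⟨α, ⟨Subgroup.mem_centralizer_singleton_iff.mpr hαC, hα⟩, β,
    ⟨Subgroup.mem_centralizer_singleton_iff.mpr hβC, hβ⟩, rfl⟩

theorem Cex.Sp (c : Cex A B) {a : G} (ha : a ∈ A) (ha1 : a ≠ 1)
    (haB : a ∈ Subgroup.normalizer (B : Set G)) :
    Subgroup.centralizer {a} ≤ Subgroup.normalizer (A : Set G) := by
  obtain ⟨q, hq, hqA⟩ := c.exists_prime
  obtain ⟨z, hz, hzo, hzc⟩ := exists_central c.nilA hq hqA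
  have hz1 : z ≠ 1 := by
    rintro rfl
    rw [orderOf_one] at hzo
    exact hq.one_lt.ne hzo
  have hsol := c.ih _ (c.centralizer_ne_top ha1) (c.fz_centralizer ha haB)
  apply c.ov hq hqA hz hz1 hzc hsol
  rw [Subgroup.mem_centralizer_singleton_iff]
  exact (hzc a ha).symm

end Cfsg.Agent.Lib.Helper18.KW
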