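import Mathlib
import Cfsg.Agent.Lib.Helper18.KW1
import Cfsg.Agent.S0078
import Cfsg.Agent.S0577
import Cfsg.Agent.Lib.Helper1.Residual
import Cfsg.Agent.Lib.Helper1.Fitting

set_option autoImplicit false

namespace Cfsg.Agent.Lib.Helper18.KW

open Cfsg.Agent.Lib.Helper18
open scoped Pointwise

variable {C : Type*} [Group C] [Finite C]

/-- a `q`-nilpotency criterion obtained from the second theorem of Grün. -/
theorem qnilp {q : ℕ} [Fact q.Prime] (P : Sylow q C) (V : Subgroup C)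
    (nilV : Group.IsNilpotent V) (hPV : (P : Subgroup C) ≤ V) {z : C}
    (hzP : z ∈ (P : Subgroup C)) (hzc : ∀ x ∈ (P : Subgroup C), x * z = z * x)
    (hctl : ∀ c : C, c⁻¹ * z * c ∈ (P : Subgroup C) → c ∈ V) :
    (P : Subgroup C) ⊓ Cfsg.pResidual q C = ⊥ := by
  have hq : q.Prime := Fact.out
  have hPsyl : IsSylowIn q (P : Subgroup C) V := (isSylowIn_top_of_sylow P).of_le hPV le_top
  have hsp : IsSylowIn q (sp V q) V := sp_isSylowIn nilV hq
  have hPle : (P : Subgroup C) ≤ sp V q := le_sp hPV P.isPGroup'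
  have hPeq : sp V q = P := hPsyl.eq_of_le hsp.le hsp.isPGroup hPle
  have hVn : V ≤ Subgroup.normalizer ((P : Subgroup C) : Set C) := by
    rw [← hPeq]
    exact sp_le_normalizer V q
  have hzZ : z ∈ (P : Subgroup C) ⊓ Subgroup.centralizer ((P : Subgroup C) : Set C) :=
    ⟨hzP, Subgroup.mem_centralizer_iff.mpr (fun x hx => hzc x hx)⟩
  have hn : ∀ Q : Sylow q C,
      (P : Subgroup C) ⊓ Subgroup.centralizer ((P : Subgroup C) : Set C) ≤ (Q : Subgroup C) →
      (Q : Subgroup C) ⊓ Subgroup.centralizer ((Q : Subgroup C) : Set C) =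
        (P : Subgroup C) ⊓ Subgroup.centralizer ((P : Subgroup C) : Set C) := by
    intro Q hZQ
    obtain ⟨c, hc⟩ := MulAction.exists_smul_eq C P Q
    have h1 : z ∈ (c • P : Sylow q C) := by
      rw [hc]
      exact hZQ hzZ
    rw [mem_smul_sylow_iff] at h1
    have hcV := hctl c h1
    have h2 : c • P = P := Sylow.smul_eq_iff_mem_normalizer.mpr (hVn hcV)
    rw [← hc, h2]
  have hV' : Subgroup.normalizer
      (((P : Subgroup C) ⊓ Subgroup.centralizer ((P : Subgroup C) : Set C) : Subgroup C) : Set C)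
      ≤ V := by
    intro c hc
    apply hctl
    have hc' := Subgroup.inv_mem _ hc
    have h1 := (Subgroup.mem_normalizer_iff.mp hc' z).mp hzZ
    rw [inv_inv] at h1
    exact h1.1
  have key := Cfsg.Agent.S0078.result P hn V hV'
  rw [key, eq_bot_iff]
  rintro x ⟨hxP, ⟨v, hv, rfl⟩⟩
  have := nilV
  have h1 : Cfsg.pResidual q V ≤ Cfsg.pPrimeCore q V := by
    unfold Cfsg.pResidual
    rw [Subgroup.closure_le]
    intro g hg
    have h2 : Subgroup.zpowers g ≤ Cfsg.pPrimeCore q V :=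
      Cfsg.Agent.S0577.le_pPrimeCore_of_coprime_of_nilpotent (Subgroup.zpowers g)
        (by rw [Nat.card_zpowers]; exact hg)
    exact h2 (Subgroup.mem_zpowers g)
  have h2 := Cfsg.Agent.Lib.Helper1.pPrimeCore_card_coprime (G := V) q
  have h3 : orderOf v ∣ Nat.card (Cfsg.pPrimeCore q V) :=
    Subgroup.orderOf_dvd_natCard _ (h1 hv)
  obtain ⟨k, hk⟩ := (IsPGroup.iff_orderOf.mp P.isPGroup') ⟨(v : C), hxP⟩
  have hk2 : orderOf (v : C) = q ^ k := by
    rw [← hk]
    exact (Subgroup.orderOf_coe (⟨(v : C), hxP⟩ : (P : Subgroup C)))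
  have hk' : orderOf v = q ^ k := by rw [← Subgroup.orderOf_coe, hk2]
  rw [hk'] at h3
  have h4 : q ^ k = 1 :=
    Nat.Coprime.eq_one_of_dvd (Nat.Coprime.pow_left k h2.symm) h3
  rw [h4] at hk'
  rw [orderOf_eq_one_iff] at hk'
  rw [Subgroup.mem_bot, hk']
  rfl

theorem qnilp_core {q : ℕ} [Fact q.Prime] (P : Sylow q C) (V : Subgroup C)
    (nilV : Group.IsNilpotent V) (hPV : (P : Subgroup C) ≤ V) {z : C}
    (hzP : z ∈ (P : Subgroup C)) (hzc : ∀ x ∈ (P : Subgroup C), x * z = z * x)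
    (hctl : ∀ c : C, c⁻¹ * z * c ∈ (P : Subgroup C) → c ∈ V) :
    ∃ K : Subgroup C, K.Normal ∧ ¬ q ∣ Nat.card K ∧
      ∀ w : C, (orderOf w).Coprime q → w ∈ K := by
  have hKn : (Cfsg.pResidual q C).Normal := Cfsg.Agent.Lib.Helper1.pResidual_normal q
  refine ⟨Cfsg.pResidual q C, hKn, ?_, fun w hw => Subgroup.subset_closure hw⟩
  have h1 : IsSylowIn q ((P : Subgroup C) ⊓ Cfsg.pResidual q C) (Cfsg.pResidual q C) :=
    (isSylowIn_top_of_sylow P).inf_of_normal le_top
      (le_of_eq (Subgroup.normalizer_eq_top_iff.mpr hKn).symm)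
  rw [qnilp P V nilV hPV hzP hzc hctl] at h1
  have h2 := h1.not_dvd
  rw [Subgroup.relIndex_bot_left] at h2
  exact h2

end Cfsg.Agent.Lib.Helper18.KW
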