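import Mathlib
import Cfsg.Agent.Lib.Helper18.KW6
import Cfsg.Agent.Lib.Helper18.KW7
import Cfsg.Agent.Lib.Helper5.InvSylow

set_option autoImplicit false

namespace Cfsg.Agent.Lib.Helper18.KW

open Cfsg.Agent.Lib.Helper18
open scoped Pointwise

variable {G : Type*} [Group G] [Finite G] {A B : Subgroup G}

theorem ne_one_of_orderOf_prime {p : ℕ} (hp : p.Prime) {x : G} (h : orderOf x = p) : x ≠ 1 := by
  rintro rfl
  rw [orderOf_one] at h
  exact hp.one_lt.ne h

theorem conjSub_inv_eq {g : G} {H : Subgroup G} (h : conjSub g⁻¹ H = H) : conjSub g H = H := by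
  have := congrArg (conjSub g) h
  rw [conjSub_mul, mul_inv_cancel, conjSub_one] at this
  exact this.symm

/-- a subgroup containing `z` all of whose prime divisors divide `|A|` lies in `A`. -/
theorem Cex.pi_le (c : Cex A B) {q : ℕ} (hq : q.Prime) (hqA : q ∣ Nat.card A) {z : G}
    (hz : z ∈ sp A q) (hz1 : z ≠ 1) (hzc : ∀ a ∈ A, a * z = z * a) {K : Subgroup G}
    (hK : ∀ p : ℕ, p.Prime → p ∣ Nat.card K → p ∣ Nat.card A) (hzK : z ∈ K) : K ≤ A := by
  obtain ⟨x, hx⟩ := Cfsg.Agent.S0581.result A K c.nilA c.hall hK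
  have hx' : K ≤ conjSub x A := hx
  have h1 : x⁻¹ * z * x ∈ A := mem_conjSub.mp (hx' hzK)
  have h2 : conjSub x⁻¹ A = A := by
    apply c.N1 hq hqA hz hz1 hzc
    rw [inv_inv]
    exact h1
  rw [conjSub_inv_eq h2] at hx'
  exact hx'

theorem pi_of_coprime (c : Cex A B) {K : Subgroup G}
    (h : (Nat.card K).Coprime (Nat.card B)) :
    ∀ p : ℕ, p.Prime → p ∣ Nat.card K → p ∣ Nat.card A := by
  intro p hp hpK
  have h3 : p ∣ Nat.card A * Nat.card B := by
    rw [← c.card]
    exact hpK.trans (Subgroup.card_subgroup_dvd_card _)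
  rcases (Nat.Prime.dvd_mul hp).mp h3 with h4 | h4
  · exact h4
  · exfalso
    have := Nat.dvd_gcd hpK h4
    rw [h.gcd_eq_one] at this
    exact hp.one_lt.ne' (Nat.dvd_one.mp this)

theorem nilpotent_subgroupOf {H : Subgroup G} (nil : Group.IsNilpotent H) (C : Subgroup G) :
    Group.IsNilpotent (H.subgroupOf C) := by
  have := nil
  let f : (H.subgroupOf C) →* H :=
    { toFun := fun v => ⟨((v : C) : G), Subgroup.mem_subgroupOf.mp v.2⟩
      map_one' := rfl
      map_mul' := fun _ _ => rfl }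
  apply Subgroup.isNilpotent_of_ker_le_center f
  have hf : Function.Injective f := by
    intro v w hvw
    apply Subtype.ext
    apply Subtype.ext
    exact congrArg (fun t : H => (t : G)) hvw
  rw [(MonoidHom.ker_eq_bot_iff f).mpr hf]
  exact bot_le

theorem fz_of_le {A B L : Subgroup G} (fz : ∀ g : G, ∃ a ∈ A, ∃ b ∈ B, g = a * b)
    (hAL : A ≤ L) : Fz L A B := by
  intro g hg
  obtain ⟨a, ha, b, hb, rfl⟩ := fz g
  have hbL : b ∈ L := by
    have : b = a⁻¹ * (a * b) := by group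
    rw [this]
    exact L.mul_mem (L.inv_mem (hAL ha)) hg
  exact ⟨a, ⟨hAL ha, ha⟩, b, ⟨hbL, hb⟩, rfl⟩

theorem Cex.Ge (c : Cex A B) {p : ℕ} (hp : p.Prime) {x : G} (hxA : x ∈ A) (hxo : orderOf x = p)
    (hCN : Subgroup.centralizer {x} ⊓ Subgroup.normalizer (A : Set G) ≤ A) :
    Subgroup.centralizer {x} ≤ A := by
  obtain ⟨q, hq, hqp, hqA⟩ := c.exists_other p
  obtain ⟨z, hz, hzo, hzc⟩ := exists_central c.nilA hq hqA
  have hz1 : z ≠ 1 := ne_one_of_orderOf_prime hq hzo
  have := Fact.mk hq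
  have hxp : x ∈ sp A p := by
    apply mem_sp_of_pow hxA 1
    rw [pow_one, ← hxo]
    exact pow_orderOf_eq_one x
  obtain ⟨C, hCdef⟩ : ∃ C, C = Subgroup.centralizer {x} := ⟨_, rfl⟩
  rw [← hCdef] at hCN ⊢
  have hPC : sp A q ≤ C := by
    intro t ht
    rw [hCdef, Subgroup.mem_centralizer_singleton_iff]
    exact sp_comm c.nilA hq hp hqp ht hxp
  have hzC : z ∈ C := hPC hz
  have hPsylC : IsSylowIn q (sp A q) C := (c.sylA hq (c.not_dvd_B hq hqA)).of_le hPC le_top
  obtain ⟨P, hP⟩ := hPsylC.exists_sylow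
  have hmemP : ∀ t : C, t ∈ (P : Subgroup C) ↔ (t : G) ∈ sp A q := by
    intro t
    rw [hP, Subgroup.mem_subgroupOf]
  obtain ⟨K, hKn, hKq, hKall⟩ := qnilp_core P (A.subgroupOf C) (nilpotent_subgroupOf c.nilA C)
    (by
      intro t ht
      rw [Subgroup.mem_subgroupOf]
      exact sp_le A q ((hmemP t).mp ht))
    (z := ⟨z, hzC⟩) ((hmemP _).mpr hz)
    (by
      intro t ht
      apply Subtype.ext
      exact hzc _ (sp_le A q ((hmemP t).mp ht)))
    (by
      intro t ht
      rw [Subgroup.mem_subgroupOf]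
      have h1 : (t : G)⁻¹ * z * (t : G) ∈ sp A q := (hmemP _).mp ht
      have h2 : conjSub (t : G)⁻¹ A = A := by
        apply c.N1 hq hqA hz hz1 hzc
        rw [inv_inv]
        exact sp_le A q h1
      have h3 : (t : G) ∈ Subgroup.normalizer (A : Set G) :=
        mem_normalizer_of_conjSub_le (le_of_eq (conjSub_inv_eq h2))
      exact hCN ⟨t.2, h3⟩)
  have hcop : (Nat.card C).Coprime (Nat.card B) := by
    apply Nat.coprime_of_dvd
    intro s hs hsC hsB
    have := Fact.mk hs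
    have hsq : s ≠ q := by
      rintro rfl
      exact c.not_dvd_B hs hqA hsB
    obtain ⟨w, hw⟩ := exists_prime_orderOf_dvd_card' s hsC
    have hwK : w ∈ K := hKall w (by rw [hw]; exact (Nat.coprime_primes hs hq).mpr hsq)
    have hsK : s ∣ Nat.card K := by
      rw [← hw]
      exact Subgroup.orderOf_dvd_natCard K hwK
    obtain ⟨K', hK'def⟩ : ∃ K' : Subgroup G, K' = K.map C.subtype := ⟨_, rfl⟩
    have hK'card : Nat.card K' = Nat.card K := by
      rw [hK'def]
      exact Nat.card_congr (K.equivMapOfInjective _ C.subtype_injective).toEquiv.symm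
    have hAR : sp A q ≤ Subgroup.normalizer (K' : Set G) := by
      intro t ht
      apply mem_normalizer_of_conjSub_le
      rw [hK'def]
      rintro _ ⟨_, ⟨k, hk, rfl⟩, rfl⟩
      refine ⟨⟨t, hPC ht⟩ * k * ⟨t, hPC ht⟩⁻¹, hKn.conj_mem k hk _, ?_⟩
      simp
    have hcop' : (Nat.card (sp A q)).Coprime (Nat.card K') := by
      obtain ⟨n, hn⟩ := (sp_isPGroup c.nilA hq).exists_card_eq
      rw [hn, hK'card]
      exact Nat.Coprime.pow_left n ((Nat.Prime.coprime_iff_not_dvd hq).mpr hKq)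
    have hsolv : Group.IsSolvable (sp A q) := by
      have := (sp_isPGroup c.nilA hq).isNilpotent
      infer_instance
    obtain ⟨Q, -, hQs, hQn, hQcard⟩ :=
      Cfsg.Agent.Lib.Helper5.exists_invariant_sylow_sub (sp A q) K' hAR hcop' hsolv s
    have hQ1 : Q ≠ ⊥ := by
      intro h
      rw [h, Subgroup.card_bot, hK'card] at hQcard
      have h2 : 0 < (Nat.card K).factorization s :=
        hs.factorization_pos_of_dvd Nat.card_pos.ne' hsK
      have h3 : 1 < s ^ (Nat.card K).factorization s := Nat.one_lt_pow h2.ne' hs.one_lt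
      omega
    exact c.noinv hq hqA hs hsB hz hz1 hzc hQs hQ1 (hQn hz)
  exact c.pi_le hq hqA hz hz1 hzc (pi_of_coprime c hcop) hzC

theorem Cex.TIpre (c : Cex A B) {p : ℕ} (hp : p.Prime) {x : G} (hxA : x ∈ A)
    (hxo : orderOf x = p) :
    Subgroup.centralizer {x} ≤ Subgroup.normalizer (A : Set G) := by
  by_cases hCN : Subgroup.centralizer {x} ⊓ Subgroup.normalizer (A : Set G) ≤ A
  · exact (c.Ge hp hxA hxo hCN).trans Subgroup.le_normalizer
  · rw [SetLike.not_le_iff_exists] at hCN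
    obtain ⟨n, ⟨hnC, hnN⟩, hnA⟩ := hCN
    have hx1 : x ≠ 1 := ne_one_of_orderOf_prime hp hxo
    -- a prime divisor of the order of `n` dividing `|B|`
    have hex : ∃ s : ℕ, s.Prime ∧ s ∣ orderOf n ∧ s ∣ Nat.card B := by
      by_contra hcon
      push Not at hcon
      have hcop : (orderOf n).Coprime (Nat.card B) :=
        Nat.coprime_of_dvd (fun k hk h1 h2 => hcon k hk h1 h2)
      have hm : (A.relIndex (Subgroup.normalizer (A : Set G))) ∣ Nat.card B := by
        rw [← c.index]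
        exact Subgroup.relIndex_dvd_index_of_le Subgroup.le_normalizer
      have hcop2 : (orderOf n).Coprime (A.relIndex (Subgroup.normalizer (A : Set G))) :=
        Nat.Coprime.coprime_dvd_right hm hcop
      have h1 : n ^ (A.relIndex (Subgroup.normalizer (A : Set G))) ∈ A := by
        have h2 := Subgroup.pow_index_mem (A.subgroupOf (Subgroup.normalizer (A : Set G)))
          (⟨n, hnN⟩ : Subgroup.normalizer (A : Set G))
        rw [Subgroup.mem_subgroupOf] at h2
        exact h2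
      have h3 : Subgroup.zpowers (n ^ (A.relIndex (Subgroup.normalizer (A : Set G)))) ≤
          Subgroup.zpowers n :=
        Subgroup.zpowers_le.mpr (pow_mem (Subgroup.mem_zpowers n) _)
      have h4 := Subgroup.eq_of_le_of_card_ge h3 (by
        rw [Nat.card_zpowers, Nat.card_zpowers, Nat.Coprime.orderOf_pow hcop2])
      have h5 : n ∈ Subgroup.zpowers (n ^ (A.relIndex (Subgroup.normalizer (A : Set G)))) := by
        rw [h4]
        exact Subgroup.mem_zpowers n
      exact hnA ((Subgroup.zpowers_le.mpr h1) h5)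
    obtain ⟨s, hs, hsn, hsB⟩ := hex
    have := Fact.mk hs
    obtain ⟨w, hwdef⟩ : ∃ w, w = n ^ (orderOf n / s) := ⟨_, rfl⟩
    have hwo : orderOf w = s := by
      rw [hwdef]
      exact orderOf_pow_orderOf_div (orderOf_pos n).ne' hsn
    have hwC : w ∈ Subgroup.centralizer {x} := by rw [hwdef]; exact pow_mem hnC _
    have hwN : w ∈ Subgroup.normalizer (A : Set G) := by rw [hwdef]; exact pow_mem hnN _
    have hw1 : w ≠ 1 := ne_one_of_orderOf_prime hs hwo
    have fzN : Fz (Subgroup.normalizer (A : Set G)) A B := fz_of_le c.fz Subgroup.le_normalizer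
    have hsyl := fzN.sylow_right c.inf c.nilB hs (c.symm.not_dvd_B hs hsB)
    have hWp : IsPGroup s (Subgroup.zpowers w) := by
      apply IsPGroup.of_card (n := 1)
      rw [Nat.card_zpowers, hwo, pow_one]
    obtain ⟨n₁, hn₁, hle⟩ := hsyl.exists_conj_le (Subgroup.zpowers_le.mpr hwN) hWp
    have hb₁ : n₁ * w * n₁⁻¹ ∈ Subgroup.normalizer (A : Set G) ⊓ B :=
      sp_le _ s (hle (conj_mem_conjSub (Subgroup.mem_zpowers w)))
    have hx₁A : n₁ * x * n₁⁻¹ ∈ A := (Subgroup.mem_normalizer_iff.mp hn₁ x).mp hxA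
    have hb₁1 : n₁ * w * n₁⁻¹ ≠ 1 := by
      intro h
      apply hw1
      have : w = n₁⁻¹ * (n₁ * w * n₁⁻¹) * n₁ := by group
      rw [this, h]
      group
    have hx₁1 : n₁ * x * n₁⁻¹ ≠ 1 := by
      intro h
      apply hx1
      have : x = n₁⁻¹ * (n₁ * x * n₁⁻¹) * n₁ := by group
      rw [this, h]
      group
    have hcomm : (n₁ * x * n₁⁻¹) * (n₁ * w * n₁⁻¹) = (n₁ * w * n₁⁻¹) * (n₁ * x * n₁⁻¹) := by
      have hwx : w * x = x * w := Subgroup.mem_centralizer_singleton_iff.mp hwC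
      calc (n₁ * x * n₁⁻¹) * (n₁ * w * n₁⁻¹) = n₁ * (x * w) * n₁⁻¹ := by group
        _ = n₁ * (w * x) * n₁⁻¹ := by rw [hwx]
        _ = (n₁ * w * n₁⁻¹) * (n₁ * x * n₁⁻¹) := by group
    have h1 : n₁ * x * n₁⁻¹ ∈ Subgroup.normalizer (B : Set G) := by
      apply c.symm.Sp hb₁.2 hb₁1 hb₁.1
      rw [Subgroup.mem_centralizer_singleton_iff]
      exact hcomm
    have h2 := c.Sp hx₁A hx₁1 h1
    intro g hg
    have h3 : n₁ * g * n₁⁻¹ ∈ Subgroup.centralizer {n₁ * x * n₁⁻¹} := by
      rw [mem_centralizer_conj]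
      have : n₁⁻¹ * (n₁ * g * n₁⁻¹) * n₁ = g := by group
      rw [this]
      exact hg
    have h4 := h2 h3
    have : g = n₁⁻¹ * (n₁ * g * n₁⁻¹) * n₁ := by group
    rw [this]
    exact Subgroup.mul_mem _ (Subgroup.mul_mem _ (Subgroup.inv_mem _ hn₁) h4) hn₁

/-- `A` is a trivial intersection subgroup with respect to its normalizer. -/
theorem Cex.TI (c : Cex A B) {x : G} (hxA : x ∈ A) (hx1 : x ≠ 1) {g : G}
    (hg : g * x * g⁻¹ ∈ A) : g ∈ Subgroup.normalizer (A : Set G) := by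
  have ho : orderOf x ≠ 1 := fun h => hx1 (orderOf_eq_one_iff.mp h)
  obtain ⟨p, hp, hpx⟩ := Nat.exists_prime_and_dvd ho
  obtain ⟨y, hydef⟩ : ∃ y, y = x ^ (orderOf x / p) := ⟨_, rfl⟩
  have hyo : orderOf y = p := by
    rw [hydef]
    exact orderOf_pow_orderOf_div (orderOf_pos x).ne' hpx
  have hyA : y ∈ A := by rw [hydef]; exact pow_mem hxA _
  have hy'A : g * y * g⁻¹ ∈ A := by
    rw [hydef, ← conj_pow]
    exact pow_mem hg _
  have hy'o : orderOf (g * y * g⁻¹) = p := by
    have := (MulAut.conj g).orderOf_eq y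
    rw [MulAut.conj_apply] at this
    rw [this, hyo]
  obtain ⟨q, hq, hqp, hqA⟩ := c.exists_other p
  have := Fact.mk hq
  have hy'p : g * y * g⁻¹ ∈ sp A p := by
    apply mem_sp_of_pow hy'A 1
    rw [pow_one, ← hy'o]
    exact pow_orderOf_eq_one _
  have hyp : y ∈ sp A p := by
    apply mem_sp_of_pow hyA 1
    rw [pow_one, ← hyo]
    exact pow_orderOf_eq_one _
  have h1 : sp A q ≤ Subgroup.centralizer {g * y * g⁻¹} := by
    intro t ht
    rw [Subgroup.mem_centralizer_singleton_iff]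
    exact sp_comm c.nilA hq hp hqp ht hy'p
  have h2 : conjSub g (sp A q) ≤ Subgroup.centralizer {g * y * g⁻¹} := by
    rw [centralizer_conj]
    apply conjSub_mono
    intro t ht
    rw [Subgroup.mem_centralizer_singleton_iff]
    exact sp_comm c.nilA hq hp hqp ht hyp
  have hsyl : IsSylowIn q (sp A q) (Subgroup.centralizer {g * y * g⁻¹}) :=
    (c.sylA hq (c.not_dvd_B hq hqA)).of_le h1 le_top
  obtain ⟨t, ht, hle⟩ := hsyl.exists_conj_le h2 (conjSub_isPGroup (sp_isPGroup c.nilA hq))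
  rw [conjSub_mul] at hle
  have h3 : t * g ∈ Subgroup.normalizer (A : Set G) :=
    c.N4 hq hqA (mem_normalizer_of_conjSub_le hle)
  have h4 : t ∈ Subgroup.normalizer (A : Set G) := c.TIpre hp hy'A hy'o ht
  have : g = t⁻¹ * (t * g) := by group
  rw [this]
  exact Subgroup.mul_mem _ (Subgroup.inv_mem _ h4) h3

end Cfsg.Agent.Lib.Helper18.KW
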