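import Mathlib
import Cfsg.Agent.Lib.Helper18.KW8

set_option autoImplicit false

namespace Cfsg.Agent.Lib.Helper18.KW

open Cfsg.Agent.Lib.Helper18
open scoped Pointwise

variable {G : Type*} [Group G] [Finite G] {A B : Subgroup G}

theorem conj_out_inj {T : Type*} (M : Subgroup G) (e : T → G) (he : Function.Injective e)
    (hctl : ∀ t t' : T, ∀ u : G, u * e t * u⁻¹ = e t' → u ∈ M) :
    Function.Injective (fun p : (G ⧸ M) × T =>
      (Quotient.out p.1 : G) * e p.2 * (Quotient.out p.1 : G)⁻¹) := by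
  rintro ⟨c, t⟩ ⟨c', t'⟩ h
  simp only at h
  have hu : (Quotient.out c' : G)⁻¹ * (Quotient.out c : G) ∈ M := by
    apply hctl t t'
    calc (Quotient.out c' : G)⁻¹ * (Quotient.out c : G) * e t *
          ((Quotient.out c' : G)⁻¹ * (Quotient.out c : G))⁻¹
        = (Quotient.out c' : G)⁻¹ * ((Quotient.out c : G) * e t * (Quotient.out c : G)⁻¹) *
          (Quotient.out c' : G) := by group
      _ = (Quotient.out c' : G)⁻¹ * ((Quotient.out c' : G) * e t' * (Quotient.out c' : G)⁻¹) *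
          (Quotient.out c' : G) := by rw [h]
      _ = e t' := by group
  have hc : c' = c := by
    rw [← QuotientGroup.out_eq' c, ← QuotientGroup.out_eq' c', QuotientGroup.eq]
    exact hu
  subst hc
  have h2 : e t = e t' := mul_left_cancel (mul_right_cancel h)
  rw [he h2]

theorem pow_card_of_mem {H : Subgroup G} {x : G} (h : x ∈ H) : x ^ Nat.card H = 1 := by
  have h2 : ((⟨x, h⟩ : H) ^ Nat.card H : H) = 1 := pow_card_eq_one'
  have h3 := congrArg Subtype.val h2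
  rw [Subgroup.coe_pow] at h3
  exact h3

theorem eq_one_of_pow_pow {m n : ℕ} (hcop : m.Coprime n) {g : G} (h1 : g ^ m = 1)
    (h2 : g ^ n = 1) : g = 1 := by
  have h3 := Nat.dvd_gcd (orderOf_dvd_of_pow_eq_one h1) (orderOf_dvd_of_pow_eq_one h2)
  rw [hcop.gcd_eq_one, Nat.dvd_one] at h3
  exact orderOf_eq_one_iff.mp h3

theorem card_diff_one (H : Subgroup G) :
    Nat.card ↥((H : Set G) \ {1}) + 1 = Nat.card H := by
  rw [Nat.card_coe_set_eq, Set.ncard_sdiff_singleton_add_one (Subgroup.one_mem H)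
    (Set.toFinite _), ← Nat.card_coe_set_eq]
  rfl

theorem Cex.A_ne_bot (c : Cex A B) : A ≠ ⊥ := by
  obtain ⟨q, hq, hqA⟩ := c.exists_prime
  intro h
  rw [h, Subgroup.card_bot] at hqA
  exact hq.one_lt.ne' (Nat.dvd_one.mp hqA)

theorem Cex.normalizer_ne_top (c : Cex A B) : Subgroup.normalizer (A : Set G) ≠ ⊤ := by
  intro h
  have := c.nilA
  exact c.false_of_normal c.A_ne_bot inferInstance h

/-- the counting argument. -/
theorem Cex.count_false (c : Cex A B) : False := by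
  obtain ⟨N, hNdef⟩ : ∃ N, N = Subgroup.normalizer (A : Set G) := ⟨_, rfl⟩
  obtain ⟨N', hN'def⟩ : ∃ N', N' = Subgroup.normalizer (B : Set G) := ⟨_, rfl⟩
  obtain ⟨m, hm⟩ : ∃ m, m = Nat.card A := ⟨_, rfl⟩
  obtain ⟨n, hn⟩ : ∃ n, n = Nat.card B := ⟨_, rfl⟩
  have hcop : m.Coprime n := by rw [hm, hn]; exact c.cop
  have hAN : A ≤ N := by rw [hNdef]; exact Subgroup.le_normalizer
  have hBN' : B ≤ N' := by rw [hN'def]; exact Subgroup.le_normalizer
  have hTIA : ∀ x ∈ A, x ≠ 1 → ∀ g : G, g * x * g⁻¹ ∈ A → g ∈ N := by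
    intro x hx hx1 g hg
    rw [hNdef]
    exact c.TI hx hx1 hg
  have hTIB : ∀ x ∈ B, x ≠ 1 → ∀ g : G, g * x * g⁻¹ ∈ B → g ∈ N' := by
    intro x hx hx1 g hg
    rw [hN'def]
    exact c.symm.TI hx hx1 hg
  have hAm : ∀ a ∈ A, a ^ m = 1 := fun a ha => by rw [hm]; exact pow_card_of_mem ha
  have hBn : ∀ b ∈ B, b ^ n = 1 := fun b hb => by rw [hn]; exact pow_card_of_mem hb
  have hAn : ∀ a ∈ A, a ≠ 1 → a ^ n ≠ 1 := fun a ha ha1 h =>
    ha1 (eq_one_of_pow_pow hcop (hAm a ha) h)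
  have hBm : ∀ b ∈ B, b ≠ 1 → b ^ m ≠ 1 := fun b hb hb1 h =>
    hb1 (eq_one_of_pow_pow hcop h (hBn b hb))
  have hcomm : ∀ a ∈ N' ⊓ A, ∀ b ∈ N ⊓ B, a * b = b * a := by
    intro a ha b hb
    have h1 : a * b * a⁻¹ * b⁻¹ ∈ A := by
      have hbN : b ∈ Subgroup.normalizer (A : Set G) := by rw [← hNdef]; exact hb.1
      have h2 : b * a⁻¹ * b⁻¹ ∈ A := (Subgroup.mem_normalizer_iff.mp hbN a⁻¹).mp (A.inv_mem ha.2)
      have : a * b * a⁻¹ * b⁻¹ = a * (b * a⁻¹ * b⁻¹) := by group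
      rw [this]
      exact A.mul_mem ha.2 h2
    have h2 : a * b * a⁻¹ * b⁻¹ ∈ B := by
      have haN : a ∈ Subgroup.normalizer (B : Set G) := by rw [← hN'def]; exact ha.1
      have h3 : a * b * a⁻¹ ∈ B := (Subgroup.mem_normalizer_iff.mp haN b).mp hb.2
      exact B.mul_mem h3 (B.inv_mem hb.2)
    have h3 : a * b * a⁻¹ * b⁻¹ ∈ A ⊓ B := ⟨h1, h2⟩
    rw [c.inf, Subgroup.mem_bot] at h3
    have : a * b = (a * b * a⁻¹ * b⁻¹) * (b * a) := by group
    rw [this, h3, one_mul]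
  -- the three conjugation maps
  have hfA := conj_out_inj (T := ↥((A : Set G) \ {1})) N (fun t => (t : G)) Subtype.val_injective
    (by
      intro t t' u h
      apply hTIA _ t.2.1 t.2.2
      rw [h]
      exact t'.2.1)
  have hfB := conj_out_inj (T := ↥((B : Set G) \ {1})) N' (fun t => (t : G))
    Subtype.val_injective
    (by
      intro t t' u h
      apply hTIB _ t.2.1 t.2.2
      rw [h]
      exact t'.2.1)
  have hfD := conj_out_inj
    (T := ↥(((N' ⊓ A : Subgroup G) : Set G) \ {1}) × ↥(((N ⊓ B : Subgroup G) : Set G) \ {1}))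
    (N ⊓ N') (fun t => (t.1 : G) * (t.2 : G))
    (by
      rintro ⟨⟨a, ha, ha1⟩, ⟨b, hb, hb1⟩⟩ ⟨⟨a', ha', ha'1⟩, ⟨b', hb', hb'1⟩⟩ h
      simp only at h
      obtain ⟨h1, h2⟩ := eq_of_mul_eq c.inf ha.2 ha'.2 hb.2 hb'.2 h
      subst h1
      subst h2
      rfl)
    (by
      rintro ⟨⟨a, ha, ha1⟩, ⟨b, hb, hb1⟩⟩ ⟨⟨a', ha', ha'1⟩, ⟨b', hb', hb'1⟩⟩ u h
      simp only at h
      have ha1' : a ≠ 1 := fun h0 => ha1 (Set.mem_singleton_iff.mpr h0)
      have hb1' : b ≠ 1 := fun h0 => hb1 (Set.mem_singleton_iff.mpr h0)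
      have e1 : (a * b) ^ n = a ^ n := by
        rw [(show Commute a b from hcomm a ha b hb).mul_pow, hBn b hb.2, mul_one]
      have e2 : (a' * b') ^ n = a' ^ n := by
        rw [(show Commute a' b' from hcomm a' ha' b' hb').mul_pow, hBn b' hb'.2, mul_one]
      have e3 : (a * b) ^ m = b ^ m := by
        rw [(show Commute a b from hcomm a ha b hb).mul_pow, hAm a ha.2, one_mul]
      have e4 : (a' * b') ^ m = b' ^ m := by
        rw [(show Commute a' b' from hcomm a' ha' b' hb').mul_pow, hAm a' ha'.2, one_mul]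
      constructor
      · apply hTIA (a ^ n) (pow_mem ha.2 n) (hAn a ha.2 ha1')
        rw [← e1, ← conj_pow, h, e2]
        exact pow_mem ha'.2 n
      · apply hTIB (b ^ m) (pow_mem hb.2 m) (hBm b hb.2 hb1')
        rw [← e3, ← conj_pow, h, e4]
        exact pow_mem hb'.2 m)
  -- invariants
  have iA1 : ∀ p, ((fun p : (G ⧸ N) × ↥((A : Set G) \ {1}) =>
      (Quotient.out p.1 : G) * (p.2 : G) * (Quotient.out p.1 : G)⁻¹) p) ^ m = 1 := by
    intro p
    simp only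
    rw [conj_pow, hAm _ p.2.2.1]
    group
  have iA2 : ∀ p, ((fun p : (G ⧸ N) × ↥((A : Set G) \ {1}) =>
      (Quotient.out p.1 : G) * (p.2 : G) * (Quotient.out p.1 : G)⁻¹) p) ^ n ≠ 1 := by
    intro p h
    simp only at h
    rw [conj_pow] at h
    apply hAn _ p.2.2.1 (fun h0 => p.2.2.2 (Set.mem_singleton_iff.mpr h0))
    have : (p.2 : G) ^ n = (Quotient.out p.1 : G)⁻¹ *
        ((Quotient.out p.1 : G) * (p.2 : G) ^ n * (Quotient.out p.1 : G)⁻¹) *
        (Quotient.out p.1 : G) := by group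
    rw [this, h]
    group
  have iB1 : ∀ p, ((fun p : (G ⧸ N') × ↥((B : Set G) \ {1}) =>
      (Quotient.out p.1 : G) * (p.2 : G) * (Quotient.out p.1 : G)⁻¹) p) ^ n = 1 := by
    intro p
    simp only
    rw [conj_pow, hBn _ p.2.2.1]
    group
  have iB2 : ∀ p, ((fun p : (G ⧸ N') × ↥((B : Set G) \ {1}) =>
      (Quotient.out p.1 : G) * (p.2 : G) * (Quotient.out p.1 : G)⁻¹) p) ^ m ≠ 1 := by
    intro p h
    simp only at h
    rw [conj_pow] at h
    apply hBm _ p.2.2.1 (fun h0 => p.2.2.2 (Set.mem_singleton_iff.mpr h0))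
    have : (p.2 : G) ^ m = (Quotient.out p.1 : G)⁻¹ *
        ((Quotient.out p.1 : G) * (p.2 : G) ^ m * (Quotient.out p.1 : G)⁻¹) *
        (Quotient.out p.1 : G) := by group
    rw [this, h]
    group
  have iD1 : ∀ p, ((fun p : (G ⧸ (N ⊓ N' : Subgroup G)) ×
        (↥(((N' ⊓ A : Subgroup G) : Set G) \ {1}) × ↥(((N ⊓ B : Subgroup G) : Set G) \ {1})) =>
      (Quotient.out p.1 : G) * ((p.2.1 : G) * (p.2.2 : G)) * (Quotient.out p.1 : G)⁻¹) p) ^ m
      ≠ 1 := by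
    rintro ⟨k, ⟨a, ha, ha1⟩, ⟨b, hb, hb1⟩⟩ h
    simp only at h
    rw [conj_pow, (show Commute a b from hcomm a ha b hb).mul_pow, hAm a ha.2, one_mul] at h
    apply hBm b hb.2 (fun h0 => hb1 (Set.mem_singleton_iff.mpr h0))
    have : b ^ m = (Quotient.out k : G)⁻¹ *
        ((Quotient.out k : G) * b ^ m * (Quotient.out k : G)⁻¹) * (Quotient.out k : G) := by group
    rw [this, h]
    group
  have iD2 : ∀ p, ((fun p : (G ⧸ (N ⊓ N' : Subgroup G)) ×
        (↥(((N' ⊓ A : Subgroup G) : Set G) \ {1}) × ↥(((N ⊓ B : Subgroup G) : Set G) \ {1})) =>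
      (Quotient.out p.1 : G) * ((p.2.1 : G) * (p.2.2 : G)) * (Quotient.out p.1 : G)⁻¹) p) ^ n
      ≠ 1 := by
    rintro ⟨k, ⟨a, ha, ha1⟩, ⟨b, hb, hb1⟩⟩ h
    simp only at h
    rw [conj_pow, (show Commute a b from hcomm a ha b hb).mul_pow, hBn b hb.2, mul_one] at h
    apply hAn a ha.2 (fun h0 => ha1 (Set.mem_singleton_iff.mpr h0))
    have : a ^ n = (Quotient.out k : G)⁻¹ *
        ((Quotient.out k : G) * a ^ n * (Quotient.out k : G)⁻¹) * (Quotient.out k : G) := by group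
    rw [this, h]
    group
  have tr : ∀ {X Y : G} (k : ℕ), X = Y → X ^ k = 1 → Y ^ k = 1 := fun k h h1 => h ▸ h1
  have hinj := Function.Injective.sumElim
    (Function.injective_of_subsingleton (fun _ : Unit => (1 : G)))
    (Function.Injective.sumElim hfA
      (Function.Injective.sumElim hfB hfD
        (by
          intro p p' h
          exact iD2 p' (tr n h (iB1 p))))
      (by
        intro p p' h
        rcases p' with p' | p'
        · exact iB2 p' (tr m h (iA1 p))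
        · exact iD1 p' (tr m h (iA1 p))))
    (by
      intro _ p' h
      rcases p' with p' | p' | p'
      · exact iA2 p' (tr n h (one_pow n))
      · exact iB2 p' (tr m h (one_pow m))
      · exact iD1 p' (tr m h (one_pow m)))
  have hcard := Nat.card_le_card_of_injective _ hinj
  rw [Nat.card_sum, Nat.card_sum, Nat.card_sum, Nat.card_prod, Nat.card_prod, Nat.card_prod,
    Nat.card_prod, Nat.card_unique, ← Subgroup.index_eq_card, ← Subgroup.index_eq_card,
    ← Subgroup.index_eq_card] at hcard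
  -- index computations
  have hcN : Nat.card N = m * Nat.card (N ⊓ B : Subgroup G) := by
    have h1 := (fz_of_le c.fz hAN).card c.inf
    rw [inf_eq_right.mpr hAN] at h1
    rw [h1, hm]
  have hcN' : Nat.card N' = n * Nat.card (N' ⊓ A : Subgroup G) := by
    have h1 := (fz_of_le c.symm.fz hBN').card c.symm.inf
    rw [inf_eq_right.mpr hBN'] at h1
    rw [h1, hn]
  have hfzD : Fz (N ⊓ N') A B := by
    intro g hg
    obtain ⟨a, ha, b, hb, rfl⟩ := c.fz g
    have hbN : b ∈ N := by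
      have : b = a⁻¹ * (a * b) := by group
      rw [this]
      exact N.mul_mem (N.inv_mem (hAN ha)) hg.1
    have haN' : a ∈ N' := by
      have : a = (a * b) * b⁻¹ := by group
      rw [this]
      exact N'.mul_mem hg.2 (N'.inv_mem (hBN' hb))
    exact ⟨a, ⟨⟨hAN ha, haN'⟩, ha⟩, b, ⟨⟨hbN, hBN' hb⟩, hb⟩, rfl⟩
  have hDA : (N ⊓ N') ⊓ A = N' ⊓ A := by
    apply le_antisymm
    · intro x hx; exact ⟨hx.1.2, hx.2⟩
    · intro x hx; exact ⟨⟨hAN hx.2, hx.1⟩, hx.2⟩
  have hDB : (N ⊓ N') ⊓ B = N ⊓ B := by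
    apply le_antisymm
    · intro x hx; exact ⟨hx.1.1, hx.2⟩
    · intro x hx; exact ⟨⟨hx.1, hBN' hx.2⟩, hx.2⟩
  have hcD : Nat.card (N ⊓ N' : Subgroup G) =
      Nat.card (N' ⊓ A : Subgroup G) * Nat.card (N ⊓ B : Subgroup G) := by
    have h1 := hfzD.card c.inf
    rw [hDA, hDB] at h1
    exact h1
  have hG : Nat.card G = m * n := by rw [hm, hn]; exact c.card
  have hiN := N.card_mul_index
  have hiN' := N'.card_mul_index
  have hiD := (N ⊓ N').card_mul_index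
  rw [hG, hcN] at hiN
  rw [hG, hcN'] at hiN'
  rw [hG, hcD] at hiD
  have hTA := card_diff_one A
  have hTB := card_diff_one B
  have hTA₀ := card_diff_one (N' ⊓ A)
  have hTB₀ := card_diff_one (N ⊓ B)
  rw [← hm] at hTA
  rw [← hn] at hTB
  have hmpos : 0 < m := by rw [hm]; exact Nat.card_pos
  have hnpos : 0 < n := by rw [hn]; exact Nat.card_pos
  have h1 : Nat.card (N ⊓ B : Subgroup G) * N.index = n := by
    have : m * (Nat.card (N ⊓ B : Subgroup G) * N.index) = m * n := by rw [← hiN]; ring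
    exact Nat.eq_of_mul_eq_mul_left hmpos this
  have h2 : Nat.card (N' ⊓ A : Subgroup G) * N'.index = m := by
    have : n * (Nat.card (N' ⊓ A : Subgroup G) * N'.index) = n * m := by
      rw [mul_comm n m, ← hiN']; ring
    exact Nat.eq_of_mul_eq_mul_left hnpos this
  have h3 : (N ⊓ N').index = N.index * N'.index := by
    have hpos : 0 < Nat.card (N' ⊓ A : Subgroup G) * Nat.card (N ⊓ B : Subgroup G) :=
      Nat.mul_pos Nat.card_pos Nat.card_pos
    have : Nat.card (N' ⊓ A : Subgroup G) * Nat.card (N ⊓ B : Subgroup G) * (N ⊓ N').index =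
        Nat.card (N' ⊓ A : Subgroup G) * Nat.card (N ⊓ B : Subgroup G) *
          (N.index * N'.index) := by
      rw [hiD]
      calc m * n = (Nat.card (N' ⊓ A : Subgroup G) * N'.index) *
          (Nat.card (N ⊓ B : Subgroup G) * N.index) := by rw [h1, h2]
        _ = _ := by ring
    exact Nat.eq_of_mul_eq_mul_left hpos this
  rw [h3, hG] at hcard
  -- arithmetic
  obtain ⟨x, hx⟩ : ∃ x, x = Nat.card ↥((A : Set G) \ {1}) := ⟨_, rfl⟩
  obtain ⟨y, hy⟩ : ∃ y, y = Nat.card ↥((B : Set G) \ {1}) := ⟨_, rfl⟩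
  obtain ⟨α, hα⟩ : ∃ α, α = Nat.card ↥(((N' ⊓ A : Subgroup G) : Set G) \ {1}) := ⟨_, rfl⟩
  obtain ⟨β, hβ⟩ : ∃ β, β = Nat.card ↥(((N ⊓ B : Subgroup G) : Set G) \ {1}) := ⟨_, rfl⟩
  obtain ⟨n₁, hn₁⟩ : ∃ n₁, n₁ = N.index := ⟨_, rfl⟩
  obtain ⟨n₂, hn₂⟩ : ∃ n₂, n₂ = N'.index := ⟨_, rfl⟩
  rw [← hx, ← hy, ← hα, ← hβ, ← hn₁, ← hn₂] at hcard
  rw [← hx] at hTA
  rw [← hy] at hTB
  rw [← hα] at hTA₀
  rw [← hβ] at hTB₀
  rw [← hTB₀, ← hn₁] at h1
  rw [← hTA₀, ← hn₂] at h2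
  have hn₁pos : 1 ≤ n₁ := by
    rw [hn₁]; exact Nat.one_le_iff_ne_zero.mpr Subgroup.index_ne_zero_of_finite
  have hn₂pos : 1 ≤ n₂ := by
    rw [hn₂]; exact Nat.one_le_iff_ne_zero.mpr Subgroup.index_ne_zero_of_finite
  have hn₁1 : n₁ ≠ 1 := by
    intro h
    rw [hn₁, Subgroup.index_eq_one, hNdef] at h
    exact c.normalizer_ne_top h
  have hn₂1 : n₂ ≠ 1 := by
    intro h
    rw [hn₂, Subgroup.index_eq_one, hN'def] at h
    exact c.symm.normalizer_ne_top h
  have e1 : n₁ * x + n₁ = n₁ * ((α + 1) * n₂) := by rw [h2, ← hTA]; ring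
  have e2 : n₂ * y + n₂ = n₂ * ((β + 1) * n₁) := by rw [h1, ← hTB]; ring
  have e3 : m * n = (α + 1) * n₂ * ((β + 1) * n₁) := by rw [h1, h2]
  rw [e3] at hcard
  have key : 1 + n₁ * n₂ ≤ n₁ + n₂ := by nlinarith [hcard, e1, e2]
  obtain ⟨k₁, rfl⟩ : ∃ k, n₁ = k + 2 := ⟨n₁ - 2, by omega⟩
  obtain ⟨k₂, rfl⟩ : ∃ k, n₂ = k + 2 := ⟨n₂ - 2, by omega⟩
  ring_nf at key
  omega

end Cfsg.Agent.Lib.Helper18.KW
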