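import Mathlib
import Cfsg.Agent.Lib.Helper18.KW9
import Cfsg.Agent.Lib.helper2.Burnside2

set_option autoImplicit false

namespace Cfsg.Agent.Lib.Helper18.KW

open Cfsg.Agent.Lib.Helper18
open scoped Pointwise

universe u

theorem card_subgroupOf_dvd {G : Type*} [Group G] (H C : Subgroup G) :
    Nat.card (H.subgroupOf C) ∣ Nat.card H := by
  let f : (H.subgroupOf C) →* H :=
    { toFun := fun v => ⟨((v : C) : G), Subgroup.mem_subgroupOf.mp v.2⟩
      map_one' := rfl
      map_mul' := fun _ _ => rfl }
  have hf : Function.Injective f := by
    intro v w hvw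
    apply Subtype.ext
    apply Subtype.ext
    exact congrArg (fun t : H => (t : G)) hvw
  exact Subgroup.card_dvd_of_injective f hf

theorem solvable_of_eq_top {G : Type*} [Group G] {A : Subgroup G} (h : A = ⊤)
    (hs : Group.IsSolvable A) : Group.IsSolvable G := by
  subst h
  exact Group.isSolvable_of_surjective (f := (Subgroup.topEquiv (G := G)).toMonoidHom)
    (Subgroup.topEquiv (G := G)).surjective

theorem coprime_solvable_aux : ∀ (k : ℕ) (G : Type u) [Group G] [Finite G] (A B : Subgroup G),
    Nat.card G = k → Group.IsNilpotent A → Group.IsNilpotent B →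
    (Nat.card A).Coprime (Nat.card B) →
    (∀ g : G, ∃ a ∈ A, ∃ b ∈ B, g = a * b) → Group.IsSolvable G := by
  intro k
  induction k using Nat.strong_induction_on with
  | _ k IH =>
    intro G _ _ A B hk nilA nilB cop fz
    by_contra hns
    have ihL : ∀ (A' B' : Subgroup G), Group.IsNilpotent A' → Group.IsNilpotent B' →
        (Nat.card A').Coprime (Nat.card B') → ∀ L : Subgroup G, L ≠ ⊤ → Fz L A' B' →
        Group.IsSolvable L := by
      intro A' B' nilA' nilB' cop' L hL fzL
      have h1 : Nat.card L ≤ Nat.card G := Subgroup.card_le_card_group L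
      have h2 : Nat.card L ≠ Nat.card G := fun h => hL ((Subgroup.card_eq_iff_eq_top L).mp h)
      have hlt : Nat.card L < k := by omega
      apply IH (Nat.card L) hlt L (A'.subgroupOf L) (B'.subgroupOf L) rfl
        (nilpotent_subgroupOf nilA' L) (nilpotent_subgroupOf nilB' L)
      · exact Nat.Coprime.coprime_dvd_left (card_subgroupOf_dvd A' L)
          (Nat.Coprime.coprime_dvd_right (card_subgroupOf_dvd B' L) cop')
      · intro g
        obtain ⟨a, ha, b, hb, h1⟩ := fzL g.1 g.2
        refine ⟨⟨a, ha.1⟩, ?_, ⟨b, hb.1⟩, ?_, ?_⟩
        · rw [Subgroup.mem_subgroupOf]; exact ha.2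
        · rw [Subgroup.mem_subgroupOf]; exact hb.2
        · apply Subtype.ext; exact h1
    have fz' : ∀ g : G, ∃ b ∈ B, ∃ a ∈ A, g = b * a := by
      intro g
      obtain ⟨a, ha, b, hb, h1⟩ := fz g⁻¹
      refine ⟨b⁻¹, inv_mem hb, a⁻¹, inv_mem ha, ?_⟩
      rw [← mul_inv_rev, ← h1, inv_inv]
    have simple : ∀ N : Subgroup G, N.Normal → N = ⊥ ∨ N = ⊤ := by
      intro N hN
      by_contra hcon
      push Not at hcon
      obtain ⟨hN1, hN2⟩ := hcon
      -- the quotient is solvable
      have hq : Group.IsSolvable (G ⧸ N) := by
        have hlt : Nat.card (G ⧸ N) < k := by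
          have h1 := Subgroup.card_eq_card_quotient_mul_card_subgroup N
          have h2 : 1 < Nat.card N := (Subgroup.one_lt_card_iff_ne_bot N).mpr hN1
          have h3 : 0 < Nat.card (G ⧸ N) := Nat.card_pos
          rw [← hk, h1]
          nlinarith
        apply IH (Nat.card (G ⧸ N)) hlt (G ⧸ N) (A.map (QuotientGroup.mk' N))
          (B.map (QuotientGroup.mk' N)) rfl
        · have := nilA
          exact Group.nilpotent_of_surjective ((QuotientGroup.mk' N).subgroupMap A)
            ((QuotientGroup.mk' N).subgroupMap_surjective A)
        · have := nilB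
          exact Group.nilpotent_of_surjective ((QuotientGroup.mk' N).subgroupMap B)
            ((QuotientGroup.mk' N).subgroupMap_surjective B)
        · exact Nat.Coprime.coprime_dvd_left (Subgroup.card_map_dvd A _)
            (Nat.Coprime.coprime_dvd_right (Subgroup.card_map_dvd B _) cop)
        · intro g
          obtain ⟨g', rfl⟩ := QuotientGroup.mk'_surjective N g
          obtain ⟨a, ha, b, hb, rfl⟩ := fz g'
          exact ⟨_, Subgroup.mem_map_of_mem _ ha, _, Subgroup.mem_map_of_mem _ hb, map_mul _ a b⟩
      -- `N` is solvable
      have hNs : Group.IsSolvable N := by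
        have hor : A ⊔ N ≠ ⊤ ∨ B ⊔ N ≠ ⊤ := by
          by_contra hcon
          push Not at hcon
          obtain ⟨h1, h2⟩ := hcon
          have hA : N.index ∣ Nat.card A := by
            rw [← Subgroup.relIndex_top_right, ← h1, sup_comm, Subgroup.relIndex_sup_left]
            exact Subgroup.relIndex_dvd_card N A
          have hB : N.index ∣ Nat.card B := by
            rw [← Subgroup.relIndex_top_right, ← h2, sup_comm, Subgroup.relIndex_sup_left]
            exact Subgroup.relIndex_dvd_card N B
          have h3 := Nat.dvd_gcd hA hB
          rw [cop.gcd_eq_one, Nat.dvd_one, Subgroup.index_eq_one] at h3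
          exact hN2 h3
        rcases hor with h | h
        · have hsol := ihL A B nilA nilB cop (A ⊔ N) h (fz_of_le fz le_sup_left)
          exact Group.isSolvable_of_isSolvable_injective
            (Subgroup.inclusion_injective (le_sup_right : N ≤ A ⊔ N))
        · have hsol := ihL B A nilB nilA cop.symm (B ⊔ N) h (fz_of_le fz' le_sup_left)
          exact Group.isSolvable_of_isSolvable_injective
            (Subgroup.inclusion_injective (le_sup_right : N ≤ B ⊔ N))
      apply hns
      exact Group.isSolvable_of_ker_le_range N.subtype (QuotientGroup.mk' N)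
        (by rw [QuotientGroup.ker_mk', Subgroup.range_subtype])
    have hnt : Nontrivial G := by
      by_contra h
      rw [not_nontrivial_iff_subsingleton] at h
      exact hns (Group.isSolvable_of_comm (fun a b => Subsingleton.elim _ _))
    have hsimp : IsSimpleGroup G := { eq_bot_or_eq_top_of_normal := simple }
    have npaux : ∀ (A' B' : Subgroup G), Group.IsNilpotent A' → Group.IsNilpotent B' →
        Nat.card G = Nat.card A' * Nat.card B' → ∀ q : ℕ, q.Prime → ¬ IsPGroup q A' := by
      intro A' B' nilA' nilB' hcard q hq hP
      have := Fact.mk hq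
      by_cases hB1 : Nat.card B' = 1
      · rw [hB1, mul_one] at hcard
        have hA'top : A' = ⊤ := (Subgroup.card_eq_iff_eq_top A').mp hcard.symm
        have := nilA'
        exact hns (solvable_of_eq_top hA'top inferInstance)
      · obtain ⟨r, hr, hrB⟩ := Nat.exists_prime_and_dvd hB1
        obtain ⟨y, hy, hyo, hyc⟩ := exists_central nilB' hr hrB
        have hy1 : y ≠ 1 := ne_one_of_orderOf_prime hr hyo
        have hle : B' ≤ Subgroup.centralizer {y} := by
          intro b hb
          rw [Subgroup.mem_centralizer_singleton_iff]
          exact hyc b hb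
        have hidx : B'.index = Nat.card A' := by
          have h1 := B'.card_mul_index
          rw [hcard, mul_comm] at h1
          exact Nat.eq_of_mul_eq_mul_right Nat.card_pos h1
        obtain ⟨n, hn⟩ := hP.exists_card_eq
        have hdvd : (Subgroup.centralizer {y}).index ∣ q ^ n := by
          rw [← hn, ← hidx]
          exact Subgroup.index_dvd_of_le hle
        obtain ⟨j, -, hj⟩ := (Nat.dvd_prime_pow hq).mp hdvd
        have hprime := Cfsg.Agent.Lib.helper2.prime_card_of_simple_of_prime_power_class q j hq y
          hy1 hj
        have := Fact.mk hprime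
        have hcyc : IsCyclic G := isCyclic_of_prime_card rfl
        exact hns (Group.isSolvable_of_comm (fun a b => hcyc.commutative.is_comm.comm a b))
    have hAB : A ⊓ B = ⊥ := (Subgroup.disjoint_of_coprime_natCard cop).eq_bot
    have hcard : Nat.card G = Nat.card A * Nat.card B := by
      have h := (fz_top fz).card hAB
      rw [Subgroup.card_top, top_inf_eq, top_inf_eq] at h
      exact h
    have c : Cex A B :=
      { nilA := nilA
        nilB := nilB
        cop := cop
        fz := fz
        simple := simple
        nonsolv := hns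
        ih := ihL A B nilA nilB cop
        npA := npaux A B nilA nilB hcard
        npB := npaux B A nilB nilA (by rw [hcard, mul_comm]) }
    exact c.count_false

/-- Wielandt: a finite product of two nilpotent subgroups of coprime orders is solvable. -/
theorem coprime_solvable {G : Type u} [Group G] [Finite G] (A B : Subgroup G)
    (nilA : Group.IsNilpotent A) (nilB : Group.IsNilpotent B)
    (cop : (Nat.card A).Coprime (Nat.card B))
    (fz : ∀ g : G, ∃ a ∈ A, ∃ b ∈ B, g = a * b) : Group.IsSolvable G :=
  coprime_solvable_aux _ G A B rfl nilA nilB cop fz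

end Cfsg.Agent.Lib.Helper18.KW
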