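import Mathlib
import Cfsg.Agent.Lib.Helper18.KW10
import Cfsg.Agent.S0560

set_option autoImplicit false

namespace Cfsg.Agent.Lib.Helper18.KW

open Cfsg.Agent.Lib.Helper18
open scoped Pointwise

universe u

variable {G : Type u} [Group G] [Finite G] {A B : Subgroup G}

theorem nilpotent_of_eq_top {A : Subgroup G} (h : A = ⊤) (hs : Group.IsNilpotent A) :
    Group.IsNilpotent G := by
  subst h
  exact Group.nilpotent_of_mulEquiv (Subgroup.topEquiv (G := G))

/-- product of Sylow subgroups of the factors. -/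
theorem sylow_prod (nilA : Group.IsNilpotent A) (nilB : Group.IsNilpotent B)
    (fz : ∀ g : G, ∃ a ∈ A, ∃ b ∈ B, g = a * b) {q : ℕ} (hq : q.Prime) (x : G) :
    ∃ R : Subgroup G, IsPGroup q R ∧
      (R : Set G) = (sp A q : Set G) * (conjSub x (sp B q) : Set G) := by
  have := Fact.mk hq
  obtain ⟨fz', -⟩ := Cfsg.Agent.S0559.result A B A (MulAut.conj x • B) fz ⟨1, by simp⟩ ⟨x, rfl⟩
  obtain ⟨P, Q, R, hR⟩ := Cfsg.Agent.S0560.result A (MulAut.conj x • B) fz' q
  refine ⟨R, R.isPGroup', ?_⟩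
  rw [hR, ← sp_eq_map_sylow nilA P]
  have h2 : ((Q : Subgroup (MulAut.conj x • B : Subgroup G)).map
      (MulAut.conj x • B : Subgroup G).subtype) = sp (conjSub x B) q :=
    (sp_eq_map_sylow (H := conjSub x B) (conjSub_nilpotent nilB x) Q).symm
  rw [h2, sp_conj]

/-- a counterexample to the normal subgroup theorem, with the consequences of minimality. -/
structure Bad (A B : Subgroup G) : Prop where
  nilA : Group.IsNilpotent A
  nilB : Group.IsNilpotent B
  fz : ∀ g : G, ∃ a ∈ A, ∃ b ∈ B, g = a * b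
  star : ∀ N : Subgroup G, N.Normal → N ≠ ⊤ → ¬ A ≤ N ∧ ¬ B ≤ N
  one : ∀ H : Subgroup G, H.Normal → H ≠ ⊥ → H ≠ ⊤ → A ⊔ H = ⊤ ∧ B ⊔ H = ⊤
  notnil : ¬ Group.IsNilpotent G

theorem Bad.symm (b : Bad A B) : Bad B A where
  nilA := b.nilB
  nilB := b.nilA
  fz := by
    intro g
    obtain ⟨a, ha, c, hc, h1⟩ := b.fz g⁻¹
    refine ⟨c⁻¹, inv_mem hc, a⁻¹, inv_mem ha, ?_⟩
    rw [← mul_inv_rev, ← h1, inv_inv]
  star := fun N hN hN1 => ⟨(b.star N hN hN1).2, (b.star N hN hN1).1⟩
  one := fun H hH h1 h2 => ⟨(b.one H hH h1 h2).2, (b.one H hH h1 h2).1⟩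
  notnil := b.notnil

theorem Bad.A_ne_top (b : Bad A B) : A ≠ ⊤ := fun h => b.notnil (nilpotent_of_eq_top h b.nilA)

theorem Bad.sup_eq_top (b : Bad A B) : A ⊔ B = ⊤ := by
  rw [eq_top_iff]
  intro g _
  obtain ⟨a, ha, c, hc, rfl⟩ := b.fz g
  exact Subgroup.mul_mem _ (Subgroup.mem_sup_left ha) (Subgroup.mem_sup_right hc)

theorem Bad.not_pgroup (b : Bad A B) {q : ℕ} (hq : q.Prime) : ¬ IsPGroup q G := by
  intro h
  have := Fact.mk hq
  exact b.notnil h.isNilpotent

/-- if `X ⊔ H = ⊤` and `H` contains the Sylow `q`-subgroup of `X`, it contains all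
`q`-elements. -/
theorem qel_mem {X H : Subgroup G} (nilX : Group.IsNilpotent X) {q : ℕ} (hq : q.Prime)
    (hH : H.Normal) (hXH : X ⊔ H = ⊤) (hle : sp X q ≤ H) {g : G} {k : ℕ}
    (hg : g ^ q ^ k = 1) : g ∈ H := by
  have h1 : H.index = H.relIndex X := by
    rw [← Subgroup.relIndex_top_right, ← hXH, sup_comm, Subgroup.relIndex_sup_left]
  have h2 : H.relIndex X ∣ (sp X q).relIndex X := by
    rw [← Subgroup.inf_relIndex_right H X]
    exact Subgroup.relIndex_dvd_of_le_left X (le_inf hle (sp_le X q))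
  have h3 : ¬ q ∣ H.index := by
    rw [h1]
    intro hd
    exact (sp_isSylowIn nilX hq).not_dvd (hd.trans h2)
  have hcop : (orderOf g).Coprime H.index := by
    have h4 : orderOf g ∣ q ^ k := orderOf_dvd_of_pow_eq_one hg
    exact Nat.Coprime.coprime_dvd_left h4
      (Nat.Coprime.pow_left k ((Nat.Prime.coprime_iff_not_dvd hq).mpr h3))
  have h5 : g ^ H.index ∈ H := Subgroup.pow_index_mem H g
  have h6 : Subgroup.zpowers (g ^ H.index) ≤ Subgroup.zpowers g :=
    Subgroup.zpowers_le.mpr (pow_mem (Subgroup.mem_zpowers g) _)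
  have h7 := Subgroup.eq_of_le_of_card_ge h6 (by
    rw [Nat.card_zpowers, Nat.card_zpowers, Nat.Coprime.orderOf_pow hcop])
  have h8 : g ∈ Subgroup.zpowers (g ^ H.index) := by
    rw [h7]
    exact Subgroup.mem_zpowers g
  exact (Subgroup.zpowers_le.mpr h5) h8

theorem card_of_compl {X N : Subgroup G} [hN : N.Normal] (h1 : X ⊔ N = ⊤) (h2 : X ⊓ N = ⊥) :
    Nat.card G = Nat.card X * Nat.card N := by
  have hfz : ∀ g : G, ∃ a ∈ X, ∃ n ∈ N, g = a * n := by
    intro g
    have hg : g ∈ X ⊔ N := by rw [h1]; trivial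
    obtain ⟨y, hy, z, hz, rfl⟩ := Subgroup.mem_sup_of_normal_right.mp hg
    exact ⟨y, hy, z, hz, rfl⟩
  have h := (fz_top hfz).card h2
  rw [Subgroup.card_top, top_inf_eq, top_inf_eq] at h
  exact h

/-- there is no abelian minimal normal subgroup. -/
theorem Bad.no_abelian_min (b : Bad A B) {N : Subgroup G} (hN : N.Normal) (hN1 : N ≠ ⊥)
    (hmin : ∀ M : Subgroup G, M.Normal → M ≤ N → M = ⊥ ∨ M = N)
    (hab : ∀ x ∈ N, ∀ y ∈ N, x * y = y * x) {r : ℕ} (hr : r.Prime) (hNr : IsPGroup r N) :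
    False := by
  have := Fact.mk hr
  have hNtop : N ≠ ⊤ := by
    intro h
    apply b.notnil
    have hc : ∀ x y : G, x * y = y * x := fun x y =>
      hab x (by rw [h]; trivial) y (by rw [h]; trivial)
    letI : CommGroup G := { ‹Group G› with mul_comm := hc }
    exact CommGroup.isNilpotent
  obtain ⟨hAN, hBN⟩ := b.one N hN hN1 hNtop
  have key : ∀ X : Subgroup G, X ⊔ N = ⊤ → X ≠ ⊤ → X ⊓ N = ⊥ := by
    intro X hXN hX
    have hn : (X ⊓ N).Normal := by
      constructor
      intro y hy g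
      have hg : g ∈ X ⊔ N := by rw [hXN]; trivial
      obtain ⟨x, hx, n, hn, rfl⟩ := Subgroup.mem_sup_of_normal_right.mp hg
      have e : x * n * y * (x * n)⁻¹ = x * y * x⁻¹ := by
        have := hab n hn y hy.2
        calc x * n * y * (x * n)⁻¹ = x * (n * y) * n⁻¹ * x⁻¹ := by group
          _ = x * (y * n) * n⁻¹ * x⁻¹ := by rw [this]
          _ = x * y * x⁻¹ := by group
      rw [e]
      exact ⟨X.mul_mem (X.mul_mem hx hy.1) (X.inv_mem hx), hN.conj_mem y hy.2 x⟩
    rcases hmin _ hn inf_le_right with h | h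
    · exact h
    · exfalso
      apply hX
      rw [← hXN]
      exact (sup_eq_left.mpr (inf_eq_right.mp h)).symm
  have hA0 := key A hAN b.A_ne_top
  have hB0 := key B hBN b.symm.A_ne_top
  have cA := card_of_compl hAN hA0
  have cB := card_of_compl hBN hB0
  have hcard : Nat.card G * Nat.card (A ⊓ B : Subgroup G) = Nat.card A * Nat.card B := by
    have h1 := Cfsg.Agent.Lib.Helper5.card_mul_set_mul_card_inf A B
    have h2 : ((A : Set G) * (B : Set G) : Set G) = Set.univ := by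
      rw [Set.eq_univ_iff_forall]
      intro g
      obtain ⟨a, ha, c, hc, rfl⟩ := b.fz g
      exact Set.mul_mem_mul ha hc
    rw [h2, Nat.card_congr (Equiv.Set.univ G)] at h1
    exact h1
  have hNpos : 0 < Nat.card N := Nat.card_pos
  have hAB : Nat.card A = Nat.card B := by
    have : Nat.card A * Nat.card N = Nat.card B * Nat.card N := by rw [← cA, ← cB]
    exact Nat.eq_of_mul_eq_mul_right hNpos this
  have hidxA : (A ⊓ B).relIndex A = Nat.card N := by
    have h1 := Cfsg.Agent.Lib.Helper5.card_mul_relIndex_of_le (inf_le_left : A ⊓ B ≤ A)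
    have h2 : Nat.card A * (Nat.card N * Nat.card (A ⊓ B : Subgroup G)) =
        Nat.card A * Nat.card A := by
      rw [← mul_assoc, ← cA, hcard, hAB]
    have h3 := Nat.eq_of_mul_eq_mul_left Nat.card_pos h2
    have h4 : Nat.card (A ⊓ B : Subgroup G) * (A ⊓ B).relIndex A =
        Nat.card (A ⊓ B : Subgroup G) * Nat.card N := by
      rw [h1, ← h3, mul_comm]
    exact Nat.eq_of_mul_eq_mul_left Nat.card_pos h4
  have hidxB : (A ⊓ B).relIndex B = Nat.card N := by
    have h1 := Cfsg.Agent.Lib.Helper5.card_mul_relIndex_of_le (inf_le_right : A ⊓ B ≤ B)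
    have h2 : Nat.card (A ⊓ B : Subgroup G) * (A ⊓ B).relIndex A =
        Nat.card (A ⊓ B : Subgroup G) * (A ⊓ B).relIndex B := by
      rw [h1, Cfsg.Agent.Lib.Helper5.card_mul_relIndex_of_le (inf_le_left : A ⊓ B ≤ A), hAB]
    rw [← hidxA]
    exact (Nat.eq_of_mul_eq_mul_left Nat.card_pos h2).symm
  obtain ⟨k, hk⟩ := hNr.exists_card_eq
  -- Sylow subgroups for primes other than `r`
  have hsyl : ∀ (X Y : Subgroup G), Group.IsNilpotent X → (X ⊓ Y).relIndex X = Nat.card N →
      ∀ s : ℕ, s.Prime → s ≠ r → sp X s ≤ Y := by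
    intro X Y nilX hidx s hs hsr
    have := Fact.mk hs
    have nilXY : Group.IsNilpotent (X ⊓ Y : Subgroup G) := by
      have := nilX
      exact Subgroup.isNilpotent_of_ker_le_center
        (Subgroup.inclusion (inf_le_left : X ⊓ Y ≤ X))
        (by rw [(MonoidHom.ker_eq_bot_iff _).mpr (Subgroup.inclusion_injective _)]; exact bot_le)
    have h1 := sp_isSylowIn nilXY hs
    have h2 : IsSylowIn s (sp (X ⊓ Y) s) X := by
      refine ⟨h1.le.trans inf_le_left, h1.isPGroup, ?_⟩
      rw [← Subgroup.relIndex_mul_relIndex _ _ _ h1.le inf_le_left, hidx, hk]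
      intro hd
      rcases (Nat.Prime.dvd_mul hs).mp hd with h3 | h3
      · exact h1.not_dvd h3
      · exact hsr ((Nat.prime_dvd_prime_iff_eq hs hr).mp (hs.dvd_of_dvd_pow h3))
    have h3 : sp X s = sp (X ⊓ Y) s :=
      h2.eq_of_le (sp_le X s) (sp_isPGroup nilX hs) (sp_mono inf_le_left s)
    rw [h3]
    exact (sp_le _ s).trans inf_le_right
  have hzero : ∀ s : ℕ, s.Prime → s ≠ r → sp A s = ⊥ ∧ sp B s = ⊥ := by
    intro s hs hsr
    have h1 : sp A s ≤ B := hsyl A B b.nilA hidxA s hs hsr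
    have h2 : sp B s ≤ A := hsyl B A b.nilB (by rw [inf_comm]; exact hidxB) s hs hsr
    have h3 : sp A s = sp B s :=
      le_antisymm (le_sp h1 (sp_isPGroup b.nilA hs)) (le_sp h2 (sp_isPGroup b.nilB hs))
    have hn : (sp A s).Normal := by
      rw [← Subgroup.normalizer_eq_top_iff, eq_top_iff, ← b.sup_eq_top]
      apply sup_le (sp_le_normalizer A s)
      rw [h3]
      exact sp_le_normalizer B s
    have h4 : sp A s = ⊥ := by
      by_contra hne
      have htop : sp A s ≠ ⊤ := fun h => b.A_ne_top (top_le_iff.mp (h ▸ sp_le A s))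
      have := (b.one _ hn hne htop).1
      rw [sup_eq_left.mpr (sp_le A s)] at this
      exact b.A_ne_top this
    exact ⟨h4, h3 ▸ h4⟩
  have hpg : ∀ X : Subgroup G, Group.IsNilpotent X → (∀ s : ℕ, s.Prime → s ≠ r → sp X s = ⊥) →
      IsPGroup r X := by
    intro X nilX h0
    have h1 : X ≤ sp X r := by
      apply sp_gen nilX
      intro s hs
      by_cases hsr : s = r
      · rw [hsr]
      · rw [h0 s hs hsr]; exact bot_le
    exact (sp_isPGroup nilX hr).to_le h1
  have hAr := hpg A b.nilA (fun s hs hsr => (hzero s hs hsr).1)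
  have hBr := hpg B b.nilB (fun s hs hsr => (hzero s hs hsr).2)
  obtain ⟨n1, hn1⟩ := hAr.exists_card_eq
  obtain ⟨n2, hn2⟩ := hBr.exists_card_eq
  have hdvd : Nat.card G ∣ r ^ (n1 + n2) := by
    rw [pow_add, ← hn1, ← hn2, ← hcard]
    exact Dvd.intro _ rfl
  obtain ⟨j, -, hj⟩ := (Nat.dvd_prime_pow hr).mp hdvd
  exact b.not_pgroup hr (IsPGroup.of_card hj)

theorem Bad.not_solvable (b : Bad A B) : ¬ Group.IsSolvable G := by
  intro hsol
  have hnt : Nontrivial G := by
    by_contra h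
    rw [not_nontrivial_iff_subsingleton] at h
    exact b.A_ne_top (Subsingleton.elim _ _)
  obtain ⟨N, hNn, hN1, hmin⟩ := Cfsg.Agent.Lib.Helper1.exists_minimal_normal (G := G)
  obtain ⟨hcomm, r, hr, hexp⟩ := Cfsg.Agent.Lib.Helper1.minimal_normal_of_solvable N hN1 hmin
  apply b.no_abelian_min hNn hN1 hmin _ hr (r := r)
  · rintro ⟨x, hx⟩
    refine ⟨1, ?_⟩
    apply Subtype.ext
    have := hexp x hx
    simpa using this
  · intro x hx y hy
    have := hcomm.is_comm.comm (⟨x, hx⟩ : N) ⟨y, hy⟩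
    exact congrArg Subtype.val this

end Cfsg.Agent.Lib.Helper18.KW
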