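import Mathlib
import Cfsg.Agent.Lib.Helper18.KW11

set_option autoImplicit false

namespace Cfsg.Agent.Lib.Helper18.KW

open Cfsg.Agent.Lib.Helper18
open scoped Pointwise

universe u

variable {G : Type u} [Group G] [Finite G] {A B : Subgroup G}

/-- the subgroup generated by the `q`-elements. -/
def qgen (G : Type u) [Group G] (q : ℕ) : Subgroup G := sp ⊤ q

theorem mem_qgen {q : ℕ} {g : G} (k : ℕ) (h : g ^ q ^ k = 1) : g ∈ qgen G q :=
  mem_sp_of_pow (Subgroup.mem_top g) k h

theorem qgen_normal (q : ℕ) : (qgen G q).Normal := by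
  rw [← Subgroup.normalizer_eq_top_iff, eq_top_iff]
  have h : Subgroup.normalizer ((⊤ : Subgroup G) : Set G) = ⊤ :=
    Subgroup.normalizer_eq_top_iff.mpr inferInstance
  rw [← h]
  exact normalizer_le_normalizer_sp ⊤ q

theorem qgen_le {q : ℕ} {H : Subgroup G} (h : ∀ (g : G) (k : ℕ), g ^ q ^ k = 1 → g ∈ H) :
    qgen G q ≤ H := by
  unfold qgen sp
  rw [Subgroup.closure_le]
  rintro g ⟨-, k, hk⟩
  exact h g k hk

theorem le_qgen_of_pgroup {q : ℕ} {R : Subgroup G} (h : IsPGroup q R) : R ≤ qgen G q :=
  le_sp le_top h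

/-- the final step: a proper normal subgroup of `K = qgen` cannot contain the Sylow subgroup
of a factor. -/
theorem final_step {X : Subgroup G} (nilX : Group.IsNilpotent X) {q : ℕ} (hq : q.Prime)
    (hone : ∀ H : Subgroup G, H.Normal → H ≠ ⊥ → H ≠ ⊤ → X ⊔ H = ⊤)
    (hXq : sp X q ≠ ⊥) (hK : qgen G q ≠ ⊤) (hXK : X ⊔ qgen G q = ⊤)
    (N' : Subgroup (qgen G q)) (hN'n : N'.Normal) (hN' : N' ≠ ⊤)
    (hle : (sp X q).subgroupOf (qgen G q) ≤ N') : False := by
  have hKn : (qgen G q).Normal := qgen_normal q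
  have hXqK : sp X q ≤ qgen G q := le_qgen_of_pgroup (sp_isPGroup nilX hq)
  obtain ⟨N'', hN''⟩ : ∃ N'' : Subgroup G, N'' = N'.map (qgen G q).subtype := ⟨_, rfl⟩
  have hXqN : sp X q ≤ N'' := by
    intro y hy
    rw [hN'']
    exact ⟨⟨y, hXqK hy⟩, hle (by rw [Subgroup.mem_subgroupOf]; exact hy), rfl⟩
  have hN''K : N'' ≤ qgen G q := by
    rw [hN'']
    rintro _ ⟨n, _, rfl⟩
    exact n.2
  have hconj : ∀ k ∈ qgen G q, ∀ n ∈ N'', k * n * k⁻¹ ∈ N'' := by
    intro k hk n hn
    rw [hN''] at hn ⊢
    obtain ⟨n', hn', rfl⟩ := hn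
    refine ⟨⟨k, hk⟩ * n' * ⟨k, hk⟩⁻¹, hN'n.conj_mem n' hn' _, ?_⟩
    simp
  have hHle : Subgroup.normalClosure (sp X q : Set G) ≤ N'' := by
    unfold Subgroup.normalClosure
    rw [Subgroup.closure_le]
    intro y hy
    rw [Group.mem_conjugatesOfSet_iff] at hy
    obtain ⟨a, ha, hay⟩ := hy
    rw [isConj_iff] at hay
    obtain ⟨g, rfl⟩ := hay
    have hg : g ∈ qgen G q ⊔ X := by rw [sup_comm, hXK]; trivial
    obtain ⟨k, hk, x, hx, rfl⟩ := Subgroup.mem_sup_of_normal_left.mp hg
    have h1 : x * a * x⁻¹ ∈ sp X q :=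
      (Subgroup.mem_normalizer_iff.mp (sp_le_normalizer X q hx) a).mp ha
    have e : k * x * a * (k * x)⁻¹ = k * (x * a * x⁻¹) * k⁻¹ := by group
    rw [e]
    exact hconj k hk _ (hXqN h1)
  have hHn : (Subgroup.normalClosure (sp X q : Set G)).Normal := Subgroup.normalClosure_normal
  have hXqH : sp X q ≤ Subgroup.normalClosure (sp X q : Set G) := Subgroup.le_normalClosure
  have hH1 : Subgroup.normalClosure (sp X q : Set G) ≠ ⊥ := by
    intro h
    rw [h] at hXqH
    exact hXq (le_bot_iff.mp hXqH)
  have hHtop : Subgroup.normalClosure (sp X q : Set G) ≠ ⊤ := by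
    intro h
    rw [h] at hHle
    exact hK (top_le_iff.mp (hHle.trans hN''K))
  have hsup := hone _ hHn hH1 hHtop
  have hKH : qgen G q ≤ Subgroup.normalClosure (sp X q : Set G) :=
    qgen_le (fun g k hg => qel_mem nilX hq hHn hsup hXqH hg)
  apply hN'
  rw [eq_top_iff]
  intro k _
  have h1 : (k : G) ∈ N'' := hHle (hKH k.2)
  rw [hN''] at h1
  obtain ⟨n, hn, hnk⟩ := h1
  have : n = k := Subtype.ext hnk
  rw [← this]
  exact hn

theorem Bad.false (b : Bad A B) : False := by
  have hns := b.not_solvable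
  have hncop : ¬ (Nat.card A).Coprime (Nat.card B) := fun h =>
    hns (coprime_solvable A B b.nilA b.nilB h b.fz)
  obtain ⟨q, hq, hqA, hqB⟩ := Nat.Prime.not_coprime_iff_dvd.mp hncop
  have := Fact.mk hq
  have hAq : sp A q ≠ ⊥ := sp_ne_bot b.nilA hq hqA
  have hBq : sp B q ≠ ⊥ := sp_ne_bot b.nilB hq hqB
  have hKn : (qgen G q).Normal := qgen_normal q
  have hAqK : sp A q ≤ qgen G q := le_qgen_of_pgroup (sp_isPGroup b.nilA hq)
  have hBqK : sp B q ≤ qgen G q := le_qgen_of_pgroup (sp_isPGroup b.nilB hq)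
  -- first use of the lemma of Kegel
  obtain ⟨N₁, hN₁n, hN₁top, hN₁⟩ := Cfsg.Agent.S0566.result (sp A q) (sp B q) hAq hBq (by
    intro x
    obtain ⟨R, hRq, hR⟩ := sylow_prod b.nilA b.nilB b.fz hq x
    refine ⟨R, ?_, hR⟩
    intro h
    apply b.not_pgroup hq
    rw [h] at hRq
    exact IsPGroup.of_equiv hRq (Subgroup.topEquiv (G := G)))
  have hKtop : qgen G q ≠ ⊤ := by
    have hle : qgen G q ≤ N₁ := by
      rcases hN₁ with h | h
      · have hN₁1 : N₁ ≠ ⊥ := fun h0 => hAq (le_bot_iff.mp (h0 ▸ h))
        exact qgen_le (fun g k hg =>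
          qel_mem b.nilA hq hN₁n (b.one N₁ hN₁n hN₁1 hN₁top).1 h hg)
      · have hN₁1 : N₁ ≠ ⊥ := fun h0 => hBq (le_bot_iff.mp (h0 ▸ h))
        exact qgen_le (fun g k hg =>
          qel_mem b.nilB hq hN₁n (b.one N₁ hN₁n hN₁1 hN₁top).2 h hg)
    intro h
    rw [h] at hle
    exact hN₁top (top_le_iff.mp hle)
  have hK1 : qgen G q ≠ ⊥ := fun h => hAq (le_bot_iff.mp (h ▸ hAqK))
  obtain ⟨hAK, hBK⟩ := b.one _ hKn hK1 hKtop
  -- `K` is not a `q`-group
  have hKq : ¬ IsPGroup q (qgen G q) := by
    intro h
    apply hns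
    have h1 : Group.IsSolvable (qgen G q) := by
      have := h.isNilpotent
      infer_instance
    have h2 : Group.IsSolvable (G ⧸ qgen G q) := by
      have hsurj : Function.Surjective
          ((QuotientGroup.mk' (qgen G q)).comp A.subtype) := by
        intro y
        obtain ⟨g, rfl⟩ := QuotientGroup.mk'_surjective _ y
        have hg : g ∈ A ⊔ qgen G q := by rw [hAK]; trivial
        obtain ⟨a, ha, k, hk, rfl⟩ := Subgroup.mem_sup_of_normal_right.mp hg
        refine ⟨⟨a, ha⟩, ?_⟩
        change (QuotientGroup.mk' (qgen G q)) a = (QuotientGroup.mk' (qgen G q)) (a * k)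
        rw [map_mul]
        have : (QuotientGroup.mk' (qgen G q)) k = 1 := by
          rw [QuotientGroup.mk'_apply, QuotientGroup.eq_one_iff]
          exact hk
        rw [this, mul_one]
      have := b.nilA
      have := Group.nilpotent_of_surjective _ hsurj
      infer_instance
    exact Group.isSolvable_of_ker_le_range (qgen G q).subtype (QuotientGroup.mk' (qgen G q))
      (by rw [QuotientGroup.ker_mk', Subgroup.range_subtype])
  -- second use, inside `K`
  have hA' : (sp A q).subgroupOf (qgen G q) ≠ ⊥ := by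
    intro h
    apply hAq
    rw [eq_bot_iff]
    intro y hy
    have : (⟨y, hAqK hy⟩ : qgen G q) ∈ (sp A q).subgroupOf (qgen G q) := by
      rw [Subgroup.mem_subgroupOf]; exact hy
    rw [h, Subgroup.mem_bot] at this
    rw [Subgroup.mem_bot]
    exact congrArg Subtype.val this
  have hB' : (sp B q).subgroupOf (qgen G q) ≠ ⊥ := by
    intro h
    apply hBq
    rw [eq_bot_iff]
    intro y hy
    have : (⟨y, hBqK hy⟩ : qgen G q) ∈ (sp B q).subgroupOf (qgen G q) := by
      rw [Subgroup.mem_subgroupOf]; exact hy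
    rw [h, Subgroup.mem_bot] at this
    rw [Subgroup.mem_bot]
    exact congrArg Subtype.val this
  obtain ⟨N', hN'n, hN'top, hN'⟩ := Cfsg.Agent.S0566.result
    ((sp A q).subgroupOf (qgen G q)) ((sp B q).subgroupOf (qgen G q)) hA' hB' (by
    intro x
    obtain ⟨R, hRq, hR⟩ := sylow_prod b.nilA b.nilB b.fz hq (x : G)
    refine ⟨R.subgroupOf (qgen G q), ?_, ?_⟩
    · intro h
      apply hKq
      apply hRq.to_le
      intro k hk
      have : (⟨k, hk⟩ : qgen G q) ∈ R.subgroupOf (qgen G q) := by rw [h]; trivial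
      rw [Subgroup.mem_subgroupOf] at this
      exact this
    · ext k
      change k ∈ R.subgroupOf (qgen G q) ↔ _
      rw [Subgroup.mem_subgroupOf, ← SetLike.mem_coe, hR, Set.mem_mul, Set.mem_mul]
      constructor
      · rintro ⟨a, ha, c, hc, hac⟩
        have hcK : c ∈ qgen G q := by
          have : c = a⁻¹ * (k : G) := by rw [← hac]; group
          rw [this]
          exact Subgroup.mul_mem _ (Subgroup.inv_mem _ (hAqK ha)) k.2
        refine ⟨⟨a, hAqK ha⟩, ?_, ⟨c, hcK⟩, ?_, Subtype.ext hac⟩
        · change _ ∈ (sp A q).subgroupOf (qgen G q)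
          rw [Subgroup.mem_subgroupOf]; exact ha
        · change _ ∈ conjSub x ((sp B q).subgroupOf (qgen G q))
          rw [mem_conjSub, Subgroup.mem_subgroupOf]
          have hc' : c ∈ conjSub (x : G) (sp B q) := hc
          rw [mem_conjSub] at hc'
          exact hc'
      · rintro ⟨a, ha, c, hc, hac⟩
        have ha' : a ∈ (sp A q).subgroupOf (qgen G q) := ha
        have hc' : c ∈ conjSub x ((sp B q).subgroupOf (qgen G q)) := hc
        rw [Subgroup.mem_subgroupOf] at ha'
        rw [mem_conjSub, Subgroup.mem_subgroupOf] at hc'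
        refine ⟨(a : G), ha', (c : G), ?_, congrArg Subtype.val hac⟩
        change (c : G) ∈ conjSub (x : G) (sp B q)
        rw [mem_conjSub]
        exact hc')
  rcases hN' with h | h
  · exact final_step b.nilA hq (fun H hH h1 h2 => (b.one H hH h1 h2).1) hAq hKtop hAK N' hN'n
      hN'top h
  · exact final_step b.nilB hq (fun H hH h1 h2 => (b.one H hH h1 h2).2) hBq hKtop hBK N' hN'n
      hN'top h

/-- the statement of the theorem on normal subgroups containing a factor. -/
def KP (G : Type u) [Group G] : Prop :=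
  ∀ (A B : Subgroup G), Group.IsNilpotent A → Group.IsNilpotent B →
    (∀ g : G, ∃ a ∈ A, ∃ b ∈ B, g = a * b) → (A ≠ ⊤ ∨ B ≠ ⊤) →
    ∃ N : Subgroup G, N.Normal ∧ N ≠ ⊤ ∧ (A ≤ N ∨ B ≤ N)

theorem kp_aux : ∀ (k : ℕ) (G : Type u) [Group G] [Finite G], Nat.card G = k → KP G := by
  intro k
  induction k using Nat.strong_induction_on with
  | _ k IH =>
    intro G _ _ hk A B nilA nilB fz hprop
    by_contra hcon
    push Not at hcon
    have star : ∀ N : Subgroup G, N.Normal → N ≠ ⊤ → ¬ A ≤ N ∧ ¬ B ≤ N := by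
      intro N hN hN1
      constructor
      · intro h; exact (hcon N hN hN1).1 h
      · intro h; exact (hcon N hN hN1).2 h
    have notnil : ¬ Group.IsNilpotent G := by
      intro hnil
      have hnc : NormalizerCondition G := Group.normalizerCondition_of_isNilpotent
      have aux : ∀ X : Subgroup G, X ≠ ⊤ → ∃ M : Subgroup G, M.Normal ∧ M ≠ ⊤ ∧ X ≤ M := by
        intro X hX
        obtain ⟨M, hM, hXM⟩ := (eq_top_or_exists_le_coatom X).resolve_left hX
        exact ⟨M, Subgroup.NormalizerCondition.normal_of_coatom M hnc hM, hM.1, hXM⟩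
      rcases hprop with h | h
      · obtain ⟨M, hMn, hM1, hle⟩ := aux A h
        exact (star M hMn hM1).1 hle
      · obtain ⟨M, hMn, hM1, hle⟩ := aux B h
        exact (star M hMn hM1).2 hle
    have one : ∀ H : Subgroup G, H.Normal → H ≠ ⊥ → H ≠ ⊤ → A ⊔ H = ⊤ ∧ B ⊔ H = ⊤ := by
      intro H hH hH1 hHtop
      have hlt : Nat.card (G ⧸ H) < k := by
        have h1 := Subgroup.card_eq_card_quotient_mul_card_subgroup H
        have h2 : 1 < Nat.card H := (Subgroup.one_lt_card_iff_ne_bot H).mpr hH1
        have h3 : 0 < Nat.card (G ⧸ H) := Nat.card_pos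
        rw [← hk, h1]
        nlinarith
      have hKP := IH (Nat.card (G ⧸ H)) hlt (G ⧸ H) rfl
      have himg : A.map (QuotientGroup.mk' H) = ⊤ ∧ B.map (QuotientGroup.mk' H) = ⊤ := by
        by_contra hne
        have hne' : A.map (QuotientGroup.mk' H) ≠ ⊤ ∨ B.map (QuotientGroup.mk' H) ≠ ⊤ := by
          by_contra h2
          push Not at h2
          exact hne h2
        obtain ⟨Nq, hNqn, hNqtop, hNq⟩ := hKP (A.map (QuotientGroup.mk' H))
          (B.map (QuotientGroup.mk' H))
          (by
            have := nilA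
            exact Group.nilpotent_of_surjective ((QuotientGroup.mk' H).subgroupMap A)
              ((QuotientGroup.mk' H).subgroupMap_surjective A))
          (by
            have := nilB
            exact Group.nilpotent_of_surjective ((QuotientGroup.mk' H).subgroupMap B)
              ((QuotientGroup.mk' H).subgroupMap_surjective B))
          (by
            intro g
            obtain ⟨g', rfl⟩ := QuotientGroup.mk'_surjective H g
            obtain ⟨a, ha, c, hc, rfl⟩ := fz g'
            exact ⟨_, Subgroup.mem_map_of_mem _ ha, _, Subgroup.mem_map_of_mem _ hc,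
              map_mul _ a c⟩)
          hne'
        have hNn : (Nq.comap (QuotientGroup.mk' H)).Normal := hNqn.comap _
        have hNtop : Nq.comap (QuotientGroup.mk' H) ≠ ⊤ := by
          intro h
          apply hNqtop
          rw [eq_top_iff]
          intro y _
          obtain ⟨g, rfl⟩ := QuotientGroup.mk'_surjective H y
          have : g ∈ Nq.comap (QuotientGroup.mk' H) := by rw [h]; trivial
          exact this
        rcases hNq with h | h
        · exact (star _ hNn hNtop).1 (Subgroup.map_le_iff_le_comap.mp h)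
        · exact (star _ hNn hNtop).2 (Subgroup.map_le_iff_le_comap.mp h)
      have conv : ∀ X : Subgroup G, X.map (QuotientGroup.mk' H) = ⊤ → X ⊔ H = ⊤ := by
        intro X hX
        rw [eq_top_iff]
        intro g _
        have hg : (QuotientGroup.mk' H) g ∈ X.map (QuotientGroup.mk' H) := by rw [hX]; trivial
        obtain ⟨x, hx, hxg⟩ := hg
        have h1 : x⁻¹ * g ∈ H := by
          rw [QuotientGroup.mk'_apply, QuotientGroup.mk'_apply] at hxg
          exact QuotientGroup.eq.mp hxg
        have : g = x * (x⁻¹ * g) := by group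
        rw [this]
        exact Subgroup.mul_mem _ (Subgroup.mem_sup_left hx) (Subgroup.mem_sup_right h1)
      exact ⟨conv A himg.1, conv B himg.2⟩
    have b : Bad A B :=
      { nilA := nilA, nilB := nilB, fz := fz, star := star, one := one, notnil := notnil }
    exact b.false

theorem kp (G : Type u) [Group G] [Finite G] : KP G := kp_aux _ G rfl

/-- Kegel-Wielandt. -/
theorem kw_aux : ∀ (k : ℕ) (G : Type u) [Group G] [Finite G] (A B : Subgroup G),
    Nat.card G = k → Group.IsNilpotent A → Group.IsNilpotent B →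
    (∀ g : G, ∃ a ∈ A, ∃ b ∈ B, g = a * b) → Group.IsSolvable G := by
  intro k
  induction k using Nat.strong_induction_on with
  | _ k IH =>
    intro G _ _ A B hk nilA nilB fz
    by_cases hA : A = ⊤
    · have := nilpotent_of_eq_top hA nilA
      infer_instance
    · have fz' : ∀ g : G, ∃ b ∈ B, ∃ a ∈ A, g = b * a := by
        intro g
        obtain ⟨a, ha, c, hc, h1⟩ := fz g⁻¹
        refine ⟨c⁻¹, inv_mem hc, a⁻¹, inv_mem ha, ?_⟩
        rw [← mul_inv_rev, ← h1, inv_inv]
      -- the case of a proper normal subgroup containing a factor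
      have aux : ∀ (X Y : Subgroup G), Group.IsNilpotent X → Group.IsNilpotent Y →
          (∀ g : G, ∃ x ∈ X, ∃ y ∈ Y, g = x * y) → ∀ N : Subgroup G, N.Normal → N ≠ ⊤ →
          X ≤ N → Group.IsSolvable G := by
        intro X Y nilX nilY fzXY N hNn hNtop hXN
        have h1 : Nat.card N ≤ Nat.card G := Subgroup.card_le_card_group N
        have h2 : Nat.card N ≠ Nat.card G := fun h =>
          hNtop ((Subgroup.card_eq_iff_eq_top N).mp h)
        have hlt : Nat.card N < k := by omega
        have hNsol : Group.IsSolvable N := by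
          apply IH (Nat.card N) hlt N (X.subgroupOf N) (Y.subgroupOf N) rfl
            (nilpotent_subgroupOf nilX N) (nilpotent_subgroupOf nilY N)
          intro g
          obtain ⟨a, ha, c, hc, h1⟩ := (fz_of_le fzXY hXN) g.1 g.2
          refine ⟨⟨a, ha.1⟩, ?_, ⟨c, hc.1⟩, ?_, ?_⟩
          · rw [Subgroup.mem_subgroupOf]; exact ha.2
          · rw [Subgroup.mem_subgroupOf]; exact hc.2
          · apply Subtype.ext; exact h1
        have hQsol : Group.IsSolvable (G ⧸ N) := by
          have hsurj : Function.Surjective ((QuotientGroup.mk' N).comp Y.subtype) := by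
            intro y
            obtain ⟨g, rfl⟩ := QuotientGroup.mk'_surjective _ y
            obtain ⟨x, hx, y', hy', rfl⟩ := fzXY g
            refine ⟨⟨y', hy'⟩, ?_⟩
            change (QuotientGroup.mk' N) y' = (QuotientGroup.mk' N) (x * y')
            rw [map_mul]
            have : (QuotientGroup.mk' N) x = 1 := by
              rw [QuotientGroup.mk'_apply, QuotientGroup.eq_one_iff]
              exact hXN hx
            rw [this, one_mul]
          have := nilY
          have := Group.nilpotent_of_surjective _ hsurj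
          infer_instance
        exact Group.isSolvable_of_ker_le_range N.subtype (QuotientGroup.mk' N)
          (by rw [QuotientGroup.ker_mk', Subgroup.range_subtype])
      obtain ⟨N, hNn, hNtop, hN⟩ := kp G A B nilA nilB fz (Or.inl hA)
      rcases hN with h | h
      · exact aux A B nilA nilB fz N hNn hNtop h
      · exact aux B A nilB nilA fz' N hNn hNtop h

theorem kw {G : Type u} [Group G] [Finite G] (A B : Subgroup G)
    (nilA : Group.IsNilpotent A) (nilB : Group.IsNilpotent B)
    (fz : ∀ g : G, ∃ a ∈ A, ∃ b ∈ B, g = a * b) : Group.IsSolvable G :=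
  kw_aux _ G A B rfl nilA nilB fz

end Cfsg.Agent.Lib.Helper18.KW
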