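import Mathlib
import Cfsg.Agent.Lib.helper2.MI2.Defs

set_option autoImplicit false

namespace Cfsg.Agent.Lib.helper2.MI2

open Matrix

theorem mi2b2h18_J_map {R S : Type*} [CommRing R] [CommRing S] (l : Type*) [DecidableEq l] [Fintype l]
    (f : R →+* S) : (Matrix.J l R).map f = Matrix.J l S := by
  unfold Matrix.J
  rw [Matrix.fromBlocks_map]
  congr 1
  · ext i j; simp
  · ext i j
    simp only [Matrix.map_apply, Matrix.neg_apply, map_neg]
    by_cases h : i = j
    · subst h; simp
    · simp [Matrix.one_apply_ne h]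
  · ext i j
    simp only [Matrix.map_apply]
    by_cases h : i = j
    · subst h; simp
    · simp [Matrix.one_apply_ne h]
  · ext i j; simp

theorem mi2b2h18_map_mem {R S : Type*} [CommRing R] [CommRing S] {l : Type*} [DecidableEq l] [Fintype l]
    (f : R →+* S) {A : Matrix (l ⊕ l) (l ⊕ l) R} (hA : A ∈ Matrix.symplecticGroup l R) :
    A.map f ∈ Matrix.symplecticGroup l S := by
  rw [_root_.SymplecticGroup.mem_iff] at hA ⊢
  rw [← mi2b2h18_J_map l f, ← Matrix.transpose_map, ← Matrix.map_mul, ← Matrix.map_mul, hA]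

/-- a ring isomorphism induces an isomorphism of symplectic groups -/
def mi2b2h18_equiv {R S : Type*} [CommRing R] [CommRing S] (l : Type*) [DecidableEq l] [Fintype l]
    (f : R ≃+* S) : ↥(Matrix.symplecticGroup l R) ≃* ↥(Matrix.symplecticGroup l S) where
  toFun A := ⟨A.1.map f, mi2b2h18_map_mem (f : R →+* S) A.2⟩
  invFun B := ⟨B.1.map f.symm, mi2b2h18_map_mem (f.symm : S →+* R) B.2⟩
  left_inv A := by
    apply Subtype.ext
    ext i j
    simp
  right_inv B := by
    apply Subtype.ext
    ext i j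
    simp
  map_mul' A B := by
    apply Subtype.ext
    show (A.1 * B.1).map f = A.1.map f * B.1.map f
    exact Matrix.map_mul

/-- **B2** [M] `Sp_{2m}(F) ≃* Sp_{2m}(ZMod 2)` for a field with two elements. -/
theorem exists_mulEquiv {F : Type*} [Field F] [Fintype F] (hF : Fintype.card F = 2) (m : ℕ) :
    Nonempty (↥(Matrix.symplecticGroup (Fin m) F) ≃* G m) := by
  have e : ZMod 2 ≃+* F := ZMod.ringEquivOfPrime F Nat.prime_two hF
  exact ⟨mi2b2h18_equiv (Fin m) e.symm⟩

end Cfsg.Agent.Lib.helper2.MI2
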