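import Mathlib
import Cfsg.Agent.Lib.helper2.MI2.Defs

set_option autoImplicit false

namespace Cfsg.Agent.Lib.helper2.MI2

open Matrix

variable {m : ℕ}

/-- **C1** [M] Double counting. -/
theorem cover_count {v : V m} (hv : v ≠ 0) (Y : Set (V m)) (h0 : (0 : V m) ∈ Y) (hvY : v ∈ Y)
    {y₀ : V m} (hy₀ : y₀ ∈ Y) (hy₀0 : y₀ ≠ 0) (hy₀v : y₀ ≠ v)
    (hcard : Nat.card {y : V m | ff v y = 0} = 2 ^ (2 * m - 1))
    (htr : ∀ y : V m, y ≠ 0 → y ≠ v → ff v y = 0 → ∃ g : G m, act g v = v ∧ act g y₀ = y) :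
    2 ^ (2 * m - 1) - 2 ≤
      Nat.card {B : Set (V m) | ∃ g : G m, act g v = v ∧ B = act g '' Y} * (Nat.card Y - 2) := by
  classical
  set T : Set (Set (V m)) := {B | ∃ g : G m, act g v = v ∧ B = act g '' Y} with hT
  have hTfin : T.Finite := Set.toFinite T
  set P : Set (V m) := {y | ff v y = 0} \ {0, v} with hP
  have hsub : ({0, v} : Set (V m)) ⊆ {y | ff v y = 0} := by
    intro y hy
    rcases hy with h | h
    · rw [h]; exact ff_zero_right v
    · rw [Set.mem_singleton_iff.1 h]; exact ff_self v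
  have hPcard : P.ncard = 2 ^ (2 * m - 1) - 2 := by
    rw [hP, Set.ncard_sdiff hsub (Set.toFinite _), Set.ncard_pair hv.symm, ← hcard,
      Nat.card_coe_set_eq]
  have hB : ∀ B ∈ T, (B \ {0, v}).ncard = Nat.card Y - 2 := by
    rintro B ⟨g, hgv, rfl⟩
    have hsubB : ({0, v} : Set (V m)) ⊆ act g '' Y := by
      intro y hy
      rcases hy with h | h
      · rw [h]; exact ⟨0, h0, act_zero g⟩
      · rw [Set.mem_singleton_iff.1 h]; exact ⟨v, hvY, hgv⟩
    rw [Set.ncard_sdiff hsubB (Set.toFinite _), Set.ncard_pair hv.symm,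
      Set.ncard_image_of_injective _ (act_injective g), Nat.card_coe_set_eq]
  have hcov : P ⊆ ⋃ B ∈ hTfin.toFinset, (B \ {0, v}) := by
    intro y hy
    obtain ⟨hy1, hy2⟩ := hy
    have hy0 : y ≠ 0 := fun h => hy2 (by rw [h]; exact Set.mem_insert _ _)
    have hyv : y ≠ v := fun h => hy2 (by rw [h]; exact Set.mem_insert_of_mem _ rfl)
    obtain ⟨g, hgv, hgy⟩ := htr y hy0 hyv hy1
    have hmem : act g '' Y ∈ hTfin.toFinset := by
      rw [Set.Finite.mem_toFinset]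
      exact ⟨g, hgv, rfl⟩
    exact Set.mem_biUnion hmem ⟨⟨y₀, hy₀, hgy⟩, hy2⟩
  calc 2 ^ (2 * m - 1) - 2 = P.ncard := hPcard.symm
    _ ≤ (⋃ B ∈ hTfin.toFinset, (B \ {0, v})).ncard := Set.ncard_le_ncard hcov (Set.toFinite _)
    _ ≤ ∑ B ∈ hTfin.toFinset, (B \ {0, v}).ncard := Finset.set_ncard_biUnion_le _ _
    _ = ∑ B ∈ hTfin.toFinset, (Nat.card Y - 2) :=
        Finset.sum_congr rfl (fun B hB' => hB B ((Set.Finite.mem_toFinset _).1 hB'))
    _ = hTfin.toFinset.card * (Nat.card Y - 2) := by rw [Finset.sum_const, smul_eq_mul]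
    _ = Nat.card T * (Nat.card Y - 2) := by
        rw [← Set.ncard_eq_toFinset_card T hTfin, Nat.card_coe_set_eq T]

end Cfsg.Agent.Lib.helper2.MI2
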