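import Mathlib
import Cfsg.Agent.Lib.helper2.MI2.Defs

set_option autoImplicit false

namespace Cfsg.Agent.Lib.helper2.MI2

open Matrix

variable {m : ℕ}

theorem mi2i4h18_sub (H : Subgroup (G m)) {v : V m} {h : G m} (hh : h ∈ H) (hhv : act h v = v) :
    act h '' XA H v ⊆ XA H v := by
  rintro _ ⟨w, ⟨hw, c, hc⟩, rfl⟩
  refine ⟨?_, c, ?_⟩
  · have := ff_act h v w
    rw [hhv] at this
    rw [this, hw]
  · have := conj_qe h v w c
    rw [hhv] at this
    rw [← this]
    exact H.mul_mem (H.mul_mem hh hc) (H.inv_mem hh)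

/-- **I4** [S-M] `H ∩ K_v` stabilises `X_v(H)`. -/
theorem XA_image_of_mem (H : Subgroup (G m)) {v : V m} {h : G m} (hh : h ∈ H) (hhv : act h v = v) :
    act h '' XA H v = XA H v := by
  apply Set.Subset.antisymm (mi2i4h18_sub H hh hhv)
  intro w hw
  have hinv : act h⁻¹ v = v := by
    have := act_inv_act h v
    rw [hhv] at this
    exact this
  have h1 : act h⁻¹ w ∈ XA H v := mi2i4h18_sub H (H.inv_mem hh) hinv ⟨w, hw, rfl⟩
  exact ⟨act h⁻¹ w, h1, act_act_inv h w⟩

end Cfsg.Agent.Lib.helper2.MI2
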