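import Mathlib
import Cfsg.Agent.Lib.helper2.MI2.Defs

set_option autoImplicit false

namespace Cfsg.Agent.Lib.helper2.MI2

open Matrix

variable {m : ℕ}

/-- **I6** [M] Orbit-stabiliser for the action of `Kv v` on sets of vectors. -/
theorem card_orbit_set (v : V m) (X : Set (V m)) :
    Nat.card {B : Set (V m) | ∃ g : G m, act g v = v ∧ B = act g '' X} = (stabSet v X).relIndex (Kv v) := by
  classical
  letI inst : MulAction (Kv v) (Set (V m)) :=
    { smul := fun g B => act (g : G m) '' B
      one_smul := fun B => by
        show act ((1 : Kv v) : G m) '' B = B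
        have : act ((1 : Kv v) : G m) = id := by funext x; exact act_one x
        rw [this, Set.image_id]
      mul_smul := fun a b B => by
        show act ((a * b : Kv v) : G m) '' B = act (a : G m) '' (act (b : G m) '' B)
        have : act ((a * b : Kv v) : G m) = act (a : G m) ∘ act (b : G m) := by
          funext x; exact act_mul a.1 b.1 x
        rw [this, Set.image_comp] }
  have hsmul : ∀ (g : Kv v) (B : Set (V m)), g • B = act (g : G m) '' B := fun _ _ => rfl
  have horb : MulAction.orbit (Kv v) X = {B : Set (V m) | ∃ g : G m, act g v = v ∧ B = act g '' X} := by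
    ext B
    constructor
    · rintro ⟨g, rfl⟩
      exact ⟨g.1, g.2, hsmul g X⟩
    · rintro ⟨g, hgv, rfl⟩
      exact ⟨⟨g, hgv⟩, hsmul ⟨g, hgv⟩ X⟩
  have hstab : MulAction.stabilizer (Kv v) X = (stabSet v X).subgroupOf (Kv v) := by
    ext g
    rw [MulAction.mem_stabilizer_iff, Subgroup.mem_subgroupOf, mem_stabSet, hsmul]
    constructor
    · intro h; exact ⟨g.2, h⟩
    · intro h; exact h.2
  rw [← horb, Subgroup.relIndex, ← hstab, MulAction.index_stabilizer, Nat.card_coe_set_eq]

end Cfsg.Agent.Lib.helper2.MI2
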