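import Mathlib
import Cfsg.Agent.Lib.Helper24.MNP.Defs
import Cfsg.Agent.Lib.Helper24.MNPM1

set_option autoImplicit false

namespace Cfsg.Agent.Lib.Helper24.MNP

open scoped commutatorElement
open Cfsg.Agent.Lib.Helper24.SCH (SchAct)

universe u

section M

open SemidirectProduct

variable {T : Type u} [Group T] [Finite T] {p q r : ℕ} [Fact p.Prime] {α₀ : MulAut T}

/-- a non-multiple of `q` in `ZMod (q ^ r)` is a unit -/
theorem mnpm8_isUnit (hq : q.Prime) (z : ZMod (q ^ r))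
    (hz : ¬ ∃ k : ZMod (q ^ r), z = (q : ZMod (q ^ r)) * k) : IsUnit z := by
  haveI : NeZero (q ^ r) := ⟨pow_ne_zero _ hq.ne_zero⟩
  rw [← ZMod.natCast_zmod_val z, ZMod.isUnit_iff_coprime]
  apply Nat.Coprime.pow_right
  apply Nat.Coprime.symm
  rw [Nat.Prime.coprime_iff_not_dvd hq]
  rintro ⟨k, hk⟩
  apply hz
  refine ⟨(k : ZMod (q ^ r)), ?_⟩
  rw [← ZMod.natCast_zmod_val z, hk]
  push_cast
  rfl

theorem mnpm8_right_pow (hn : α₀ ^ (q ^ r) = 1) (g : G0 (q ^ r) α₀ hn) (n : ℕ) :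
    Multiplicative.toAdd (g ^ n).right = (n : ZMod (q ^ r)) * Multiplicative.toAdd g.right := by
  have h1 : (g ^ n).right = g.right ^ n :=
    map_pow (SemidirectProduct.rightHom (φ := cycHom (q ^ r) α₀ hn)) g n
  rw [h1, toAdd_pow, nsmul_eq_mul]

/-- the order of the generator -/
theorem mnpm8_card_gen (hq : q.Prime) (hn : α₀ ^ (q ^ r) = 1) :
    Nat.card (Subgroup.zpowers
      (inr (Multiplicative.ofAdd (1 : ZMod (q ^ r))) : G0 (q ^ r) α₀ hn)) = q ^ r := by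
  haveI : NeZero (q ^ r) := ⟨pow_ne_zero _ hq.ne_zero⟩
  rw [Nat.card_zpowers]
  apply Nat.dvd_antisymm
  · apply orderOf_dvd_of_pow_eq_one
    rw [mnpm4_gen_pow, ZMod.natCast_self]
    rfl
  · have h1 := pow_orderOf_eq_one (inr (Multiplicative.ofAdd (1 : ZMod (q ^ r))) : G0 (q ^ r) α₀ hn)
    rw [mnpm4_gen_pow] at h1
    have h2 : (Multiplicative.ofAdd ((orderOf (inr (Multiplicative.ofAdd (1 : ZMod (q ^ r))) :
        G0 (q ^ r) α₀ hn) : ℕ) : ZMod (q ^ r))) = 1 :=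
      SemidirectProduct.inr_injective (by rw [h1, map_one])
    have h3 : ((orderOf (inr (Multiplicative.ofAdd (1 : ZMod (q ^ r))) :
        G0 (q ^ r) α₀ hn) : ℕ) : ZMod (q ^ r)) = 0 := h2
    exact (ZMod.natCast_eq_zero_iff _ _).mp h3

theorem mnpm8_h18_exists_conj_gen [Fact q.Prime] (hT : SchAct p q T α₀) (hr : 1 ≤ r) (hn : α₀ ^ (q ^ r) = 1)
    (H : Subgroup (G0 (q ^ r) α₀ hn))
    (hH : ∃ g ∈ H, ¬ ∃ k : ZMod (q ^ r), g.right = Multiplicative.ofAdd ((q : ZMod (q ^ r)) * k)) :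
    ∃ x : G0 (q ^ r) α₀ hn, x * inr (Multiplicative.ofAdd (1 : ZMod (q ^ r))) * x⁻¹ ∈ H := by
  have hq : q.Prime := hT.qprime
  have hp : p.Prime := Fact.out
  haveI : NeZero (q ^ r) := ⟨pow_ne_zero _ hq.ne_zero⟩
  obtain ⟨g, hgH, hg⟩ := hH
  obtain ⟨e, he⟩ := (IsPGroup.iff_card).mp hT.pgroup
  have hcard : Nat.card (G0 (q ^ r) α₀ hn) = p ^ e * q ^ r := by
    rw [card_G0 hT hn, he]
  have hcop : (p ^ e).Coprime (q ^ r) := by
    apply Nat.Coprime.pow
    rw [Nat.coprime_primes hp hq]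
    exact fun h => hT.qne h.symm
  -- the generator of the right component
  have hzu : IsUnit (Multiplicative.toAdd g.right) := by
    apply mnpm8_isUnit hq
    rintro ⟨k, hk⟩
    exact hg ⟨k, by rw [← hk]; rfl⟩
  set y : G0 (q ^ r) α₀ hn := g ^ (p ^ e) with hy
  have hyH : y ∈ H := H.pow_mem hgH _
  have hy1 : y ^ (q ^ r) = 1 := by
    rw [hy, ← pow_mul, ← hcard]
    exact pow_card_eq_one'
  have hyo : orderOf y = q ^ r := by
    apply Nat.dvd_antisymm (orderOf_dvd_of_pow_eq_one hy1)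
    have h1 := pow_orderOf_eq_one y
    have h2 : Multiplicative.toAdd (y ^ orderOf y).right = 0 := by
      rw [h1]; rfl
    rw [hy, ← pow_mul, mnpm8_right_pow] at h2
    have h3 : ((p ^ e * orderOf (g ^ p ^ e) : ℕ) : ZMod (q ^ r)) = 0 := by
      rcases hzu with ⟨u, hu⟩
      rw [← hu] at h2
      exact (Units.mul_left_eq_zero u).mp h2
    rw [ZMod.natCast_eq_zero_iff] at h3
    exact (Nat.Coprime.dvd_of_dvd_mul_left hcop.symm h3)
  have hfac : (Nat.card (G0 (q ^ r) α₀ hn)).factorization q = r := by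
    rw [hcard, Nat.factorization_mul (pow_ne_zero _ hp.ne_zero) (pow_ne_zero _ hq.ne_zero),
      Nat.factorization_pow, Nat.factorization_pow]
    simp [Nat.Prime.factorization hp, Nat.Prime.factorization hq, hT.qne]
  have hc1 : Nat.card (Subgroup.zpowers y) = q ^ (Nat.card (G0 (q ^ r) α₀ hn)).factorization q := by
    rw [hfac, Nat.card_zpowers, hyo]
  have hc2 : Nat.card (Subgroup.zpowers
      (inr (Multiplicative.ofAdd (1 : ZMod (q ^ r))) : G0 (q ^ r) α₀ hn)) =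
      q ^ (Nat.card (G0 (q ^ r) α₀ hn)).factorization q := by
    rw [hfac, mnpm8_card_gen hq hn]
  obtain ⟨x, hx⟩ := MulAction.exists_smul_eq (G0 (q ^ r) α₀ hn) (Sylow.ofCard _ hc2) (Sylow.ofCard _ hc1)
  refine ⟨x, ?_⟩
  have h4 : x * inr (Multiplicative.ofAdd (1 : ZMod (q ^ r))) * x⁻¹ ∈
      ((x • Sylow.ofCard _ hc2 : Sylow q (G0 (q ^ r) α₀ hn)) : Subgroup (G0 (q ^ r) α₀ hn)) := by
    rw [Sylow.coe_subgroup_smul]
    have : x * inr (Multiplicative.ofAdd (1 : ZMod (q ^ r))) * x⁻¹ =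
        MulAut.conj x • (inr (Multiplicative.ofAdd (1 : ZMod (q ^ r))) : G0 (q ^ r) α₀ hn) := rfl
    rw [this]
    apply Subgroup.smul_mem_pointwise_smul
    exact Subgroup.mem_zpowers _
  rw [hx] at h4
  have h5 : x * inr (Multiplicative.ofAdd (1 : ZMod (q ^ r))) * x⁻¹ ∈ Subgroup.zpowers y := h4
  exact (Subgroup.zpowers_le.mpr hyH) h5

end M

end Cfsg.Agent.Lib.Helper24.MNP
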