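import Mathlib

set_option autoImplicit false

namespace Cfsg.Agent.Lib.Helper18.MazurovA

variable {F M : Type*} [Group F] [CommGroup M]

theorem pow_conj_mem (K : Subgroup F) (c : F) (hnorm : ∀ k ∈ K, c * k * c⁻¹ ∈ K) :
    ∀ j : ℕ, ∀ k ∈ K, c ^ j * k * (c ^ j)⁻¹ ∈ K := by
  intro j
  induction j with
  | zero => intro k hk; simpa using hk
  | succ j ih =>
    intro k hk
    have h1 := hnorm _ (ih k hk)
    have e : c ^ (j + 1) * k * (c ^ (j + 1))⁻¹ = c * (c ^ j * k * (c ^ j)⁻¹) * c⁻¹ := by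
      rw [pow_succ']; group
    rw [e]; exact h1

/-- the trace over `K` -/
noncomputable def tr (φ : F →* MulAut M) (K : Subgroup F) [Fintype K] (w : M) : M :=
  ∏ k : K, φ (k : F) w

theorem tr_mul (φ : F →* MulAut M) (K : Subgroup F) [Fintype K] (a b : M) :
    tr φ K (a * b) = tr φ K a * tr φ K b := by
  unfold tr
  rw [← Finset.prod_mul_distrib]
  apply Finset.prod_congr rfl
  intro k _
  exact map_mul _ a b

theorem tr_one (φ : F →* MulAut M) (K : Subgroup F) [Fintype K] : tr φ K (1 : M) = 1 := by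
  unfold tr
  apply Finset.prod_eq_one
  intro k _
  exact map_one _

theorem tr_prod (φ : F →* MulAut M) (K : Subgroup F) [Fintype K] {ι : Type*} (s : Finset ι)
    (f : ι → M) : tr φ K (∏ i ∈ s, f i) = ∏ i ∈ s, tr φ K (f i) := by
  classical
  induction s using Finset.induction_on with
  | empty => simp [tr_one]
  | insert a s ha ih => rw [Finset.prod_insert ha, Finset.prod_insert ha, tr_mul, ih]

theorem tr_fixed (φ : F →* MulAut M) (K : Subgroup F) [Fintype K] (w : M) (y : F) (hy : y ∈ K) :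
    φ y (tr φ K w) = tr φ K w := by
  unfold tr
  rw [map_prod]
  refine Fintype.prod_equiv (Equiv.mulLeft (⟨y, hy⟩ : K)) _ _ ?_
  intro x
  simp [map_mul]

theorem conj_sum_eq_tr (φ : F →* MulAut M) (K : Subgroup F) [Fintype K] (c : F) (m : ℕ)
    (hnorm : ∀ k ∈ K, c * k * c⁻¹ ∈ K)
    (hfpf : ∀ j, 0 < j → j < m → ∀ k ∈ K, c ^ j * k = k * c ^ j → k = 1)
    (j : ℕ) (hj0 : 0 < j) (hjm : j < m) (w : M) :
    ∏ k : K, φ ((k : F) * c ^ j * (k : F)⁻¹) w = tr φ K (φ (c ^ j) w) := by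
  have hK := pow_conj_mem K c hnorm j
  let β : K → K := fun k => ⟨(k : F) * (c ^ j * (k : F)⁻¹ * (c ^ j)⁻¹),
    K.mul_mem k.2 (hK _ (K.inv_mem k.2))⟩
  have hβinj : Function.Injective β := by
    intro k l hkl
    have h1 : (k : F) * (c ^ j * (k : F)⁻¹ * (c ^ j)⁻¹) = (l : F) * (c ^ j * (l : F)⁻¹ * (c ^ j)⁻¹) :=
      congrArg Subtype.val hkl
    have h2 : c ^ j * ((l : F)⁻¹ * (k : F)) = ((l : F)⁻¹ * (k : F)) * c ^ j := by
      have e1 : (k : F) * c ^ j * (k : F)⁻¹ = (l : F) * c ^ j * (l : F)⁻¹ := by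
        have : (k : F) * c ^ j * (k : F)⁻¹ = ((k : F) * (c ^ j * (k : F)⁻¹ * (c ^ j)⁻¹)) * c ^ j := by
          group
        rw [this, h1]; group
      have e2 : c ^ j * ((l : F)⁻¹ * (k : F)) = (l : F)⁻¹ * ((l : F) * c ^ j * (l : F)⁻¹) * (k : F) := by
        group
      rw [e2, ← e1]; group
    have h3 := hfpf j hj0 hjm _ (K.mul_mem (K.inv_mem l.2) k.2) h2
    apply Subtype.ext
    have : (k : F) = (l : F) * ((l : F)⁻¹ * (k : F)) := by group
    rw [this, h3, mul_one]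
  have hβ : Function.Bijective β := Finite.injective_iff_bijective.mp hβinj
  unfold tr
  rw [← hβ.prod_comp (fun k : K => φ (k : F) (φ (c ^ j) w))]
  apply Finset.prod_congr rfl
  intro k _
  have e : (k : F) * c ^ j * (k : F)⁻¹ = ((β k : K) : F) * c ^ j := by
    change _ = (k : F) * (c ^ j * (k : F)⁻¹ * (c ^ j)⁻¹) * c ^ j
    group
  rw [e, map_mul]
  rfl

theorem trace_lemma (φ : F →* MulAut M) (K : Subgroup F) [Fintype K] (c : F) (m : ℕ)
    (hnorm : ∀ k ∈ K, c * k * c⁻¹ ∈ K)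
    (hfpf : ∀ j, 0 < j → j < m + 1 → ∀ k ∈ K, c ^ j * k = k * c ^ j → k = 1)
    (hN : ∀ w : M, ∏ j ∈ Finset.range (m + 1), φ (c ^ j) w = 1) (w : M) :
    tr φ K w = w ^ Fintype.card K := by
  -- the double product
  have hS : ∏ k : K, ∏ j ∈ Finset.range (m + 1), φ ((k : F) * c ^ j * (k : F)⁻¹) w = 1 := by
    apply Finset.prod_eq_one
    intro k _
    have h1 : ∏ j ∈ Finset.range (m + 1), φ ((k : F) * c ^ j * (k : F)⁻¹) w =
        φ (k : F) (∏ j ∈ Finset.range (m + 1), φ (c ^ j) (φ ((k : F)⁻¹) w)) := by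
      rw [map_prod]
      apply Finset.prod_congr rfl
      intro j _
      rw [map_mul, map_mul]
      rfl
    rw [h1, hN, map_one]
  rw [Finset.prod_comm, Finset.prod_range_succ'] at hS
  have h0 : ∏ k : K, φ ((k : F) * c ^ 0 * (k : F)⁻¹) w = w ^ Fintype.card K := by
    have : ∀ k : K, φ ((k : F) * c ^ 0 * (k : F)⁻¹) w = w := by
      intro k
      have e : (k : F) * c ^ 0 * (k : F)⁻¹ = 1 := by simp
      rw [e, map_one]; rfl
    rw [Finset.prod_congr rfl (fun k _ => this k), Finset.prod_const, Finset.card_univ]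
  rw [h0] at hS
  have h1 : ∏ j ∈ Finset.range m, ∏ k : K, φ ((k : F) * c ^ (j + 1) * (k : F)⁻¹) w =
      ∏ j ∈ Finset.range m, tr φ K (φ (c ^ (j + 1)) w) := by
    apply Finset.prod_congr rfl
    intro j hj
    rw [Finset.mem_range] at hj
    exact conj_sum_eq_tr φ K c (m + 1) hnorm hfpf (j + 1) (Nat.succ_pos j) (Nat.succ_lt_succ hj) w
  rw [h1] at hS
  have h2 : (∏ j ∈ Finset.range m, tr φ K (φ (c ^ (j + 1)) w)) * tr φ K w = 1 := by
    have h3 := tr_prod φ K (Finset.range (m + 1)) (fun j => φ (c ^ j) w)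
    rw [hN, tr_one, Finset.prod_range_succ'] at h3
    have h4 : φ (c ^ 0) w = w := by rw [pow_zero, map_one]; rfl
    rw [h4] at h3
    exact h3.symm
  have h5 := hS.trans h2.symm
  exact (mul_left_cancel h5).symm

theorem trivial_of_trace (φ : F →* MulAut M) (K : Subgroup F) [Fintype K] (c : F) (m : ℕ)
    (hnorm : ∀ k ∈ K, c * k * c⁻¹ ∈ K)
    (hfpf : ∀ j, 0 < j → j < m + 1 → ∀ k ∈ K, c ^ j * k = k * c ^ j → k = 1)
    (hN : ∀ w : M, ∏ j ∈ Finset.range (m + 1), φ (c ^ j) w = 1)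
    (hcop : ∀ x : M, x ^ Fintype.card K = 1 → x = 1) :
    ∀ k ∈ K, ∀ w : M, φ k w = w := by
  intro k hk w
  have h1 := trace_lemma φ K c m hnorm hfpf hN w
  have h2 := tr_fixed φ K w k hk
  rw [h1, map_pow] at h2
  have h3 : (φ k w * w⁻¹) ^ Fintype.card K = 1 := by
    rw [mul_pow, h2, inv_pow, mul_inv_cancel]
  have h4 := hcop _ h3
  exact mul_inv_eq_one.mp h4

end Cfsg.Agent.Lib.Helper18.MazurovA
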