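import Mathlib
import Cfsg.Agent.Lib.Helper18.MazurovA
import Cfsg.Agent.Lib.Helper18.SylowIn
import Cfsg.Agent.Lib.Helper5.InvSylow
import Cfsg.Agent.Lib.Helper1.CoprimeGen
import Cfsg.Agent.Lib.Helper22.Sylow2

set_option autoImplicit false

namespace Cfsg.Agent.Lib.Helper18.MazurovB

open Cfsg.Agent.Lib.Helper18

variable {G : Type*} [Group G]

theorem finish [Finite G] (N Fs : Subgroup G) (m : ℕ) (hm : 0 < m) (g : G)
    (hord : ∀ j : ℕ, g ^ j ∈ Fs ↔ m ∣ j) (hgN : g ^ m ∈ N) (hg1 : g ^ m ≠ 1) :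
    ∃ p : ℕ, p.Prime ∧ p ∣ Nat.card N ∧ ∃ x : G, orderOf x = p * m := by
  obtain ⟨k, hk⟩ : ∃ k, k = orderOf (g ^ m) := ⟨_, rfl⟩
  have hk1 : k ≠ 1 := by
    rw [hk]; intro h; exact hg1 (orderOf_eq_one_iff.mp h)
  obtain ⟨p, hp, hpk⟩ := Nat.exists_prime_and_dvd hk1
  have hkN : k ∣ Nat.card N := by rw [hk]; exact Subgroup.orderOf_dvd_natCard N hgN
  have hmo : m ∣ orderOf g := (hord (orderOf g)).mp (by rw [pow_orderOf_eq_one]; exact Fs.one_mem)
  have ho : orderOf g ≠ 0 := (orderOf_pos g).ne'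
  have hk2 : k = orderOf g / m := by rw [hk]; exact orderOf_pow_of_dvd hm.ne' hmo
  have hog : orderOf g = m * k := by rw [hk2, Nat.mul_div_cancel' hmo]
  obtain ⟨q, hq⟩ := hpk
  have hq0 : q ≠ 0 := by
    rintro rfl
    rw [mul_zero] at hq
    rw [hq, mul_zero] at hog
    exact ho hog
  refine ⟨p, hp, (Dvd.intro q hq.symm).trans hkN, g ^ q, ?_⟩
  · have hqd : q ∣ orderOf g := by rw [hog, hq]; exact Dvd.intro_left (m * p) (by ring)
    rw [orderOf_pow_of_dvd hq0 hqd, hog, hq]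
    have : m * (p * q) = (p * m) * q := by ring
    rw [this, Nat.mul_div_cancel _ (Nat.pos_of_ne_zero hq0)]

theorem pow_mul_mem_iff (Fs : Subgroup G) [Fs.Normal] {f : G} (hf : f ∈ Fs) (h : G) (j : ℕ) :
    (f * h) ^ j ∈ Fs ↔ h ^ j ∈ Fs := by
  rw [← QuotientGroup.eq_one_iff, ← QuotientGroup.eq_one_iff, QuotientGroup.mk_pow,
    QuotientGroup.mk_pow, QuotientGroup.mk_mul, (QuotientGroup.eq_one_iff f).mpr hf, one_mul]

theorem conj_eq_of_central_comm [Finite G] (u x : G)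
    (hz : u * (u * x * u⁻¹ * x⁻¹) = (u * x * u⁻¹ * x⁻¹) * u)
    (hcop : (orderOf u).Coprime (orderOf (u * x * u⁻¹ * x⁻¹))) : u * x * u⁻¹ = x := by
  obtain ⟨z, hzdef⟩ : ∃ z, z = u * x * u⁻¹ * x⁻¹ := ⟨_, rfl⟩
  rw [← hzdef] at hz hcop
  have hzk : ∀ k : ℕ, u * z ^ k = z ^ k * u := by
    intro k
    exact (Commute.pow_right (show Commute u z from hz) k).eq
  have key : ∀ k : ℕ, u ^ k * x * (u ^ k)⁻¹ = z ^ k * x := by
    intro k
    induction k with
    | zero => simp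
    | succ k ih =>
      have e : u ^ (k + 1) * x * (u ^ (k + 1))⁻¹ = u * (u ^ k * x * (u ^ k)⁻¹) * u⁻¹ := by
        rw [pow_succ']; group
      rw [e, ih]
      have e2 : u * (z ^ k * x) * u⁻¹ = (u * z ^ k) * (x * u⁻¹) := by group
      rw [e2, hzk k, pow_succ]
      have e3 : z = u * x * u⁻¹ * x⁻¹ := hzdef
      have e4 : x * u⁻¹ = u⁻¹ * (u * x * u⁻¹ * x⁻¹) * x := by group
      rw [e4, ← e3]; group
  have h1 := key (orderOf u)
  rw [pow_orderOf_eq_one, one_mul, inv_one, mul_one] at h1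
  have h2 : z ^ orderOf u = 1 := by
    have : z ^ orderOf u * x = 1 * x := by rw [one_mul]; exact h1.symm
    exact mul_right_cancel this
  have h3 : orderOf z ∣ orderOf u := orderOf_dvd_of_pow_eq_one h2
  have h4 : orderOf z = 1 := Nat.eq_one_of_dvd_coprimes hcop.symm (dvd_refl _) h3
  have h5 : z = 1 := orderOf_eq_one_iff.mp h4
  rw [hzdef] at h5
  have : u * x * u⁻¹ = (u * x * u⁻¹ * x⁻¹) * x := by group
  rw [this, h5, one_mul]


theorem mem_normalizer_inf {A B : Subgroup G} {g : G} (ha : g ∈ Subgroup.normalizer (A : Set G))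
    (hb : g ∈ Subgroup.normalizer (B : Set G)) : g ∈ Subgroup.normalizer ((A ⊓ B : Subgroup G) : Set G) := by
  rw [Subgroup.mem_normalizer_iff] at ha hb ⊢
  intro x
  rw [Subgroup.mem_inf, Subgroup.mem_inf, ha x, hb x]

/-- Step 1: a Sylow subgroup of `Fs` not centralizing `N`. -/
theorem step1 [Finite G] (N Fs : Subgroup G) [N.Normal] (hNF : N ≤ Fs)
    (hcop : (N.relIndex Fs).Coprime (Nat.card N))
    (hnot : ¬ Fs ≤ N ⊔ Subgroup.centralizer (N : Set G)) :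
    ∃ r : ℕ, r.Prime ∧ ¬ r ∣ Nat.card N ∧ ∃ R : Subgroup G, IsSylowIn r R Fs ∧
      ¬ R ≤ Subgroup.centralizer (N : Set G) := by
  obtain ⟨Y, hY⟩ : ∃ Y : Subgroup G, Y = (N ⊔ Subgroup.centralizer (N : Set G)) ⊓ Fs := ⟨_, rfl⟩
  have hNY : N ≤ Y := by rw [hY]; exact le_inf le_sup_left hNF
  have hYF : Y ≤ Fs := by rw [hY]; exact inf_le_right
  have hne : Y.relIndex Fs ≠ 1 := by
    intro h
    rw [Subgroup.relIndex_eq_one] at h
    apply hnot
    intro x hx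
    have := h hx
    rw [hY] at this
    exact this.1
  obtain ⟨r, hr, hrd⟩ := Nat.exists_prime_and_dvd hne
  have hrN : r ∣ N.relIndex Fs := by
    rw [← Subgroup.relIndex_mul_relIndex N Y Fs hNY hYF]
    exact Dvd.dvd.mul_left hrd _
  have hrN' : ¬ r ∣ Nat.card N := by
    intro h
    have := Nat.eq_one_of_dvd_coprimes hcop hrN h
    exact hr.one_lt.ne' this
  haveI : Fact r.Prime := ⟨hr⟩
  obtain ⟨S⟩ : Nonempty (Sylow r ↥Fs) := inferInstance
  refine ⟨r, hr, hrN', (S : Subgroup ↥Fs).map Fs.subtype, isSylowIn_of_sylow S, ?_⟩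
  intro hle
  have hR := isSylowIn_of_sylow S
  have hRY : (S : Subgroup ↥Fs).map Fs.subtype ≤ Y := by
    rw [hY]
    exact le_inf (hle.trans le_sup_right) hR.le
  exact hR.not_dvd (hrd.trans (Subgroup.relIndex_dvd_of_le_left Fs hRY))

/-- Step 2: an `R`-invariant Sylow subgroup of `N` not centralized by `R`. -/
theorem step2 [Finite G] (N R : Subgroup G) [N.Normal] (r : ℕ) (hr : r.Prime) (hRp : IsPGroup r R)
    (hrN : ¬ r ∣ Nat.card N) (hRC : ¬ R ≤ Subgroup.centralizer (N : Set G)) :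
    ∃ p : ℕ, p.Prime ∧ ∃ Q : Subgroup G, IsSylowIn p Q N ∧ R ≤ Subgroup.normalizer (Q : Set G) ∧
      ¬ Q ≤ Subgroup.centralizer (R : Set G) := by
  haveI : Fact r.Prime := ⟨hr⟩
  have hcop : (Nat.card R).Coprime (Nat.card N) := by
    obtain ⟨k, hk⟩ := hRp.exists_card_eq
    rw [hk]
    exact Nat.Coprime.pow_left _ ((Nat.Prime.coprime_iff_not_dvd hr).mpr hrN)
  obtain ⟨Z, hZ⟩ : ∃ Z : Subgroup G, Z = N ⊓ Subgroup.centralizer (R : Set G) := ⟨_, rfl⟩
  have hne : Z.relIndex N ≠ 1 := by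
    intro h
    rw [Subgroup.relIndex_eq_one] at h
    apply hRC
    rw [Subgroup.le_centralizer_iff]
    intro x hx
    have := h hx
    rw [hZ] at this
    exact this.2
  obtain ⟨p, hp, hpd⟩ := Nat.exists_prime_and_dvd hne
  haveI : Fact p.Prime := ⟨hp⟩
  have hRN : R ≤ Subgroup.normalizer (N : Set G) := by
    rw [Subgroup.normalizer_eq_top_iff.mpr inferInstance]; exact le_top
  haveI : Group.IsSolvable R := by
    haveI : Group.IsNilpotent R := hRp.isNilpotent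
    infer_instance
  obtain ⟨Q, hQN, hQp, hRQ, hQc⟩ := Cfsg.Agent.Lib.Helper5.exists_invariant_sylow_sub R N hRN hcop
    inferInstance p
  have hQs : IsSylowIn p Q N := by
    refine ⟨hQN, hQp, ?_⟩
    have h1 := Cfsg.Agent.Lib.Helper22.card_mul_relIndex_of_le hQN
    have hN0 : Nat.card N ≠ 0 := Nat.card_pos.ne'
    intro hd
    have h2 : Q.relIndex N = Nat.card N / p ^ (Nat.card N).factorization p := by
      rw [hQc] at h1
      exact (Nat.div_eq_of_eq_mul_right (pow_pos hp.pos _) h1.symm).symm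
    rw [h2] at hd
    exact Nat.not_dvd_ordCompl hp hN0 hd
  refine ⟨p, hp, Q, hQs, hRQ, ?_⟩
  intro hle
  have hQZ : Q ≤ Z := by rw [hZ]; exact le_inf hQN hle
  exact hQs.not_dvd (hpd.trans (Subgroup.relIndex_dvd_of_le_left N hQZ))


/-- Step 3: double Frattini argument. -/
theorem step3 [Finite G] (N Fs R Q : Subgroup G) [N.Normal] [Fs.Normal] (hNF : N ≤ Fs) (r p : ℕ)
    [Fact r.Prime] [Fact p.Prime] (hR : IsSylowIn r R Fs) (hQ : IsSylowIn p Q N)
    (hRQ : R ≤ Subgroup.normalizer (Q : Set G)) (h : G) :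
    ∃ f ∈ Fs, f * h ∈ Subgroup.normalizer (Q : Set G) ∧ f * h ∈ Subgroup.normalizer (R : Set G) := by
  have hhN : h ∈ Subgroup.normalizer (N : Set G) := by
    rw [Subgroup.normalizer_eq_top_iff.mpr inferInstance]; exact Subgroup.mem_top _
  obtain ⟨n1, hn1, hc1⟩ := hQ.frattini hhN
  obtain ⟨L, hL⟩ : ∃ L : Subgroup G, L = Fs ⊓ Subgroup.normalizer (Q : Set G) := ⟨_, rfl⟩
  have hRL : IsSylowIn r R L := by
    rw [hL]
    exact hR.of_le (le_inf hR.le hRQ) inf_le_left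
  have hc1L : n1 * h ∈ Subgroup.normalizer (L : Set G) := by
    rw [hL]
    apply mem_normalizer_inf
    · rw [Subgroup.normalizer_eq_top_iff.mpr inferInstance]; exact Subgroup.mem_top _
    · exact Subgroup.le_normalizer hc1
  obtain ⟨y, hy, hc⟩ := hRL.frattini hc1L
  rw [hL] at hy
  refine ⟨y * n1, Fs.mul_mem hy.1 (hNF hn1), ?_, ?_⟩
  · rw [mul_assoc]
    exact Subgroup.mul_mem _ hy.2 hc1
  · rw [mul_assoc]
    exact hc

theorem tau (P0 : Subgroup G) (c : G) (hc : c ∈ Subgroup.normalizer (P0 : Set G)) (w : ↥P0) (k : ℕ) :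
    ∃ t : ↥P0, (t : G) = ((w : G) * c) ^ k * (c ^ k)⁻¹ ∧
      Abelianization.of t = ∏ j ∈ Finset.range k,
        Cfsg.Agent.Lib.Helper1.abAct P0 ((⟨c, hc⟩ : Subgroup.normalizer (P0 : Set G)) ^ j)
          (Abelianization.of w) := by
  induction k with
  | zero => exact ⟨1, by simp, by simp⟩
  | succ k ih =>
    obtain ⟨t, ht, hto⟩ := ih
    have hmem : c ^ k * (w : G) * (c ^ k)⁻¹ ∈ P0 :=
      (Subgroup.mem_normalizer_iff.mp (Subgroup.pow_mem _ hc k) _).mp w.2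
    refine ⟨t * ⟨c ^ k * (w : G) * (c ^ k)⁻¹, hmem⟩, ?_, ?_⟩
    · rw [Subgroup.coe_mul, ht]
      simp only []
      rw [pow_succ, pow_succ]
      group
    · rw [map_mul, hto, Finset.prod_range_succ]
      congr 1


/-- Step 5: some element of the coset `Q c` has nontrivial `m`-th power. -/
theorem step5 [Finite G] (N Fs R Q : Subgroup G) (m' : ℕ) (c : G)
    (hRF : R ≤ Fs) (hRN : R ⊓ N = ⊥) (hcopRN : (Nat.card R).Coprime (Nat.card N))
    (hQN : Q ≤ N) (hRQ : R ≤ Subgroup.normalizer (Q : Set G))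
    (hQC : ¬ Q ≤ Subgroup.centralizer (R : Set G))
    (hcQ : c ∈ Subgroup.normalizer (Q : Set G)) (hcR : c ∈ Subgroup.normalizer (R : Set G))
    (hordc : ∀ j : ℕ, c ^ j ∈ Fs ↔ (m' + 1) ∣ j)
    (hfpf : ∀ x : G, x ∉ Fs → ∀ u ∈ Fs, u * x * u⁻¹ * x⁻¹ ∈ N → u ∈ N)
    (hcm : c ^ (m' + 1) = 1) (p : ℕ) [Fact p.Prime] (hQp : IsPGroup p Q) :
    ∃ w ∈ Q, (w * c) ^ (m' + 1) ≠ 1 := by
  classical
  obtain ⟨𝒮, h𝒮⟩ : ∃ 𝒮 : Set (Subgroup G), 𝒮 = {P1 | P1 ≤ Q ∧ R ≤ Subgroup.normalizer (P1 : Set G) ∧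
      c ∈ Subgroup.normalizer (P1 : Set G) ∧ ¬ P1 ≤ Subgroup.centralizer (R : Set G)} := ⟨_, rfl⟩
  have hQS : Q ∈ 𝒮 := by rw [h𝒮]; exact ⟨le_rfl, hRQ, hcQ, hQC⟩
  haveI : Nonempty 𝒮 := ⟨⟨Q, hQS⟩⟩
  obtain ⟨⟨P0, hP0⟩, hmin⟩ := Finite.exists_min (fun P1 : 𝒮 => Nat.card (P1 : Subgroup G))
  have hP0' := hP0
  rw [h𝒮] at hP0'
  obtain ⟨hP0Q, hRP0, hcP0, hP0C⟩ := hP0'
  by_contra hall
  push Not at hall
  -- the derived subgroup
  obtain ⟨D, hD⟩ : ∃ D : Subgroup G, D = ⁅P0, P0⁆ := ⟨_, rfl⟩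
  have hDle : D ≤ P0 := by rw [hD]; exact Subgroup.commutator_le_self P0
  have hP0p : IsPGroup p P0 := hQp.to_le hP0Q
  have hP0ne : P0 ≠ ⊥ := by
    intro h
    apply hP0C
    rw [h]
    exact bot_le
  have hDne : D ≠ P0 := by
    intro h
    haveI : Nontrivial ↥P0 := (Subgroup.nontrivial_iff_ne_bot P0).mpr hP0ne
    haveI : Group.IsNilpotent ↥P0 := hP0p.isNilpotent
    have h1 := Group.IsSolvable.commutator_lt_top_of_nontrivial ↥P0
    have h2 : (commutator ↥P0).map P0.subtype = (⊤ : Subgroup ↥P0).map P0.subtype := by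
      rw [Subgroup.map_subtype_commutator, ← hD, h]
      ext x
      simp
    have h3 := Subgroup.map_injective P0.subtype_injective h2
    exact h1.ne h3
  have hnormD : Subgroup.normalizer (P0 : Set G) ≤ Subgroup.normalizer (D : Set G) := by
    rw [hD]
    exact Cfsg.Agent.Lib.Helper1.le_normalizer_commutator_self P0
  have hDC : D ≤ Subgroup.centralizer (R : Set G) := by
    by_contra hDC
    have hDS : D ∈ 𝒮 := by
      rw [h𝒮]
      exact ⟨hDle.trans hP0Q, hRP0.trans hnormD, hnormD hcP0, hDC⟩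
    have h1 := hmin ⟨D, hDS⟩
    exact hDne (Subgroup.eq_of_le_of_card_ge hDle h1)
  -- the action
  obtain ⟨L, hL⟩ : ∃ L : Subgroup G, L = Subgroup.normalizer (P0 : Set G) := ⟨_, rfl⟩
  subst hL
  obtain ⟨K, hK⟩ : ∃ K : Subgroup (Subgroup.normalizer (P0 : Set G)),
      K = R.subgroupOf (Subgroup.normalizer (P0 : Set G)) := ⟨_, rfl⟩
  haveI : Fintype K := Fintype.ofFinite K
  have hcardK : Fintype.card K = Nat.card R := by
    rw [← Nat.card_eq_fintype_card, hK]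
    exact Nat.card_congr (Subgroup.subgroupOfEquivOfLe hRP0).toEquiv
  have hnorm : ∀ k ∈ K, (⟨c, hcP0⟩ : Subgroup.normalizer (P0 : Set G)) * k *
      (⟨c, hcP0⟩ : Subgroup.normalizer (P0 : Set G))⁻¹ ∈ K := by
    intro k hk
    rw [hK, Subgroup.mem_subgroupOf] at hk ⊢
    simp only [Subgroup.coe_mul, Subgroup.coe_inv]
    exact (Subgroup.mem_normalizer_iff.mp hcR _).mp hk
  have hfpf' : ∀ j, 0 < j → j < m' + 1 → ∀ k ∈ K,
      (⟨c, hcP0⟩ : Subgroup.normalizer (P0 : Set G)) ^ j * k =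
        k * (⟨c, hcP0⟩ : Subgroup.normalizer (P0 : Set G)) ^ j → k = 1 := by
    intro j hj0 hjm k hk hcomm
    rw [hK, Subgroup.mem_subgroupOf] at hk
    have hcomm' : c ^ j * (k : G) = (k : G) * c ^ j := by
      have := congrArg Subtype.val hcomm
      simpa using this
    have hcj : c ^ j ∉ Fs := by
      rw [hordc]
      exact Nat.not_dvd_of_pos_of_lt hj0 hjm
    have hkN : (k : G) ∈ N := by
      apply hfpf (c ^ j) hcj (k : G) (hRF hk)
      have : (k : G) * c ^ j * (k : G)⁻¹ * (c ^ j)⁻¹ = 1 := by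
        rw [← hcomm']; group
      rw [this]
      exact N.one_mem
    have hk1 : (k : G) ∈ R ⊓ N := ⟨hk, hkN⟩
    rw [hRN, Subgroup.mem_bot] at hk1
    exact Subtype.ext hk1
  have hN : ∀ wb : Abelianization ↥P0, ∏ j ∈ Finset.range (m' + 1),
      Cfsg.Agent.Lib.Helper1.abAct P0 ((⟨c, hcP0⟩ : Subgroup.normalizer (P0 : Set G)) ^ j) wb = 1 := by
    intro wb
    obtain ⟨w, rfl⟩ := QuotientGroup.mk_surjective wb
    obtain ⟨t, ht, hto⟩ := tau P0 c hcP0 w (m' + 1)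
    have ht1 : t = 1 := by
      apply Subtype.ext
      rw [ht, hcm, hall (w : G) (hP0Q w.2)]
      simp
    rw [ht1, map_one] at hto
    exact hto.symm
  have hcop' : ∀ x : Abelianization ↥P0, x ^ Fintype.card K = 1 → x = 1 := by
    intro x hx
    rw [hcardK] at hx
    have h1 : orderOf x ∣ Nat.card R := orderOf_dvd_of_pow_eq_one hx
    have h2 : orderOf x ∣ Nat.card N := by
      refine (orderOf_dvd_natCard x).trans ?_
      refine (Subgroup.card_dvd_of_surjective (Abelianization.of : ↥P0 →* Abelianization ↥P0)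
        QuotientGroup.mk_surjective).trans ?_
      exact Subgroup.card_dvd_of_le (hP0Q.trans hQN)
    exact orderOf_eq_one_iff.mp (Nat.eq_one_of_dvd_coprimes hcopRN h1 h2)
  have htriv := MazurovA.trivial_of_trace (Cfsg.Agent.Lib.Helper1.abAct P0) K
    (⟨c, hcP0⟩ : Subgroup.normalizer (P0 : Set G)) m' hnorm hfpf' hN hcop'
  -- R acts trivially modulo D
  have hRD : ∀ u ∈ R, ∀ x ∈ P0, u * x * u⁻¹ * x⁻¹ ∈ D := by
    intro u hu x hx
    have hxi : x⁻¹ ∈ P0 := P0.inv_mem hx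
    have huL : u ∈ Subgroup.normalizer (P0 : Set G) := hRP0 hu
    have huK : (⟨u, huL⟩ : Subgroup.normalizer (P0 : Set G)) ∈ K := by
      rw [hK, Subgroup.mem_subgroupOf]; exact hu
    have h1 := htriv ⟨u, huL⟩ huK (Abelianization.of ⟨x⁻¹, hxi⟩)
    rw [Cfsg.Agent.Lib.Helper1.abAct_of] at h1
    have h2 := (MonoidHom.eq_iff (f := (Abelianization.of : ↥P0 →* Abelianization ↥P0))).mp h1
    rw [Abelianization.ker_of] at h2
    have h3 : P0.subtype _ ∈ (commutator ↥P0).map P0.subtype := Subgroup.mem_map_of_mem _ h2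
    rw [Subgroup.map_subtype_commutator, ← hD] at h3
    have h4 := D.inv_mem h3
    have e : u * x * u⁻¹ * x⁻¹ = (P0.subtype ((⟨x⁻¹, hxi⟩ : ↥P0)⁻¹ *
        ⟨u * x⁻¹ * u⁻¹, (Subgroup.mem_normalizer_iff.mp huL _).mp hxi⟩))⁻¹ := by
      simp only [Subgroup.subtype_apply, Subgroup.coe_mul, Subgroup.coe_inv]
      group
    rw [e]
    exact h4
  apply hP0C
  intro x hx
  rw [Subgroup.mem_centralizer_iff]
  intro u hu
  have hzD := hRD u hu x hx
  have hz : u * (u * x * u⁻¹ * x⁻¹) = (u * x * u⁻¹ * x⁻¹) * u :=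
    (Subgroup.mem_centralizer_iff.mp (hDC hzD)) u hu
  have hcop : (orderOf u).Coprime (orderOf (u * x * u⁻¹ * x⁻¹)) := by
    have h1 : orderOf u ∣ Nat.card R := Subgroup.orderOf_dvd_natCard R hu
    have h2 : orderOf (u * x * u⁻¹ * x⁻¹) ∣ Nat.card N :=
      Subgroup.orderOf_dvd_natCard N (hQN (hP0Q (hDle hzD)))
    exact Nat.Coprime.coprime_dvd_left h1 (Nat.Coprime.coprime_dvd_right h2 hcopRN)
  have h5 := conj_eq_of_central_comm u x hz hcop
  calc u * x = (u * x * u⁻¹) * u := by group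
    _ = x * u := by rw [h5]


theorem core [Finite G] (N Fs : Subgroup G) [N.Normal] [Fs.Normal] (hNF : N ≤ Fs) (m : ℕ) (hm : 2 ≤ m)
    (h : G) (hord : ∀ j : ℕ, h ^ j ∈ Fs ↔ m ∣ j)
    (hpow : ∀ x : G, x ∉ Fs → x ^ m ∈ N)
    (hfpf : ∀ x : G, x ∉ Fs → ∀ u ∈ Fs, u * x * u⁻¹ * x⁻¹ ∈ N → u ∈ N)
    (hcop : (N.relIndex Fs).Coprime (Nat.card N))
    (hnot : ¬ Fs ≤ N ⊔ Subgroup.centralizer (N : Set G)) :
    ∃ p : ℕ, p.Prime ∧ p ∣ Nat.card N ∧ ∃ g : G, orderOf g = p * m := by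
  obtain ⟨r, hr, hrN, R, hR, hRC⟩ := step1 N Fs hNF hcop hnot
  obtain ⟨p, hp, Q, hQ, hRQ, hQC⟩ := step2 N R r hr hR.isPGroup hrN hRC
  haveI : Fact r.Prime := ⟨hr⟩
  haveI : Fact p.Prime := ⟨hp⟩
  obtain ⟨f, hf, hcQ, hcR⟩ := step3 N Fs R Q hNF r p hR hQ hRQ h
  obtain ⟨c, hc⟩ : ∃ c, c = f * h := ⟨_, rfl⟩
  rw [← hc] at hcQ hcR
  have hordc : ∀ j : ℕ, c ^ j ∈ Fs ↔ m ∣ j := by
    intro j
    rw [hc, pow_mul_mem_iff Fs hf]
    exact hord j
  have hm0 : 0 < m := by omega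
  have hnotmem : ∀ g : G, (∀ j : ℕ, g ^ j ∈ Fs ↔ m ∣ j) → g ∉ Fs := by
    intro g hg hgF
    have := (hg 1).mp (by rwa [pow_one])
    have := Nat.le_of_dvd Nat.one_pos this
    omega
  have hcF : c ∉ Fs := hnotmem c hordc
  have hcN : c ^ m ∈ N := hpow c hcF
  by_cases hc1 : c ^ m = 1
  · obtain ⟨m', rfl⟩ : ∃ m', m = m' + 1 := ⟨m - 1, by omega⟩
    have hcopRN : (Nat.card R).Coprime (Nat.card N) := by
      obtain ⟨k, hk⟩ := hR.isPGroup.exists_card_eq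
      rw [hk]
      exact Nat.Coprime.pow_left _ ((Nat.Prime.coprime_iff_not_dvd hr).mpr hrN)
    have hRN : R ⊓ N = ⊥ := Subgroup.inf_eq_bot_of_coprime hcopRN
    obtain ⟨w, hw, hw1⟩ := step5 N Fs R Q m' c hR.le hRN hcopRN hQ.le hRQ hQC hcQ hcR hordc hfpf hc1 p
      hQ.isPGroup
    have hwF : w * f ∈ Fs := Fs.mul_mem (hNF (hQ.le hw)) hf
    have hordg : ∀ j : ℕ, (w * c) ^ j ∈ Fs ↔ (m' + 1) ∣ j := by
      intro j
      rw [hc, ← mul_assoc, pow_mul_mem_iff Fs hwF]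
      exact hord j
    exact finish N Fs (m' + 1) hm0 (w * c) hordg (hpow _ (hnotmem _ hordg)) hw1
  · exact finish N Fs m hm0 c hordc hcN hc1

end Cfsg.Agent.Lib.Helper18.MazurovB
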