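import Mathlib
import Cfsg.Agent.Lib.helper7.NCV.Defs
import Cfsg.Agent.Lib.Helper1.NCVA4
import Cfsg.Agent.Lib.Helper1.NCVA5core
import Cfsg.Agent.Lib.Helper16.NCVC9

set_option autoImplicit false

namespace Cfsg.Agent.Lib.helper7.NCV

open Matrix

universe u

variable {F : Type u} [Field F] {n : ℕ}

/-- a right inverse of the matrix of `a : GL` is the matrix of `a⁻¹` -/
theorem ncvc14_inv (a : GL (Fin 2) F) (A' : Matrix (Fin 2) (Fin 2) F)
    (h : (a : Matrix (Fin 2) (Fin 2) F) * A' = 1) :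
    ((a⁻¹ : GL (Fin 2) F) : Matrix (Fin 2) (Fin 2) F) = A' := by
  calc ((a⁻¹ : GL (Fin 2) F) : Matrix (Fin 2) (Fin 2) F)
      = ((a⁻¹ : GL (Fin 2) F) : Matrix (Fin 2) (Fin 2) F) * ((a : Matrix (Fin 2) (Fin 2) F) * A') := by
        rw [h, Matrix.mul_one]
    _ = A' := by
        rw [← Matrix.mul_assoc, ← Units.val_mul, inv_mul_cancel, Units.val_one, Matrix.one_mul]

/-- a nilpotent group containing `d = diag(s, s⁻¹)`, `s² ≠ 1`, contains no `[[1,t],[0,1]]`, `t ≠ 0` -/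
theorem ncvc14_upper (X : Subgroup (GL (Fin 2) F)) [Group.IsNilpotent ↥X] (s : Fˣ)
    (hs : (s : F) ^ 2 ≠ 1) (d : GL (Fin 2) F) (hd : d ∈ X)
    (hdm : (d : Matrix (Fin 2) (Fin 2) F) = !![(s : F), 0; 0, ((s⁻¹ : Fˣ) : F)])
    (a₀ : GL (Fin 2) F) (ha₀ : a₀ ∈ X) (t₀ : F) (ht₀ : t₀ ≠ 0)
    (ha₀m : (a₀ : Matrix (Fin 2) (Fin 2) F) = !![1, t₀; 0, 1]) : False := by
  have hss : (s : F) * ((s⁻¹ : Fˣ) : F) = 1 := by rw [← Units.val_mul, mul_inv_cancel, Units.val_one]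
  have hdinv : ((d⁻¹ : GL (Fin 2) F) : Matrix (Fin 2) (Fin 2) F)
      = !![((s⁻¹ : Fˣ) : F), 0; 0, (s : F)] := by
    apply ncvc14_inv
    rw [hdm]
    ext i j
    fin_cases i <;> fin_cases j <;> simp [Matrix.mul_apply, Fin.sum_univ_two, mul_comm]
  have h1 := gt_abstract (Γ := ↥X) ⟨d, hd⟩
    {x : ↥X | ∃ t : F, t ≠ 0 ∧ ((x : GL (Fin 2) F) : Matrix (Fin 2) (Fin 2) F) = !![1, t; 0, 1]}
    ⟨a₀, ha₀⟩ ⟨t₀, ht₀, ha₀m⟩
    (by
      rintro a ⟨t, ht, hat⟩
      refine ⟨((s : F) ^ 2 - 1) * t, mul_ne_zero (sub_ne_zero.mpr hs) ht, ?_⟩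
      have hainv : (((a : GL (Fin 2) F)⁻¹ : GL (Fin 2) F) : Matrix (Fin 2) (Fin 2) F)
          = !![1, -t; 0, 1] := by
        apply ncvc14_inv
        rw [hat]
        ext i j
        fin_cases i <;> fin_cases j <;> simp [Matrix.mul_apply, Fin.sum_univ_two]
      simp only [Subgroup.coe_mul, Subgroup.coe_inv, Units.val_mul]
      rw [hdm, hdinv, hat, hainv]
      ext i j
      fin_cases i <;> fin_cases j <;> simp [Matrix.mul_apply, Fin.sum_univ_two]
      field_simp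
      ring)
  obtain ⟨t, ht, h1t⟩ := h1
  have := congrFun (congrFun h1t 0) 1
  simp at this
  exact ht this.symm

/-- the lower triangular analogue -/
theorem ncvc14_lower (X : Subgroup (GL (Fin 2) F)) [Group.IsNilpotent ↥X] (s : Fˣ)
    (hs : (s : F) ^ 2 ≠ 1) (d : GL (Fin 2) F) (hd : d ∈ X)
    (hdm : (d : Matrix (Fin 2) (Fin 2) F) = !![(s : F), 0; 0, ((s⁻¹ : Fˣ) : F)])
    (a₀ : GL (Fin 2) F) (ha₀ : a₀ ∈ X) (t₀ : F) (ht₀ : t₀ ≠ 0)
    (ha₀m : (a₀ : Matrix (Fin 2) (Fin 2) F) = !![1, 0; t₀, 1]) : False := by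
  have hss : (s : F) * ((s⁻¹ : Fˣ) : F) = 1 := by rw [← Units.val_mul, mul_inv_cancel, Units.val_one]
  have hs' : (((s⁻¹ : Fˣ) : F)) ^ 2 ≠ 1 := by
    intro h
    apply hs
    have : ((s : F) * ((s⁻¹ : Fˣ) : F)) ^ 2 = 1 := by rw [hss, one_pow]
    rw [mul_pow, h, mul_one] at this
    exact this
  have hdinv : ((d⁻¹ : GL (Fin 2) F) : Matrix (Fin 2) (Fin 2) F)
      = !![((s⁻¹ : Fˣ) : F), 0; 0, (s : F)] := by
    apply ncvc14_inv
    rw [hdm]
    ext i j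
    fin_cases i <;> fin_cases j <;> simp [Matrix.mul_apply, Fin.sum_univ_two, mul_comm]
  have h1 := gt_abstract (Γ := ↥X) ⟨d, hd⟩
    {x : ↥X | ∃ t : F, t ≠ 0 ∧ ((x : GL (Fin 2) F) : Matrix (Fin 2) (Fin 2) F) = !![1, 0; t, 1]}
    ⟨a₀, ha₀⟩ ⟨t₀, ht₀, ha₀m⟩
    (by
      rintro a ⟨t, ht, hat⟩
      refine ⟨((((s⁻¹ : Fˣ) : F)) ^ 2 - 1) * t, mul_ne_zero (sub_ne_zero.mpr hs') ht, ?_⟩
      have hainv : (((a : GL (Fin 2) F)⁻¹ : GL (Fin 2) F) : Matrix (Fin 2) (Fin 2) F)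
          = !![1, 0; -t, 1] := by
        apply ncvc14_inv
        rw [hat]
        ext i j
        fin_cases i <;> fin_cases j <;> simp [Matrix.mul_apply, Fin.sum_univ_two]
      simp only [Subgroup.coe_mul, Subgroup.coe_inv, Units.val_mul]
      rw [hdm, hdinv, hat, hainv]
      ext i j
      fin_cases i <;> fin_cases j <;> simp [Matrix.mul_apply, Fin.sum_univ_two]
      ring)
  obtain ⟨t, ht, h1t⟩ := h1
  have := congrFun (congrFun h1t 1) 0
  simp at this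
  exact ht this.symm

theorem dsepu (X : Subgroup (GL (Fin 2) F)) [Group.IsNilpotent ↥X] (s : Fˣ)
    (hs : (s : F) ^ 2 ≠ 1) (v : Fin 2 → F) (hv : v ≠ 0)
    (hd : Matrix.SpecialLinearGroup.toGL (dgSL s) ∈ X)
    (hu : Matrix.SpecialLinearGroup.toGL (uvSL v) ∈ X) : False := by
  have hss : (s : F) * ((s⁻¹ : Fˣ) : F) = 1 := by rw [← Units.val_mul, mul_inv_cancel, Units.val_one]
  have hdm : ((Matrix.SpecialLinearGroup.toGL (dgSL s) : GL (Fin 2) F) : Matrix (Fin 2) (Fin 2) F)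
      = !![(s : F), 0; 0, ((s⁻¹ : Fˣ) : F)] := rfl
  have hum : ((Matrix.SpecialLinearGroup.toGL (uvSL v) : GL (Fin 2) F) : Matrix (Fin 2) (Fin 2) F)
      = uvM v := rfl
  -- X stabilises F v
  have hstab := ncva5_core (F := F) (Γ := ↥X) (V := Fin 2 → F)
    (fun x w => ((x : GL (Fin 2) F) : Matrix (Fin 2) (Fin 2) F) *ᵥ w)
    (by intro w; simp)
    (by intro x y w; simp only [Subgroup.coe_mul, Units.val_mul, Matrix.mulVec_mulVec])
    (by intro x c w; simp [Matrix.mulVec_smul])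
    ⟨_, hu⟩ v
    (by
      show uvM v *ᵥ v = v
      rw [ncvc9_mulVec_eq]
      simp [mul_comm])
    (by
      intro w hw
      exact uv_fix v hv w hw)
    (by
      intro c w hw h
      exact uv_eig v c w hw h)
  obtain ⟨c, hc⟩ := hstab ⟨_, hd⟩
  have hc' : (!![(s : F), 0; 0, ((s⁻¹ : Fˣ) : F)] : Matrix (Fin 2) (Fin 2) F) *ᵥ v = c • v := hc
  have e0 := congrFun hc' 0
  have e1 := congrFun hc' 1
  simp [Matrix.mulVec, dotProduct, Fin.sum_univ_two] at e0 e1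
  -- v 0 * v 1 = 0
  have hv01 : v 0 = 0 ∨ v 1 = 0 := by
    by_contra hcon
    push Not at hcon
    obtain ⟨h0, h1⟩ := hcon
    have hs1 : (s : F) = c := by
      rcases e0 with h | h
      · exact h
      · exact absurd h h0
    have hs2 : ((s : F))⁻¹ = c := by
      rcases e1 with h | h
      · exact h
      · exact absurd h h1
    apply hs
    have hthis : (s : F) * ((s : F))⁻¹ = 1 := mul_inv_cancel₀ s.ne_zero
    rw [hs2, ← hs1] at hthis
    rw [pow_two]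
    exact hthis
  rcases hv01 with h0 | h1
  · -- v 0 = 0 : lower triangular
    have hv1 : v 1 ≠ 0 := by
      intro h1
      apply hv
      funext i
      fin_cases i
      · exact h0
      · exact h1
    apply ncvc14_lower X s hs _ hd hdm _ hu (-(v 1 * v 1)) (neg_ne_zero.mpr (mul_ne_zero hv1 hv1))
    rw [hum, uvM, h0]
    simp
  · -- v 1 = 0 : upper triangular
    have hv0 : v 0 ≠ 0 := by
      intro h0
      apply hv
      funext i
      fin_cases i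
      · exact h0
      · exact h1
    apply ncvc14_upper X s hs _ hd hdm _ hu (v 0 * v 0) (mul_ne_zero hv0 hv0)
    rw [hum, uvM, h1]
    simp

end Cfsg.Agent.Lib.helper7.NCV
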