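import Mathlib
import Cfsg.Agent.Lib.helper7.NCV.Defs
import Cfsg.Agent.Lib.Helper18.NCVC5

set_option autoImplicit false

namespace Cfsg.Agent.Lib.helper7.NCV

open Matrix

universe u

variable {F : Type u} [Field F] {n : ℕ}

/-- own copy of row C3: an affine function `α + β g` (`β ≠ 0`) of an irreducible matrix is
irreducible -/
theorem ncvc7_irr_affine (g : Matrix (Fin 2) (Fin 2) F) (h : Irr g) (α β : F) (hβ : β ≠ 0) :
    Irr (α • (1 : Matrix (Fin 2) (Fin 2) F) + β • g) := by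
  intro v hv c hc
  apply h v hv ((c - α) / β)
  rw [Matrix.add_mulVec, Matrix.smul_mulVec, Matrix.one_mulVec, Matrix.smul_mulVec] at hc
  have h1 : β • (g *ᵥ v) = (c - α) • v := by
    rw [sub_smul, ← hc]
    abel
  calc g *ᵥ v = β⁻¹ • (β • (g *ᵥ v)) := by rw [smul_smul, inv_mul_cancel₀ hβ, one_smul]
    _ = ((c - α) / β) • v := by rw [h1, smul_smul, div_eq_inv_mul]

/-- an irreducible matrix is invertible -/
theorem ncvc7_det_ne (c : Matrix (Fin 2) (Fin 2) F) (h : Irr c) : c.det ≠ 0 := by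
  intro hdet
  obtain ⟨v, hv, hcv⟩ := Matrix.exists_mulVec_eq_zero_iff.mpr hdet
  apply h v hv 0
  rw [hcv, zero_smul]

/-- a scalar matrix is not irreducible -/
theorem ncvc7_not_irr_scalar (a : F) : ¬ Irr (a • (1 : Matrix (Fin 2) (Fin 2) F)) := by
  intro h
  apply h ![1, 0] (by
    intro h0
    have := congrFun h0 0
    simp at this) a
  rw [Matrix.smul_mulVec, Matrix.one_mulVec]

theorem sepc (X : Subgroup (GL (Fin 2) F)) [Group.IsNilpotent ↥X] (g g' : GL (Fin 2) F)
    (hg : g ∈ X) (hg' : g' ∈ X) (hi : Irr (g : Matrix (Fin 2) (Fin 2) F))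
    (hi' : Irr (g' : Matrix (Fin 2) (Fin 2) F))
    (ht : (g : Matrix (Fin 2) (Fin 2) F).trace ≠ 0)
    (ht' : (g' : Matrix (Fin 2) (Fin 2) F).trace ≠ 0) :
    cen (g : Matrix (Fin 2) (Fin 2) F) = cen (g' : Matrix (Fin 2) (Fin 2) F) := by
  obtain ⟨α, β, hβ, hall⟩ := ceng X g hg hi ht
  obtain ⟨μ, hμ⟩ := hall g' hg'
  set c : Matrix (Fin 2) (Fin 2) F :=
    α • (1 : Matrix (Fin 2) (Fin 2) F) + β • (g : Matrix (Fin 2) (Fin 2) F) with hc
  have hcirr : Irr c := ncvc7_irr_affine _ hi α β hβ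
  have hcdet : c.det ≠ 0 := ncvc7_det_ne c hcirr
  have hinv : ((g'⁻¹ : GL (Fin 2) F) : Matrix (Fin 2) (Fin 2) F) *
      (g' : Matrix (Fin 2) (Fin 2) F) = 1 := by
    rw [← Units.val_mul, inv_mul_cancel, Units.val_one]
  -- g' c = μ c g'
  have hgc : (g' : Matrix (Fin 2) (Fin 2) F) * c = μ • (c * (g' : Matrix (Fin 2) (Fin 2) F)) := by
    calc (g' : Matrix (Fin 2) (Fin 2) F) * c
        = (g' : Matrix (Fin 2) (Fin 2) F) * c * (((g'⁻¹ : GL (Fin 2) F) :
            Matrix (Fin 2) (Fin 2) F) * (g' : Matrix (Fin 2) (Fin 2) F)) := by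
          rw [hinv, Matrix.mul_one]
      _ = μ • (c * (g' : Matrix (Fin 2) (Fin 2) F)) := by
          rw [← Matrix.mul_assoc, hμ, Matrix.smul_mul]
  -- μ = 1
  have hμ1 : μ = 1 := by
    have hd := congrArg Matrix.det hμ
    rw [Matrix.det_mul, Matrix.det_mul, Matrix.det_smul, Fintype.card_fin] at hd
    have hdg : (g' : Matrix (Fin 2) (Fin 2) F).det *
        ((g'⁻¹ : GL (Fin 2) F) : Matrix (Fin 2) (Fin 2) F).det = 1 := by
      rw [← Matrix.det_mul, ← Units.val_mul, mul_inv_cancel, Units.val_one, Matrix.det_one]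
    have hμ2 : μ ^ 2 = 1 := by
      have : (μ ^ 2 - 1) * c.det = 0 := by
        linear_combination (-1) * hd + c.det * hdg
      rcases mul_eq_zero.mp this with h | h
      · exact sub_eq_zero.mp h
      · exact absurd h hcdet
    by_contra hne
    have hm1 : μ = -1 := by
      have : (μ - 1) * (μ + 1) = 0 := by linear_combination hμ2
      rcases mul_eq_zero.mp this with h | h
      · exact absurd (sub_eq_zero.mp h) hne
      · exact eq_neg_of_add_eq_zero_left h
    have h2 : (2 : F) ≠ 0 := by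
      intro h2
      apply hne
      rw [hm1]
      linear_combination (-1) * h2
    rw [hm1] at hgc
    have t1 : ((g' : Matrix (Fin 2) (Fin 2) F) * c * c.adjugate).trace
        = c.det * (g' : Matrix (Fin 2) (Fin 2) F).trace := by
      rw [Matrix.mul_assoc, Matrix.mul_adjugate, Matrix.mul_smul, Matrix.mul_one, Matrix.trace_smul,
        smul_eq_mul]
    have t2 : ((g' : Matrix (Fin 2) (Fin 2) F) * c * c.adjugate).trace
        = -(c.det * (g' : Matrix (Fin 2) (Fin 2) F).trace) := by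
      rw [hgc, Matrix.smul_mul, Matrix.trace_smul, Matrix.trace_mul_comm, ← Matrix.mul_assoc,
        Matrix.adjugate_mul, Matrix.smul_mul, Matrix.one_mul, Matrix.trace_smul, smul_eq_mul,
        smul_eq_mul]
      ring
    have : 2 * c.det * (g' : Matrix (Fin 2) (Fin 2) F).trace = 0 := by
      linear_combination t2 - t1
    rcases mul_eq_zero.mp this with h | h
    · rcases mul_eq_zero.mp h with h | h
      · exact h2 h
      · exact hcdet h
    · exact ht' h
  rw [hμ1, one_smul] at hgc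
  -- g' commutes with g
  have hgg : (g' : Matrix (Fin 2) (Fin 2) F) * (g : Matrix (Fin 2) (Fin 2) F)
      = (g : Matrix (Fin 2) (Fin 2) F) * (g' : Matrix (Fin 2) (Fin 2) F) := by
    rw [hc, Matrix.mul_add, Matrix.add_mul, Matrix.mul_smul, Matrix.smul_mul, Matrix.mul_one,
      Matrix.one_mul, Matrix.mul_smul, Matrix.smul_mul] at hgc
    have h3 : β • ((g' : Matrix (Fin 2) (Fin 2) F) * (g : Matrix (Fin 2) (Fin 2) F))
        = β • ((g : Matrix (Fin 2) (Fin 2) F) * (g' : Matrix (Fin 2) (Fin 2) F)) :=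
      add_left_cancel hgc
    exact smul_right_injective _ hβ h3
  obtain ⟨α', β', hαβ'⟩ := ncvc5_comm_affine (g : Matrix (Fin 2) (Fin 2) F)
    (g' : Matrix (Fin 2) (Fin 2) F) (ncvc5_irr_ne _ hi) hgg
  have hβ' : β' ≠ 0 := by
    intro h0
    rw [h0, zero_smul, add_zero] at hαβ'
    rw [hαβ'] at hi'
    exact ncvc7_not_irr_scalar α' hi'
  ext y
  rw [mem_cen, mem_cen, hαβ']
  constructor
  · intro hy
    rw [Matrix.mul_add, Matrix.add_mul, Matrix.mul_smul, Matrix.smul_mul, Matrix.mul_one,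
      Matrix.one_mul, Matrix.mul_smul, Matrix.smul_mul, hy]
  · intro hy
    rw [Matrix.mul_add, Matrix.add_mul, Matrix.mul_smul, Matrix.smul_mul, Matrix.mul_one,
      Matrix.one_mul, Matrix.mul_smul, Matrix.smul_mul] at hy
    exact smul_right_injective _ hβ' (add_left_cancel hy)

end Cfsg.Agent.Lib.helper7.NCV
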