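import Mathlib
import Cfsg.Agent.Lib.helper7.NPC.Defs

/-!
# Project NPC (S3875), piece PERF, core: the perfect case with S4701, Q2, CARD1, CARD2 as hypotheses.
-/

set_option autoImplicit false
set_option linter.unusedVariables false
set_option linter.unusedSectionVars false

namespace Cfsg.Agent.Lib.helper7.NPC

universe u

variable {H : Type u} [Group H] [Finite H] {p : ℕ} [Fact p.Prime]

theorem npcperf_arith (p : ℕ) : p * (p ^ 2 - 1) / 2 ≤ p ^ 3 := by
  calc p * (p ^ 2 - 1) / 2 ≤ p * (p ^ 2 - 1) := Nat.div_le_self _ _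
    _ ≤ p * p ^ 2 := Nat.mul_le_mul_left _ (Nat.sub_le _ _)
    _ = p ^ 3 := by ring

/-- A non-normal Sylow `p`-subgroup forces `p ∣ |H|`. -/
theorem npcperf_dvd (P : Sylow p H) (hP : ¬ (P : Subgroup H).Normal) : p ∣ Nat.card H := by
  by_contra hnd
  apply hP
  have hbot : (P : Subgroup H) = ⊥ := by
    have h1 : Nat.card (P : Subgroup H) = 1 := by
      obtain ⟨n, hn⟩ := IsPGroup.iff_card.mp P.2
      rcases Nat.eq_zero_or_pos n with h0 | hpos
      · rw [hn, h0, pow_zero]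
      · exfalso
        apply hnd
        have : p ∣ Nat.card (P : Subgroup H) := by
          rw [hn]; exact dvd_pow_self p hpos.ne'
        exact this.trans (Subgroup.card_subgroup_dvd_card _)
    exact Subgroup.eq_bot_of_card_eq _ h1
  rw [hbot]
  infer_instance

/-- PERF, core: the perfect case from the S4701 dichotomy (as a hypothesis for `H`), Q2 and CARD. -/
theorem npcperf_core (hM : MinNPC p H) (hp2 : p ≠ 2)
    (h4701 : p ∣ Nat.card H → Nat.card H < p ^ 3 → ∀ P : Sylow p H, ¬ (P : Subgroup H).Normal →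
      (∀ N : Subgroup H, N.Normal → Nat.card N ≠ 2) →
      (∃ (F : Type) (_ : Field F) (_ : Fintype F), Fintype.card F = p ∧ 3 < p ∧
        Nonempty (H ≃* Matrix.ProjectiveSpecialLinearGroup (Fin 2) F)) ∨
      (∃ (m : ℕ) (F : Type) (_ : Field F) (_ : Fintype F), Fintype.card F = 2 ^ m ∧ p = 2 ^ m + 1 ∧
        3 < p ∧ Nonempty (H ≃* Matrix.SpecialLinearGroup (Fin 2) F)))
    (hQ2 : ∀ N : Subgroup H, N.Normal → Nat.card ↥N ≠ 2)
    (hC1 : ∀ (F : Type) [Field F] [Fintype F], Fintype.card F = p →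
      (H ≃* Matrix.ProjectiveSpecialLinearGroup (Fin 2) F) → Nat.card H = p * (p ^ 2 - 1) / 2)
    (hC2 : ∀ (a : ℕ) (F : Type) [Field F] [Fintype F], Fintype.card F = 2 ^ a → p = 2 ^ a + 1 → 3 < p →
      (H ≃* Matrix.SpecialLinearGroup (Fin 2) F) → p * (p ^ 2 - 1) / 2 ≤ Nat.card H) :
    p * (p ^ 2 - 1) / 2 ≤ Nat.card H := by
  by_cases hbig : p ^ 3 ≤ Nat.card H
  · exact (npcperf_arith p).trans hbig
  · have hbig' : Nat.card H < p ^ 3 := Nat.lt_of_not_le hbig
    have hnpc := hM.npc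
    unfold Cfsg.IsPClosed at hnpc
    rw [not_forall] at hnpc
    obtain ⟨P, hP⟩ := hnpc
    have hdvd : p ∣ Nat.card H := npcperf_dvd P hP
    rcases h4701 hdvd hbig' P hP hQ2 with
      ⟨F, hF1, hF2, hc, h3, ⟨e⟩⟩ | ⟨a, F, hF1, hF2, hc, hpa, h3, ⟨e⟩⟩
    · exact (hC1 F hc e).ge
    · exact hC2 a F hc hpa h3 e

end Cfsg.Agent.Lib.helper7.NPC
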