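import Mathlib
import Cfsg.Agent.Lib.Helper1.TNPC.NilMax2
import Cfsg.Agent.Lib.Helper1.Grun
import Cfsg.Agent.Lib.Helper1.Tate
import Cfsg.Agent.Lib.Helper1.Frat
import Cfsg.Agent.Lib.Helper18.SylowIn

set_option autoImplicit false

namespace Cfsg.Agent.Lib.Helper18.NilMaxTwo

open Cfsg Cfsg.Agent.Lib.Helper1 Cfsg.Agent.Lib.Helper1.TNPC Cfsg.Agent.Lib.Helper1.TNPC.NilMax
open Cfsg.Agent.Lib.Helper18

open scoped Pointwise commutatorElement

universe u

theorem comm_mul_comm {X : Type*} [Group X] (n1 n2 u1 u2 : X) (h11 : Commute n1 u1)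
    (h12 : Commute n1 u2) (h21 : Commute n2 u1) (h22 : Commute n2 u2) :
    ⁅n1 * u1, n2 * u2⁆ = ⁅n1, n2⁆ * ⁅u1, u2⁆ := by
  rw [commutatorElement_def, commutatorElement_def, commutatorElement_def]
  rw [h11.mul_inv, h22.mul_inv]
  rw [h21.symm.mul_mul_mul_comm n1 u2]
  have c1 : Commute (u1 * u2) n1⁻¹ := (h11.symm.mul_left h12.symm).inv_right
  rw [c1.mul_mul_mul_comm (n1 * n2) u1⁻¹]
  have c2 : Commute (u1 * u2 * u1⁻¹) n2⁻¹ :=
    ((h21.symm.mul_left h22.symm).mul_left h21.symm.inv_left).inv_right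
  rw [c2.mul_mul_mul_comm (n1 * n2 * n1⁻¹) u2⁻¹]

section Nilp

variable {X : Type u} [Group X] [Finite X]

/-- In a finite nilpotent group a Sylow subgroup has a normal complement centralizing it. -/
theorem exists_central_compl {p : ℕ} [hp : Fact p.Prime] (hnil : Group.IsNilpotent X)
    (P : Sylow p X) :
    ∃ N : Subgroup X, N.Normal ∧ N.IsComplement' (P : Subgroup X) ∧
      ∀ n ∈ N, ∀ u ∈ (P : Subgroup X), n * u = u * n := by
  haveI := hnil
  obtain ⟨P', N, hNn, hN⟩ := npc_of_isNilpotent (p := p) hnil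
  haveI hP'n : (P' : Subgroup X).Normal := inferInstance
  have hPP : P' = P := by
    letI := Sylow.unique_of_normal P' hP'n
    exact Subsingleton.elim _ _
  subst hPP
  refine ⟨N, hNn, hN, ?_⟩
  intro n hn u hu
  exact Subgroup.commute_of_normal_of_disjoint N (P' : Subgroup X) hNn hP'n hN.disjoint n u hn hu

theorem commutator_inf_sylow_le {p : ℕ} [hp : Fact p.Prime] (hnil : Group.IsNilpotent X)
    (P : Sylow p X) :
    commutator X ⊓ (P : Subgroup X) ≤ ⁅(P : Subgroup X), (P : Subgroup X)⁆ := by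
  obtain ⟨N, hNn, hN, hcomm⟩ := exists_central_compl hnil P
  have hmul : (N : Set X) * ((P : Subgroup X) : Set X) = Set.univ :=
    (Subgroup.isComplement'_def.mp hN).mul_eq
  have h1 : commutator X ≤ N ⊔ ⁅(P : Subgroup X), (P : Subgroup X)⁆ := by
    rw [commutator_eq_closure, Subgroup.closure_le]
    rintro _ ⟨a, b, rfl⟩
    have ha : a ∈ (N : Set X) * ((P : Subgroup X) : Set X) := by rw [hmul]; trivial
    have hb : b ∈ (N : Set X) * ((P : Subgroup X) : Set X) := by rw [hmul]; trivial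
    obtain ⟨n1, hn1, u1, hu1, rfl⟩ := ha
    obtain ⟨n2, hn2, u2, hu2, rfl⟩ := hb
    have e : ⁅n1 * u1, n2 * u2⁆ = ⁅n1, n2⁆ * ⁅u1, u2⁆ :=
      comm_mul_comm n1 n2 u1 u2 (hcomm n1 hn1 u1 hu1) (hcomm n1 hn1 u2 hu2)
        (hcomm n2 hn2 u1 hu1) (hcomm n2 hn2 u2 hu2)
    rw [SetLike.mem_coe, e]
    refine Subgroup.mul_mem_sup ?_ (Subgroup.commutator_mem_commutator hu1 hu2)
    rw [commutatorElement_def]
    exact N.mul_mem (N.mul_mem (N.mul_mem hn1 hn2) (N.inv_mem hn1)) (N.inv_mem hn2)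
  rintro x ⟨hx1, hx2⟩
  have hx3 := h1 hx1
  haveI := hNn
  have hx4 : x ∈ ((N ⊔ ⁅(P : Subgroup X), (P : Subgroup X)⁆ : Subgroup X) : Set X) := hx3
  rw [Subgroup.normal_mul] at hx4
  obtain ⟨n, hn, v, hv, rfl⟩ := hx4
  have hvP : v ∈ (P : Subgroup X) := Subgroup.commutator_le_self _ hv
  have hnP : n ∈ (P : Subgroup X) := by
    have : n = n * v * v⁻¹ := by group
    rw [this]
    exact Subgroup.mul_mem _ hx2 (Subgroup.inv_mem _ hvP)
  have hn1 : n = 1 := by
    have := hN.disjoint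
    rw [Subgroup.disjoint_def] at this
    exact this hn hnP
  show n * v ∈ _
  rw [hn1, one_mul]
  exact hv

end Nilp

section Main

variable {G : Type u} [Group G] [Finite G]

/-- decomposition of the elements of a nilpotent subgroup relative to a Sylow subgroup inside it -/
theorem nilp_decomp {p : ℕ} [hp : Fact p.Prime] (M : Subgroup G) (hnil : Group.IsNilpotent M)
    (P : Sylow p G) (hPM : (P : Subgroup G) ≤ M) (m : G) (hm : m ∈ M) :
    ∃ h u : G, h ∈ M ∧ u ∈ (P : Subgroup G) ∧ (∀ x ∈ (P : Subgroup G), h * x = x * h) ∧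
      m = h * u := by
  let PM : Sylow p M := P.subtype hPM
  obtain ⟨N, hNn, hN, hcomm⟩ := exists_central_compl hnil PM
  have hmul : (N : Set M) * ((PM : Subgroup M) : Set M) = Set.univ :=
    (Subgroup.isComplement'_def.mp hN).mul_eq
  have hg : (⟨m, hm⟩ : M) ∈ (N : Set M) * ((PM : Subgroup M) : Set M) := by rw [hmul]; trivial
  obtain ⟨h, hh, u, hu, hhu⟩ := hg
  have huP : (u : G) ∈ (P : Subgroup G) := by
    have : u ∈ (P : Subgroup G).subgroupOf M := hu
    exact Subgroup.mem_subgroupOf.mp this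
  refine ⟨h, u, h.2, huP, ?_, ?_⟩
  · intro x hx
    have hxM : (⟨x, hPM hx⟩ : M) ∈ (PM : Subgroup M) := by
      show _ ∈ (P : Subgroup G).subgroupOf M
      rw [Subgroup.mem_subgroupOf]; exact hx
    have := hcomm h hh _ hxM
    exact congrArg Subtype.val this
  · have : h * u = ⟨m, hm⟩ := hhu
    exact (congrArg Subtype.val this).symm

theorem le_normalizer_of_sylow_le {p : ℕ} [hp : Fact p.Prime] (M : Subgroup G)
    (hnil : Group.IsNilpotent M) (P : Sylow p G) (hPM : (P : Subgroup G) ≤ M) (B : Subgroup G)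
    (hBP : B ≤ (P : Subgroup G))
    (hB : ∀ x ∈ (P : Subgroup G), ∀ b ∈ B, x * b * x⁻¹ ∈ B) :
    M ≤ Subgroup.normalizer (B : Set G) := by
  intro m hm
  obtain ⟨h, u, hhM, hu, hcomm, rfl⟩ := nilp_decomp M hnil P hPM m hm
  apply mem_normalizer_of_conjSub_le
  rintro _ ⟨b, hb, rfl⟩
  have h1 := hB u hu b hb
  have h2 := hcomm _ (hBP h1)
  have e : (MulAut.conj (h * u)).toMonoidHom b = u * b * u⁻¹ := by
    simp only [MulEquiv.coe_toMonoidHom, MulAut.conj_apply]
    calc h * u * b * (h * u)⁻¹ = h * (u * b * u⁻¹) * h⁻¹ := by group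
      _ = (u * b * u⁻¹) * h * h⁻¹ := by rw [h2]
      _ = u * b * u⁻¹ := by group
  rw [e]
  exact h1

theorem conj_sup_le (P : Subgroup G)
    (hcl : ∀ a ∈ P, ∀ b ∈ P, ∀ c ∈ P, (a * b * a⁻¹ * b⁻¹) * c = c * (a * b * a⁻¹ * b⁻¹))
    (W : Subgroup G) (hW : W ≤ P) (x : G) (hx : x ∈ P) :
    conjSub x ((P ⊓ Subgroup.centralizer (P : Set G)) ⊔ W) ≤
      (P ⊓ Subgroup.centralizer (P : Set G)) ⊔ W := by
  unfold conjSub
  rw [Subgroup.map_sup]
  apply sup_le
  · rintro _ ⟨z, hz, rfl⟩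
    have hzc := Subgroup.mem_centralizer_iff.mp hz.2 x hx
    have : (MulAut.conj x).toMonoidHom z = z := by
      simp only [MulEquiv.coe_toMonoidHom, MulAut.conj_apply]
      rw [hzc]; group
    rw [this]
    exact Subgroup.mem_sup_left hz
  · rintro _ ⟨w, hw, rfl⟩
    have hwP := hW hw
    have hc : x * w * x⁻¹ * w⁻¹ ∈ P ⊓ Subgroup.centralizer (P : Set G) := by
      refine ⟨P.mul_mem (P.mul_mem (P.mul_mem hx hwP) (P.inv_mem hx)) (P.inv_mem hwP), ?_⟩
      show _ ∈ Subgroup.centralizer (P : Set G)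
      rw [Subgroup.mem_centralizer_iff]
      intro c hc
      exact (hcl x hx w hwP c hc).symm
    have : (MulAut.conj x).toMonoidHom w = (x * w * x⁻¹ * w⁻¹) * w := by
      simp only [MulEquiv.coe_toMonoidHom, MulAut.conj_apply]; group
    rw [this]
    exact Subgroup.mul_mem_sup hc hw

theorem le_sylow_of_le_normalizer {p : ℕ} [hp : Fact p.Prime] (P : Sylow p G) (H : Subgroup G)
    (hH : IsPGroup p H) (hHN : H ≤ Subgroup.normalizer ((P : Subgroup G) : Set G)) :
    H ≤ (P : Subgroup G) := by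
  have h1 : IsPGroup p (H ⊔ (P : Subgroup G) : Subgroup G) := hH.to_sup_of_normal_right' P.2 hHN
  have h2 := P.3 h1 le_sup_right
  rw [← h2]
  exact le_sup_left

theorem mem_of_conj_Z_le {p : ℕ} [hp : Fact p.Prime] (M : Subgroup G) (hmax : IsCoatom M)
    (hnil : Group.IsNilpotent M) (hcore : M.normalCore = ⊥) (P : Sylow p G)
    (hPM : (P : Subgroup G) ≤ M) (hPne : (P : Subgroup G) ≠ ⊥)
    (hMN : M ≤ Subgroup.normalizer ((P : Subgroup G) : Set G))
    (hcl : ∀ a ∈ (P : Subgroup G), ∀ b ∈ (P : Subgroup G), ∀ c ∈ (P : Subgroup G),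
      (a * b * a⁻¹ * b⁻¹) * c = c * (a * b * a⁻¹ * b⁻¹))
    (g : G)
    (hg : conjSub g ((P : Subgroup G) ⊓ Subgroup.centralizer ((P : Subgroup G) : Set G)) ≤
      (P : Subgroup G)) :
    g ∈ Subgroup.normalizer ((P : Subgroup G) : Set G) := by
  obtain ⟨Z, hZdef⟩ : ∃ Z : Subgroup G,
      Z = (P : Subgroup G) ⊓ Subgroup.centralizer ((P : Subgroup G) : Set G) := ⟨_, rfl⟩
  have hZne : Z ≠ ⊥ := by rw [hZdef]; exact Z_ne_bot P.isPGroup' hPne
  have hZP : Z ≤ (P : Subgroup G) := by rw [hZdef]; exact inf_le_left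
  have hNZ : Subgroup.normalizer (Z : Set G) = M := by
    apply normalizer_eq_of_coatom M hmax hcore Z hZne (hZP.trans hPM)
    rw [hZdef]
    exact hMN.trans (normalizer_le_normalizer_Z _)
  obtain ⟨Q, hQdef⟩ : ∃ Q : Subgroup G, Q = conjSub g⁻¹ (P : Subgroup G) := ⟨_, rfl⟩
  have hZQ : Z ≤ Q := by
    rw [hQdef, hZdef]
    exact conjSub_le_iff.mp hg
  have hQp : IsPGroup p Q := by rw [hQdef]; exact conjSub_isPGroup P.isPGroup'
  have hclQ : ∀ a ∈ Q, ∀ b ∈ Q, ∀ c ∈ Q,
      (a * b * a⁻¹ * b⁻¹) * c = c * (a * b * a⁻¹ * b⁻¹) := by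
    intro a ha b hb c hc
    rw [hQdef, mem_conjSub, inv_inv] at ha hb hc
    have := hcl _ ha _ hb _ hc
    have e1 : g * a * g⁻¹ * (g * b * g⁻¹) * (g * a * g⁻¹)⁻¹ * (g * b * g⁻¹)⁻¹ * (g * c * g⁻¹)
        = g * ((a * b * a⁻¹ * b⁻¹) * c) * g⁻¹ := by group
    have e2 : g * c * g⁻¹ * (g * a * g⁻¹ * (g * b * g⁻¹) * (g * a * g⁻¹)⁻¹ * (g * b * g⁻¹)⁻¹)
        = g * (c * (a * b * a⁻¹ * b⁻¹)) * g⁻¹ := by group
    rw [e1, e2] at this
    exact mul_left_cancel (mul_right_cancel this)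
  obtain ⟨ZQ, hZQdef⟩ : ∃ ZQ : Subgroup G,
      ZQ = Q ⊓ Subgroup.centralizer (Q : Set G) := ⟨_, rfl⟩
  have hZQQ : ZQ ≤ Q := by rw [hZQdef]; exact inf_le_left
  have hZQcent : ZQ ≤ Subgroup.centralizer (Z : Set G) := by
    intro w hw
    rw [hZQdef] at hw
    rw [Subgroup.mem_centralizer_iff]
    intro z hz
    exact Subgroup.mem_centralizer_iff.mp hw.2 z (hZQ hz)
  have hZQM : ZQ ≤ M := by
    rw [← hNZ]
    exact hZQcent.trans (Subgroup.centralizer_le_normalizer _)
  have hZQP : ZQ ≤ (P : Subgroup G) :=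
    le_sylow_of_le_normalizer P ZQ (hQp.to_le hZQQ) (hZQM.trans hMN)
  obtain ⟨A, hAdef⟩ : ∃ A : Subgroup G, A = Z ⊔ ZQ := ⟨_, rfl⟩
  have hAP : A ≤ (P : Subgroup G) := by rw [hAdef]; exact sup_le hZP hZQP
  have hPA : ∀ x ∈ (P : Subgroup G), conjSub x A ≤ A := by
    intro x hx
    rw [hAdef, hZdef]
    exact conj_sup_le (P : Subgroup G) hcl ZQ hZQP x hx
  have hMA : M ≤ Subgroup.normalizer (A : Set G) :=
    le_normalizer_of_sylow_le M hnil P hPM A hAP
      (fun x hx b hb => hPA x hx (conj_mem_conjSub hb))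
  have hAne : A ≠ ⊥ := by
    rw [hAdef]
    exact ne_bot_of_le_ne_bot hZne le_sup_left
  have hNA : Subgroup.normalizer (A : Set G) = M :=
    normalizer_eq_of_coatom M hmax hcore A hAne (hAP.trans hPM) hMA
  have hQA : Q ≤ Subgroup.normalizer (A : Set G) := by
    intro y hy
    apply mem_normalizer_of_conjSub_le
    have := conj_sup_le Q hclQ Z hZQ y hy
    rw [← hZQdef, sup_comm, ← hAdef] at this
    exact this
  have hQM : Q ≤ M := by rw [← hNA]; exact hQA
  have hQP : Q ≤ (P : Subgroup G) := le_sylow_of_le_normalizer P Q hQp (hQM.trans hMN)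
  have hginv : g⁻¹ ∈ Subgroup.normalizer ((P : Subgroup G) : Set G) := by
    apply mem_normalizer_of_conjSub_le
    rw [← hQdef]
    exact hQP
  have := Subgroup.inv_mem _ hginv
  rwa [inv_inv] at this

theorem isPGroup_of_pResidual_eq_bot {Y : Type*} [Group Y] [Finite Y] {p : ℕ} [hp : Fact p.Prime]
    (h : Cfsg.pResidual p Y = ⊥) : IsPGroup p Y := by
  intro y
  obtain ⟨e, n', hn', hord⟩ :=
    Nat.exists_eq_pow_mul_and_not_dvd (orderOf_pos y).ne' p hp.out.ne_one
  refine ⟨e, ?_⟩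
  have h1 : (y ^ p ^ e) ^ n' = 1 := by
    rw [← pow_mul, ← hord]
    exact pow_orderOf_eq_one y
  have h2 : orderOf (y ^ p ^ e) ∣ n' := orderOf_dvd_of_pow_eq_one h1
  have h3 : (orderOf (y ^ p ^ e)).Coprime p :=
    Nat.Coprime.coprime_dvd_left h2 ((hp.out.coprime_iff_not_dvd.mpr hn').symm)
  have h4 : y ^ p ^ e ∈ Cfsg.pResidual p Y := Subgroup.subset_closure h3
  rw [h, Subgroup.mem_bot] at h4
  exact h4

theorem npc_of_class_two {p : ℕ} [hp : Fact p.Prime] (M : Subgroup G) (hmax : IsCoatom M)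
    (hnil : Group.IsNilpotent M) (hcore : M.normalCore = ⊥) (hdvd : p ∣ Nat.card M)
    (hcl : ∀ a ∈ M, ∀ b ∈ M, ∀ c ∈ M, (a * b * a⁻¹ * b⁻¹) * c = c * (a * b * a⁻¹ * b⁻¹)) :
    HasNormalPComplement p G := by
  obtain ⟨P, hPM, hPne, hMN⟩ := sylow_le_of_dvd M hmax hnil hcore hdvd
  have hclP : ∀ a ∈ (P : Subgroup G), ∀ b ∈ (P : Subgroup G), ∀ c ∈ (P : Subgroup G),
      (a * b * a⁻¹ * b⁻¹) * c = c * (a * b * a⁻¹ * b⁻¹) :=
    fun a ha b hb c hc => hcl a (hPM ha) b (hPM hb) c (hPM hc)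
  obtain ⟨Z, hZdef⟩ : ∃ Z : Subgroup G,
      Z = (P : Subgroup G) ⊓ Subgroup.centralizer ((P : Subgroup G) : Set G) := ⟨_, rfl⟩
  have hZne : Z ≠ ⊥ := by rw [hZdef]; exact Z_ne_bot P.isPGroup' hPne
  have hZP : Z ≤ (P : Subgroup G) := by rw [hZdef]; exact inf_le_left
  have hNZ : Subgroup.normalizer (Z : Set G) = M := by
    apply normalizer_eq_of_coatom M hmax hcore Z hZne (hZP.trans hPM)
    rw [hZdef]
    exact hMN.trans (normalizer_le_normalizer_Z _)
  have hW : Cfsg.IsWeaklyClosed Z (P : Subgroup G) := by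
    refine ⟨hZP, ?_⟩
    intro g hg
    have hgN : g ∈ Subgroup.normalizer ((P : Subgroup G) : Set G) :=
      mem_of_conj_Z_le M hmax hnil hcore P hPM hPne hMN hclP g (by rw [← hZdef]; exact hg)
    have hgZ : g ∈ Subgroup.normalizer (Z : Set G) := by
      rw [hZdef]
      exact normalizer_le_normalizer_Z _ hgN
    exact Subgroup.mem_normalizer_iff_map_conj_eq.mp hgZ
  have hZc : Z ≤ Subgroup.centralizer ((P : Subgroup G) : Set G) := by
    rw [hZdef]; exact inf_le_right
  have hgrun := grun_weaklyClosed P Z hZc hW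
  rw [hNZ] at hgrun
  have hfrat : commutator G ⊓ (P : Subgroup G) ≤
      (frattini ↥(P : Subgroup G)).map (P : Subgroup G).subtype := by
    rw [hgrun]
    have h1 : ⁅M, M⁆ ⊓ (P : Subgroup G) ≤ ⁅(P : Subgroup G), (P : Subgroup G)⁆ := by
      rintro x ⟨hx1, hx2⟩
      rw [SetLike.mem_coe, ← Subgroup.map_subtype_commutator] at hx1
      obtain ⟨y, hy, rfl⟩ := hx1
      let PM : Sylow p M := P.subtype hPM
      have hyP : y ∈ (PM : Subgroup M) := by
        show y ∈ (P : Subgroup G).subgroupOf M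
        rw [Subgroup.mem_subgroupOf]; exact hx2
      have h2 := commutator_inf_sylow_le hnil PM ⟨hy, hyP⟩
      have h3 : (M.subtype y) ∈ (⁅(PM : Subgroup M), (PM : Subgroup M)⁆).map M.subtype :=
        ⟨y, h2, rfl⟩
      rw [Subgroup.map_commutator] at h3
      have h4 : (PM : Subgroup M).map M.subtype = (P : Subgroup G) := by
        show ((P : Subgroup G).subgroupOf M).map M.subtype = _
        rw [Subgroup.subgroupOf_map_subtype]; exact inf_eq_left.mpr hPM
      rw [h4] at h3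
      exact h3
    refine h1.trans ?_
    rw [← Subgroup.map_subtype_commutator]
    exact Subgroup.map_mono (pgroup_commutator_le_frattini P.isPGroup')
  have htate := Cfsg.Agent.Lib.Helper1.Tate.tate P (commutator G) hfrat
  obtain ⟨R, hRdef⟩ : ∃ R : Subgroup ↥(commutator G), R = Cfsg.pResidual p ↥(commutator G) :=
    ⟨_, rfl⟩
  rw [← hRdef] at htate
  obtain ⟨K, hKdef⟩ : ∃ K : Subgroup G, K = R.map (commutator G).subtype := ⟨_, rfl⟩
  haveI hKn : K.Normal := by
    rw [hKdef, hRdef]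
    exact ConjAct.normal_of_characteristic_of_normal
  have hKcard : Nat.card K = Nat.card R := by
    rw [hKdef]
    exact Subgroup.card_map_of_injective (Subgroup.subtype_injective _)
  have hKcop : (Nat.card K).Coprime p := by
    rw [hKcard]
    exact (hp.out.coprime_iff_not_dvd.mpr htate).symm
  by_cases hKM : K ≤ M
  · exfalso
    have hK1 : K ≤ M.normalCore := Subgroup.normal_le_normalCore.mpr hKM
    rw [hcore, le_bot_iff] at hK1
    have hR1 : R = ⊥ := by
      rw [hKdef] at hK1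
      exact (Subgroup.map_eq_bot_iff_of_injective R (Subgroup.subtype_injective _)).mp hK1
    have hGp : IsPGroup p ↥(commutator G) := isPGroup_of_pResidual_eq_bot (hRdef ▸ hR1)
    have h1 : IsPGroup p ((P : Subgroup G) ⊔ commutator G : Subgroup G) :=
      P.2.to_sup_of_normal_right hGp
    have h2 := P.3 h1 le_sup_left
    have h3 : commutator G ≤ (P : Subgroup G) := by
      rw [← h2]; exact le_sup_right
    have h4 : commutator G ≤ M.normalCore := Subgroup.normal_le_normalCore.mpr (h3.trans hPM)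
    rw [hcore] at h4
    have hMn : M.Normal := Subgroup.Normal.of_commutator_le (G := G) (h4.trans bot_le)
    have h5 : M ≤ M.normalCore := Subgroup.normal_le_normalCore.mpr le_rfl
    rw [hcore, le_bot_iff] at h5
    apply hPne
    rw [eq_bot_iff, ← h5]
    exact hPM
  · have hsup : M ⊔ K = ⊤ := by
      rcases hmax.le_iff.mp (le_sup_left : M ≤ M ⊔ K) with h | h
      · exact h
      · exfalso
        apply hKM
        rw [← h]
        exact le_sup_right
    haveI hquot : Group.IsNilpotent (G ⧸ K) := by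
      haveI := hnil
      apply Group.nilpotent_of_surjective ((QuotientGroup.mk' K).comp M.subtype)
      intro y
      obtain ⟨g, rfl⟩ := QuotientGroup.mk'_surjective K y
      have hg : g ∈ ((M ⊔ K : Subgroup G) : Set G) := by
        rw [hsup]
        trivial
      rw [Subgroup.mul_normal] at hg
      obtain ⟨m, hm, u, hu, rfl⟩ := hg
      refine ⟨⟨m, hm⟩, ?_⟩
      show QuotientGroup.mk' K m = QuotientGroup.mk' K (m * u)
      have hu1 : QuotientGroup.mk' K u = 1 := (QuotientGroup.eq_one_iff u).mpr hu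
      rw [map_mul, hu1, mul_one]
    exact npc_of_quotient K hKcop (npc_of_isNilpotent hquot)

theorem npc_of_dvd_odd (M : Subgroup G) (hmax : IsCoatom M) (hnil : Group.IsNilpotent M)
    (hcore : M.normalCore = ⊥) {p : ℕ} [hp : Fact p.Prime] (hp2 : p ≠ 2)
    (hdvd : p ∣ Nat.card M) : HasNormalPComplement p G := by
  obtain ⟨P, hPM, hPne, hMN⟩ := sylow_le_of_dvd M hmax hnil hcore hdvd
  have hMnpc : HasNormalPComplement p ↥M := npc_of_isNilpotent hnil
  apply thompson_npc hp2 P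
  constructor
  · have h1 := normalizer_eq_of_coatom M hmax hcore (Cfsg.Agent.S5306.TJ p (P : Subgroup G))
      (TJ_ne_bot P.isPGroup' hPne) ((Cfsg.Agent.S5306.TJ_le p _).trans hPM)
      (hMN.trans (normalizer_le_normalizer_TJ _))
    rw [h1]
    exact hMnpc
  · have h1 := normalizer_eq_of_coatom M hmax hcore
      ((P : Subgroup G) ⊓ Subgroup.centralizer ((P : Subgroup G) : Set G))
      (Z_ne_bot P.isPGroup' hPne) (inf_le_left.trans hPM)
      (hMN.trans (normalizer_le_normalizer_Z _))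
    refine npc_of_le ?_ hMnpc
    rw [← h1]
    exact Subgroup.centralizer_le_normalizer _

theorem compK_coprime_gen (M : Subgroup G)
    (hnpc : ∀ (p : ℕ) [Fact p.Prime], p ∣ Nat.card M → HasNormalPComplement p G) :
    (Nat.card M).Coprime (Nat.card (compK M)) := by
  apply Nat.coprime_of_dvd
  intro p hp hpM
  haveI : Fact p.Prime := ⟨hp⟩
  obtain ⟨N, hNn, hNc, k, hk⟩ := npc_iff.mp (hnpc p hpM)
  have hN : N ∈ compSet M := ⟨hNn, p, hp, hpM, hNc, k, hk⟩
  have hle : compK M ≤ N := sInf_le hN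
  have h1 : Nat.card (compK M) ∣ Nat.card N := Subgroup.card_dvd_of_le hle
  intro hpK
  have := hpK.trans h1
  exact (hp.coprime_iff_not_dvd.mp hNc.symm) this

theorem solvable_of_corefree_gen (M : Subgroup G) (hmax : IsCoatom M) (hnil : Group.IsNilpotent M)
    (hcore : M.normalCore = ⊥)
    (hnpc : ∀ (p : ℕ) [Fact p.Prime], p ∣ Nat.card M → HasNormalPComplement p G) :
    Group.IsSolvable G := by
  obtain ⟨q, hq, hqG, hqM⟩ := exists_prime_not_dvd M hmax hnil hcore
  haveI : Fact q.Prime := ⟨hq⟩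
  obtain ⟨K, hK⟩ : ∃ K : Subgroup G, K = compK M := ⟨_, rfl⟩
  haveI hKn : K.Normal := by rw [hK]; infer_instance
  have hcop : (Nat.card M).Coprime (Nat.card K) := by
    rw [hK]; exact compK_coprime_gen M hnpc
  obtain ⟨x, hx⟩ := exists_prime_orderOf_dvd_card' q hqG
  have hxK : x ∈ K := by rw [hK]; exact mem_compK_of_prime_order M hq hqM x hx
  have hqK : q ∣ Nat.card K := by
    have := orderOf_dvd_natCard (⟨x, hxK⟩ : K)
    rwa [Subgroup.orderOf_mk, hx] at this
  have hdisj : M ⊓ K = ⊥ := (Subgroup.disjoint_of_coprime_natCard hcop).eq_bot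
  have hKne : K ≠ ⊥ := by
    intro h
    rw [h, Subgroup.card_bot] at hqK
    exact hq.one_lt.ne' (Nat.dvd_one.mp hqK)
  have hsup : M ⊔ K = ⊤ := by
    rcases hmax.le_iff.mp (le_sup_left : M ≤ M ⊔ K) with h | h
    · exact h
    · exfalso
      apply hKne
      have hKM : K ≤ M := by
        rw [← h]
        exact le_sup_right
      rw [eq_bot_iff, ← hdisj]
      exact le_inf hKM le_rfl
  haveI hMsolv : Group.IsSolvable M := by
    haveI := hnil
    infer_instance
  obtain ⟨Q, hQ⟩ := Cfsg.Agent.Lib.Lead.exists_invariant_sylow_ext M K hsup hcop (Or.inl hMsolv) q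
  obtain ⟨Q', hQ'⟩ : ∃ Q' : Subgroup G, Q' = (Q : Subgroup K).map K.subtype := ⟨_, rfl⟩
  have hQ'K : Q' ≤ K := by rw [hQ']; exact Subgroup.map_subtype_le _
  have hQ'ne : Q' ≠ ⊥ := by
    intro h
    apply Sylow.ne_bot_of_dvd_card Q hqK
    rw [eq_bot_iff]
    intro y hy
    have : (y : G) ∈ Q' := by rw [hQ']; exact ⟨y, hy, rfl⟩
    rw [h, Subgroup.mem_bot] at this
    rw [Subgroup.mem_bot]
    exact Subtype.ext this
  have hsup' : M ⊔ Q' = ⊤ := by
    rcases hmax.le_iff.mp (le_sup_left : M ≤ M ⊔ Q') with h | h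
    · exact h
    · exfalso
      apply hQ'ne
      have hQM : Q' ≤ M := by
        rw [← h]
        exact le_sup_right
      rw [eq_bot_iff, ← hdisj]
      exact le_inf hQM hQ'K
  have hQ'n : Q'.Normal := by
    rw [← Subgroup.normalizer_eq_top_iff, eq_top_iff, ← hsup']
    refine sup_le ?_ Subgroup.le_normalizer
    rw [hQ']
    exact hQ
  haveI := hQ'n
  haveI hQsolv : Group.IsSolvable Q' := by
    have hQ'p : IsPGroup q Q' := by rw [hQ']; exact Q.isPGroup'.map _
    haveI := hQ'p.isNilpotent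
    infer_instance
  haveI hquot : Group.IsSolvable (G ⧸ Q') := by
    apply Group.isSolvable_of_surjective (f := (QuotientGroup.mk' Q').comp M.subtype)
    intro y
    obtain ⟨g, rfl⟩ := QuotientGroup.mk'_surjective Q' y
    have hg : g ∈ ((M ⊔ Q' : Subgroup G) : Set G) := by
      rw [hsup']
      trivial
    rw [Subgroup.mul_normal] at hg
    obtain ⟨m, hm, u, hu, rfl⟩ := hg
    refine ⟨⟨m, hm⟩, ?_⟩
    show QuotientGroup.mk' Q' m = QuotientGroup.mk' Q' (m * u)
    have hu1 : QuotientGroup.mk' Q' u = 1 := (QuotientGroup.eq_one_iff u).mpr hu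
    rw [map_mul, hu1, mul_one]
  apply Group.isSolvable_of_ker_le_range Q'.subtype (QuotientGroup.mk' Q')
  rw [QuotientGroup.ker_mk', Subgroup.range_subtype]

/-- A finite group with a core-free nilpotent maximal subgroup of class at most two is solvable. -/
theorem solvable_of_corefree_class_two (M : Subgroup G) (hmax : IsCoatom M)
    (hnil : Group.IsNilpotent M) (hcore : M.normalCore = ⊥)
    (hcl : ∀ a ∈ M, ∀ b ∈ M, ∀ c ∈ M, (a * b * a⁻¹ * b⁻¹) * c = c * (a * b * a⁻¹ * b⁻¹)) :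
    Group.IsSolvable G := by
  apply solvable_of_corefree_gen M hmax hnil hcore
  intro p hp hdvd
  by_cases hp2 : p = 2
  · exact npc_of_class_two M hmax hnil hcore hdvd hcl
  · exact npc_of_dvd_odd M hmax hnil hcore hp2 hdvd

/-- Deskins–Janko–Thompson: a finite group with a nilpotent maximal subgroup of class at most two
is solvable. -/
theorem solvable_of_class_two (M : Subgroup G) (hmax : IsCoatom M) (hnil : Group.IsNilpotent M)
    (hcl : ∀ a ∈ M, ∀ b ∈ M, ∀ c ∈ M, (a * b * a⁻¹ * b⁻¹) * c = c * (a * b * a⁻¹ * b⁻¹)) :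
    Group.IsSolvable G := by
  obtain ⟨N, hN⟩ : ∃ N : Subgroup G, N = M.normalCore := ⟨_, rfl⟩
  haveI hNn : N.Normal := by rw [hN]; infer_instance
  have hNM : N ≤ M := by rw [hN]; exact Subgroup.normalCore_le M
  have hNmax : ∀ X : Subgroup G, X.Normal → X ≤ M → X ≤ N := by
    intro X hX hXM
    rw [hN]
    exact Subgroup.normal_le_normalCore.mpr hXM
  clear hN
  have hsurj := QuotientGroup.mk'_surjective N
  obtain ⟨Mb, hMb⟩ : ∃ Mb : Subgroup (G ⧸ N), Mb = M.map (QuotientGroup.mk' N) := ⟨_, rfl⟩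
  have hcomap : Mb.comap (QuotientGroup.mk' N) = M := by
    rw [hMb, Subgroup.comap_map_eq, QuotientGroup.ker_mk']
    exact sup_eq_left.mpr hNM
  have hmaxb : IsCoatom Mb := by
    constructor
    · intro h
      apply hmax.1
      rw [← hcomap, h, Subgroup.comap_top]
    · intro B hB
      have h1 : M ≤ B.comap (QuotientGroup.mk' N) := by
        rw [← hcomap]
        exact Subgroup.comap_mono hB.le
      rcases hmax.le_iff.mp h1 with h | h
      · rw [← Subgroup.map_comap_eq_self_of_surjective hsurj B, h,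
          Subgroup.map_top_of_surjective _ hsurj]
      · exfalso
        apply hB.ne
        rw [← Subgroup.map_comap_eq_self_of_surjective hsurj B, h, hMb]
  have hnilb : Group.IsNilpotent Mb := by
    haveI := hnil
    rw [hMb]
    exact Group.nilpotent_of_surjective ((QuotientGroup.mk' N).subgroupMap M)
      ((QuotientGroup.mk' N).subgroupMap_surjective M)
  have hclb : ∀ a ∈ Mb, ∀ b ∈ Mb, ∀ c ∈ Mb,
      (a * b * a⁻¹ * b⁻¹) * c = c * (a * b * a⁻¹ * b⁻¹) := by
    rw [hMb]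
    rintro _ ⟨a, ha, rfl⟩ _ ⟨b, hb, rfl⟩ _ ⟨c, hc, rfl⟩
    have := congrArg (QuotientGroup.mk' N) (hcl a ha b hb c hc)
    simpa only [map_mul, map_inv] using this
  have hcoreb : Mb.normalCore = ⊥ := by
    rw [eq_bot_iff]
    have h1 : (Mb.normalCore).comap (QuotientGroup.mk' N) ≤ N := by
      apply hNmax _ inferInstance
      rw [← hcomap]
      exact Subgroup.comap_mono (Subgroup.normalCore_le Mb)
    rw [← Subgroup.map_comap_eq_self_of_surjective hsurj Mb.normalCore]
    rintro _ ⟨x, hx, rfl⟩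
    rw [Subgroup.mem_bot]
    exact (QuotientGroup.eq_one_iff x).mpr (h1 hx)
  haveI hq : Group.IsSolvable (G ⧸ N) :=
    solvable_of_corefree_class_two Mb hmaxb hnilb hcoreb hclb
  haveI hMs : Group.IsSolvable M := by
    haveI := hnil
    infer_instance
  haveI hNs : Group.IsSolvable N :=
    Group.isSolvable_of_isSolvable_injective (Subgroup.inclusion_injective hNM)
  apply Group.isSolvable_of_ker_le_range N.subtype (QuotientGroup.mk' N)
  rw [QuotientGroup.ker_mk', Subgroup.range_subtype]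

end Main

end Cfsg.Agent.Lib.Helper18.NilMaxTwo
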