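import Mathlib.GroupTheory.SpecificGroups.Cyclic
import Cfsg.Agent.Lib.Helper18.ChermakDelgado4

set_option autoImplicit false

namespace Cfsg.Agent.Lib.Helper18

variable {G : Type*} [Group G]

theorem isMulCommutative_sup_zpowers {a b : G} (hab : a * b = b * a) :
    IsMulCommutative ↥(Subgroup.zpowers a ⊔ Subgroup.zpowers b) := by
  apply isMulCommutative_sup_of_le_centralizer inferInstance inferInstance
  rw [Subgroup.zpowers_le, Subgroup.mem_centralizer_iff]
  intro y hy
  obtain ⟨k, rfl⟩ := Subgroup.mem_zpowers_iff.mp hy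
  have hc : Commute a b := hab
  exact (hc.zpow_left k).eq

theorem exists_zpow_mul_zpow_of_mem_sup {a b : G} (hab : a * b = b * a) :
    ∀ x ∈ Subgroup.zpowers a ⊔ Subgroup.zpowers b, ∃ i j : ℤ, x = a ^ i * b ^ j := by
  have hc : Commute a b := hab
  let T : Subgroup G :=
    { carrier := {x | ∃ i j : ℤ, x = a ^ i * b ^ j}
      one_mem' := ⟨0, 0, by simp⟩
      mul_mem' := by
        rintro x y ⟨i, j, rfl⟩ ⟨k, l, rfl⟩
        refine ⟨i + k, j + l, ?_⟩
        have h1 : b ^ j * a ^ k = a ^ k * b ^ j := ((hc.zpow_zpow k j).eq).symm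
        calc a ^ i * b ^ j * (a ^ k * b ^ l) = a ^ i * (b ^ j * a ^ k) * b ^ l := by group
          _ = a ^ i * (a ^ k * b ^ j) * b ^ l := by rw [h1]
          _ = a ^ (i + k) * b ^ (j + l) := by rw [zpow_add, zpow_add]; group
      inv_mem' := by
        rintro x ⟨i, j, rfl⟩
        refine ⟨-i, -j, ?_⟩
        have h1 : b ^ (-j) * a ^ (-i) = a ^ (-i) * b ^ (-j) := ((hc.zpow_zpow (-i) (-j)).eq).symm
        rw [mul_inv_rev, ← zpow_neg, ← zpow_neg, h1] }
  have h1 : Subgroup.zpowers a ≤ T := by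
    rw [Subgroup.zpowers_le]
    exact ⟨1, 0, by simp⟩
  have h2 : Subgroup.zpowers b ≤ T := by
    rw [Subgroup.zpowers_le]
    exact ⟨0, 1, by simp⟩
  intro x hx
  exact (sup_le h1 h2) hx

theorem pow_eq_one_of_mem_sup_zpowers {p : ℕ} {a b : G} (ha : a ^ p = 1) (hb : b ^ p = 1)
    (hab : a * b = b * a) : ∀ x ∈ Subgroup.zpowers a ⊔ Subgroup.zpowers b, x ^ p = 1 := by
  intro x hx
  obtain ⟨i, j, rfl⟩ := exists_zpow_mul_zpow_of_mem_sup hab x hx
  have hc : Commute a b := hab
  rw [(hc.zpow_zpow i j).mul_pow, ← zpow_natCast, ← zpow_natCast, ← zpow_mul, ← zpow_mul, mul_comm i, mul_comm j,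
    zpow_mul, zpow_mul, zpow_natCast, zpow_natCast, ha, hb, one_zpow, one_zpow, one_mul]

theorem not_isCyclic_sup_zpowers [Finite G] {p : ℕ} [Fact p.Prime] {a b : G}
    (ha : orderOf a = p) (hb : b ^ p = 1) (hab : a * b = b * a) (hba : b ∉ Subgroup.zpowers a) :
    ¬ IsCyclic ↥(Subgroup.zpowers a ⊔ Subgroup.zpowers b) := by
  intro hcyc
  have hap : a ^ p = 1 := by rw [← ha]; exact pow_orderOf_eq_one a
  have h1 := IsCyclic.exponent_eq_card (α := ↥(Subgroup.zpowers a ⊔ Subgroup.zpowers b))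
  have h2 : Monoid.exponent ↥(Subgroup.zpowers a ⊔ Subgroup.zpowers b) ∣ p := by
    apply Monoid.exponent_dvd_of_forall_pow_eq_one
    intro x
    apply Subtype.ext
    rw [Subgroup.coe_pow]
    exact pow_eq_one_of_mem_sup_zpowers hap hb hab x x.2
  have h3 : p < Nat.card ↥(Subgroup.zpowers a ⊔ Subgroup.zpowers b) := by
    have hlt : Subgroup.zpowers a < Subgroup.zpowers a ⊔ Subgroup.zpowers b := by
      refine lt_of_le_of_ne le_sup_left ?_
      intro he
      apply hba
      rw [he]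
      exact Subgroup.mem_sup_right (Subgroup.mem_zpowers b)
    have := Nat.lt_of_le_of_ne (Subgroup.card_le_of_le hlt.le)
      (fun h => hlt.ne (Subgroup.eq_of_le_of_card_ge hlt.le h.ge))
    rwa [Nat.card_zpowers, ha] at this
  have h4 := Nat.le_of_dvd (Fact.out : p.Prime).pos h2
  omega

/-- A subgroup not containing an element of prime order meets its cyclic group trivially. -/
theorem inf_zpowers_eq_bot [Finite G] {p : ℕ} [Fact p.Prime] {x : G} (hx : orderOf x = p) {W : Subgroup G}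
    (hxW : x ∉ W) : W ⊓ Subgroup.zpowers x = ⊥ := by
  have h1 : Nat.card ↥(W ⊓ Subgroup.zpowers x) ∣ p := by
    have := Subgroup.card_dvd_of_le (inf_le_right : W ⊓ Subgroup.zpowers x ≤ Subgroup.zpowers x)
    rwa [Nat.card_zpowers, hx] at this
  rcases (Nat.dvd_prime (Fact.out : p.Prime)).mp h1 with h | h
  · exact Subgroup.card_eq_one.mp h
  · exfalso
    apply hxW
    have h2 : W ⊓ Subgroup.zpowers x = Subgroup.zpowers x := by
      apply Subgroup.eq_of_le_of_card_ge inf_le_right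
      rw [h, Nat.card_zpowers, hx]
    have : x ∈ W ⊓ Subgroup.zpowers x := by rw [h2]; exact Subgroup.mem_zpowers x
    exact this.1

end Cfsg.Agent.Lib.Helper18
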