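import Cfsg.Agent.Lib.Helper16.O7F.Defs
import Cfsg.Agent.Lib.Helper5.OSylI

/-!
# Project O7F (S2647), piece O: order of `Ω₇` and transport from `Ω(quadFormOdd 3 F)`
-/

set_option autoImplicit false

namespace Cfsg.Agent.Lib.Helper18.O7F

open Cfsg.Agent.Lib.Helper16.O7F Equiv Matrix Cfsg.Agent.Lib.Helper5.OSyl Cfsg.Agent.Lib.Lead

open scoped Nat

variable (F : Type*) [Field F]

theorem card_kap3 : Fintype.card (Kap 3) = 7 := by
  simp only [Fintype.card_sum, Fintype.card_prod, Fintype.card_fin, Fintype.card_unit]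

/-- `Kap 3 ≃ Fin 7`. -/
noncomputable def kapEquiv : Kap 3 ≃ Fin 7 := Fintype.equivFinOfCardEq card_kap3

theorem sqForm_reindex (e : Kap 3 ≃ Fin 7) :
    (fun x : Fin 7 → F => sqForm (Kap 3) F (x ∘ e)) = sqForm (Fin 7) F := by
  funext x
  unfold sqForm
  exact Equiv.sum_comp e (fun k => x k * x k)

/-- the isometry groups of `quadFormOdd 3` and of the sum of seven squares are isomorphic. -/
theorem exists_iso_O7 [Fintype F] (h2 : (2 : F) ≠ 0) :
    Nonempty (↥(Cfsg.isometryGroup F (Cfsg.quadFormOdd 3 F)) ≃* ↥(O7 F)) := by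
  obtain ⟨e0⟩ := exists_iso_odd_sq (F := F) h2 3
  have e1 := RI.isoReindex (F := F) kapEquiv (sqForm (Kap 3) F)
  rw [sqForm_reindex] at e1
  exact ⟨e0.trans e1⟩

theorem exists_emb [Fintype F] (h2 : (2 : F) ≠ 0) :
    ∃ f : ↥(Cfsg.Omega F (Cfsg.quadFormOdd 3 F)) →* Matrix.GeneralLinearGroup (Fin 7) F,
      Function.Injective f ∧ f.range = A7 F := by
  obtain ⟨E⟩ := exists_iso_O7 F h2
  let ψ : ↥(Cfsg.Omega F (Cfsg.quadFormOdd 3 F)) ≃* ↥(Cfsg.Omega F (sqForm (Fin 7) F)) :=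
    commEquiv E
  refine ⟨((O7 F).subtype.comp (Cfsg.Omega F (sqForm (Fin 7) F)).subtype).comp ψ.toMonoidHom,
    ?_, ?_⟩
  · intro a b hab
    apply ψ.injective
    apply Subtype.ext
    apply Subtype.ext
    exact hab
  · ext x
    constructor
    · rintro ⟨a, rfl⟩
      exact ⟨(ψ a : ↥(O7 F)), (ψ a).2, rfl⟩
    · rintro ⟨y, hy, rfl⟩
      exact ⟨ψ.symm ⟨y, hy⟩, by
        show ((ψ (ψ.symm ⟨y, hy⟩) : ↥(O7 F)) : Matrix.GeneralLinearGroup (Fin 7) F) = _
        rw [MulEquiv.apply_symm_apply]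
        rfl⟩

theorem v2_sq_sub_one (q : ℕ) (hq : q % 8 = 3 ∨ q % 8 = 5) : padicValNat 2 (q ^ 2 - 1) = 3 := by
  have : Fact (Nat.Prime 2) := ⟨Nat.prime_two⟩
  obtain ⟨t, ht, hodd⟩ : ∃ t, q ^ 2 - 1 = 8 * t ∧ ¬ 2 ∣ t := by
    rcases hq with h | h
    · refine ⟨8 * (q / 8) ^ 2 + 6 * (q / 8) + 1, ?_, by omega⟩
      have hq' : q = 8 * (q / 8) + 3 := by omega
      generalize q / 8 = s at hq'
      subst hq'
      apply Nat.sub_eq_of_eq_add
      ring
    · refine ⟨8 * (q / 8) ^ 2 + 10 * (q / 8) + 3, ?_, by omega⟩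
      have hq' : q = 8 * (q / 8) + 5 := by omega
      generalize q / 8 = s at hq'
      subst hq'
      apply Nat.sub_eq_of_eq_add
      ring
  have ht0 : t ≠ 0 := by
    rintro rfl
    exact hodd (dvd_zero 2)
  rw [ht, padicValNat.mul (by norm_num) ht0, padicValNat.eq_zero_of_not_dvd hodd,
    show (8 : ℕ) = 2 ^ 3 by norm_num, padicValNat.prime_pow]

theorem card_A7_two [Fintype F] (hq : Fintype.card F % 8 = 3 ∨ Fintype.card F % 8 = 5) :
    (Nat.card (A7 F)).factorization 2 = 9 := by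
  classical
  have : Fact (Nat.Prime 2) := ⟨Nat.prime_two⟩
  have hF : Odd (Fintype.card F) := by
    rw [Nat.odd_iff]
    omega
  have h2 : (2 : F) ≠ 0 := by
    intro h
    have hc : ringChar F = 2 :=
      CharP.ringChar_of_prime_eq_zero Nat.prime_two (by exact_mod_cast h)
    have := FiniteField.even_card_of_char_two hc
    rw [Nat.odd_iff] at hF
    omega
  obtain ⟨E⟩ := exists_iso_O7 F h2
  have hc1 : Nat.card (A7 F) = Nat.card (Cfsg.Omega F (sqForm (Fin 7) F)) :=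
    Subgroup.card_map_of_injective (Subgroup.subtype_injective _)
  have hidx := RI.index_omega_general h2 (by simp) (sqQF (Fin 7) F) (sqQF_nondeg h2)
  rw [sqQF_coe] at hidx
  have hmul := Subgroup.card_mul_index (Cfsg.Omega F (sqForm (Fin 7) F))
  rw [hidx] at hmul
  have hcO : Nat.card (O7 F) = Nat.card (Cfsg.isometryGroup F (Cfsg.quadFormOdd 3 F)) :=
    (Nat.card_congr E.toEquiv).symm
  have hv := v2_card_GOodd hF 3
  have hv3 : padicValNat 2 (3 !) = 1 := by
    have : (3 ! : ℕ) = 2 ^ 1 * 3 := by decide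
    rw [this, padicValNat.mul (by norm_num) (by norm_num), padicValNat.prime_pow,
      padicValNat.eq_zero_of_not_dvd (by norm_num)]
  rw [v2_sq_sub_one _ hq, hv3] at hv
  have hΩpos : Nat.card (Cfsg.Omega F (sqForm (Fin 7) F)) ≠ 0 := Nat.card_pos.ne'
  have h11 : padicValNat 2 (Nat.card (Cfsg.Omega F (sqForm (Fin 7) F)) * 4) = 11 := by
    rw [hmul, hcO, hv]
  rw [padicValNat.mul hΩpos (by norm_num), show (4 : ℕ) = 2 ^ 2 by norm_num,
    padicValNat.prime_pow] at h11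
  rw [Nat.factorization_def _ Nat.prime_two, hc1]
  omega

end Cfsg.Agent.Lib.Helper18.O7F
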