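import Mathlib
import Cfsg.Prelude.Def_Classical
import Cfsg.Agent.Lib.helper3.O9A.Defs
import Cfsg.Agent.Lib.Helper16.Witt

set_option autoImplicit false

namespace Cfsg.Agent.Lib.helper3.O9A

open Matrix Module Polynomial Cfsg.Agent.Lib.Helper1.S8U Cfsg.Agent.Lib.Helper16

universe u v

/-- the Witt property as a predicate, to run the induction over all spaces in one universe -/
def o9awitt_P {F : Type u} [Field F] {V : Type v} [AddCommGroup V] [Module F V] (Q : QuadraticForm F V) (r : ℕ) : Prop :=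
  ∃ (e f : Fin r → V) (z : V), (∀ i, Q (e i) = 0) ∧ (∀ i, Q (f i) = 0) ∧ Q z ≠ 0 ∧
      (∀ i j, QuadraticMap.polar Q (e i) (f j) = if i = j then 1 else 0) ∧
      (∀ i j, i ≠ j → QuadraticMap.polar Q (e i) (e j) = 0) ∧ (∀ i j, i ≠ j → QuadraticMap.polar Q (f i) (f j) = 0) ∧
      (∀ i, QuadraticMap.polar Q (e i) z = 0) ∧ (∀ i, QuadraticMap.polar Q (f i) z = 0)

/-- a nondegenerate line carries an anisotropic vector (characteristic `≠ 2` is not needed) -/
theorem o9awitt_line {F : Type u} [Field F] {V : Type v} [AddCommGroup V] [Module F V] [FiniteDimensional F V]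
    (Q : QuadraticForm F V) (hQ : (QuadraticMap.polarBilin Q).Nondegenerate) (hr : finrank F V = 1) :
    ∃ z : V, Q z ≠ 0 := by
  have hpos : 0 < finrank F V := by omega
  haveI : Nontrivial V := Module.finrank_pos_iff.mp hpos
  obtain ⟨z, hz⟩ := exists_ne (0 : V)
  refine ⟨z, fun hQz => hz (hQ.1 z ?_)⟩
  intro v
  obtain ⟨c, rfl⟩ := (finrank_eq_one_iff_of_nonzero' z hz).mp hr v
  rw [QuadraticMap.polarBilin_apply_apply, QuadraticMap.polar_smul_right, polar_self', hQz]
  simp

theorem o9awitt_step {F : Type u} [Field F] {V : Type v} [AddCommGroup V] [Module F V]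
    (Q : QuadraticForm F V) (r : ℕ) (e0 f0 : V) (hQe : Q e0 = 0) (hQf : Q f0 = 0) (hef : QuadraticMap.polar ⇑Q e0 f0 = 1)
    (h : o9awitt_P (Q.comp (perp2 Q e0 f0).subtype) r) : o9awitt_P Q (r + 1) := by
  obtain ⟨e', f', z', he', hf', hz', hef', hee', hff', hez', hfz'⟩ := h
  have hfe : QuadraticMap.polar ⇑Q f0 e0 = 1 := by rw [QuadraticMap.polar_comm, hef]
  have hmem : ∀ w : perp2 Q e0 f0, QuadraticMap.polar ⇑Q e0 (w : V) = 0 ∧ QuadraticMap.polar ⇑Q f0 (w : V) = 0 :=
    fun w => (mem_perp2 Q e0 f0 w).mp w.2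
  have hmem' : ∀ w : perp2 Q e0 f0, QuadraticMap.polar ⇑Q (w : V) e0 = 0 ∧ QuadraticMap.polar ⇑Q (w : V) f0 = 0 := by
    intro w
    rw [QuadraticMap.polar_comm ⇑Q (w : V) e0, QuadraticMap.polar_comm ⇑Q (w : V) f0]
    exact hmem w
  have hpol : ∀ a b : perp2 Q e0 f0, QuadraticMap.polar ⇑Q (a : V) (b : V)
      = QuadraticMap.polar ⇑(Q.comp (perp2 Q e0 f0).subtype) a b := fun a b => (polar_comp_subtype Q _ a b).symm
  have hval : ∀ a : perp2 Q e0 f0, Q (a : V) = (Q.comp (perp2 Q e0 f0).subtype) a := fun a => rfl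
  refine ⟨Fin.cons e0 (fun i => (e' i : V)), Fin.cons f0 (fun i => (f' i : V)), (z' : V), ?_, ?_, ?_, ?_, ?_, ?_, ?_, ?_⟩
  · intro i
    refine Fin.cases ?_ (fun i => ?_) i
    · simpa using hQe
    · simpa using (hval (e' i)).trans (he' i)
  · intro i
    refine Fin.cases ?_ (fun i => ?_) i
    · simpa using hQf
    · simpa using (hval (f' i)).trans (hf' i)
  · rw [hval]; exact hz'
  · intro i j
    refine Fin.cases ?_ (fun i => ?_) i <;> refine Fin.cases ?_ (fun j => ?_) j
    · simpa using hef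
    · simpa [Fin.cons_succ, Fin.cons_zero, (Fin.succ_ne_zero j).symm] using (hmem (f' j)).1
    · simpa [Fin.cons_succ, Fin.cons_zero, Fin.succ_ne_zero i] using (hmem' (e' i)).2
    · simp only [Fin.cons_succ, Fin.succ_inj]
      rw [hpol]; exact hef' i j
  · intro i j
    refine Fin.cases ?_ (fun i => ?_) i <;> refine Fin.cases ?_ (fun j => ?_) j
    · intro h; exact absurd rfl h
    · intro _; simpa using (hmem (e' j)).1
    · intro _; simpa using (hmem' (e' i)).1
    · intro h
      simp only [Fin.cons_succ]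
      rw [hpol]; exact hee' i j (fun hij => h (by rw [hij]))
  · intro i j
    refine Fin.cases ?_ (fun i => ?_) i <;> refine Fin.cases ?_ (fun j => ?_) j
    · intro h; exact absurd rfl h
    · intro _; simpa using (hmem (f' j)).2
    · intro _; simpa using (hmem' (f' i)).2
    · intro h
      simp only [Fin.cons_succ]
      rw [hpol]; exact hff' i j (fun hij => h (by rw [hij]))
  · intro i
    refine Fin.cases ?_ (fun i => ?_) i
    · simpa using (hmem z').1
    · simp only [Fin.cons_succ]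
      rw [hpol]; exact hez' i
  · intro i
    refine Fin.cases ?_ (fun i => ?_) i
    · simpa using (hmem z').2
    · simp only [Fin.cons_succ]
      rw [hpol]; exact hfz' i

theorem o9awitt_aux {F : Type u} [Field F] [Fintype F] (h2 : (2 : F) ≠ 0) (r : ℕ) :
    ∀ (V : Type v) [AddCommGroup V] [Module F V] [FiniteDimensional F V] (Q : QuadraticForm F V),
      (QuadraticMap.polarBilin Q).Nondegenerate → finrank F V = 2 * r + 1 → o9awitt_P Q r := by
  induction r with
  | zero =>
    intro V _ _ _ Q hQ hr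
    obtain ⟨z, hz⟩ := o9awitt_line Q hQ (by omega)
    exact ⟨Fin.elim0, Fin.elim0, z, fun i => i.elim0, fun i => i.elim0, hz, fun i => i.elim0, fun i => i.elim0,
      fun i => i.elim0, fun i => i.elim0, fun i => i.elim0⟩
  | succ r ih =>
    intro V _ _ _ Q hQ hr
    obtain ⟨e0, f0, hQe, hQf, hef⟩ := exists_hyp_split Q hQ (by omega)
    have hfr := finrank_perp2 Q hQe hQf hef
    have hnd := perp2_nondeg Q hQ hQe hQf hef
    exact o9awitt_step Q r e0 f0 hQe hQf hef (ih (perp2 Q e0 f0) (Q.comp (perp2 Q e0 f0).subtype) hnd (by omega))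

theorem witt_odd {F : Type*} [Field F] [Fintype F] (h2 : (2 : F) ≠ 0) {V : Type*} [AddCommGroup V] [Module F V] [FiniteDimensional F V] (Q : QuadraticForm F V)
    (hQ : (QuadraticMap.polarBilin Q).Nondegenerate) (r : ℕ) (hr : finrank F V = 2 * r + 1) :
    ∃ (e f : Fin r → V) (z : V), (∀ i, Q (e i) = 0) ∧ (∀ i, Q (f i) = 0) ∧ Q z ≠ 0 ∧
      (∀ i j, QuadraticMap.polar Q (e i) (f j) = if i = j then 1 else 0) ∧
      (∀ i j, i ≠ j → QuadraticMap.polar Q (e i) (e j) = 0) ∧ (∀ i j, i ≠ j → QuadraticMap.polar Q (f i) (f j) = 0) ∧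
      (∀ i, QuadraticMap.polar Q (e i) z = 0) ∧ (∀ i, QuadraticMap.polar Q (f i) z = 0) :=
  o9awitt_aux h2 r V Q hQ hr

end Cfsg.Agent.Lib.helper3.O9A
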