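import Mathlib
import Cfsg.Agent.Lib.Helper18.OCT.Defs

set_option autoImplicit false

namespace Cfsg.Agent.Lib.Helper18.OCT

open Cfsg.Lie Matrix
open scoped MatrixGroups

section G

variable {F : Type*} [Field F]

/-- G1 -/
theorem matOf_mulVec (f : Oct F → Oct F) (hf : IsLinearMap F f) (x : Oct F) : matOf f *ᵥ x = f x := by
  have hx : x = ∑ j, x j • (Pi.single j (1 : F) : Oct F) := by
    ext i
    simp [Finset.sum_apply, Pi.single_apply]
  have h2 : f x = ∑ j, x j • f (Pi.single j (1 : F)) := by
    conv_lhs => rw [hx]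
    have := map_sum hf.mk' (fun j => x j • (Pi.single j (1 : F) : Oct F)) Finset.univ
    simp only [IsLinearMap.mk'_apply] at this
    rw [this]
    apply Finset.sum_congr rfl
    intro j _
    exact hf.map_smul _ _
  ext i
  rw [h2]
  simp only [Matrix.mulVec, dotProduct, matOf, Matrix.of_apply, Finset.sum_apply, Pi.smul_apply,
    smul_eq_mul]
  apply Finset.sum_congr rfl
  intro j _
  ring

/-- own copy of G2 (row G2 belongs to another writer) -/
theorem ocgg_comp (f g : Oct F → Oct F) (hf : IsLinearMap F f) (hg : IsLinearMap F g) :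
    matOf f * matOf g = matOf (f ∘ g) := by
  ext i j
  have h1 : (matOf f * matOf g) i j = (matOf f *ᵥ (fun k => matOf g k j)) i := by
    simp [Matrix.mul_apply, Matrix.mulVec, dotProduct]
  rw [h1, matOf_mulVec f hf]
  have h2 : (fun k => matOf g k j) = g (Pi.single j 1) := by
    ext k
    simp [matOf]
  rw [h2]
  simp [matOf]

/-- G3 -/
theorem matOf_id : matOf (fun x : Oct F => x) = 1 := by
  ext i j
  simp [matOf, Matrix.one_apply, Pi.single_apply]

/-- G4 -/
theorem glOf_coe (f g : Oct F → Oct F) (hf : IsLinearMap F f) (hg : IsLinearMap F g)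
    (hfg : ∀ x, f (g x) = x) : ((glOf f : GL (Fin 8) F) : Matrix (Fin 8) (Fin 8) F) = matOf f := by
  have h1 : matOf f * matOf g = 1 := by
    rw [ocgg_comp f g hf hg]
    have : (f ∘ g) = fun x : Oct F => x := by
      funext x
      exact hfg x
    rw [this, matOf_id]
  have h2 : IsUnit (matOf f).det := Matrix.isUnit_det_of_right_inverse h1
  unfold glOf
  rw [dif_pos h2]
  rfl

/-- G5 -/
theorem act_glOf (f g : Oct F → Oct F) (hf : IsLinearMap F f) (hg : IsLinearMap F g)
    (hfg : ∀ x, f (g x) = x) (x : Oct F) : act (glOf f) x = f x := by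
  unfold act
  rw [glOf_coe f g hf hg hfg, matOf_mulVec f hf]

/-- G6 -/
theorem act_mul (g h : GL (Fin 8) F) (x : Oct F) : act (g * h) x = act g (act h x) ∧ act 1 x = x := by
  constructor
  · unfold act
    rw [Units.val_mul, Matrix.mulVec_mulVec]
  · unfold act
    rw [Units.val_one, Matrix.one_mulVec]

/-- G7 -/
theorem act_ext (g h : GL (Fin 8) F) (hgh : ∀ x, act g x = act h x) : g = h := by
  apply Units.ext
  ext i j
  have := congrFun (hgh (Pi.single j 1)) i
  unfold act at this
  simpa [Matrix.mulVec_single_one] using this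

/-- G8 -/
theorem mem_G2_iff (g : GL (Fin 8) F) :
    g ∈ G2 F ↔ ∀ x y, act g (zornMul x y) = zornMul (act g x) (act g y) := by
  rfl

/-- G9 -/
theorem glOf_mem_G2 (f g : Oct F → Oct F) (hf : IsLinearMap F f) (hg : IsLinearMap F g)
    (hfg : ∀ x, f (g x) = x) (hmul : ∀ x y, f (zornMul x y) = zornMul (f x) (f y)) :
    glOf f ∈ G2 F := by
  rw [mem_G2_iff]
  intro x y
  rw [act_glOf f g hf hg hfg, act_glOf f g hf hg hfg, act_glOf f g hf hg hfg, hmul]

/-- G10 -/
theorem glOf_mul (f g f' g' : Oct F → Oct F) (hf : IsLinearMap F f) (hg : IsLinearMap F g)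
    (hf' : IsLinearMap F f') (hg' : IsLinearMap F g') (hfg : ∀ x, f (g x) = x)
    (hfg' : ∀ x, f' (g' x) = x) : glOf f * glOf f' = glOf (f ∘ f') := by
  apply act_ext
  intro x
  have hc : IsLinearMap F (f ∘ f') := by
    constructor
    · intro a b
      simp only [Function.comp_apply]
      rw [hf'.map_add, hf.map_add]
    · intro c a
      simp only [Function.comp_apply]
      rw [hf'.map_smul, hf.map_smul]
  have hc' : IsLinearMap F (g' ∘ g) := by
    constructor
    · intro a b
      simp only [Function.comp_apply]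
      rw [hg.map_add, hg'.map_add]
    · intro c a
      simp only [Function.comp_apply]
      rw [hg.map_smul, hg'.map_smul]
  have hinv : ∀ x, (f ∘ f') ((g' ∘ g) x) = x := by
    intro x
    simp only [Function.comp_apply]
    rw [hfg', hfg]
  rw [(act_mul (glOf f) (glOf f') x).1, act_glOf f' g' hf' hg' hfg', act_glOf f g hf hg hfg,
    act_glOf (f ∘ f') (g' ∘ g) hc hc' hinv]
  rfl

end G

end Cfsg.Agent.Lib.Helper18.OCT
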