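import Mathlib
import Cfsg.Agent.Lib.Helper18.OCT.Defs

set_option autoImplicit false

namespace Cfsg.Agent.Lib.Helper18.OCT

open Cfsg.Lie Matrix

variable {F : Type*} [Field F]

/-- X1b. -/
theorem tau_mul (x y : Oct F) : tauFun (zornMul x y) = zornMul (tauFun x) (tauFun y) := by
  ext i
  fin_cases i <;>
  · simp [tauFun, zornMul, dot3, cross3, zA, zB]
    ring

end Cfsg.Agent.Lib.Helper18.OCT
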