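import Mathlib
import Cfsg.Agent.Lib.Helper18.OCT.Defs

set_option autoImplicit false

namespace Cfsg.Agent.Lib.Helper18.OCT

open Cfsg.Lie Matrix

variable {F : Type*} [Field F]

/-- X2a. -/
theorem xu_lin (u : Fin 3 → F) :
    IsLinearMap F (xuFun u : Oct F → Oct F) ∧ ∀ x : Oct F, xuFun u (xuFun (-u) x) = x := by
  refine ⟨⟨?_, ?_⟩, ?_⟩
  · intro x y
    ext i
    fin_cases i <;>
    · simp [xuFun, dot3, cross3, zA, zB]
      ring
  · intro c x
    ext i
    fin_cases i <;>
    · simp [xuFun, dot3, cross3, zA, zB]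
      ring
  · intro x
    ext i
    fin_cases i <;>
    · simp [xuFun, dot3, cross3, zA, zB]
      try ring

end Cfsg.Agent.Lib.Helper18.OCT
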