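import Mathlib
import Cfsg.Agent.Lib.Helper18.OCT.Defs

set_option autoImplicit false

namespace Cfsg.Agent.Lib.Helper18.OCT

open Cfsg.Lie Matrix

variable {F : Type*} [Field F]

/-- X2b. -/
theorem xu_mul (u : Fin 3 → F) (x y : Oct F) :
    xuFun u (zornMul x y) = zornMul (xuFun u x) (xuFun u y) := by
  ext i
  fin_cases i <;>
  · simp [xuFun, zornMul, dot3, cross3, zA, zB]
    ring

end Cfsg.Agent.Lib.Helper18.OCT
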