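import Mathlib
import Cfsg.Agent.Lib.Helper18.OCT.Defs
import Cfsg.Agent.Lib.Helper18.OCGG
import Cfsg.Agent.Lib.Helper18.OCTX1b
import Cfsg.Agent.Lib.Helper18.OCTX2a
import Cfsg.Agent.Lib.Helper18.OCTX2b

set_option autoImplicit false

namespace Cfsg.Agent.Lib.Helper18.OCT

open Cfsg.Lie Matrix
open scoped MatrixGroups

section X

variable {F : Type*} [Field F]

/-- X1a -/
theorem tau_lin : IsLinearMap F (tauFun : Oct F → Oct F) ∧ ∀ x : Oct F, tauFun (tauFun x) = x := by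
  refine ⟨⟨?_, ?_⟩, ?_⟩
  · intro x y
    ext i
    fin_cases i <;> simp [tauFun] <;> ring
  · intro c x
    ext i
    fin_cases i <;> simp [tauFun]
  · intro x
    ext i
    fin_cases i <;> simp [tauFun]

/-- X1 -/
theorem tau_mem : glOf (tauFun : Oct F → Oct F) ∈ G2 F ∧ ∀ x : Oct F, act (glOf tauFun) x = tauFun x :=
  ⟨glOf_mem_G2 tauFun tauFun tau_lin.1 tau_lin.1 tau_lin.2 tau_mul,
    act_glOf tauFun tauFun tau_lin.1 tau_lin.1 tau_lin.2⟩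

/-- X2 -/
theorem xu_mem (u : Fin 3 → F) :
    glOf (xuFun u : Oct F → Oct F) ∈ G2 F ∧ ∀ x : Oct F, act (glOf (xuFun u)) x = xuFun u x :=
  ⟨glOf_mem_G2 (xuFun u) (xuFun (-u)) (xu_lin u).1 (xu_lin (-u)).1 (xu_lin u).2 (xu_mul u),
    act_glOf (xuFun u) (xuFun (-u)) (xu_lin u).1 (xu_lin (-u)).1 (xu_lin u).2⟩

end X

end Cfsg.Agent.Lib.Helper18.OCT

namespace Cfsg.Agent.Lib.Helper18.OCT

open Cfsg.Lie Matrix
open scoped MatrixGroups

section X3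

variable {F : Type*} [Field F]

theorem ocgx3_act4 (a b : Fin 3 → F) (x : Oct F) :
    act (glOf (xuFun a) * glOf tauFun * glOf (xuFun b) * glOf tauFun) x =
      xuFun a (tauFun (xuFun b (tauFun x))) := by
  rw [(act_mul _ _ _).1, (act_mul _ _ _).1, (act_mul _ _ _).1, tau_mem.2, (xu_mem b).2, tau_mem.2,
    (xu_mem a).2]

/-- X3a core: with the statement of Z4 as hypothesis -/
theorem ocgx3a_core
    (hZ4 : ∀ e : Oct F, e ∈ Idem F ↔ e 0 + e 7 = 1 ∧ dot3 (zA F e) (zB F e) = e 0 * e 7)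
    (e : Oct F) (he : e ∈ Idem F) (h7 : e 7 = 0) :
    ∃ g ∈ G2 F, act g e1 = e := by
  obtain ⟨h1, h2⟩ := (hZ4 e).mp he
  rw [h7, add_zero] at h1
  rw [h7, mul_zero] at h2
  refine ⟨glOf (xuFun (zA F e)) * glOf tauFun * glOf (xuFun (zB F e)) * glOf tauFun, ?_, ?_⟩
  · exact (G2 F).mul_mem ((G2 F).mul_mem ((G2 F).mul_mem (xu_mem _).1 tau_mem.1) (xu_mem _).1)
      tau_mem.1
  · rw [ocgx3_act4]
    have h2' : e 1 * e 4 + e 2 * e 5 + e 3 * e 6 = 0 := by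
      simpa [dot3, zA, zB] using h2
    ext i
    fin_cases i <;> simp [xuFun, tauFun, e1, dot3, cross3, zA, zB, h1, h7]
    all_goals first | exact h2' | (rw [h2']; ring)

/-- the case `e 0 = 0` -/
theorem ocgx3_case0
    (hZ4 : ∀ e : Oct F, e ∈ Idem F ↔ e 0 + e 7 = 1 ∧ dot3 (zA F e) (zB F e) = e 0 * e 7)
    (hZ5 : ∀ g : GL (Fin 8) F, g ∈ G2 F → ∀ e : Oct F, e ∈ Idem F → act g e ∈ Idem F)
    (e : Oct F) (he : e ∈ Idem F) (h0 : e 0 = 0) :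
    ∃ g ∈ G2 F, act g e1 = e := by
  have h1 : tauFun e ∈ Idem F := by
    rw [← tau_mem.2 e]
    exact hZ5 _ tau_mem.1 e he
  have h2 : tauFun e 7 = 0 := by
    simp [tauFun, h0]
  obtain ⟨g, hg, hge⟩ := ocgx3a_core hZ4 (tauFun e) h1 h2
  refine ⟨glOf tauFun * g, (G2 F).mul_mem tau_mem.1 hg, ?_⟩
  rw [(act_mul _ _ _).1, hge, tau_mem.2, tau_lin.2]

/-- X3 core: with the statements of Z4 and Z5 as hypotheses -/
theorem ocgx3_core
    (hZ4 : ∀ e : Oct F, e ∈ Idem F ↔ e 0 + e 7 = 1 ∧ dot3 (zA F e) (zB F e) = e 0 * e 7)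
    (hZ5 : ∀ g : GL (Fin 8) F, g ∈ G2 F → ∀ e : Oct F, e ∈ Idem F → act g e ∈ Idem F)
    (e : Oct F) (he : e ∈ Idem F) :
    ∃ g ∈ G2 F, act g e1 = e := by
  by_cases h7 : e 7 = 0
  · exact ocgx3a_core hZ4 e he h7
  by_cases h0 : e 0 = 0
  · exact ocgx3_case0 hZ4 hZ5 e he h0
  obtain ⟨h1, h2⟩ := (hZ4 e).mp he
  have hs : e 0 * e 7 ≠ 0 := mul_ne_zero h0 h7
  set u : Fin 3 → F := (e 0 / (e 0 * e 7)) • zA F e with hu
  have h3 : xuFun u e ∈ Idem F := by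
    rw [← (xu_mem u).2 e]
    exact hZ5 _ (xu_mem u).1 e he
  have h4 : xuFun u e 0 = 0 := by
    have h5 : dot3 u (zB F e) = e 0 := by
      have : dot3 u (zB F e) = (e 0 / (e 0 * e 7)) * dot3 (zA F e) (zB F e) := by
        simp only [hu, dot3, Pi.smul_apply, smul_eq_mul]
        ring
      rw [this, h2]
      field_simp
    simp only [xuFun, Matrix.cons_val_zero]
    rw [h5, sub_self]
  obtain ⟨g, hg, hge⟩ := ocgx3_case0 hZ4 hZ5 (xuFun u e) h3 h4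
  refine ⟨glOf (xuFun (-u)) * g, (G2 F).mul_mem (xu_mem _).1 hg, ?_⟩
  rw [(act_mul _ _ _).1, hge, (xu_mem (-u)).2]
  have := (xu_lin (-u)).2 e
  rw [neg_neg] at this
  exact this

end X3

end Cfsg.Agent.Lib.Helper18.OCT
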