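import Mathlib
import Cfsg.Agent.Lib.Helper18.OCT.Defs
import Cfsg.Agent.Lib.Helper18.OCGX1
import Cfsg.Agent.Lib.Helper27.OCGZ4
import Cfsg.Agent.Lib.Helper20.OCGZ5

set_option autoImplicit false

namespace Cfsg.Agent.Lib.Helper18.OCT

open Cfsg.Lie Matrix
open scoped MatrixGroups

section X

variable {F : Type*} [Field F]

/-- X3a -/
theorem exists_act_e1_of_beta_zero (e : Oct F) (he : e ∈ Idem F) (h7 : e 7 = 0) :
    ∃ g ∈ G2 F, act g e1 = e :=
  ocgx3a_core mem_Idem_iff e he h7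

/-- X3 -/
theorem exists_act_e1 (e : Oct F) (he : e ∈ Idem F) : ∃ g ∈ G2 F, act g e1 = e :=
  ocgx3_core mem_Idem_iff act_mem_Idem e he

end X

end Cfsg.Agent.Lib.Helper18.OCT
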