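import Mathlib
import Cfsg.Agent.Lib.Helper18.OCT.Defs
import Cfsg.Agent.Lib.Helper18.OCGG
import Cfsg.Agent.Lib.Helper27.OCGZ3

set_option autoImplicit false

namespace Cfsg.Agent.Lib.Helper18.OCT

open Cfsg.Lie Matrix
open scoped MatrixGroups

section X5a

variable {F : Type*} [Field F]

theorem ocgx5a_add (g : GL (Fin 8) F) (x y : Oct F) (c : F) :
    act g (x + y) = act g x + act g y ∧ act g (c • x) = c • act g x ∧ act g 0 = 0 := by
  unfold act
  exact ⟨Matrix.mulVec_add _ _ _, Matrix.mulVec_smul _ _ _, Matrix.mulVec_zero _⟩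

theorem ocgx5a_col (g : GL (Fin 8) F) (j k : Fin 8) :
    act g (Pi.single j 1) k = (g : Matrix (Fin 8) (Fin 8) F) k j := by
  unfold act
  simp

/-- `act g e2 = e2` -/
theorem ocgx5a_e2 (g : GL (Fin 8) F) (hg : g ∈ G2 F) (h1 : act g e1 = e1) : act g (e2 : Oct F) = e2 := by
  have h : (e2 : Oct F) = one8 + (-1 : F) • e1 := by
    ext i
    fin_cases i <;> simp [e1, e2, one8]
  rw [h, (ocgx5a_add g _ _ 0).1, (ocgx5a_add g e1 0 (-1)).2.1, act_one8 g hg, h1]

/-- images of `[a]` stay in `V` -/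
theorem ocgx5a_V (g : GL (Fin 8) F) (hg : g ∈ G2 F) (h1 : act g e1 = e1) (x : Oct F)
    (hx1 : zornMul e1 x = x) (hx2 : zornMul x e1 = 0) :
    act g x 0 = 0 ∧ act g x 4 = 0 ∧ act g x 5 = 0 ∧ act g x 6 = 0 ∧ act g x 7 = 0 := by
  have hm := (mem_G2_iff g).mp hg
  have a1 : zornMul e1 (act g x) = act g x := by
    have := hm e1 x
    rw [hx1, h1] at this
    exact this.symm
  have a2 : zornMul (act g x) e1 = 0 := by
    have := hm x e1
    rw [hx2, h1, (ocgx5a_add g 0 0 0).2.2] at this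
    exact this.symm
  have b4 := congrFun a1 4
  have b5 := congrFun a1 5
  have b6 := congrFun a1 6
  have b7 := congrFun a1 7
  have b0 := congrFun a2 0
  simp [zornMul, e1, dot3, cross3, zA, zB] at b4 b5 b6 b7 b0
  exact ⟨b0, b4.symm, b5.symm, b6.symm, b7.symm⟩

/-- images of `⟨b⟩` stay in `V*` -/
theorem ocgx5a_Vd (g : GL (Fin 8) F) (hg : g ∈ G2 F) (h2 : act g e2 = e2) (x : Oct F)
    (hx1 : zornMul e2 x = x) (hx2 : zornMul x e2 = 0) :
    act g x 0 = 0 ∧ act g x 1 = 0 ∧ act g x 2 = 0 ∧ act g x 3 = 0 ∧ act g x 7 = 0 := by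
  have hm := (mem_G2_iff g).mp hg
  have a1 : zornMul e2 (act g x) = act g x := by
    have := hm e2 x
    rw [hx1, h2] at this
    exact this.symm
  have a2 : zornMul (act g x) e2 = 0 := by
    have := hm x e2
    rw [hx2, h2, (ocgx5a_add g 0 0 0).2.2] at this
    exact this.symm
  have b0 := congrFun a1 0
  have b1 := congrFun a1 1
  have b2 := congrFun a1 2
  have b3 := congrFun a1 3
  have b7 := congrFun a2 7
  simp [zornMul, e2, dot3, cross3, zA, zB] at b0 b1 b2 b3 b7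
  exact ⟨b0.symm, b1.symm, b2.symm, b3.symm, b7⟩

/-- X5a -/
theorem stab_block (g : GL (Fin 8) F) (hg : g ∈ G2 F) (h1 : act g e1 = e1) :
    ∃ A B : Matrix (Fin 3) (Fin 3) F, ∀ x : Oct F, act g x = sl3Fun A B x := by
  have h2 := ocgx5a_e2 g hg h1
  set M : Matrix (Fin 8) (Fin 8) F := (g : Matrix (Fin 8) (Fin 8) F) with hM
  have c0 : ∀ k, M k 0 = (e1 : Oct F) k := by
    intro k
    rw [hM, ← ocgx5a_col g 0 k]
    have : (Pi.single 0 1 : Oct F) = e1 := by
      ext i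
      fin_cases i <;> simp [e1]
    rw [this, h1]
  have c7 : ∀ k, M k 7 = (e2 : Oct F) k := by
    intro k
    rw [hM, ← ocgx5a_col g 7 k]
    have : (Pi.single 7 1 : Oct F) = e2 := by
      ext i
      fin_cases i <;> simp [e2]
    rw [this, h2]
  have cV : ∀ l : Fin 8, (l = 1 ∨ l = 2 ∨ l = 3) →
      M 0 l = 0 ∧ M 4 l = 0 ∧ M 5 l = 0 ∧ M 6 l = 0 ∧ M 7 l = 0 := by
    intro l hl
    have hx1 : zornMul e1 (Pi.single l 1 : Oct F) = Pi.single l 1 := by
      rcases hl with rfl | rfl | rfl <;>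
      · ext i
        fin_cases i <;> simp [zornMul, e1, dot3, cross3, zA, zB]
    have hx2 : zornMul (Pi.single l 1 : Oct F) e1 = 0 := by
      rcases hl with rfl | rfl | rfl <;>
      · ext i
        fin_cases i <;> simp [zornMul, e1, dot3, cross3, zA, zB]
    have := ocgx5a_V g hg h1 _ hx1 hx2
    simp only [ocgx5a_col] at this
    exact this
  have cW : ∀ l : Fin 8, (l = 4 ∨ l = 5 ∨ l = 6) →
      M 0 l = 0 ∧ M 1 l = 0 ∧ M 2 l = 0 ∧ M 3 l = 0 ∧ M 7 l = 0 := by
    intro l hl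
    have hx1 : zornMul e2 (Pi.single l 1 : Oct F) = Pi.single l 1 := by
      rcases hl with rfl | rfl | rfl <;>
      · ext i
        fin_cases i <;> simp [zornMul, e2, dot3, cross3, zA, zB]
    have hx2 : zornMul (Pi.single l 1 : Oct F) e2 = 0 := by
      rcases hl with rfl | rfl | rfl <;>
      · ext i
        fin_cases i <;> simp [zornMul, e2, dot3, cross3, zA, zB]
    have := ocgx5a_Vd g hg h2 _ hx1 hx2
    simp only [ocgx5a_col] at this
    exact this
  refine ⟨Matrix.of fun i j : Fin 3 => M (![1, 2, 3] i) (![1, 2, 3] j),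
    Matrix.of fun i j : Fin 3 => M (![4, 5, 6] i) (![4, 5, 6] j), ?_⟩
  intro x
  have v1 := cV 1 (Or.inl rfl)
  have v2 := cV 2 (Or.inr (Or.inl rfl))
  have v3 := cV 3 (Or.inr (Or.inr rfl))
  have w4 := cW 4 (Or.inl rfl)
  have w5 := cW 5 (Or.inr (Or.inl rfl))
  have w6 := cW 6 (Or.inr (Or.inr rfl))
  ext k
  unfold act
  rw [← hM]
  fin_cases k <;>
  · simp [sl3Fun, Matrix.mulVec, dotProduct, Fin.sum_univ_eight, Fin.sum_univ_three, zA, zB, c0, c7,
      e1, e2, v1, v2, v3, w4, w5, w6]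

end X5a

end Cfsg.Agent.Lib.Helper18.OCT
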