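import Mathlib
import Cfsg.Agent.Lib.Helper18.OCT.Defs
import Cfsg.Agent.Lib.Helper18.OCGG

set_option autoImplicit false

namespace Cfsg.Agent.Lib.Helper18.OCT

open Cfsg.Lie Matrix
open scoped MatrixGroups

section X5

variable {F : Type*} [Field F]

/-- X4b -/
theorem sl3_mul (A : Matrix (Fin 3) (Fin 3) F) (hdet : A.det = 1) (x y : Oct F) :
    sl3Fun A (Matrix.adjugate A)ᵀ (zornMul x y) =
      zornMul (sl3Fun A (Matrix.adjugate A)ᵀ x) (sl3Fun A (Matrix.adjugate A)ᵀ y) := by
  rw [Matrix.det_fin_three] at hdet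
  ext i
  fin_cases i
  · simp [sl3Fun, zornMul, dot3, cross3, zA, zB, Matrix.adjugate_fin_three, Matrix.mulVec, dotProduct, Fin.sum_univ_three]
    linear_combination (-(x 1 * y 4 + x 2 * y 5 + x 3 * y 6)) * hdet
  · simp [sl3Fun, zornMul, dot3, cross3, zA, zB, Matrix.adjugate_fin_three, Matrix.mulVec, dotProduct, Fin.sum_univ_three]
    linear_combination (A 0 0 * (x 5 * y 6 - x 6 * y 5) + A 0 1 * (x 6 * y 4 - x 4 * y 6) +
      A 0 2 * (x 4 * y 5 - x 5 * y 4)) * hdet
  · simp [sl3Fun, zornMul, dot3, cross3, zA, zB, Matrix.adjugate_fin_three, Matrix.mulVec, dotProduct, Fin.sum_univ_three]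
    linear_combination (A 1 0 * (x 5 * y 6 - x 6 * y 5) + A 1 1 * (x 6 * y 4 - x 4 * y 6) +
      A 1 2 * (x 4 * y 5 - x 5 * y 4)) * hdet
  · simp [sl3Fun, zornMul, dot3, cross3, zA, zB, Matrix.adjugate_fin_three, Matrix.mulVec, dotProduct, Fin.sum_univ_three]
    linear_combination (A 2 0 * (x 5 * y 6 - x 6 * y 5) + A 2 1 * (x 6 * y 4 - x 4 * y 6) +
      A 2 2 * (x 4 * y 5 - x 5 * y 4)) * hdet
  · simp [sl3Fun, zornMul, dot3, cross3, zA, zB, Matrix.adjugate_fin_three, Matrix.mulVec, dotProduct, Fin.sum_univ_three]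
    ring
  · simp [sl3Fun, zornMul, dot3, cross3, zA, zB, Matrix.adjugate_fin_three, Matrix.mulVec, dotProduct, Fin.sum_univ_three]
    ring
  · simp [sl3Fun, zornMul, dot3, cross3, zA, zB, Matrix.adjugate_fin_three, Matrix.mulVec, dotProduct, Fin.sum_univ_three]
    ring
  · simp [sl3Fun, zornMul, dot3, cross3, zA, zB, Matrix.adjugate_fin_three, Matrix.mulVec, dotProduct, Fin.sum_univ_three]
    linear_combination (-(x 4 * y 1 + x 5 * y 2 + x 6 * y 3)) * hdet

theorem ocgx5b_dot (A B : Matrix (Fin 3) (Fin 3) F)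
    (hmul : ∀ x y : Oct F, sl3Fun A B (zornMul x y) = zornMul (sl3Fun A B x) (sl3Fun A B y))
    (a d : Fin 3 → F) : dot3 (A *ᵥ a) (B *ᵥ d) = dot3 a d := by
  have := congrFun (hmul ![0, a 0, a 1, a 2, 0, 0, 0, 0] ![0, 0, 0, 0, d 0, d 1, d 2, 0]) 0
  simp [sl3Fun, zornMul, dot3, cross3, zA, zB, Matrix.mulVec, dotProduct, Fin.sum_univ_three] at this
  simp only [dot3, Matrix.mulVec, dotProduct, Fin.sum_univ_three]
  linear_combination -this

theorem ocgx5b_cross (A B : Matrix (Fin 3) (Fin 3) F)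
    (hmul : ∀ x y : Oct F, sl3Fun A B (zornMul x y) = zornMul (sl3Fun A B x) (sl3Fun A B y))
    (a c : Fin 3 → F) : B *ᵥ (cross3 a c) = cross3 (A *ᵥ a) (A *ᵥ c) := by
  have h := hmul ![0, a 0, a 1, a 2, 0, 0, 0, 0] ![0, c 0, c 1, c 2, 0, 0, 0, 0]
  have h4 := congrFun h 4
  have h5 := congrFun h 5
  have h6 := congrFun h 6
  simp [sl3Fun, zornMul, dot3, cross3, zA, zB, Matrix.mulVec, dotProduct, Fin.sum_univ_three] at h4 h5 h6
  ext i
  fin_cases i
  · simp [cross3, Matrix.mulVec, dotProduct, Fin.sum_univ_three]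
    linear_combination h4
  · simp [cross3, Matrix.mulVec, dotProduct, Fin.sum_univ_three]
    linear_combination h5
  · simp [cross3, Matrix.mulVec, dotProduct, Fin.sum_univ_three]
    linear_combination h6

/-- X5b -/
theorem stab_det (A B : Matrix (Fin 3) (Fin 3) F)
    (hmul : ∀ x y : Oct F, sl3Fun A B (zornMul x y) = zornMul (sl3Fun A B x) (sl3Fun A B y)) :
    A.det = 1 ∧ B = (Matrix.adjugate A)ᵀ := by
  have hB : B = (Matrix.adjugate A)ᵀ := by
    have c0 := ocgx5b_cross A B hmul ![0, 1, 0] ![0, 0, 1]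
    have c1 := ocgx5b_cross A B hmul ![0, 0, 1] ![1, 0, 0]
    have c2 := ocgx5b_cross A B hmul ![1, 0, 0] ![0, 1, 0]
    ext i j
    fin_cases j
    · have := congrFun c0 i
      fin_cases i <;>
      · simp [cross3, Matrix.mulVec, dotProduct, Fin.sum_univ_three, Matrix.adjugate_fin_three] at this ⊢
        linear_combination this
    · have := congrFun c1 i
      fin_cases i <;>
      · simp [cross3, Matrix.mulVec, dotProduct, Fin.sum_univ_three, Matrix.adjugate_fin_three] at this ⊢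
        linear_combination this
    · have := congrFun c2 i
      fin_cases i <;>
      · simp [cross3, Matrix.mulVec, dotProduct, Fin.sum_univ_three, Matrix.adjugate_fin_three] at this ⊢
        linear_combination this
  refine ⟨?_, hB⟩
  have h1 := ocgx5b_dot A B hmul ![0, 0, 1] ![0, 0, 1]
  rw [hB] at h1
  simp [dot3, Matrix.mulVec, dotProduct, Fin.sum_univ_three, Matrix.adjugate_fin_three] at h1
  rw [Matrix.det_fin_three]
  linear_combination h1

end X5

end Cfsg.Agent.Lib.Helper18.OCT
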