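import Mathlib
import Cfsg.Agent.Lib.Helper18.OCT.Defs
import Cfsg.Agent.Lib.Helper18.OCGG
import Cfsg.Agent.Lib.Helper18.OCGX5a
import Cfsg.Agent.Lib.Helper18.OCGX5b
import Cfsg.Agent.Lib.Helper20.OCGX4core

/-!
# Project OCG, row X5 (helper18): the stabiliser of `e1` in `G₂(F)` is `sl3GL (SL₃(F))`.
-/

set_option autoImplicit false

namespace Cfsg.Agent.Lib.Helper18.OCT

open Cfsg.Lie Matrix
open scoped MatrixGroups

variable {F : Type*} [Field F]

theorem stab_e1 (g : GL (Fin 8) F) (hg : g ∈ G2 F) (h1 : act g e1 = e1) :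
    ∃ A : Matrix.SpecialLinearGroup (Fin 3) F, g = sl3GL A := by
  obtain ⟨A, B, hAB⟩ := stab_block g hg h1
  have hmul : ∀ x y : Oct F, sl3Fun A B (zornMul x y) = zornMul (sl3Fun A B x) (sl3Fun A B y) := by
    intro x y
    rw [← hAB, ← hAB, ← hAB]
    exact (mem_G2_iff g).1 hg x y
  obtain ⟨hdet, hB⟩ := stab_det A B hmul
  refine ⟨⟨A, hdet⟩, ?_⟩
  apply act_ext
  intro x
  rw [hAB, (ocgx4_core (⟨A, hdet⟩ : Matrix.SpecialLinearGroup (Fin 3) F)
    (sl3_mul A hdet)).2 x, hB]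

end Cfsg.Agent.Lib.Helper18.OCT
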