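import Mathlib
import Cfsg.Agent.Lib.Helper18.OCT.Defs

set_option autoImplicit false

namespace Cfsg.Agent.Lib.Helper18.OCT

open Cfsg.Lie Matrix

variable {F : Type*} [Field F]

theorem octc1_cdA (x y : Oct F) :
    cdA (zornMul x y) = cdA x * cdA y - Matrix.adjugate (cdB y) * cdB x := by
  ext i j
  fin_cases i <;> fin_cases j <;>
  · simp [cdA, cdB, zornMul, dot3, cross3, zA, zB, Matrix.adjugate_fin_two]
    ring

theorem octc1_cdB (x y : Oct F) :
    cdB (zornMul x y) = cdB y * cdA x + cdB x * Matrix.adjugate (cdA y) := by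
  ext i j
  fin_cases i <;> fin_cases j <;>
  · simp [cdA, cdB, zornMul, dot3, cross3, zA, zB, Matrix.adjugate_fin_two]
    ring

/-- C1. -/
theorem cd_mul (x y : Oct F) :
    cdA (zornMul x y) = cdA x * cdA y - Matrix.adjugate (cdB y) * cdB x ∧
      cdB (zornMul x y) = cdB y * cdA x + cdB x * Matrix.adjugate (cdA y) :=
  ⟨octc1_cdA x y, octc1_cdB x y⟩

end Cfsg.Agent.Lib.Helper18.OCT
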