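import Mathlib
import Cfsg.Agent.Lib.Helper12.OMB.Defs

/-!
# Project OMB (designer helper12, matrix side of S2094), row C1 (helper18), VERBATIM: `omatB_det`
`det = 1` on `Ω_{2l+1}(F)` (the commutator subgroup lies in the kernel of `det`).
-/

set_option autoImplicit false

namespace Cfsg.Agent.Lib.Helper12.OMB

open Matrix Cfsg.Agent.Lib.helper15.St2 Cfsg.Agent.Lib.helper3.STC Cfsg.Agent.Lib.Lead.STD Cfsg.Agent.Lib.Lead.STB

universe u w

section C

variable {l : ℕ} {F : Type u} [Field F]

/-- C1 [S-M] -/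
theorem omatB_det (g : ↥(Cfsg.Omega F (Cfsg.quadFormOdd l F))) : (omatB g).det = 1 := by
  have h := Abelianization.commutator_subset_ker
    ((Matrix.GeneralLinearGroup.det (n := Ix (Fin l)) (R := F)).comp
      (Subgroup.subtype (Cfsg.isometryGroup F (Cfsg.quadFormOdd l F)))) g.2
  rw [MonoidHom.mem_ker] at h
  have h2 := congrArg (fun u : Fˣ => (u : F)) h
  simpa [omatB] using h2

end C

end Cfsg.Agent.Lib.Helper12.OMB
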