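import Mathlib
import Cfsg.Agent.Lib.Helper12.OMB.Defs
import Cfsg.Agent.Lib.Lead.POM

/-!
# Project OMB (designer helper12, matrix side of S2094), row C2 (helper18), VERBATIM: `scalar_of_comm`
a matrix commuting with all `TbL a b 1` and `TbS a 1` is scalar (`Lead.POM.pom_scalar_of_comm` on the block `e_0^⊥`, entrywise for the rest).
-/

set_option autoImplicit false

namespace Cfsg.Agent.Lib.Helper12.OMB

open Matrix Cfsg.Agent.Lib.helper15.St2 Cfsg.Agent.Lib.helper3.STC Cfsg.Agent.Lib.Lead.STD Cfsg.Agent.Lib.Lead.STB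

universe u w

section C

variable {l : ℕ} {F : Type u} [Field F]

theorem ombc2_mul_single {n : Type*} [Fintype n] [DecidableEq n] (A : Matrix n n F) (a b i j : n) (c : F) :
    (A * Matrix.single a b c) i j = if j = b then A i a * c else 0 := by
  by_cases h : j = b
  · subst h
    rw [Matrix.mul_single_apply_same, if_pos rfl]
  · rw [Matrix.mul_single_apply_of_ne c a b i j h A, if_neg h]

theorem ombc2_single_mul {n : Type*} [Fintype n] [DecidableEq n] (A : Matrix n n F) (a b i j : n) (c : F) :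
    (Matrix.single a b c * A) i j = if i = a then c * A b j else 0 := by
  by_cases h : i = a
  · subst h
    rw [Matrix.single_mul_apply_same, if_pos rfl]
  · rw [Matrix.single_mul_apply_of_ne c a b i j h A, if_neg h]

/-- the entrywise form of `A * TbL a b 1 = TbL a b 1 * A` -/
theorem ombc2_entryL (A : Matrix (Ix (Fin l)) (Ix (Fin l)) F) (a b : Fin l ⊕ Fin l)
    (h : A * TbL a b 1 = TbL a b 1 * A) (i j : Ix (Fin l)) :
    (if j = Sum.inr b then A i (Sum.inr a) else 0) - (if j = Sum.inr (ng a) then A i (Sum.inr (ng b)) else 0) =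
      (if i = Sum.inr a then A (Sum.inr b) j else 0) - (if i = Sum.inr (ng b) then A (Sum.inr (ng a)) j else 0) := by
  unfold TbL at h
  rw [Matrix.mul_sub, Matrix.mul_add, Matrix.mul_one, Matrix.sub_mul, Matrix.add_mul, Matrix.one_mul] at h
  have h' := congrFun (congrFun h i) j
  simp only [Matrix.sub_apply, Matrix.add_apply, ombc2_mul_single, ombc2_single_mul, mul_one, one_mul] at h'
  linear_combination h'

/-- the entry `(i0, inr (ng a))` of `A * TbS a 1 = TbS a 1 * A` -/
theorem ombc2_entryS (A : Matrix (Ix (Fin l)) (Ix (Fin l)) F) (a : Fin l ⊕ Fin l)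
    (h : A * TbS a 1 = TbS a 1 * A) :
    A i0 i0 - A i0 (Sum.inr a) = A (Sum.inr (ng a)) (Sum.inr (ng a)) := by
  unfold TbS at h
  rw [Matrix.mul_sub, Matrix.mul_sub, Matrix.mul_add, Matrix.mul_one, Matrix.sub_mul, Matrix.sub_mul, Matrix.add_mul,
    Matrix.one_mul] at h
  have h' := congrFun (congrFun h i0) (Sum.inr (ng a))
  simp only [Matrix.sub_apply, Matrix.add_apply, ombc2_mul_single, ombc2_single_mul, mul_one, one_mul] at h'
  have e1 : (Sum.inr (ng a) : Ix (Fin l)) ≠ i0 := fun e => by cases e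
  have e2 : (i0 : Ix (Fin l)) ≠ Sum.inr a := fun e => by cases e
  simp only [if_true, if_neg e1, if_neg e2] at h'
  linear_combination h'

/-- C2 [M] -/
theorem scalar_of_comm (hl : 3 ≤ l) (A : Matrix (Ix (Fin l)) (Ix (Fin l)) F)
    (hL : ∀ a b : Fin l ⊕ Fin l, a ≠ b → a ≠ ng b → A * TbL a b 1 = TbL a b 1 * A)
    (hS : ∀ a : Fin l ⊕ Fin l, A * TbS a 1 = TbS a 1 * A) :
    A = A i0 i0 • (1 : Matrix (Ix (Fin l)) (Ix (Fin l)) F) := by
  -- the block on `e_0^⊥`
  set Dm : Matrix (Fin l ⊕ Fin l) (Fin l ⊕ Fin l) F := fun i j => A (Sum.inr i) (Sum.inr j) with hDm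
  have hD : ∀ a b : Fin l ⊕ Fin l, a ≠ b → a ≠ ng b → Dm * Td a b 1 = Td a b 1 * Dm := by
    intro a b hab hab'
    ext i j
    have hE := ombc2_entryL A a b (hL a b hab hab') (Sum.inr i) (Sum.inr j)
    simp only [Sum.inr.injEq] at hE
    unfold Td
    rw [Matrix.mul_sub, Matrix.mul_add, Matrix.mul_one, Matrix.sub_mul, Matrix.add_mul, Matrix.one_mul]
    simp only [Matrix.sub_apply, Matrix.add_apply, Cfsg.Agent.Lib.Lead.POM.pom_mul_single,
      Cfsg.Agent.Lib.Lead.POM.pom_single_mul]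
    show A (Sum.inr i) (Sum.inr j) + (if j = b then A (Sum.inr i) (Sum.inr a) else 0) -
        (if j = ng a then A (Sum.inr i) (Sum.inr (ng b)) else 0) =
      A (Sum.inr i) (Sum.inr j) + (if i = a then A (Sum.inr b) (Sum.inr j) else 0) -
        (if i = ng b then A (Sum.inr (ng a)) (Sum.inr j) else 0)
    linear_combination hE
  -- a third index
  obtain ⟨o⟩ : Nonempty (Fin l ⊕ Fin l) := ⟨Sum.inl ⟨0, by omega⟩⟩
  have hDs := Cfsg.Agent.Lib.Lead.POM.pom_scalar_of_comm hl Dm hD o
  have hrr : ∀ i j : Fin l ⊕ Fin l, A (Sum.inr i) (Sum.inr j) = if i = j then Dm o o else 0 := by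
    intro i j
    have := congrFun (congrFun hDs i) j
    rw [Matrix.smul_apply, Matrix.one_apply, smul_eq_mul] at this
    show Dm i j = _
    rw [this]
    split_ifs <;> simp
  -- the column and the row of `e_0`
  have hcol : ∀ b : Fin l ⊕ Fin l, A (Sum.inr b) i0 = 0 := by
    intro b
    obtain ⟨a, hba, hba', -, -⟩ := Cfsg.Agent.Lib.Helper28.OMM.ommo5_third hl b b
    have hab : a ≠ b := hba.symm
    have hab' : a ≠ ng b := fun e => hba' (by rw [e, ng_ng])
    have hE := ombc2_entryL A a b (hL a b hab hab') (Sum.inr a) i0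
    have e1 : (i0 : Ix (Fin l)) ≠ Sum.inr b := fun e => by cases e
    have e2 : (i0 : Ix (Fin l)) ≠ Sum.inr (ng a) := fun e => by cases e
    have e3 : (Sum.inr a : Ix (Fin l)) ≠ Sum.inr (ng b) := fun e => hab' (Sum.inr.inj e)
    rw [if_neg e1, if_neg e2, if_pos rfl, if_neg e3] at hE
    simpa using hE.symm
  have hrow : ∀ a : Fin l ⊕ Fin l, A i0 (Sum.inr a) = 0 := by
    intro a
    obtain ⟨b, hab, hab', -, -⟩ := Cfsg.Agent.Lib.Helper28.OMM.ommo5_third hl a a
    have hE := ombc2_entryL A a b (hL a b hab hab') i0 (Sum.inr b)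
    have e1 : (Sum.inr b : Ix (Fin l)) ≠ Sum.inr (ng a) := fun e => hab' (by rw [Sum.inr.inj e, ng_ng])
    have e2 : (i0 : Ix (Fin l)) ≠ Sum.inr a := fun e => by cases e
    have e3 : (i0 : Ix (Fin l)) ≠ Sum.inr (ng b) := fun e => by cases e
    rw [if_pos rfl, if_neg e1, if_neg e2, if_neg e3] at hE
    simpa using hE
  -- the entry `(0, 0)`
  have h00 : A i0 i0 = Dm o o := by
    have h := ombc2_entryS A o (hS o)
    rw [hrow, sub_zero, hrr, if_pos rfl] at h
    exact h
  ext i j
  rw [Matrix.smul_apply, Matrix.one_apply, smul_eq_mul]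
  rcases i with u | i <;> rcases j with u' | j
  · rw [if_pos rfl, mul_one]
  · rw [if_neg (fun e => by cases e), mul_zero]
    exact hrow j
  · rw [if_neg (fun e => by cases e), mul_zero]
    exact hcol i
  · rw [hrr, h00]
    by_cases hij : i = j
    · rw [if_pos hij, if_pos (by rw [hij]), mul_one]
    · rw [if_neg hij, if_neg (fun e => hij (Sum.inr.inj e)), mul_zero]

end C

end Cfsg.Agent.Lib.Helper12.OMB
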