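import Mathlib
import Cfsg.Agent.Lib.Helper18.ONE.Defs
import Cfsg.Agent.Lib.Helper18.ONETYFPF
import Cfsg.Agent.Lib.Helper24.ElD
import Cfsg.Agent.Lib.Helper18.ONESPLITW
import Cfsg.Agent.Lib.helper23.ONECYCLADDER
import Cfsg.Agent.Lib.helper23.ONETYARITH

set_option autoImplicit false

namespace Cfsg.Agent.Lib.Helper18.ONE

open Polynomial Module Cfsg.Agent.Lib.Helper13.S5955 Cfsg.Agent.Lib.helper15.S5972

/-- `c` is even and positive -/
theorem onenecabs_c (i c : ℕ) (hi1 : 1 ≤ i) (hc : c = if Even i then i else 2 * i) :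
    0 < c ∧ Even c ∧ i ∣ c := by
  by_cases hie : Even i
  · rw [if_pos hie] at hc
    subst hc
    exact ⟨hi1, hie, dvd_rfl⟩
  · rw [if_neg hie] at hc
    subst hc
    exact ⟨by omega, even_two_mul i, Dvd.intro_left 2 rfl⟩

theorem one_nec_abs {F : Type*} [Field F] [Fintype F] {p : ℕ} [Fact p.Prime] [CharP F p]
    (h2 : (2 : F) ≠ 0) {V : Type*} [AddCommGroup V] [Module F V] [FiniteDimensional F V]
    {r : ℕ} [Fact r.Prime] (hrp : r ≠ p) (hr2 : r ≠ 2) {B : LinearMap.BilinForm F V}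
    {x : Module.End F V} (h : OCtx r B x) (d m : ℕ) (hV : finrank F V = 2 * d + 1)
    (hm : 2 ≤ m) (hme : Even m) (i c : ℕ)
    (hi : i = orderOf ((Fintype.card F : ℕ) : ZMod r)) (hc : c = if Even i then i else 2 * i)
    (hfix : finrank F (fixS x) = (2 * d + 1) % c)
    (s : ℤ) (hs : s = 1 ∨ s = -1) (hW : NDt B x m s) :
    m % c < (2 * d + 1) % c ∧ (0 < m % c ∨ (s = 1 ↔ (Odd i ∨ Even (m / i)))) := by
  obtain ⟨W, hWinv, hWnd, hWdim, hWty⟩ := hW
  obtain ⟨_, hnd1, hinv1, hsup, hdim⟩ := o_split_w (p := p) hrp h W hWinv hWnd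
  have hi1 : 1 ≤ i := by
    rw [hi]
    exact Cfsg.Agent.Lib.Helper24.el_ord_pos (F := F) (p := p) r hrp
  obtain ⟨hc0, hce, _⟩ := onenecabs_c i c hi1 hc
  obtain ⟨b, hb⟩ := o_cyc_nd_dvd (p := p) hrp hr2 h i c hi hc (W ⊓ cycS r x) hinv1 inf_le_right hnd1
  have hle : finrank F ↥(W ⊓ fixS x) ≤ (2 * d + 1) % c := by
    rw [← hfix]
    exact Submodule.finrank_mono inf_le_right
  set w0 := finrank F ↥(W ⊓ fixS x) with hw0
  have hmw : m = w0 + c * b := by rw [← hWdim, hdim, hb]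
  have hkodd : (2 * d + 1) % c % 2 = 1 := by
    rw [Nat.mod_mod_of_dvd _ hce.two_dvd]
    omega
  have hw0e : w0 % 2 = 0 := by
    obtain ⟨c', hc'⟩ := hce
    obtain ⟨m', hm'⟩ := hme
    have h3 : (c' + c') * b = 2 * (c' * b) := by ring
    have h4 : m' + m' = w0 + 2 * (c' * b) := by rw [← h3, ← hc', ← hm']; exact hmw
    omega
  have hlt : w0 < (2 * d + 1) % c := by omega
  have hltc : w0 < c := lt_trans hlt (Nat.mod_lt _ hc0)
  have hmod : m % c = w0 := by
    rw [hmw, Nat.add_mul_mod_self_left, Nat.mod_eq_of_lt hltc]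
  refine ⟨by rw [hmod]; exact hlt, ?_⟩
  rw [hmod]
  by_cases h0 : w0 = 0
  · right
    have hbot : W ⊓ fixS x = ⊥ := Submodule.finrank_eq_zero.mp (by rw [← hw0]; exact h0)
    have hWc : W ≤ cycS r x := by
      rw [hbot, bot_sup_eq] at hsup
      rw [← hsup]
      exact inf_le_right
    have hW0 : W ≠ ⊥ := by
      intro hb0
      rw [hb0, finrank_bot] at hWdim
      omega
    have hq := ty_fpf (p := p) h2 hrp h W hWinv hWnd hWc hW0 (by rw [hWdim]; exact hme) s hWty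
    rw [hWdim] at hq
    have hcm : c ∣ m := by
      rw [hmw, h0, zero_add]
      exact Dvd.intro b rfl
    exact ty_arith r hr2 (Fintype.card F) i c m hi hc hcm (by omega) s hs hq
  · left
    omega

end Cfsg.Agent.Lib.Helper18.ONE
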