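import Mathlib
import Cfsg.Agent.Lib.Helper18.ONE.Defs
import Cfsg.Agent.Lib.Helper18.ONENECABS
import Cfsg.Agent.Lib.Helper13.S5972MAXEL
import Cfsg.Agent.Lib.helper15.S5972STDCTX
import Cfsg.Agent.Lib.Helper25.S5972OMEGAODD
import Cfsg.Agent.Lib.helper23.ONEUC92
import Cfsg.Agent.Lib.Lead.ONEFROZEN
import Cfsg.Agent.Lib.Lead.ONENDTSTDcore
import Cfsg.Agent.Lib.Helper18.ONETYCLASS
import Cfsg.Agent.Lib.helper15.S5972STDO

set_option autoImplicit false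

namespace Cfsg.Agent.Lib.Helper18.ONE

open Polynomial Module Cfsg.Agent.Lib.Helper13.S5955 Cfsg.Agent.Lib.helper15.S5972

/-- NDTSTD under a prefixed name (lead's `onendtstd_core` + TYCLASS) -/
theorem onenecstd_fty_iff {F : Type*} [Field F] [Fintype F] (h2 : (2 : F) ≠ 0) (d : ℕ)
    (W : Submodule F (Unit ⊕ (Fin d ⊕ Fin d) → F)) (hW : SND (stdO d F) W)
    (hev : Even (finrank F W)) (s : ℤ) (hs : s = 1 ∨ s = -1) :
    FTy d s W ↔ OTy (stdO d F) W s :=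
  onendtstd_core h2 d W s hs (ty_class h2 (stdO d F) (stdO_facts h2 d).1 W hW hev)

/-- `r ∣ q^e - 1` gives `c ∣ e` for even `e` -/
theorem onenecstd_c_dvd {F : Type*} [Field F] [Fintype F] {p : ℕ} [Fact p.Prime] [CharP F p]
    (r : ℕ) [Fact r.Prime] (i c e : ℕ)
    (hi : i = orderOf ((Fintype.card F : ℕ) : ZMod r)) (hc : c = if Even i then i else 2 * i)
    (he : r ∣ Fintype.card F ^ (2 * e) - 1) : c ∣ 2 * e := by
  have hq1 : 1 ≤ Fintype.card F ^ (2 * e) := Nat.one_le_pow _ _ Fintype.card_pos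
  have h1 : ((Fintype.card F : ℕ) : ZMod r) ^ (2 * e) = 1 := by
    have h2 : ((Fintype.card F ^ (2 * e) - 1 : ℕ) : ZMod r) = 0 :=
      (ZMod.natCast_eq_zero_iff _ _).mpr he
    rw [Nat.cast_sub hq1, Nat.cast_pow, Nat.cast_one, sub_eq_zero] at h2
    exact h2
  have hid : i ∣ 2 * e := by
    rw [hi]
    exact orderOf_dvd_of_pow_eq_one h1
  by_cases hie : Even i
  · rw [if_pos hie] at hc
    rw [hc]
    exact hid
  · rw [if_neg hie] at hc
    rw [hc]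
    have hio : Odd i := Nat.not_even_iff_odd.mp hie
    have hcop : Nat.Coprime i 2 := Nat.Coprime.symm (Nat.coprime_two_left.mpr hio)
    have : i ∣ e := hcop.dvd_of_dvd_mul_left hid
    exact Nat.mul_dvd_mul_left 2 this

theorem one_nec_std {F : Type*} [Field F] [Fintype F] {p : ℕ} [Fact p.Prime] [CharP F p]
    (hodd : Odd (Fintype.card F)) (d m : ℕ) (hd : 3 ≤ d) (hm : 2 ≤ m) (hme : Even m)
    (hmd : m ≤ 2 * d) (r : ℕ) [Fact r.Prime] (hrp : r ≠ p) (hr2 : r ≠ 2) (i c : ℕ)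
    (hi : i = orderOf ((Fintype.card F : ℕ) : ZMod r)) (hc : c = if Even i then i else 2 * i)
    (s : ℤ) (hs : s = 1 ∨ s = -1)
    (hj : ∃ j : ℕ, 2 * j < m ∧ r ∣ Fintype.card F ^ (2 * (d - j)) - 1)
    (hall : ∀ x : GL (Unit ⊕ (Fin d ⊕ Fin d)) F, x ∈ Cfsg.Geo.omegaGL (Cfsg.quadFormOdd d F) →
      orderOf x = r →
      ∃ W : Submodule F (Unit ⊕ (Fin d ⊕ Fin d) → F), Module.finrank F ↥W = m ∧
        Cfsg.Geo.IsNondegenerateOn (QuadraticMap.polar (Cfsg.quadFormOdd d F)) W ∧ FTy d s W ∧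
        W.map (Matrix.toLin' (x : Matrix (Unit ⊕ (Fin d ⊕ Fin d)) (Unit ⊕ (Fin d ⊕ Fin d)) F)) ≤ W) :
    UC i c d m s := by
  have hr : r.Prime := Fact.out
  have h2 : (2 : F) ≠ 0 := s5972omegaodd_two_ne hodd
  have hp2 : p ≠ 2 := by
    intro hp
    subst hp
    exact h2 (CharP.cast_eq_zero F 2 ▸ by norm_num)
  have hi1 : 1 ≤ i := by
    rw [hi]
    exact Cfsg.Agent.Lib.Helper24.el_ord_pos (F := F) (p := p) r hrp
  obtain ⟨hc0, hce, _⟩ := onenecabs_c i c hi1 hc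
  obtain ⟨j, hjm, hjr⟩ := hj
  have hcdvd : c ∣ 2 * (d - j) := onenecstd_c_dvd (p := p) r i c (d - j) hi hc hjr
  obtain ⟨hc2d, hcm⟩ := one_arith_c c d m hc0 hce hme hmd ⟨j, hjm, hcdvd⟩
  obtain ⟨y, hctx, hy1, hyfix⟩ := o_maxel (p := p) hp2 r hrp hr2 d i c hi hc (by omega)
  obtain ⟨x, hxiso, hxy, hxr⟩ := o_realize h2 d r y hctx
  have hx1 : x ≠ 1 := by
    intro h1
    apply hy1
    rw [← hxy, h1, Units.val_one, Matrix.toLin'_one]
    rfl
  have hord : orderOf x = r := orderOf_eq_prime hxr hx1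
  have hxΩ : x ∈ Cfsg.Geo.omegaGL (Cfsg.quadFormOdd d F) :=
    omega_of_odd hodd d hd x hxiso (by rw [hord]; exact hr.odd_of_ne_two hr2)
  obtain ⟨W, hW1, hW2, hW3, hW4⟩ := hall x hxΩ hord
  have hSND : SND (stdO d F) W := (frozen_iff h2 d W).1.mp hW2
  have hOTy : OTy (stdO d F) W s :=
    (onenecstd_fty_iff h2 d W hSND (by rw [hW1]; exact hme) s hs).mp hW3
  have hinv : SInv y W := by
    intro w hw
    apply hW4
    rw [hxy]
    exact ⟨w, hw, rfl⟩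
  have hV : finrank F (Unit ⊕ (Fin d ⊕ Fin d) → F) = 2 * d + 1 := by
    rw [Module.finrank_fintype_fun_eq_card]
    simp
    omega
  obtain ⟨hlt, hty⟩ := one_nec_abs (p := p) h2 hrp hr2 hctx d m hV hm hme i c hi hc hyfix s hs
    ⟨W, hinv, hSND, hW1, hOTy⟩
  exact ⟨hcm hlt, hlt, hty⟩

end Cfsg.Agent.Lib.Helper18.ONE
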