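import Mathlib
import Cfsg.Agent.Lib.Helper13.OTS.Defs
import Cfsg.Agent.Lib.Helper21.S5955N10w
import Cfsg.Agent.Lib.Helper20.OTSFORMEX
import Cfsg.Agent.Lib.helper15.OTSQS2CTX
import Cfsg.Agent.Lib.helper8.OTSQS2TYcore
import Cfsg.Agent.Lib.Helper21.OTSFIXTY
import Cfsg.Agent.Lib.Helper21.OTSISOSTD
import Cfsg.Agent.Lib.Helper27.OTSTRANSPORTD
import Cfsg.Agent.Lib.Helper24.ElD

set_option autoImplicit false
set_option linter.unusedVariables false

/-!
# Project OTS (designer helper13), row MAXEL (`q_maxel`), second copy by helper18 under the prefixed name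
`otsmaxel_h18_q_maxel` (same statement as the Skel row `q_maxel`): S5955 `maxel` on `F^{2h}`, `2h = 2d - FMin`;
FORMEX; QS2CTX; QS2TY (helper8's core + FIXTY); ISOSTD; TRANSPORTD.
-/

namespace Cfsg.Agent.Lib.Helper13.OTS

open Polynomial Module Cfsg.Agent.Lib.Helper13.S5955 Cfsg.Agent.Lib.helper15.S5972

/-- `SCy` is a sign -/
theorem otsmaxel_h18_scy (i g : ℕ) : SCy i g = 1 ∨ SCy i g = -1 := by
  unfold SCy
  split_ifs
  · exact Or.inl rfl
  · exact Or.inr rfl

/-- the arithmetic of `FMin` -/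
theorem otsmaxel_h18_arith (i c d : ℕ) (ε : ℤ) (hi1 : 1 ≤ i) (hc : c = if Even i then i else 2 * i)
    (hε : ε = 1 ∨ ε = -1) (hex : c + FMin i c d ε ≤ 2 * d) :
    ∃ h k₀ : ℕ, 1 ≤ h ∧ 2 * h + 2 * k₀ = 2 * d ∧ 2 * k₀ = FMin i c d ε ∧ c ≤ 2 * h ∧
      (2 * h) % c = 0 ∧ (k₀ = 0 → ε * SCy i (2 * h) = 1) := by
  have hc0 : 0 < c := by
    by_cases hie : Even i
    · rw [hc, if_pos hie]; exact hi1
    · rw [hc, if_neg hie]; omega
  obtain ⟨e, he2⟩ : ∃ e, c = 2 * e := by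
    by_cases hie : Even i
    · obtain ⟨k, hk⟩ := hie
      exact ⟨k, by rw [hc, if_pos ⟨k, hk⟩, hk]; ring⟩
    · exact ⟨i, by rw [hc, if_neg hie]⟩
  have he : 1 ≤ e := by omega
  by_cases hcond : (2 * d) % c = 0 ∧ ¬ (ε = 1 ↔ (Odd i ∨ Even ((2 * d) / i)))
  · have hf : FMin i c d ε = c := by unfold FMin; rw [if_pos hcond]
    rw [hf] at hex ⊢
    obtain ⟨N, hN⟩ := Nat.dvd_of_mod_eq_zero hcond.1
    have hN2 : 2 ≤ N := by
      by_contra hlt
      have : N = 0 ∨ N = 1 := by omega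
      rcases this with rfl | rfl <;> omega
    refine ⟨e * (N - 1), e, ?_, ?_, he2.symm, ?_, ?_, fun h0 => by omega⟩
    · exact Nat.mul_pos he (by omega)
    · have : e * (N - 1) + e = e * N := by
        rw [← Nat.mul_succ]; congr 1; omega
      have h2 : 2 * d = 2 * (e * N) := by rw [hN, he2]; ring
      omega
    · have : 2 * (e * (N - 1)) = c * (N - 1) := by rw [he2]; ring
      rw [this]
      exact Nat.le_mul_of_pos_right c (by omega)
    · have : 2 * (e * (N - 1)) = c * (N - 1) := by rw [he2]; ring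
      rw [this]
      exact Nat.mul_mod_right _ _
  · have hf : FMin i c d ε = (2 * d) % c := by unfold FMin; rw [if_neg hcond]
    rw [hf] at hex ⊢
    have hdm := Nat.div_add_mod (2 * d) c
    have hlt := Nat.mod_lt (2 * d) hc0
    -- `(2d) % (2e) = 2 * (d % e)`
    have h1 : (2 * d) % c = 2 * (d % e) := by
      rw [he2]; exact Nat.mul_mod_mul_left 2 d e
    have h2 : (2 * d) / c = d / e := by
      rw [he2]; exact Nat.mul_div_mul_left d e (by norm_num)
    have hde := Nat.div_add_mod d e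
    refine ⟨e * (d / e), d % e, ?_, ?_, h1.symm, ?_, ?_, ?_⟩
    · have : 1 ≤ d / e := by
        rcases Nat.eq_zero_or_pos (d / e) with h0 | h0
        · rw [h0] at hde; rw [h1, he2] at hex; have := Nat.mod_lt d he; omega
        · exact h0
      exact Nat.mul_pos he this
    · nlinarith
    · have : 1 ≤ d / e := by
        rcases Nat.eq_zero_or_pos (d / e) with h0 | h0
        · rw [h0] at hde; rw [h1, he2] at hex; have := Nat.mod_lt d he; omega
        · exact h0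
      have h3 : 2 * (e * (d / e)) = c * (d / e) := by rw [he2]; ring
      rw [h3]
      exact Nat.le_mul_of_pos_right c this
    · have h3 : 2 * (e * (d / e)) = c * (d / e) := by rw [he2]; ring
      rw [h3]
      exact Nat.mul_mod_right _ _
    · intro h0
      have hk0 : (2 * d) % c = 0 := by rw [h1, h0]
      have hiff : (ε = 1 ↔ (Odd i ∨ Even ((2 * d) / i))) := by
        by_contra hn
        exact hcond ⟨hk0, hn⟩
      have h4 : 2 * (e * (d / e)) = 2 * d := by rw [h0] at hde; omega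
      rw [h4]
      unfold SCy
      by_cases hP : Odd i ∨ Even ((2 * d) / i)
      · rw [if_pos hP, hiff.mpr hP]; norm_num
      · rw [if_neg hP]
        rcases hε with h5 | h5
        · exact absurd (hiff.mp h5) hP
        · rw [h5]; norm_num

/-- MAXEL (second copy, helper18): same statement as the Skel row `q_maxel`. -/
theorem otsmaxel_h18_q_maxel {F : Type*} [Field F] [Fintype F] {p : ℕ} [Fact p.Prime] [CharP F p]
    {ι : Type} [Fintype ι] [DecidableEq ι] (Qs : QuadraticForm F (ι → F)) (d : ℕ) (ε : ℤ)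
    (hs : QStd Qs d ε) (r : ℕ) [Fact r.Prime] (hrp : r ≠ p) (hr2 : r ≠ 2) (i c : ℕ)
    (hi : i = orderOf ((Fintype.card F : ℕ) : ZMod r)) (hc : c = if Even i then i else 2 * i)
    (hex : c + FMin i c d ε ≤ 2 * d) :
    ∃ y : Module.End F (ι → F), QCtx r Qs y ∧ y ≠ 1 ∧ finrank F (fixS y) = FMin i c d ε := by
  have hrpr : r.Prime := Fact.out
  have hodd : Odd r := hrpr.odd_of_ne_two hr2
  have hi1 : 1 ≤ i := hi ▸ Cfsg.Agent.Lib.Helper24.el_ord_pos (F := F) (p := p) r hrp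
  obtain ⟨h, k₀, hh1, hsum, hk₀, hch, hmod, hs0⟩ := otsmaxel_h18_arith i c d ε hi1 hc hs.eps hex
  -- the symplectic fixed-point-free element
  obtain ⟨y', hy', hy'1, hfix'⟩ := maxel (F := F) r hrp hr2 h i c hi hc hch
  rw [hmod] at hfix'
  have hfix : fixS y' = ⊥ := Submodule.finrank_eq_zero.mp hfix'
  -- the complement form
  set s₀ : ℤ := ε * SCy i (2 * h) with hs₀
  have hs₀1 : s₀ = 1 ∨ s₀ = -1 := by
    rcases hs.eps with h1 | h1 <;> rcases otsmaxel_h18_scy i (2 * h) with h2 | h2 <;>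
      rw [hs₀, h1, h2] <;> norm_num
  obtain ⟨κ, hκF, hκD, Q₀, hQ₀nd, hκc, hQ₀ty⟩ := q_form_ex (F := F) k₀ s₀ hs₀1 hs0
  obtain ⟨hctx, hdimV, hdimfix, hne⟩ := qs2_ctx (F := F) r hodd hrpr.one_lt y' hy' hfix Q₀ hQ₀nd
  have hty0 : QTy (qs2Q y' Q₀) ⊤ (s₀ * SCy i (2 * h)) :=
    otsqs2ty_core (p := p) r hrp hr2 y' hy' hfix Q₀ hQ₀nd k₀ hκc s₀ hs₀1 hQ₀ty i hi
      (fun hq d' ε' hV hε' hty' => q_fix_ty (p := p) hrp hr2 hq d' hV ε' hε' hty' i hi)
  have hty : QTy (qs2Q y' Q₀) ⊤ ε := by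
    have : s₀ * SCy i (2 * h) = ε := by
      rw [hs₀]
      rcases otsmaxel_h18_scy i (2 * h) with h2 | h2 <;> rw [h2] <;> ring
    rwa [this] at hty0
  have hV : finrank F ((Fin h ⊕ Fin h → F) × (κ → F)) = 2 * d := by rw [hdimV, hκc]; omega
  obtain ⟨ψ, hψ⟩ := q_iso_std Qs d ε hs (qs2Q y' Q₀) hctx.nd hV hty
  obtain ⟨x, -, hx, -, hfd, h1, -⟩ := q_transport_dims Qs (qs2Q y' Q₀) (qs2X κ y') ψ hψ hctx
  refine ⟨x, hx, fun hx1 => hne hh1 (h1.mp hx1), ?_⟩
  rw [hfd, hdimfix, hκc, hk₀]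

end Cfsg.Agent.Lib.Helper13.OTS
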