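import Mathlib
import Cfsg.Agent.Lib.Helper18.OPE.Defs
import Cfsg.Agent.Lib.Helper24.S5972SPLIT
import Cfsg.Agent.Lib.Helper24.ElD
import Cfsg.Agent.Lib.helper17.OPEQCTXO
import Cfsg.Agent.Lib.Helper16.PlusFam
import Cfsg.Agent.Lib.Helper18.OTSMAXEL

set_option autoImplicit false
set_option linter.unusedVariables false

/-!
# Project OPE, row QMAXEL (`q_maxel`), verbatim (statement of Skel.lean.txt as revised 21:40Z: the maximal element only):
wrapper of helper13's OTS row MAXEL `q_maxel` (`dim fixS = FMin i c d 1`) for `Qs = qfPlus d F`, `ε = 1`.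
-/

namespace Cfsg.Agent.Lib.Helper18.OPE

open Polynomial Module Cfsg.Agent.Lib.Helper13.S5955 Cfsg.Agent.Lib.helper15.S5972

/-- `2d - FMin i c d 1 = c * Amax i c d` -/
theorem opeqmaxel_fmin (i c d : ℕ) (hi1 : 1 ≤ i) (hc : c = if Even i then i else 2 * i) :
    Cfsg.Agent.Lib.Helper13.OTS.FMin i c d 1 + c * Amax i c d = 2 * d := by
  have hc0 : 0 < c := by
    by_cases hie : Even i
    · rw [hc, if_pos hie]; exact hi1
    · rw [hc, if_neg hie]; omega
  unfold Cfsg.Agent.Lib.Helper13.OTS.FMin Amax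
  by_cases hk : (2 * d) % c = 0
  · obtain ⟨N, hN⟩ := Nat.dvd_of_mod_eq_zero hk
    have hdiv : 2 * d / c = N := by rw [hN]; exact Nat.mul_div_cancel_left N hc0
    by_cases hie : Even i
    · have hci : c = i := by rw [hc, if_pos hie]
      by_cases hodd : Odd (2 * d / c)
      · have h1 : ¬ ((1 : ℤ) = 1 ↔ (Odd i ∨ Even (2 * d / i))) := by
          rw [← hci]
          intro h
          rcases h.mp rfl with h3 | h3
          · exact (Nat.not_odd_iff_even.mpr hie) (hci ▸ h3)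
          · exact (Nat.not_even_iff_odd.mpr hodd) h3
        rw [if_pos ⟨hk, h1⟩, if_pos ⟨hie, hk, hodd⟩, hdiv]
        rw [hdiv] at hodd
        have hN1 : 1 ≤ N := by
          rcases hodd with ⟨t, ht⟩
          omega
        rw [hN]
        have : c * (N - 1) = c * N - c := by rw [Nat.mul_sub, mul_one]
        have h4 : c ≤ c * N := Nat.le_mul_of_pos_right c hN1
        omega
      · have h1 : ((1 : ℤ) = 1 ↔ (Odd i ∨ Even (2 * d / i))) := by
          rw [← hci]
          exact ⟨fun _ => Or.inr (Nat.not_odd_iff_even.mp hodd), fun _ => rfl⟩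
        rw [if_neg (fun h => h.2 h1), if_neg (fun h => hodd h.2.2), hk, hdiv, hN]
        omega
    · have h1 : ((1 : ℤ) = 1 ↔ (Odd i ∨ Even (2 * d / i))) :=
        ⟨fun _ => Or.inl (Nat.not_even_iff_odd.mp hie), fun _ => rfl⟩
      rw [if_neg (fun h => h.2 h1), if_neg (fun h => hie h.1), hk, hdiv, hN]
      omega
  · rw [if_neg (fun h => hk h.1), if_neg (fun h => hk h.2.1)]
    have := Nat.div_add_mod (2 * d) c
    omega

/-- the plus half of OTS row STDP -/
theorem opeqmaxel_std_plus {F : Type*} [Field F] [Fintype F] (d : ℕ) :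
    Cfsg.Agent.Lib.Helper13.OTS.QStd (Cfsg.Agent.Lib.Helper16.qfPlus d F) d 1 := by
  refine ⟨Cfsg.Agent.Lib.Helper16.qfPlus_nondeg d F, ?_, Cfsg.Agent.Lib.Helper16.OSemi.isType_plus d, Or.inl rfl⟩
  rw [Fintype.card_sum, Fintype.card_fin]
  omega

theorem q_maxel {F : Type*} [Field F] [Fintype F] {p : ℕ} [Fact p.Prime] [CharP F p]
    (r : ℕ) [Fact r.Prime] (hrp : r ≠ p) (hr2 : r ≠ 2) (d i c : ℕ)
    (hi : i = orderOf ((Fintype.card F : ℕ) : ZMod r)) (hc : c = if Even i then i else 2 * i)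
    (hA1 : 1 ≤ Amax i c d) :
    ∃ y : Module.End F (Fin d ⊕ Fin d → F), QCtx r (Cfsg.Agent.Lib.Helper16.qfPlus d F) y ∧ y ≠ 1 ∧
      finrank F (cycS r y) = c * Amax i c d := by
  have hi1 : 1 ≤ i := by
    rw [hi]
    exact Cfsg.Agent.Lib.Helper24.el_ord_pos (F := F) (p := p) r hrp
  have hc0 : 0 < c := by
    by_cases hie : Even i
    · rw [hc, if_pos hie]; exact hi1
    · rw [hc, if_neg hie]; omega
  have hfm := opeqmaxel_fmin i c d hi1 hc
  have hex : c + Cfsg.Agent.Lib.Helper13.OTS.FMin i c d 1 ≤ 2 * d := by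
    have : c ≤ c * Amax i c d := Nat.le_mul_of_pos_right c hA1
    omega
  obtain ⟨y, hy, hy1, hfix⟩ := Cfsg.Agent.Lib.Helper13.OTS.otsmaxel_h18_q_maxel (p := p)
    (Cfsg.Agent.Lib.Helper16.qfPlus d F) d 1 (opeqmaxel_std_plus d) r hrp hr2 i c hi hc hex
  have hq : QCtx r (Cfsg.Agent.Lib.Helper16.qfPlus d F) y := ⟨hy.nd, hy.pres, hy.pow⟩
  refine ⟨y, hq, hy1, ?_⟩
  have ho : OCtx r (QuadraticMap.polarBilin (Cfsg.Agent.Lib.Helper16.qfPlus d F)) y := qctx_octx hq
  obtain ⟨_, hcompl, _, _⟩ := o_split (p := p) hrp ho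
  have hsum := Submodule.finrank_add_eq_of_isCompl hcompl
  have hV : finrank F (Fin d ⊕ Fin d → F) = 2 * d := by
    rw [Module.finrank_fintype_fun_eq_card, Fintype.card_sum, Fintype.card_fin]
    omega
  omega

end Cfsg.Agent.Lib.Helper18.OPE
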