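import Mathlib
import Cfsg.Agent.S1003
import Cfsg.Agent.S0985
import Cfsg.Agent.Lib.Helper18.ConjCount

set_option autoImplicit false

namespace Cfsg.Agent.Lib.Helper18.O168

open Subgroup
open Cfsg.Agent.Lib.helper8

variable {G : Type*} [Group G] [Finite G] [IsSimpleGroup G]

theorem n2 (h : Nat.card G = 168) : Nat.card (Sylow 2 G) = 21 := (Cfsg.Agent.S1003.result h).1
theorem n3 (h : Nat.card G = 168) : Nat.card (Sylow 3 G) = 28 := (Cfsg.Agent.S1003.result h).2.1
theorem n7 (h : Nat.card G = 168) : Nat.card (Sylow 7 G) = 8 := (Cfsg.Agent.S1003.result h).2.2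

instance : Fact (Nat.Prime 2) := ⟨Nat.prime_two⟩
instance : Fact (Nat.Prime 3) := ⟨Nat.prime_three⟩
instance : Fact (Nat.Prime 7) := ⟨by norm_num⟩

theorem hG7 (h : Nat.card G = 168) : Nat.card G = 7 ^ 1 * 24 := by rw [h]; norm_num
theorem hG3 (h : Nat.card G = 168) : Nat.card G = 3 ^ 1 * 56 := by rw [h]; norm_num
theorem hG2 (h : Nat.card G = 168) : Nat.card G = 2 ^ 3 * 21 := by rw [h]; norm_num

theorem card_sylow2 (h : Nat.card G = 168) (T : Sylow 2 G) : Nat.card (T : Subgroup G) = 8 := by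
  have := h8_sylow_card 2 3 21 (hG2 h) (by norm_num) T
  rw [this]; norm_num

theorem card_sylow3 (h : Nat.card G = 168) (Q : Sylow 3 G) : Nat.card (Q : Subgroup G) = 3 := by
  have := h8_sylow_card 3 1 56 (hG3 h) (by norm_num) Q
  rwa [pow_one] at this

theorem card_sylow7 (h : Nat.card G = 168) (R : Sylow 7 G) : Nat.card (R : Subgroup G) = 7 := by
  have := h8_sylow_card 7 1 24 (hG7 h) (by norm_num) R
  rwa [pow_one] at this

theorem card_cent3 (h : Nat.card G = 168) (Q : Sylow 3 G) :
    Nat.card (centralizer ((Q : Subgroup G) : Set G)) = 3 := by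
  obtain ⟨e1, e2, e3⟩ := Cfsg.Agent.S1003.cent_card 3 56 (hG3 h) (by norm_num) (by norm_num) Q
  have h5 : (centralizer ((Q : Subgroup G) : Set G)).relIndex
      (normalizer ((Q : Subgroup G) : Set G)) = 2 := by
    rcases (Nat.dvd_prime Nat.prime_two).mp e3 with h5 | h5
    · exact absurd h5 e2
    · exact h5
  rw [h5, h, n3 h] at e1
  omega

theorem card_cent7 (h : Nat.card G = 168) (R : Sylow 7 G) :
    Nat.card (centralizer ((R : Subgroup G) : Set G)) = 7 ∧
    (centralizer ((R : Subgroup G) : Set G)).relIndex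
      (normalizer ((R : Subgroup G) : Set G)) = 3 := by
  obtain ⟨e1, e2, e3⟩ := Cfsg.Agent.S1003.cent_card 7 24 (hG7 h) (by norm_num) (by norm_num) R
  rw [h, n7 h] at e1
  obtain ⟨d, hd⟩ : ∃ d, d = (centralizer ((R : Subgroup G) : Set G)).relIndex
      (normalizer ((R : Subgroup G) : Set G)) := ⟨_, rfl⟩
  rw [← hd] at e1 e2 e3 ⊢
  have h7 : 7 ∣ Nat.card (centralizer ((R : Subgroup G) : Set G)) := by
    have hRC : (R : Subgroup G) ≤ centralizer ((R : Subgroup G) : Set G) := by
      haveI : IsCyclic (R : Subgroup G) := isCyclic_of_prime_card (card_sylow7 h R)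
      intro x hx
      rw [mem_centralizer_iff]
      intro y hy
      have := (IsCyclic.isMulCommutative (α := (R : Subgroup G))).is_comm.comm ⟨y, hy⟩ ⟨x, hx⟩
      exact congrArg Subtype.val this
    have := Subgroup.card_dvd_of_le hRC
    rwa [card_sylow7 h R] at this
  obtain ⟨c, hc⟩ := h7
  rw [hc] at e1 ⊢
  have hd6 : d ≤ 6 := Nat.le_of_dvd (by norm_num) e3
  have hcd : c * d = 3 := by nlinarith
  have hdpos : 0 < d := by
    rcases Nat.eq_zero_or_pos d with h0 | h0
    · rw [h0, mul_zero] at hcd; omega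
    · exact h0
  interval_cases d
  · exact absurd rfl e2
  · omega
  · have : c = 1 := by omega
    rw [this]; exact ⟨rfl, rfl⟩
  · omega
  · omega
  · omega

/-- centralizer of an element of order 3 -/
theorem cent_elt3 (h : Nat.card G = 168) (x : G) (hx : orderOf x = 3) :
    centralizer ({x} : Set G) = zpowers x := by
  have hpg : IsPGroup 3 (zpowers x) :=
    IsPGroup.of_card (n := 1) (by rw [Nat.card_zpowers, hx, pow_one])
  obtain ⟨Q, hQ⟩ := hpg.exists_le_sylow
  have hQe : zpowers x = (Q : Subgroup G) :=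
    eq_of_le_of_card_ge hQ (by rw [Nat.card_zpowers, hx, card_sylow3 h Q])
  have h1 : centralizer ({x} : Set G) = centralizer ((Q : Subgroup G) : Set G) := by
    rw [← hQe, zpowers_eq_closure, centralizer_closure]
  symm
  apply eq_of_le_of_card_ge
  · rw [zpowers_le, mem_centralizer_iff]
    intro y hy
    rw [Set.mem_singleton_iff] at hy
    rw [hy]
  · rw [h1, card_cent3 h Q, Nat.card_zpowers, hx]

theorem cent_elt7 (h : Nat.card G = 168) (x : G) (hx : orderOf x = 7) :
    centralizer ({x} : Set G) = zpowers x := by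
  have hpg : IsPGroup 7 (zpowers x) :=
    IsPGroup.of_card (n := 1) (by rw [Nat.card_zpowers, hx, pow_one])
  obtain ⟨Q, hQ⟩ := hpg.exists_le_sylow
  have hQe : zpowers x = (Q : Subgroup G) :=
    eq_of_le_of_card_ge hQ (by rw [Nat.card_zpowers, hx, card_sylow7 h Q])
  have h1 : centralizer ({x} : Set G) = centralizer ((Q : Subgroup G) : Set G) := by
    rw [← hQe, zpowers_eq_closure, centralizer_closure]
  symm
  apply eq_of_le_of_card_ge
  · rw [zpowers_le, mem_centralizer_iff]
    intro y hy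
    rw [Set.mem_singleton_iff] at hy
    rw [hy]
  · rw [h1, (card_cent7 h Q).1, Nat.card_zpowers, hx]

/-- the centralizer of a nontrivial 2-element is a 2-group -/
theorem card_cent_two_elt (h : Nat.card G = 168) (u : G) (hu1 : u ≠ 1) (hu : orderOf u ∣ 8) :
    Nat.card (centralizer ({u} : Set G)) ∣ 8 := by
  set C := centralizer ({u} : Set G) with hC
  have hdiv : Nat.card C ∣ 168 := h ▸ Subgroup.card_subgroup_dvd_card C
  have hno : ∀ s : ℕ, s.Prime → (s = 3 ∨ s = 7) → ¬ s ∣ Nat.card C := by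
    intro s hs hs37 hsd
    haveI := Fact.mk hs
    obtain ⟨x, hx⟩ := exists_prime_orderOf_dvd_card' s hsd
    have hx' : orderOf (x : G) = s := by rw [Subgroup.orderOf_coe]; exact hx
    have hux : u ∈ centralizer ({(x : G)} : Set G) := by
      rw [mem_centralizer_iff]
      intro y hy
      rw [Set.mem_singleton_iff] at hy
      rw [hy]
      have := mem_centralizer_iff.mp x.2 u rfl
      exact this.symm
    have huz : u ∈ zpowers (x : G) := by
      rcases hs37 with rfl | rfl
      · rw [← cent_elt3 h _ hx']; exact hux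
      · rw [← cent_elt7 h _ hx']; exact hux
    have ho : orderOf u ∣ s := by
      have := Subgroup.orderOf_dvd_natCard _ huz
      rwa [Nat.card_zpowers, hx'] at this
    have ho1 : orderOf u = 1 := by
      have h8 := Nat.dvd_gcd ho hu
      rcases hs37 with rfl | rfl
      · simpa using h8
      · simpa using h8
    exact hu1 (orderOf_eq_one_iff.mp ho1)
  have h3 := hno 3 Nat.prime_three (Or.inl rfl)
  have h7 := hno 7 (by norm_num) (Or.inr rfl)
  obtain ⟨c, hc⟩ : ∃ c, c = Nat.card C := ⟨_, rfl⟩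
  rw [← hc] at hdiv h3 h7 ⊢
  have hle := Nat.le_of_dvd (by norm_num) hdiv
  have hcop : Nat.Coprime c 21 := by
    have h21 : (21 : ℕ) = 3 * 7 := by norm_num
    rw [h21]
    apply Nat.Coprime.mul_right
    · exact (Nat.Prime.coprime_iff_not_dvd Nat.prime_three).mpr h3 |>.symm
    · exact (Nat.Prime.coprime_iff_not_dvd (by norm_num : Nat.Prime 7)).mpr h7 |>.symm
  have h168 : (168 : ℕ) = 21 * 8 := by norm_num
  rw [h168] at hdiv
  exact hcop.dvd_of_dvd_mul_left hdiv

theorem normalizer_sylow2 (h : Nat.card G = 168) (T : Sylow 2 G) :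
    normalizer ((T : Subgroup G) : Set G) = (T : Subgroup G) := by
  symm
  apply eq_of_le_of_card_ge le_normalizer
  have := h8_card_normalizer_sylow 2 T
  rw [n2 h, h] at this
  rw [card_sylow2 h T]
  omega

theorem sylow2_nonabelian (h : Nat.card G = 168) (T : Sylow 2 G) :
    ∃ a ∈ (T : Subgroup G), ∃ b ∈ (T : Subgroup G), a * b ≠ b * a := by
  by_contra hcon
  push Not at hcon
  have hnot := h8_simple_not_normalizer_le_centralizer 2 3 21 (hG2 h) (by norm_num) (by norm_num)
    (by norm_num) T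
  apply hnot
  rw [normalizer_sylow2 h T]
  intro x hx
  rw [mem_centralizer_iff]
  intro y hy
  exact hcon y hy x hx

end Cfsg.Agent.Lib.Helper18.O168

namespace Cfsg.Agent.Lib.Helper18.O168

open Subgroup
open Cfsg.Agent.Lib.helper8

variable {G : Type*} [Group G] [Finite G] [IsSimpleGroup G]

theorem orderOf_dvd_eight_of_mem (h : Nat.card G = 168) (T : Sylow 2 G) (a : G)
    (ha : a ∈ (T : Subgroup G)) : orderOf a ∣ 8 := by
  have := Subgroup.orderOf_dvd_natCard _ ha
  rwa [card_sylow2 h T] at this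

theorem cent_central_elt (h : Nat.card G = 168) (T : Sylow 2 G) (z : G)
    (hz : z ∈ (T : Subgroup G)) (hz1 : z ≠ 1)
    (hc : ∀ t ∈ (T : Subgroup G), t * z = z * t) : centralizer ({z} : Set G) = (T : Subgroup G) := by
  symm
  apply eq_of_le_of_card_ge
  · intro t ht
    rw [mem_centralizer_iff]
    intro y hy
    rw [Set.mem_singleton_iff] at hy
    rw [hy]
    exact (hc t ht).symm
  · rw [card_sylow2 h T]
    exact Nat.le_of_dvd (by norm_num)
      (card_cent_two_elt h z hz1 (orderOf_dvd_eight_of_mem h T z hz))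

theorem unique_invol_transfer (T P : Sylow 2 G)
    (hu : ∃ z : G, ∀ a ∈ (T : Subgroup G), orderOf a = 2 → a = z) :
    ∃ z : G, ∀ a ∈ (P : Subgroup G), orderOf a = 2 → a = z := by
  obtain ⟨z, hz⟩ := hu
  obtain ⟨g, hg⟩ := MulAction.exists_smul_eq G T P
  refine ⟨g * z * g⁻¹, fun a ha ho => ?_⟩
  rw [← hg, h8_mem_smul_sylow] at ha
  have h1 := hz _ ha (by rw [h8_orderOf_conj]; exact ho)
  rw [← h1]
  group

theorem sylow2_not_unique_invol (h : Nat.card G = 168) (T : Sylow 2 G) :
    ¬ ∃ z : G, ∀ a ∈ (T : Subgroup G), orderOf a = 2 → a = z := by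
  intro hu
  have hmod : ¬ Nat.card (Sylow 2 G) ≡ 1 [MOD 2 ^ 3] := by
    rw [n2 h]; decide
  obtain ⟨P, R, hPR, hidx⟩ := Cfsg.Agent.S0985.result 2 3 hmod
  have hcard : Nat.card ((R : Subgroup G) ⊓ (P : Subgroup G) : Subgroup G) *
      ((R : Subgroup G).subgroupOf (P : Subgroup G)).index = 8 := by
    have h1 := Subgroup.card_mul_index ((R : Subgroup G).subgroupOf (P : Subgroup G))
    rw [← Subgroup.inf_subgroupOf_right, h8_card_subgroupOf inf_le_right, card_sylow2 h P] at h1
    rw [← Subgroup.inf_subgroupOf_right]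
    exact h1
  set D := ((R : Subgroup G) ⊓ (P : Subgroup G) : Subgroup G) with hD
  have hD2 : 2 ∣ Nat.card D := by
    have hle : ((R : Subgroup G).subgroupOf (P : Subgroup G)).index ≤ 4 := by
      simpa using hidx
    have hd8 : Nat.card D ∣ 8 := ⟨_, hcard.symm⟩
    have hge : 2 ≤ Nat.card D := by
      by_contra hlt
      push Not at hlt
      have hpos : 0 < Nat.card D := Nat.card_pos
      have h1 : Nat.card D = 1 := by omega
      rw [h1, one_mul] at hcard
      omega
    have hle8 := Nat.le_of_dvd (by norm_num) hd8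
    obtain ⟨c, hc⟩ : ∃ c, c = Nat.card D := ⟨_, rfl⟩
    rw [← hc] at hd8 hge hle8 ⊢
    interval_cases c <;> omega
  obtain ⟨w, hw⟩ := exists_prime_orderOf_dvd_card' 2 hD2
  have hwo : orderOf (w : G) = 2 := by rw [Subgroup.orderOf_coe]; exact hw
  have hw1 : (w : G) ≠ 1 := by
    intro h0
    rw [h0, orderOf_one] at hwo
    omega
  have hwR : (w : G) ∈ (R : Subgroup G) := (mem_inf.mp w.2).1
  have hwP : (w : G) ∈ (P : Subgroup G) := (mem_inf.mp w.2).2
  have key : ∀ S : Sylow 2 G, (w : G) ∈ (S : Subgroup G) →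
      centralizer ({(w : G)} : Set G) = (S : Subgroup G) := by
    intro S hwS
    obtain ⟨zS, hzS⟩ := unique_invol_transfer T S hu
    apply cent_central_elt h S _ hwS hw1
    intro t ht
    have h1 : t * (w : G) * t⁻¹ ∈ (S : Subgroup G) :=
      (S : Subgroup G).mul_mem ((S : Subgroup G).mul_mem ht hwS) ((S : Subgroup G).inv_mem ht)
    have h2 : orderOf (t * (w : G) * t⁻¹) = 2 := by
      have := h8_orderOf_conj t⁻¹ (w : G)
      rw [inv_inv] at this
      rw [this, hwo]
    have h3 := hzS _ h1 h2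
    have h4 := hzS _ hwS hwo
    have h5 : t * (w : G) * t⁻¹ = (w : G) := h3.trans h4.symm
    calc t * (w : G) = (t * (w : G) * t⁻¹) * t := by group
      _ = (w : G) * t := by rw [h5]
  apply hPR
  apply Sylow.ext
  rw [← key P hwP, ← key R hwR]

end Cfsg.Agent.Lib.Helper18.O168
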