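import Mathlib
import Cfsg.Agent.Lib.Helper18.Order168
import Cfsg.Agent.Lib.Helper18.Dihedral8
import Cfsg.Agent.Lib.helper8.CountOrder
import Cfsg.Agent.S0995

set_option autoImplicit false

namespace Cfsg.Agent.Lib.Helper18.O168

open Subgroup
open Cfsg.Agent.Lib.helper8

variable {G : Type*} [Group G] [Finite G] [IsSimpleGroup G]

theorem sylow2_hyps (h : Nat.card G = 168) (T : Sylow 2 G) :
    Nat.card (T : Subgroup G) = 8 ∧ (∃ a b : (T : Subgroup G), a * b ≠ b * a) ∧
    ¬ ∃ z : (T : Subgroup G), ∀ a : (T : Subgroup G), orderOf a = 2 → a = z := by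
  refine ⟨card_sylow2 h T, ?_, ?_⟩
  · obtain ⟨a, ha, b, hb, hab⟩ := sylow2_nonabelian h T
    refine ⟨⟨a, ha⟩, ⟨b, hb⟩, fun h0 => hab ?_⟩
    exact congrArg Subtype.val h0
  · rintro ⟨z, hz⟩
    apply sylow2_not_unique_invol h T
    refine ⟨(z : G), fun a ha ho => ?_⟩
    have := hz ⟨a, ha⟩ (by rw [← Subgroup.orderOf_coe]; exact ho)
    exact congrArg Subtype.val this

theorem order_of_dvd_prime_case (h : Nat.card G = 168) (g : G) (s : ℕ) (hs : s = 3 ∨ s = 7)
    (hd : s ∣ orderOf g) : orderOf g = s := by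
  have hsp : s.Prime := by rcases hs with rfl | rfl <;> norm_num
  have ho : orderOf g ≠ 0 := (orderOf_pos g).ne'
  obtain ⟨n, hn⟩ := hd
  have hn0 : n ≠ 0 := by rintro rfl; rw [mul_zero] at hn; exact ho hn
  have hx : orderOf (g ^ n) = s := by
    rw [orderOf_pow_of_dvd hn0 ⟨s, by rw [hn]; ring⟩, hn, Nat.mul_div_cancel _ (Nat.pos_of_ne_zero hn0)]
  have hmem : g ∈ centralizer ({g ^ n} : Set G) := by
    rw [mem_centralizer_iff]
    intro y hy
    rw [Set.mem_singleton_iff] at hy
    rw [hy]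
    exact (pow_mul_comm' g n)
  have hz : g ∈ zpowers (g ^ n) := by
    rcases hs with rfl | rfl
    · rw [← cent_elt3 h _ hx]; exact hmem
    · rw [← cent_elt7 h _ hx]; exact hmem
  have hdvd : orderOf g ∣ s := by
    have := Subgroup.orderOf_dvd_natCard _ hz
    rwa [Nat.card_zpowers, hx] at this
  rcases (Nat.dvd_prime hsp).mp hdvd with h1 | h1
  · rw [h1] at hn
    have : s = 1 := by
      have := Nat.eq_one_of_mul_eq_one_right hn.symm
      exact this
    rw [this] at hsp
    exact absurd hsp (by norm_num)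
  · exact h1

theorem order_cases (h : Nat.card G = 168) (g : G) :
    orderOf g = 1 ∨ orderOf g = 2 ∨ orderOf g = 3 ∨ orderOf g = 4 ∨ orderOf g = 7 := by
  by_cases h7 : 7 ∣ orderOf g
  · right; right; right; right
    exact order_of_dvd_prime_case h g 7 (Or.inr rfl) h7
  by_cases h3 : 3 ∣ orderOf g
  · right; right; left
    exact order_of_dvd_prime_case h g 3 (Or.inl rfl) h3
  have hdiv : orderOf g ∣ 168 := h ▸ orderOf_dvd_natCard g
  have hcop : Nat.Coprime (orderOf g) 21 := by
    have h21 : (21 : ℕ) = 3 * 7 := by norm_num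
    rw [h21]
    apply Nat.Coprime.mul_right
    · exact ((Nat.Prime.coprime_iff_not_dvd Nat.prime_three).mpr h3).symm
    · exact ((Nat.Prime.coprime_iff_not_dvd (by norm_num : Nat.Prime 7)).mpr h7).symm
  have h168 : (168 : ℕ) = 21 * 8 := by norm_num
  rw [h168] at hdiv
  have h8 : orderOf g ∣ 8 := hcop.dvd_of_dvd_mul_left hdiv
  have hle := Nat.le_of_dvd (by norm_num) h8
  have hpos := orderOf_pos g
  have hne8 : orderOf g ≠ 8 := by
    intro ho
    have hpg : IsPGroup 2 (zpowers g) :=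
      IsPGroup.of_card (n := 3) (by rw [Nat.card_zpowers, ho]; norm_num)
    obtain ⟨T, hT⟩ := hpg.exists_le_sylow
    have hTe : zpowers g = (T : Subgroup G) :=
      eq_of_le_of_card_ge hT (by rw [Nat.card_zpowers, ho, card_sylow2 h T])
    obtain ⟨a, ha, b, hb, hab⟩ := sylow2_nonabelian h T
    apply hab
    rw [← hTe] at ha hb
    obtain ⟨i, rfl⟩ := mem_zpowers_iff.mp ha
    obtain ⟨j, rfl⟩ := mem_zpowers_iff.mp hb
    exact (Commute.zpow_zpow_self g i j).eq
  obtain ⟨o, ho⟩ : ∃ o, o = orderOf g := ⟨_, rfl⟩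
  rw [← ho] at h8 hle hpos hne8 ⊢
  interval_cases o <;> omega

/-- elements of order 4 in a Sylow 2-subgroup -/
theorem order4_in_sylow (h : Nat.card G = 168) (T : Sylow 2 G) :
    ∃ r ∈ (T : Subgroup G), orderOf r = 4 ∧ r ≠ r⁻¹ ∧
      ∀ u ∈ (T : Subgroup G), orderOf u = 4 → (u = r ∨ u = r⁻¹) := by
  obtain ⟨hK, hna, hnu⟩ := sylow2_hyps h T
  obtain ⟨r, hr, hne, hall⟩ := order_four_elts hK hna hnu
  refine ⟨(r : G), r.2, by rw [Subgroup.orderOf_coe]; exact hr, ?_, fun u hu ho => ?_⟩
  · intro h0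
    apply hne
    apply Subtype.ext
    rw [Subgroup.coe_inv]
    exact h0
  · rcases hall ⟨u, hu⟩ (by rw [← Subgroup.orderOf_coe]; exact ho) with h1 | h1
    · left; exact congrArg Subtype.val h1
    · right
      have := congrArg Subtype.val h1
      rwa [Subgroup.coe_inv] at this

theorem card_order4_in_sylow (h : Nat.card G = 168) (T : Sylow 2 G) :
    Nat.card {u : G // u ∈ (T : Subgroup G) ∧ orderOf u = 4} = 2 := by
  obtain ⟨r, hrT, hr, hne, hall⟩ := order4_in_sylow h T
  have hri : orderOf r⁻¹ = 4 := by rw [orderOf_inv, hr]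
  rw [Nat.card_eq_two_iff]
  refine ⟨⟨r, hrT, hr⟩, ⟨r⁻¹, (T : Subgroup G).inv_mem hrT, hri⟩,
    fun h0 => hne (congrArg Subtype.val h0), ?_⟩
  ext u
  simp only [Set.mem_insert_iff, Set.mem_singleton_iff, Set.mem_univ, iff_true]
  rcases hall u.1 u.2.1 u.2.2 with h1 | h1
  · left; exact Subtype.ext h1
  · right; exact Subtype.ext h1

/-- the Sylow 2-subgroup containing an element of order 4 is the centralizer of its square -/
theorem sylow_of_order4 (h : Nat.card G = 168) (u : G) (hu : orderOf u = 4) (S : Sylow 2 G)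
    (huS : u ∈ (S : Subgroup G)) : centralizer ({u ^ 2} : Set G) = (S : Subgroup G) := by
  obtain ⟨r, hrT, hr, hne, hall⟩ := order4_in_sylow h S
  have hu2 : u ^ 2 ≠ 1 := by
    intro h0
    have := orderOf_dvd_of_pow_eq_one h0
    rw [hu] at this
    omega
  apply cent_central_elt h S (u ^ 2) ((S : Subgroup G).pow_mem huS 2) hu2
  intro t ht
  have h1 : t * u * t⁻¹ ∈ (S : Subgroup G) :=
    (S : Subgroup G).mul_mem ((S : Subgroup G).mul_mem ht huS) ((S : Subgroup G).inv_mem ht)
  have h2 : orderOf (t * u * t⁻¹) = 4 := by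
    have := h8_orderOf_conj t⁻¹ u
    rw [inv_inv] at this
    rw [this, hu]
  have h3 : t * u * t⁻¹ = u ∨ t * u * t⁻¹ = u⁻¹ := by
    rcases hall u huS hu with e1 | e1 <;> rcases hall _ h1 h2 with e2 | e2
    · left; rw [e2, e1]
    · right; rw [e2, e1]
    · right; rw [e2, e1, inv_inv]
    · left; rw [e2, e1]
  have h4 : t * u ^ 2 * t⁻¹ = u ^ 2 := by
    have : t * u ^ 2 * t⁻¹ = (t * u * t⁻¹) ^ 2 := by
      rw [pow_two, pow_two]; group
    rw [this]
    rcases h3 with e | e
    · rw [e]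
    · rw [e, inv_pow, hu_inv_sq u hu]
  calc t * u ^ 2 = (t * u ^ 2 * t⁻¹) * t := by group
    _ = u ^ 2 * t := by rw [h4]
where
  hu_inv_sq (u : G) (hu : orderOf u = 4) : (u ^ 2)⁻¹ = u ^ 2 := by
    apply inv_eq_of_mul_eq_one_left
    rw [← pow_add]
    have : u ^ 4 = 1 := by rw [← hu]; exact pow_orderOf_eq_one u
    exact this

end Cfsg.Agent.Lib.Helper18.O168

namespace Cfsg.Agent.Lib.Helper18.O168

open Subgroup
open Cfsg.Agent.Lib.helper8

variable {G : Type*} [Group G] [Finite G] [IsSimpleGroup G]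

theorem card_order4 (h : Nat.card G = 168) : Nat.card {u : G // orderOf u = 4} = 42 := by
  classical
  have hex : ∀ u : {u : G // orderOf u = 4}, ∃ S : Sylow 2 G, (u : G) ∈ (S : Subgroup G) := by
    intro u
    have hpg : IsPGroup 2 (zpowers (u : G)) :=
      IsPGroup.of_card (n := 2) (by rw [Nat.card_zpowers, u.2]; norm_num)
    obtain ⟨S, hS⟩ := hpg.exists_le_sylow
    exact ⟨S, hS (mem_zpowers _)⟩
  choose f hf using hex
  have huniq : ∀ (u : {u : G // orderOf u = 4}) (S : Sylow 2 G),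
      (u : G) ∈ (S : Subgroup G) → S = f u := by
    intro u S hS
    apply Sylow.ext
    rw [← sylow_of_order4 h u.1 u.2 S hS, ← sylow_of_order4 h u.1 u.2 (f u) (hf u)]
  have hfib : ∀ S : Sylow 2 G, Nat.card {e : {u : G // orderOf u = 4} // f e = S} = 2 := by
    intro S
    refine (Nat.card_congr ?_).trans (card_order4_in_sylow h S)
    refine ⟨fun e => ⟨e.1.1, ?_, e.1.2⟩, fun v => ⟨⟨v.1, v.2.2⟩, ?_⟩, ?_, ?_⟩
    · have h1 := hf e.1
      have h2 : f e.1 = S := e.2
      rw [h2] at h1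
      exact h1
    · exact (huniq ⟨v.1, v.2.2⟩ S v.2.1).symm
    · intro e; rfl
    · intro v; rfl
  rw [Cfsg.Agent.S0995.fiber_count f 2 hfib, n2 h]

theorem card_order3 (h : Nat.card G = 168) : Nat.card {u : G // orderOf u = 3} = 56 := by
  have := h8_card_orderOf_eq_prime (G := G) 3 56 (by rw [h]) (by norm_num)
  rw [this, n3 h]

theorem card_order7 (h : Nat.card G = 168) : Nat.card {u : G // orderOf u = 7} = 48 := by
  have := h8_card_orderOf_eq_prime (G := G) 7 24 (by rw [h]) (by norm_num)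
  rw [this, n7 h]

theorem card_order1 : Nat.card {u : G // orderOf u = 1} = 1 := by
  rw [Nat.card_eq_one_iff_unique]
  refine ⟨⟨fun a b => ?_⟩, ⟨⟨1, orderOf_one⟩⟩⟩
  apply Subtype.ext
  rw [orderOf_eq_one_iff.mp a.2, orderOf_eq_one_iff.mp b.2]

theorem involutions (h : Nat.card G = 168) :
    Nat.card {g : G // orderOf g = 2} = 21 ∧
    ∀ s t : G, orderOf s = 2 → orderOf t = 2 → IsConj s t := by
  classical
  obtain ⟨T⟩ : Nonempty (Sylow 2 G) := inferInstance
  obtain ⟨r, hrT, hr, _, _⟩ := order4_in_sylow h T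
  have hzo : orderOf (r ^ 2) = 2 := by
    rw [orderOf_pow' r (by norm_num : 2 ≠ 0), hr]; norm_num
  have hCz : centralizer ({r ^ 2} : Set G) = (T : Subgroup G) := sylow_of_order4 h r hr T hrT
  have hclass : Nat.card {x : G // IsConj (r ^ 2) x} = 21 := by
    have := card_isConj_mul_card_centralizer (r ^ 2)
    rw [hCz, card_sylow2 h T, h] at this
    omega
  have hle : Nat.card {g : G // orderOf g = 2} ≤ 21 := by
    have := h8_sum_card_orderOf_le (G := G) ({1, 2, 3, 4, 7} : Finset ℕ)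
    rw [Finset.sum_insert (by decide), Finset.sum_insert (by decide), Finset.sum_insert (by decide),
      Finset.sum_insert (by decide), Finset.sum_singleton] at this
    rw [card_order1, card_order3 h, card_order4 h, card_order7 h, h] at this
    omega
  let ι : {x : G // IsConj (r ^ 2) x} → {g : G // orderOf g = 2} := fun x =>
    ⟨x.1, by
      obtain ⟨d, hd⟩ := isConj_iff.mp x.2
      rw [← hd]
      have := h8_orderOf_conj d⁻¹ (r ^ 2)
      rw [inv_inv] at this
      rw [this, hzo]⟩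
  have hι : Function.Injective ι := by
    intro a b hab
    apply Subtype.ext
    exact congrArg (fun v : {g : G // orderOf g = 2} => v.1) hab
  have hge : 21 ≤ Nat.card {g : G // orderOf g = 2} := by
    rw [← hclass]
    exact Nat.card_le_card_of_injective ι hι
  have hcard : Nat.card {g : G // orderOf g = 2} = 21 := le_antisymm hle hge
  have hbij : Function.Bijective ι :=
    (Nat.bijective_iff_injective_and_card ι).mpr ⟨hι, by rw [hclass, hcard]⟩
  have hconj : ∀ t : G, orderOf t = 2 → IsConj (r ^ 2) t := by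
    intro t ht
    obtain ⟨x, hx⟩ := hbij.2 ⟨t, ht⟩
    have : x.1 = t := congrArg (fun v : {g : G // orderOf g = 2} => v.1) hx
    rw [← this]
    exact x.2
  exact ⟨hcard, fun s t hs ht => (hconj s hs).symm.trans (hconj t ht)⟩

end Cfsg.Agent.Lib.Helper18.O168
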