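import Mathlib
import Cfsg.Agent.Lib.Helper18.Order168b
import Cfsg.Agent.Lib.Helper18.Dihedral8b

set_option autoImplicit false

namespace Cfsg.Agent.Lib.Helper18.O168

open Subgroup
open Cfsg.Agent.Lib.helper8

theorem all_conj_of_card {G : Type*} [Group G] [Finite G] (d N : ℕ)
    (hN : Nat.card {g : G // orderOf g = d} = N)
    (hcls : ∀ s : G, orderOf s = d → Nat.card {x : G // IsConj s x} = N) :
    ∀ s t : G, orderOf s = d → orderOf t = d → IsConj s t := by
  intro s t hs ht
  let ι : {x : G // IsConj s x} → {g : G // orderOf g = d} := fun x =>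
    ⟨x.1, by
      obtain ⟨c, hc⟩ := isConj_iff.mp x.2
      rw [← hc]
      have := h8_orderOf_conj c⁻¹ s
      rw [inv_inv] at this
      rw [this, hs]⟩
  have hι : Function.Injective ι := by
    intro a b hab
    apply Subtype.ext
    exact congrArg (fun v : {g : G // orderOf g = d} => v.1) hab
  have hbij : Function.Bijective ι :=
    (Nat.bijective_iff_injective_and_card ι).mpr ⟨hι, by rw [hcls s hs, hN]⟩
  obtain ⟨x, hx⟩ := hbij.2 ⟨t, ht⟩
  have : x.1 = t := congrArg (fun v : {g : G // orderOf g = d} => v.1) hx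
  rw [← this]
  exact x.2

variable {G : Type*} [Group G] [Finite G] [IsSimpleGroup G]

theorem class_order3 (h : Nat.card G = 168) (s : G) (hs : orderOf s = 3) :
    Nat.card {x : G // IsConj s x} = 56 := by
  have := card_isConj_mul_card_centralizer s
  rw [cent_elt3 h s hs, Nat.card_zpowers, hs, h] at this
  omega

theorem class_order7 (h : Nat.card G = 168) (s : G) (hs : orderOf s = 7) :
    Nat.card {x : G // IsConj s x} = 24 := by
  have := card_isConj_mul_card_centralizer s
  rw [cent_elt7 h s hs, Nat.card_zpowers, hs, h] at this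
  omega

theorem cent_order4 (h : Nat.card G = 168) (u : G) (hu : orderOf u = 4) :
    Nat.card (centralizer ({u} : Set G)) = 4 := by
  have hpg : IsPGroup 2 (zpowers u) :=
    IsPGroup.of_card (n := 2) (by rw [Nat.card_zpowers, hu]; norm_num)
  obtain ⟨S, hS⟩ := hpg.exists_le_sylow
  have huS : u ∈ (S : Subgroup G) := hS (mem_zpowers u)
  have hu1 : u ≠ 1 := by
    intro h0
    rw [h0, orderOf_one] at hu
    omega
  have hd8 := card_cent_two_elt h u hu1 (by rw [hu]; norm_num)
  have h4 : 4 ∣ Nat.card (centralizer ({u} : Set G)) := by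
    have hle : zpowers u ≤ centralizer ({u} : Set G) := by
      rw [zpowers_le, mem_centralizer_iff]
      intro y hy
      rw [Set.mem_singleton_iff] at hy
      rw [hy]
    have := Subgroup.card_dvd_of_le hle
    rwa [Nat.card_zpowers, hu] at this
  -- an element of S not commuting with u
  obtain ⟨hK, hna, hnu⟩ := sylow2_hyps h S
  obtain ⟨r, x, hr, hne, hconj, hall⟩ := order_four_elts' hK hna hnu
  have hux : (x : G) ∉ centralizer ({u} : Set G) := by
    intro hmem
    rw [mem_centralizer_iff] at hmem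
    have hcomm : u * (x : G) = (x : G) * u := hmem u rfl
    have huK : orderOf (⟨u, huS⟩ : (S : Subgroup G)) = 4 := by
      rw [← Subgroup.orderOf_coe]; exact hu
    have hxr : x * r = r * x := by
      rcases hall ⟨u, huS⟩ huK with e | e
      · rw [← e]
        apply Subtype.ext
        exact hcomm.symm
      · have e' : r = (⟨u, huS⟩ : (S : Subgroup G))⁻¹ := by rw [e, inv_inv]
        rw [e']
        apply Subtype.ext
        simp only [Subgroup.coe_mul, Subgroup.coe_inv]
        have : (x : G) * u = u * (x : G) := hcomm.symm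
        calc (x : G) * u⁻¹ = u⁻¹ * (u * (x : G)) * u⁻¹ := by group
          _ = u⁻¹ * ((x : G) * u) * u⁻¹ := by rw [this]
          _ = u⁻¹ * (x : G) := by group
    apply hne
    rw [← hconj, hxr, mul_assoc, mul_inv_cancel, mul_one]
  have hne8 : Nat.card (centralizer ({u} : Set G)) ≠ 8 := by
    intro h8
    have hle : centralizer ({u} : Set G) ≤ (S : Subgroup G) := by
      rw [← sylow_of_order4 h u hu S huS]
      intro c hc
      rw [mem_centralizer_iff] at hc ⊢
      intro y hy
      rw [Set.mem_singleton_iff] at hy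
      rw [hy]
      have h1 : u * c = c * u := hc u rfl
      rw [pow_two, mul_assoc, h1, ← mul_assoc, h1, mul_assoc]
    have heq := eq_of_le_of_card_ge hle (by rw [h8, card_sylow2 h S])
    apply hux
    rw [heq]
    exact x.2
  obtain ⟨c, hc⟩ : ∃ c, c = Nat.card (centralizer ({u} : Set G)) := ⟨_, rfl⟩
  rw [← hc] at hd8 h4 hne8 ⊢
  have := Nat.le_of_dvd (by norm_num) hd8
  interval_cases c <;> omega

theorem class_order4 (h : Nat.card G = 168) (s : G) (hs : orderOf s = 4) :
    Nat.card {x : G // IsConj s x} = 42 := by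
  have := card_isConj_mul_card_centralizer s
  rw [cent_order4 h s hs, h] at this
  omega

theorem not_conj_inv_order7 (h : Nat.card G = 168) (x : G) (hx : orderOf x = 7) :
    ¬ IsConj x x⁻¹ := by
  intro hc
  obtain ⟨g, hg⟩ := isConj_iff.mp hc
  have hpg : IsPGroup 7 (zpowers x) :=
    IsPGroup.of_card (n := 1) (by rw [Nat.card_zpowers, hx, pow_one])
  obtain ⟨R, hR⟩ := hpg.exists_le_sylow
  have hRe : zpowers x = (R : Subgroup G) :=
    eq_of_le_of_card_ge hR (by rw [Nat.card_zpowers, hx, card_sylow7 h R])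
  -- g normalizes R
  have hgN : g ∈ normalizer ((R : Subgroup G) : Set G) := by
    apply h8_mem_normalizer_of_conj_le 7 R g
    intro y hy
    rw [← hRe] at hy ⊢
    obtain ⟨k, rfl⟩ := mem_zpowers_iff.mp hy
    have h1 : g⁻¹ * x * g = x⁻¹ := by
      have : x = g⁻¹ * x⁻¹ * g := by rw [← hg]; group
      calc g⁻¹ * x * g = (g⁻¹ * x⁻¹ * g)⁻¹ := by group
        _ = x⁻¹ := by rw [← this]
    have h2 : g⁻¹ * x ^ k * g = (g⁻¹ * x * g) ^ k := by
      have := map_zpow (MulAut.conj g⁻¹) x k
      simp only [MulAut.conj_apply, inv_inv] at this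
      exact this
    rw [h2, h1]
    exact (zpowers x).zpow_mem ((zpowers x).inv_mem (mem_zpowers x)) k
  have hN21 : Nat.card (normalizer ((R : Subgroup G) : Set G)) = 21 := by
    have := h8_card_normalizer_sylow 7 R
    rw [n7 h, h] at this
    omega
  have hgo : orderOf g ∣ 21 := by
    have := Subgroup.orderOf_dvd_natCard _ hgN
    rwa [hN21] at this
  -- g^2 commutes with x
  have hg2 : g ^ 2 * x = x * g ^ 2 := by
    have h1 : g * x⁻¹ * g⁻¹ = x := by
      have : g * x⁻¹ * g⁻¹ = (g * x * g⁻¹)⁻¹ := by group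
      rw [this, hg, inv_inv]
    have h2 : g ^ 2 * x * (g ^ 2)⁻¹ = x := by
      have : g ^ 2 * x * (g ^ 2)⁻¹ = g * (g * x * g⁻¹) * g⁻¹ := by
        rw [pow_two]; group
      rw [this, hg, h1]
    calc g ^ 2 * x = (g ^ 2 * x * (g ^ 2)⁻¹) * g ^ 2 := by group
      _ = x * g ^ 2 := by rw [h2]
  -- g is a power of g^2 since its order is odd
  have hodd : Odd (orderOf g) := by
    obtain ⟨c, hc⟩ := hgo
    have : Odd (21 : ℕ) := by decide
    rw [hc] at this
    exact (Nat.odd_mul.mp this).1
  obtain ⟨m, hm⟩ := hodd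
  have hgpow : g = (g ^ 2) ^ (m + 1) := by
    rw [← pow_mul]
    have : 2 * (m + 1) = orderOf g + 1 := by omega
    rw [this, pow_succ, pow_orderOf_eq_one, one_mul]
  have hcomm : Commute g x := by
    rw [hgpow]
    exact Commute.pow_left hg2 (m + 1)
  have hxx : x = x⁻¹ := by
    have : g * x * g⁻¹ = x := by
      rw [hcomm.eq]; group
    rw [this] at hg
    exact hg
  have hx2 : x ^ 2 = 1 := by
    rw [pow_two]
    nth_rewrite 2 [hxx]
    exact mul_inv_cancel x
  have := orderOf_dvd_of_pow_eq_one hx2
  rw [hx] at this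
  omega

end Cfsg.Agent.Lib.Helper18.O168
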