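import Mathlib
import Cfsg.Agent.Lib.Helper18.Order168c
import Cfsg.Agent.Lib.Helper18.Dihedral8d
import Cfsg.Agent.Lib.Helper18.SylowIn
import Cfsg.Agent.S1012

set_option autoImplicit false

namespace Cfsg.Agent.Lib.Helper18.O168

open Subgroup
open Cfsg.Agent.Lib.helper8 Cfsg.Agent.Lib.Helper18

theorem isKleinFour_of_mulEquiv {A B : Type*} [Group A] [Group B] (e : A ≃* B) [hA : IsKleinFour A] :
    IsKleinFour B :=
  ⟨by rw [← Nat.card_congr e.toEquiv]; exact IsKleinFour.card_four,
   by rw [← Monoid.exponent_eq_of_mulEquiv e]; exact IsKleinFour.exponent_two⟩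

theorem le_normalizer_of_index_two {G : Type*} [Group G] [Finite G] (U T : Subgroup G) (hUT : U ≤ T)
    (hc : Nat.card T = 2 * Nat.card U) : T ≤ normalizer (U : Set G) := by
  rw [← normal_subgroupOf_iff_le_normalizer hUT]
  apply normal_of_index_eq_two
  have h1 := (U.subgroupOf T).card_mul_index
  rw [h8_card_subgroupOf hUT, hc] at h1
  have hpos : 0 < Nat.card U := Nat.card_pos
  nlinarith

variable {G : Type*} [Group G] [Finite G] [IsSimpleGroup G]

theorem d8Data (h : Nat.card G = 168) (T : Sylow 2 G) : Nonempty (D8Data (T : Subgroup G)) := by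
  obtain ⟨hK, hna, hnu⟩ := sylow2_hyps h T
  exact exists_d8Data hK hna hnu

theorem card_klein_in_sylow (h : Nat.card G = 168) (T : Sylow 2 G) :
    Nat.card {U : Subgroup G // U ≤ (T : Subgroup G) ∧ IsKleinFour U} = 2 := by
  obtain ⟨D⟩ := d8Data h T
  refine (Nat.card_congr ?_).trans D.card_klein
  refine ⟨fun U => ⟨U.1.subgroupOf (T : Subgroup G), ?_⟩,
    fun V => ⟨V.1.map (T : Subgroup G).subtype, ?_, ?_⟩, ?_, ?_⟩
  · haveI := U.2.2
    exact isKleinFour_of_mulEquiv (subgroupOfEquivOfLe U.2.1).symm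
  · exact map_subtype_le _
  · haveI := V.2
    exact isKleinFour_of_mulEquiv (V.1.equivMapOfInjective _ (subtype_injective _))
  · intro U
    apply Subtype.ext
    simp only
    rw [subgroupOf_map_subtype, inf_of_le_left U.2.1]
  · intro V
    apply Subtype.ext
    simp only
    exact comap_map_eq_self_of_injective (subtype_injective _) V.1

theorem klein_not_conj (h : Nat.card G = 168) (T : Sylow 2 G) (U W : Subgroup G)
    (hU : U ≤ (T : Subgroup G)) (hW : W ≤ (T : Subgroup G)) [hUk : IsKleinFour U]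
    [hWk : IsKleinFour W] (hne : U ≠ W) (g : G) : U.map (MulAut.conj g).toMonoidHom ≠ W := by
  intro hg
  have hUc : Nat.card U = 4 := IsKleinFour.card_four
  have hWc : Nat.card W = 4 := IsKleinFour.card_four
  have hTU : (T : Subgroup G) ≤ normalizer (U : Set G) :=
    le_normalizer_of_index_two U T hU (by rw [card_sylow2 h T, hUc])
  have hTW : (T : Subgroup G) ≤ normalizer (W : Set G) :=
    le_normalizer_of_index_two W T hW (by rw [card_sylow2 h T, hWc])
  have hgT : conjSub g (T : Subgroup G) ≤ normalizer (W : Set G) := by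
    rintro _ ⟨t, ht, rfl⟩
    apply mem_normalizer_of_conjSub_le
    have h1 : conjSub ((MulAut.conj g).toMonoidHom t) W = W := by
      rw [← hg]
      change conjSub _ (conjSub g U) = conjSub g U
      rw [conjSub_mul]
      have : (MulAut.conj g).toMonoidHom t * g = g * t := by
        simp [MulAut.conj_apply]
      rw [this, ← conjSub_mul, conjSub_eq_of_mem_normalizer (hTU ht)]
    exact h1.le
  have hsyl : IsSylowIn 2 (T : Subgroup G) (normalizer (W : Set G)) := isSylowIn_of_sylow_le T hTW
  obtain ⟨n, hn, hle⟩ := hsyl.exists_conj_le hgT (conjSub_isPGroup T.isPGroup')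
  rw [conjSub_mul] at hle
  have hngN := mem_normalizer_of_conjSub_le hle
  rw [normalizer_sylow2 h T] at hngN
  have h1 : conjSub (n * g) U = U := conjSub_eq_of_mem_normalizer (hTU hngN)
  have h2 : conjSub (n * g) U = W := by
    rw [← conjSub_mul]
    change conjSub n (U.map (MulAut.conj g).toMonoidHom) = W
    rw [hg]
    exact conjSub_eq_of_mem_normalizer hn
  exact hne (h1.symm.trans h2)

end Cfsg.Agent.Lib.Helper18.O168

namespace Cfsg.Agent.Lib.Helper18.O168

open Subgroup
open Cfsg.Agent.Lib.helper8 Cfsg.Agent.Lib.Helper18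

variable {G : Type*} [Group G] [Finite G] [IsSimpleGroup G]

theorem card_cent_invol (h : Nat.card G = 168) (t : G) (ht : orderOf t = 2) :
    Nat.card (centralizer ({t} : Set G)) = 8 := by
  obtain ⟨T⟩ : Nonempty (Sylow 2 G) := inferInstance
  obtain ⟨r, hrT, hr, _, _⟩ := order4_in_sylow h T
  have hzo : orderOf (r ^ 2) = 2 := by
    rw [orderOf_pow' r (by norm_num : 2 ≠ 0), hr]; norm_num
  have hc := (involutions h).2 t (r ^ 2) ht hzo
  rw [card_centralizer_eq_of_isConj hc, sylow_of_order4 h r hr T hrT, card_sylow2 h T]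

theorem normalizer_klein_card (h : Nat.card G = 168) (U : Subgroup G) [hUk : IsKleinFour U] :
    Nat.card (normalizer (U : Set G)) = 24 := by
  have hUc : Nat.card U = 4 := IsKleinFour.card_four
  have hpg : IsPGroup 2 U := IsPGroup.of_card (n := 2) (by rw [hUc]; norm_num)
  obtain ⟨S, hUS⟩ := hpg.exists_le_sylow
  obtain ⟨D⟩ := d8Data h S
  haveI hU' : IsKleinFour (U.subgroupOf (S : Subgroup G)) :=
    isKleinFour_of_mulEquiv (subgroupOfEquivOfLe hUS).symm
  -- an involution of U not commuting with r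
  obtain ⟨s', hs'U, hs'o, hs'r⟩ : ∃ s' : (S : Subgroup G), s' ∈ U.subgroupOf (S : Subgroup G) ∧
      orderOf s' = 2 ∧ s' * D.r ≠ D.r * s' := by
    rcases D.klein_cases (U.subgroupOf (S : Subgroup G)) with e | e
    · refine ⟨D.x, ?_, D.x_order, D.x_not_comm⟩
      rw [e, mem_centralizer_iff]
      intro y hy
      rw [Set.mem_singleton_iff] at hy
      rw [hy]
    · refine ⟨D.x * D.r, ?_, D.xr_order,
        D.invol_not_comm _ D.xr_order (D.ne_z_of_inverting _ D.xr_conj)⟩
      rw [e, mem_centralizer_iff]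
      intro y hy
      rw [Set.mem_singleton_iff] at hy
      rw [hy]
  set s : G := (s' : G) with hs
  have hsU : s ∈ U := mem_subgroupOf.mp hs'U
  have hso : orderOf s = 2 := by rw [hs, Subgroup.orderOf_coe]; exact hs'o
  have hsr : s * (D.r : G) ≠ (D.r : G) * s := by
    intro h0
    apply hs'r
    apply Subtype.ext
    simpa using h0
  set C := centralizer ({s} : Set G) with hC
  have hCc : Nat.card C = 8 := card_cent_invol h s hso
  have hUC : U ≤ C := by
    intro u hu
    rw [hC, mem_centralizer_iff]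
    intro y hy
    rw [Set.mem_singleton_iff] at hy
    rw [hy]
    have := (IsKleinFour.isMulCommutative (G := U)).is_comm.comm ⟨s, hsU⟩ ⟨u, hu⟩
    exact congrArg Subtype.val this
  have hCN : C ≤ normalizer (U : Set G) :=
    le_normalizer_of_index_two U C hUC (by rw [hCc, hUc])
  have hSN : (S : Subgroup G) ≤ normalizer (U : Set G) :=
    le_normalizer_of_index_two U S hUS (by rw [card_sylow2 h S, hUc])
  have hrN : (D.r : G) ∈ normalizer (U : Set G) := hSN D.r.2
  have hrC : (D.r : G) ∉ C := by
    intro hmem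
    rw [hC, mem_centralizer_iff] at hmem
    exact hsr (hmem s rfl)
  have hlt : Nat.card C < Nat.card (normalizer (U : Set G)) :=
    h8_card_lt_of_lt C _ hCN _ hrN hrC
  have h8 : 8 ∣ Nat.card (normalizer (U : Set G)) := hCc ▸ Subgroup.card_dvd_of_le hCN
  have h168 : Nat.card (normalizer (U : Set G)) ∣ 168 := h ▸ Subgroup.card_subgroup_dvd_card _
  have h7 : ¬ 7 ∣ Nat.card (normalizer (U : Set G)) := by
    intro hd
    obtain ⟨x7, hx7⟩ := exists_prime_orderOf_dvd_card' 7 hd
    set φ := U.normalizerMonoidHom with hφ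
    set σ := φ x7 with hσ
    have hσ7 : σ ^ 7 = 1 := by rw [hσ, ← map_pow, ← hx7, pow_orderOf_eq_one, map_one]
    have ho : orderOf σ ∣ 7 := orderOf_dvd_of_pow_eq_one hσ7
    have hodd : Odd (Nat.card (zpowers σ)) := by
      rw [Nat.card_zpowers]
      rcases (Nat.dvd_prime (by norm_num : Nat.Prime 7)).mp ho with e | e
      · rw [e]; decide
      · rw [e]; decide
    have hcases := Cfsg.Agent.S0992.klein_aut (zpowers σ) hodd
    rw [Nat.card_zpowers] at hcases
    have hσ1 : σ = 1 := by
      rw [← orderOf_eq_one_iff]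
      rcases hcases with e | e
      · exact e
      · rw [e] at ho; omega
    have hfix : (x7 : G) * s * (x7 : G)⁻¹ = s := by
      have h1 : σ ⟨s, hsU⟩ = ⟨s, hsU⟩ := by rw [hσ1]; rfl
      have h2 := congrArg Subtype.val h1
      rw [hσ, hφ, normalizerMonoidHom_apply_apply_coe] at h2
      exact h2
    have hx7o : orderOf (x7 : G) = 7 := by rw [Subgroup.orderOf_coe]; exact hx7
    have hmem : s ∈ centralizer ({(x7 : G)} : Set G) := by
      rw [mem_centralizer_iff]
      intro y hy
      rw [Set.mem_singleton_iff] at hy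
      rw [hy]
      calc (x7 : G) * s = ((x7 : G) * s * (x7 : G)⁻¹) * (x7 : G) := by group
        _ = s * (x7 : G) := by rw [hfix]
    rw [cent_elt7 h _ hx7o] at hmem
    have := Subgroup.orderOf_dvd_natCard _ hmem
    rw [Nat.card_zpowers, hx7o, hso] at this
    omega
  obtain ⟨m, hm⟩ := h8
  rw [hm] at hlt h168 h7 ⊢
  rw [hCc] at hlt
  have hm21 : m ∣ 21 := by
    have : (168 : ℕ) = 8 * 21 := by norm_num
    rw [this] at h168
    exact Nat.dvd_of_mul_dvd_mul_left (by norm_num) h168
  have hle := Nat.le_of_dvd (by norm_num) hm21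
  have hm7 : ¬ 7 ∣ m := fun hd => h7 (Dvd.dvd.mul_left hd 8)
  interval_cases m <;> omega

theorem normalizer_klein_iso (h : Nat.card G = 168) (U : Subgroup G) [hUk : IsKleinFour U] :
    Nonempty (↥(normalizer (U : Set G)) ≃* Equiv.Perm (Fin 4)) := by
  apply Cfsg.Agent.S1012.result (normalizer_klein_card h U)
  intro g hg
  have : orderOf (g : G) = 6 := by rw [Subgroup.orderOf_coe]; exact hg
  rcases order_cases h (g : G) with e | e | e | e | e <;> omega

end Cfsg.Agent.Lib.Helper18.O168
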