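import Mathlib
import Cfsg.Agent.Lib.Helper18.Order168d

set_option autoImplicit false

namespace Cfsg.Agent.Lib.Helper18.O168

open Subgroup
open Cfsg.Agent.Lib.helper8 Cfsg.Agent.Lib.Helper18

/-- the core of a subgroup of index 3 has index dividing 6 -/
theorem card_dvd_six_mul_core {M : Type*} [Group M] [Finite M] (H : Subgroup M)
    (hH : H.index = 3) : Nat.card M ∣ 6 * Nat.card H.normalCore := by
  classical
  rw [normalCore_eq_ker]
  set φ := MulAction.toPermHom M (M ⧸ H) with hφ
  have h1 := φ.ker.card_mul_index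
  rw [Subgroup.index_ker] at h1
  have h2 : Nat.card φ.range ∣ 6 := by
    have h3 : Nat.card φ.range ∣ Nat.card (Equiv.Perm (M ⧸ H)) := Subgroup.card_subgroup_dvd_card _
    have h4 : Nat.card (Equiv.Perm (M ⧸ H)) = 6 := by
      rw [Nat.card_perm]
      have : Nat.card (M ⧸ H) = 3 := hH
      rw [this]; rfl
    rwa [h4] at h3
  obtain ⟨c, hc⟩ := h2
  exact ⟨c, by rw [← h1, hc]; ring⟩

/-- a subgroup `K'` of `↥M` that is normal gives `M ≤ N_G(K)` for its image `K` -/
theorem le_normalizer_map_of_normal {G : Type*} [Group G] (M : Subgroup G) (K' : Subgroup M)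
    [hK : K'.Normal] : M ≤ normalizer ((K'.map M.subtype : Subgroup G) : Set G) := by
  rw [← normal_subgroupOf_iff_le_normalizer (map_subtype_le K')]
  have : (K'.map M.subtype).subgroupOf M = K' :=
    comap_map_eq_self_of_injective (subtype_injective M) K'
  rw [this]
  exact hK

theorem card_map_subtype {G : Type*} [Group G] (M : Subgroup G) (K' : Subgroup M) :
    Nat.card (K'.map M.subtype : Subgroup G) = Nat.card K' :=
  (Nat.card_congr (K'.equivMapOfInjective _ (subtype_injective M)).toEquiv).symm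

variable {G : Type*} [Group G] [Finite G] [IsSimpleGroup G]

theorem hnc (h : Nat.card G = 168) : ¬ IsMulCommutative G :=
  h8_not_comm_of_card (by rw [h]; norm_num)

theorem index_ge_seven (h : Nat.card G = 168) (H : Subgroup G) (hH : H ≠ ⊤) : 7 ≤ H.index := by
  have h1 := h8_simple_two_mul_card_dvd_factorial (hnc h) H hH
  rw [h] at h1
  by_contra hlt
  push Not at hlt
  have h2 : (H.index).factorial ∣ Nat.factorial 6 := Nat.factorial_dvd_factorial (by omega)
  have h3 := h1.trans h2
  revert h3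
  decide

theorem card_le_of_ne_top (h : Nat.card G = 168) (H : Subgroup G) (hH : H ≠ ⊤) :
    Nat.card H ≤ 24 := by
  have h1 := index_ge_seven h H hH
  have h2 := H.card_mul_index
  rw [h] at h2
  nlinarith

/-- a subgroup of order 4 normalized by an element of order 3 is a Klein four-group -/
theorem klein_of_normalized (h : Nat.card G = 168) (K : Subgroup G) (hK : Nat.card K = 4)
    (x : G) (hx : orderOf x = 3) (hxN : x ∈ normalizer (K : Set G)) : IsKleinFour K := by
  apply Cfsg.Agent.S0992.klein_of_not_cyclic hK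
  intro hcyc
  obtain ⟨u, hu⟩ := IsCyclic.exists_ofOrder_eq_natCard (α := K)
  rw [hK] at hu
  have huo : orderOf (u : G) = 4 := by rw [Subgroup.orderOf_coe]; exact hu
  have hKe : zpowers (u : G) = K := by
    apply eq_of_le_of_card_ge
    · rw [zpowers_le]; exact u.2
    · rw [Nat.card_zpowers, huo, hK]
  -- x u x⁻¹ ∈ K has order 4
  have hconj : x * (u : G) * x⁻¹ ∈ K := (mem_normalizer_iff.mp hxN (u : G)).mp u.2
  have hco : orderOf (x * (u : G) * x⁻¹) = 4 := by
    have := h8_orderOf_conj x⁻¹ (u : G)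
    rw [inv_inv] at this
    rw [this, huo]
  have hcases : x * (u : G) * x⁻¹ = (u : G) ∨ x * (u : G) * x⁻¹ = (u : G)⁻¹ := by
    have hconj' : x * (u : G) * x⁻¹ ∈ zpowers (u : G) := by rw [hKe]; exact hconj
    clear hconj
    rename' hconj' => hconj
    classical
    rw [mem_zpowers_iff_mem_range_orderOf, huo] at hconj
    simp only [Finset.mem_image, Finset.mem_range] at hconj
    obtain ⟨i, hi, hie⟩ := hconj
    have hu4 : (u : G) ^ 4 = 1 := by rw [← huo]; exact pow_orderOf_eq_one _
    interval_cases i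
    · rw [pow_zero] at hie
      rw [← hie, orderOf_one] at hco; omega
    · left; rw [← hie, pow_one]
    · rw [← hie, orderOf_pow' _ (by norm_num : 2 ≠ 0), huo] at hco
      norm_num at hco
    · right
      rw [← hie]
      apply eq_inv_of_mul_eq_one_left
      rw [← pow_succ, hu4]
  -- x² commutes with u
  have hx2 : x ^ 2 * (u : G) * (x ^ 2)⁻¹ = (u : G) := by
    have h1 : x ^ 2 * (u : G) * (x ^ 2)⁻¹ = x * (x * (u : G) * x⁻¹) * x⁻¹ := by
      rw [pow_two]; group
    rw [h1]
    rcases hcases with e | e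
    · rw [e, e]
    · rw [e]
      have h2 : x * (u : G)⁻¹ * x⁻¹ = (x * (u : G) * x⁻¹)⁻¹ := by group
      rw [h2, e, inv_inv]
  have hmem : x ^ 2 ∈ centralizer ({(u : G)} : Set G) := by
    rw [mem_centralizer_iff]
    intro y hy
    rw [Set.mem_singleton_iff] at hy
    rw [hy]
    calc (u : G) * x ^ 2 = (x ^ 2 * (u : G) * (x ^ 2)⁻¹)⁻¹⁻¹ * x ^ 2 := by rw [hx2, inv_inv]
      _ = x ^ 2 * (u : G) := by rw [inv_inv]; group
  have hd := Subgroup.orderOf_dvd_natCard _ hmem
  rw [cent_order4 h _ huo, orderOf_pow' x (by norm_num : 2 ≠ 0), hx] at hd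
  norm_num at hd

/-- no subgroup of order 2 is normalized by an element of order 3 -/
theorem no_normalized_order_two (h : Nat.card G = 168) (K : Subgroup G) (hK : Nat.card K = 2)
    (x : G) (hx : orderOf x = 3) (hxN : x ∈ normalizer (K : Set G)) : False := by
  haveI : Fact (Nat.Prime 2) := ⟨Nat.prime_two⟩
  obtain ⟨k, hk⟩ := exists_prime_orderOf_dvd_card' 2 (by rw [hK] : 2 ∣ Nat.card K)
  have hko : orderOf (k : G) = 2 := by rw [Subgroup.orderOf_coe]; exact hk
  have hk1 : k ≠ 1 := by
    intro h0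
    rw [h0, orderOf_one] at hk
    omega
  obtain ⟨w, hw1, hw2⟩ := (Nat.card_eq_two_iff' (1 : K)).mp hK
  have hconj : x * (k : G) * x⁻¹ ∈ K := (mem_normalizer_iff.mp hxN (k : G)).mp k.2
  have hne : (⟨x * (k : G) * x⁻¹, hconj⟩ : K) ≠ 1 := by
    intro h0
    apply hk1
    have h7 : x * (k : G) * x⁻¹ = 1 := congrArg Subtype.val h0
    apply Subtype.ext
    have h8 : (k : G) = x⁻¹ * (x * (k : G) * x⁻¹) * x := by group
    rw [h8, h7]; simp
  have e1 := hw2 _ hne
  have e2 := hw2 k hk1
  have hfix : x * (k : G) * x⁻¹ = (k : G) := congrArg Subtype.val (e1.trans e2.symm)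
  have hmem : (k : G) ∈ centralizer ({x} : Set G) := by
    rw [mem_centralizer_iff]
    intro y hy
    rw [Set.mem_singleton_iff] at hy
    rw [hy]
    calc x * (k : G) = (x * (k : G) * x⁻¹) * x := by group
      _ = (k : G) * x := by rw [hfix]
  rw [cent_elt3 h x hx] at hmem
  have := Subgroup.orderOf_dvd_natCard _ hmem
  rw [Nat.card_zpowers, hx, hko] at this
  omega

end Cfsg.Agent.Lib.Helper18.O168
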