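import Mathlib
import Cfsg.Agent.Lib.Helper18.Order168e

set_option autoImplicit false

namespace Cfsg.Agent.Lib.Helper18.O168

open Subgroup
open Cfsg.Agent.Lib.helper8 Cfsg.Agent.Lib.Helper18

variable {G : Type*} [Group G] [Finite G] [IsSimpleGroup G]

/-- an element of order 3 in a subgroup whose order is divisible by 3 -/
theorem exists_order3 (M : Subgroup G) (hM : 3 ∣ Nat.card M) : ∃ x ∈ M, orderOf x = 3 := by
  obtain ⟨x, hx⟩ := exists_prime_orderOf_dvd_card' 3 hM
  exact ⟨(x : G), x.2, by rw [Subgroup.orderOf_coe]; exact hx⟩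

theorem sylow2_of_card (h : Nat.card G = 168) (K : Subgroup G) (hK : Nat.card K = 8) :
    ∃ S : Sylow 2 G, (S : Subgroup G) = K := by
  have hpg : IsPGroup 2 K := IsPGroup.of_card (n := 3) (by rw [hK]; norm_num)
  obtain ⟨S, hS⟩ := hpg.exists_le_sylow
  exact ⟨S, (eq_of_le_of_card_ge hS (by rw [hK, card_sylow2 h S])).symm⟩

/-- a subgroup of order 24 is the normalizer of a Klein four-group -/
theorem order24_eq_normalizer_klein (h : Nat.card G = 168) (M : Subgroup G)
    (hM : Nat.card M = 24) : ∃ K : Subgroup G, IsKleinFour K ∧ M = normalizer (K : Set G) := by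
  obtain ⟨T', hT'⟩ := Sylow.exists_subgroup_card_pow_prime (G := M) 2 (n := 3)
    (by rw [hM]; norm_num)
  have hT'c : Nat.card T' = 8 := by rw [hT']; norm_num
  have hidx : T'.index = 3 := by
    have := T'.card_mul_index
    rw [hT'c, hM] at this
    omega
  have hdvd := card_dvd_six_mul_core T' hidx
  rw [hM] at hdvd
  set K' := T'.normalCore with hK'
  have hK'le : K' ≤ T' := normalCore_le T'
  have hK'd : Nat.card K' ∣ 8 := hT'c ▸ Subgroup.card_dvd_of_le hK'le
  set K := K'.map M.subtype with hK
  have hKc : Nat.card K = Nat.card K' := card_map_subtype M K'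
  have hMN : M ≤ normalizer (K : Set G) := le_normalizer_map_of_normal M K'
  obtain ⟨x, hxM, hx⟩ := exists_order3 M (by rw [hM]; norm_num)
  have hcases : Nat.card K' = 4 ∨ Nat.card K' = 8 := by
    have hle := Nat.le_of_dvd (by norm_num) hK'd
    obtain ⟨c, hc⟩ : ∃ c, c = Nat.card K' := ⟨_, rfl⟩
    rw [← hc] at hdvd hK'd hle ⊢
    interval_cases c <;> omega
  rcases hcases with h4 | h8
  · haveI hKk : IsKleinFour K := klein_of_normalized h K (by rw [hKc, h4]) x hx (hMN hxM)
    refine ⟨K, hKk, ?_⟩
    apply eq_of_le_of_card_ge hMN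
    rw [normalizer_klein_card h K, hM]
  · exfalso
    obtain ⟨S, hS⟩ := sylow2_of_card h K (by rw [hKc, h8])
    rw [← hS, normalizer_sylow2 h S] at hMN
    have := Nat.le_of_dvd Nat.card_pos (Subgroup.card_dvd_of_le hMN)
    rw [hM, card_sylow2 h S] at this
    omega

/-- a subgroup of order 12 normalizes a Klein four-group -/
theorem order12_le_normalizer_klein (h : Nat.card G = 168) (M : Subgroup G)
    (hM : Nat.card M = 12) : ∃ K : Subgroup G, IsKleinFour K ∧ M ≤ normalizer (K : Set G) := by
  obtain ⟨T', hT'⟩ := Sylow.exists_subgroup_card_pow_prime (G := M) 2 (n := 2)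
    (by rw [hM]; norm_num)
  have hT'c : Nat.card T' = 4 := by rw [hT']; norm_num
  have hidx : T'.index = 3 := by
    have := T'.card_mul_index
    rw [hT'c, hM] at this
    omega
  have hdvd := card_dvd_six_mul_core T' hidx
  rw [hM] at hdvd
  set K' := T'.normalCore with hK'
  have hK'le : K' ≤ T' := normalCore_le T'
  have hK'd : Nat.card K' ∣ 4 := hT'c ▸ Subgroup.card_dvd_of_le hK'le
  set K := K'.map M.subtype with hK
  have hKc : Nat.card K = Nat.card K' := card_map_subtype M K'
  have hMN : M ≤ normalizer (K : Set G) := le_normalizer_map_of_normal M K'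
  obtain ⟨x, hxM, hx⟩ := exists_order3 M (by rw [hM]; norm_num)
  have hcases : Nat.card K' = 2 ∨ Nat.card K' = 4 := by
    have hle := Nat.le_of_dvd (by norm_num) hK'd
    obtain ⟨c, hc⟩ : ∃ c, c = Nat.card K' := ⟨_, rfl⟩
    rw [← hc] at hdvd hK'd hle ⊢
    interval_cases c <;> omega
  rcases hcases with h2 | h4
  · exact (no_normalized_order_two h K (by rw [hKc, h2]) x hx (hMN hxM)).elim
  · exact ⟨K, klein_of_normalized h K (by rw [hKc, h4]) x hx (hMN hxM), hMN⟩

/-- a subgroup of order 21 is the normalizer of a Sylow 7-subgroup -/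
theorem order21_eq_normalizer (h : Nat.card G = 168) (M : Subgroup G) (hM : Nat.card M = 21) :
    ∃ R : Sylow 7 G, M = normalizer ((R : Subgroup G) : Set G) := by
  obtain ⟨T', hT'⟩ := Sylow.exists_subgroup_card_pow_prime (G := M) 7 (n := 1)
    (by rw [hM]; norm_num)
  have hT'c : Nat.card T' = 7 := by rw [hT']; norm_num
  have hidx : T'.index = 3 := by
    have := T'.card_mul_index
    rw [hT'c, hM] at this
    omega
  have hdvd := card_dvd_six_mul_core T' hidx
  rw [hM] at hdvd
  set K' := T'.normalCore with hK'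
  have hK'le : K' ≤ T' := normalCore_le T'
  have hK'd : Nat.card K' ∣ 7 := hT'c ▸ Subgroup.card_dvd_of_le hK'le
  set K := K'.map M.subtype with hK
  have hKc : Nat.card K = Nat.card K' := card_map_subtype M K'
  have hMN : M ≤ normalizer (K : Set G) := le_normalizer_map_of_normal M K'
  have h7 : Nat.card K' = 7 := by
    rcases (Nat.dvd_prime (by norm_num : Nat.Prime 7)).mp hK'd with e | e
    · rw [e] at hdvd; omega
    · exact e
  have hpg : IsPGroup 7 K := IsPGroup.of_card (n := 1) (by rw [hKc, h7]; norm_num)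
  obtain ⟨R, hR⟩ := hpg.exists_le_sylow
  have hRe : K = (R : Subgroup G) := eq_of_le_of_card_ge hR (by rw [hKc, h7, card_sylow7 h R])
  refine ⟨R, ?_⟩
  rw [← hRe]
  apply eq_of_le_of_card_ge hMN
  rw [hRe, hM]
  have := h8_card_normalizer_sylow 7 R
  rw [n7 h, h] at this
  omega

end Cfsg.Agent.Lib.Helper18.O168
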