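import Mathlib
import Cfsg.Agent.Lib.Helper18.Order168f

set_option autoImplicit false

namespace Cfsg.Agent.Lib.Helper18.O168

open Subgroup
open Cfsg.Agent.Lib.helper8 Cfsg.Agent.Lib.Helper18

variable {G : Type*} [Group G] [Finite G] [IsSimpleGroup G]

theorem card_normalizer_sylow3 (h : Nat.card G = 168) (Q : Sylow 3 G) :
    Nat.card (normalizer ((Q : Subgroup G) : Set G)) = 6 := by
  have := h8_card_normalizer_sylow 3 Q
  rw [n3 h, h] at this
  omega

theorem card_normalizer_sylow7 (h : Nat.card G = 168) (R : Sylow 7 G) :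
    Nat.card (normalizer ((R : Subgroup G) : Set G)) = 21 := by
  have := h8_card_normalizer_sylow 7 R
  rw [n7 h, h] at this
  omega

theorem exists_klein (h : Nat.card G = 168) (T : Sylow 2 G) :
    ∃ U : Subgroup G, U ≤ (T : Subgroup G) ∧ IsKleinFour U := by
  have := card_klein_in_sylow h T
  have hne : Nonempty {U : Subgroup G // U ≤ (T : Subgroup G) ∧ IsKleinFour U} := by
    rw [← Nat.card_pos_iff.trans ⟨fun h => h.1, fun h => ⟨h, Nat.finite_of_card_ne_zero (by omega)⟩⟩]
    omega
  obtain ⟨U⟩ := hne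
  exact ⟨U.1, U.2.1, U.2.2⟩

theorem klein_conj (K : Subgroup G) [hK : IsKleinFour K] (g : G) : IsKleinFour (conjSub g K) :=
  isKleinFour_of_mulEquiv (K.equivMapOfInjective _ (MulAut.conj g).injective)

theorem normalizer_conjSub (K : Subgroup G) (g : G) :
    normalizer ((conjSub g K : Subgroup G) : Set G) = conjSub g (normalizer (K : Set G)) :=
  (map_equiv_normalizer_eq K (MulAut.conj g)).symm

/-- every Sylow 3-normalizer lies in the normalizer of a Klein four-group -/
theorem normalizer_sylow3_le (h : Nat.card G = 168) (Q : Sylow 3 G) :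
    ∃ K : Subgroup G, IsKleinFour K ∧
      normalizer ((Q : Subgroup G) : Set G) ≤ normalizer (K : Set G) := by
  -- first find a Klein four-group whose normalizer contains Q
  obtain ⟨T⟩ : Nonempty (Sylow 2 G) := inferInstance
  obtain ⟨K0, _, hK0⟩ := exists_klein h T
  haveI := hK0
  have hN0 := normalizer_klein_card h K0
  obtain ⟨x0, hx0N, hx0⟩ := exists_order3 (normalizer (K0 : Set G)) (by rw [hN0]; norm_num)
  have hpg : IsPGroup 3 (zpowers x0) :=
    IsPGroup.of_card (n := 1) (by rw [Nat.card_zpowers, hx0, pow_one])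
  obtain ⟨Q0, hQ0⟩ := hpg.exists_le_sylow
  have hQ0e : zpowers x0 = (Q0 : Subgroup G) :=
    eq_of_le_of_card_ge hQ0 (by rw [Nat.card_zpowers, hx0, card_sylow3 h Q0])
  obtain ⟨g, hg⟩ := MulAction.exists_smul_eq G Q0 Q
  set K := conjSub g K0 with hK
  haveI hKk : IsKleinFour K := klein_conj K0 g
  have hQN : (Q : Subgroup G) ≤ normalizer (K : Set G) := by
    rw [hK, normalizer_conjSub]
    intro y hy
    rw [← hg, h8_mem_smul_sylow, ← hQ0e] at hy
    rw [mem_conjSub]
    have : zpowers x0 ≤ normalizer (K0 : Set G) := by rw [zpowers_le]; exact hx0N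
    exact this hy
  refine ⟨K, hKk, ?_⟩
  set N := normalizer (K : Set G) with hN
  have hNc : Nat.card N = 24 := normalizer_klein_card h K
  -- Sylow counting inside N
  set Q' : Sylow 3 N := Q.subtype hQN with hQ'
  have hmod := h8_nsylow_mod (G := N) 3
  have hidx := h8_nsylow_eq_index_normalizer 3 Q'
  have hnorm : normalizer ((Q' : Subgroup N) : Set N) =
      (normalizer ((Q : Subgroup G) : Set G)).subgroupOf N := by
    rw [hQ', Sylow.coe_subtype]
    exact (subgroupOf_normalizer_eq hQN).symm
  have hc : Nat.card ((normalizer ((Q : Subgroup G) : Set G)).subgroupOf N) =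
      Nat.card (normalizer ((Q : Subgroup G) : Set G) ⊓ N : Subgroup G) := by
    rw [← Subgroup.inf_subgroupOf_right]
    exact h8_card_subgroupOf inf_le_right
  have hmul := (normalizer ((Q' : Subgroup N) : Set N)).card_mul_index
  rw [hnorm, hc, hNc] at hmul
  rw [hnorm] at hidx
  rw [hidx] at hmod
  have hd6 : Nat.card (normalizer ((Q : Subgroup G) : Set G) ⊓ N : Subgroup G) ∣ 6 := by
    rw [← card_normalizer_sylow3 h Q]
    exact Subgroup.card_dvd_of_le inf_le_left
  have hd3 : 3 ∣ Nat.card (normalizer ((Q : Subgroup G) : Set G) ⊓ N : Subgroup G) := by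
    have : (Q : Subgroup G) ≤ normalizer ((Q : Subgroup G) : Set G) ⊓ N :=
      le_inf le_normalizer hQN
    have := Subgroup.card_dvd_of_le this
    rwa [card_sylow3 h Q] at this
  have hc6 : Nat.card (normalizer ((Q : Subgroup G) : Set G) ⊓ N : Subgroup G) = 6 := by
    obtain ⟨c, hc'⟩ : ∃ c, c = Nat.card (normalizer ((Q : Subgroup G) : Set G) ⊓ N : Subgroup G) :=
      ⟨_, rfl⟩
    obtain ⟨i, hi⟩ : ∃ i, i = ((normalizer ((Q : Subgroup G) : Set G)).subgroupOf N).index :=
      ⟨_, rfl⟩
    rw [← hc'] at hmul hd6 hd3 ⊢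
    rw [← hi] at hmul hmod
    have hle := Nat.le_of_dvd (by norm_num) hd6
    interval_cases c
    · omega
    · omega
    · omega
    · have : i = 8 := by omega
      rw [this] at hmod; omega
    · omega
    · omega
    · rfl
  have heq : (normalizer ((Q : Subgroup G) : Set G) ⊓ N : Subgroup G) =
      normalizer ((Q : Subgroup G) : Set G) :=
    eq_of_le_of_card_ge inf_le_left (by rw [hc6, card_normalizer_sylow3 h Q])
  rw [← heq]
  exact inf_le_right

theorem not_coatom_of_lt (h : Nat.card G = 168) (M H : Subgroup G) (hMH : M ≤ H)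
    (hc : Nat.card M < Nat.card H) (hH : Nat.card H < 168) : ¬ IsCoatom M := by
  intro hco
  have hlt : M < H := by
    refine lt_of_le_of_ne hMH ?_
    intro h0
    rw [h0] at hc
    omega
  have := hco.2 H hlt
  rw [this, card_top, h] at hH
  omega

end Cfsg.Agent.Lib.Helper18.O168
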