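import Mathlib
import Cfsg.Agent.Lib.Helper18.Order168g
import Cfsg.Agent.S1012

set_option autoImplicit false

namespace Cfsg.Agent.Lib.Helper18.O168

open Subgroup
open Cfsg.Agent.Lib.helper8 Cfsg.Agent.Lib.Helper18

variable {G : Type*} [Group G] [Finite G] [IsSimpleGroup G]

theorem card_lt_of_lt' {H K : Subgroup G} (hlt : H < K) : Nat.card H < Nat.card K := by
  rcases Nat.lt_or_ge (Nat.card H) (Nat.card K) with h | h
  · exact h
  · exact absurd (Subgroup.eq_of_le_of_card_ge hlt.le h) hlt.ne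

/-- a 2-subgroup is not maximal -/
theorem not_coatom_of_two_group (h : Nat.card G = 168) (M : Subgroup G)
    (hM : Nat.card M ∣ 8) : ¬ IsCoatom M := by
  have hpg : IsPGroup 2 M := by
    obtain ⟨k, _, hk⟩ := (Nat.dvd_prime_pow Nat.prime_two (m := 3)).mp (by simpa using hM)
    exact IsPGroup.of_card hk
  obtain ⟨T, hT⟩ := hpg.exists_le_sylow
  obtain ⟨U, hUT, hU⟩ := exists_klein h T
  have := hU
  have hUc : Nat.card U = 4 := IsKleinFour.card_four
  have hTN : (T : Subgroup G) ≤ normalizer (U : Set G) :=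
    le_normalizer_of_index_two U T hUT (by rw [card_sylow2 h T, hUc])
  have hNc := normalizer_klein_card h U
  apply not_coatom_of_lt h M _ (hT.trans hTN)
  · have := Nat.le_of_dvd (by norm_num) hM
    omega
  · omega

theorem not_coatom_of_card3 (h : Nat.card G = 168) (M : Subgroup G)
    (hM : Nat.card M = 3) : ¬ IsCoatom M := by
  have hpg : IsPGroup 3 M := IsPGroup.of_card (n := 1) (by rw [hM]; norm_num)
  obtain ⟨Q, hQ⟩ := hpg.exists_le_sylow
  have hNc := card_normalizer_sylow3 h Q
  apply not_coatom_of_lt h M _ (hQ.trans le_normalizer) <;> omega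

theorem not_coatom_of_card7 (h : Nat.card G = 168) (M : Subgroup G)
    (hM : Nat.card M = 7) : ¬ IsCoatom M := by
  have hpg : IsPGroup 7 M := IsPGroup.of_card (n := 1) (by rw [hM]; norm_num)
  obtain ⟨Q, hQ⟩ := hpg.exists_le_sylow
  have hNc := card_normalizer_sylow7 h Q
  apply not_coatom_of_lt h M _ (hQ.trans le_normalizer) <;> omega

theorem not_coatom_of_card6 (h : Nat.card G = 168) (M : Subgroup G)
    (hM : Nat.card M = 6) : ¬ IsCoatom M := by
  obtain ⟨x, hxM, hx⟩ := exists_order3 M (by rw [hM]; norm_num)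
  have hpg : IsPGroup 3 (zpowers x) :=
    IsPGroup.of_card (n := 1) (by rw [Nat.card_zpowers, hx, pow_one])
  obtain ⟨Q, hQ⟩ := hpg.exists_le_sylow
  have hQe : zpowers x = (Q : Subgroup G) :=
    eq_of_le_of_card_ge hQ (by rw [Nat.card_zpowers, hx, card_sylow3 h Q])
  have hxM' : zpowers x ≤ M := by rw [zpowers_le]; exact hxM
  have hMN : M ≤ normalizer ((Q : Subgroup G) : Set G) := by
    rw [← hQe]
    exact le_normalizer_of_index_two (zpowers x) M hxM' (by rw [hM, Nat.card_zpowers, hx])
  obtain ⟨K, hK, hNK⟩ := normalizer_sylow3_le h Q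
  have := hK
  have hNc := normalizer_klein_card h K
  apply not_coatom_of_lt h M _ (hMN.trans hNK) <;> omega

theorem not_coatom_of_card12 (h : Nat.card G = 168) (M : Subgroup G)
    (hM : Nat.card M = 12) : ¬ IsCoatom M := by
  obtain ⟨K, hK, hMK⟩ := order12_le_normalizer_klein h M hM
  have := hK
  have hNc := normalizer_klein_card h K
  apply not_coatom_of_lt h M _ hMK <;> omega

theorem no_card14 (h : Nat.card G = 168) (M : Subgroup G)
    (hM : Nat.card M = 14) : False := by
  obtain ⟨y, hy⟩ := exists_prime_orderOf_dvd_card' (G := M) 7 (by rw [hM]; norm_num)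
  have hy' : orderOf (y : G) = 7 := by rw [Subgroup.orderOf_coe]; exact hy
  have hpg : IsPGroup 7 (zpowers (y : G)) :=
    IsPGroup.of_card (n := 1) (by rw [Nat.card_zpowers, hy', pow_one])
  obtain ⟨R, hR⟩ := hpg.exists_le_sylow
  have hRe : zpowers (y : G) = (R : Subgroup G) :=
    eq_of_le_of_card_ge hR (by rw [Nat.card_zpowers, hy', card_sylow7 h R])
  have hyM' : zpowers (y : G) ≤ M := by rw [zpowers_le]; exact y.2
  have hMN : M ≤ normalizer ((R : Subgroup G) : Set G) := by
    rw [← hRe]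
    exact le_normalizer_of_index_two (zpowers (y : G)) M hyM' (by rw [hM, Nat.card_zpowers, hy'])
  have := Subgroup.card_dvd_of_le hMN
  rw [hM, card_normalizer_sylow7 h] at this
  omega

/-- a maximal subgroup has order 21 or 24 -/
theorem coatom_card (h : Nat.card G = 168) (M : Subgroup G) (hco : IsCoatom M) :
    Nat.card M = 21 ∨ Nat.card M = 24 := by
  have hle := card_le_of_ne_top h M hco.1
  have hdvd : Nat.card M ∣ 168 := h ▸ M.card_subgroup_dvd_card
  have hpos : 0 < Nat.card M := Nat.card_pos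
  by_contra hcon
  push Not at hcon
  have h8 : ¬ Nat.card M ∣ 8 := fun h8 => not_coatom_of_two_group h M h8 hco
  have h3 : Nat.card M ≠ 3 := fun h3 => not_coatom_of_card3 h M h3 hco
  have h7 : Nat.card M ≠ 7 := fun h7 => not_coatom_of_card7 h M h7 hco
  have h6 : Nat.card M ≠ 6 := fun h6 => not_coatom_of_card6 h M h6 hco
  have h12 : Nat.card M ≠ 12 := fun h12 => not_coatom_of_card12 h M h12 hco
  have h14 : Nat.card M ≠ 14 := fun h14 => no_card14 h M h14
  obtain ⟨c, hc⟩ : ∃ c, c = Nat.card M := ⟨_, rfl⟩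
  rw [← hc] at hle hdvd hpos hcon h8 h3 h7 h6 h12 h14
  interval_cases c <;> omega

theorem nonabelian_of_card21 (h : Nat.card G = 168) (M : Subgroup G) (hM : Nat.card M = 21) :
    ¬ IsMulCommutative M := by
  intro hcomm
  obtain ⟨x, hxM, hx⟩ := exists_order3 M (by rw [hM]; norm_num)
  obtain ⟨y, hy⟩ := exists_prime_orderOf_dvd_card' (G := M) 7 (by rw [hM]; norm_num)
  have hy' : orderOf (y : G) = 7 := by rw [Subgroup.orderOf_coe]; exact hy
  have hxy : (y : G) * x = x * y := by
    have := hcomm.is_comm.comm y ⟨x, hxM⟩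
    exact congrArg Subtype.val this
  have hmem : (y : G) ∈ centralizer ({x} : Set G) := by
    rw [mem_centralizer_singleton_iff]
    exact hxy
  rw [cent_elt3 h x hx] at hmem
  have : orderOf (y : G) ∣ Nat.card (zpowers x) := by
    have := orderOf_dvd_natCard (⟨(y : G), hmem⟩ : zpowers x)
    rwa [← Subgroup.orderOf_coe] at this
  rw [Nat.card_zpowers, hx, hy'] at this
  omega

theorem iso_of_card24 (h : Nat.card G = 168) (M : Subgroup G) (hM : Nat.card M = 24) :
    Nonempty (↥M ≃* Equiv.Perm (Fin 4)) := by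
  apply Cfsg.Agent.S1012.result hM
  intro g hg
  have hg' : orderOf (g : G) = 6 := by rw [Subgroup.orderOf_coe]; exact hg
  rcases order_cases h (g : G) with e | e | e | e | e <;> omega

theorem card24_of_iso (M : Subgroup G) (hM : Nonempty (↥M ≃* Equiv.Perm (Fin 4))) :
    Nat.card M = 24 := by
  obtain ⟨e⟩ := hM
  rw [Nat.card_congr e.toEquiv, Nat.card_eq_fintype_card, Fintype.card_perm, Fintype.card_fin]
  rfl

theorem isCoatom_of_card24 (h : Nat.card G = 168) (M : Subgroup G) (hM : Nat.card M = 24) :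
    IsCoatom M := by
  constructor
  · intro htop
    rw [htop, card_top, h] at hM
    omega
  · intro H hMH
    by_contra hH
    have hle := card_le_of_ne_top h H hH
    have := card_lt_of_lt' hMH
    omega

theorem conj_of_card21 (h : Nat.card G = 168) (M M' : Subgroup G) (hM : Nat.card M = 21)
    (hM' : Nat.card M' = 21) : ∃ g : G, M' = M.map (MulAut.conj g).toMonoidHom := by
  obtain ⟨R, hR⟩ := order21_eq_normalizer h M hM
  obtain ⟨R', hR'⟩ := order21_eq_normalizer h M' hM'
  obtain ⟨g, hg⟩ := MulAction.exists_smul_eq G R R'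
  refine ⟨g, ?_⟩
  have hc : (R' : Subgroup G) = conjSub g (R : Subgroup G) := by
    rw [← hg]
    ext y
    rw [h8_mem_smul_sylow, mem_conjSub]
  rw [hR', hc, normalizer_conjSub, ← hR]

/-- two Klein four-groups with the same normalizer coincide -/
theorem klein_eq_of_normalizer_eq (h : Nat.card G = 168) (K1 K2 : Subgroup G)
    [hK1 : IsKleinFour K1] [hK2 : IsKleinFour K2]
    (hN : normalizer (K1 : Set G) = normalizer (K2 : Set G)) : K1 = K2 := by
  by_contra hne
  have hK1c : Nat.card K1 = 4 := IsKleinFour.card_four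
  have hK2c : Nat.card K2 = 4 := IsKleinFour.card_four
  have hp1 : IsPGroup 2 K1 := IsPGroup.of_card (n := 2) (by rw [hK1c]; norm_num)
  have hp2 : IsPGroup 2 K2 := IsPGroup.of_card (n := 2) (by rw [hK2c]; norm_num)
  have h21 : K2 ≤ normalizer (K1 : Set G) := by rw [hN]; exact le_normalizer
  have hp : IsPGroup 2 (K2 ⊔ K1 : Subgroup G) := IsPGroup.to_sup_of_normal_right' hp2 hp1 h21
  obtain ⟨T, hT⟩ := hp.exists_le_sylow
  have hlt : K1 < K2 ⊔ K1 := by
    refine lt_of_le_of_ne le_sup_right ?_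
    intro he
    have hle : K2 ≤ K1 := by rw [he]; exact le_sup_left
    exact hne (eq_of_le_of_card_ge hle (by rw [hK1c, hK2c])).symm
  have hc1 := card_lt_of_lt' hlt
  have hd : Nat.card (K2 ⊔ K1 : Subgroup G) ∣ 8 := by
    rw [← card_sylow2 h T]; exact Subgroup.card_dvd_of_le hT
  have hd4 : 4 ∣ Nat.card (K2 ⊔ K1 : Subgroup G) := by
    rw [← hK1c]; exact Subgroup.card_dvd_of_le le_sup_right
  have hc8 : Nat.card (K2 ⊔ K1 : Subgroup G) = 8 := by
    have hle := Nat.le_of_dvd (by norm_num) hd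
    obtain ⟨c, hc⟩ : ∃ c, c = Nat.card (K2 ⊔ K1 : Subgroup G) := ⟨_, rfl⟩
    rw [← hc] at hd hd4 hle hc1 ⊢
    rw [hK1c] at hc1
    interval_cases c <;> omega
  have hTe : (K2 ⊔ K1 : Subgroup G) = (T : Subgroup G) :=
    eq_of_le_of_card_ge hT (by rw [hc8, card_sylow2 h T])
  have hNT : normalizer (K1 : Set G) ≤ (T : Subgroup G) := by
    intro g hg
    have hg2 : g ∈ normalizer (K2 : Set G) := hN ▸ hg
    have e1 := conjSub_eq_of_mem_normalizer hg
    have e2 := conjSub_eq_of_mem_normalizer hg2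
    have : conjSub g (K2 ⊔ K1) = K2 ⊔ K1 := by
      unfold conjSub at e1 e2 ⊢
      rw [Subgroup.map_sup, e1, e2]
    rw [← normalizer_sylow2 h T, ← hTe]
    exact mem_normalizer_of_conjSub_le this.le
  have := Nat.le_of_dvd Nat.card_pos (Subgroup.card_dvd_of_le hNT)
  rw [normalizer_klein_card h K1, card_sylow2 h T] at this
  omega

/-- the two classes of maximal subgroups of order 24 -/
theorem two_classes (h : Nat.card G = 168) :
    ∃ M₁ M₂ : Subgroup G, Nat.card M₁ = 24 ∧ Nat.card M₂ = 24 ∧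
      (∀ g : G, M₂ ≠ M₁.map (MulAut.conj g).toMonoidHom) ∧
      ∀ M : Subgroup G, Nat.card M = 24 →
        ∃ g : G, M = M₁.map (MulAut.conj g).toMonoidHom ∨
          M = M₂.map (MulAut.conj g).toMonoidHom := by
  obtain ⟨T⟩ : Nonempty (Sylow 2 G) := inferInstance
  obtain ⟨x, y, hxy, huniv⟩ := Nat.card_eq_two_iff.mp (card_klein_in_sylow h T)
  obtain ⟨U1, hU1T, hU1⟩ := x
  obtain ⟨U2, hU2T, hU2⟩ := y
  have := hU1
  have := hU2
  have hne : U1 ≠ U2 := by
    intro he
    apply hxy
    exact Subtype.ext he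
  refine ⟨normalizer (U1 : Set G), normalizer (U2 : Set G), normalizer_klein_card h U1,
    normalizer_klein_card h U2, ?_, ?_⟩
  · intro g hg
    have e : normalizer (U2 : Set G) = normalizer ((conjSub g U1 : Subgroup G) : Set G) := by
      rw [normalizer_conjSub]; exact hg
    have := klein_conj U1 g
    have := klein_eq_of_normalizer_eq h U2 (conjSub g U1) e
    exact klein_not_conj h T U1 U2 hU1T hU2T hne g this.symm
  · intro M hM
    obtain ⟨K, hK, hMK⟩ := order24_eq_normalizer_klein h M hM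
    have := hK
    have hKc : Nat.card K = 4 := IsKleinFour.card_four
    have hpK : IsPGroup 2 K := IsPGroup.of_card (n := 2) (by rw [hKc]; norm_num)
    obtain ⟨a, _, ha⟩ := (isSylowIn_top_of_sylow T).exists_conj_le le_top hpK
    have hk' := klein_conj K a
    have hmem : (⟨conjSub a K, ha, hk'⟩ :
        {U : Subgroup G // U ≤ (T : Subgroup G) ∧ IsKleinFour U}) ∈
        ({⟨U1, hU1T, hU1⟩, ⟨U2, hU2T, hU2⟩} : Set _) := by
      rw [huniv]; trivial
    have hK' : ∀ U : Subgroup G, conjSub a K = U → K = conjSub a⁻¹ U := by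
      intro U hU
      rw [← hU, conjSub_mul, inv_mul_cancel, conjSub_one]
    refine ⟨a⁻¹, ?_⟩
    rcases hmem with e | e
    · left
      have e' : conjSub a K = U1 := congrArg Subtype.val e
      rw [hMK, hK' U1 e', normalizer_conjSub]
    · right
      have e' : conjSub a K = U2 := congrArg Subtype.val e
      rw [hMK, hK' U2 e', normalizer_conjSub]

end Cfsg.Agent.Lib.Helper18.O168
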