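import Mathlib
import Cfsg.Agent.Lib.Helper21.MaxClassP
import Cfsg.Agent.Lib.Helper18.PRL.Defs
import Cfsg.Agent.Lib.Helper12.PRLG1a
import Cfsg.Agent.Lib.helper23.PRLCH4

set_option autoImplicit false

namespace Cfsg.Agent.Lib.Helper18.PRL

open scoped commutatorElement

universe u

variable {G : Type u} [Group G] [Finite G] {n : ℕ}

/-- PRL-KEYa -/
theorem key_setup (h : MC 3 G n) (hn : 5 ≤ n) (H : Subgroup G) (hH : H.index = 3)
    (hne : ¬ H ≤ G1 G) :
    ∃ s x0 : G, x0 ∈ H ∧ x0 ∉ G1 G ∧ s ∉ H ∧ s ∉ G1 G ∧ s * x0 ∉ H ∧ s * x0 ∉ G1 G := by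
  haveI : Fact (Nat.Prime 3) := ⟨by norm_num⟩
  obtain ⟨x0, hx0H, hx0M⟩ := SetLike.not_le_iff_exists.mp hne
  have hMi : (G1 G).index = 3 := G1_index h (by omega)
  have hne' : ¬ G1 G ≤ H := by
    intro hle
    apply hne
    have hcard : Nat.card (G1 G) = Nat.card H := by
      have h1 := (G1 G).card_mul_index
      have h2 := H.card_mul_index
      rw [hMi] at h1
      rw [hH] at h2
      have : Nat.card (G1 G) * 3 = Nat.card H * 3 := by rw [h1, h2]
      exact Nat.eq_of_mul_eq_mul_right (by norm_num) this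
    have : G1 G = H := Subgroup.eq_of_le_of_card_ge hle (by rw [hcard])
    rw [this]
  obtain ⟨m, hmM, hmH⟩ := SetLike.not_le_iff_exists.mp hne'
  have hx3 : x0 ^ 3 ∈ G1 G :=
    commutator_le_G1 G ((Helper21.mc_p_index 3 n G (by omega) h.1 h.2).2 x0)
  have hx2 : x0 * x0 ∉ G1 G := by
    intro hc
    apply hx0M
    have : x0 = x0 ^ 3 * (x0 * x0)⁻¹ := by
      simp only [pow_succ, pow_zero, one_mul]; group
    rw [this]
    exact (G1 G).mul_mem hx3 ((G1 G).inv_mem hc)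
  refine ⟨m * x0, x0, hx0H, hx0M, ?_, ?_, ?_, ?_⟩
  · intro hc
    apply hmH
    have : m = (m * x0) * x0⁻¹ := by group
    rw [this]
    exact H.mul_mem hc (H.inv_mem hx0H)
  · intro hc
    apply hx0M
    have : x0 = m⁻¹ * (m * x0) := by group
    rw [this]
    exact (G1 G).mul_mem ((G1 G).inv_mem hmM) hc
  · intro hc
    apply hmH
    have : m = (m * x0 * x0) * (x0 * x0)⁻¹ := by group
    rw [this]
    exact H.mul_mem hc (H.inv_mem (H.mul_mem hx0H hx0H))
  · intro hc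
    apply hx2
    have : x0 * x0 = m⁻¹ * (m * x0 * x0) := by group
    rw [this]
    exact (G1 G).mul_mem ((G1 G).inv_mem hmM) hc

end Cfsg.Agent.Lib.Helper18.PRL
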