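import Mathlib
import Cfsg.Agent.Lib.Helper18.PRL.Defs
import Cfsg.Agent.Lib.Helper18.PRLCUBE
import Cfsg.Agent.Lib.helper23.PRLCH1
import Cfsg.Agent.Lib.helper23.PRLCH3
import Cfsg.Agent.Lib.helper23.PRLCH4
import Cfsg.Agent.Lib.Helper16.PRLU1

set_option autoImplicit false

namespace Cfsg.Agent.Lib.Helper18.PRL

open scoped commutatorElement

universe u

variable {G : Type u} [Group G] [Finite G] {n : ℕ}

theorem h18_comm_mem_Z {X : Type*} [Group X] {k : ℕ} {x : X} (hx : x ∈ Z X (k + 1)) (y : X) :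
    ⁅y, x⁆ ∈ Z X k := by
  have h1 : ⁅x, y⁆ ∈ Z X k := Subgroup.mem_upperCentralSeries_succ_iff.mp hx y
  have h2 : ⁅y, x⁆ = ⁅x, y⁆⁻¹ := (commutatorElement_inv x y).symm
  rw [h2]
  exact (Z X k).inv_mem h1

theorem h18_card_lt_of_lt {X : Type*} [Group X] [Finite X] {H K : Subgroup X} (h : H < K) :
    Nat.card H < Nat.card K :=
  lt_of_le_of_ne (Subgroup.card_le_of_le h.le)
    (fun heq => h.ne (Subgroup.eq_of_le_of_card_ge h.le heq.ge))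

theorem h18_cube_one {X : Type*} [Group X] (s a0 a1 a2 : X) (h1 : a1 = s * a0 * s⁻¹)
    (h2 : a2 = s * a1 * s⁻¹) (h3 : s * a2 * s⁻¹ = a0) (c01 : a0 * a1 = a1 * a0)
    (c02 : a0 * a2 = a2 * a0) (c12 : a1 * a2 = a2 * a1)
    (hcc : ⁅s, ⁅s, a0⁆⁆ ∈ Subgroup.center X) (hc3 : ⁅s, ⁅s, a0⁆⁆ ^ 3 = 1) : ⁅s, a0⁆ ^ 3 = 1 := by
  have e0 : ⁅s, a0⁆ = a1 * a0⁻¹ := by rw [commutatorElement_def, h1]
  have h1' : s * a0⁻¹ * s⁻¹ = a1⁻¹ := by rw [h1]; group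
  have h2' : s * a1⁻¹ * s⁻¹ = a2⁻¹ := by rw [h2]; group
  have e1 : s * ⁅s, a0⁆ * s⁻¹ = a2 * a1⁻¹ := by
    rw [e0]
    calc s * (a1 * a0⁻¹) * s⁻¹ = (s * a1 * s⁻¹) * (s * a0⁻¹ * s⁻¹) := by group
      _ = a2 * a1⁻¹ := by rw [← h2, h1']
  have e2 : s * (s * ⁅s, a0⁆ * s⁻¹) * s⁻¹ = a0 * a2⁻¹ := by
    rw [e1]
    calc s * (a2 * a1⁻¹) * s⁻¹ = (s * a2 * s⁻¹) * (s * a1⁻¹ * s⁻¹) := by group
      _ = a0 * a2⁻¹ := by rw [h3, h2']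
  have f1 : s * ⁅s, a0⁆ * s⁻¹ = ⁅s, ⁅s, a0⁆⁆ * ⁅s, a0⁆ := by
    rw [commutatorElement_def s ⁅s, a0⁆]; group
  have f2 : s * (s * ⁅s, a0⁆ * s⁻¹) * s⁻¹ = ⁅s, ⁅s, a0⁆⁆ * ⁅s, ⁅s, a0⁆⁆ * ⁅s, a0⁆ := by
    rw [f1]
    calc s * (⁅s, ⁅s, a0⁆⁆ * ⁅s, a0⁆) * s⁻¹ = (s * ⁅s, ⁅s, a0⁆⁆) * (⁅s, a0⁆ * s⁻¹) := by group
      _ = (⁅s, ⁅s, a0⁆⁆ * s) * (⁅s, a0⁆ * s⁻¹) := by rw [Subgroup.mem_center_iff.mp hcc s]
      _ = ⁅s, ⁅s, a0⁆⁆ * (s * ⁅s, a0⁆ * s⁻¹) := by group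
      _ = ⁅s, ⁅s, a0⁆⁆ * (⁅s, ⁅s, a0⁆⁆ * ⁅s, a0⁆) := by rw [f1]
      _ = ⁅s, ⁅s, a0⁆⁆ * ⁅s, ⁅s, a0⁆⁆ * ⁅s, a0⁆ := by group
  have hprod : ⁅s, a0⁆ * (s * ⁅s, a0⁆ * s⁻¹) * (s * (s * ⁅s, a0⁆ * s⁻¹) * s⁻¹) = 1 := by
    rw [e2, e1, e0]
    have c01' : a0⁻¹ * a2 = a2 * a0⁻¹ := by
      calc a0⁻¹ * a2 = a0⁻¹ * (a2 * a0) * a0⁻¹ := by group
        _ = a0⁻¹ * (a0 * a2) * a0⁻¹ := by rw [c02]
        _ = a2 * a0⁻¹ := by group
    have c0i1 : a0⁻¹ * a1⁻¹ = a1⁻¹ * a0⁻¹ := by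
      rw [← mul_inv_rev, ← mul_inv_rev, c01]
    calc a1 * a0⁻¹ * (a2 * a1⁻¹) * (a0 * a2⁻¹)
        = a1 * (a0⁻¹ * a2) * a1⁻¹ * a0 * a2⁻¹ := by group
      _ = a1 * (a2 * a0⁻¹) * a1⁻¹ * a0 * a2⁻¹ := by rw [c01']
      _ = (a1 * a2) * (a0⁻¹ * a1⁻¹) * a0 * a2⁻¹ := by group
      _ = (a2 * a1) * (a1⁻¹ * a0⁻¹) * a0 * a2⁻¹ := by rw [c12, c0i1]
      _ = 1 := by group
  rw [f2, f1] at hprod
  generalize ⁅s, ⁅s, a0⁆⁆ = c at hcc hc3 hprod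
  generalize ⁅s, a0⁆ = g at hprod ⊢
  have hcg : ∀ w : X, w * c = c * w := fun w => Subgroup.mem_center_iff.mp hcc w
  have : c ^ 3 * g ^ 3 = 1 := by
    calc c ^ 3 * g ^ 3 = c * c * c * (g * g * g) := by
          simp only [pow_succ, pow_zero, one_mul]
      _ = g * (c * g) * (c * c * g) := by
          have r : ∀ r : X, g * (c * r) = c * (g * r) := fun r => by
            rw [← mul_assoc, hcg g, mul_assoc]
          simp only [mul_assoc, r]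
      _ = 1 := hprod
  rw [hc3, one_mul] at this
  exact this

/-- PRL-ZS -/
theorem Z2_exp_Z3_cube (h : MC 3 G n) (hn : 5 ≤ n) (s : G) (hs : Unif G n s)
    (hsg : ∀ g ∈ commutator G, Unif G n (s * g)) :
    (∀ u ∈ Z G 2, u ^ 3 = 1) ∧ (∀ y ∈ Z G 3, y ^ 3 ∈ Z G 1) ∧
      (∀ a ∈ Z G 3, ∀ b ∈ Z G 3, a * b = b * a) := by
  have hp3 : Fact (Nat.Prime 3) := ⟨by norm_num⟩
  have hcomm : commutator G = Z G (n - 2) := commutator_eq_Z h (by omega)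
  have h3c : Z G 3 ≤ commutator G := by
    rw [hcomm]; exact Subgroup.upperCentralSeries_mono G (by omega)
  have h23 : Z G 2 ≤ Z G 3 := Subgroup.upperCentralSeries_mono G (by omega)
  have h12 : Z G 1 ≤ Z G 2 := Subgroup.upperCentralSeries_mono G (by omega)
  have hc1 : Nat.card (Z G 1) = 3 ^ 1 := card_Z h (by omega) 1 (by omega)
  have hc2 : Nat.card (Z G 2) = 3 ^ 2 := card_Z h (by omega) 2 (by omega)
  have hc3 : Nat.card (Z G 3) = 3 ^ 3 := card_Z h (by omega) 3 (by omega)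
  have hZ1 : Z G 1 = Subgroup.center G := Subgroup.upperCentralSeries_one G
  -- G' centralizes Z_2
  have hcz : ∀ g ∈ commutator G, ∀ z ∈ Z G 2, z * g = g * z := by
    intro g hg z hz
    exact Subgroup.mem_centralizer_iff.mp (commutator_le_G1 G hg) z hz
  -- exponent of Z_1
  have hexp1 : ∀ c ∈ Z G 1, c ^ 3 = 1 := by
    intro c hc
    have : (⟨c, hc⟩ : Z G 1) ^ Nat.card (Z G 1) = 1 := pow_card_eq_one'
    rw [hc1] at this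
    have := congrArg Subtype.val this
    simpa using this
  -- Z_3 is abelian
  have hab : ∀ a ∈ Z G 3, ∀ b ∈ Z G 3, a * b = b * a := by
    intro a ha b hb
    by_cases ha2 : a ∈ Z G 2
    · exact hcz b (h3c hb) a ha2
    · -- K = Z_3 ⊓ centralizer {a}
      set K : Subgroup G := Z G 3 ⊓ Subgroup.centralizer {a} with hK
      have hZ2K : Z G 2 ≤ K := by
        intro z hz
        refine ⟨h23 hz, Subgroup.mem_centralizer_singleton_iff.mpr ?_⟩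
        exact (hcz a (h3c ha) z hz)
      have haK : a ∈ K := ⟨ha, Subgroup.mem_centralizer_singleton_iff.mpr rfl⟩
      have hKle : K ≤ Z G 3 := inf_le_left
      have hlt : Z G 2 < K := lt_of_le_of_ne hZ2K (fun heq => ha2 (heq ▸ haK))
      have hd1 : Nat.card K ∣ 3 ^ 3 := hc3 ▸ Subgroup.card_dvd_of_le hKle
      have hd2 : 3 ^ 2 < Nat.card K := hc2 ▸ h18_card_lt_of_lt hlt
      obtain ⟨k, hk, hkk⟩ := (Nat.dvd_prime_pow hp3.out).mp hd1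
      have hk3 : k = 3 := by
        rw [hkk] at hd2
        have := (Nat.pow_lt_pow_iff_right (by norm_num : 1 < 3)).mp hd2
        omega
      have hKeq : K = Z G 3 := Subgroup.eq_of_le_of_card_ge hKle (by rw [hc3, hkk, hk3])
      have hbK : b ∈ K := hKeq ▸ hb
      exact (Subgroup.mem_centralizer_singleton_iff.mp hbK.2).symm
  -- s^3 central
  obtain ⟨-, hs3⟩ := unif_cent h (by omega) s hs
  have hs3c : s ^ 3 ∈ Subgroup.center G := hZ1 ▸ hs3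
  -- an element g0 of Z_3 \ Z_2
  have hnle : ¬ Z G 3 ≤ Z G 2 := by
    intro hle
    have := Subgroup.card_le_of_le hle
    rw [hc3, hc2] at this
    norm_num at this
  obtain ⟨g0, hg03, hg02⟩ := SetLike.not_le_iff_exists.mp hnle
  -- g = [s, g0]
  have hg2 : ⁅s, g0⁆ ∈ Z G 2 := h18_comm_mem_Z hg03 s
  have hg1 : ⁅s, g0⁆ ∉ Z G 1 := by
    have h1 := hs 3 (by omega) (by omega) g0 hg03 hg02
    intro hc
    apply h1
    have h2 : ⁅g0, s⁆ = ⁅s, g0⁆⁻¹ := (commutatorElement_inv s g0).symm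
    rw [h2]
    exact (Z G 1).inv_mem hc
  have hgcube : ⁅s, g0⁆ ^ 3 = 1 := by
    have hnorm : ∀ w ∈ Z G 3, s * w * s⁻¹ ∈ Z G 3 := fun w hw =>
      (inferInstance : (Z G 3).Normal).conj_mem w hw s
    have ha1m : s * g0 * s⁻¹ ∈ Z G 3 := hnorm g0 hg03
    have ha2m : s * (s * g0 * s⁻¹) * s⁻¹ ∈ Z G 3 := hnorm _ ha1m
    have ha3 : s * (s * (s * g0 * s⁻¹) * s⁻¹) * s⁻¹ = g0 := by
      have h1 : s * (s * (s * g0 * s⁻¹) * s⁻¹) * s⁻¹ = (s * s * s) * g0 * (s * s * s)⁻¹ := by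
        group
      have h2 : s * s * s = s ^ 3 := by simp only [pow_succ, pow_zero, one_mul]
      rw [h1, h2, (Subgroup.mem_center_iff.mp hs3c g0).symm]
      group
    have hc : ⁅s, ⁅s, g0⁆⁆ ∈ Z G 1 := h18_comm_mem_Z hg2 s
    have hcc : ⁅s, ⁅s, g0⁆⁆ ∈ Subgroup.center G := hZ1 ▸ hc
    exact h18_cube_one s g0 (s * g0 * s⁻¹) (s * (s * g0 * s⁻¹) * s⁻¹) rfl rfl ha3
      (hab _ hg03 _ ha1m) (hab _ hg03 _ ha2m) (hab _ ha1m _ ha2m) hcc (hexp1 _ hc)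
  -- exponent of Z_2
  have hexp2 : ∀ u ∈ Z G 2, u ^ 3 = 1 := by
    set K : Subgroup G :=
      { carrier := {u | u ∈ Z G 2 ∧ u ^ 3 = 1}
        one_mem' := ⟨Subgroup.one_mem _, one_pow 3⟩
        mul_mem' := by
          rintro a b ⟨ha, ha3⟩ ⟨hb, hb3⟩
          refine ⟨(Z G 2).mul_mem ha hb, ?_⟩
          have hcab : Commute a b := hab a (h23 ha) b (h23 hb)
          rw [hcab.mul_pow, ha3, hb3, one_mul]
        inv_mem' := by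
          rintro a ⟨ha, ha3⟩
          exact ⟨(Z G 2).inv_mem ha, by rw [inv_pow, ha3, inv_one]⟩ } with hK
    have hKle : K ≤ Z G 2 := fun u hu => hu.1
    have hZ1K : Z G 1 ≤ K := fun c hc => ⟨h12 hc, hexp1 c hc⟩
    have hgK : ⁅s, g0⁆ ∈ K := ⟨hg2, hgcube⟩
    have hlt : Z G 1 < K := lt_of_le_of_ne hZ1K (fun heq => hg1 (heq ▸ hgK))
    have hd1 : Nat.card K ∣ 3 ^ 2 := hc2 ▸ Subgroup.card_dvd_of_le hKle
    have hd2 : 3 ^ 1 < Nat.card K := hc1 ▸ h18_card_lt_of_lt hlt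
    obtain ⟨k, hk, hkk⟩ := (Nat.dvd_prime_pow hp3.out).mp hd1
    have hk2 : k = 2 := by
      rw [hkk] at hd2
      have := (Nat.pow_lt_pow_iff_right (by norm_num : 1 < 3)).mp hd2
      omega
    have hKeq : K = Z G 2 := Subgroup.eq_of_le_of_card_ge hKle (by rw [hc2, hkk, hk2])
    intro u hu
    have : u ∈ K := hKeq ▸ hu
    exact this.2
  refine ⟨hexp2, ?_, hab⟩
  -- cubes of Z_3
  intro y hy
  have hyc : y ∈ commutator G := h3c hy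
  obtain ⟨-, hsy3⟩ := unif_cent h (by omega) (s * y) (hsg y hyc)
  have hy2 : ⁅s, y⁆ ∈ Z G 2 := h18_comm_mem_Z hy s
  have hy1 : ⁅s, ⁅s, y⁆⁆ ∈ Z G 1 := h18_comm_mem_Z hy2 s
  have hy1c : ⁅s, ⁅s, y⁆⁆ ∈ Subgroup.center G := hZ1 ▸ hy1
  have h1 : ⁅y, ⁅s, y⁆⁆ ∈ Z G 1 := h18_comm_mem_Z hy2 y
  have h2 : ⁅y, ⁅s, ⁅s, y⁆⁆⁆ ∈ Z G 1 := by
    have : ⁅y, ⁅s, ⁅s, y⁆⁆⁆ = 1 := by
      rw [commutatorElement_eq_one_iff_mul_comm]
      exact Subgroup.mem_center_iff.mp hy1c y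
    rw [this]; exact Subgroup.one_mem _
  have h3 : ⁅⁅s, y⁆, ⁅s, ⁅s, y⁆⁆⁆ ∈ Z G 1 := by
    have : ⁅⁅s, y⁆, ⁅s, ⁅s, y⁆⁆⁆ = 1 := by
      rw [commutatorElement_eq_one_iff_mul_comm]
      exact Subgroup.mem_center_iff.mp hy1c _
    rw [this]; exact Subgroup.one_mem _
  have hrel := cube_rel (Z G 1) s y hs3c hs3 hsy3 h1 h2 h3
  rw [hexp2 _ hy2, mul_one] at hrel
  have : y ^ 3 = (y ^ 3 * ⁅s, ⁅s, y⁆⁆) * ⁅s, ⁅s, y⁆⁆⁻¹ := by group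
  rw [this]
  exact (Z G 1).mul_mem hrel ((Z G 1).inv_mem hy1)

end Cfsg.Agent.Lib.Helper18.PRL
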