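import Mathlib
import Cfsg.Agent.Lib.Helper18.PRL.Defs
import Cfsg.Agent.Lib.Helper18.PRLCUBE
import Cfsg.Agent.Lib.Helper18.PRLZS
import Cfsg.Agent.Lib.Helper16.PRLU1
import Cfsg.Agent.Lib.helper23.PRLCH3
import Cfsg.Agent.Lib.Helper25.PRLGEN

set_option autoImplicit false

namespace Cfsg.Agent.Lib.Helper18.PRL

open scoped commutatorElement

universe u

variable {G : Type u} [Group G] [Finite G] {n : ℕ}

theorem h18b_comm_mem_Z {X : Type*} [Group X] {k : ℕ} {x : X} (hx : x ∈ Z X (k + 1)) (y : X) :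
    ⁅y, x⁆ ∈ Z X k := by
  have h1 : ⁅x, y⁆ ∈ Z X k := Subgroup.mem_upperCentralSeries_succ_iff.mp hx y
  have h2 : ⁅y, x⁆ = ⁅x, y⁆⁻¹ := (commutatorElement_inv x y).symm
  rw [h2]
  exact (Z X k).inv_mem h1

theorem h18b_notMem_swap {X : Type*} [Group X] {k : ℕ} {a b : X} (h : ⁅a, b⁆ ∉ Z X k) :
    ⁅b, a⁆ ∉ Z X k := by
  intro hc
  apply h
  have h2 : ⁅a, b⁆ = ⁅b, a⁆⁻¹ := (commutatorElement_inv b a).symm
  rw [h2]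
  exact (Z X k).inv_mem hc

/-- PRL-KEYb -/
theorem key_cube (h : MC 3 G n) (hn : 5 ≤ n) (H : Subgroup G) (hH : H.index = 3)
    (hyp : Hyp G n H) (s x : G) (hsH : s ∉ H) (hx : x ∈ H) (hx4 : x ∈ Z G 4) (hx3 : x ∉ Z G 3)
    (hs : Unif G n s) (hsg : ∀ g ∈ commutator G, Unif G n (s * g)) (hsx : Unif G n (s * x)) :
    ∃ z ∈ Z G 2, z ∉ Z G 1 ∧ x ^ 3 * z ∈ Z G 1 := by
  have hp3 : Fact (Nat.Prime 3) := ⟨by norm_num⟩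
  have hZ1 : Z G 1 = Subgroup.center G := Subgroup.upperCentralSeries_one G
  have hy3 : ⁅s, x⁆ ∈ Z G 3 := h18b_comm_mem_Z hx4 s
  have hz2 : ⁅s, ⁅s, x⁆⁆ ∈ Z G 2 := h18b_comm_mem_Z hy3 s
  obtain ⟨-, hs3⟩ := unif_cent h (by omega) s hs
  obtain ⟨-, hsx3⟩ := unif_cent h (by omega) (s * x) hsx
  have hs3c : s ^ 3 ∈ Subgroup.center G := hZ1 ▸ hs3
  have h1 : ⁅x, ⁅s, x⁆⁆ ∈ Z G 1 := hyp 3 le_rfl (by omega) x hx _ hy3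
  have h2 : ⁅x, ⁅s, ⁅s, x⁆⁆⁆ ∈ Z G 1 := h18b_comm_mem_Z hz2 x
  have h3 : ⁅⁅s, x⁆, ⁅s, ⁅s, x⁆⁆⁆ ∈ Z G 1 := h18b_comm_mem_Z hz2 _
  have hrel := cube_rel (Z G 1) s x hs3c hs3 hsx3 h1 h2 h3
  obtain ⟨-, hcube3, -⟩ := Z2_exp_Z3_cube h hn s hs hsg
  have hy3cube : ⁅s, x⁆ ^ 3 ∈ Z G 1 := hcube3 _ hy3
  have hy2 : ⁅s, x⁆ ∉ Z G 2 := by
    rcases Nat.lt_or_ge n 6 with hn6 | hn6
    · have hn5 : n = 5 := by omega
      subst hn5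
      have hcomm : commutator G = Z G 3 := commutator_eq_Z h (by omega)
      have := comm_notMem h (by omega) H hH s x hsH hx (by rw [hcomm]; exact hx3)
      exact this
    · exact h18b_notMem_swap (hs 4 (by omega) (by omega) x hx4 hx3)
  have hz1 : ⁅s, ⁅s, x⁆⁆ ∉ Z G 1 :=
    h18b_notMem_swap (hs 3 (by omega) (by omega) _ hy3 hy2)
  refine ⟨⁅s, ⁅s, x⁆⁆, hz2, hz1, ?_⟩
  generalize ⁅s, ⁅s, x⁆⁆ = z at *
  generalize ⁅s, x⁆ = y at *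
  have hn1 : (Z G 1).Normal := inferInstance
  have hconj : z⁻¹ * (y ^ 3)⁻¹ * z⁻¹⁻¹ ∈ Z G 1 :=
    hn1.conj_mem _ ((Z G 1).inv_mem hy3cube) z⁻¹
  have : x ^ 3 * z = (x ^ 3 * y ^ 3 * z) * (z⁻¹ * (y ^ 3)⁻¹ * z⁻¹⁻¹) := by group
  rw [this]
  exact (Z G 1).mul_mem hrel hconj

end Cfsg.Agent.Lib.Helper18.PRL
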