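import Mathlib
import Cfsg.Agent.Lib.Helper21.MaxClassP
import Cfsg.Agent.Lib.Helper18.PRL.Defs
import Cfsg.Agent.Lib.Helper12.PRLG1a

set_option autoImplicit false

namespace Cfsg.Agent.Lib.Helper18.PRL

open scoped commutatorElement

universe u

/-- PRL-TS -/
theorem G1_hyp_of_key
    (key : ∀ (m : ℕ) (X : Type u) [Group X] [Finite X], MC 3 X m → 5 ≤ m →
      ∀ H : Subgroup X, H.index = 3 → Hyp X m H → H ≤ G1 X) :
    ∀ (m : ℕ) (X : Type u) [Group X] [Finite X], MC 3 X m → 4 ≤ m → Hyp X m (G1 X) := by
  have : Fact (Nat.Prime 3) := ⟨by norm_num⟩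
  intro m
  induction m with
  | zero => intro X _ _ _ h4; omega
  | succ k ih =>
    intro X _ _ hMC h4
    rcases Nat.lt_or_ge k 4 with hk | hk
    · -- k + 1 = 4 : vacuous
      intro j hj3 hj
      omega
    · -- k ≥ 4
      obtain ⟨hZ, hQcard, hQclass⟩ :=
        Helper21.mc_center_card 3 (k + 1) (by omega) X hMC.1 hMC.2
      have hQ : MC 3 (X ⧸ Subgroup.center X) k := by
        refine ⟨by simpa using hQcard, ?_⟩
        rw [hQclass]; omega
      have ihQ : Hyp (X ⧸ Subgroup.center X) k (G1 (X ⧸ Subgroup.center X)) :=
        ih (X ⧸ Subgroup.center X) hQ hk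
      set π := QuotientGroup.mk' (Subgroup.center X) with hπ
      have hsurj : Function.Surjective π := QuotientGroup.mk'_surjective _
      set H : Subgroup X := (G1 (X ⧸ Subgroup.center X)).comap π with hH
      have hHi : H.index = 3 := by
        rw [hH, Subgroup.index_comap_of_surjective _ hsurj]
        exact G1_index hQ hk
      have hZc : ∀ i : ℕ, (Z (X ⧸ Subgroup.center X) i).comap π = Z X (i + 1) := fun i =>
        Subgroup.comap_upperCentralSeries_quotient_center i
      have hyp : Hyp X (k + 1) H := by
        intro j hj3 hj h hh z hz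
        have hz' : π z ∈ Z (X ⧸ Subgroup.center X) (j - 1) := by
          have : z ∈ (Z (X ⧸ Subgroup.center X) (j - 1)).comap π := by
            rw [hZc (j - 1)]
            have : j - 1 + 1 = j := by omega
            rwa [this]
          exact this
        have hh' : π h ∈ G1 (X ⧸ Subgroup.center X) := hh
        rcases Nat.lt_or_ge j 4 with hj4 | hj4
        · -- j = 3
          have hj3' : j = 3 := by omega
          subst hj3'
          have hcomm : ⁅π h, π z⁆ = 1 := by
            rw [commutatorElement_eq_one_iff_mul_comm]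
            exact (Subgroup.mem_centralizer_iff.mp hh' (π z) hz').symm
          have h1 : π ⁅h, z⁆ = 1 := by rw [map_commutatorElement, hcomm]
          have h2 : ⁅h, z⁆ ∈ Subgroup.center X := (QuotientGroup.eq_one_iff _).mp h1
          show ⁅h, z⁆ ∈ Z X 1
          rw [Z, Subgroup.upperCentralSeries_one]
          exact h2
        · have h1 : ⁅π h, π z⁆ ∈ Z (X ⧸ Subgroup.center X) (j - 1 - 2) :=
            ihQ (j - 1) (by omega) (by omega) (π h) hh' (π z) hz'
          have h2 : ⁅h, z⁆ ∈ (Z (X ⧸ Subgroup.center X) (j - 1 - 2)).comap π := by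
            rw [Subgroup.mem_comap, map_commutatorElement]
            exact h1
          rw [hZc] at h2
          have : j - 1 - 2 + 1 = j - 2 := by omega
          rwa [this] at h2
      have hle : H ≤ G1 X := key (k + 1) X hMC (by omega) H hHi hyp
      have hG1i : (G1 X).index = 3 := G1_index hMC h4
      have heq : H = G1 X := by
        apply Subgroup.eq_of_le_of_card_ge hle
        have h1 := (G1 X).card_mul_index
        have h2 := H.card_mul_index
        rw [hG1i] at h1
        rw [hHi] at h2
        have : Nat.card (G1 X) * 3 = Nat.card H * 3 := by rw [h1, h2]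
        exact (Nat.eq_of_mul_eq_mul_right (by norm_num) this).le
      rw [← heq]
      exact hyp

end Cfsg.Agent.Lib.Helper18.PRL
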