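import Mathlib
import Cfsg.Agent.Lib.Helper21.MaxClassP
import Cfsg.Agent.Lib.Helper18.PRL.Defs
import Cfsg.Agent.Lib.Helper18.PRLCUBE
import Cfsg.Agent.Lib.Helper18.PRLZS
import Cfsg.Agent.Lib.Helper11.PRLUNI
import Cfsg.Agent.Lib.Helper12.PRLG1a
import Cfsg.Agent.Lib.Helper16.PRLU1
import Cfsg.Agent.Lib.helper23.PRLCH1
import Cfsg.Agent.Lib.helper23.PRLCH3
import Cfsg.Agent.Lib.helper23.PRLCH4
import Cfsg.Agent.Lib.Helper25.PRLCB
import Cfsg.Agent.Lib.Helper25.PRLCN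

set_option autoImplicit false

namespace Cfsg.Agent.Lib.Helper18.PRL

open scoped commutatorElement

universe u

variable {G : Type u} [Group G] [Finite G] {n : ℕ}

theorem h18c_comm_mem_Z {X : Type*} [Group X] {k : ℕ} {x : X} (hx : x ∈ Z X (k + 1)) (y : X) :
    ⁅y, x⁆ ∈ Z X k := by
  have h1 : ⁅x, y⁆ ∈ Z X k := Subgroup.mem_upperCentralSeries_succ_iff.mp hx y
  have h2 : ⁅y, x⁆ = ⁅x, y⁆⁻¹ := (commutatorElement_inv x y).symm
  rw [h2]
  exact (Z X k).inv_mem h1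

theorem h18c_card_lt_of_lt {X : Type*} [Group X] [Finite X] {H K : Subgroup X} (h : H < K) :
    Nat.card H < Nat.card K :=
  lt_of_le_of_ne (Subgroup.card_le_of_le h.le)
    (fun heq => h.ne (Subgroup.eq_of_le_of_card_ge h.le heq.ge))

/-- PRL-C3 -/
theorem order_three_Z3 (h : MC 3 G n) (hn : 5 ≤ n) (hyp : Hyp G n (G1 G)) :
    ∀ x ∈ Z G 3, x ^ 3 = 1 → x ∈ Z G 2 := by
  intro x hx3 hxcube
  by_contra hx2
  have hp3 : Fact (Nat.Prime 3) := ⟨by norm_num⟩
  have hZ1 : Z G 1 = Subgroup.center G := Subgroup.upperCentralSeries_one G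
  have hcomm : commutator G = Z G (n - 2) := commutator_eq_Z h (by omega)
  have hGM : commutator G ≤ G1 G := commutator_le_G1 G
  have hMi : (G1 G).index = 3 := G1_index h (by omega)
  have h23 : Z G 2 ≤ Z G 3 := Subgroup.upperCentralSeries_mono G (by omega)
  have hc1 : Nat.card (Z G 1) = 3 ^ 1 := card_Z h (by omega) 1 (by omega)
  have hc2 : Nat.card (Z G 2) = 3 ^ 2 := card_Z h (by omega) 2 (by omega)
  have hc3 : Nat.card (Z G 3) = 3 ^ 3 := card_Z h (by omega) 3 (by omega)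
  have h2c : Z G 2 ≤ commutator G := by
    rw [hcomm]; exact Subgroup.upperCentralSeries_mono G (by omega)
  -- s outside G1
  have hMtop : G1 G ≠ ⊤ := by
    intro htop
    rw [htop, Subgroup.index_top] at hMi
    norm_num at hMi
  obtain ⟨s, -, hsM⟩ := SetLike.exists_of_lt (lt_top_iff_ne_top.mpr hMtop)
  have hs : Unif G n s := unif_of_notMem h (by omega) (G1 G) hMi hyp s hsM hsM
  have hsg : ∀ g ∈ commutator G, Unif G n (s * g) := by
    intro g hg
    have : s * g ∉ G1 G := by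
      intro hc
      exact hsM (by simpa using (G1 G).mul_mem hc ((G1 G).inv_mem (hGM hg)))
    exact unif_of_notMem h (by omega) (G1 G) hMi hyp (s * g) this this
  obtain ⟨hexp2, -, hab⟩ := Z2_exp_Z3_cube h hn s hs hsg
  obtain ⟨hcent, -⟩ := unif_cent h (by omega) s hs
  have hexp1 : ∀ c ∈ Z G 1, c ^ 3 = 1 := fun c hc =>
    hexp2 c (Subgroup.upperCentralSeries_mono G (by omega : 1 ≤ 2) hc)
  -- Z_3 has exponent 3
  have hexp3 : ∀ v ∈ Z G 3, v ^ 3 = 1 := by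
    set K : Subgroup G :=
      { carrier := {u | u ∈ Z G 3 ∧ u ^ 3 = 1}
        one_mem' := ⟨Subgroup.one_mem _, one_pow 3⟩
        mul_mem' := by
          rintro a b ⟨ha, ha3⟩ ⟨hb, hb3⟩
          refine ⟨(Z G 3).mul_mem ha hb, ?_⟩
          have hcab : Commute a b := hab a ha b hb
          rw [hcab.mul_pow, ha3, hb3, one_mul]
        inv_mem' := by
          rintro a ⟨ha, ha3⟩
          exact ⟨(Z G 3).inv_mem ha, by rw [inv_pow, ha3, inv_one]⟩ } with hK
    have hKle : K ≤ Z G 3 := fun u hu => hu.1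
    have hZ2K : Z G 2 ≤ K := fun c hc => ⟨h23 hc, hexp2 c hc⟩
    have hxK : x ∈ K := ⟨hx3, hxcube⟩
    have hlt : Z G 2 < K := lt_of_le_of_ne hZ2K (fun heq => hx2 (heq ▸ hxK))
    have hd1 : Nat.card K ∣ 3 ^ 3 := hc3 ▸ Subgroup.card_dvd_of_le hKle
    have hd2 : 3 ^ 2 < Nat.card K := hc2 ▸ h18c_card_lt_of_lt hlt
    obtain ⟨k, hk, hkk⟩ := (Nat.dvd_prime_pow hp3.out).mp hd1
    have hk3 : k = 3 := by
      rw [hkk] at hd2
      have := (Nat.pow_lt_pow_iff_right (by norm_num : 1 < 3)).mp hd2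
      omega
    have hKeq : K = Z G 3 := Subgroup.eq_of_le_of_card_ge hKle (by rw [hc3, hkk, hk3])
    intro v hv
    have : v ∈ K := hKeq ▸ hv
    exact this.2
  -- t in (G1 ∩ Z_4) \ Z_3
  have hex : ∃ t : G, t ∈ G1 G ∧ t ∈ Z G 4 ∧ t ∉ Z G 3 := by
    rcases Nat.lt_or_ge n 6 with hn6 | hn6
    · have hn5 : n = 5 := by omega
      subst hn5
      have htop : Z G 4 = ⊤ := Z_top h (by omega)
      have hcomm' : commutator G = Z G 3 := hcomm
      have hne : ¬ G1 G ≤ commutator G := by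
        intro hle
        have heq : G1 G = commutator G := le_antisymm hle hGM
        have hi := (Helper21.mc_p_index 3 5 G (by omega) h.1 h.2).1
        rw [← heq, hMi] at hi
        norm_num at hi
      obtain ⟨t, ht1, ht2⟩ := SetLike.not_le_iff_exists.mp hne
      exact ⟨t, ht1, htop ▸ Subgroup.mem_top t, hcomm' ▸ ht2⟩
    · have h4 : Nat.card (Z G 4) = 3 ^ 4 := card_Z h (by omega) 4 (by omega)
      have hlt : ¬ Z G 4 ≤ Z G 3 := by
        intro hle
        have := Subgroup.card_le_of_le hle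
        rw [h4, hc3] at this
        norm_num at this
      obtain ⟨t, ht4, ht3⟩ := SetLike.not_le_iff_exists.mp hlt
      refine ⟨t, hGM ?_, ht4, ht3⟩
      rw [hcomm]
      exact Subgroup.upperCentralSeries_mono G (by omega : 4 ≤ n - 2) ht4
  obtain ⟨t, ht1, ht4, ht3⟩ := hex
  have htc2 : t ^ 3 ∈ Z G 2 := cube_mem h hn hyp 4 (by omega) t ht1 ht4
  have htc1 : t ^ 3 ∉ Z G 1 := cube_notMem h hn hyp 4 le_rfl (by omega) t ht1 ht4 ht3
  -- v = [s, t]
  have hv3 : ⁅s, t⁆ ∈ Z G 3 := h18c_comm_mem_Z ht4 s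
  have htv : ⁅t, ⁅s, t⁆⁆ ∈ Z G 1 := hyp 3 le_rfl (by omega) t ht1 _ hv3
  have htvc : ⁅t, ⁅s, t⁆⁆ ∈ Subgroup.center G := hZ1 ▸ htv
  have hcube := class_two_cube ⁅s, t⁆ t htvc
  rw [hexp3 _ hv3, hexp1 _ htv, one_mul, mul_one] at hcube
  have hst : s * t * s⁻¹ = ⁅s, t⁆ * t := by rw [commutatorElement_def]; group
  have hconj : s * t ^ 3 * s⁻¹ = t ^ 3 := by
    have : s * t ^ 3 * s⁻¹ = (s * t * s⁻¹) ^ 3 := by
      rw [conj_pow]
    rw [this, hst, hcube]
  apply htc1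
  refine hcent (t ^ 3) (h2c htc2) ?_
  calc t ^ 3 * s = (s * t ^ 3 * s⁻¹) * s := by rw [hconj]
    _ = s * t ^ 3 := by group

end Cfsg.Agent.Lib.Helper18.PRL
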