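import Cfsg.Agent.Lib.Helper18.QISOC

set_option autoImplicit false
set_option linter.unusedVariables false
set_option linter.unusedSectionVars false

/-!
# QISO (helper18) : isometry classification of non-degenerate even-dimensional quadratic spaces over a finite field,
ALL characteristics; statements in the vocabulary of `Cfsg.Geo` (for the even-dimensional orthogonal rows).
-/

namespace Cfsg.Agent.Lib.Helper18.QIso

open Module Cfsg Cfsg.Geo
open scoped MatrixGroups Matrix

variable {n : ℕ} {F : Type*} [Field F]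

theorem qiso_nd_iff (Q : QuadraticForm F (Fin n → F)) (W : Submodule F (Fin n → F)) :
    IsNondegenerateOn (QuadraticMap.polar (⇑Q)) W ↔ Nd Q W := by
  constructor
  · intro h w hw hw0
    exact (h w hw hw0).1
  · intro h w hw hw0
    obtain ⟨x, hx, hxw⟩ := h w hw hw0
    exact ⟨⟨x, hx, hxw⟩, ⟨x, hx, by rwa [QuadraticMap.polar_comm]⟩⟩

theorem qiso_plus_iff (Q : QuadraticForm F (Fin n → F)) (W : Submodule F (Fin n → F)) :
    IsPlusTypeOn (⇑Q) W ↔ Plus Q W := Iff.rfl

theorem qiso_iso_iff (Q : QuadraticForm F (Fin n → F)) (W W' : Submodule F (Fin n → F)) :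
    AreIsometricFor (⇑Q) W W' ↔ Iso Q W W' := Iff.rfl

theorem qiso_ts_iff (Q : QuadraticForm F (Fin n → F)) (W : Submodule F (Fin n → F)) :
    IsTotallySingularQuad (⇑Q) W ↔ Ts Q W := Iff.rfl

/-- a totally singular subspace of a non-degenerate subspace has at most half its dimension (any field) -/
theorem qiso_ts_bound (Q : QuadraticForm F (Fin n → F)) (W : Submodule F (Fin n → F))
    (hW : IsNondegenerateOn (QuadraticMap.polar (⇑Q)) W) (U : Submodule F (Fin n → F)) (hUW : U ≤ W)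
    (hU : IsTotallySingularQuad (⇑Q) U) : 2 * finrank F U ≤ finrank F W :=
  ts_bound Q _ W rfl ((qiso_nd_iff Q W).1 hW) U hUW hU

/-- (2) a non-zero singular vector of a non-degenerate `W` lies in a hyperbolic pair `(w, w')` of `W`; the orthogonal complement
`W₁` of the pair in `W` is non-degenerate of dimension `finrank W - 2`, `W = ⟨w, w'⟩ ⊕ W₁`, and `W` is of plus type iff `W₁` is -/
theorem qiso_split (Q : QuadraticForm F (Fin n → F)) (W : Submodule F (Fin n → F))
    (hW : IsNondegenerateOn (QuadraticMap.polar (⇑Q)) W) (w : Fin n → F) (hw : w ∈ W) (hw0 : w ≠ 0)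
    (hq : Q w = 0) :
    ∃ (w' : Fin n → F) (W₁ : Submodule F (Fin n → F)), w' ∈ W ∧ Q w' = 0 ∧ QuadraticMap.polar (⇑Q) w w' = 1 ∧
      W₁ ≤ W ∧ (∀ x ∈ W₁, QuadraticMap.polar (⇑Q) w x = 0 ∧ QuadraticMap.polar (⇑Q) w' x = 0) ∧
      IsNondegenerateOn (QuadraticMap.polar (⇑Q)) W₁ ∧ finrank F W₁ + 2 = finrank F W ∧
      Submodule.span F ({w, w'} : Set (Fin n → F)) ⊔ W₁ = W ∧
      Disjoint (Submodule.span F ({w, w'} : Set (Fin n → F))) W₁ ∧
      (IsPlusTypeOn (⇑Q) W ↔ IsPlusTypeOn (⇑Q) W₁) := by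
  have hnd := (qiso_nd_iff Q W).1 hW
  obtain ⟨w', h⟩ := exists_partner Q hnd hw hw0 hq
  refine ⟨w', perp2 Q W w w', h.mem', h.q', h.pol, perp2_le Q W w w',
    fun x hx => ((mem_perp2 Q W w w' x).1 hx).2, (qiso_nd_iff Q _).2 (nd_perp2 Q hnd h), finrank_perp2 Q h,
    span_sup_perp2 Q h, span_disjoint_perp2 Q h, ?_⟩
  exact ⟨fun hp => plus_perp2 Q hnd hp h, fun hp => plus_of_perp2 Q h hp⟩

variable [Fintype F]

/-- (1) a non-degenerate subspace of dimension at least 3 over a finite field contains a non-zero singular vector -/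
theorem qiso_isotropic (Q : QuadraticForm F (Fin n → F)) (W : Submodule F (Fin n → F))
    (hW : IsNondegenerateOn (QuadraticMap.polar (⇑Q)) W) (h3 : 3 ≤ finrank F W) :
    ∃ w ∈ W, w ≠ 0 ∧ Q w = 0 :=
  exists_singular Q ((qiso_nd_iff Q W).1 hW) h3

/-- (3) two anisotropic non-degenerate planes are isometric -/
theorem qiso_aniso_plane (Q : QuadraticForm F (Fin n → F)) (W W' : Submodule F (Fin n → F))
    (hW : IsNondegenerateOn (QuadraticMap.polar (⇑Q)) W) (hW' : IsNondegenerateOn (QuadraticMap.polar (⇑Q)) W')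
    (h2 : finrank F W = 2) (h2' : finrank F W' = 2) (hp : ¬ IsPlusTypeOn (⇑Q) W) (hp' : ¬ IsPlusTypeOn (⇑Q) W') :
    AreIsometricFor (⇑Q) W W' :=
  iso_aniso_plane Q ((qiso_nd_iff Q W).1 hW) ((qiso_nd_iff Q W').1 hW') h2 h2'
    (aniso_of_not_plus Q h2 hp) (aniso_of_not_plus Q h2' hp')

/-- (4) non-degenerate subspaces of the same even dimension and the same type are isometric -/
theorem qiso_of_type (Q : QuadraticForm F (Fin n → F)) (W W' : Submodule F (Fin n → F))
    (hW : IsNondegenerateOn (QuadraticMap.polar (⇑Q)) W) (hW' : IsNondegenerateOn (QuadraticMap.polar (⇑Q)) W')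
    (hd : finrank F W = finrank F W') (hev : Even (finrank F W))
    (hiff : IsPlusTypeOn (⇑Q) W ↔ IsPlusTypeOn (⇑Q) W') : AreIsometricFor (⇑Q) W W' :=
  iso_of_type Q ((qiso_nd_iff Q W).1 hW) ((qiso_nd_iff Q W').1 hW') hd hev hiff

/-- type additivity: `A`, `B` non-degenerate and orthogonal, `A` and `A ⊔ B` of plus type ==> `B` of plus type (any field) -/
theorem qiso_plus_of_sup (Q : QuadraticForm F (Fin n → F)) (A B : Submodule F (Fin n → F))
    (hA : IsNondegenerateOn (QuadraticMap.polar (⇑Q)) A) (hB : IsNondegenerateOn (QuadraticMap.polar (⇑Q)) B)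
    (ho : AreOrthogonalFor (QuadraticMap.polar (⇑Q)) A B) (hpA : IsPlusTypeOn (⇑Q) A)
    (hpS : IsPlusTypeOn (⇑Q) (A ⊔ B)) : IsPlusTypeOn (⇑Q) B :=
  plus_of_sup Q ((qiso_nd_iff Q A).1 hA) ((qiso_nd_iff Q B).1 hB) ho hpA hpS

/-- the orthogonal complement of a non-degenerate subspace, with everything one needs -/
theorem qiso_perp (Q : QuadraticForm F (Fin n → F)) (hQ : (QuadraticMap.polarBilin Q).Nondegenerate)
    (W : Submodule F (Fin n → F)) (hW : IsNondegenerateOn (QuadraticMap.polar (⇑Q)) W) :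
    ∃ W' : Submodule F (Fin n → F), finrank F W + finrank F W' = n ∧
      IsNondegenerateOn (QuadraticMap.polar (⇑Q)) W' ∧ AreOrthogonalFor (QuadraticMap.polar (⇑Q)) W W' ∧
      AreOrthogonalFor (QuadraticMap.polar (⇑Q)) W' W ∧ W ⊓ W' = ⊥ ∧ W ⊔ W' = ⊤ ∧
      (∀ v, v ∈ W' ↔ ∀ w ∈ W, QuadraticMap.polar (⇑Q) w v = 0) ∧
      (∀ g : GL (Fin n) F, g ∈ subspaceStabilizer W ⊓ isometryGroup F (⇑Q) →
        W.map (Matrix.toLin' (g : Matrix (Fin n) (Fin n) F)) = W ∧
        W'.map (Matrix.toLin' (g : Matrix (Fin n) (Fin n) F)) = W') := by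
  classical
  set H : Subgroup (GL (Fin n) F) := subspaceStabilizer W ⊓ isometryGroup F (⇑Q) with hH
  have hWm : ∀ g ∈ H, ∀ v ∈ W, (g : Matrix (Fin n) (Fin n) F) *ᵥ v ∈ W := by
    intro g hg v hv
    exact ((hg.1) v).1 hv
  set B : LinearMap.BilinForm F (Fin n → F) := QuadraticMap.polarBilin Q with hBdef
  have hBapp : ∀ x y : Fin n → F, B x y = QuadraticMap.polar (⇑Q) x y := fun x y => rfl
  have hpol : ∀ g ∈ H, ∀ u v : Fin n → F,
      QuadraticMap.polar (⇑Q) ((g : Matrix (Fin n) (Fin n) F) *ᵥ u)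
        ((g : Matrix (Fin n) (Fin n) F) *ᵥ v) = QuadraticMap.polar (⇑Q) u v := by
    intro g hg u v
    have hq : ∀ x : Fin n → F, Q ((g : Matrix (Fin n) (Fin n) F) *ᵥ x) = Q x := fun x => hg.2 x x
    unfold QuadraticMap.polar
    rw [← Matrix.mulVec_add, hq, hq, hq]
  have hginv : ∀ g : GL (Fin n) F, ∀ w : Fin n → F, (g : Matrix (Fin n) (Fin n) F) *ᵥ
      (((g⁻¹ : GL (Fin n) F) : Matrix (Fin n) (Fin n) F) *ᵥ w) = w := by
    intro g w
    rw [Matrix.mulVec_mulVec, ← Units.val_mul, mul_inv_cancel, Units.val_one, Matrix.one_mulVec]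
  set Wp : Submodule F (Fin n → F) := B.orthogonal W with hWp
  have hmemp : ∀ v : Fin n → F, v ∈ Wp ↔ ∀ w ∈ W, QuadraticMap.polar (⇑Q) w v = 0 := by
    intro v
    rw [hWp, LinearMap.BilinForm.mem_orthogonal_iff]
    constructor
    · intro hv w hw
      have := hv w hw
      rw [← hBapp]
      exact this
    · intro hv w hw
      show B w v = 0
      rw [hBapp]
      exact hv w hw
  have hPm : ∀ g ∈ H, ∀ v ∈ Wp, (g : Matrix (Fin n) (Fin n) F) *ᵥ v ∈ Wp := by
    intro g hg v hv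
    rw [hmemp] at hv ⊢
    intro w hw
    have h3 := hWm g⁻¹ (H.inv_mem hg) w hw
    have h4 := hpol g hg (((g⁻¹ : GL (Fin n) F) : Matrix (Fin n) (Fin n) F) *ᵥ w) v
    rw [hginv] at h4
    rw [h4]
    exact hv _ h3
  have hR : W ⊓ Wp = ⊥ := by
    rw [eq_bot_iff]
    intro w hw
    rw [Submodule.mem_bot]
    by_contra hw0
    obtain ⟨⟨x, hx, hx0⟩, _⟩ := hW w hw.1 hw0
    exact hx0 ((hmemp w).1 hw.2 x hx)
  have hfr : Module.finrank F Wp = n - Module.finrank F W := by
    have := LinearMap.BilinForm.finrank_orthogonal (B := B) hQ W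
    rwa [Module.finrank_fin_fun] at this
  have hWle : Module.finrank F W ≤ n := by
    have := Submodule.finrank_le W
    rwa [Module.finrank_fin_fun] at this
  have hsi := Submodule.finrank_sup_add_finrank_inf_eq W Wp
  rw [hR, finrank_bot, add_zero] at hsi
  have hsup : W ⊔ Wp = ⊤ := by
    apply Submodule.eq_top_of_finrank_eq
    rw [Module.finrank_fin_fun]
    omega
  have hmapeq : ∀ (U : Submodule F (Fin n → F)),
      (∀ g ∈ H, ∀ v ∈ U, (g : Matrix (Fin n) (Fin n) F) *ᵥ v ∈ U) → ∀ g ∈ H,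
      U.map (Matrix.toLin' (g : Matrix (Fin n) (Fin n) F)) = U := by
    intro U hU g hg
    apply le_antisymm
    · rintro _ ⟨v, hv, rfl⟩
      rw [Matrix.toLin'_apply]
      exact hU g hg v hv
    · intro w hw
      refine ⟨((g⁻¹ : GL (Fin n) F) : Matrix (Fin n) (Fin n) F) *ᵥ w, hU g⁻¹ (H.inv_mem hg) w hw, ?_⟩
      rw [Matrix.toLin'_apply, hginv]
  refine ⟨Wp, by omega, ?_, fun u hu v hv => (hmemp v).1 hv u hu, ?_, hR, hsup, hmemp,
    fun g hg => ⟨hmapeq W hWm g hg, hmapeq Wp hPm g hg⟩⟩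
  · intro w' hw' hw'0
    have key : ∃ x ∈ Wp, QuadraticMap.polar (⇑Q) x w' ≠ 0 := by
      by_contra hcon
      push Not at hcon
      have hall : ∀ v : Fin n → F, B v w' = 0 := by
        intro v
        have hv : v ∈ W ⊔ Wp := by rw [hsup]; exact Submodule.mem_top
        obtain ⟨a, ha, b, hb, rfl⟩ := Submodule.mem_sup.1 hv
        rw [map_add, LinearMap.add_apply, hBapp, hBapp, hcon b hb, add_zero]
        exact (hmemp w').1 hw' a ha
      exact hw'0 (hQ.2 w' hall)
    obtain ⟨x, hx, hx0⟩ := key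
    refine ⟨⟨x, hx, hx0⟩, ⟨x, hx, ?_⟩⟩
    rw [QuadraticMap.polar_comm]
    exact hx0
  · intro u hu v hv
    rw [QuadraticMap.polar_comm]
    exact (hmemp u).1 hu v hv

/-- (5) `n = 2 m`, `m` even, plus type: a non-degenerate `m`-space `W` is isometric to its orthogonal complement, so the
isometries stabilising `W` stabilise the orthogonal decomposition `![W, W^⊥]` into two isometric blocks -/
theorem qiso_half (Q : QuadraticForm F (Fin n → F)) (hQ : (QuadraticMap.polarBilin Q).Nondegenerate)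
    {m : ℕ} (hn : n = 2 * m) (hm0 : 0 < m) (hm : Even m) (hplus : IsPlusTypeOn (⇑Q) ⊤)
    (W : Submodule F (Fin n → F)) (hW : IsNondegenerateOn (QuadraticMap.polar (⇑Q)) W)
    (hd : finrank F W = m) :
    ∃ D : Fin 2 → Submodule F (Fin n → F), IsOrthogonalMDecomposition (⇑Q) m D ∧ D 0 = W ∧
      subspaceStabilizer W ⊓ isometryGroup F (⇑Q) ≤ decompositionStabilizer D := by
  obtain ⟨Wp, hfr, hWp, ho, ho', hR, hsup, hmemp, hstab⟩ := qiso_perp Q hQ W hW
  have hdp : finrank F Wp = m := by omega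
  have hiff : IsPlusTypeOn (⇑Q) W ↔ IsPlusTypeOn (⇑Q) Wp := by
    constructor
    · intro hp
      exact qiso_plus_of_sup Q W Wp hW hWp ho hp (by rw [hsup]; exact hplus)
    · intro hp
      exact qiso_plus_of_sup Q Wp W hWp hW ho' hp (by rw [sup_comm, hsup]; exact hplus)
  have hiso : AreIsometricFor (⇑Q) W Wp := qiso_of_type Q W Wp hW hWp (by rw [hd, hdp]) (by rw [hd]; exact hm) hiff
  have hiso' : AreIsometricFor (⇑Q) Wp W := Iso.symm Q hiso
  let D : Fin 2 → Submodule F (Fin n → F) := ![W, Wp]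
  have hD0 : D 0 = W := rfl
  have hD1 : D 1 = Wp := rfl
  have hdec : IsMDecomposition m D := by
    refine ⟨le_refl 2, hm0, ?_, ?_, ?_⟩
    · intro i
      fin_cases i
      · exact hd
      · exact hdp
    · rw [iSupIndep_pair (i := (0 : Fin 2)) (j := 1) (by decide) (by decide)]
      rw [hD0, hD1, disjoint_iff]
      exact hR
    · apply le_antisymm le_top
      rw [← hsup]
      exact sup_le (le_iSup D 0) (le_iSup D 1)
  refine ⟨D, ⟨⟨hdec, ?_, ?_⟩, ?_⟩, hD0, ?_⟩
  · intro i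
    fin_cases i
    · exact hW
    · exact hWp
  · intro i j hij
    fin_cases i <;> fin_cases j
    · exact absurd rfl hij
    · exact ho
    · exact ho'
    · exact absurd rfl hij
  · intro i j
    fin_cases i <;> fin_cases j
    · exact Iso.refl Q W
    · exact hiso
    · exact hiso'
    · exact Iso.refl Q Wp
  · intro g hg
    refine ⟨1, fun i => ?_⟩
    fin_cases i
    · exact (hstab g hg).1
    · exact (hstab g hg).2

end Cfsg.Agent.Lib.Helper18.QIso
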