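import Mathlib
import Cfsg.Prelude.Def_GeometricClasses

set_option autoImplicit false
set_option linter.unusedVariables false
set_option linter.unusedSectionVars false
set_option linter.unusedSimpArgs false

/-!
# QISO (helper18), part A : hyperbolic pairs, splitting, Witt index bookkeeping, gluing of isometries.
ANY field, ANY characteristic, any finite-dimensional ambient space `V` with a quadratic form `Q`; all objects are
submodules of `V`.

* `Nd Q W`, `Ts Q U`, `Plus Q W`, `Iso Q W W'` : the abstract twins of `IsNondegenerateOn (polar Q)`,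
  `IsTotallySingularQuad`, `IsPlusTypeOn`, `AreIsometricFor` of `Cfsg.Geo`.
* `exists_partner` : a non-zero singular vector of a non-degenerate `W` has a hyperbolic partner in `W`.
* `perp2 Q W w w'`, `finrank_perp2`, `nd_perp2`, `span_sup_perp2`, `span_disjoint_perp2` : splitting off a hyperbolic plane.
* `ts_reduce`, `ts_bound` : totally singular subspaces have at most half the dimension.
* `plus_perp2`, `plus_of_perp2` : `W` is of plus type iff the complement of (any) hyperbolic pair is.
* `iso_sup`, `iso_span_pair` : gluing isometries along orthogonal sums; planes with equal Gram data.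
-/

namespace Cfsg.Agent.Lib.Helper18.QIso

open Module

variable {F : Type*} [Field F] {V : Type*} [AddCommGroup V] [Module F V]

/-- the polar form of `Q` is non-degenerate on `W` -/
def Nd (Q : QuadraticForm F V) (W : Submodule F V) : Prop :=
  ∀ w ∈ W, w ≠ 0 → ∃ x ∈ W, QuadraticMap.polar Q x w ≠ 0

/-- `Q` vanishes on `U` -/
def Ts (Q : QuadraticForm F V) (U : Submodule F V) : Prop := ∀ u ∈ U, Q u = 0

/-- `W` contains a totally singular subspace of half its dimension -/
def Plus (Q : QuadraticForm F V) (W : Submodule F V) : Prop :=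
  ∃ U : Submodule F V, U ≤ W ∧ Ts Q U ∧ 2 * finrank F U = finrank F W

/-- `W` and `W'` are isometric -/
def Iso (Q : QuadraticForm F V) (W W' : Submodule F V) : Prop :=
  ∃ e : W ≃ₗ[F] W', ∀ w : W, Q ((e w : W') : V) = Q (w : V)

/-- `(w, w')` is a hyperbolic pair of `W` -/
structure HypPair (Q : QuadraticForm F V) (W : Submodule F V) (w w' : V) : Prop where
  mem : w ∈ W
  mem' : w' ∈ W
  q : Q w = 0
  q' : Q w' = 0
  pol : QuadraticMap.polar Q w w' = 1

/-- the orthogonal complement of `{w, w'}` in `W` -/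
def perp2 (Q : QuadraticForm F V) (W : Submodule F V) (w w' : V) : Submodule F V :=
  W ⊓ (LinearMap.ker (QuadraticMap.polarBilin Q w) ⊓ LinearMap.ker (QuadraticMap.polarBilin Q w'))

theorem mem_perp2 (Q : QuadraticForm F V) (W : Submodule F V) (w w' x : V) :
    x ∈ perp2 Q W w w' ↔ x ∈ W ∧ QuadraticMap.polar Q w x = 0 ∧ QuadraticMap.polar Q w' x = 0 := by
  unfold perp2
  rw [Submodule.mem_inf, Submodule.mem_inf, LinearMap.mem_ker, LinearMap.mem_ker,
    QuadraticMap.polarBilin_apply_apply, QuadraticMap.polarBilin_apply_apply]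

theorem perp2_le (Q : QuadraticForm F V) (W : Submodule F V) (w w' : V) : perp2 Q W w w' ≤ W :=
  inf_le_left

theorem polar_self_of_q (Q : QuadraticForm F V) {w : V} (h : Q w = 0) : QuadraticMap.polar Q w w = 0 := by
  rw [QuadraticMap.polar_self, h, smul_zero]

theorem Ts.polar (Q : QuadraticForm F V) {U : Submodule F V} (hU : Ts Q U) {u v : V} (hu : u ∈ U) (hv : v ∈ U) :
    QuadraticMap.polar Q u v = 0 := by
  unfold QuadraticMap.polar
  rw [hU _ (U.add_mem hu hv), hU u hu, hU v hv]
  simp

theorem Ts.mono (Q : QuadraticForm F V) {U U' : Submodule F V} (h : U ≤ U') (hU : Ts Q U') : Ts Q U :=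
  fun u hu => hU u (h hu)

/-- the value of `Q` on `a w + b w' + x` -/
theorem q_lin2 (Q : QuadraticForm F V) (x y : V) (s t : F) :
    Q (s • x + t • y) = s * s * Q x + t * t * Q y + s * t * QuadraticMap.polar Q x y := by
  rw [QuadraticMap.map_add (⇑Q), QuadraticMap.map_smul, QuadraticMap.map_smul, QuadraticMap.polar_smul_left,
    QuadraticMap.polar_smul_right]
  simp only [smul_eq_mul]
  ring

/-- S1 : a non-zero singular vector of a non-degenerate `W` has a hyperbolic partner -/
theorem exists_partner (Q : QuadraticForm F V) {W : Submodule F V} (hW : Nd Q W) {w : V} (hw : w ∈ W)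
    (h0 : w ≠ 0) (hq : Q w = 0) : ∃ w', HypPair Q W w w' := by
  obtain ⟨x, hx, hxw⟩ := hW w hw h0
  obtain ⟨c, hc⟩ : ∃ c, c = QuadraticMap.polar Q x w := ⟨_, rfl⟩
  rw [← hc] at hxw
  obtain ⟨y, hy⟩ : ∃ y, y = c⁻¹ • x := ⟨_, rfl⟩
  have hyW : y ∈ W := by rw [hy]; exact W.smul_mem _ hx
  have hwy : QuadraticMap.polar Q w y = 1 := by
    rw [hy, QuadraticMap.polar_smul_right, QuadraticMap.polar_comm, ← hc, smul_eq_mul, inv_mul_cancel₀ hxw]
  refine ⟨y - Q y • w, ⟨hw, W.sub_mem hyW (W.smul_mem _ hw), hq, ?_, ?_⟩⟩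
  · have : y - Q y • w = (1 : F) • y + (- Q y) • w := by rw [one_smul, neg_smul, sub_eq_add_neg]
    rw [this, q_lin2, hq, QuadraticMap.polar_comm, hwy]
    ring
  · rw [QuadraticMap.polar_sub_right, QuadraticMap.polar_smul_right, polar_self_of_q Q hq, hwy]
    simp

section split

variable (Q : QuadraticForm F V) {W : Submodule F V} {w w' : V}

/-- the projection onto `perp2` -/
def proj2 (Q : QuadraticForm F V) (w w' : V) (x : V) : V :=
  x - QuadraticMap.polar Q w' x • w - QuadraticMap.polar Q w x • w'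

theorem proj2_mem (h : HypPair Q W w w') {x : V} (hx : x ∈ W) : proj2 Q w w' x ∈ perp2 Q W w w' := by
  rw [mem_perp2]
  refine ⟨W.sub_mem (W.sub_mem hx (W.smul_mem _ h.mem)) (W.smul_mem _ h.mem'), ?_, ?_⟩
  · unfold proj2
    rw [QuadraticMap.polar_sub_right, QuadraticMap.polar_sub_right, QuadraticMap.polar_smul_right,
      QuadraticMap.polar_smul_right, polar_self_of_q Q h.q, h.pol]
    simp
  · unfold proj2
    rw [QuadraticMap.polar_sub_right, QuadraticMap.polar_sub_right, QuadraticMap.polar_smul_right,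
      QuadraticMap.polar_smul_right, polar_self_of_q Q h.q', QuadraticMap.polar_comm (⇑Q) w' w, h.pol]
    simp

theorem proj2_decomp (x : V) :
    x = (QuadraticMap.polar Q w' x • w + QuadraticMap.polar Q w x • w') + proj2 Q w w' x := by
  unfold proj2
  abel

theorem pair_mem_span (a b : F) : a • w + b • w' ∈ Submodule.span F ({w, w'} : Set V) :=
  Submodule.add_mem _ (Submodule.smul_mem _ _ (Submodule.subset_span (by simp)))
    (Submodule.smul_mem _ _ (Submodule.subset_span (by simp)))

theorem span_pair_le (h : HypPair Q W w w') : Submodule.span F ({w, w'} : Set V) ≤ W := by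
  rw [Submodule.span_le]
  intro x hx
  rcases hx with rfl | rfl
  · exact h.mem
  · exact h.mem'

/-- `W = ⟨w, w'⟩ ⊔ perp2` -/
theorem span_sup_perp2 (h : HypPair Q W w w') :
    Submodule.span F ({w, w'} : Set V) ⊔ perp2 Q W w w' = W := by
  apply le_antisymm
  · exact sup_le (span_pair_le Q h) (perp2_le Q W w w')
  · intro x hx
    rw [proj2_decomp Q (w := w) (w' := w') x]
    exact Submodule.add_mem_sup (pair_mem_span _ _) (proj2_mem Q h hx)

theorem polar_pair_left (h : HypPair Q W w w') (a b : F) :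
    QuadraticMap.polar Q w (a • w + b • w') = b := by
  rw [QuadraticMap.polar_add_right, QuadraticMap.polar_smul_right, QuadraticMap.polar_smul_right,
    polar_self_of_q Q h.q, h.pol]
  simp

theorem polar_pair_right (h : HypPair Q W w w') (a b : F) :
    QuadraticMap.polar Q w' (a • w + b • w') = a := by
  rw [QuadraticMap.polar_add_right, QuadraticMap.polar_smul_right, QuadraticMap.polar_smul_right,
    polar_self_of_q Q h.q', QuadraticMap.polar_comm (⇑Q) w' w, h.pol]
  simp

theorem mem_span_pair' {x : V} (hx : x ∈ Submodule.span F ({w, w'} : Set V)) : ∃ a b : F, x = a • w + b • w' := by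
  rw [Submodule.mem_span_pair] at hx
  obtain ⟨a, b, rfl⟩ := hx
  exact ⟨a, b, rfl⟩

theorem span_disjoint_perp2 (h : HypPair Q W w w') :
    Disjoint (Submodule.span F ({w, w'} : Set V)) (perp2 Q W w w') := by
  rw [Submodule.disjoint_def]
  intro x hx hx'
  obtain ⟨a, b, rfl⟩ := mem_span_pair' hx
  rw [mem_perp2] at hx'
  have hb := hx'.2.1
  have ha := hx'.2.2
  rw [polar_pair_left Q h] at hb
  rw [polar_pair_right Q h] at ha
  rw [ha, hb]
  simp

theorem pair_linearIndependent (h : HypPair Q W w w') : LinearIndependent F ![w, w'] := by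
  rw [LinearIndependent.pair_iff]
  intro s t hst
  have h1 := polar_pair_left Q h s t
  have h2 := polar_pair_right Q h s t
  rw [hst, QuadraticMap.polar_zero_right] at h1 h2
  exact ⟨h2.symm, h1.symm⟩

theorem finrank_span_pair (h : HypPair Q W w w') : finrank F (Submodule.span F ({w, w'} : Set V)) = 2 := by
  have := finrank_span_eq_card (pair_linearIndependent Q h)
  rw [Fintype.card_fin] at this
  have hr : Set.range ![w, w'] = ({w, w'} : Set V) := by
    ext x
    simp only [Set.mem_range, Set.mem_insert_iff, Set.mem_singleton_iff]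
    constructor
    · rintro ⟨i, rfl⟩
      fin_cases i <;> simp
    · rintro (rfl | rfl)
      · exact ⟨0, rfl⟩
      · exact ⟨1, rfl⟩
  rwa [hr] at this

variable [FiniteDimensional F V]

/-- S2(a) -/
theorem finrank_perp2 (h : HypPair Q W w w') : finrank F (perp2 Q W w w') + 2 = finrank F W := by
  have h1 := Submodule.finrank_sup_add_finrank_inf_eq (Submodule.span F ({w, w'} : Set V)) (perp2 Q W w w')
  rw [span_sup_perp2 Q h, (span_disjoint_perp2 Q h).eq_bot, finrank_bot, finrank_span_pair Q h] at h1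
  omega

/-- S2(b) -/
theorem nd_perp2 (hW : Nd Q W) (h : HypPair Q W w w') : Nd Q (perp2 Q W w w') := by
  intro x hx hx0
  have hx' := (mem_perp2 Q W w w' x).1 hx
  obtain ⟨y, hy, hyx⟩ := hW x hx'.1 hx0
  refine ⟨proj2 Q w w' y, proj2_mem Q h hy, ?_⟩
  unfold proj2
  rw [QuadraticMap.polar_sub_left, QuadraticMap.polar_sub_left, QuadraticMap.polar_smul_left,
    QuadraticMap.polar_smul_left, hx'.2.1, hx'.2.2]
  simpa using hyx

end split


theorem mem_kerpol (Q : QuadraticForm F V) (w u : V) :
    u ∈ LinearMap.ker (QuadraticMap.polarBilin Q w) ↔ QuadraticMap.polar Q w u = 0 := by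
  rw [LinearMap.mem_ker, QuadraticMap.polarBilin_apply_apply]

theorem ts_sup_span (Q : QuadraticForm F V) {U : Submodule F V} {w : V} (hU : Ts Q U) (hq : Q w = 0)
    (hp : ∀ u ∈ U, QuadraticMap.polar Q w u = 0) : Ts Q (U ⊔ Submodule.span F {w}) := by
  intro x hx
  obtain ⟨u, hu, z, hz, rfl⟩ := Submodule.mem_sup.1 hx
  obtain ⟨c, rfl⟩ := Submodule.mem_span_singleton.1 hz
  rw [QuadraticMap.map_add (⇑Q), hU u hu, QuadraticMap.map_smul, hq, QuadraticMap.polar_smul_right,
    QuadraticMap.polar_comm, hp u hu]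
  simp

theorem finrank_sup_span [FiniteDimensional F V] {U : Submodule F V} {w : V} (hw : w ∉ U) :
    finrank F (U ⊔ Submodule.span F {w} : Submodule F V) = finrank F U + 1 := by
  have hw0 : w ≠ 0 := fun h => hw (h ▸ U.zero_mem)
  have h1 := Submodule.finrank_sup_add_finrank_inf_eq U (Submodule.span F {w})
  have hd : U ⊓ Submodule.span F {w} = ⊥ := by
    rw [eq_bot_iff]
    intro x hx
    obtain ⟨c, rfl⟩ := Submodule.mem_span_singleton.1 hx.2
    rw [Submodule.mem_bot]
    by_cases hc : c = 0
    · rw [hc, zero_smul]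
    · exfalso
      apply hw
      have := U.smul_mem c⁻¹ hx.1
      rwa [smul_smul, inv_mul_cancel₀ hc, one_smul] at this
  rw [hd, finrank_bot, finrank_span_singleton hw0] at h1
  omega

theorem finrank_le_inf_ker [FiniteDimensional F V] (U : Submodule F V) (φ : V →ₗ[F] F) :
    finrank F U ≤ finrank F (U ⊓ LinearMap.ker φ : Submodule F V) + 1 := by
  have h1 := Submodule.finrank_sup_add_finrank_inf_eq U (LinearMap.ker φ)
  have h2 := LinearMap.finrank_range_add_finrank_ker φ
  have h3 : finrank F (LinearMap.range φ) ≤ 1 := by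
    have := Submodule.finrank_le (LinearMap.range φ)
    rwa [finrank_self] at this
  have h4 := Submodule.finrank_le (U ⊔ LinearMap.ker φ)
  omega

variable [FiniteDimensional F V] (Q : QuadraticForm F V) {W : Submodule F V} {w w' : V}

/-- S3 : a totally singular subspace of `W` gives one of `perp2`, losing at most one dimension -/
theorem ts_reduce (h : HypPair Q W w w') {U : Submodule F V} (hUW : U ≤ W) (hU : Ts Q U) :
    ∃ U₁ : Submodule F V, U₁ ≤ perp2 Q W w w' ∧ Ts Q U₁ ∧ finrank F U ≤ finrank F U₁ + 1 := by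
  set U₀ : Submodule F V := U ⊓ LinearMap.ker (QuadraticMap.polarBilin Q w) with hU₀
  have hU₀p : ∀ u ∈ U₀, QuadraticMap.polar Q w u = 0 := by
    intro u hu
    exact (mem_kerpol Q w u).1 hu.2
  have hU₀ts : Ts Q U₀ := Ts.mono Q inf_le_left hU
  set U' : Submodule F V := U₀ ⊔ Submodule.span F {w} with hU'
  have hU'ts : Ts Q U' := ts_sup_span Q hU₀ts h.q hU₀p
  have hU'W : U' ≤ W := by
    apply sup_le (le_trans inf_le_left hUW)
    rw [Submodule.span_le]
    intro x hx
    rw [Set.mem_singleton_iff.1 hx]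
    exact h.mem
  have hU'p : ∀ x ∈ U', QuadraticMap.polar Q w x = 0 := by
    intro x hx
    obtain ⟨u, hu, z, hz, rfl⟩ := Submodule.mem_sup.1 hx
    obtain ⟨c, rfl⟩ := Submodule.mem_span_singleton.1 hz
    rw [QuadraticMap.polar_add_right, hU₀p u hu, QuadraticMap.polar_smul_right, polar_self_of_q Q h.q]
    simp
  have hdim : finrank F U ≤ finrank F U' := by
    by_cases hwU : w ∈ U
    · have : U ≤ U' := by
        intro u hu
        apply Submodule.mem_sup_left
        exact ⟨hu, (mem_kerpol Q w u).2 (Ts.polar Q hU hwU hu)⟩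
      exact Submodule.finrank_mono this
    · have hw0 : w ∉ U₀ := fun hw => hwU hw.1
      rw [hU', finrank_sup_span hw0]
      exact finrank_le_inf_ker U _
  refine ⟨U' ⊓ LinearMap.ker (QuadraticMap.polarBilin Q w'), ?_, Ts.mono Q inf_le_left hU'ts, ?_⟩
  · intro x hx
    rw [mem_perp2]
    exact ⟨hU'W hx.1, hU'p x hx.1, (mem_kerpol Q w' x).1 hx.2⟩
  · exact le_trans hdim (finrank_le_inf_ker U' _)

/-- S4 : a totally singular subspace of a non-degenerate `W` has at most half the dimension -/
theorem ts_bound : ∀ (d : ℕ) (W : Submodule F V), finrank F W = d → Nd Q W →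
    ∀ U : Submodule F V, U ≤ W → Ts Q U → 2 * finrank F U ≤ d := by
  intro d
  induction d using Nat.strong_induction_on with
  | _ d ih =>
    intro W hd hW U hUW hU
    by_cases hU0 : U = ⊥
    · rw [hU0, finrank_bot]; omega
    · obtain ⟨w, hw, hw0⟩ := Submodule.exists_mem_ne_zero_of_ne_bot hU0
      obtain ⟨w', hp⟩ := exists_partner Q hW (hUW hw) hw0 (hU w hw)
      obtain ⟨U₁, hU₁, hU₁ts, hdim⟩ := ts_reduce Q hp hUW hU
      have hf := finrank_perp2 Q hp
      have := ih (finrank F (perp2 Q W w w')) (by omega) (perp2 Q W w w') rfl (nd_perp2 Q hW hp) U₁ hU₁ hU₁ts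
      omega

/-- S7 : the complement of ANY hyperbolic pair of a non-degenerate plus-type `W` is of plus type -/
theorem plus_perp2 (hW : Nd Q W) (hp : Plus Q W) (h : HypPair Q W w w') : Plus Q (perp2 Q W w w') := by
  obtain ⟨U, hUW, hU, hdim⟩ := hp
  obtain ⟨U₁, hU₁, hU₁ts, hd1⟩ := ts_reduce Q h hUW hU
  have hf := finrank_perp2 Q h
  have hb := ts_bound Q _ (perp2 Q W w w') rfl (nd_perp2 Q hW h) U₁ hU₁ hU₁ts
  exact ⟨U₁, hU₁, hU₁ts, by omega⟩

/-- S5 : a non-zero non-degenerate plus-type `W` has a hyperbolic pair (whose complement is of plus type by S7) -/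
theorem exists_pair_of_plus (hW : Nd Q W) (hp : Plus Q W) (h0 : finrank F W ≠ 0) :
    ∃ w w', HypPair Q W w w' := by
  obtain ⟨U, hUW, hU, hdim⟩ := hp
  have hU0 : U ≠ ⊥ := by
    intro h
    rw [h, finrank_bot] at hdim
    omega
  obtain ⟨w, hw, hw0⟩ := Submodule.exists_mem_ne_zero_of_ne_bot hU0
  obtain ⟨w', hp⟩ := exists_partner Q hW (hUW hw) hw0 (hU w hw)
  exact ⟨w, w', hp⟩

/-- S6 : if the complement of a hyperbolic pair is of plus type, so is `W` -/
theorem plus_of_perp2 (h : HypPair Q W w w') (hp : Plus Q (perp2 Q W w w')) : Plus Q W := by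
  obtain ⟨U₁, hU₁, hU₁ts, hdim⟩ := hp
  have hpol : ∀ u ∈ U₁, QuadraticMap.polar Q w u = 0 := fun u hu => ((mem_perp2 Q W w w' u).1 (hU₁ hu)).2.1
  have hwU : w ∉ U₁ := by
    intro hw
    have := ((mem_perp2 Q W w w' w).1 (hU₁ hw)).2.2
    rw [QuadraticMap.polar_comm, h.pol] at this
    exact one_ne_zero this
  refine ⟨U₁ ⊔ Submodule.span F {w}, ?_, ts_sup_span Q hU₁ts h.q hpol, ?_⟩
  · apply sup_le (le_trans hU₁ (perp2_le Q W w w'))
    rw [Submodule.span_le]
    intro x hx
    rw [Set.mem_singleton_iff.1 hx]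
    exact h.mem
  · rw [finrank_sup_span hwU]
    have := finrank_perp2 Q h
    omega

end Cfsg.Agent.Lib.Helper18.QIso
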