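import Cfsg.Agent.Lib.Helper18.QISOA

set_option autoImplicit false
set_option linter.unusedVariables false
set_option linter.unusedSectionVars false
set_option linter.unusedSimpArgs false

/-!
# QISO (helper18), part B : gluing of isometries (`iso_sup`, `iso_span_pair`), any field.
-/

namespace Cfsg.Agent.Lib.Helper18.QIso

open Module

variable {F : Type*} [Field F] {V : Type*} [AddCommGroup V] [Module F V] (Q : QuadraticForm F V)

theorem Iso.refl (W : Submodule F V) : Iso Q W W := ⟨LinearEquiv.refl _ _, fun _ => rfl⟩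

theorem Iso.symm {W W' : Submodule F V} (h : Iso Q W W') : Iso Q W' W := by
  obtain ⟨e, he⟩ := h
  refine ⟨e.symm, fun w => ?_⟩
  have := he (e.symm w)
  rw [LinearEquiv.apply_symm_apply] at this
  exact this.symm

theorem Iso.trans {W W' W'' : Submodule F V} (h : Iso Q W W') (h' : Iso Q W' W'') : Iso Q W W'' := by
  obtain ⟨e, he⟩ := h
  obtain ⟨e', he'⟩ := h'
  exact ⟨e.trans e', fun w => by rw [LinearEquiv.trans_apply, he', he]⟩

theorem Iso.of_eq {W W' : Submodule F V} (h : W = W') : Iso Q W W' := by
  subst h
  exact Iso.refl Q W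

/-- the sum map `A × B → A ⊔ B` for disjoint `A`, `B` -/
noncomputable def supEquiv {A B : Submodule F V} (hd : Disjoint A B) : (A × B) ≃ₗ[F] ↥(A ⊔ B) := by
  have hinj : Function.Injective (A.subtype.coprod B.subtype) := by
    rw [← LinearMap.ker_eq_bot, LinearMap.ker_coprod_of_disjoint_range]
    · rw [Submodule.ker_subtype, Submodule.ker_subtype, Submodule.prod_bot]
    · rw [Submodule.range_subtype, Submodule.range_subtype]
      exact hd
  have hr : LinearMap.range (A.subtype.coprod B.subtype) = A ⊔ B := by
    rw [LinearMap.range_coprod, Submodule.range_subtype, Submodule.range_subtype]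
  exact (LinearEquiv.ofInjective _ hinj).trans (LinearEquiv.ofEq _ _ hr)

theorem supEquiv_coe {A B : Submodule F V} (hd : Disjoint A B) (p : A × B) :
    ((supEquiv hd p : ↥(A ⊔ B)) : V) = (p.1 : V) + (p.2 : V) := by
  unfold supEquiv
  simp [LinearEquiv.trans_apply, LinearEquiv.coe_ofEq_apply, LinearEquiv.ofInjective_apply, LinearMap.coprod_apply]

/-- orthogonal sums of isometric pieces are isometric -/
theorem iso_sup {A B A' B' : Submodule F V} (hd : Disjoint A B) (hd' : Disjoint A' B')
    (ho : ∀ a ∈ A, ∀ b ∈ B, QuadraticMap.polar Q a b = 0)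
    (ho' : ∀ a ∈ A', ∀ b ∈ B', QuadraticMap.polar Q a b = 0)
    (hA : Iso Q A A') (hB : Iso Q B B') : Iso Q (A ⊔ B) (A' ⊔ B') := by
  obtain ⟨eA, heA⟩ := hA
  obtain ⟨eB, heB⟩ := hB
  refine ⟨(supEquiv hd).symm.trans ((LinearEquiv.prodCongr eA eB).trans (supEquiv hd')), fun x => ?_⟩
  obtain ⟨p, rfl⟩ := (supEquiv hd).surjective x
  rw [LinearEquiv.trans_apply, LinearEquiv.symm_apply_apply, LinearEquiv.trans_apply, supEquiv_coe, supEquiv_coe]
  rw [QuadraticMap.map_add (⇑Q), QuadraticMap.map_add (⇑Q) (p.1 : V)]
  simp only [LinearEquiv.prodCongr_apply, Prod.map_fst, Prod.map_snd]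
  rw [heA, heB, ho _ (p.1).2 _ (p.2).2, ho' _ (eA p.1).2 _ (eB p.2).2]

/-- two pairs with the same (non-degenerate) Gram data span isometric subspaces -/
theorem iso_span_pair {x y x' y' : V} (hx : Q x = Q x') (hy : Q y = Q y')
    (hp : QuadraticMap.polar Q x y = QuadraticMap.polar Q x' y')
    (hdet : 4 * Q x * Q y - QuadraticMap.polar Q x y * QuadraticMap.polar Q x y ≠ 0) :
    Iso Q (Submodule.span F ({x, y} : Set V)) (Submodule.span F ({x', y'} : Set V)) := by
  have hli : ∀ {x y : V}, 4 * Q x * Q y - QuadraticMap.polar Q x y * QuadraticMap.polar Q x y ≠ 0 →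
      LinearIndependent F ![x, y] := by
    intro x y hdet
    rw [LinearIndependent.pair_iff]
    intro s t hst
    have h1 : QuadraticMap.polar Q x (s • x + t • y) = s * (2 * Q x) + t * QuadraticMap.polar Q x y := by
      rw [QuadraticMap.polar_add_right, QuadraticMap.polar_smul_right, QuadraticMap.polar_smul_right,
        QuadraticMap.polar_self]
      simp only [smul_eq_mul, nsmul_eq_mul, Nat.cast_ofNat]
    have h2 : QuadraticMap.polar Q y (s • x + t • y) = s * QuadraticMap.polar Q x y + t * (2 * Q y) := by
      rw [QuadraticMap.polar_add_right, QuadraticMap.polar_smul_right, QuadraticMap.polar_smul_right,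
        QuadraticMap.polar_self, QuadraticMap.polar_comm (⇑Q) y x]
      simp only [smul_eq_mul, nsmul_eq_mul, Nat.cast_ofNat]
    rw [hst, QuadraticMap.polar_zero_right] at h1 h2
    constructor
    · have : s * (4 * Q x * Q y - QuadraticMap.polar Q x y * QuadraticMap.polar Q x y) = 0 := by
        linear_combination (-(2 * Q y)) * h1 + QuadraticMap.polar Q x y * h2
      rcases mul_eq_zero.1 this with h | h
      · exact h
      · exact absurd h hdet
    · have : t * (4 * Q x * Q y - QuadraticMap.polar Q x y * QuadraticMap.polar Q x y) = 0 := by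
        linear_combination QuadraticMap.polar Q x y * h1 - (2 * Q x) * h2
      rcases mul_eq_zero.1 this with h | h
      · exact h
      · exact absurd h hdet
  have hdet' : 4 * Q x' * Q y' - QuadraticMap.polar Q x' y' * QuadraticMap.polar Q x' y' ≠ 0 := by
    rw [← hx, ← hy, ← hp]; exact hdet
  have hr : ∀ x y : V, Set.range ![x, y] = ({x, y} : Set V) := by
    intro x y
    ext z
    simp only [Set.mem_range, Set.mem_insert_iff, Set.mem_singleton_iff]
    constructor
    · rintro ⟨i, rfl⟩
      fin_cases i <;> simp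
    · rintro (rfl | rfl)
      · exact ⟨0, rfl⟩
      · exact ⟨1, rfl⟩
  have key : Iso Q (Submodule.span F (Set.range ![x, y])) (Submodule.span F (Set.range ![x', y'])) := by
    set b := Basis.span (hli hdet) with hb
    set b' := Basis.span (hli hdet') with hb'
    refine ⟨b.equiv b' (Equiv.refl _), fun w => ?_⟩
    have hw : w = ∑ i, b.repr w i • b i := (b.sum_repr w).symm
    have h1 : ((b.equiv b' (Equiv.refl _) w : _) : V) = b.repr w 0 • x' + b.repr w 1 • y' := by
      conv_lhs => rw [hw]
      rw [map_sum, Fin.sum_univ_two]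
      simp only [map_smul, Basis.equiv_apply, Equiv.refl_apply]
      rw [Submodule.coe_add, Submodule.coe_smul, Submodule.coe_smul, hb', Basis.span_apply, Basis.span_apply]
      simp
    have h2 : (w : V) = b.repr w 0 • x + b.repr w 1 • y := by
      conv_lhs => rw [hw]
      rw [Fin.sum_univ_two, Submodule.coe_add, Submodule.coe_smul, Submodule.coe_smul, hb, Basis.span_apply,
        Basis.span_apply]
      simp
    rw [h1, h2, q_lin2, q_lin2, hx, hy, hp]
  rw [hr, hr] at key
  exact key

end Cfsg.Agent.Lib.Helper18.QIso
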