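import Cfsg.Agent.Lib.Helper18.QISOB

set_option autoImplicit false
set_option linter.unusedVariables false
set_option linter.unusedSectionVars false
set_option linter.unusedSimpArgs false

/-!
# QISO (helper18), part C : FINITE fields.
* `qiso_repr`, `nonsq_mul`, `wp_add` : field lemmas (binary diagonal forms are universal in odd characteristic; the product of two
  non-squares is a square; in characteristic 2 the image of `l ↦ l² + l` has index 2).
* `exists_singular` : a non-degenerate subspace of dimension at least 3 contains a non-zero singular vector.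
* `iso_aniso_plane` : two anisotropic non-degenerate planes are isometric.
* `iso_of_type` : non-degenerate subspaces of the same even dimension and the same type are isometric.
* `plus_of_sup` : type additivity (`A` and `A ⊥ B` of plus type ==> `B` of plus type; any field).
-/

namespace Cfsg.Agent.Lib.Helper18.QIso

section fieldlemmas

open Module

variable {F : Type*} [Field F] [Fintype F]

open Polynomial in
/-- a binary diagonal form over a finite field of odd characteristic represents everything -/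
theorem qiso_repr (h2 : (2 : F) ≠ 0) (a γ : F) (ha : a ≠ 0) (hγ : γ ≠ 0) (c : F) :
    ∃ s t : F, a * s ^ 2 + γ * t ^ 2 = c := by
  classical
  have hch : ringChar F ≠ 2 := by
    intro h
    apply h2
    have := CharP.cast_eq_zero F (ringChar F)
    rw [h] at this
    exact_mod_cast this
  have hF : Fintype.card F % 2 = 1 := FiniteField.odd_card_of_char_ne_two hch
  have hf : (C a * X ^ 2 : F[X]).degree = 2 := by
    rw [Polynomial.degree_C_mul_X_pow 2 ha]; rfl
  have hg : (C γ * X ^ 2 - C c : F[X]).degree = 2 := by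
    rw [Polynomial.degree_sub_eq_left_of_degree_lt]
    · rw [Polynomial.degree_C_mul_X_pow 2 hγ]; rfl
    · rw [Polynomial.degree_C_mul_X_pow 2 hγ]
      exact lt_of_le_of_lt Polynomial.degree_C_le (by norm_num)
  obtain ⟨s, t, h⟩ := FiniteField.exists_root_sum_quadratic hf hg hF
  refine ⟨s, t, ?_⟩
  simp only [eval_mul, eval_C, eval_pow, eval_X, eval_sub] at h
  linear_combination h

/-- the product of two non-squares of a finite field is a square -/
theorem nonsq_mul {a b : F} (ha : ¬ IsSquare a) (hb : ¬ IsSquare b) : IsSquare (a * b) := by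
  classical
  have ha0 : a ≠ 0 := fun h => ha (h ▸ IsSquare.zero)
  have hb0 : b ≠ 0 := fun h => hb (h ▸ IsSquare.zero)
  rw [← quadraticChar_one_iff_isSquare (mul_ne_zero ha0 hb0), map_mul,
    quadraticChar_neg_one_iff_not_isSquare.2 ha, quadraticChar_neg_one_iff_not_isSquare.2 hb]
  norm_num

/-- characteristic 2: if neither `c` nor `c'` is of the form `λ² + λ`, then `c + c'` is -/
theorem wp_add (h2 : (2 : F) = 0) {c c' : F} (hc : ∀ l : F, l * l + l ≠ c) (hc' : ∀ l : F, l * l + l ≠ c') :
    ∃ l : F, l * l + l = c + c' := by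
  classical
  let wp : F →+ F :=
    { toFun := fun l => l * l + l
      map_zero' := by simp
      map_add' := fun a b => by
        have : a * b + b * a = 0 := by
          have : a * b + b * a = 2 * (a * b) := by ring
          rw [this, h2, zero_mul]
        linear_combination this }
  have hker : Nat.card wp.ker = 2 := by
    rw [Nat.card_eq_two_iff]
    refine ⟨⟨0, by rw [AddMonoidHom.mem_ker]; simp [wp]⟩, ⟨1, ?_⟩, ?_, ?_⟩
    · rw [AddMonoidHom.mem_ker]
      show (1 : F) * 1 + 1 = 0
      rw [mul_one, one_add_one_eq_two, h2]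
    · intro h
      have := congrArg Subtype.val h
      exact zero_ne_one this
    · ext ⟨l, hl⟩
      simp only [Set.mem_insert_iff, Set.mem_singleton_iff, Set.mem_univ, iff_true, Subtype.mk.injEq]
      rw [AddMonoidHom.mem_ker] at hl
      have hl' : l * (l + 1) = 0 := by
        have : l * l + l = 0 := hl
        linear_combination this
      rcases mul_eq_zero.1 hl' with h | h
      · exact Or.inl h
      · right
        have : l = -1 := eq_neg_of_add_eq_zero_left h
        rw [this]
        have : (1 : F) + 1 = 0 := by rw [one_add_one_eq_two, h2]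
        exact neg_eq_of_add_eq_zero_left this
  have hidx : wp.range.index = 2 := by
    have h1 := AddSubgroup.card_mul_index wp.ker
    have h2' := AddSubgroup.card_mul_index wp.range
    rw [AddSubgroup.index_ker] at h1
    have hpos : 0 < Nat.card wp.range := Nat.card_pos
    rw [hker] at h1
    have : Nat.card wp.range * wp.range.index = Nat.card wp.range * 2 := by
      rw [h2', ← h1, mul_comm]
    exact Nat.eq_of_mul_eq_mul_left hpos this
  have hmem : ∀ x : F, x ∈ wp.range ↔ ∃ l : F, l * l + l = x := by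
    intro x
    rw [AddMonoidHom.mem_range]
    rfl
  have h3 := AddSubgroup.add_mem_iff_of_index_two hidx (a := c) (b := c')
  have hcn : c ∉ wp.range := by
    rw [hmem]
    rintro ⟨l, hl⟩
    exact hc l hl
  have hcn' : c' ∉ wp.range := by
    rw [hmem]
    rintro ⟨l, hl⟩
    exact hc' l hl
  exact (hmem _).1 (h3.2 ⟨fun h => absurd h hcn, fun h => absurd h hcn'⟩)

end fieldlemmas

section sing

open Module

variable {F : Type*} [Field F] {V : Type*} [AddCommGroup V] [Module F V] (Q : QuadraticForm F V)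

theorem range_pair (x y : V) : Set.range ![x, y] = ({x, y} : Set V) := by
  ext z
  simp only [Set.mem_range, Set.mem_insert_iff, Set.mem_singleton_iff]
  constructor
  · rintro ⟨i, rfl⟩
    fin_cases i <;> simp
  · rintro (rfl | rfl)
    · exact ⟨0, rfl⟩
    · exact ⟨1, rfl⟩

theorem li_of_gram {x y : V}
    (hdet : 4 * Q x * Q y - QuadraticMap.polar Q x y * QuadraticMap.polar Q x y ≠ 0) :
    LinearIndependent F ![x, y] := by
  rw [LinearIndependent.pair_iff]
  intro s t hst
  have h1 : QuadraticMap.polar Q x (s • x + t • y) = s * (2 * Q x) + t * QuadraticMap.polar Q x y := by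
    rw [QuadraticMap.polar_add_right, QuadraticMap.polar_smul_right, QuadraticMap.polar_smul_right,
      QuadraticMap.polar_self]
    simp only [smul_eq_mul, nsmul_eq_mul, Nat.cast_ofNat]
  have h2 : QuadraticMap.polar Q y (s • x + t • y) = s * QuadraticMap.polar Q x y + t * (2 * Q y) := by
    rw [QuadraticMap.polar_add_right, QuadraticMap.polar_smul_right, QuadraticMap.polar_smul_right,
      QuadraticMap.polar_self, QuadraticMap.polar_comm (⇑Q) y x]
    simp only [smul_eq_mul, nsmul_eq_mul, Nat.cast_ofNat]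
  rw [hst, QuadraticMap.polar_zero_right] at h1 h2
  constructor
  · have : s * (4 * Q x * Q y - QuadraticMap.polar Q x y * QuadraticMap.polar Q x y) = 0 := by
      linear_combination (-(2 * Q y)) * h1 + QuadraticMap.polar Q x y * h2
    rcases mul_eq_zero.1 this with h | h
    · exact h
    · exact absurd h hdet
  · have : t * (4 * Q x * Q y - QuadraticMap.polar Q x y * QuadraticMap.polar Q x y) = 0 := by
      linear_combination QuadraticMap.polar Q x y * h1 - (2 * Q x) * h2
    rcases mul_eq_zero.1 this with h | h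
    · exact h
    · exact absurd h hdet

/-- a plane containing a pair with non-degenerate Gram data is its span -/
theorem eq_span_of_gram [FiniteDimensional F V] {W : Submodule F V} (h2 : finrank F W = 2) {x y : V}
    (hx : x ∈ W) (hy : y ∈ W)
    (hdet : 4 * Q x * Q y - QuadraticMap.polar Q x y * QuadraticMap.polar Q x y ≠ 0) :
    Submodule.span F ({x, y} : Set V) = W := by
  apply Submodule.eq_of_le_of_finrank_eq
  · rw [Submodule.span_le]
    intro z hz
    rcases hz with rfl | rfl
    · exact hx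
    · exact hy
  · have := finrank_span_eq_card (li_of_gram Q hdet)
    rw [Fintype.card_fin, range_pair] at this
    rw [this, h2]

theorem exists_ne_zero_of_finrank_pos {U : Submodule F V} (h : 0 < finrank F U) : ∃ u ∈ U, u ≠ 0 := by
  apply Submodule.exists_mem_ne_zero_of_ne_bot
  intro h0
  rw [h0, finrank_bot] at h
  exact lt_irrefl 0 h

variable [FiniteDimensional F V] [Fintype F]

/-- S8 : a non-degenerate subspace of dimension at least 3 over a finite field has a non-zero singular vector -/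
theorem exists_singular {W : Submodule F V} (hW : Nd Q W) (h3 : 3 ≤ finrank F W) :
    ∃ w ∈ W, w ≠ 0 ∧ Q w = 0 := by
  by_contra hne
  push Not at hne
  obtain ⟨x, hxW, hx0⟩ := exists_ne_zero_of_finrank_pos (U := W) (by omega)
  have ha : Q x ≠ 0 := hne x hxW hx0
  set K : Submodule F V := W ⊓ LinearMap.ker (QuadraticMap.polarBilin Q x) with hK
  have hKd : finrank F W ≤ finrank F K + 1 := finrank_le_inf_ker W _
  by_cases h2 : (2 : F) = 0
  · -- characteristic 2
    have hxK : x ∈ K := ⟨hxW, (mem_kerpol Q x x).2 (by rw [QuadraticMap.polar_self, two_nsmul, ← two_mul, h2, zero_mul])⟩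
    have hnle : ¬ K ≤ Submodule.span F {x} := by
      intro hle
      have := Submodule.finrank_mono hle
      rw [finrank_span_singleton hx0] at this
      omega
    obtain ⟨z, hzK, hzx⟩ := SetLike.not_le_iff_exists.1 hnle
    have hz0 : z ≠ 0 := fun h => hzx (h ▸ Submodule.zero_mem _)
    have hc : Q z ≠ 0 := hne z hzK.1 hz0
    have hch : ringChar F = 2 := CharP.ringChar_of_prime_eq_zero Nat.prime_two (by exact_mod_cast h2)
    obtain ⟨r, hr⟩ := FiniteField.isSquare_of_char_two hch (Q x / Q z)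
    have hr0 : r ≠ 0 := by
      rintro rfl
      rw [mul_zero] at hr
      exact (div_ne_zero ha hc) hr
    have hpol : QuadraticMap.polar Q x z = 0 := (mem_kerpol Q x z).1 hzK.2
    have hw : (1 : F) • x + r • z ∈ W := W.add_mem (W.smul_mem _ hxW) (W.smul_mem _ hzK.1)
    have hw0 : (1 : F) • x + r • z ≠ 0 := by
      intro h
      apply hzx
      rw [Submodule.mem_span_singleton]
      refine ⟨-r⁻¹, ?_⟩
      have : r • z = -x := by
        rw [one_smul] at h
        exact (neg_eq_of_add_eq_zero_right h).symm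
      calc (-r⁻¹) • x = r⁻¹ • (-x) := by rw [neg_smul, smul_neg]
        _ = r⁻¹ • (r • z) := by rw [this]
        _ = z := by rw [smul_smul, inv_mul_cancel₀ hr0, one_smul]
    apply hne _ hw hw0
    have hrz : r * r * Q z = Q x := by rw [← hr]; field_simp
    rw [q_lin2, hpol, hrz]
    have : (1 : F) * 1 * Q x + Q x + 1 * r * 0 = 2 * Q x := by ring
    rw [this, h2, zero_mul]
  · -- odd characteristic
    obtain ⟨y, hyK, hy0⟩ := exists_ne_zero_of_finrank_pos (U := K) (by omega)
    have hb : Q y ≠ 0 := hne y hyK.1 hy0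
    have hxy : QuadraticMap.polar Q x y = 0 := (mem_kerpol Q x y).1 hyK.2
    set K' : Submodule F V := K ⊓ LinearMap.ker (QuadraticMap.polarBilin Q y) with hK'
    have hK'd : finrank F K ≤ finrank F K' + 1 := finrank_le_inf_ker K _
    obtain ⟨z, hzK', hz0⟩ := exists_ne_zero_of_finrank_pos (U := K') (by omega)
    have hc : Q z ≠ 0 := hne z hzK'.1.1 hz0
    have hxz : QuadraticMap.polar Q x z = 0 := (mem_kerpol Q x z).1 hzK'.1.2
    have hyz : QuadraticMap.polar Q y z = 0 := (mem_kerpol Q y z).1 hzK'.2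
    obtain ⟨s, t, hst⟩ := qiso_repr h2 (Q x) (Q y) ha hb (- Q z)
    have hw : (s • x + t • y) + z ∈ W :=
      W.add_mem (W.add_mem (W.smul_mem _ hxW) (W.smul_mem _ hyK.1)) hzK'.1.1
    have hw0 : (s • x + t • y) + z ≠ 0 := by
      intro h
      have h1 : QuadraticMap.polar Q z ((s • x + t • y) + z) = 2 * Q z := by
        rw [QuadraticMap.polar_add_right, QuadraticMap.polar_add_right, QuadraticMap.polar_smul_right,
          QuadraticMap.polar_smul_right, QuadraticMap.polar_comm (⇑Q) z x, QuadraticMap.polar_comm (⇑Q) z y,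
          hxz, hyz, QuadraticMap.polar_self]
        simp
      rw [h, QuadraticMap.polar_zero_right] at h1
      exact (mul_ne_zero h2 hc) h1.symm
    apply hne _ hw hw0
    rw [QuadraticMap.map_add (⇑Q), q_lin2, hxy, QuadraticMap.polar_add_left, QuadraticMap.polar_smul_left,
      QuadraticMap.polar_smul_left, hxz, hyz]
    simp only [smul_eq_mul, mul_zero, add_zero]
    linear_combination hst

end sing

section planes

open Module

variable {F : Type*} [Field F] {V : Type*} [AddCommGroup V] [Module F V] (Q : QuadraticForm F V)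
variable [FiniteDimensional F V] [Fintype F]

/-- normal form of an anisotropic plane, odd characteristic -/
theorem aniso_nf_odd (h2F : (2 : F) ≠ 0) {W : Submodule F V} (hW : Nd Q W) (h2 : finrank F W = 2)
    (ha : ∀ w ∈ W, w ≠ 0 → Q w ≠ 0) :
    ∃ x y : V, x ∈ W ∧ y ∈ W ∧ Q x = 1 ∧ QuadraticMap.polar Q x y = 0 ∧ ¬ IsSquare (- Q y) := by
  obtain ⟨x₀, hx₀W, hx₀⟩ := exists_ne_zero_of_finrank_pos (U := W) (by omega)
  have ha₀ : Q x₀ ≠ 0 := ha x₀ hx₀W hx₀
  have hKd := finrank_le_inf_ker W (QuadraticMap.polarBilin Q x₀)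
  obtain ⟨y₀, hy₀K, hy₀⟩ := exists_ne_zero_of_finrank_pos
    (U := W ⊓ LinearMap.ker (QuadraticMap.polarBilin Q x₀)) (by omega)
  have hb₀ : Q y₀ ≠ 0 := ha y₀ hy₀K.1 hy₀
  have hxy₀ : QuadraticMap.polar Q x₀ y₀ = 0 := (mem_kerpol Q x₀ y₀).1 hy₀K.2
  obtain ⟨s, t, hst⟩ := qiso_repr h2F (Q x₀) (Q y₀) ha₀ hb₀ 1
  obtain ⟨x, hx⟩ : ∃ x, x = s • x₀ + t • y₀ := ⟨_, rfl⟩
  have hxW : x ∈ W := by rw [hx]; exact W.add_mem (W.smul_mem _ hx₀W) (W.smul_mem _ hy₀K.1)
  have hQx : Q x = 1 := by
    rw [hx, q_lin2, hxy₀]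
    linear_combination hst
  have hKd' := finrank_le_inf_ker W (QuadraticMap.polarBilin Q x)
  obtain ⟨y, hyK, hy0⟩ := exists_ne_zero_of_finrank_pos
    (U := W ⊓ LinearMap.ker (QuadraticMap.polarBilin Q x)) (by omega)
  have hxy : QuadraticMap.polar Q x y = 0 := (mem_kerpol Q x y).1 hyK.2
  have hd : Q y ≠ 0 := ha y hyK.1 hy0
  refine ⟨x, y, hxW, hyK.1, hQx, hxy, ?_⟩
  rintro ⟨r, hr⟩
  have hw : r • x + (1 : F) • y ∈ W := W.add_mem (W.smul_mem _ hxW) (W.smul_mem _ hyK.1)
  have hw0 : r • x + (1 : F) • y ≠ 0 := by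
    intro h
    have h1 : QuadraticMap.polar Q y (r • x + (1 : F) • y) = 2 * Q y := by
      rw [QuadraticMap.polar_add_right, QuadraticMap.polar_smul_right, QuadraticMap.polar_smul_right,
        QuadraticMap.polar_comm (⇑Q) y x, hxy, QuadraticMap.polar_self]
      simp
    rw [h, QuadraticMap.polar_zero_right] at h1
    exact (mul_ne_zero h2F hd) h1.symm
  apply ha _ hw hw0
  rw [q_lin2, hQx, hxy]
  linear_combination -hr

/-- normal form of an anisotropic plane, characteristic 2 -/
theorem aniso_nf_two (h2F : (2 : F) = 0) {W : Submodule F V} (hW : Nd Q W) (h2 : finrank F W = 2)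
    (ha : ∀ w ∈ W, w ≠ 0 → Q w ≠ 0) :
    ∃ x y : V, x ∈ W ∧ y ∈ W ∧ Q x = 1 ∧ QuadraticMap.polar Q x y = 1 ∧ ∀ l : F, l * l + l ≠ Q y := by
  obtain ⟨x₀, hx₀W, hx₀⟩ := exists_ne_zero_of_finrank_pos (U := W) (by omega)
  have ha₀ : Q x₀ ≠ 0 := ha x₀ hx₀W hx₀
  have hch : ringChar F = 2 := CharP.ringChar_of_prime_eq_zero Nat.prime_two (by exact_mod_cast h2F)
  obtain ⟨r, hr⟩ := FiniteField.isSquare_of_char_two hch (Q x₀)
  have hr0 : r ≠ 0 := by
    rintro rfl
    rw [mul_zero] at hr
    exact ha₀ hr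
  obtain ⟨x, hx⟩ : ∃ x, x = r⁻¹ • x₀ := ⟨_, rfl⟩
  have hxW : x ∈ W := by rw [hx]; exact W.smul_mem _ hx₀W
  have hQx : Q x = 1 := by
    rw [hx, QuadraticMap.map_smul, hr, smul_eq_mul]
    field_simp
  have hx0 : x ≠ 0 := by
    intro h
    rw [h, map_zero] at hQx
    exact zero_ne_one hQx
  obtain ⟨y₀, hy₀W, hy₀⟩ := hW x hxW hx0
  obtain ⟨y, hy⟩ : ∃ y, y = (QuadraticMap.polar Q y₀ x)⁻¹ • y₀ := ⟨_, rfl⟩
  have hyW : y ∈ W := by rw [hy]; exact W.smul_mem _ hy₀W
  have hxy : QuadraticMap.polar Q x y = 1 := by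
    rw [hy, QuadraticMap.polar_smul_right, QuadraticMap.polar_comm (⇑Q) x y₀, smul_eq_mul, inv_mul_cancel₀ hy₀]
  have hxx : QuadraticMap.polar Q x x = 0 := by
    rw [QuadraticMap.polar_self, two_nsmul, ← two_mul, h2F, zero_mul]
  refine ⟨x, y, hxW, hyW, hQx, hxy, ?_⟩
  intro l hl
  have hw : l • x + (1 : F) • y ∈ W := W.add_mem (W.smul_mem _ hxW) (W.smul_mem _ hyW)
  have hw0 : l • x + (1 : F) • y ≠ 0 := by
    intro h
    have h1 : QuadraticMap.polar Q x (l • x + (1 : F) • y) = 1 := by
      rw [QuadraticMap.polar_add_right, QuadraticMap.polar_smul_right, QuadraticMap.polar_smul_right, hxx, hxy]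
      simp
    rw [h, QuadraticMap.polar_zero_right] at h1
    exact zero_ne_one h1
  apply ha _ hw hw0
  rw [q_lin2, hQx, hxy, ← hl]
  have : l * l * 1 + 1 * 1 * (l * l + l) + l * 1 * 1 = 2 * (l * l + l) := by ring
  rw [this, h2F, zero_mul]

/-- S10 : two anisotropic non-degenerate planes over a finite field are isometric -/
theorem iso_aniso_plane {W W' : Submodule F V} (hW : Nd Q W) (hW' : Nd Q W') (h2 : finrank F W = 2)
    (h2' : finrank F W' = 2) (ha : ∀ w ∈ W, w ≠ 0 → Q w ≠ 0) (ha' : ∀ w ∈ W', w ≠ 0 → Q w ≠ 0) :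
    Iso Q W W' := by
  by_cases h2F : (2 : F) = 0
  · obtain ⟨x, y, hx, hy, hQx, hxy, hc⟩ := aniso_nf_two Q h2F hW h2 ha
    obtain ⟨x', y', hx', hy', hQx', hxy', hc'⟩ := aniso_nf_two Q h2F hW' h2' ha'
    obtain ⟨l, hl⟩ := wp_add h2F hc hc'
    have h4 : (4 : F) = 0 := by
      have : (4 : F) = 2 * 2 := by norm_num
      rw [this, h2F, zero_mul]
    have hxx' : QuadraticMap.polar Q x' x' = 0 := by
      rw [QuadraticMap.polar_self, two_nsmul, ← two_mul, h2F, zero_mul]
    obtain ⟨y'', hy''⟩ : ∃ y'', y'' = (1 : F) • y' + l • x' := ⟨_, rfl⟩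
    have hy''W : y'' ∈ W' := by rw [hy'']; exact W'.add_mem (W'.smul_mem _ hy') (W'.smul_mem _ hx')
    have hQy'' : Q y'' = Q y := by
      rw [hy'', q_lin2, hQx', QuadraticMap.polar_comm (⇑Q) y' x', hxy']
      have : (1 : F) * 1 * Q y' + l * l * 1 + 1 * l * 1 = Q y + 2 * Q y' := by linear_combination hl
      rw [this, h2F, zero_mul, add_zero]
    have hxy'' : QuadraticMap.polar Q x' y'' = 1 := by
      rw [hy'', QuadraticMap.polar_add_right, QuadraticMap.polar_smul_right, QuadraticMap.polar_smul_right,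
        hxy', hxx']
      simp
    have hdet : 4 * Q x * Q y - QuadraticMap.polar Q x y * QuadraticMap.polar Q x y ≠ 0 := by
      rw [h4, hxy]
      simp
    have hdet' : 4 * Q x' * Q y'' - QuadraticMap.polar Q x' y'' * QuadraticMap.polar Q x' y'' ≠ 0 := by
      rw [h4, hxy'']
      simp
    have := iso_span_pair Q (x := x) (y := y) (x' := x') (y' := y'') (by rw [hQx, hQx']) hQy''.symm
      (by rw [hxy, hxy'']) hdet
    rwa [eq_span_of_gram Q h2 hx hy hdet, eq_span_of_gram Q h2' hx' hy''W hdet'] at this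
  · obtain ⟨x, y, hx, hy, hQx, hxy, hc⟩ := aniso_nf_odd Q h2F hW h2 ha
    obtain ⟨x', y', hx', hy', hQx', hxy', hc'⟩ := aniso_nf_odd Q h2F hW' h2' ha'
    obtain ⟨ν, hν⟩ := nonsq_mul hc hc'
    have hd' : Q y' ≠ 0 := by
      intro h
      apply hc'
      rw [h, neg_zero]
      exact IsSquare.zero
    have hd : Q y ≠ 0 := by
      intro h
      apply hc
      rw [h, neg_zero]
      exact IsSquare.zero
    have h4 : (4 : F) ≠ 0 := by
      have : (4 : F) = 2 * 2 := by norm_num
      rw [this]
      exact mul_ne_zero h2F h2F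
    obtain ⟨y'', hy''⟩ : ∃ y'', y'' = (ν / Q y') • y' := ⟨_, rfl⟩
    have hy''W : y'' ∈ W' := by rw [hy'']; exact W'.smul_mem _ hy'
    have hQy'' : Q y'' = Q y := by
      rw [hy'', QuadraticMap.map_smul, smul_eq_mul]
      field_simp
      linear_combination -hν
    have hxy'' : QuadraticMap.polar Q x' y'' = 0 := by
      rw [hy'', QuadraticMap.polar_smul_right, hxy', smul_zero]
    have hdet : 4 * Q x * Q y - QuadraticMap.polar Q x y * QuadraticMap.polar Q x y ≠ 0 := by
      rw [hxy, hQx]
      simpa using mul_ne_zero h4 hd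
    have hdet' : 4 * Q x' * Q y'' - QuadraticMap.polar Q x' y'' * QuadraticMap.polar Q x' y'' ≠ 0 := by
      rw [hxy'', hQx', hQy'']
      simpa using mul_ne_zero h4 hd
    have := iso_span_pair Q (x := x) (y := y) (x' := x') (y' := y'') (by rw [hQx, hQx']) hQy''.symm
      (by rw [hxy, hxy'']) hdet
    rwa [eq_span_of_gram Q h2 hx hy hdet, eq_span_of_gram Q h2' hx' hy''W hdet'] at this

end planes

section classif

open Module

variable {F : Type*} [Field F] {V : Type*} [AddCommGroup V] [Module F V] (Q : QuadraticForm F V)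
variable [FiniteDimensional F V]

/-- gluing along hyperbolic pairs -/
theorem iso_of_perp2 {W W' : Submodule F V} {w w' v v' : V} (h : HypPair Q W w w') (h' : HypPair Q W' v v')
    (hi : Iso Q (perp2 Q W w w') (perp2 Q W' v v')) : Iso Q W W' := by
  have hsp : Iso Q (Submodule.span F ({w, w'} : Set V)) (Submodule.span F ({v, v'} : Set V)) := by
    apply iso_span_pair Q
    · rw [h.q, h'.q]
    · rw [h.q', h'.q']
    · rw [h.pol, h'.pol]
    · rw [h.q, h.pol]
      simp
  have ho : ∀ {W : Submodule F V} {w w' : V}, HypPair Q W w w' →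
      ∀ a ∈ Submodule.span F ({w, w'} : Set V), ∀ b ∈ perp2 Q W w w', QuadraticMap.polar Q a b = 0 := by
    intro W w w' h a ha b hb
    obtain ⟨s, t, rfl⟩ := mem_span_pair' ha
    have hb' := (mem_perp2 Q W w w' b).1 hb
    rw [QuadraticMap.polar_add_left, QuadraticMap.polar_smul_left, QuadraticMap.polar_smul_left, hb'.2.1, hb'.2.2]
    simp
  have := iso_sup Q (span_disjoint_perp2 Q h) (span_disjoint_perp2 Q h') (ho h) (ho h') hsp hi
  rwa [span_sup_perp2 Q h, span_sup_perp2 Q h'] at this

/-- a non-plus non-degenerate plane is anisotropic -/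
theorem aniso_of_not_plus {W : Submodule F V} (h2 : finrank F W = 2) (hp : ¬ Plus Q W) :
    ∀ w ∈ W, w ≠ 0 → Q w ≠ 0 := by
  intro w hw hw0 hq
  apply hp
  refine ⟨Submodule.span F {w}, ?_, ?_, ?_⟩
  · rw [Submodule.span_le]
    intro x hx
    rw [Set.mem_singleton_iff.1 hx]
    exact hw
  · intro u hu
    obtain ⟨c, rfl⟩ := Submodule.mem_span_singleton.1 hu
    rw [QuadraticMap.map_smul, hq, smul_zero]
  · rw [finrank_span_singleton hw0, h2]

/-- S11 : non-degenerate subspaces of the same even dimension and the same type are isometric -/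
theorem iso_of_type_aux [Fintype F] : ∀ (k : ℕ) (W W' : Submodule F V), Nd Q W → Nd Q W' →
    finrank F W = 2 * k → finrank F W' = 2 * k → (Plus Q W ↔ Plus Q W') → Iso Q W W' := by
  intro k
  induction k with
  | zero =>
    intro W W' _ _ hd hd' _
    have h1 : W = ⊥ := Submodule.finrank_eq_zero.1 (by omega)
    have h2 : W' = ⊥ := Submodule.finrank_eq_zero.1 (by omega)
    rw [h1, h2]
    exact Iso.refl Q ⊥
  | succ k ih =>
    intro W W' hW hW' hd hd' hiff
    have step : ∀ {w w' v v' : V}, HypPair Q W w w' → HypPair Q W' v v' →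
        (Plus Q (perp2 Q W w w') ↔ Plus Q (perp2 Q W' v v')) → Iso Q W W' := by
      intro w w' v v' h h' hiff'
      have hf := finrank_perp2 Q h
      have hf' := finrank_perp2 Q h'
      exact iso_of_perp2 Q h h' (ih _ _ (nd_perp2 Q hW h) (nd_perp2 Q hW' h') (by omega) (by omega) hiff')
    by_cases hp : Plus Q W
    · have hp' : Plus Q W' := hiff.1 hp
      obtain ⟨w, w', h⟩ := exists_pair_of_plus Q hW hp (by omega)
      obtain ⟨v, v', h'⟩ := exists_pair_of_plus Q hW' hp' (by omega)
      exact step h h' ⟨fun _ => plus_perp2 Q hW' hp' h', fun _ => plus_perp2 Q hW hp h⟩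
    · have hp' : ¬ Plus Q W' := fun h => hp (hiff.2 h)
      by_cases hk : k = 0
      · subst hk
        exact iso_aniso_plane Q hW hW' (by omega) (by omega) (aniso_of_not_plus Q (by omega) hp)
          (aniso_of_not_plus Q (by omega) hp')
      · obtain ⟨w, hwW, hw0, hq⟩ := exists_singular Q hW (by omega)
        obtain ⟨w', h⟩ := exists_partner Q hW hwW hw0 hq
        obtain ⟨v, hvW, hv0, hqv⟩ := exists_singular Q hW' (by omega)
        obtain ⟨v', h'⟩ := exists_partner Q hW' hvW hv0 hqv
        exact step h h' ⟨fun hx => absurd (plus_of_perp2 Q h hx) hp, fun hx => absurd (plus_of_perp2 Q h' hx) hp'⟩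

theorem iso_of_type [Fintype F] {W W' : Submodule F V} (hW : Nd Q W) (hW' : Nd Q W')
    (hd : finrank F W = finrank F W') (hev : Even (finrank F W)) (hiff : Plus Q W ↔ Plus Q W') :
    Iso Q W W' := by
  obtain ⟨k, hk⟩ := hev
  exact iso_of_type_aux Q k W W' hW hW' (by omega) (by omega) hiff

/-- the orthogonal sum of two non-degenerate subspaces is non-degenerate -/
theorem nd_sup {A B : Submodule F V} (hA : Nd Q A) (hB : Nd Q B)
    (ho : ∀ a ∈ A, ∀ b ∈ B, QuadraticMap.polar Q a b = 0) : Nd Q (A ⊔ B) := by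
  intro x hx hx0
  obtain ⟨a, ha, b, hb, rfl⟩ := Submodule.mem_sup.1 hx
  by_cases ha0 : a = 0
  · have hb0 : b ≠ 0 := by
      intro h
      apply hx0
      rw [ha0, h, add_zero]
    obtain ⟨b', hb', hbb⟩ := hB b hb hb0
    refine ⟨b', Submodule.mem_sup_right hb', ?_⟩
    rw [QuadraticMap.polar_add_right, QuadraticMap.polar_comm (⇑Q) b' a, ho a ha b' hb', zero_add]
    exact hbb
  · obtain ⟨a', ha', haa⟩ := hA a ha ha0
    refine ⟨a', Submodule.mem_sup_left ha', ?_⟩
    rw [QuadraticMap.polar_add_right, ho a' ha' b hb, add_zero]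
    exact haa

theorem perp2_sup {A B : Submodule F V} {w w' : V} (hw : w ∈ A) (hw' : w' ∈ A)
    (ho : ∀ a ∈ A, ∀ b ∈ B, QuadraticMap.polar Q a b = 0) :
    perp2 Q (A ⊔ B) w w' = perp2 Q A w w' ⊔ B := by
  apply le_antisymm
  · intro x hx
    obtain ⟨hxs, h1, h2⟩ := (mem_perp2 Q _ w w' x).1 hx
    obtain ⟨a, ha, b, hb, rfl⟩ := Submodule.mem_sup.1 hxs
    apply Submodule.add_mem_sup _ hb
    rw [mem_perp2]
    refine ⟨ha, ?_, ?_⟩
    · rwa [QuadraticMap.polar_add_right, ho w hw b hb, add_zero] at h1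
    · rwa [QuadraticMap.polar_add_right, ho w' hw' b hb, add_zero] at h2
  · apply sup_le
    · intro x hx
      obtain ⟨hxa, h1, h2⟩ := (mem_perp2 Q _ w w' x).1 hx
      exact (mem_perp2 Q _ w w' x).2 ⟨Submodule.mem_sup_left hxa, h1, h2⟩
    · intro x hx
      exact (mem_perp2 Q _ w w' x).2 ⟨Submodule.mem_sup_right hx, ho w hw x hx, ho w' hw' x hx⟩

/-- S12 : type additivity : `A` plus, `A ⊥ B` plus ==> `B` plus -/
theorem plus_of_sup_aux : ∀ (d : ℕ) (A B : Submodule F V), finrank F A = d → Nd Q A → Nd Q B →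
    (∀ a ∈ A, ∀ b ∈ B, QuadraticMap.polar Q a b = 0) → Plus Q A → Plus Q (A ⊔ B) → Plus Q B := by
  intro d
  induction d using Nat.strong_induction_on with
  | _ d ih =>
    intro A B hd hA hB ho hpA hpS
    by_cases hd0 : d = 0
    · have h1 : A = ⊥ := Submodule.finrank_eq_zero.1 (by omega)
      rwa [h1, bot_sup_eq] at hpS
    · obtain ⟨w, w', h⟩ := exists_pair_of_plus Q hA hpA (by omega)
      have hS : HypPair Q (A ⊔ B) w w' :=
        ⟨Submodule.mem_sup_left h.mem, Submodule.mem_sup_left h.mem', h.q, h.q', h.pol⟩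
      have hp1 := plus_perp2 Q (nd_sup Q hA hB ho) hpS hS
      rw [perp2_sup Q h.mem h.mem' ho] at hp1
      have hf := finrank_perp2 Q h
      exact ih (finrank F (perp2 Q A w w')) (by omega) (perp2 Q A w w') B rfl (nd_perp2 Q hA h) hB
        (fun a ha b hb => ho a (perp2_le Q A w w' ha) b hb) (plus_perp2 Q hA hpA h) hp1

theorem plus_of_sup {A B : Submodule F V} (hA : Nd Q A) (hB : Nd Q B)
    (ho : ∀ a ∈ A, ∀ b ∈ B, QuadraticMap.polar Q a b = 0) (hpA : Plus Q A) (hpS : Plus Q (A ⊔ B)) :
    Plus Q B :=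
  plus_of_sup_aux Q _ A B rfl hA hB ho hpA hpS

end classif

end Cfsg.Agent.Lib.Helper18.QIso
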