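import Cfsg.Agent.Lib.Helper18.QISO

set_option autoImplicit false
set_option linter.unusedVariables false
set_option linter.unusedSectionVars false

/-!
# QISO (helper18) : Witt cancellation for the plus type, in the shape of E12P WITTC (`plus_cancel`), ANY field.
-/

namespace Cfsg.Agent.Lib.Helper18.QIso

open Module Cfsg Cfsg.Geo
open scoped MatrixGroups Matrix

variable {n : ℕ} {F : Type*} [Field F]

/-- two orthogonal subspaces spanning a non-degenerate space are non-degenerate -/
theorem qiso_nd_of_orth_sup (Q : QuadraticForm F (Fin n → F)) (hQ : (QuadraticMap.polarBilin Q).Nondegenerate)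
    (Y Z : Submodule F (Fin n → F)) (horth : AreOrthogonalFor (QuadraticMap.polar (⇑Q)) Y Z) (hsup : Y ⊔ Z = ⊤) :
    IsNondegenerateOn (QuadraticMap.polar (⇑Q)) Y ∧ IsNondegenerateOn (QuadraticMap.polar (⇑Q)) Z := by
  have key : ∀ (A B : Submodule F (Fin n → F)), AreOrthogonalFor (QuadraticMap.polar (⇑Q)) A B → A ⊔ B = ⊤ →
      IsNondegenerateOn (QuadraticMap.polar (⇑Q)) A := by
    intro A B ho hs
    rw [qiso_nd_iff]
    intro w hw hw0
    by_contra hcon
    push Not at hcon
    apply hw0
    apply hQ.2 w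
    intro v
    have hv : v ∈ A ⊔ B := by rw [hs]; exact Submodule.mem_top
    obtain ⟨a, ha, b, hb, rfl⟩ := Submodule.mem_sup.1 hv
    rw [map_add, LinearMap.add_apply, QuadraticMap.polarBilin_apply_apply, QuadraticMap.polarBilin_apply_apply,
      hcon a ha, zero_add, QuadraticMap.polar_comm]
    exact ho w hw b hb
  refine ⟨key Y Z horth hsup, key Z Y ?_ (by rw [sup_comm]; exact hsup)⟩
  intro u hu v hv
  rw [QuadraticMap.polar_comm]
  exact horth v hv u hu

/-- Witt cancellation for the plus type (the statement of E12P WITTC `plus_cancel`; any field, any characteristic) -/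
theorem qiso_plus_cancel (Q : QuadraticForm F (Fin n → F)) (hQ : (QuadraticMap.polarBilin Q).Nondegenerate)
    (hplus : IsPlusTypeOn (⇑Q) ⊤) (Y Z : Submodule F (Fin n → F))
    (horth : AreOrthogonalFor (QuadraticMap.polar (⇑Q)) Y Z) (hsup : Y ⊔ Z = ⊤) (hY : IsPlusTypeOn (⇑Q) Y) :
    IsPlusTypeOn (⇑Q) Z := by
  obtain ⟨hYnd, hZnd⟩ := qiso_nd_of_orth_sup Q hQ Y Z horth hsup
  exact plus_of_sup Q ((qiso_nd_iff Q Y).1 hYnd) ((qiso_nd_iff Q Z).1 hZnd) horth hY (by rw [hsup]; exact hplus)

end Cfsg.Agent.Lib.Helper18.QIso
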