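import Mathlib
import Cfsg.Agent.Lib.helper8.RSM.Defs
import Cfsg.Agent.Lib.Helper5.StemQ
import Cfsg.Agent.Lib.helper14.RSMB3

/-!
# Project RSM (helper8), row E7 (`E_kill`): the core, on the statements of the cited rows
-/

set_option autoImplicit false

namespace Cfsg.Agent.Lib.helper8.RSM

open Cfsg.Agent.Lib.Helper5.Stem
open scoped commutatorElement

universe u v w

variable {G : Type u} [Group G] {K : Type v} [Field K] [Fintype K] {m : ℕ}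
variable {Γ : Type w} [Group Γ] {σ : Γ →* G}

/-- the average of `1` -/
theorem rsme7_avg_one (H0 : Γ) (n : ℕ) : avg H0 n (1 : Γ) = 1 := by
  unfold avg
  apply List.prod_eq_one
  intro x hx
  rw [List.mem_map] at hx
  obtain ⟨i, _, rfl⟩ := hx
  group

/-- the projection of `1` -/
theorem rsme7_proj_one (H0 : Γ) : proj H0 m (1 : Γ) = 1 := by
  unfold proj
  rw [rsme7_avg_one, inv_one]

/-- a commutator identity: central `Q`, commuting `P`, `V` -/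
theorem rsme7_comm_XPVQ (X P V Q : Γ) (hQX : Q * X = X * Q) (hQP : Q * P = P * Q)
    (hPV : P * V = V * P) : ⁅X * P, V * Q⁆ = ⁅X, V⁆ := by
  have hQP' : Q * P⁻¹ = P⁻¹ * Q := by
    calc Q * P⁻¹ = P⁻¹ * (P * Q) * P⁻¹ := by group
      _ = P⁻¹ * (Q * P) * P⁻¹ := by rw [hQP]
      _ = P⁻¹ * Q := by group
  have hQX' : Q * X⁻¹ = X⁻¹ * Q := by
    calc Q * X⁻¹ = X⁻¹ * (X * Q) * X⁻¹ := by group
      _ = X⁻¹ * (Q * X) * X⁻¹ := by rw [hQX]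
      _ = X⁻¹ * Q := by group
  calc ⁅X * P, V * Q⁆ = X * P * V * (Q * P⁻¹) * X⁻¹ * Q⁻¹ * V⁻¹ := by
        rw [commutatorElement_def]; group
    _ = X * P * V * (P⁻¹ * Q) * X⁻¹ * Q⁻¹ * V⁻¹ := by rw [hQP']
    _ = X * P * V * P⁻¹ * (Q * X⁻¹) * Q⁻¹ * V⁻¹ := by group
    _ = X * P * V * P⁻¹ * (X⁻¹ * Q) * Q⁻¹ * V⁻¹ := by rw [hQX']
    _ = X * (P * V) * P⁻¹ * X⁻¹ * V⁻¹ := by group
    _ = X * (V * P) * P⁻¹ * X⁻¹ * V⁻¹ := by rw [hPV]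
    _ = ⁅X, V⁆ := by rw [commutatorElement_def]; group

/-- the statement of row C1 (`x_basic`) -/
def rsme7_C1 (RU : ReeU G K m) : Prop :=
    RU.x 0 0 0 = 1 ∧
    (∀ t a b u v : K, RU.x t a b * RU.x 0 u v = RU.x t (a + u) (b + v)) ∧
    (∀ t a b u v : K, RU.x 0 u v * RU.x t a b = RU.x t (a + u) (b + v - t * u)) ∧
    (∀ t u v : K, RU.x t u v = RU.x t 0 0 * RU.x 0 u v) ∧
    (∀ u v : K, RU.x 0 u v = RU.x 0 u 0 * RU.x 0 0 v) ∧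
    (∀ u v u' v' : K, RU.x 0 u v * RU.x 0 u' v' = RU.x 0 u' v' * RU.x 0 u v) ∧
    (∀ t u v c : K, RU.x t u v * RU.x 0 0 c = RU.x 0 0 c * RU.x t u v)

/-- reduction of a commutator `⁅g, w⁆` (`g` over `U`, `w` over `U₂`) to the commutator of lifts of
`x t 0 0` and `x 0 u 0` -/
theorem rsme7_reduce (RU : ReeU G K m) (hC1 : rsme7_C1 RU)
    (hD4 : ∀ g g' : Γ, RU.InU2 (σ g) → RU.InU2 (σ g') → g * g' = g' * g)
    (hD7 : ∀ g w : Γ, RU.InU (σ g) → RU.InU3 (σ w) → g * w = w * g)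
    (g w X V : Γ) (t a b u c : K) (hg : σ g = RU.x t a b) (hw : σ w = RU.x 0 u c)
    (hX : σ X = RU.x t 0 0) (hV : σ V = RU.x 0 u 0) : ⁅g, w⁆ = ⁅X, V⁆ := by
  obtain ⟨h0, h1, h2, h3, h4, h5, h6⟩ := hC1
  set P := X⁻¹ * g with hP
  set Q := V⁻¹ * w with hQ
  have hσP : σ P = RU.x 0 a b := by
    rw [hP, map_mul, map_inv, hX, hg, h3 t a b]; group
  have hσQ : σ Q = RU.x 0 0 c := by
    rw [hQ, map_mul, map_inv, hV, hw, h4 u c]; group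
  have eg : g = X * P := by rw [hP]; group
  have ew : w = V * Q := by rw [hQ]; group
  have hQ3 : RU.InU3 (σ Q) := ⟨c, hσQ⟩
  have hQX : Q * X = X * Q := (hD7 X Q ⟨t, 0, 0, hX⟩ hQ3).symm
  have hQP : Q * P = P * Q := (hD7 P Q ⟨0, a, b, hσP⟩ hQ3).symm
  have hPV : P * V = V * P := hD4 P V ⟨a, b, hσP⟩ ⟨u, 0, hV⟩
  rw [eg, ew]
  exact rsme7_comm_XPVQ X P V Q hQX hQP hPV

/-- E7, core: on the statements of C1, C3, C7, A9, A3, D4, D7, E3, E4, E6 -/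
theorem rsme7_core (RU : ReeU G K m) (hs : Function.Surjective σ)
    (hcen : σ.ker ≤ Subgroup.center Γ) (H0 : Γ) (hH0 : σ H0 = RU.h0)
    (hC1 : rsme7_C1 RU)
    (hC3 : ∀ t u v u' v' : K, ⁅RU.x t u v, RU.x 0 u' v'⁆ = RU.x 0 0 (t * u'))
    (hC7 : ∀ (i : ℕ) (t u v : K), RU.h0 ^ i * RU.x t u v * (RU.h0 ^ i)⁻¹ =
      RU.x (RU.a0 ^ i * t) (nrm m (RU.a0 ^ i) * u) (RU.a0 ^ i * nrm m (RU.a0 ^ i) * v))
    (hA9 : RU.a0 ^ ((3 ^ (2 * m + 1) - 1) / 2) = -1)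
    (hA3 : nrm m (-1 : K) = 1)
    (hD4 : ∀ g g' : Γ, RU.InU2 (σ g) → RU.InU2 (σ g') → g * g' = g' * g)
    (hD7 : ∀ g w : Γ, RU.InU (σ g) → RU.InU3 (σ w) → g * w = w * g)
    (hE3 : ∀ w : Γ, RU.InU2 (σ w) → proj H0 m w ∈ σ.ker)
    (hE4 : ∀ w w' : Γ, RU.InU2 (σ w) → RU.InU2 (σ w') →
      proj H0 m (w * w') = proj H0 m w * proj H0 m w')
    (hE6 : ∀ (i : ℕ) (w : Γ), RU.InU2 (σ w) →
      proj H0 m (H0 ^ i * w * (H0 ^ i)⁻¹) = proj H0 m w)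
    (g w : Γ) (hg : RU.InU (σ g)) (hw : RU.InU2 (σ w)) : proj H0 m ⁅g, w⁆ = 1 := by
  -- the pairing
  have key : ∀ t u : K, proj H0 m (bet hs (RU.x t 0 0) (RU.x 0 u 0)) = 1 := by
    intro t u
    -- commutators of lifts
    have hbet : ∀ (t' : K) (X V : Γ), σ X = RU.x t' 0 0 → σ V = RU.x 0 u 0 →
        bet hs (RU.x t' 0 0) (RU.x 0 u 0) = ⁅X, V⁆ := by
      intro t' X V hX hV
      have h := bet_eq hs hcen X V
      rw [hX, hV] at h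
      exact h
    have hσc : ∀ (t' : K) (X V : Γ), σ X = RU.x t' 0 0 → σ V = RU.x 0 u 0 →
        σ ⁅X, V⁆ = RU.x 0 0 (t' * u) := by
      intro t' X V hX hV
      rw [map_commutatorElement, hX, hV, hC3]
    obtain ⟨V, hV⟩ := hs (RU.x 0 u 0)
    -- additivity in `t`
    have hadd : ∀ t1 t2 : K, proj H0 m (bet hs (RU.x (t1 + t2) 0 0) (RU.x 0 u 0)) =
        proj H0 m (bet hs (RU.x t1 0 0) (RU.x 0 u 0)) *
          proj H0 m (bet hs (RU.x t2 0 0) (RU.x 0 u 0)) := by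
      intro t1 t2
      obtain ⟨X1, hX1⟩ := hs (RU.x t1 0 0)
      obtain ⟨X2, hX2⟩ := hs (RU.x t2 0 0)
      obtain ⟨X3, hX3⟩ := hs (RU.x (t1 + t2) 0 0)
      rw [hbet t1 X1 V hX1 hV, hbet t2 X2 V hX2 hV, hbet (t1 + t2) X3 V hX3 hV]
      have hprod : σ (X1 * X2) = RU.x (t1 + t2) (0 + 0 - t1 * (t2 ^ 3 ^ m) ^ 3)
          (0 + 0 - t2 * 0 - t1 ^ 2 * (t2 ^ 3 ^ m) ^ 3 + t1 * t2 * (t2 ^ 3 ^ m) ^ 3) := by
        rw [map_mul, hX1, hX2, RU.x_mul]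
      have hred : ⁅X1 * X2, V⁆ = ⁅X3, V⁆ :=
        rsme7_reduce RU hC1 hD4 hD7 (X1 * X2) V X3 V _ _ _ u 0 hprod hV hX3 hV
      have hc2 : RU.InU3 (σ ⁅X2, V⁆) := ⟨t2 * u, hσc t2 X2 V hX2 hV⟩
      have hcomm : X1 * ⁅X2, V⁆ = ⁅X2, V⁆ * X1 := hD7 X1 ⁅X2, V⁆ ⟨t1, 0, 0, hX1⟩ hc2
      have hexp : ⁅X1 * X2, V⁆ = ⁅X2, V⁆ * ⁅X1, V⁆ := by
        calc ⁅X1 * X2, V⁆ = X1 * ⁅X2, V⁆ * X1⁻¹ * ⁅X1, V⁆ := by
              rw [commutatorElement_def, commutatorElement_def, commutatorElement_def]; group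
          _ = ⁅X2, V⁆ * X1 * X1⁻¹ * ⁅X1, V⁆ := by rw [hcomm]
          _ = ⁅X2, V⁆ * ⁅X1, V⁆ := by group
      have h1U2 : RU.InU2 (σ ⁅X1, V⁆) := ⟨0, t1 * u, hσc t1 X1 V hX1 hV⟩
      have h2U2 : RU.InU2 (σ ⁅X2, V⁆) := ⟨0, t2 * u, hσc t2 X2 V hX2 hV⟩
      rw [← hred, hexp, hE4 _ _ h2U2 h1U2]
      have hz : proj H0 m ⁅X1, V⁆ ∈ Subgroup.center Γ := hcen (hE3 _ h1U2)
      exact Subgroup.mem_center_iff.mp hz _
    -- invariance under the involution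
    have hneg : ∀ t1 : K, proj H0 m (bet hs (RU.x (-t1) 0 0) (RU.x 0 u 0)) =
        proj H0 m (bet hs (RU.x t1 0 0) (RU.x 0 u 0)) := by
      intro t1
      obtain ⟨X1, hX1⟩ := hs (RU.x t1 0 0)
      set i0 := (3 ^ (2 * m + 1) - 1) / 2 with hi0
      have hσT : σ (H0 ^ i0) = RU.h0 ^ i0 := by rw [map_pow, hH0]
      have hX' : σ (H0 ^ i0 * X1 * (H0 ^ i0)⁻¹) = RU.x (-t1) 0 0 := by
        rw [map_mul, map_mul, map_inv, hσT, hX1, hC7, hA9]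
        simp
      have hV' : σ (H0 ^ i0 * V * (H0 ^ i0)⁻¹) = RU.x 0 u 0 := by
        rw [map_mul, map_mul, map_inv, hσT, hV, hC7, hA9, hA3]
        simp
      rw [hbet (-t1) _ _ hX' hV', hbet t1 X1 V hX1 hV]
      have hconj : ⁅H0 ^ i0 * X1 * (H0 ^ i0)⁻¹, H0 ^ i0 * V * (H0 ^ i0)⁻¹⁆ =
          H0 ^ i0 * ⁅X1, V⁆ * (H0 ^ i0)⁻¹ := by
        rw [commutatorElement_def, commutatorElement_def]; group
      rw [hconj]
      exact hE6 i0 _ ⟨0, t1 * u, hσc t1 X1 V hX1 hV⟩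
    exact rsmb3_core RU.hK (fun t' => proj H0 m (bet hs (RU.x t' 0 0) (RU.x 0 u 0))) hadd hneg t
  -- the general case
  obtain ⟨t, a, b, hg'⟩ := hg
  obtain ⟨u, c, hw'⟩ := hw
  obtain ⟨X, hX⟩ := hs (RU.x t 0 0)
  obtain ⟨V, hV⟩ := hs (RU.x 0 u 0)
  rw [rsme7_reduce RU hC1 hD4 hD7 g w X V t a b u c hg' hw' hX hV]
  have h := bet_eq hs hcen X V
  rw [hX, hV] at h
  rw [← h]
  exact key t u

end Cfsg.Agent.Lib.helper8.RSM
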