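import Mathlib
import Cfsg.Agent.Lib.helper8.RSM.Defs
import Cfsg.Agent.Lib.Helper5.StemQ
import Cfsg.Agent.Lib.Helper18.RSME7core
import Cfsg.Agent.Lib.helper4.RSMC1
import Cfsg.Agent.Lib.Helper22.RSMC234h22
import Cfsg.Agent.Lib.helper2.RSMC7
import Cfsg.Agent.Lib.Helper24.RSMA9
import Cfsg.Agent.Lib.Helper20.RSMA3
import Cfsg.Agent.Lib.Helper29.RSMD4
import Cfsg.Agent.Lib.helper17.RSMD7
import Cfsg.Agent.Lib.helper15.RSME3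
import Cfsg.Agent.Lib.helper3.RSME4
import Cfsg.Agent.Lib.helper3.RSME6

/-!
# Project RSM (helper8), row E7: `E_kill` (verbatim from `helper8/RSM/Skel.lean.txt`)
-/

set_option autoImplicit false

namespace Cfsg.Agent.Lib.helper8.RSM

open Cfsg.Agent.Lib.Helper5.Stem
open scoped commutatorElement

universe u v w

variable {G : Type u} [Group G] {K : Type v} [Field K] [Fintype K] {m : ℕ}
variable {Γ : Type w} [Group Γ] {σ : Γ →* G}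

/-- E7 [M-L]. `E t u := proj H0 m (bet hs (x t 0 0) (x 0 u 0))`.  Additive in `t`:
`⁅X X', V⁆ = X ⁅X', V⁆ X⁻¹ ⁅X, V⁆ = ⁅X', V⁆ ⁅X, V⁆` (D7), `X X'` lifts `x (t+t') 0 0 * x 0 _ _` and
`⁅X'' P, V⁆ = ⁅X'', V⁆` (D4), E4.  With `T0 = H0 ^ ((q-1)/2)` (a lift of the involution, A9):
`T0 ⁅X, V⁆ T0⁻¹ = ⁅T0 X T0⁻¹, T0 V T0⁻¹⁆` lifts `⁅x (-t) 0 0, x 0 u 0⁆`, so `E (-t) u = E t u` by E6
and `comm_lift_indep`; B2.  General `g = X P`, `w = V Q` (`P` over `U₂`, `Q` over `U₃`):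
`⁅g, w⁆ = ⁅X, V⁆` by D4, D7. -/
theorem E_kill (RU : ReeU G K m) (hs : Function.Surjective σ) (hcen : σ.ker ≤ Subgroup.center Γ)
    (H0 : Γ) (hH0 : σ H0 = RU.h0) (hpow : H0 ^ (3 ^ (2 * m + 1) - 1) = 1) (g w : Γ)
    (hg : RU.InU (σ g)) (hw : RU.InU2 (σ w)) : proj H0 m ⁅g, w⁆ = 1 :=
  rsme7_core RU hs hcen H0 hH0 (x_basic RU) (rsmc3_h22 RU) (h0_pow_conj RU)
    (gen_weights RU.hm RU.hK RU.a0 RU.a0_gen).2.2.2.2.1 nrm_mul_pow.2.2.2.1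
    (U2_abelian RU hs hcen) (U3_central RU hs hcen) (proj_mem_ker RU H0 hH0)
    (proj_mul RU hs hcen H0 hH0) (proj_conj RU hs hcen H0 hH0 hpow) g w hg hw

end Cfsg.Agent.Lib.helper8.RSM
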