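import Mathlib
import Cfsg.Agent.Lib.helper8.RSM.Defs
import Cfsg.Agent.Lib.Helper5.StemQ
import Cfsg.Agent.Lib.Helper18.RSME7core

/-!
# Project RSM (helper8), row E9 (`D_kill`): the core, on the statements of the cited rows
-/

set_option autoImplicit false

namespace Cfsg.Agent.Lib.helper8.RSM

open Cfsg.Agent.Lib.Helper5.Stem
open scoped commutatorElement

universe u v w

variable {G : Type u} [Group G] {K : Type v} [Field K] [Fintype K] {m : ℕ}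
variable {Γ : Type w} [Group Γ] {σ : Γ →* G}

/-- `U₂ ⊆ U` -/
theorem rsme9h18_InU_of_InU2 (RU : ReeU G K m) {g : G} (h : RU.InU2 g) : RU.InU g := by
  obtain ⟨u, v, rfl⟩ := h
  exact ⟨0, u, v, rfl⟩

/-- `U₂` is closed under products -/
theorem rsme9h18_InU2_mul (RU : ReeU G K m) (hC1 : rsme7_C1 RU) {g g' : G} (h : RU.InU2 g)
    (h' : RU.InU2 g') : RU.InU2 (g * g') := by
  obtain ⟨u, v, rfl⟩ := h
  obtain ⟨u', v', rfl⟩ := h'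
  exact ⟨u + u', v + v', hC1.2.1 0 u v u' v'⟩

/-- `U₂` is closed under inverses -/
theorem rsme9h18_InU2_inv (RU : ReeU G K m) (hC1 : rsme7_C1 RU) {g : G} (h : RU.InU2 g) :
    RU.InU2 g⁻¹ := by
  obtain ⟨u, v, rfl⟩ := h
  refine ⟨-u, -v, ?_⟩
  apply inv_eq_of_mul_eq_one_right
  rw [hC1.2.1 0 u v (-u) (-v), add_neg_cancel, add_neg_cancel, hC1.1]

/-- the projection of an inverse -/
theorem rsme9h18_proj_inv (RU : ReeU G K m) (hC1 : rsme7_C1 RU) (H0 : Γ)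
    (hE4 : ∀ w w' : Γ, RU.InU2 (σ w) → RU.InU2 (σ w') →
      proj H0 m (w * w') = proj H0 m w * proj H0 m w')
    (w : Γ) (hw : RU.InU2 (σ w)) : proj H0 m w⁻¹ = (proj H0 m w)⁻¹ := by
  have hw' : RU.InU2 (σ w⁻¹) := by
    rw [map_inv]; exact rsme9h18_InU2_inv RU hC1 hw
  have h := hE4 w w⁻¹ hw hw'
  rw [mul_inv_cancel, rsme7_proj_one] at h
  exact (inv_eq_of_mul_eq_one_right h.symm).symm

/-- E9, core: on the statements of C1, C4, C7, E3, E4, E6, E7, E8 and B1 -/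
theorem rsme9h18_core (RU : ReeU G K m) (hs : Function.Surjective σ)
    (hcen : σ.ker ≤ Subgroup.center Γ) (H0 : Γ) (hH0 : σ H0 = RU.h0)
    (hC1 : rsme7_C1 RU)
    (hC4 : ∀ g g' : G, RU.InU g → RU.InU g' →
      RU.InU2 ⁅g, g'⁆ ∧ RU.InU (g * g') ∧ RU.InU g⁻¹)
    (hC7 : ∀ (i : ℕ) (t u v : K), RU.h0 ^ i * RU.x t u v * (RU.h0 ^ i)⁻¹ =
      RU.x (RU.a0 ^ i * t) (nrm m (RU.a0 ^ i) * u) (RU.a0 ^ i * nrm m (RU.a0 ^ i) * v))
    (hE3 : ∀ w : Γ, RU.InU2 (σ w) → proj H0 m w ∈ σ.ker)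
    (hE4 : ∀ w w' : Γ, RU.InU2 (σ w) → RU.InU2 (σ w') →
      proj H0 m (w * w') = proj H0 m w * proj H0 m w')
    (hE6 : ∀ (i : ℕ) (w : Γ), RU.InU2 (σ w) →
      proj H0 m (H0 ^ i * w * (H0 ^ i)⁻¹) = proj H0 m w)
    (hE7 : ∀ g w : Γ, RU.InU (σ g) → RU.InU2 (σ w) → proj H0 m ⁅g, w⁆ = 1)
    (hE8 : ∀ g w : Γ, RU.InU (σ g) → RU.InU2 (σ w) → proj H0 m (g * w * g⁻¹) = proj H0 m w)
    (hB1 : ∀ B : K → K → Γ, (∀ u u' w, B (u + u') w = B u w * B u' w) →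
      (∀ u w w', B u (w + w') = B u w * B u w') →
      (∀ s : K, s ≠ 0 → ∀ u w, B (s ^ 2 * u) (s ^ 2 * w) = B u w) → ∀ u w, B u w = 1)
    (g g' : Γ) (hg : RU.InU (σ g)) (hg' : RU.InU (σ g')) : proj H0 m ⁅g, g'⁆ = 1 := by
  -- commutators of elements over `U` lie over `U₂`
  have hcU2 : ∀ a b : Γ, RU.InU (σ a) → RU.InU (σ b) → RU.InU2 (σ ⁅a, b⁆) := by
    intro a b ha hb
    rw [map_commutatorElement]
    exact (hC4 _ _ ha hb).1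
  -- conjugates of elements over `U₂` by elements over `U` lie over `U₂`
  have hconjU2 : ∀ a c : Γ, RU.InU (σ a) → RU.InU2 (σ c) → RU.InU2 (σ (a * c * a⁻¹)) := by
    intro a c ha hc
    have e : a * c * a⁻¹ = ⁅a, c⁆ * c := by rw [commutatorElement_def]; group
    rw [e, map_mul]
    exact rsme9h18_InU2_mul RU hC1 (hcU2 a c ha (rsme9h18_InU_of_InU2 RU hc)) hc
  -- the reduction to lifts of `x t 0 0`, `x s 0 0`
  have hL : ∀ (g g' X Y : Γ) (t a b s a' b' : K), σ g = RU.x t a b → σ g' = RU.x s a' b' →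
      σ X = RU.x t 0 0 → σ Y = RU.x s 0 0 → proj H0 m ⁅g, g'⁆ = proj H0 m ⁅X, Y⁆ := by
    intro g g' X Y t a b s a' b' hg hg' hX hY
    have h3 := hC1.2.2.2.1
    set P := X⁻¹ * g with hP
    set P' := Y⁻¹ * g' with hP'
    have hσP : σ P = RU.x 0 a b := by
      rw [hP, map_mul, map_inv, hX, hg, h3 t a b]; group
    have hσP' : σ P' = RU.x 0 a' b' := by
      rw [hP', map_mul, map_inv, hY, hg', h3 s a' b']; group
    have eg : g = X * P := by rw [hP]; group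
    have eg' : g' = Y * P' := by rw [hP']; group
    have hXU : RU.InU (σ X) := ⟨t, 0, 0, hX⟩
    have hYU : RU.InU (σ Y) := ⟨s, 0, 0, hY⟩
    have hg'U : RU.InU (σ g') := ⟨s, a', b', hg'⟩
    have hPU2 : RU.InU2 (σ P) := ⟨a, b, hσP⟩
    have hP'U2 : RU.InU2 (σ P') := ⟨a', b', hσP'⟩
    have hPU : RU.InU (σ P) := rsme9h18_InU_of_InU2 RU hPU2
    -- first step: remove `P`
    have step1 : proj H0 m ⁅g, g'⁆ = proj H0 m ⁅X, g'⁆ := by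
      have e : ⁅g, g'⁆ = X * ⁅P, g'⁆ * X⁻¹ * ⁅X, g'⁆ := by
        rw [eg, commutatorElement_def, commutatorElement_def, commutatorElement_def]; group
      have h1 : RU.InU2 (σ ⁅P, g'⁆) := hcU2 P g' hPU hg'U
      have h2 : RU.InU2 (σ ⁅X, g'⁆) := hcU2 X g' hXU hg'U
      rw [e, hE4 _ _ (hconjU2 X _ hXU h1) h2, hE8 X _ hXU h1]
      have h3' : proj H0 m ⁅P, g'⁆ = 1 := by
        have e2 : ⁅P, g'⁆ = ⁅g', P⁆⁻¹ := (commutatorElement_inv g' P).symm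
        rw [e2, rsme9h18_proj_inv RU hC1 H0 hE4 _ (hcU2 g' P hg'U hPU), hE7 g' P hg'U hPU2, inv_one]
      rw [h3', one_mul]
    -- second step: remove `P'`
    have step2 : proj H0 m ⁅X, g'⁆ = proj H0 m ⁅X, Y⁆ := by
      have e : ⁅X, g'⁆ = ⁅X, Y⁆ * (Y * ⁅X, P'⁆ * Y⁻¹) := by
        rw [eg', commutatorElement_def, commutatorElement_def, commutatorElement_def]; group
      have h1 : RU.InU2 (σ ⁅X, P'⁆) := hcU2 X P' hXU (rsme9h18_InU_of_InU2 RU hP'U2)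
      have h2 : RU.InU2 (σ ⁅X, Y⁆) := hcU2 X Y hXU hYU
      rw [e, hE4 _ _ h2 (hconjU2 Y _ hYU h1), hE8 Y _ hYU h1, hE7 X P' hXU hP'U2, mul_one]
    rw [step1, step2]
  -- the pairing
  set D : K → K → Γ := fun t s => proj H0 m (bet hs (RU.x t 0 0) (RU.x s 0 0)) with hD
  have hDeq : ∀ (t s : K) (X Y : Γ), σ X = RU.x t 0 0 → σ Y = RU.x s 0 0 →
      D t s = proj H0 m ⁅X, Y⁆ := by
    intro t s X Y hX hY
    have h := bet_eq hs hcen X Y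
    rw [hX, hY] at h
    rw [hD]
    simp only
    rw [h]
  have hDcen : ∀ (t s : K) (z : Γ), z * D t s = D t s * z := by
    intro t s z
    obtain ⟨X, hX⟩ := hs (RU.x t 0 0)
    obtain ⟨Y, hY⟩ := hs (RU.x s 0 0)
    rw [hDeq t s X Y hX hY]
    exact Subgroup.mem_center_iff.mp
      (hcen (hE3 _ (hcU2 X Y ⟨t, 0, 0, hX⟩ ⟨s, 0, 0, hY⟩))) z
  -- additivity in the first variable
  have hl : ∀ t1 t2 s : K, D (t1 + t2) s = D t1 s * D t2 s := by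
    intro t1 t2 s
    obtain ⟨X1, hX1⟩ := hs (RU.x t1 0 0)
    obtain ⟨X2, hX2⟩ := hs (RU.x t2 0 0)
    obtain ⟨X3, hX3⟩ := hs (RU.x (t1 + t2) 0 0)
    obtain ⟨Y, hY⟩ := hs (RU.x s 0 0)
    have hX1U : RU.InU (σ X1) := ⟨t1, 0, 0, hX1⟩
    have hX2U : RU.InU (σ X2) := ⟨t2, 0, 0, hX2⟩
    have hYU : RU.InU (σ Y) := ⟨s, 0, 0, hY⟩
    have hprod : σ (X1 * X2) = RU.x (t1 + t2) (0 + 0 - t1 * (t2 ^ 3 ^ m) ^ 3)
        (0 + 0 - t2 * 0 - t1 ^ 2 * (t2 ^ 3 ^ m) ^ 3 + t1 * t2 * (t2 ^ 3 ^ m) ^ 3) := by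
      rw [map_mul, hX1, hX2, RU.x_mul]
    have h1 : proj H0 m ⁅X1 * X2, Y⁆ = D (t1 + t2) s := by
      rw [hDeq (t1 + t2) s X3 Y hX3 hY]
      exact hL (X1 * X2) Y X3 Y _ _ _ s 0 0 hprod hY hX3 hY
    have e : ⁅X1 * X2, Y⁆ = X1 * ⁅X2, Y⁆ * X1⁻¹ * ⁅X1, Y⁆ := by
      rw [commutatorElement_def, commutatorElement_def, commutatorElement_def]; group
    have h2 : RU.InU2 (σ ⁅X2, Y⁆) := hcU2 X2 Y hX2U hYU
    have h3 : RU.InU2 (σ ⁅X1, Y⁆) := hcU2 X1 Y hX1U hYU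
    rw [← h1, e, hE4 _ _ (hconjU2 X1 _ hX1U h2) h3, hE8 X1 _ hX1U h2,
      ← hDeq t2 s X2 Y hX2 hY, ← hDeq t1 s X1 Y hX1 hY]
    exact hDcen t1 s _
  -- antisymmetry
  have hanti : ∀ t s : K, D t s = (D s t)⁻¹ := by
    intro t s
    obtain ⟨X, hX⟩ := hs (RU.x t 0 0)
    obtain ⟨Y, hY⟩ := hs (RU.x s 0 0)
    rw [hDeq t s X Y hX hY, hDeq s t Y X hY hX, ← commutatorElement_inv Y X,
      rsme9h18_proj_inv RU hC1 H0 hE4 _ (hcU2 Y X ⟨s, 0, 0, hY⟩ ⟨t, 0, 0, hX⟩)]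
  -- additivity in the second variable
  have hr : ∀ t s1 s2 : K, D t (s1 + s2) = D t s1 * D t s2 := by
    intro t s1 s2
    rw [hanti t (s1 + s2), hl s1 s2 t, mul_inv_rev, ← hanti t s2, ← hanti t s1]
    exact hDcen t s1 _
  -- invariance under the torus
  have hinv : ∀ c : K, c ≠ 0 → ∀ t s : K, D (c ^ 2 * t) (c ^ 2 * s) = D t s := by
    intro c hc t s
    obtain ⟨i, hi⟩ := RU.a0_gen (c ^ 2) (pow_ne_zero 2 hc)
    obtain ⟨X, hX⟩ := hs (RU.x t 0 0)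
    obtain ⟨Y, hY⟩ := hs (RU.x s 0 0)
    have hσT : σ (H0 ^ i) = RU.h0 ^ i := by rw [map_pow, hH0]
    have hX' : σ (H0 ^ i * X * (H0 ^ i)⁻¹) = RU.x (c ^ 2 * t) 0 0 := by
      rw [map_mul, map_mul, map_inv, hσT, hX, hC7, ← hi]
      simp
    have hY' : σ (H0 ^ i * Y * (H0 ^ i)⁻¹) = RU.x (c ^ 2 * s) 0 0 := by
      rw [map_mul, map_mul, map_inv, hσT, hY, hC7, ← hi]
      simp
    rw [hDeq _ _ _ _ hX' hY', hDeq t s X Y hX hY]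
    have hconj : ⁅H0 ^ i * X * (H0 ^ i)⁻¹, H0 ^ i * Y * (H0 ^ i)⁻¹⁆ =
        H0 ^ i * ⁅X, Y⁆ * (H0 ^ i)⁻¹ := by
      rw [commutatorElement_def, commutatorElement_def]; group
    rw [hconj]
    exact hE6 i _ (hcU2 X Y ⟨t, 0, 0, hX⟩ ⟨s, 0, 0, hY⟩)
  have hD1 : ∀ t s : K, D t s = 1 := hB1 D hl hr hinv
  -- the general case
  obtain ⟨t, a, b, hg1⟩ := hg
  obtain ⟨s, a', b', hg1'⟩ := hg'
  obtain ⟨X, hX⟩ := hs (RU.x t 0 0)
  obtain ⟨Y, hY⟩ := hs (RU.x s 0 0)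
  rw [hL g g' X Y t a b s a' b' hg1 hg1' hX hY, ← hDeq t s X Y hX hY]
  exact hD1 t s

end Cfsg.Agent.Lib.helper8.RSM
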