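import Cfsg.Agent.Lib.Helper20.S3571.Defs

set_option autoImplicit false

namespace Cfsg.Agent.Lib.Helper20.S3571
open Equiv

/-- BR4: the image of the stabiliser: inside `A_m`, proper, of index `|Ω|`. -/
theorem stabImage_props (m : ℕ) {G Ω : Type*} [Group G] [Finite G] [MulAction G Ω] [Finite Ω]
    (T : Subgroup G) (eT : ↥T ≃* ↥(alternatingGroup (Fin m)))
    (hTt : MulAction.IsPretransitive ↥T Ω) (hΩ : 2 ≤ Nat.card Ω) (ω : Ω) :
    stabImage T m eT ω ≤ alternatingGroup (Fin m) ∧
    stabImage T m eT ω ≠ alternatingGroup (Fin m) ∧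
    Nat.card Ω * Nat.card (stabImage T m eT ω) = Nat.card (alternatingGroup (Fin m)) := by
  have hinj : Function.Injective ((alternatingGroup (Fin m)).subtype.comp eT.toMonoidHom) := by
    intro x y hxy
    simp only [MonoidHom.coe_comp, Function.comp_apply, MulEquiv.coe_toMonoidHom,
      Subgroup.coe_subtype] at hxy
    exact eT.injective (Subtype.ext hxy)
  have h1 : stabImage T m eT ω ≤ alternatingGroup (Fin m) := by
    rintro x ⟨t, -, rfl⟩
    simp only [MonoidHom.coe_comp, Function.comp_apply, MulEquiv.coe_toMonoidHom,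
      Subgroup.coe_subtype]
    exact (eT t).2
  have h3 : Nat.card Ω * Nat.card (stabImage T m eT ω) = Nat.card (alternatingGroup (Fin m)) := by
    have hc : Nat.card (stabImage T m eT ω) = Nat.card (MulAction.stabilizer ↥T ω) := by
      unfold stabImage
      exact Subgroup.card_map_of_injective hinj
    have hi : (MulAction.stabilizer ↥T ω).index = Nat.card Ω :=
      MulAction.index_stabilizer_of_transitive ↥T ω
    rw [hc, ← hi, Subgroup.index_mul_card, Nat.card_congr eT.toEquiv]
  refine ⟨h1, ?_, h3⟩
  intro heq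
  rw [heq] at h3
  have hpos : 0 < Nat.card (alternatingGroup (Fin m)) := Nat.card_pos
  have : Nat.card Ω = 1 := by
    have := Nat.eq_of_mul_eq_mul_right hpos (by rw [h3, one_mul] : Nat.card Ω * Nat.card (alternatingGroup (Fin m)) = 1 * Nat.card (alternatingGroup (Fin m)))
    exact this
  omega

end Cfsg.Agent.Lib.Helper20.S3571
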