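import Cfsg.Agent.Lib.Helper20.S3571.Defs

set_option autoImplicit false

namespace Cfsg.Agent.Lib.Helper20.S3571
open Equiv

/-- BR5: an element of `T` whose image has no conjugate in the image of the stabiliser is a
derangement. -/
theorem derangement_of_concl (m : ℕ) {G Ω : Type*} [Group G] [MulAction G Ω]
    (T : Subgroup G) (eT : ↥T ≃* ↥(alternatingGroup (Fin m)))
    (hTt : MulAction.IsPretransitive ↥T Ω) (ω : Ω) (a : Perm (Fin m))
    (haA : a ∈ alternatingGroup (Fin m))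
    (ha : ∀ x : Perm (Fin m), x ∈ alternatingGroup (Fin m) → x * a * x⁻¹ ∉ stabImage T m eT ω) :
    ∀ ω' : Ω, ((eT.symm ⟨a, haA⟩ : ↥T) : G) • ω' ≠ ω' := by
  intro ω' hfix
  obtain ⟨t, ht⟩ := MulAction.exists_smul_eq (↥T) ω' ω
  set s : ↥T := eT.symm ⟨a, haA⟩ with hs
  have hs' : s • ω' = ω' := hfix
  have hmem : t * s * t⁻¹ ∈ MulAction.stabilizer ↥T ω := by
    rw [MulAction.mem_stabilizer_iff, mul_smul, mul_smul]
    have h1 : t⁻¹ • ω = ω' := by rw [← ht, inv_smul_smul]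
    rw [h1, hs', ht]
  apply ha ((eT t : ↥(alternatingGroup (Fin m))) : Perm (Fin m)) (eT t).2
  refine ⟨t * s * t⁻¹, hmem, ?_⟩
  simp only [MonoidHom.coe_comp, Function.comp_apply, MulEquiv.coe_toMonoidHom, map_mul, map_inv,
    Subgroup.coe_subtype]
  rw [hs, MulEquiv.apply_symm_apply]

end Cfsg.Agent.Lib.Helper20.S3571
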