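import Mathlib
import Cfsg.Agent.Lib.Helper13.S5955.Defs
import Cfsg.Agent.Lib.Helper18.S5955T11core

/-!
# S5955 row T13 (suff_abs), core: the assembly, with the instances of T2, T5, T6, T7, T9, T11,
T12 as hypotheses.
-/

set_option autoImplicit false

namespace Cfsg.Agent.Lib.Helper13.S5955

open Polynomial Module

/-- the order of `|F|` modulo `r` divides `r - 1` -/
theorem s5955h18_ord_dvd {F : Type*} [Field F] [Fintype F] {p : ℕ} [hp : Fact p.Prime] [CharP F p]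
    (r : ℕ) [hr : Fact r.Prime] (hrp : r ≠ p) :
    orderOf ((Fintype.card F : ℕ) : ZMod r) ∣ r - 1 := by
  apply orderOf_dvd_of_pow_eq_one
  apply ZMod.pow_card_sub_one_eq_one
  intro h0
  rw [ZMod.natCast_eq_zero_iff] at h0
  obtain ⟨n, _, hn⟩ := FiniteField.card F p
  rw [hn] at h0
  exact hrp ((Nat.prime_dvd_prime_iff_eq hr.out hp.out).mp (hr.out.dvd_of_dvd_pow h0))

/-- T13 core -/
theorem s5955h18_suff_abs_core {F : Type*} [Field F] [Fintype F] {p : ℕ} [Fact p.Prime]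
    [CharP F p] {V : Type*} [AddCommGroup V] [Module F V] [FiniteDimensional F V]
    {r : ℕ} [Fact r.Prime] (hrp : r ≠ p) {B : LinearMap.BilinForm F V} {x : Module.End F V}
    (halt : ∀ v, B v v = 0) (d m : ℕ) (hV : finrank F V = 2 * d)
    (i : ℕ) (hi : i = orderOf ((Fintype.card F : ℕ) : ZMod r))
    (hsplit : SOrth B (fixS x) (cycS r x) ∧ IsCompl (fixS x) (cycS r x) ∧ SND B (fixS x) ∧
      SND B (cycS r x))
    (hti : ∀ j : ℕ, 2 * j ≤ finrank F (fixS x) →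
      ∃ T : Submodule F V, T ≤ fixS x ∧ STI B T ∧ finrank F T = j)
    (hhalf : ∀ T : Submodule F V, T ≤ cycS r x → STI B T → 2 * finrank F T ≤ finrank F (cycS r x))
    (hfe : Even (finrank F (fixS x)))
    (hlag : ∃ T : Submodule F V, T ≤ cycS r x ∧ SInv x T ∧ STI B T ∧
      ((Odd i ∧ 2 * finrank F T = finrank F (cycS r x)) ∨
        (Even i ∧ finrank F (cycS r x) ≤ 2 * finrank F T + (r - 1))))
    (harith : ∀ fixd cycd tdim : ℕ, fixd + cycd = 2 * d → Even fixd → i ∣ cycd → i ∣ tdim →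
      i ∣ r - 1 → 2 * tdim ≤ cycd →
      ((Odd i ∧ 2 * tdim = cycd) ∨ (Even i ∧ cycd ≤ 2 * tdim + (r - 1))) →
      ∃ w1 s : ℕ, 2 * w1 ≤ fixd ∧ s * i ≤ tdim ∧ m = w1 + s * i) :
    ∃ W : Submodule F V, SInv x W ∧ STI B W ∧ finrank F W = m := by
  obtain ⟨horth, hcompl, hfnd, hcnd⟩ := hsplit
  obtain ⟨T, hTc, hT, hTti, hTdim⟩ := hlag
  have hipos : 0 < i := hi ▸ Cfsg.Agent.Lib.Helper24.el_ord_pos (F := F) r hrp
  have hcyc0 : cyclotomic r F ≠ 0 := cyclotomic_ne_zero r F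
  have hdeg : ∀ P : F[X], Irreducible P → P ∣ cyclotomic r F → P.natDegree = i := by
    intro P hP hPd
    rw [hi]
    exact Cfsg.Agent.Lib.Helper24.el_cyc_deg r hrp P hP hPd
  have hkill : ∀ u ∈ cycS r x, aeval x (cyclotomic r F) u = 0 := fun u hu => hu
  have hidvd : i ∣ finrank F (cycS r x) :=
    Cfsg.Agent.Lib.Helper24.el_dvd_dim x (cycS r x) (Cfsg.Agent.Lib.Helper24.el_inv_ker x _)
      (cyclotomic r F) hcyc0 hkill i hipos hdeg
  have hit : i ∣ finrank F T :=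
    Cfsg.Agent.Lib.Helper24.el_dvd_dim x T hT (cyclotomic r F) hcyc0
      (fun u hu => hkill u (hTc hu)) i hipos hdeg
  have hir : i ∣ r - 1 := hi ▸ s5955h18_ord_dvd (F := F) r hrp
  have hsum : finrank F (fixS x) + finrank F (cycS r x) = 2 * d := by
    rw [Submodule.finrank_add_eq_of_isCompl hcompl, hV]
  obtain ⟨w1, s, hw1, hs, hm⟩ := harith _ _ _ hsum hfe hidvd hit hir (hhalf T hTc hTti) hTdim
  obtain ⟨Y, hYT, hY, hYdim⟩ := Cfsg.Agent.Lib.Helper24.el_exists_dim x T hT (cyclotomic r F) hcyc0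
    (fun u hu => hkill u (hTc hu)) i hdeg s hs
  obtain ⟨T1, hT1f, hT1ti, hT1dim⟩ := hti w1 hw1
  have hT1 : SInv x T1 := Cfsg.Agent.Lib.Helper24.el_inv_of_le_fix x T1 hT1f
  refine ⟨T1 ⊔ Y, Cfsg.Agent.Lib.Helper24.el_inv_sup hT1 hY, ?_, ?_⟩
  · apply s5955h18_sti_sup halt T1 Y hT1ti (fun u hu v hv => hTti u (hYT hu) v (hYT hv))
    intro u hu t ht
    exact horth u (hT1f hu) t (hTc (hYT ht))
  · have hdisj : Disjoint T1 Y := hcompl.disjoint.mono hT1f (hYT.trans hTc)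
    have h1 := Submodule.finrank_sup_add_finrank_inf_eq T1 Y
    rw [disjoint_iff.mp hdisj, finrank_bot, add_zero] at h1
    rw [h1, hT1dim, hYdim, hm]

end Cfsg.Agent.Lib.Helper13.S5955
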