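import Mathlib
import Cfsg.Agent.Lib.Helper13.S5955.Defs
import Cfsg.Agent.Lib.Helper18.S5955T13core
import Cfsg.Agent.Lib.Helper18.S5955T11
import Cfsg.Agent.Lib.Lead.S5955T2
import Cfsg.Agent.Lib.Lead.S5955T3
import Cfsg.Agent.Lib.Helper5.S5955T1
import Cfsg.Agent.Lib.Helper5.S5955T5
import Cfsg.Agent.Lib.Helper5.S5955T6
import Cfsg.Agent.Lib.Helper5.S5955T7
import Cfsg.Agent.Lib.Helper5.S5955T12
import Cfsg.Agent.Lib.Helper28.S5955T9core

/-!
# S5955 row T13 (suff_abs), verbatim: core + T2, T3 (lead) + T1, T5, T6, T7, T12 (helper5) +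
T9 core (helper28) + T11.
-/

set_option autoImplicit false

namespace Cfsg.Agent.Lib.Helper13.S5955

open Polynomial Module

/-- T13 [L] SUFFABS: the abstract sufficiency theorem for odd `r ≠ p`. -/
theorem suff_abs {F : Type*} [Field F] [Fintype F] {p : ℕ} [Fact p.Prime] [CharP F p]
    {V : Type*} [AddCommGroup V] [Module F V] [FiniteDimensional F V]
    {r : ℕ} [Fact r.Prime] (hrp : r ≠ p) {B : LinearMap.BilinForm F V} {x : Module.End F V}
    (h : SCtx r B x) (d m : ℕ) (hV : finrank F V = 2 * d) (hm : m ≤ d)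
    (i c : ℕ) (hi : i = orderOf ((Fintype.card F : ℕ) : ZMod r))
    (hc : c = if Even i then i else 2 * i)
    (h1 : 2 * (m % i) ≤ (2 * d) % c)
    (h2 : Odd i ∨ (r - 1) / i + 2 * (m / i) ≤ (2 * d) / i) :
    ∃ W : Submodule F V, SInv x W ∧ STI B W ∧ finrank F W = m := by
  have hr : 0 < r := (Fact.out : r.Prime).pos
  have hsplit := split hrp h
  have hipos : 1 ≤ i := hi ▸ Cfsg.Agent.Lib.Helper24.el_ord_pos (F := F) r hrp
  apply s5955h18_suff_abs_core hrp h.alt d m hV i hi hsplit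
    (fun j hj => ti_sub B h.alt (fixS x) hsplit.2.2.1 j hj)
    (fun T hTc hT => ti_le_half B (cycS r x) T hsplit.2.2.2 hTc hT)
    (nd_even B h.alt (fixS x) hsplit.2.2.1)
  · rcases Nat.even_or_odd i with hie | hio
    · obtain ⟨T, hTN, hT, hTti, hTd⟩ := lag_even hrp h (hi ▸ hie) (cycS r x)
        (Cfsg.Agent.Lib.Helper24.el_inv_ker x _) le_rfl hsplit.2.2.2
      exact ⟨T, hTN, hT, hTti, Or.inr ⟨hie, hTd⟩⟩
    · obtain ⟨T, hTN, hT, hTti, hTd⟩ := s5955t9_core hrp h (hi ▸ hio)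
        (fun U hU => perp_inv hr h U hU)
        (fun N U hN hNnd hUN hU hUti =>
          peel_ti (Cfsg.Agent.Lib.Helper24.el_cast_ne_zero (F := F) r hrp) h N U hN hNnd hUN hU hUti)
        (fun N hN => nd_even B h.alt N hN)
        (finrank F (cycS r x)) (cycS r x) rfl
        (Cfsg.Agent.Lib.Helper24.el_inv_ker x _) le_rfl hsplit.2.2.2
      exact ⟨T, hTN, hT, hTti, Or.inl ⟨hio, hTd⟩⟩
  · intro fixd cycd tdim hsum hfe hidvd hit hir hT2 hT
    exact arith_suff i c d m fixd cycd tdim r hipos hc hm hsum hfe hidvd hit hir hT2 hT h1 h2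

end Cfsg.Agent.Lib.Helper13.S5955
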