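import Mathlib
import Cfsg.Prelude.Def_LieClassical
import Cfsg.Prelude.Def_GeometricClasses
import Cfsg.Agent.Lib.helper14.UPolA

/-!
# S5984, derangement side, part (a): the three abstract "no invariant polar pair" lemmas
-/

set_option autoImplicit false
open scoped MatrixGroups

namespace Cfsg.Agent.Lib.Helper18.S5984DER

open Cfsg.Agent.Lib.helper14 Module

variable {F : Type*} [Field F] {ι : Type*} [Fintype ι]

/-- the fixed case of K1 -/
theorem s5984h18_K1_fix [DecidableEq ι] (σ : F →+* F)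
    (A B : Submodule F (ι → F)) (hsup : A ⊔ B = ⊤)
    (hA : ∀ u ∈ A, ∀ v ∈ A, UPolA.hs σ u v = 0)
    (y : (ι → F) →ₗ[F] (ι → F)) (hy : ∀ u v, UPolA.hs σ (y u) (y v) = UPolA.hs σ u v)
    (hyA : ∀ u ∈ A, y u ∈ A) (hyB : ∀ u ∈ B, y u ∈ B)
    (μ : F) (hμ : μ * σ μ = 1) (v : ι → F) (hv : ∀ u, ∃ c : F, y u - μ • u = c • v)
    (hvB : v ∉ B) : ∀ u, y u = μ • u := by
  have hB1 : ∀ b ∈ B, y b = μ • b := by
    intro b hb
    obtain ⟨c, hc⟩ := hv b
    by_cases hc0 : c = 0
    · rw [hc0, zero_smul] at hc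
      exact sub_eq_zero.mp hc
    · exfalso
      apply hvB
      have h1 : c • v ∈ B := hc ▸ B.sub_mem (hyB b hb) (B.smul_mem μ hb)
      have h2 := B.smul_mem c⁻¹ h1
      rwa [smul_smul, inv_mul_cancel₀ hc0, one_smul] at h2
  have hA1 : ∀ a ∈ A, y a = μ • a := by
    intro a ha
    have hNa : y a - μ • a ∈ A := A.sub_mem (hyA a ha) (A.smul_mem μ ha)
    have hz : ∀ z, UPolA.hs σ (y a - μ • a) z = 0 := by
      intro z
      have hz' : z ∈ A ⊔ B := hsup ▸ Submodule.mem_top
      obtain ⟨a', ha', b, hb, rfl⟩ := Submodule.mem_sup.mp hz'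
      rw [UPolA.hs_add_right, hA _ hNa _ ha', zero_add, UPolA.hs_sub_left, UPolA.hs_smul_left]
      have h1 := hy a b
      rw [hB1 b hb, UPolA.hs_smul_right] at h1
      have h2 : UPolA.hs σ (y a) b = μ * UPolA.hs σ a b := by
        rw [← h1, ← mul_assoc, hμ, one_mul]
      rw [h2, sub_self]
    exact sub_eq_zero.mp (UPolA.hs_nondeg σ _ hz)
  intro u
  have hu' : u ∈ A ⊔ B := hsup ▸ Submodule.mem_top
  obtain ⟨a, ha, b, hb, rfl⟩ := Submodule.mem_sup.mp hu'
  rw [map_add, hA1 a ha, hB1 b hb, smul_add]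

/-- **K1**: an isometry stabilising a polar pair which is a rank one perturbation of a scalar of
norm one is that scalar. -/
theorem s5984h18_K1 [DecidableEq ι] (σ : F →+* F)
    (U W : Submodule F (ι → F)) (hsup : U ⊔ W = ⊤) (hinf : U ⊓ W = ⊥)
    (hU : ∀ u ∈ U, ∀ v ∈ U, UPolA.hs σ u v = 0) (hW : ∀ u ∈ W, ∀ v ∈ W, UPolA.hs σ u v = 0)
    (hrk : 2 ≤ finrank F U)
    (y : (ι → F) →ₗ[F] (ι → F)) (hy : ∀ u v, UPolA.hs σ (y u) (y v) = UPolA.hs σ u v)
    (hst : (U.map y = U ∧ W.map y = W) ∨ (U.map y = W ∧ W.map y = U))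
    (μ : F) (hμ : μ * σ μ = 1) (v : ι → F) (hv : ∀ u, ∃ c : F, y u - μ • u = c • v) :
    ∀ u, y u = μ • u := by
  rcases hst with ⟨h1, h2⟩ | ⟨h1, h2⟩
  · have hyU : ∀ u ∈ U, y u ∈ U := fun u hu => h1 ▸ Submodule.mem_map_of_mem hu
    have hyW : ∀ u ∈ W, y u ∈ W := fun u hu => h2 ▸ Submodule.mem_map_of_mem hu
    by_cases hvW : v ∈ W
    · by_cases hvU : v ∈ U
      · have hv0 : v = 0 := by
          have : v ∈ U ⊓ W := ⟨hvU, hvW⟩
          rw [hinf] at this
          exact (Submodule.mem_bot F).mp this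
        intro u
        obtain ⟨c, hc⟩ := hv u
        rw [hv0, smul_zero] at hc
        exact sub_eq_zero.mp hc
      · exact s5984h18_K1_fix σ W U (sup_comm U W ▸ hsup) hW y hy hyW hyU μ hμ v hv hvU
    · exact s5984h18_K1_fix σ U W hsup hU y hy hyU hyW μ hμ v hv hvW
  · exfalso
    have hμ0 : μ ≠ 0 := by
      intro h
      rw [h, zero_mul] at hμ
      exact zero_ne_one hμ
    let f : U →ₗ[F] (ι → F) := (y - μ • LinearMap.id).domRestrict U
    have hf : ∀ u : U, f u = y u - μ • (u : ι → F) := fun u => rfl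
    have hinj : Function.Injective f := by
      rw [← LinearMap.ker_eq_bot, LinearMap.ker_eq_bot']
      intro u hu
      rw [hf, sub_eq_zero] at hu
      have h3 : y u ∈ W := h1 ▸ Submodule.mem_map_of_mem u.2
      have h4 : μ • (u : ι → F) ∈ U ⊓ W := ⟨U.smul_mem μ u.2, hu ▸ h3⟩
      rw [hinf, Submodule.mem_bot] at h4
      have h5 : (u : ι → F) = 0 := by
        rcases smul_eq_zero.mp h4 with h | h
        · exact absurd h hμ0
        · exact h
      exact Subtype.ext h5
    have hrange : LinearMap.range f ≤ Submodule.span F {v} := by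
      rintro _ ⟨u, rfl⟩
      obtain ⟨c, hc⟩ := hv u
      rw [hf, hc]
      exact Submodule.smul_mem _ c (Submodule.subset_span rfl)
    have h6 : finrank F U = finrank F (LinearMap.range f) := (LinearMap.finrank_range_of_inj hinj).symm
    have h7 : finrank F (LinearMap.range f) ≤ finrank F (Submodule.span F {v}) :=
      Submodule.finrank_mono hrange
    have h8 : finrank F (Submodule.span F {v}) ≤ 1 := by
      have := finrank_span_le_card (R := F) ({v} : Set (ι → F))
      simpa using this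
    omega

/-- **K2**: an isometry `y` fixing both members of a polar pair, which is the extension by the
identity of an irreducible fixed point free `a` on a subspace containing a non-isotropic vector:
impossible. -/
theorem s5984h18_K2 (σ : F →+* F) {T : Type*} [AddCommGroup T] [Module F T]
    (U W : Submodule F (ι → F)) (hsup : U ⊔ W = ⊤)
    (hU : ∀ u ∈ U, ∀ v ∈ U, UPolA.hs σ u v = 0) (hW : ∀ u ∈ W, ∀ v ∈ W, UPolA.hs σ u v = 0)
    (y : (ι → F) →ₗ[F] (ι → F)) (hyU : ∀ u ∈ U, y u ∈ U) (hyW : ∀ u ∈ W, y u ∈ W)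
    (a : T →ₗ[F] T) (io : T →ₗ[F] (ι → F)) (hio : Function.Injective io)
    (hcomm : ∀ w, y (io w) = io (a w)) (hrange : ∀ v, ∃ w, y v - v = io w)
    (hfix : ∀ w, a w = w → w = 0)
    (hirr : ∀ S : Submodule F T, (∀ s ∈ S, a s ∈ S) → S = ⊥ ∨ S = ⊤)
    (w₀ : T) (hw₀ : UPolA.hs σ (io w₀) (io w₀) ≠ 0) : False := by
  have key : ∀ A : Submodule F (ι → F), (∀ u ∈ A, ∀ v ∈ A, UPolA.hs σ u v = 0) →
      (∀ u ∈ A, y u ∈ A) → ∀ u ∈ A, y u = u := by
    intro A hA hyA
    have hinv : ∀ s ∈ A.comap io, a s ∈ A.comap io := by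
      intro s hs
      rw [Submodule.mem_comap] at hs ⊢
      rw [← hcomm]
      exact hyA _ hs
    rcases hirr _ hinv with hbot | htop
    · intro u hu
      obtain ⟨w, hw⟩ := hrange u
      have h1 : w ∈ A.comap io := by
        rw [Submodule.mem_comap, ← hw]
        exact A.sub_mem (hyA u hu) hu
      rw [hbot, Submodule.mem_bot] at h1
      rw [h1, map_zero] at hw
      exact sub_eq_zero.mp hw
    · exfalso
      apply hw₀
      have h1 : w₀ ∈ A.comap io := htop ▸ Submodule.mem_top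
      exact hA _ h1 _ h1
  have hmem : io w₀ ∈ U ⊔ W := hsup ▸ Submodule.mem_top
  obtain ⟨u, hu, w, hw, huw⟩ := Submodule.mem_sup.mp hmem
  have h1 : y (io w₀) = io w₀ := by
    rw [← huw, map_add, key U hU hyU u hu, key W hW hyW w hw]
  rw [hcomm] at h1
  have h2 := hfix w₀ (hio h1)
  apply hw₀
  rw [h2, map_zero, UPolA.hs_zero_left]

/-- **K3**: an isometry fixing both members of a polar pair has no one-dimensional eigenspace
spanned by a non-isotropic vector. -/
theorem s5984h18_K3 (σ : F →+* F)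
    (U W : Submodule F (ι → F)) (hsup : U ⊔ W = ⊤) (hinf : U ⊓ W = ⊥)
    (hU : ∀ u ∈ U, ∀ v ∈ U, UPolA.hs σ u v = 0) (hW : ∀ u ∈ W, ∀ v ∈ W, UPolA.hs σ u v = 0)
    (y : (ι → F) →ₗ[F] (ι → F)) (hyU : ∀ u ∈ U, y u ∈ U) (hyW : ∀ u ∈ W, y u ∈ W)
    (ω : F) (e : ι → F) (he : y e = ω • e) (hone : ∀ u, y u = ω • u → ∃ c : F, u = c • e)
    (hee : UPolA.hs σ e e ≠ 0) : False := by
  have hmem : e ∈ U ⊔ W := hsup ▸ Submodule.mem_top
  obtain ⟨u, hu, w, hw, huw⟩ := Submodule.mem_sup.mp hmem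
  have h1 : y u - ω • u ∈ U := U.sub_mem (hyU u hu) (U.smul_mem ω hu)
  have h2 : y w - ω • w ∈ W := W.sub_mem (hyW w hw) (W.smul_mem ω hw)
  have h3 : (y u - ω • u) + (y w - ω • w) = 0 := by
    have : y (u + w) = ω • (u + w) := by rw [huw, he]
    rw [map_add, smul_add] at this
    rw [sub_add_sub_comm, this, sub_self]
  have h4 : y u - ω • u = -(y w - ω • w) := eq_neg_of_add_eq_zero_left h3
  have h5 : y u - ω • u ∈ U ⊓ W := ⟨h1, h4 ▸ W.neg_mem h2⟩
  rw [hinf, Submodule.mem_bot] at h5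
  have h6 : y w - ω • w = 0 := by rw [h5, zero_add] at h3; exact h3
  obtain ⟨c, hc⟩ := hone u (sub_eq_zero.mp h5)
  obtain ⟨d, hd⟩ := hone w (sub_eq_zero.mp h6)
  have he0 : e ≠ 0 := by
    intro h
    apply hee
    rw [h, UPolA.hs_zero_left]
  by_cases hc0 : c = 0
  · by_cases hd0 : d = 0
    · apply he0
      rw [← huw, hc, hd, hc0, hd0, zero_smul, add_zero]
    · apply hee
      have : e ∈ W := by
        have h := W.smul_mem d⁻¹ hw
        rwa [hd, smul_smul, inv_mul_cancel₀ hd0, one_smul] at h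
      exact hW e this e this
  · apply hee
    have : e ∈ U := by
      have h := U.smul_mem c⁻¹ hu
      rwa [hc, smul_smul, inv_mul_cancel₀ hc0, one_smul] at h
    exact hU e this e this

/-- an endomorphism of odd order interchanging two subspaces: they are equal -/
theorem s5984h18_swap_imp_eq {V : Type*} [AddCommGroup V] [Module F V]
    (X : Module.End F V) (r : ℕ) (hodd : Odd r) (hXr : X ^ r = 1) (U W : Submodule F V)
    (h1 : U.map X = W) (h2 : W.map X = U) : U = W := by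
  have key : ∀ n : ℕ, U.map (X ^ (2 * n)) = U := by
    intro n
    induction n with
    | zero =>
      rw [Nat.mul_zero, pow_zero, Module.End.one_eq_id, Submodule.map_id]
    | succ n ih =>
      have e : X ^ (2 * (n + 1)) = X ^ (2 * n) * (X * X) := by
        rw [← pow_two, ← pow_add, Nat.mul_succ]
      rw [e, Module.End.mul_eq_comp, Module.End.mul_eq_comp, Submodule.map_comp,
        Submodule.map_comp, h1, h2, ih]
  obtain ⟨t, ht⟩ := hodd
  have e : X ^ (2 * (t + 1)) = X := by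
    have : 2 * (t + 1) = r + 1 := by omega
    rw [this, pow_succ, hXr, one_mul]
  have := key (t + 1)
  rw [e, h1] at this
  exact this.symm

end Cfsg.Agent.Lib.Helper18.S5984DER
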