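import Mathlib
import Cfsg.Prelude.Def_LieClassical
import Cfsg.Prelude.Def_GeometricClasses
import Cfsg.Agent.Lib.helper14.UPolA
import Cfsg.Agent.Lib.Helper18.S5984DERa

/-!
# S5984, derangement side, part (b): from `GL`, `GU`, the stabilizer of `D` to linear algebra
-/

set_option autoImplicit false
open scoped MatrixGroups

namespace Cfsg.Agent.Lib.Helper18.S5984DER

open Cfsg.Agent.Lib.helper14 Module

variable {F : Type*} [Field F] {q n : ℕ}

theorem s5984h18_herm_eq_hs (σ : F →+* F) (hσ : ∀ x, σ x = x ^ q) (u v : Fin n → F) :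
    Cfsg.hermForm n F q u v = UPolA.hs σ u v := by
  simp only [Cfsg.hermForm, UPolA.hs, hσ]

theorem s5984h18_toLin'_pow {ι : Type*} [Fintype ι] [DecidableEq ι]
    (A : Matrix ι ι F) (m : ℕ) : Matrix.toLin' (A ^ m) = (Matrix.toLin' A) ^ m := by
  induction m with
  | zero => rw [pow_zero, pow_zero, Matrix.toLin'_one]; rfl
  | succ m ih => rw [pow_succ, pow_succ, Matrix.toLin'_mul, ih]; rfl

/-- the abstract polar pairs used below -/
def s5984h18_NoPair (σ : F →+* F) (y : (Fin n → F) →ₗ[F] (Fin n → F)) : Prop :=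
  ∀ U W : Submodule F (Fin n → F), U ⊔ W = ⊤ → U ⊓ W = ⊥ →
    (∀ u ∈ U, ∀ v ∈ U, UPolA.hs σ u v = 0) → (∀ u ∈ W, ∀ v ∈ W, UPolA.hs σ u v = 0) →
    2 ≤ finrank F U →
    ¬ ((U.map y = U ∧ W.map y = W) ∨ (U.map y = W ∧ W.map y = U))

/-- an element stabilizing no polar pair has no conjugate in the stabilizer of `D` -/
theorem s5984h18_reduce (σ : F →+* F) (hσ : ∀ x, σ x = x ^ q)
    (D : Fin 2 → Submodule F (Fin n → F)) (m : ℕ) (hm : 2 ≤ m)
    (hD : Cfsg.Geo.IsMDecomposition m D)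
    (hDs : ∀ i, Cfsg.Geo.IsTotallySingularFor (Cfsg.hermForm n F q) (D i))
    (x : GL (Fin n) F)
    (hx : s5984h18_NoPair σ (Matrix.toLin' (x : Matrix (Fin n) (Fin n) F))) :
    ∀ g ∈ Cfsg.GU n F q, g⁻¹ * x * g ∉ Cfsg.Geo.decompositionStabilizer D := by
  intro g hg hmem
  obtain ⟨τ, hτ⟩ := hmem
  set G : (Fin n → F) →ₗ[F] (Fin n → F) := Matrix.toLin' (g : Matrix (Fin n) (Fin n) F) with hG
  set G' : (Fin n → F) →ₗ[F] (Fin n → F) :=
    Matrix.toLin' ((g⁻¹ : GL (Fin n) F) : Matrix (Fin n) (Fin n) F) with hG'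
  have hGG' : G' ∘ₗ G = LinearMap.id := by
    rw [hG, hG', ← Matrix.toLin'_mul, ← Units.val_mul, inv_mul_cancel, Units.val_one,
      Matrix.toLin'_one]
  have hG'G : G ∘ₗ G' = LinearMap.id := by
    rw [hG, hG', ← Matrix.toLin'_mul, ← Units.val_mul, mul_inv_cancel, Units.val_one,
      Matrix.toLin'_one]
  have hinj : Function.Injective G := by
    intro a b hab
    have := congrArg G' hab
    rwa [← LinearMap.comp_apply, ← LinearMap.comp_apply, hGG'] at this
  have hsurj : Function.Surjective G := by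
    intro a
    refine ⟨G' a, ?_⟩
    rw [← LinearMap.comp_apply, hG'G]
    rfl
  have hgiso : ∀ u v, UPolA.hs σ (G u) (G v) = UPolA.hs σ u v := by
    intro u v
    rw [← s5984h18_herm_eq_hs σ hσ, ← s5984h18_herm_eq_hs σ hσ, hG, Matrix.toLin'_apply,
      Matrix.toLin'_apply]
    exact hg u v
  -- the conjugation relation
  have hconj : ∀ i, ((D i).map G).map (Matrix.toLin' (x : Matrix (Fin n) (Fin n) F)) =
      (D (τ i)).map G := by
    intro i
    rw [← hτ i, ← Submodule.map_comp, ← Submodule.map_comp, hG, ← Matrix.toLin'_mul,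
      ← Matrix.toLin'_mul, ← Units.val_mul, ← Units.val_mul]
    congr 3
    group
  have hsing : ∀ i, ∀ u ∈ (D i).map G, ∀ v ∈ (D i).map G, UPolA.hs σ u v = 0 := by
    rintro i _ ⟨u, hu, rfl⟩ _ ⟨v, hv, rfl⟩
    rw [hgiso, ← s5984h18_herm_eq_hs σ hσ]
    exact hDs i u hu v hv
  have hsup0 : D 0 ⊔ D 1 = ⊤ := by
    rw [← hD.iSup_eq_top]
    apply le_antisymm
    · exact sup_le (le_iSup D 0) (le_iSup D 1)
    · apply iSup_le
      intro i
      fin_cases i
      · exact le_sup_left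
      · exact le_sup_right
  have hinf0 : D 0 ⊓ D 1 = ⊥ :=
    disjoint_iff.mp (hD.indep.pairwiseDisjoint (by decide : (0 : Fin 2) ≠ 1))
  have hsup : (D 0).map G ⊔ (D 1).map G = ⊤ := by
    rw [← Submodule.map_sup, hsup0, Submodule.map_top, LinearMap.range_eq_top]
    exact hsurj
  have hinf : (D 0).map G ⊓ (D 1).map G = ⊥ := by
    rw [← Submodule.map_inf G hinj, hinf0, Submodule.map_bot]
  have hrk : 2 ≤ finrank F ((D 0).map G) := by
    rw [(Submodule.equivMapOfInjective G hinj (D 0)).finrank_eq.symm, hD.finrank_eq 0]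
    exact hm
  apply hx _ _ hsup hinf (hsing 0) (hsing 1) hrk
  have h0 : τ 0 = 0 ∨ τ 0 = 1 := by
    generalize τ 0 = a
    fin_cases a
    · left; rfl
    · right; rfl
  have h1 : τ 1 = 0 ∨ τ 1 = 1 := by
    generalize τ 1 = a
    fin_cases a
    · left; rfl
    · right; rfl
  have hne : τ 0 ≠ τ 1 := fun h => absurd (τ.injective h) (by decide)
  rcases h0 with h0 | h0 <;> rcases h1 with h1 | h1
  · exact absurd (h0.trans h1.symm) hne
  · left
    refine ⟨?_, ?_⟩
    · have := hconj 0; rwa [h0] at this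
    · have := hconj 1; rwa [h1] at this
  · right
    refine ⟨?_, ?_⟩
    · have := hconj 0; rwa [h0] at this
    · have := hconj 1; rwa [h1] at this
  · exact absurd (h0.trans h1.symm) hne

/-- packaging: from a linear isometry of determinant one with no polar pair to the statement -/
theorem s5984h18_package (σ : F →+* F) (hσ : ∀ x, σ x = x ^ q)
    (D : Fin 2 → Submodule F (Fin n → F)) (m : ℕ) (hm : 2 ≤ m)
    (hD : Cfsg.Geo.IsMDecomposition m D)
    (hDs : ∀ i, Cfsg.Geo.IsTotallySingularFor (Cfsg.hermForm n F q) (D i))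
    (r : ℕ) (y y' : (Fin n → F) →ₗ[F] (Fin n → F))
    (h1 : y ∘ₗ y' = LinearMap.id) (h2 : y' ∘ₗ y = LinearMap.id)
    (hiso : ∀ u v, UPolA.hs σ (y u) (y v) = UPolA.hs σ u v)
    (hdet : (LinearMap.toMatrix' y).det = 1)
    (c : F) (hpow : ∀ u, (y ^ r) u = c • u)
    (hns : ∀ z : F, ¬ ∀ u, y u = z • u)
    (hx : s5984h18_NoPair σ y) :
    ∃ x ∈ Cfsg.GU n F q ⊓ Cfsg.Geo.specialLinear (Fin n) F,
      (∃ z : F, ((x ^ r : GL (Fin n) F) : Matrix (Fin n) (Fin n) F) =
        z • (1 : Matrix (Fin n) (Fin n) F)) ∧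
      (∀ z : F, (x : Matrix (Fin n) (Fin n) F) ≠ z • (1 : Matrix (Fin n) (Fin n) F)) ∧
      ∀ g ∈ Cfsg.GU n F q ⊓ Cfsg.Geo.specialLinear (Fin n) F,
        g⁻¹ * x * g ∉ Cfsg.Geo.decompositionStabilizer D := by
  let x : GL (Fin n) F := ⟨LinearMap.toMatrix' y, LinearMap.toMatrix' y',
    by rw [← LinearMap.toMatrix'_comp, h1, LinearMap.toMatrix'_id],
    by rw [← LinearMap.toMatrix'_comp, h2, LinearMap.toMatrix'_id]⟩
  have hxv : (x : Matrix (Fin n) (Fin n) F) = LinearMap.toMatrix' y := rfl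
  have hxl : Matrix.toLin' (x : Matrix (Fin n) (Fin n) F) = y := by
    rw [hxv, Matrix.toLin'_toMatrix']
  have hmv : ∀ u, (x : Matrix (Fin n) (Fin n) F).mulVec u = y u := by
    intro u
    rw [← Matrix.toLin'_apply, hxl]
  refine ⟨x, ⟨?_, ?_⟩, ⟨c, ?_⟩, ?_, ?_⟩
  · intro u v
    show Cfsg.hermForm n F q ((x : Matrix (Fin n) (Fin n) F).mulVec u)
      ((x : Matrix (Fin n) (Fin n) F).mulVec v) = Cfsg.hermForm n F q u v
    rw [hmv, hmv, s5984h18_herm_eq_hs σ hσ, s5984h18_herm_eq_hs σ hσ, hiso]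
  · show x ∈ (Matrix.GeneralLinearGroup.det : GL (Fin n) F →* Fˣ).ker
    rw [MonoidHom.mem_ker]
    apply Units.ext
    rw [Matrix.GeneralLinearGroup.val_det_apply, hxv, hdet]
    rfl
  · rw [Units.val_pow_eq_pow_val]
    apply Matrix.toLin'.injective
    rw [s5984h18_toLin'_pow, hxl]
    apply LinearMap.ext
    intro u
    rw [hpow, Matrix.toLin'_apply, Matrix.smul_mulVec, Matrix.one_mulVec]
  · intro z hz
    apply hns z
    intro u
    rw [← hmv, hz, Matrix.smul_mulVec, Matrix.one_mulVec]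
  · intro g hg
    apply s5984h18_reduce σ hσ D m hm hD hDs x _ g hg.1
    rw [hxl]
    exact hx

end Cfsg.Agent.Lib.Helper18.S5984DER
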