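import Mathlib
import Cfsg.Prelude.Def_LieClassical
import Cfsg.Prelude.Def_GeometricClasses
import Cfsg.Agent.Lib.helper14.UPolA
import Cfsg.Agent.Lib.Lead.Unitary
import Cfsg.Agent.Lib.Helper18.S5984DERb

/-!
# S5984, derangement side, part (c): the transvection (`r = p`) and the diagonal elements
-/

set_option autoImplicit false
open scoped MatrixGroups

namespace Cfsg.Agent.Lib.Helper18.S5984DER

open Cfsg.Agent.Lib.helper14 Module

section general
variable {F : Type*} [Field F] {ι : Type*} [Fintype ι]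

/-- `u ↦ h(u, v)` as a linear form -/
def s5984h18_hsL (σ : F →+* F) (v : ι → F) : (ι → F) →ₗ[F] F where
  toFun u := UPolA.hs σ u v
  map_add' u u' := UPolA.hs_add_left σ u u' v
  map_smul' c u := by rw [UPolA.hs_smul_left]; rfl

/-- the unitary transvection `u ↦ u + c h(u,v) v` -/
def s5984h18_tv (σ : F →+* F) (c : F) (v : ι → F) : (ι → F) →ₗ[F] (ι → F) :=
  LinearMap.id + (c • s5984h18_hsL σ v).smulRight v

theorem s5984h18_tv_apply (σ : F →+* F) (c : F) (v u : ι → F) :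
    s5984h18_tv σ c v u = u + (c * UPolA.hs σ u v) • v := rfl

theorem s5984h18_tv_comp (σ : F →+* F) (c c' : F) (v : ι → F) (hvv : UPolA.hs σ v v = 0) :
    s5984h18_tv σ c v ∘ₗ s5984h18_tv σ c' v = s5984h18_tv σ (c + c') v := by
  apply LinearMap.ext
  intro u
  rw [LinearMap.comp_apply, s5984h18_tv_apply, s5984h18_tv_apply, s5984h18_tv_apply,
    UPolA.hs_add_left, UPolA.hs_smul_left, hvv, mul_zero, add_zero, add_assoc, ← add_smul]
  congr 2
  ring

theorem s5984h18_toMatrix'_pow [DecidableEq ι] (f : (ι → F) →ₗ[F] (ι → F)) (k : ℕ) :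
    LinearMap.toMatrix' (f ^ k) = (LinearMap.toMatrix' f) ^ k := by
  induction k with
  | zero => rw [pow_zero, pow_zero]; exact LinearMap.toMatrix'_id
  | succ k ih => rw [pow_succ, pow_succ, LinearMap.toMatrix'_mul, ih]

theorem s5984h18_tv_zero (σ : F →+* F) (v : ι → F) : s5984h18_tv σ 0 v = LinearMap.id := by
  apply LinearMap.ext
  intro u
  rw [s5984h18_tv_apply, zero_mul, zero_smul, add_zero]
  rfl

theorem s5984h18_tv_pow (σ : F →+* F) (c : F) (v : ι → F) (hvv : UPolA.hs σ v v = 0) (k : ℕ) :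
    (s5984h18_tv σ c v) ^ k = s5984h18_tv σ ((k : F) * c) v := by
  induction k with
  | zero => rw [pow_zero, Nat.cast_zero, zero_mul, s5984h18_tv_zero]; rfl
  | succ k ih =>
    rw [pow_succ, ih, Module.End.mul_eq_comp, s5984h18_tv_comp σ _ _ v hvv]
    congr 1
    push_cast
    ring

theorem s5984h18_tv_iso (σ : F →+* F) (hσσ : ∀ x, σ (σ x) = x) (c : F) (hc : σ c = -c)
    (v : ι → F) (hvv : UPolA.hs σ v v = 0) (u w : ι → F) :
    UPolA.hs σ (s5984h18_tv σ c v u) (s5984h18_tv σ c v w) = UPolA.hs σ u w := by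
  rw [s5984h18_tv_apply, s5984h18_tv_apply, UPolA.hs_add_left, UPolA.hs_add_right,
    UPolA.hs_add_right, UPolA.hs_smul_left, UPolA.hs_smul_left, UPolA.hs_smul_right,
    UPolA.hs_smul_right, hvv, map_mul, hc, ← UPolA.hs_symm σ hσσ v w]
  ring

end general

section field
variable {F : Type*} [Field F] [Fintype F] {q : ℕ}

theorem s5984h18_two_le_q (hq : Fintype.card F = q ^ 2) : 2 ≤ q := by
  have h1 : 1 < Fintype.card F := Fintype.one_lt_card
  rw [hq] at h1
  by_contra h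
  push Not at h
  interval_cases q <;> simp at h1

/-- a generator of the multiplicative group -/
theorem s5984h18_exists_gen (hq : Fintype.card F = q ^ 2) :
    ∃ ζ : Fˣ, orderOf ζ = q ^ 2 - 1 := by
  classical
  obtain ⟨ζ, hζ⟩ := IsCyclic.exists_generator (α := Fˣ)
  refine ⟨ζ, ?_⟩
  rw [orderOf_eq_card_of_forall_mem_zpowers hζ, Nat.card_eq_fintype_card, Fintype.card_units, hq]

/-- an element not fixed by `x ↦ x ^ q` -/
theorem s5984h18_exists_not_fixed (hq : Fintype.card F = q ^ 2) : ∃ t : F, t ^ q ≠ t := by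
  obtain ⟨ζ, hζ⟩ := s5984h18_exists_gen hq
  have h2 := s5984h18_two_le_q hq
  refine ⟨(ζ : F), fun h => ?_⟩
  have h1 : ζ ^ (q - 1) = 1 := by
    apply Units.ext
    rw [Units.val_pow_eq_pow_val, Units.val_one]
    have h3 : (ζ : F) ^ (q - 1) * (ζ : F) = 1 * (ζ : F) := by
      rw [← pow_succ, Nat.sub_add_cancel (by omega), h, one_mul]
    exact mul_right_cancel₀ ζ.ne_zero h3
  have h3 := orderOf_dvd_of_pow_eq_one h1
  rw [hζ] at h3
  have h4 := Nat.le_of_dvd (by omega) h3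
  have h5 : q < q ^ 2 := by nlinarith
  omega

theorem s5984h18_p_dvd_q {p : ℕ} [hp : Fact p.Prime] [CharP F p] (hq : Fintype.card F = q ^ 2) :
    p ∣ q := by
  obtain ⟨k, _, hk⟩ := FiniteField.card F p
  rw [hq] at hk
  have h1 : p ∣ q ^ 2 := by
    rw [hk]
    exact dvd_pow_self p k.ne_zero
  exact hp.out.dvd_of_dvd_pow h1

omit [Fintype F] in
theorem s5984h18_pow_char_eq_one {p : ℕ} [hp : Fact p.Prime] [CharP F p] (z : F) (hz : z ^ p = 1) :
    z = 1 := by
  have h1 : (z - 1) ^ p = 0 := by rw [sub_pow_char, hz, one_pow, sub_self]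
  exact sub_eq_zero.mp (pow_eq_zero_iff (hp.out.ne_zero) |>.mp h1)

end field

section A
variable {F : Type*} [Field F] [Fintype F] {p : ℕ} [Fact p.Prime] [CharP F p] {q : ℕ}

/-- **(A)** the derangement of order `p`: a unitary transvection -/
theorem s5984h18_der_p (hq : Fintype.card F = q ^ 2) (n : ℕ) (hn : 4 ≤ n)
    (D : Fin 2 → Submodule F (Fin n → F)) (hD : Cfsg.Geo.IsMDecomposition (n / 2) D)
    (hDs : ∀ i, Cfsg.Geo.IsTotallySingularFor (Cfsg.hermForm n F q) (D i)) :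
    ∃ x ∈ Cfsg.GU n F q ⊓ Cfsg.Geo.specialLinear (Fin n) F,
      (∃ z : F, ((x ^ p : GL (Fin n) F) : Matrix (Fin n) (Fin n) F) =
        z • (1 : Matrix (Fin n) (Fin n) F)) ∧
      (∀ z : F, (x : Matrix (Fin n) (Fin n) F) ≠ z • (1 : Matrix (Fin n) (Fin n) F)) ∧
      ∀ g ∈ Cfsg.GU n F q ⊓ Cfsg.Geo.specialLinear (Fin n) F,
        g⁻¹ * x * g ∉ Cfsg.Geo.decompositionStabilizer D := by
  classical
  obtain ⟨σ, hσ⟩ := Cfsg.Agent.Lib.Lead.exists_frob hq
  have hσσ := Cfsg.Agent.Lib.Lead.frob_frob hq σ hσ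
  have hm : 2 ≤ n / 2 := by omega
  -- an isotropic vector
  have hD0 : D 0 ≠ ⊥ := by
    intro h
    have h1 := hD.finrank_eq 0
    rw [h, finrank_bot] at h1
    omega
  obtain ⟨v, hvD, hv0⟩ := Submodule.exists_mem_ne_zero_of_ne_bot hD0
  have hvv : UPolA.hs σ v v = 0 := by
    rw [← s5984h18_herm_eq_hs σ hσ]
    exact hDs 0 v hvD v hvD
  obtain ⟨t, ht⟩ := s5984h18_exists_not_fixed hq
  set c : F := t - σ t with hc
  have hc0 : c ≠ 0 := by
    rw [hc, hσ]
    exact sub_ne_zero.mpr (Ne.symm ht)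
  have hσc : σ c = -c := by
    rw [hc, map_sub, hσσ]
    ring
  obtain ⟨w, hw⟩ : ∃ w, UPolA.hs σ w v ≠ 0 := by
    by_contra hcon
    push Not at hcon
    apply hv0
    apply UPolA.hs_nondeg σ v
    intro w
    rw [UPolA.hs_symm σ hσσ, hcon w, map_zero]
  have hns : ∀ z : F, ¬ ∀ u, s5984h18_tv σ c v u = z • u := by
    intro z hz
    have h1 := hz v
    rw [s5984h18_tv_apply, hvv, mul_zero, zero_smul, add_zero] at h1
    have hz1 : z = 1 := by
      by_contra hne
      apply hv0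
      have h2 : (1 - z) • v = 0 := by rw [sub_smul, one_smul, ← h1, sub_self]
      rcases smul_eq_zero.mp h2 with h | h
      · exact absurd (sub_eq_zero.mp h).symm hne
      · exact h
    have h2 := hz w
    rw [s5984h18_tv_apply, hz1, one_smul, add_eq_left] at h2
    rcases smul_eq_zero.mp h2 with h | h
    · exact (mul_ne_zero hc0 hw) h
    · exact hv0 h
  have hpow : (s5984h18_tv σ c v) ^ p = 1 := by
    rw [s5984h18_tv_pow σ c v hvv, CharP.cast_eq_zero, zero_mul, s5984h18_tv_zero]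
    rfl
  apply s5984h18_package σ hσ D (n / 2) hm hD hDs p (s5984h18_tv σ c v) (s5984h18_tv σ (-c) v)
    ?_ ?_ (s5984h18_tv_iso σ hσσ c hσc v hvv) ?_ 1 ?_ hns ?_
  · rw [s5984h18_tv_comp σ _ _ v hvv, add_neg_cancel, s5984h18_tv_zero]
  · rw [s5984h18_tv_comp σ _ _ v hvv, neg_add_cancel, s5984h18_tv_zero]
  · apply s5984h18_pow_char_eq_one (p := p)
    rw [← Matrix.det_pow]
    rw [← s5984h18_toMatrix'_pow, hpow]
    have h2 : LinearMap.toMatrix' (1 : (Fin n → F) →ₗ[F] (Fin n → F)) = 1 :=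
      LinearMap.toMatrix'_id
    rw [h2, Matrix.det_one]
  · intro u
    rw [hpow, one_smul]
    rfl
  · intro U W hsup hinf hU hW hrk hst
    apply hns 1
    apply s5984h18_K1 σ U W hsup hinf hU hW hrk _ (s5984h18_tv_iso σ hσσ c hσc v hvv) hst 1
      (by rw [map_one, one_mul]) v
    intro u
    refine ⟨c * UPolA.hs σ u v, ?_⟩
    rw [s5984h18_tv_apply, one_smul, add_sub_cancel_left]

end A

end Cfsg.Agent.Lib.Helper18.S5984DER
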