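import Mathlib
import Cfsg.Prelude.Def_LieClassical
import Cfsg.Prelude.Def_GeometricClasses
import Cfsg.Agent.Lib.helper14.UPolA
import Cfsg.Agent.Lib.Lead.Unitary
import Cfsg.Agent.Lib.Helper18.S5984DERc

/-!
# S5984, derangement side, part (d): diagonal elements and the derangement of order two
-/

set_option autoImplicit false
open scoped MatrixGroups

namespace Cfsg.Agent.Lib.Helper18.S5984DER

open Cfsg.Agent.Lib.helper14 Module

section diag
variable {F : Type*} [Field F] {ι : Type*} [Fintype ι] [DecidableEq ι]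

/-- the diagonal endomorphism -/
def s5984h18_dg (d : ι → F) : (ι → F) →ₗ[F] (ι → F) := Matrix.toLin' (Matrix.diagonal d)

theorem s5984h18_dg_apply (d u : ι → F) (i : ι) : s5984h18_dg d u i = d i * u i := by
  rw [s5984h18_dg, Matrix.toLin'_apply, Matrix.mulVec_diagonal]

theorem s5984h18_dg_comp (d d' : ι → F) :
    s5984h18_dg d ∘ₗ s5984h18_dg d' = s5984h18_dg (d * d') := by
  apply LinearMap.ext
  intro u
  funext i
  rw [LinearMap.comp_apply, s5984h18_dg_apply, s5984h18_dg_apply, s5984h18_dg_apply,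
    Pi.mul_apply, mul_assoc]

theorem s5984h18_dg_one : s5984h18_dg (1 : ι → F) = LinearMap.id := by
  apply LinearMap.ext
  intro u
  funext i
  rw [s5984h18_dg_apply, Pi.one_apply, one_mul]
  rfl

theorem s5984h18_dg_pow (d : ι → F) (k : ℕ) : (s5984h18_dg d) ^ k = s5984h18_dg (d ^ k) := by
  induction k with
  | zero => rw [pow_zero, pow_zero, s5984h18_dg_one]; rfl
  | succ k ih => rw [pow_succ, pow_succ, ih, Module.End.mul_eq_comp, s5984h18_dg_comp]

theorem s5984h18_dg_iso (σ : F →+* F) (d : ι → F) (hd : ∀ i, d i * σ (d i) = 1) (u w : ι → F) :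
    UPolA.hs σ (s5984h18_dg d u) (s5984h18_dg d w) = UPolA.hs σ u w := by
  unfold UPolA.hs
  apply Finset.sum_congr rfl
  intro i _
  rw [s5984h18_dg_apply, s5984h18_dg_apply, map_mul]
  calc d i * u i * (σ (d i) * σ (w i)) = (d i * σ (d i)) * (u i * σ (w i)) := by ring
    _ = u i * σ (w i) := by rw [hd i, one_mul]

theorem s5984h18_dg_det (d : ι → F) :
    (LinearMap.toMatrix' (s5984h18_dg d)).det = ∏ i, d i := by
  rw [s5984h18_dg, LinearMap.toMatrix'_toLin', Matrix.det_diagonal]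

theorem s5984h18_dg_inv (d : ι → F) (hd : ∀ i, d i ≠ 0) :
    s5984h18_dg d ∘ₗ s5984h18_dg (fun i => (d i)⁻¹) = LinearMap.id ∧
    s5984h18_dg (fun i => (d i)⁻¹) ∘ₗ s5984h18_dg d = LinearMap.id := by
  constructor
  · rw [s5984h18_dg_comp, ← s5984h18_dg_one]
    congr 1
    funext i
    rw [Pi.mul_apply, Pi.one_apply, mul_inv_cancel₀ (hd i)]
  · rw [s5984h18_dg_comp, ← s5984h18_dg_one]
    congr 1
    funext i
    rw [Pi.mul_apply, Pi.one_apply, inv_mul_cancel₀ (hd i)]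

end diag

section B
variable {F : Type*} [Field F] [Fintype F] {q : ℕ}

/-- a root of unity `μ` of norm one with `μ ^ n = -1` -/
theorem s5984h18_exists_mu (hq : Fintype.card F = q ^ 2) (e n' : ℕ) (hn' : Odd n')
    (he : 2 ^ (e + 1) ∣ q + 1) : ∃ μ : F, μ ^ (q + 1) = 1 ∧ μ ^ (2 ^ e * n') = -1 := by
  obtain ⟨ζ, hζ⟩ := s5984h18_exists_gen hq
  have h2 := s5984h18_two_le_q hq
  have hN : q ^ 2 - 1 = (q + 1) * (q - 1) := by
    obtain ⟨s, rfl⟩ : ∃ s, q = s + 1 := ⟨q - 1, by omega⟩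
    rw [Nat.add_sub_cancel]
    apply Nat.sub_eq_of_eq_add
    ring
  have hNpos : 0 < q ^ 2 - 1 := by
    rw [hN]
    apply Nat.mul_pos <;> omega
  obtain ⟨s, hs⟩ := he
  have hdvd : 2 ^ (e + 1) ∣ q ^ 2 - 1 := by
    rw [hN, hs, mul_assoc]
    exact dvd_mul_right _ _
  obtain ⟨M, hM⟩ := hdvd
  have hMpos : 0 < M := by
    rcases Nat.eq_zero_or_pos M with h | h
    · rw [h, mul_zero] at hM
      omega
    · exact h
  have hμ1 : (ζ ^ M) ^ (2 ^ (e + 1)) = 1 := by
    rw [← pow_mul, mul_comm, ← hM, ← hζ, pow_orderOf_eq_one]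
  have hν1 : ((ζ ^ M) ^ (2 ^ e)) ^ 2 = 1 := by
    rw [← pow_mul, ← pow_succ]
    exact hμ1
  have hν2 : (ζ ^ M) ^ (2 ^ e) ≠ 1 := by
    rw [← pow_mul]
    apply pow_ne_one_of_lt_orderOf
    · exact (Nat.mul_pos hMpos (by positivity)).ne'
    · rw [hζ, hM, pow_succ]
      have : 0 < M * 2 ^ e := Nat.mul_pos hMpos (by positivity)
      nlinarith
  have hν3 : (((ζ ^ M) ^ (2 ^ e) : Fˣ) : F) = -1 := by
    have h3 : ((((ζ ^ M) ^ (2 ^ e) : Fˣ) : F) - 1) * ((((ζ ^ M) ^ (2 ^ e) : Fˣ) : F) + 1) = 0 := by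
      have := congrArg (Units.val) hν1
      rw [Units.val_pow_eq_pow_val, Units.val_one] at this
      linear_combination this
    rcases mul_eq_zero.mp h3 with h | h
    · exfalso
      apply hν2
      apply Units.ext
      rw [Units.val_one]
      exact sub_eq_zero.mp h
    · exact eq_neg_of_add_eq_zero_left h
  refine ⟨((ζ ^ M : Fˣ) : F), ?_, ?_⟩
  · rw [← Units.val_pow_eq_pow_val, hs, pow_mul, hμ1, one_pow, Units.val_one]
  · rw [pow_mul, ← Units.val_pow_eq_pow_val, hν3, hn'.neg_one_pow]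

/-- **(B)** the derangement of order two when `q` is odd and `(q + 1)_2 > (n)_2` -/
theorem s5984h18_der_two {p : ℕ} [Fact p.Prime] [CharP F p] (hq : Fintype.card F = q ^ 2) (n : ℕ) (hn : 4 ≤ n)
    (D : Fin 2 → Submodule F (Fin n → F)) (hD : Cfsg.Geo.IsMDecomposition (n / 2) D)
    (hDs : ∀ i, Cfsg.Geo.IsTotallySingularFor (Cfsg.hermForm n F q) (D i))
    (hodd : Odd q) (h2 : padicValNat 2 n < padicValNat 2 (q + 1)) :
    ∃ x ∈ Cfsg.GU n F q ⊓ Cfsg.Geo.specialLinear (Fin n) F,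
      (∃ z : F, ((x ^ 2 : GL (Fin n) F) : Matrix (Fin n) (Fin n) F) =
        z • (1 : Matrix (Fin n) (Fin n) F)) ∧
      (∀ z : F, (x : Matrix (Fin n) (Fin n) F) ≠ z • (1 : Matrix (Fin n) (Fin n) F)) ∧
      ∀ g ∈ Cfsg.GU n F q ⊓ Cfsg.Geo.specialLinear (Fin n) F,
        g⁻¹ * x * g ∉ Cfsg.Geo.decompositionStabilizer D := by
  classical
  obtain ⟨σ, hσ⟩ := Cfsg.Agent.Lib.Lead.exists_frob hq
  have hm : 2 ≤ n / 2 := by omega
  -- `2 ≠ 0`
  have h20 : (2 : F) ≠ 0 := by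
    intro h
    have h1 : ((2 : ℕ) : F) = 0 := by exact_mod_cast h
    rw [CharP.cast_eq_zero_iff F p 2] at h1
    have h3 : p = 2 := (Nat.prime_dvd_prime_iff_eq (Fact.out : p.Prime) Nat.prime_two).mp h1
    have h4 : p ∣ q := s5984h18_p_dvd_q hq
    rw [h3] at h4
    exact (Nat.not_even_iff_odd.mpr hodd) (even_iff_two_dvd.mpr h4)
  -- the arithmetic
  set e := padicValNat 2 n with he
  have he1 : 2 ^ (e + 1) ∣ q + 1 :=
    dvd_trans (pow_dvd_pow 2 (by omega)) (pow_padicValNat_dvd (p := 2) (n := q + 1))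
  obtain ⟨n', hn'⟩ : 2 ^ e ∣ n := pow_padicValNat_dvd
  have hn'odd : Odd n' := by
    rw [← Nat.not_even_iff_odd]
    intro hev
    obtain ⟨s, hs⟩ := even_iff_two_dvd.mp hev
    have : 2 ^ (padicValNat 2 n + 1) ∣ n := by
      rw [← he]
      refine ⟨s, ?_⟩
      rw [hn', hs, pow_succ]
      ring
    exact pow_succ_padicValNat_not_dvd (p := 2) (by omega) this
  obtain ⟨μ, hμ1, hμ2⟩ := s5984h18_exists_mu hq e n' hn'odd he1
  rw [← hn'] at hμ2
  have hμ0 : μ ≠ 0 := by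
    intro h
    rw [h, zero_pow (by omega)] at hμ1
    exact zero_ne_one hμ1
  have hq1 : Even (q + 1) := hodd.add_one
  let i₀ : Fin n := ⟨0, by omega⟩
  let i₁ : Fin n := ⟨1, by omega⟩
  have hi01 : i₁ ≠ i₀ := by
    intro h
    have := congrArg Fin.val h
    simp [i₀, i₁] at this
  let d : Fin n → F := fun i => if i = i₀ then -μ else μ
  have hd0 : ∀ i, d i ≠ 0 := by
    intro i
    show (if i = i₀ then -μ else μ) ≠ 0
    split_ifs
    · exact neg_ne_zero.mpr hμ0
    · exact hμ0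
  have hdσ : ∀ i, d i * σ (d i) = 1 := by
    intro i
    rw [hσ, ← pow_succ']
    show (if i = i₀ then -μ else μ) ^ (q + 1) = 1
    split_ifs
    · rw [hq1.neg_pow, hμ1]
    · exact hμ1
  obtain ⟨hinv1, hinv2⟩ := s5984h18_dg_inv d hd0
  have hdiff : ∀ u, s5984h18_dg d u - μ • u = (-(2 * μ) * u i₀) • (Pi.single i₀ 1 : Fin n → F) := by
    intro u
    funext i
    rw [Pi.sub_apply, s5984h18_dg_apply, Pi.smul_apply, Pi.smul_apply, smul_eq_mul, smul_eq_mul]
    show (if i = i₀ then -μ else μ) * u i - μ * u i = _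
    by_cases hi : i = i₀
    · rw [if_pos hi, hi, Pi.single_eq_same]
      ring
    · rw [if_neg hi, Pi.single_eq_of_ne hi]
      ring
  have hns : ∀ z : F, ¬ ∀ u, s5984h18_dg d u = z • u := by
    intro z hz
    have h1 := congrFun (hz (Pi.single i₀ 1)) i₀
    have h3 := congrFun (hz (Pi.single i₁ 1)) i₁
    rw [s5984h18_dg_apply, Pi.smul_apply, Pi.single_eq_same, smul_eq_mul, mul_one, mul_one] at h1 h3
    have h4 : d i₀ = -μ := if_pos rfl
    have h5 : d i₁ = μ := if_neg hi01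
    rw [h4] at h1
    rw [h5] at h3
    have h6 : 2 * μ = 0 := by
      have h7 : μ = -μ := h3.trans h1.symm
      linear_combination h7
    rcases mul_eq_zero.mp h6 with h | h
    · exact h20 h
    · exact hμ0 h
  apply s5984h18_package σ hσ D (n / 2) hm hD hDs 2 (s5984h18_dg d) (s5984h18_dg (fun i => (d i)⁻¹))
    hinv1 hinv2 (s5984h18_dg_iso σ d hdσ) ?_ (μ ^ 2) ?_ hns ?_
  · rw [s5984h18_dg_det]
    have h1 : ∀ i, d i = μ * (if i = i₀ then -1 else 1) := by
      intro i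
      show (if i = i₀ then -μ else μ) = _
      split_ifs <;> ring
    rw [Finset.prod_congr rfl (fun i _ => h1 i), Finset.prod_mul_distrib, Finset.prod_const,
      Finset.prod_ite_eq', if_pos (Finset.mem_univ _), Finset.card_univ, Fintype.card_fin, hμ2]
    ring
  · intro u
    rw [s5984h18_dg_pow]
    funext i
    rw [s5984h18_dg_apply, Pi.pow_apply, Pi.smul_apply, smul_eq_mul]
    congr 1
    show (if i = i₀ then -μ else μ) ^ 2 = μ ^ 2
    split_ifs
    · ring
    · rfl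
  · intro U W hsup hinf hU hW hrk hst
    apply hns μ
    apply s5984h18_K1 σ U W hsup hinf hU hW hrk _ (s5984h18_dg_iso σ d hdσ) hst μ ?_
      (Pi.single i₀ 1) (fun u => ⟨_, hdiff u⟩)
    rw [hσ, ← pow_succ']
    exact hμ1

end B

end Cfsg.Agent.Lib.Helper18.S5984DER
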