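import Mathlib
import Cfsg.Agent.Lib.helper14.UPolA

/-!
# S5984, derangement side, part (e): the arithmetic of the order of `q` modulo `r`, and the
block embedding `a ↦ a ⊕ 1`
-/

set_option autoImplicit false

namespace Cfsg.Agent.Lib.Helper18.S5984DER

open Cfsg.Agent.Lib.helper14 Module

/-- the order of `q ^ 2` modulo an odd prime `r` dividing `q ^ j + 1`, `j` odd -/
theorem s5984h18_arith (q r j : ℕ) [hr : Fact r.Prime] (hr2 : r ≠ 2) (hj : Odd j)
    (hdiv : r ∣ q ^ j + 1) :
    ∃ t, Odd t ∧ t ≤ j ∧ r ∣ q ^ t + 1 ∧ ∀ m, 0 < m → m < t → ¬ r ∣ (q ^ 2) ^ m - 1 := by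
  have hj1 : 1 ≤ j := hj.pos
  have hq0 : 1 ≤ q := by
    rcases Nat.eq_zero_or_pos q with h0 | h0
    · exfalso
      rw [h0, zero_pow (by omega), zero_add] at hdiv
      exact hr.out.one_lt.ne' (Nat.dvd_one.mp hdiv)
    · exact h0
  have h2r : Fact (2 < r) := ⟨by have := hr.out.two_le; omega⟩
  set a : ZMod r := (q : ZMod r) with ha
  have haj : a ^ j = -1 := by
    have : ((q ^ j + 1 : ℕ) : ZMod r) = 0 := (ZMod.natCast_eq_zero_iff _ _).mpr hdiv
    rw [Nat.cast_add, Nat.cast_pow, Nat.cast_one] at this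
    exact eq_neg_of_add_eq_zero_left this
  have ha2j : a ^ (2 * j) = 1 := by
    rw [mul_comm, pow_mul, haj]
    ring
  have ho1 : orderOf a ∣ 2 * j := orderOf_dvd_of_pow_eq_one ha2j
  have ho3 : ¬ orderOf a ∣ j := by
    intro h
    have := orderOf_dvd_iff_pow_eq_one.mp h
    rw [haj] at this
    exact ZMod.neg_one_ne_one this
  have hopos : 0 < orderOf a := by
    apply Nat.pos_of_ne_zero
    intro h0
    rw [h0] at ho1
    have := Nat.eq_zero_of_zero_dvd ho1
    omega
  have heven : 2 ∣ orderOf a := by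
    by_contra hodd
    apply ho3
    have hcop : Nat.Coprime (orderOf a) 2 := by
      rw [Nat.coprime_comm]
      exact (Nat.Prime.coprime_iff_not_dvd Nat.prime_two).mpr hodd
    exact hcop.dvd_of_dvd_mul_left ho1
  obtain ⟨t, ht⟩ := heven
  have htj : t ∣ j := by
    rw [ht] at ho1
    exact (Nat.mul_dvd_mul_iff_left (by norm_num)).mp ho1
  have ht0 : 0 < t := by omega
  have hat1 : a ^ t ≠ 1 := by
    apply pow_ne_one_of_lt_orderOf (by omega)
    omega
  have hat2 : a ^ t = -1 := by
    have h1 : (a ^ t - 1) * (a ^ t + 1) = 0 := by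
      have : a ^ (2 * t) = 1 := by rw [← ht]; exact pow_orderOf_eq_one a
      rw [mul_comm, pow_mul] at this
      linear_combination this
    rcases mul_eq_zero.mp h1 with h | h
    · exact absurd (sub_eq_zero.mp h) hat1
    · exact eq_neg_of_add_eq_zero_left h
  refine ⟨t, Odd.of_dvd_nat hj htj, Nat.le_of_dvd (by omega) htj, ?_, ?_⟩
  · rw [← ZMod.natCast_eq_zero_iff, Nat.cast_add, Nat.cast_pow, Nat.cast_one, ← ha, hat2]
    ring
  · intro m hm0 hm hdvd
    have h1 : ((((q ^ 2) ^ m - 1 : ℕ)) : ZMod r) = 0 := (ZMod.natCast_eq_zero_iff _ _).mpr hdvd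
    rw [Nat.cast_sub (Nat.one_le_pow _ _ (Nat.one_le_pow _ _ hq0)), Nat.cast_pow, Nat.cast_pow,
      Nat.cast_one, ← ha, ← pow_mul] at h1
    have h2 : a ^ (2 * m) ≠ 1 := by
      apply pow_ne_one_of_lt_orderOf (by omega)
      omega
    exact h2 (sub_eq_zero.mp h1)

section emb
variable {F : Type*} [Field F] (t k : ℕ)

/-- extension by zero -/
def s5984h18_io : (Fin t → F) →ₗ[F] (Fin (t + k) → F) where
  toFun w := Fin.append w (0 : Fin k → F)
  map_add' w w' := by
    funext i
    refine Fin.addCases (fun i => ?_) (fun i => ?_) i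
    · rw [Pi.add_apply, Fin.append_left, Fin.append_left, Fin.append_left, Pi.add_apply]
    · rw [Pi.add_apply, Fin.append_right, Fin.append_right, Fin.append_right, Pi.zero_apply,
        add_zero]
  map_smul' c w := by
    funext i
    refine Fin.addCases (fun i => ?_) (fun i => ?_) i
    · rw [Pi.smul_apply, Fin.append_left, Fin.append_left, Pi.smul_apply]
      rfl
    · rw [Pi.smul_apply, Fin.append_right, Fin.append_right, Pi.zero_apply, smul_zero]

/-- restriction -/
def s5984h18_pr : (Fin (t + k) → F) →ₗ[F] (Fin t → F) := LinearMap.funLeft F F (Fin.castAdd k)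

theorem s5984h18_io_left (w : Fin t → F) (i : Fin t) :
    s5984h18_io t k w (Fin.castAdd k i) = w i := Fin.append_left w 0 i

theorem s5984h18_io_right (w : Fin t → F) (i : Fin k) :
    s5984h18_io t k w (Fin.natAdd t i) = 0 := by
  show Fin.append w (0 : Fin k → F) (Fin.natAdd t i) = 0
  rw [Fin.append_right]
  rfl

theorem s5984h18_pr_apply (v : Fin (t + k) → F) (i : Fin t) :
    s5984h18_pr t k v i = v (Fin.castAdd k i) := rfl

theorem s5984h18_pr_io (w : Fin t → F) : s5984h18_pr t k (s5984h18_io t k w) = w := by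
  funext i
  rw [s5984h18_pr_apply, s5984h18_io_left]

theorem s5984h18_io_injective : Function.Injective (s5984h18_io (F := F) t k) := by
  intro w w' h
  rw [← s5984h18_pr_io t k w, h, s5984h18_pr_io]

theorem s5984h18_hs_io_left (σ : F →+* F) (w : Fin t → F) (v : Fin (t + k) → F) :
    UPolA.hs σ (s5984h18_io t k w) v = UPolA.hs σ w (s5984h18_pr t k v) := by
  unfold UPolA.hs
  rw [Fin.sum_univ_add]
  have h2 : ∑ i : Fin k, s5984h18_io t k w (Fin.natAdd t i) * σ (v (Fin.natAdd t i)) = 0 := by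
    apply Finset.sum_eq_zero
    intro i _
    rw [s5984h18_io_right, zero_mul]
  rw [h2, add_zero]
  apply Finset.sum_congr rfl
  intro i _
  rw [s5984h18_io_left, s5984h18_pr_apply]

theorem s5984h18_hs_io_right (σ : F →+* F) (w : Fin t → F) (v : Fin (t + k) → F) :
    UPolA.hs σ v (s5984h18_io t k w) = UPolA.hs σ (s5984h18_pr t k v) w := by
  unfold UPolA.hs
  rw [Fin.sum_univ_add]
  have h2 : ∑ i : Fin k, v (Fin.natAdd t i) * σ (s5984h18_io t k w (Fin.natAdd t i)) = 0 := by
    apply Finset.sum_eq_zero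
    intro i _
    rw [s5984h18_io_right, map_zero, mul_zero]
  rw [h2, add_zero]
  apply Finset.sum_congr rfl
  intro i _
  rw [s5984h18_io_left, s5984h18_pr_apply]

/-- the embedding `a ↦ a ⊕ 1` of endomorphisms -/
def s5984h18_emb (a : Module.End F (Fin t → F)) : Module.End F (Fin (t + k) → F) :=
  1 + s5984h18_io t k ∘ₗ (a - 1) ∘ₗ s5984h18_pr t k

theorem s5984h18_emb_apply (a : Module.End F (Fin t → F)) (v : Fin (t + k) → F) :
    s5984h18_emb t k a v = v + s5984h18_io t k (a (s5984h18_pr t k v) - s5984h18_pr t k v) := rfl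

theorem s5984h18_pr_emb (a : Module.End F (Fin t → F)) (v : Fin (t + k) → F) :
    s5984h18_pr t k (s5984h18_emb t k a v) = a (s5984h18_pr t k v) := by
  rw [s5984h18_emb_apply, map_add, s5984h18_pr_io]
  abel

theorem s5984h18_emb_io (a : Module.End F (Fin t → F)) (w : Fin t → F) :
    s5984h18_emb t k a (s5984h18_io t k w) = s5984h18_io t k (a w) := by
  rw [s5984h18_emb_apply, s5984h18_pr_io, map_sub]
  abel

theorem s5984h18_emb_one : s5984h18_emb t k (1 : Module.End F (Fin t → F)) = 1 := by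
  apply LinearMap.ext
  intro v
  rw [s5984h18_emb_apply, Module.End.one_apply, Module.End.one_apply, sub_self, map_zero, add_zero]

theorem s5984h18_emb_mul (a b : Module.End F (Fin t → F)) :
    s5984h18_emb t k (a * b) = s5984h18_emb t k a * s5984h18_emb t k b := by
  apply LinearMap.ext
  intro v
  rw [Module.End.mul_apply, s5984h18_emb_apply t k a, s5984h18_pr_emb, s5984h18_emb_apply t k b,
    s5984h18_emb_apply, Module.End.mul_apply, map_sub, map_sub, map_sub]
  abel

theorem s5984h18_emb_pow (a : Module.End F (Fin t → F)) (n : ℕ) :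
    s5984h18_emb t k (a ^ n) = s5984h18_emb t k a ^ n := by
  induction n with
  | zero => rw [pow_zero, pow_zero, s5984h18_emb_one]
  | succ n ih => rw [pow_succ, pow_succ, s5984h18_emb_mul, ih]

theorem s5984h18_emb_iso (σ : F →+* F) (a : Module.End F (Fin t → F))
    (ha : ∀ w w', UPolA.hs σ (a w) (a w') = UPolA.hs σ w w') (u v : Fin (t + k) → F) :
    UPolA.hs σ (s5984h18_emb t k a u) (s5984h18_emb t k a v) = UPolA.hs σ u v := by
  rw [s5984h18_emb_apply, s5984h18_emb_apply]
  simp only [UPolA.hs_add_left, UPolA.hs_add_right, s5984h18_hs_io_left, s5984h18_hs_io_right,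
    s5984h18_pr_io, UPolA.hs_sub_left, UPolA.hs_sub_right, ha]
  ring

end emb

end Cfsg.Agent.Lib.Helper18.S5984DER
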