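import Mathlib
import Cfsg.Prelude.Def_LieClassical
import Cfsg.Prelude.Def_GeometricClasses
import Cfsg.Agent.Lib.helper14.UPolA
import Cfsg.Agent.Lib.helper14.PolA
import Cfsg.Agent.Lib.Lead.Unitary
import Cfsg.Agent.S0277
import Cfsg.Agent.Lib.Helper18.S5984DERd
import Cfsg.Agent.Lib.Helper18.S5984DERe

/-!
# S5984, derangement side, part (f): the derangements of odd prime order `r ≠ p`
-/

set_option autoImplicit false
open scoped MatrixGroups

namespace Cfsg.Agent.Lib.Helper18.S5984DER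

open Cfsg.Agent.Lib.helper14 Module

variable {F : Type*} [Field F] [Fintype F] {q : ℕ}

omit [Fintype F] in
/-- the determinant of an isometry has norm one -/
theorem s5984h18_det_norm (σ : F →+* F) (hσ : ∀ x, σ x = x ^ q) (n : ℕ)
    (y : (Fin n → F) →ₗ[F] (Fin n → F))
    (hiso : ∀ u v, UPolA.hs σ (y u) (y v) = UPolA.hs σ u v) :
    (LinearMap.toMatrix' y).det ^ (q + 1) = 1 := by
  set M := LinearMap.toMatrix' y with hM
  have h1 : ∀ u v, Cfsg.hermForm n F q (M.mulVec u) (M.mulVec v) = Cfsg.hermForm n F q u v := by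
    intro u v
    rw [s5984h18_herm_eq_hs σ hσ, s5984h18_herm_eq_hs σ hσ, ← Matrix.toLin'_apply,
      ← Matrix.toLin'_apply, hM, Matrix.toLin'_toMatrix', hiso]
  have h2 := (Cfsg.Agent.Lib.Lead.preserves_iff σ hσ M).mp h1
  have h3 := congrArg Matrix.det h2
  rw [Matrix.det_mul, Matrix.det_transpose, Matrix.det_one, ← RingHom.mapMatrix_apply,
    ← RingHom.map_det, hσ] at h3
  rw [pow_succ']
  exact h3

/-- **(C), first case**: `r ∤ q + 1` -/
theorem s5984h18_der_odd_A (hq : Fintype.card F = q ^ 2) (n : ℕ) (hn : 4 ≤ n)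
    (D : Fin 2 → Submodule F (Fin n → F)) (hD : Cfsg.Geo.IsMDecomposition (n / 2) D)
    (hDs : ∀ i, Cfsg.Geo.IsTotallySingularFor (Cfsg.hermForm n F q) (D i))
    (r : ℕ) [hr : Fact r.Prime] (hr2 : r ≠ 2) (j : ℕ) (hj : Odd j) (hjn : j ≤ n - 1)
    (hrj : r ∣ q ^ j + 1) (hq1 : ¬ r ∣ q + 1) :
    ∃ x ∈ Cfsg.GU n F q ⊓ Cfsg.Geo.specialLinear (Fin n) F,
      (∃ z : F, ((x ^ r : GL (Fin n) F) : Matrix (Fin n) (Fin n) F) =
        z • (1 : Matrix (Fin n) (Fin n) F)) ∧
      (∀ z : F, (x : Matrix (Fin n) (Fin n) F) ≠ z • (1 : Matrix (Fin n) (Fin n) F)) ∧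
      ∀ g ∈ Cfsg.GU n F q ⊓ Cfsg.Geo.specialLinear (Fin n) F,
        g⁻¹ * x * g ∉ Cfsg.Geo.decompositionStabilizer D := by
  classical
  obtain ⟨σ, hσ⟩ := Cfsg.Agent.Lib.Lead.exists_frob hq
  have hm : 2 ≤ n / 2 := by omega
  obtain ⟨t, htodd, htj, hrt, hnum⟩ := s5984h18_arith q r j hr2 hj hrj
  have ht1 : 1 ≤ t := htodd.pos
  have hodd_r : Odd r := hr.out.odd_of_ne_two hr2
  have hrq : ¬ r ∣ q ^ 2 := by
    intro h
    have h1 : r ∣ q := hr.out.dvd_of_dvd_pow h
    have h2 : r ∣ q ^ t := dvd_pow h1 (by omega)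
    have h3 : r ∣ 1 := (Nat.dvd_add_right h2).mp hrt
    exact hr.out.one_lt.ne' (Nat.dvd_one.mp h3)
  -- Cauchy in `GU_t`
  have hcard : r ∣ Nat.card (Cfsg.GU t F q) := by
    rw [Cfsg.Agent.S0277.result hq t]
    apply dvd_mul_of_dvd_right
    apply dvd_trans _ (Finset.dvd_prod_of_mem _ (Finset.mem_range.mpr (show t - 1 < t by omega)))
    have hev : Even (t - 1) := by
      obtain ⟨s, hs⟩ := htodd
      exact ⟨s, by omega⟩
    rw [if_pos hev, Nat.sub_add_cancel ht1]
    exact hrt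
  obtain ⟨x₁, hx₁⟩ := exists_prime_orderOf_dvd_card' r hcard
  set A : Matrix (Fin t) (Fin t) F := ((x₁ : GL (Fin t) F) : Matrix (Fin t) (Fin t) F) with hA
  set A' : Matrix (Fin t) (Fin t) F :=
    (((x₁ : GL (Fin t) F)⁻¹ : GL (Fin t) F) : Matrix (Fin t) (Fin t) F) with hA'
  have hAA' : A * A' = 1 := by rw [hA, hA', ← Units.val_mul, mul_inv_cancel, Units.val_one]
  have hA'A : A' * A = 1 := by rw [hA, hA', ← Units.val_mul, inv_mul_cancel, Units.val_one]
  have hAr : A ^ r = 1 := by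
    have h1 : x₁ ^ r = 1 := hx₁ ▸ pow_orderOf_eq_one x₁
    have h2 : ((x₁ : GL (Fin t) F)) ^ r = 1 := by
      rw [← SubgroupClass.coe_pow, h1]
      rfl
    rw [hA, ← Units.val_pow_eq_pow_val, h2, Units.val_one]
  have hA1 : A ≠ 1 := by
    intro h
    have h2 : (x₁ : GL (Fin t) F) = 1 := Units.ext h
    have h3 : x₁ = 1 := Subtype.ext h2
    rw [h3, orderOf_one] at hx₁
    exact hr.out.one_lt.ne hx₁
  let a : Module.End F (Fin t → F) := Matrix.toLin' A
  let a' : Module.End F (Fin t → F) := Matrix.toLin' A'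
  have haa' : a * a' = 1 := by
    show Matrix.toLin' A * Matrix.toLin' A' = 1
    rw [Module.End.mul_eq_comp, ← Matrix.toLin'_mul, hAA', Matrix.toLin'_one]
    rfl
  have ha'a : a' * a = 1 := by
    show Matrix.toLin' A' * Matrix.toLin' A = 1
    rw [Module.End.mul_eq_comp, ← Matrix.toLin'_mul, hA'A, Matrix.toLin'_one]
    rfl
  have har : a ^ r = 1 := by
    show (Matrix.toLin' A) ^ r = 1
    rw [← s5984h18_toLin'_pow, hAr, Matrix.toLin'_one]
    rfl
  have ha1 : a ≠ 1 := by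
    intro h
    apply hA1
    apply Matrix.toLin'.injective
    rw [Matrix.toLin'_one]
    exact h
  have haiso : ∀ w w', UPolA.hs σ (a w) (a w') = UPolA.hs σ w w' := by
    intro w w'
    show UPolA.hs σ (Matrix.toLin' A w) (Matrix.toLin' A w') = _
    rw [Matrix.toLin'_apply, Matrix.toLin'_apply, ← s5984h18_herm_eq_hs σ hσ,
      ← s5984h18_herm_eq_hs σ hσ]
    exact x₁.2 w w'
  have hcardF : Nat.card F = q ^ 2 := by rw [Nat.card_eq_fintype_card, hq]
  have hfr : Module.finrank F (Fin t → F) = t := by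
    rw [Module.finrank_fintype_fun_eq_card, Fintype.card_fin]
  obtain ⟨hfix, hirr⟩ := PolA.irr_of_order a r har ha1 (q ^ 2) t hcardF hrq hfr hnum
  obtain ⟨k, rfl⟩ : ∃ k, n = t + k := ⟨n - t, by omega⟩
  have hk : 0 < k := by omega
  set y : Module.End F (Fin (t + k) → F) := s5984h18_emb t k a with hy
  set y' : Module.End F (Fin (t + k) → F) := s5984h18_emb t k a' with hy'
  have hyy' : y ∘ₗ y' = LinearMap.id := by
    rw [← Module.End.mul_eq_comp, hy, hy', ← s5984h18_emb_mul, haa', s5984h18_emb_one]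
    rfl
  have hy'y : y' ∘ₗ y = LinearMap.id := by
    rw [← Module.End.mul_eq_comp, hy, hy', ← s5984h18_emb_mul, ha'a, s5984h18_emb_one]
    rfl
  have hiso : ∀ u v, UPolA.hs σ (y u) (y v) = UPolA.hs σ u v := s5984h18_emb_iso t k σ a haiso
  have hyr : y ^ r = 1 := by rw [hy, ← s5984h18_emb_pow, har, s5984h18_emb_one]
  have hdet : (LinearMap.toMatrix' y).det = 1 := by
    have h1 : (LinearMap.toMatrix' y).det ^ r = 1 := by
      rw [← Matrix.det_pow, ← s5984h18_toMatrix'_pow, hyr]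
      have h2 : LinearMap.toMatrix' (1 : (Fin (t + k) → F) →ₗ[F] (Fin (t + k) → F)) = 1 :=
        LinearMap.toMatrix'_id
      rw [h2, Matrix.det_one]
    have h2 := s5984h18_det_norm σ hσ (t + k) y hiso
    have h3 := pow_gcd_eq_one.mpr ⟨h1, h2⟩
    have h4 : Nat.gcd r (q + 1) = 1 := (Nat.Prime.coprime_iff_not_dvd hr.out).mpr hq1
    rwa [h4, pow_one] at h3
  have hns : ∀ z : F, ¬ ∀ u, y u = z • u := by
    intro z hz
    let e : Fin (t + k) → F := Pi.single (Fin.natAdd t ⟨0, hk⟩) 1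
    have hpe : s5984h18_pr t k e = 0 := by
      funext i
      rw [s5984h18_pr_apply]
      show (Pi.single (Fin.natAdd t ⟨0, hk⟩) (1 : F) : Fin (t + k) → F) (Fin.castAdd k i) = 0
      apply Pi.single_eq_of_ne
      intro h
      have := congrArg Fin.val h
      simp at this
      omega
    have h1 : y e = e := by
      rw [hy, s5984h18_emb_apply, hpe, map_zero, sub_zero, map_zero, add_zero]
    have h2 := congrFun ((hz e).symm.trans h1) (Fin.natAdd t ⟨0, hk⟩)
    rw [Pi.smul_apply] at h2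
    have h3 : e (Fin.natAdd t ⟨0, hk⟩) = 1 := Pi.single_eq_same _ _
    rw [h3, smul_eq_mul, mul_one] at h2
    apply ha1
    apply LinearMap.ext
    intro w
    have h4 := hz (s5984h18_io t k w)
    rw [h2, one_smul, hy, s5984h18_emb_io] at h4
    exact s5984h18_io_injective t k h4
  have key : ∀ U W : Submodule F (Fin (t + k) → F), U ⊔ W = ⊤ →
      (∀ u ∈ U, ∀ v ∈ U, UPolA.hs σ u v = 0) → (∀ u ∈ W, ∀ v ∈ W, UPolA.hs σ u v = 0) →
      U.map y = U → W.map y = W → False := by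
    intro U W hsup hU hW h1 h2
    have hyU : ∀ u ∈ U, y u ∈ U := fun u hu => h1 ▸ Submodule.mem_map_of_mem hu
    have hyW : ∀ u ∈ W, y u ∈ W := fun u hu => h2 ▸ Submodule.mem_map_of_mem hu
    apply s5984h18_K2 σ U W hsup hU hW y hyU hyW a (s5984h18_io t k) (s5984h18_io_injective t k)
      (fun w => s5984h18_emb_io t k a w) ?_ hfix hirr (Pi.single ⟨0, ht1⟩ 1) ?_
    · intro v
      refine ⟨a (s5984h18_pr t k v) - s5984h18_pr t k v, ?_⟩
      rw [hy, s5984h18_emb_apply, add_sub_cancel_left]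
    · rw [s5984h18_hs_io_left, s5984h18_pr_io, UPolA.hs_single_right, Pi.single_eq_same]
      exact one_ne_zero
  apply s5984h18_package σ hσ D ((t + k) / 2) hm hD hDs r y y' hyy' hy'y hiso hdet 1 ?_ hns ?_
  · intro u
    rw [hyr, one_smul]
    rfl
  · intro U W hsup hinf hU hW hrk hst
    rcases hst with ⟨h1, h2⟩ | ⟨h1, h2⟩
    · exact key U W hsup hU hW h1 h2
    · have hUW := s5984h18_swap_imp_eq y r hodd_r hyr U W h1 h2
      subst hUW
      exact key U U hsup hU hU h1 h1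

end Cfsg.Agent.Lib.Helper18.S5984DER
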