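import Mathlib
import Cfsg.Prelude.Def_LieClassical
import Cfsg.Prelude.Def_GeometricClasses
import Cfsg.Agent.Lib.helper14.UPolA
import Cfsg.Agent.Lib.Lead.Unitary
import Cfsg.Agent.Lib.Helper18.S5984DERf

/-!
# S5984, derangement side, part (g): odd `r` dividing `q + 1`, and the final statement (C)
-/

set_option autoImplicit false
open scoped MatrixGroups

namespace Cfsg.Agent.Lib.Helper18.S5984DER

open Cfsg.Agent.Lib.helper14 Module

variable {F : Type*} [Field F] [Fintype F] {q : ℕ}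

/-- an element of order `r` and norm one, `r ∣ q + 1` -/
theorem s5984h18_exists_omega (hq : Fintype.card F = q ^ 2) (r : ℕ) [hr : Fact r.Prime]
    (hrq : r ∣ q + 1) : ∃ ω : F, ω ^ r = 1 ∧ ω ≠ 1 ∧ ω ^ (q + 1) = 1 := by
  obtain ⟨ζ, hζ⟩ := s5984h18_exists_gen hq
  have h2 := s5984h18_two_le_q hq
  have hN : q ^ 2 - 1 = (q + 1) * (q - 1) := by
    obtain ⟨s, rfl⟩ : ∃ s, q = s + 1 := ⟨q - 1, by omega⟩
    rw [Nat.add_sub_cancel]
    apply Nat.sub_eq_of_eq_add
    ring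
  obtain ⟨s, hs⟩ := hrq
  have hspos : 0 < s := by
    rcases Nat.eq_zero_or_pos s with h | h
    · rw [h, mul_zero] at hs
      omega
    · exact h
  have hr1 := hr.out.one_lt
  set M := s * (q - 1) with hM
  have hMpos : 0 < M := Nat.mul_pos hspos (by omega)
  have hNM : q ^ 2 - 1 = r * M := by rw [hN, hs, hM, mul_assoc]
  refine ⟨((ζ ^ M : Fˣ) : F), ?_, ?_, ?_⟩
  · rw [← Units.val_pow_eq_pow_val, ← pow_mul, mul_comm, ← hNM, ← hζ, pow_orderOf_eq_one,
      Units.val_one]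
  · intro h
    have h1 : ζ ^ M = 1 := Units.ext (by rw [h, Units.val_one])
    have h3 := pow_ne_one_of_lt_orderOf hMpos.ne' (by rw [hζ, hNM]; nlinarith) h1
    exact h3
  · rw [← Units.val_pow_eq_pow_val, ← pow_mul]
    have h1 : M * (q + 1) = (q ^ 2 - 1) * s := by rw [hN, hM]; ring
    rw [h1, pow_mul, ← hζ, pow_orderOf_eq_one, one_pow, Units.val_one]

/-- **(C), second case**: `r ∣ q + 1` -/
theorem s5984h18_der_odd_B (hq : Fintype.card F = q ^ 2) (n : ℕ) (hn : 4 ≤ n)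
    (D : Fin 2 → Submodule F (Fin n → F)) (hD : Cfsg.Geo.IsMDecomposition (n / 2) D)
    (hDs : ∀ i, Cfsg.Geo.IsTotallySingularFor (Cfsg.hermForm n F q) (D i))
    (r : ℕ) [hr : Fact r.Prime] (hr2 : r ≠ 2) (hq1 : r ∣ q + 1) :
    ∃ x ∈ Cfsg.GU n F q ⊓ Cfsg.Geo.specialLinear (Fin n) F,
      (∃ z : F, ((x ^ r : GL (Fin n) F) : Matrix (Fin n) (Fin n) F) =
        z • (1 : Matrix (Fin n) (Fin n) F)) ∧
      (∀ z : F, (x : Matrix (Fin n) (Fin n) F) ≠ z • (1 : Matrix (Fin n) (Fin n) F)) ∧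
      ∀ g ∈ Cfsg.GU n F q ⊓ Cfsg.Geo.specialLinear (Fin n) F,
        g⁻¹ * x * g ∉ Cfsg.Geo.decompositionStabilizer D := by
  classical
  obtain ⟨σ, hσ⟩ := Cfsg.Agent.Lib.Lead.exists_frob hq
  have hm : 2 ≤ n / 2 := by omega
  have hodd_r : Odd r := hr.out.odd_of_ne_two hr2
  obtain ⟨ω, hωr, hω1, hωq⟩ := s5984h18_exists_omega hq r hq1
  have hω0 : ω ≠ 0 := by
    intro h
    rw [h, zero_pow (by omega)] at hωq
    exact zero_ne_one hωq
  have hω2 : ω ^ 2 ≠ 1 := by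
    intro h
    have h3 := pow_gcd_eq_one.mpr ⟨h, hωr⟩
    have h4 : Nat.gcd 2 r = 1 := (Nat.coprime_primes Nat.prime_two hr.out).mpr (Ne.symm hr2)
    rw [h4, pow_one] at h3
    exact hω1 h3
  have hωinv : ω⁻¹ ≠ ω := by
    intro h
    apply hω2
    rw [pow_two]
    nth_rewrite 1 [← h]
    exact inv_mul_cancel₀ hω0
  let i₀ : Fin n := ⟨0, by omega⟩
  let i₁ : Fin n := ⟨1, by omega⟩
  let i₂ : Fin n := ⟨2, by omega⟩
  have hi10 : i₁ ≠ i₀ := by
    intro h
    have := congrArg Fin.val h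
    simp [i₀, i₁] at this
  have hi20 : i₂ ≠ i₀ := by
    intro h
    have := congrArg Fin.val h
    simp [i₀, i₂] at this
  have hi21 : i₂ ≠ i₁ := by
    intro h
    have := congrArg Fin.val h
    simp [i₁, i₂] at this
  let d : Fin n → F := fun i => if i = i₀ then ω else if i = i₁ then ω⁻¹ else 1
  have hd_def : ∀ i, d i = if i = i₀ then ω else if i = i₁ then ω⁻¹ else 1 := fun i => rfl
  have hdi0 : d i₀ = ω := if_pos rfl
  have hdi2 : d i₂ = 1 := by rw [hd_def, if_neg hi20, if_neg hi21]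
  have hdne : ∀ i, i ≠ i₀ → d i ≠ ω := by
    intro i hi
    rw [hd_def, if_neg hi]
    split_ifs
    · exact hωinv
    · exact Ne.symm hω1
  have hd0 : ∀ i, d i ≠ 0 := by
    intro i
    rw [hd_def]
    split_ifs
    · exact hω0
    · exact inv_ne_zero hω0
    · exact one_ne_zero
  have hdσ : ∀ i, d i * σ (d i) = 1 := by
    intro i
    rw [hσ, ← pow_succ', hd_def]
    split_ifs
    · exact hωq
    · rw [inv_pow, hωq, inv_one]
    · exact one_pow _
  have hdr : d ^ r = 1 := by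
    funext i
    rw [Pi.pow_apply, Pi.one_apply, hd_def]
    split_ifs
    · exact hωr
    · rw [inv_pow, hωr, inv_one]
    · exact one_pow _
  obtain ⟨hinv1, hinv2⟩ := s5984h18_dg_inv d hd0
  set y := s5984h18_dg d with hy
  have hyr : y ^ r = 1 := by
    rw [hy, s5984h18_dg_pow, hdr, s5984h18_dg_one]
    rfl
  have hye : ∀ i : Fin n, y (Pi.single i 1) = d i • (Pi.single i 1 : Fin n → F) := by
    intro i
    funext l
    rw [hy, s5984h18_dg_apply, Pi.smul_apply, smul_eq_mul]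
    by_cases hl : l = i
    · rw [hl]
    · rw [Pi.single_eq_of_ne hl, mul_zero, mul_zero]
  have hns : ∀ z : F, ¬ ∀ u, y u = z • u := by
    intro z hz
    have h1 := congrFun ((hz (Pi.single i₀ 1)).symm.trans (hye i₀)) i₀
    have h3 := congrFun ((hz (Pi.single i₂ 1)).symm.trans (hye i₂)) i₂
    rw [Pi.smul_apply, Pi.smul_apply, Pi.single_eq_same, smul_eq_mul, smul_eq_mul, mul_one,
      mul_one] at h1 h3
    rw [hdi0] at h1
    rw [hdi2] at h3
    exact hω1 (h1.symm.trans h3)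
  have key : ∀ U W : Submodule F (Fin n → F), U ⊔ W = ⊤ → U ⊓ W = ⊥ →
      (∀ u ∈ U, ∀ v ∈ U, UPolA.hs σ u v = 0) → (∀ u ∈ W, ∀ v ∈ W, UPolA.hs σ u v = 0) →
      U.map y = U → W.map y = W → False := by
    intro U W hsup hinf hU hW h1 h2
    have hyU : ∀ u ∈ U, y u ∈ U := fun u hu => h1 ▸ Submodule.mem_map_of_mem hu
    have hyW : ∀ u ∈ W, y u ∈ W := fun u hu => h2 ▸ Submodule.mem_map_of_mem hu
    apply s5984h18_K3 σ U W hsup hinf hU hW y hyU hyW ω (Pi.single i₀ 1) ?_ ?_ ?_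
    · rw [hye i₀, hdi0]
    · intro u hu
      refine ⟨u i₀, ?_⟩
      funext l
      rw [Pi.smul_apply, smul_eq_mul]
      by_cases hl : l = i₀
      · rw [hl, Pi.single_eq_same, mul_one]
      · rw [Pi.single_eq_of_ne hl, mul_zero]
        have h3 := congrFun hu l
        rw [hy, s5984h18_dg_apply, Pi.smul_apply, smul_eq_mul] at h3
        have h4 : (d l - ω) * u l = 0 := by rw [sub_mul, h3, sub_self]
        rcases mul_eq_zero.mp h4 with h | h
        · exact absurd (sub_eq_zero.mp h) (hdne l hl)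
        · exact h
    · rw [UPolA.hs_single_right, Pi.single_eq_same]
      exact one_ne_zero
  apply s5984h18_package σ hσ D (n / 2) hm hD hDs r y (s5984h18_dg (fun i => (d i)⁻¹))
    hinv1 hinv2 (s5984h18_dg_iso σ d hdσ) ?_ 1 ?_ hns ?_
  · rw [hy, s5984h18_dg_det]
    have h1 : ∀ i, d i = (if i = i₀ then ω else 1) * (if i = i₁ then ω⁻¹ else 1) := by
      intro i
      rw [hd_def]
      by_cases h0 : i = i₀
      · have h01 : i ≠ i₁ := by rw [h0]; exact Ne.symm hi10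
        rw [if_pos h0, if_pos h0, if_neg h01, mul_one]
      · rw [if_neg h0, if_neg h0, one_mul]
    rw [Finset.prod_congr rfl (fun i _ => h1 i), Finset.prod_mul_distrib, Finset.prod_ite_eq',
      Finset.prod_ite_eq', if_pos (Finset.mem_univ _), if_pos (Finset.mem_univ _),
      mul_inv_cancel₀ hω0]
  · intro u
    rw [hyr, one_smul]
    rfl
  · intro U W hsup hinf hU hW hrk hst
    rcases hst with ⟨h1, h2⟩ | ⟨h1, h2⟩
    · exact key U W hsup hinf hU hW h1 h2
    · have hUW := s5984h18_swap_imp_eq y r hodd_r hyr U W h1 h2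
      subst hUW
      exact key U U hsup hinf hU hU h1 h1

/-- **(C)** the derangement of odd prime order `r`, `r ∣ q ^ j + 1` with `j ≤ n - 1` odd -/
theorem s5984h18_der_odd (hq : Fintype.card F = q ^ 2) (n : ℕ) (hn : 4 ≤ n)
    (D : Fin 2 → Submodule F (Fin n → F)) (hD : Cfsg.Geo.IsMDecomposition (n / 2) D)
    (hDs : ∀ i, Cfsg.Geo.IsTotallySingularFor (Cfsg.hermForm n F q) (D i))
    (r : ℕ) [hr : Fact r.Prime] (hr2 : r ≠ 2) (j : ℕ) (hj : Odd j) (hjn : j ≤ n - 1)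
    (hrj : r ∣ q ^ j + 1) :
    ∃ x ∈ Cfsg.GU n F q ⊓ Cfsg.Geo.specialLinear (Fin n) F,
      (∃ z : F, ((x ^ r : GL (Fin n) F) : Matrix (Fin n) (Fin n) F) =
        z • (1 : Matrix (Fin n) (Fin n) F)) ∧
      (∀ z : F, (x : Matrix (Fin n) (Fin n) F) ≠ z • (1 : Matrix (Fin n) (Fin n) F)) ∧
      ∀ g ∈ Cfsg.GU n F q ⊓ Cfsg.Geo.specialLinear (Fin n) F,
        g⁻¹ * x * g ∉ Cfsg.Geo.decompositionStabilizer D := by
  by_cases hq1 : r ∣ q + 1
  · exact s5984h18_der_odd_B hq n hn D hD hDs r hr2 hq1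
  · exact s5984h18_der_odd_A hq n hn D hD hDs r hr2 j hj hjn hrj hq1

end Cfsg.Agent.Lib.Helper18.S5984DER
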