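import Mathlib
import Cfsg.Agent.S0904
import Cfsg.Agent.Lib.helper8.SylowBasic
import Cfsg.Agent.Lib.helper23.OrdGen3

/-!
# Project S983, row N4536: no simple group of order 4536 = 2^3 * 3^4 * 7

`C_G(P_7) = P_7` (S0904, three primes), so `|N(P_7)| = 7 e` with `1 < e ∣ 6` and
`n_7 = 648 / e ∈ {324, 216, 108}`, none of which is `1 mod 7`.  (Same route as helper19's N4400.)
-/

set_option autoImplicit false

namespace Cfsg.Agent.Lib.helper3.S983

open Cfsg.Agent.Lib.helper8 Cfsg.Agent.Lib.helper23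

theorem no_simple_4536 {G : Type*} [Group G] [Finite G] [IsSimpleGroup G] (hG : Nat.card G = 4536) : False := by
  have : Fact (Nat.Prime 7) := ⟨by norm_num⟩
  have hG' : Nat.card G = 7 ^ 1 * 648 := by rw [hG]; norm_num
  have hnd : ¬ 7 ∣ 648 := by norm_num
  obtain ⟨P⟩ : Nonempty (Sylow 7 G) := inferInstance
  obtain ⟨hP, hNn, _, r, hr6, hr1, hCr⟩ := og3_sylow_data 7 648 hG' hnd (by norm_num) P
  have hcen : Subgroup.centralizer ((P : Subgroup G) : Set G) = (P : Subgroup G) :=
    Cfsg.Agent.S0904.result 2 3 7 3 4 (by norm_num) (by norm_num) (by norm_num) (by norm_num)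
      (by norm_num) (by rw [hG]; norm_num) P
  rw [hcen, hP] at hCr
  have hmod := h8_nsylow_mod (G := G) 7
  have hr6' : r ∣ 6 := by simpa using hr6
  have hrle : r ≤ 6 := Nat.le_of_dvd (by norm_num) hr6'
  rw [hG, ← hCr] at hNn
  interval_cases r <;> omega

end Cfsg.Agent.Lib.helper3.S983
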