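import Mathlib
import Cfsg.Agent.S0904
import Cfsg.Agent.Lib.helper8.SylowBasic
import Cfsg.Agent.Lib.helper23.OrdGen3

/-!
# Project S983, row N5200: no simple group of order 5200 = 2^4 * 5^2 * 13

`C_G(P_13) = P_13` (S0904, three primes), so `|N(P_13)| = 13 e` with `1 < e ∣ 12` and
`n_13 = 400 / e`, `e ∈ {2, 4}`: `n_13 ∈ {200, 100}`, none of which is `1 mod 13`.  (Same route as helper19's N4400.)
-/

set_option autoImplicit false

namespace Cfsg.Agent.Lib.helper3.S983

open Cfsg.Agent.Lib.helper8 Cfsg.Agent.Lib.helper23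

theorem no_simple_5200 {G : Type*} [Group G] [Finite G] [IsSimpleGroup G] (hG : Nat.card G = 5200) : False := by
  have : Fact (Nat.Prime 13) := ⟨by norm_num⟩
  have hG' : Nat.card G = 13 ^ 1 * 400 := by rw [hG]; norm_num
  have hnd : ¬ 13 ∣ 400 := by norm_num
  obtain ⟨P⟩ : Nonempty (Sylow 13 G) := inferInstance
  obtain ⟨hP, hNn, _, r, hr12, hr1, hCr⟩ := og3_sylow_data 13 400 hG' hnd (by norm_num) P
  have hcen : Subgroup.centralizer ((P : Subgroup G) : Set G) = (P : Subgroup G) :=
    Cfsg.Agent.S0904.result 2 5 13 4 2 (by norm_num) (by norm_num) (by norm_num) (by norm_num)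
      (by norm_num) (by rw [hG]; norm_num) P
  rw [hcen, hP] at hCr
  have hmod := h8_nsylow_mod (G := G) 13
  have hr12' : r ∣ 12 := by simpa using hr12
  have hrle : r ≤ 12 := Nat.le_of_dvd (by norm_num) hr12'
  rw [hG, ← hCr] at hNn
  interval_cases r <;> omega

end Cfsg.Agent.Lib.helper3.S983
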