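import Mathlib
import Cfsg.Agent.Lib.helper8.SylowBasic
import Cfsg.Agent.Lib.helper8.SimpleEmbed
import Cfsg.Agent.Lib.helper8.Burnside

/-!
# Project S983 (S0983): no simple group of order `5880 = 2^3 * 3 * 5 * 7^2`

`n_7 ∈ {8, 15, 120}`; `8`: `49 ∤ 8!`; `120`: `N(P) = P` abelian, Burnside; `15`: two distinct Sylow `7`-subgroups meet in a
subgroup `D` of order `7` (orbit of `Q` under `P`), the set of Sylow subgroups containing `D` has `8` elements (fixed points of
`D`, congruence modulo `7`, core), so the `15 * 14` ordered pairs of distinct Sylow subgroups are partitioned into fibres of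
size `8 * 7`.
-/

set_option autoImplicit false
set_option linter.unusedSectionVars false
set_option linter.unusedVariables false
set_option linter.style.haveILetI false

namespace Cfsg.Agent.Lib.Helper18.S983

open Subgroup MulAction
open Cfsg.Agent.Lib.helper8

variable {G : Type*} [Group G] [Finite G]

/-- two distinct Sylow `p`-subgroups meet non-trivially when there are fewer Sylow subgroups than `|P|`. -/
theorem s983_inf_ne_bot (p : ℕ) [Fact p.Prime] (P Q : Sylow p G)
    (hn : Nat.card (Sylow p G) < Nat.card (P : Subgroup G)) :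
    (P : Subgroup G) ⊓ (Q : Subgroup G) ≠ ⊥ := by
  intro hbot
  have hstab : stabilizer ↥(P : Subgroup G) Q = ⊥ := by
    rw [Subgroup.eq_bot_iff_forall]
    intro g hg
    rw [mem_stabilizer_iff] at hg
    have h1 : (g : G) • Q = Q := hg
    rw [Sylow.smul_eq_iff_mem_normalizer] at h1
    have h2 : (g : G) ∈ (P : Subgroup G) ⊓ normalizer (Q : Set G) := ⟨g.2, h1⟩
    rw [P.2.inf_normalizer_sylow Q, hbot, Subgroup.mem_bot] at h2
    exact Subtype.ext h2
  have h3 := MulAction.index_stabilizer ↥(P : Subgroup G) Q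
  rw [hstab, Subgroup.index_bot] at h3
  have h4 : (orbit ↥(P : Subgroup G) Q).ncard ≤ Nat.card (Sylow p G) := Set.ncard_le_card _
  omega

/-- the Sylow `p`-subgroups containing a non-trivial `p`-subgroup `D` of a simple group: their number is `≡ n_p (mod p)`
and they are not all of them. -/
theorem s983_card_containing (p : ℕ) [Fact p.Prime] (D : Subgroup G) (hD : IsPGroup p D) :
    Nat.card (Sylow p G) ≡ Nat.card {R : Sylow p G // D ≤ (R : Subgroup G)} [MOD p] := by
  have h := hD.card_modEq_card_fixedPoints (Sylow p G)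
  have e : (fixedPoints ↥D (Sylow p G)) = {R : Sylow p G | D ≤ (R : Subgroup G)} := by
    ext R
    rw [hD.sylow_mem_fixedPoints_iff]
    rfl
  rw [e] at h
  exact h

theorem s983_not_all [IsSimpleGroup G] (p : ℕ) [Fact p.Prime] (D : Subgroup G) (hD1 : D ≠ ⊥)
    (P : Sylow p G) (hP : (P : Subgroup G) ≠ ⊤) (hall : ∀ R : Sylow p G, D ≤ (R : Subgroup G)) : False := by
  have hle : D ≤ (P : Subgroup G).normalCore := by
    intro a ha
    show ∀ b : G, b * a * b⁻¹ ∈ (P : Subgroup G)
    intro b
    have h1 : a ∈ ((b⁻¹ • P : Sylow p G) : Subgroup G) := hall _ ha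
    rw [Sylow.coe_subgroup_smul, Subgroup.mem_pointwise_smul_iff_inv_smul_mem] at h1
    simpa [MulAut.smul_def, mul_assoc] using h1
  rcases (inferInstance : IsSimpleGroup G).eq_bot_or_eq_top_of_normal
    (P : Subgroup G).normalCore inferInstance with h | h
  · rw [h, le_bot_iff] at hle
    exact hD1 hle
  · apply hP
    rw [eq_top_iff, ← h]
    exact Subgroup.normalCore_le _

/-- the intersection of two distinct Sylow `p`-subgroups of order `p ^ 2`, fewer than `p ^ 2` of them, has order `p`. -/
theorem s983_card_inf (p : ℕ) [hp : Fact p.Prime] (hcard : ∀ P : Sylow p G, Nat.card (P : Subgroup G) = p ^ 2)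
    (hn : Nat.card (Sylow p G) < p ^ 2) (P Q : Sylow p G) (hPQ : P ≠ Q) :
    Nat.card ↥((P : Subgroup G) ⊓ (Q : Subgroup G)) = p := by
  have h1 : Nat.card ↥((P : Subgroup G) ⊓ (Q : Subgroup G)) ∣ p ^ 2 := by
    rw [← hcard P]
    exact Subgroup.card_dvd_of_le inf_le_left
  obtain ⟨k, hk, hk'⟩ := (Nat.dvd_prime_pow hp.out).mp h1
  have hne := s983_inf_ne_bot p P Q (by rw [hcard P]; exact hn)
  interval_cases k
  · exfalso
    apply hne
    rw [pow_zero] at hk'
    exact Subgroup.card_eq_one.mp hk'
  · rw [hk', pow_one]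
  · exfalso
    apply hPQ
    have h2 : (P : Subgroup G) ⊓ (Q : Subgroup G) = (P : Subgroup G) := by
      apply Subgroup.eq_of_le_of_card_ge inf_le_left
      rw [hk', hcard P]
    have h3 : (P : Subgroup G) ≤ (Q : Subgroup G) := by
      rw [← h2]; exact inf_le_right
    have h4 : (Q : Subgroup G) = (P : Subgroup G) := P.3 Q.2 h3
    exact (Sylow.ext h4).symm

/-- the double count: if every intersection `P ⊓ Q` of two distinct Sylow `p`-subgroups (of order `p ^ 2`, fewer than
`p ^ 2` of them) lies in exactly `s` Sylow subgroups, then `s (s - 1)` divides `n (n - 1)`. -/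
theorem s983_pair_count (p : ℕ) [hp : Fact p.Prime] (hcard : ∀ P : Sylow p G, Nat.card (P : Subgroup G) = p ^ 2)
    (hn : Nat.card (Sylow p G) < p ^ 2) (s : ℕ)
    (hs : ∀ P Q : Sylow p G, P ≠ Q →
      Nat.card {R : Sylow p G // (P : Subgroup G) ⊓ (Q : Subgroup G) ≤ (R : Subgroup G)} = s) :
    s * s - s ∣ Nat.card (Sylow p G) * Nat.card (Sylow p G) - Nat.card (Sylow p G) := by
  classical
  letI : Fintype (Sylow p G) := Fintype.ofFinite _
  set T : Finset (Sylow p G × Sylow p G) := (Finset.univ : Finset (Sylow p G)).offDiag with hT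
  set f : Sylow p G × Sylow p G → Subgroup G := fun x => (x.1 : Subgroup G) ⊓ (x.2 : Subgroup G) with hf
  have hTcard : T.card = Nat.card (Sylow p G) * Nat.card (Sylow p G) - Nat.card (Sylow p G) := by
    rw [hT, Finset.offDiag_card, Finset.card_univ, Nat.card_eq_fintype_card]
  have hfib : ∀ b ∈ T.image f, (T.filter (fun x => f x = b)).card = s * s - s := by
    intro b hb
    obtain ⟨⟨P₀, Q₀⟩, hx, rfl⟩ := Finset.mem_image.mp hb
    have hne : P₀ ≠ Q₀ := by
      rw [hT, Finset.mem_offDiag] at hx
      exact hx.2.2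
    have hbcard : Nat.card ↥(f (P₀, Q₀)) = p := s983_card_inf p hcard hn P₀ Q₀ hne
    have e : T.filter (fun x => f x = f (P₀, Q₀)) =
        ((Finset.univ : Finset (Sylow p G)).filter
          (fun R : Sylow p G => f (P₀, Q₀) ≤ (R : Subgroup G))).offDiag := by
      ext ⟨P, Q⟩
      simp only [Finset.mem_filter, hT, Finset.mem_offDiag, Finset.mem_univ, true_and]
      constructor
      · rintro ⟨hPQ, hfe⟩
        refine ⟨?_, ?_, hPQ⟩
        · rw [← hfe]; exact inf_le_left
        · rw [← hfe]; exact inf_le_right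
      · rintro ⟨h1, h2, hPQ⟩
        refine ⟨hPQ, ?_⟩
        symm
        apply Subgroup.eq_of_le_of_card_ge (le_inf h1 h2)
        rw [hbcard]
        exact (s983_card_inf p hcard hn P Q hPQ).le
    rw [e, Finset.offDiag_card]
    have hc : ((Finset.univ : Finset (Sylow p G)).filter
        (fun R : Sylow p G => f (P₀, Q₀) ≤ (R : Subgroup G))).card = s := by
      rw [← hs P₀ Q₀ hne, Nat.card_eq_fintype_card, Fintype.card_subtype]
    rw [hc]
  have hsum := Finset.card_eq_sum_card_fiberwise (f := f) (s := T) (t := T.image f)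
    (fun x hx => Finset.mem_image_of_mem f hx)
  rw [Finset.sum_congr rfl hfib, Finset.sum_const, smul_eq_mul, hTcard] at hsum
  rw [hsum]
  exact Dvd.intro_left _ rfl

/-- the number of Sylow subgroups containing `P ⊓ Q` (`P ≠ Q`) is `≡ n_p (mod p)`, at least `2` and less than `n_p`. -/
theorem s983_containing_bounds [IsSimpleGroup G] (p : ℕ) [hp : Fact p.Prime]
    (hcard : ∀ P : Sylow p G, Nat.card (P : Subgroup G) = p ^ 2) (hn : Nat.card (Sylow p G) < p ^ 2)
    (hG : p ^ 2 < Nat.card G) (P Q : Sylow p G) (hPQ : P ≠ Q) :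
    Nat.card (Sylow p G) ≡
        Nat.card {R : Sylow p G // (P : Subgroup G) ⊓ (Q : Subgroup G) ≤ (R : Subgroup G)} [MOD p] ∧
      2 ≤ Nat.card {R : Sylow p G // (P : Subgroup G) ⊓ (Q : Subgroup G) ≤ (R : Subgroup G)} ∧
      Nat.card {R : Sylow p G // (P : Subgroup G) ⊓ (Q : Subgroup G) ≤ (R : Subgroup G)} <
        Nat.card (Sylow p G) := by
  classical
  letI : Fintype (Sylow p G) := Fintype.ofFinite _
  have hD : IsPGroup p ↥((P : Subgroup G) ⊓ (Q : Subgroup G)) := P.2.to_le inf_le_left
  refine ⟨s983_card_containing p _ hD, ?_, ?_⟩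
  · have hnt : Nontrivial {R : Sylow p G // (P : Subgroup G) ⊓ (Q : Subgroup G) ≤ (R : Subgroup G)} :=
      ⟨⟨⟨P, inf_le_left⟩, ⟨Q, inf_le_right⟩, fun h => hPQ (congrArg Subtype.val h)⟩⟩
    exact Finite.one_lt_card_iff_nontrivial.mpr hnt
  · by_contra hcon
    have hall : ∀ R : Sylow p G, (P : Subgroup G) ⊓ (Q : Subgroup G) ≤ (R : Subgroup G) := by
      by_contra hex
      push Not at hex
      obtain ⟨R, hR⟩ := hex
      apply hcon
      rw [Nat.card_eq_fintype_card, Nat.card_eq_fintype_card]
      exact Fintype.card_subtype_lt hR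
    have hne : (P : Subgroup G) ⊓ (Q : Subgroup G) ≠ ⊥ :=
      s983_inf_ne_bot p P Q (by rw [hcard P]; exact hn)
    have hPtop : (P : Subgroup G) ≠ ⊤ := by
      intro ht
      have h1 := hcard P
      rw [ht, Subgroup.card_top] at h1
      omega
    exact s983_not_all p _ hne P hPtop hall

/-- `7` is prime. -/
instance s983_fact7 : Fact (Nat.Prime 7) := ⟨by norm_num⟩

/-- no simple group of order `5880 = 2^3 * 3 * 5 * 7^2`. -/
theorem no_simple_5880 {G : Type*} [Group G] [Finite G] [IsSimpleGroup G] (hG : Nat.card G = 5880) :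
    False := by
  have hG' : Nat.card G = 7 ^ 2 * 120 := by rw [hG]; norm_num
  have hnd : ¬ 7 ∣ 120 := by norm_num
  have hnc : ¬ IsMulCommutative G := h8_not_comm_of_card (by rw [hG]; norm_num)
  have hmem := h8_nsylow_mem 7 2 120 hG' hnd
  have hdiv : (Nat.divisors 120).filter (fun d => d % 7 = 1) = {1, 8, 15, 120} := by decide
  rw [hdiv] at hmem
  simp only [Finset.mem_insert, Finset.mem_singleton] at hmem
  obtain ⟨P⟩ : Nonempty (Sylow 7 G) := inferInstance
  have hPc : ∀ P : Sylow 7 G, Nat.card (P : Subgroup G) = 7 ^ 2 :=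
    fun P => h8_sylow_card 7 2 120 hG' hnd P
  have hN := h8_card_normalizer_sylow 7 P
  rcases hmem with h | h | h | h
  · exact h8_simple_nsylow_ne_one 7 2 120 hG' hnd (by norm_num) (by norm_num) h
  · -- `n_7 = 8`
    have hidx : (normalizer ((P : Subgroup G) : Set G)).index = 8 := by
      rw [← h8_nsylow_eq_index_normalizer 7 P]; exact h
    have hne : normalizer ((P : Subgroup G) : Set G) ≠ ⊤ := by
      intro ht
      rw [ht, Subgroup.index_top] at hidx
      omega
    have h2 := h8_simple_two_mul_card_dvd_factorial hnc _ hne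
    rw [hidx, hG] at h2
    revert h2
    decide
  · -- `n_7 = 15`
    have hn : Nat.card (Sylow 7 G) < 7 ^ 2 := by rw [h]; norm_num
    have hs : ∀ P Q : Sylow 7 G, P ≠ Q →
        Nat.card {R : Sylow 7 G // (P : Subgroup G) ⊓ (Q : Subgroup G) ≤ (R : Subgroup G)} = 8 := by
      intro P Q hPQ
      obtain ⟨h1, h2, h3⟩ := s983_containing_bounds 7 hPc hn (by rw [hG]; norm_num) P Q hPQ
      rw [h] at h1 h3
      have h4 := h1.symm
      unfold Nat.ModEq at h4
      omega
    have hdvd := s983_pair_count 7 hPc hn 8 hs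
    rw [h] at hdvd
    revert hdvd
    decide
  · -- `n_7 = 120`
    have hNc : Nat.card (normalizer ((P : Subgroup G) : Set G)) = 49 := by
      rw [h, hG] at hN
      omega
    have hPN : (P : Subgroup G) = normalizer ((P : Subgroup G) : Set G) := by
      apply Subgroup.eq_of_le_of_card_ge Subgroup.le_normalizer
      rw [hNc, hPc P]; norm_num
    apply h8_simple_not_normalizer_le_centralizer 7 2 120 hG' hnd (by norm_num) (by norm_num) P
    intro g hg
    rw [← hPN] at hg
    rw [Subgroup.mem_centralizer_iff]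
    intro y hy
    exact h8_comm_of_card_prime_sq 7 (P : Subgroup G) (hPc P) y hy g hg

end Cfsg.Agent.Lib.Helper18.S983
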