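import Cfsg.Agent.Lib.helper7.SAP.Defs
import Cfsg.Agent.Lib.Helper10.SAPSIX1
import Cfsg.Agent.Lib.helper4.SAPCAR3
import Cfsg.Agent.Lib.Helper26.SAPALT3
import Cfsg.Agent.Lib.Helper10.SAPTR1
import Cfsg.Agent.Lib.Helper10.SAPTR2

/-!
# SAP SIX3 (second writer helper18): `sapsix3_h18_pres_S6` = the exact Skel statement of `pres_S6`.
`S_6 = ⟨a, z | a^4, z^3, (z · a z a⁻¹)^2, (z · a² z a⁻²)^2, a⁻² W⟩`, `a ↦ (0 1 2 3)`, `z ↦ (0 4 5)`,
`W = x₀ x₁ x₂ x₀⁻¹ x₃⁻¹ x₁` with `x_i = a^i z a^-i`.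
-/

set_option autoImplicit false

namespace Cfsg.Agent.Lib.helper7.SAP

open Equiv

universe u

/-- the word `a^i z a^-i` -/
def sapsix3_h18_w (i : ℕ) : FreeGroup (Fin 2) := wA ^ i * wG * (wA ^ i)⁻¹

/-- the word for `a²` -/
def sapsix3_h18_W : FreeGroup (Fin 2) :=
  sapsix3_h18_w 0 * sapsix3_h18_w 1 * sapsix3_h18_w 2 * (sapsix3_h18_w 0)⁻¹ * (sapsix3_h18_w 3)⁻¹ *
    sapsix3_h18_w 1

/-- the five relators -/
def sapsix3_h18_rels : List (FreeGroup (Fin 2)) :=
  [wA ^ 4, wG ^ 3, (wG * (wA * wG * wA⁻¹)) ^ 2, (wG * (wA ^ 2 * wG * (wA ^ 2)⁻¹)) ^ 2,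
    (wA ^ 2)⁻¹ * sapsix3_h18_W]

/-- `a ↦ (0 1 2 3)` -/
def sapsix3_h18_pa : Perm (Fin 6) := List.formPerm [0, 1, 2, 3]

/-- `z ↦ (0 4 5)` -/
def sapsix3_h18_pz : Perm (Fin 6) := c3 0 4 5

theorem sapsix3_h18_rels_hold : ∀ r ∈ (↑sapsix3_h18_rels.toFinset : Set (FreeGroup (Fin 2))),
    FreeGroup.lift ![sapsix3_h18_pa, sapsix3_h18_pz] r = 1 := by
  intro r hr
  simp only [sapsix3_h18_rels, List.toFinset_cons, List.toFinset_nil, Finset.coe_insert,
    Finset.coe_singleton, Set.mem_insert_iff, Set.mem_singleton_iff, insert_empty_eq] at hr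
  rcases hr with rfl | rfl | rfl | rfl | rfl <;>
  · simp only [sapsix3_h18_W, sapsix3_h18_w, map_mul, map_pow, map_inv, FreeGroup.lift_apply_of,
      Matrix.cons_val_zero, Matrix.cons_val_one]
    decide +kernel

/-- in a group with `a^4 = 1` the family `zo a z : ZMod 4 → G` is shifted by conjugation with `a` -/
theorem sapsix3_h18_shift {G : Type*} [Group G] (a z : G) (ha : a ^ 4 = 1) (i : ZMod 4) :
    a * zo a z i * a⁻¹ = zo a z (i + 1) := by
  have h3 : a * a ^ 3 = 1 := by rw [← pow_succ', ha]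
  have key : ∀ i : ZMod 4, a ^ (i + 1).val = a * a ^ i.val := by
    intro i
    fin_cases i
    · show a ^ 1 = a * a ^ 0
      rw [pow_one, pow_zero, mul_one]
    · show a ^ 2 = a * a ^ 1
      rw [pow_succ']
    · show a ^ 3 = a * a ^ 2
      rw [pow_succ']
    · show a ^ 0 = a * a ^ 3
      rw [pow_zero, h3]
  unfold zo
  rw [key i]
  group

theorem sapsix3_h18_zo_val {G : Type*} [Group G] (a z : G) (n : ℕ) (hn : n < 4) :
    zo a z ((n : ℕ) : ZMod 4) = a ^ n * z * (a ^ n)⁻¹ := by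
  unfold zo
  have : ((n : ℕ) : ZMod 4).val = n := by
    rw [ZMod.val_natCast]
    exact Nat.mod_eq_of_lt hn
  rw [this]

/-- the abstract half: a group generated by `a`, `z` with the five relations has at most `720` elements -/
theorem sapsix3_h18_bound {G : Type u} [Group G] (a z : G) (ha : a ^ 4 = 1) (hz : z ^ 3 = 1)
    (h01 : (z * (a * z * a⁻¹)) ^ 2 = 1) (h02 : (z * (a ^ 2 * z * (a ^ 2)⁻¹)) ^ 2 = 1)
    (hW : a ^ 2 = (a ^ 0 * z * (a ^ 0)⁻¹) * (a ^ 1 * z * (a ^ 1)⁻¹) * (a ^ 2 * z * (a ^ 2)⁻¹) *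
      (a ^ 0 * z * (a ^ 0)⁻¹)⁻¹ * (a ^ 3 * z * (a ^ 3)⁻¹)⁻¹ * (a ^ 1 * z * (a ^ 1)⁻¹))
    (hgen : Subgroup.closure ({a, z} : Set G) = ⊤) : Finite G ∧ Nat.card G ≤ 720 := by
  set x : ZMod 4 → G := zo a z with hx
  have e0 : x 0 = a ^ 0 * z * (a ^ 0)⁻¹ := sapsix3_h18_zo_val a z 0 (by norm_num)
  have e1 : x 1 = a ^ 1 * z * (a ^ 1)⁻¹ := sapsix3_h18_zo_val a z 1 (by norm_num)
  have e2 : x 2 = a ^ 2 * z * (a ^ 2)⁻¹ := sapsix3_h18_zo_val a z 2 (by norm_num)
  have e3 : x 3 = a ^ 3 * z * (a ^ 3)⁻¹ := sapsix3_h18_zo_val a z 3 (by norm_num)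
  have hcar : CarRel x := by
    refine cyc4_carRel a x 1 (Or.inl rfl) ?_ ?_ ?_ ?_
    · intro i
      rw [zpow_one]
      exact sapsix3_h18_shift a z ha i
    · intro i
      show (a ^ i.val * z * (a ^ i.val)⁻¹) ^ 3 = 1
      rw [conj_pow, hz, mul_one, mul_inv_cancel]
    · rw [e0, e1, pow_zero, pow_one, one_mul, inv_one, mul_one]
      exact h01
    · rw [e0, e2, pow_zero, one_mul, inv_one, mul_one]
      exact h02
  obtain ⟨hfin, hcard⟩ := car_card_le x hcar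
  set N : Subgroup G := Subgroup.closure (Set.range x) with hN
  have hxN : ∀ i, x i ∈ N := fun i => Subgroup.subset_closure ⟨i, rfl⟩
  have hn : ∀ g ∈ N, a * g * a⁻¹ ∈ N := by
    intro g hg
    induction hg using Subgroup.closure_induction with
    | mem y hy =>
      obtain ⟨i, rfl⟩ := hy
      rw [hx, sapsix3_h18_shift a z ha i]
      exact hxN _
    | one => simp [N.one_mem]
    | mul g h _ _ ihg ihh =>
      have : a * (g * h) * a⁻¹ = (a * g * a⁻¹) * (a * h * a⁻¹) := by group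
      rw [this]
      exact N.mul_mem ihg ihh
    | inv g _ ihg =>
      have : a * g⁻¹ * a⁻¹ = (a * g * a⁻¹)⁻¹ := by group
      rw [this]
      exact N.inv_mem ihg
  have ht : a ^ 2 ∈ N := by
    rw [hW, ← e0, ← e1, ← e2, ← e3]
    exact N.mul_mem (N.mul_mem (N.mul_mem (N.mul_mem (N.mul_mem (hxN 0) (hxN 1)) (hxN 2))
      (N.inv_mem (hxN 0))) (N.inv_mem (hxN 3))) (hxN 1)
  have hgen' : N ⊔ Subgroup.zpowers a = ⊤ := by
    rw [eq_top_iff, ← hgen, Subgroup.closure_le]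
    rintro g (rfl | rfl)
    · exact Subgroup.mem_sup_right (Subgroup.mem_zpowers _)
    · refine Subgroup.mem_sup_left ?_
      have : x 0 = g := by rw [e0, pow_zero, one_mul, inv_one, mul_one]
      rw [← this]
      exact hxN 0
  obtain ⟨hG, hGc⟩ := index_two_bound N a hn ht hgen'
  refine ⟨hG, ?_⟩
  have h4 : Nat.card (ZMod 4) = 4 := by rw [Nat.card_eq_fintype_card, ZMod.card]
  rw [h4] at hcard
  have : (4 + 2).factorial = 720 := by decide
  omega

theorem sapsix3_h18_c3_range : ∀ i : Fin 6, i ≠ 4 → i ≠ 5 →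
    ∃ n : Fin 4, c3 i 4 5 = sapsix3_h18_pa ^ n.val * sapsix3_h18_pz * (sapsix3_h18_pa ^ n.val)⁻¹ := by
  decide +kernel

theorem sapsix3_h18_sign_pa : Perm.sign sapsix3_h18_pa = -1 := by decide +kernel

/-- a subgroup of `Perm (Fin 6)` containing the 3-cycles `(i 4 5)` and an odd permutation is everything -/
theorem sapsix3_h18_top (H : Subgroup (Perm (Fin 6)))
    (h3 : ∀ i : Fin 6, i ≠ 4 → i ≠ 5 → c3 i 4 5 ∈ H) (τ : Perm (Fin 6)) (hτ : τ ∈ H)
    (hs : Perm.sign τ = -1) : H = ⊤ := by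
  have hA : alternatingGroup (Fin 6) ≤ H := by
    rw [← altgen (4 : Fin 6) 5 (by decide), Subgroup.closure_le]
    rintro _ ⟨y, rfl⟩
    exact h3 y.1 y.2.1 y.2.2
  rw [eq_top_iff]
  intro σ _
  rcases Int.units_eq_one_or (Perm.sign σ) with h | h
  · exact hA (Perm.mem_alternatingGroup.2 h)
  · have h1 : σ * τ⁻¹ ∈ alternatingGroup (Fin 6) := by
      rw [Perm.mem_alternatingGroup, map_mul, map_inv, h, hs]
      decide
    have : σ = (σ * τ⁻¹) * τ := by group
    rw [this]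
    exact H.mul_mem (hA h1) hτ

/-- exact statement of SIX3 (`pres_S6`) -/
theorem sapsix3_h18_pres_S6 : ∃ rels : Finset (FreeGroup (Fin 2)), rels.card ≤ 7 ∧
    Nonempty (PresentedGroup (↑rels : Set (FreeGroup (Fin 2))) ≃* Perm (Fin 6)) := by
  refine ⟨sapsix3_h18_rels.toFinset, ?_, ?_⟩
  · refine le_trans (List.toFinset_card_le _) ?_
    simp [sapsix3_h18_rels]
  · set rels : Set (FreeGroup (Fin 2)) := (↑sapsix3_h18_rels.toFinset : Set (FreeGroup (Fin 2))) with hrels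
    let φ : PresentedGroup rels →* Perm (Fin 6) := PresentedGroup.toGroup sapsix3_h18_rels_hold
    set A : PresentedGroup rels := PresentedGroup.of 0 with hA
    set Z : PresentedGroup rels := PresentedGroup.of 1 with hZ
    have hφA : φ A = sapsix3_h18_pa := PresentedGroup.toGroup.of _
    have hφZ : φ Z = sapsix3_h18_pz := PresentedGroup.toGroup.of _
    have hmem : ∀ r ∈ sapsix3_h18_rels, PresentedGroup.mk rels r = 1 := by
      intro r hr
      apply PresentedGroup.one_of_mem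
      rw [hrels, Finset.mem_coe, List.mem_toFinset]
      exact hr
    have hwA : PresentedGroup.mk rels wA = A := rfl
    have hwG : PresentedGroup.mk rels wG = Z := rfl
    have r1 : A ^ 4 = 1 := by
      have := hmem (wA ^ 4) (by simp [sapsix3_h18_rels])
      simpa only [map_pow, hwA] using this
    have r2 : Z ^ 3 = 1 := by
      have := hmem (wG ^ 3) (by simp [sapsix3_h18_rels])
      simpa only [map_pow, hwG] using this
    have r3 : (Z * (A * Z * A⁻¹)) ^ 2 = 1 := by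
      have := hmem ((wG * (wA * wG * wA⁻¹)) ^ 2) (by simp [sapsix3_h18_rels])
      simpa only [map_pow, map_mul, map_inv, hwA, hwG] using this
    have r4 : (Z * (A ^ 2 * Z * (A ^ 2)⁻¹)) ^ 2 = 1 := by
      have := hmem ((wG * (wA ^ 2 * wG * (wA ^ 2)⁻¹)) ^ 2) (by simp [sapsix3_h18_rels])
      simpa only [map_pow, map_mul, map_inv, hwA, hwG] using this
    have r5 : A ^ 2 = (A ^ 0 * Z * (A ^ 0)⁻¹) * (A ^ 1 * Z * (A ^ 1)⁻¹) * (A ^ 2 * Z * (A ^ 2)⁻¹) *
        (A ^ 0 * Z * (A ^ 0)⁻¹)⁻¹ * (A ^ 3 * Z * (A ^ 3)⁻¹)⁻¹ * (A ^ 1 * Z * (A ^ 1)⁻¹) := by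
      have := hmem ((wA ^ 2)⁻¹ * sapsix3_h18_W) (by simp [sapsix3_h18_rels])
      rw [map_mul, map_inv, inv_mul_eq_one] at this
      simpa only [sapsix3_h18_W, sapsix3_h18_w, map_pow, map_mul, map_inv, hwA, hwG] using this
    have hgen : Subgroup.closure ({A, Z} : Set (PresentedGroup rels)) = ⊤ := by
      rw [← PresentedGroup.closure_range_of rels]
      congr 1
      ext g
      constructor
      · rintro (rfl | rfl)
        · exact ⟨0, rfl⟩
        · exact ⟨1, rfl⟩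
      · rintro ⟨i, rfl⟩
        fin_cases i
        · exact Or.inl rfl
        · exact Or.inr rfl
    obtain ⟨hfin, hcard⟩ := sapsix3_h18_bound A Z r1 r2 r3 r4 r5 hgen
    have hsurj : Function.Surjective φ := by
      rw [← MonoidHom.range_eq_top]
      apply sapsix3_h18_top φ.range _ sapsix3_h18_pa ⟨A, hφA⟩ sapsix3_h18_sign_pa
      intro i h4 h5
      obtain ⟨n, hn⟩ := sapsix3_h18_c3_range i h4 h5
      refine ⟨A ^ n.val * Z * (A ^ n.val)⁻¹, ?_⟩
      rw [map_mul, map_mul, map_inv, map_pow, hφA, hφZ, hn]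
    have hc : Nat.card (PresentedGroup rels) ≤ Nat.card (Perm (Fin 6)) := by
      have : Nat.card (Perm (Fin 6)) = 720 := by
        rw [Nat.card_eq_fintype_card, Fintype.card_perm, Fintype.card_fin]
        decide
      rw [this]
      exact hcard
    exact ⟨MulEquiv.ofBijective φ (iso_of_card φ hsurj hc)⟩

end Cfsg.Agent.Lib.helper7.SAP
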