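import Cfsg.Agent.Lib.helper7.SAP.Defs
import Cfsg.Agent.Lib.Helper10.SAPSIX1
import Cfsg.Agent.Lib.helper4.SAPCAR3
import Cfsg.Agent.Lib.Helper26.SAPALT3
import Cfsg.Agent.Lib.Helper10.SAPTR1
import Cfsg.Agent.Lib.Helper18.SAPSIX3h18

/-!
# SAP SIX2 (second writer helper18): `sapsix2_h18_pres_A6` = the exact Skel statement of `pres_A6`.
`A_6 = ⟨a, z | a^4, z^3, (z · (a z a⁻¹)⁻¹)^2, (z · a² z a⁻²)^2, a⁻¹ W⟩`, `a ↦ (0 1 2 3)(4 5)`, `z ↦ (0 4 5)`,
`W = x₀ x₃⁻¹ x₂ x₁⁻¹ x₀` with `x_i = (a^i z a^-i)^(±1)` (sign `+` for even `i`).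
-/

set_option autoImplicit false

namespace Cfsg.Agent.Lib.helper7.SAP

open Equiv

universe u

/-- the word for `a`: `x₀ x₃⁻¹ x₂ x₁⁻¹ x₀` with `x₁ = w₁⁻¹`, `x₃ = w₃⁻¹` -/
def sapsix2_h18_W : FreeGroup (Fin 2) :=
  sapsix3_h18_w 0 * sapsix3_h18_w 3 * sapsix3_h18_w 2 * sapsix3_h18_w 1 * sapsix3_h18_w 0

/-- the five relators -/
def sapsix2_h18_rels : List (FreeGroup (Fin 2)) :=
  [wA ^ 4, wG ^ 3, (wG * (wA * wG * wA⁻¹)⁻¹) ^ 2, (wG * (wA ^ 2 * wG * (wA ^ 2)⁻¹)) ^ 2,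
    wA⁻¹ * sapsix2_h18_W]

/-- `a ↦ (0 1 2 3)(4 5)` -/
def sapsix2_h18_pa : Perm (Fin 6) := List.formPerm [0, 1, 2, 3] * swap 4 5

theorem sapsix2_h18_pa_mem : sapsix2_h18_pa ∈ alternatingGroup (Fin 6) := by
  rw [Perm.mem_alternatingGroup]
  decide +kernel

theorem sapsix2_h18_pz_mem : sapsix3_h18_pz ∈ alternatingGroup (Fin 6) := by
  rw [Perm.mem_alternatingGroup]
  decide +kernel

theorem sapsix2_h18_rels_hold : ∀ r ∈ (↑sapsix2_h18_rels.toFinset : Set (FreeGroup (Fin 2))),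
    FreeGroup.lift ![(⟨sapsix2_h18_pa, sapsix2_h18_pa_mem⟩ : alternatingGroup (Fin 6)),
      ⟨sapsix3_h18_pz, sapsix2_h18_pz_mem⟩] r = 1 := by
  intro r hr
  simp only [sapsix2_h18_rels, List.toFinset_cons, List.toFinset_nil, Finset.coe_insert,
    Finset.coe_singleton, Set.mem_insert_iff, Set.mem_singleton_iff, insert_empty_eq] at hr
  rcases hr with rfl | rfl | rfl | rfl | rfl <;>
  · simp only [sapsix2_h18_W, sapsix3_h18_w, map_mul, map_pow, map_inv, FreeGroup.lift_apply_of,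
      Matrix.cons_val_zero, Matrix.cons_val_one]
    decide +kernel

/-- the signs `+, -, +, -` -/
def sapsix2_h18_s (i : ZMod 4) : ℤ := if Even i.val then 1 else -1

theorem sapsix2_h18_s_succ : ∀ i : ZMod 4, sapsix2_h18_s (i + 1) * -1 = sapsix2_h18_s i := by decide

/-- the abstract half: a group generated by `a`, `z` with the five relations has at most `360` elements -/
theorem sapsix2_h18_bound {G : Type u} [Group G] (a z : G) (ha : a ^ 4 = 1) (hz : z ^ 3 = 1)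
    (h01 : (z * (a * z * a⁻¹)⁻¹) ^ 2 = 1) (h02 : (z * (a ^ 2 * z * (a ^ 2)⁻¹)) ^ 2 = 1)
    (hW : a = (a ^ 0 * z * (a ^ 0)⁻¹) * (a ^ 3 * z * (a ^ 3)⁻¹) * (a ^ 2 * z * (a ^ 2)⁻¹) *
      (a ^ 1 * z * (a ^ 1)⁻¹) * (a ^ 0 * z * (a ^ 0)⁻¹))
    (hgen : Subgroup.closure ({a, z} : Set G) = ⊤) : Finite G ∧ Nat.card G ≤ 360 := by
  set x : ZMod 4 → G := fun i => zo a z i ^ sapsix2_h18_s i with hx
  have e0 : x 0 = a ^ 0 * z * (a ^ 0)⁻¹ := by
    show zo a z 0 ^ sapsix2_h18_s 0 = _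
    rw [show sapsix2_h18_s 0 = 1 by decide, zpow_one]
    exact sapsix3_h18_zo_val a z 0 (by norm_num)
  have e1 : x 1 = (a ^ 1 * z * (a ^ 1)⁻¹)⁻¹ := by
    show zo a z 1 ^ sapsix2_h18_s 1 = _
    rw [show sapsix2_h18_s 1 = -1 by decide, zpow_neg_one]
    exact congrArg _ (sapsix3_h18_zo_val a z 1 (by norm_num))
  have e2 : x 2 = a ^ 2 * z * (a ^ 2)⁻¹ := by
    show zo a z 2 ^ sapsix2_h18_s 2 = _
    rw [show sapsix2_h18_s 2 = 1 by decide, zpow_one]
    exact sapsix3_h18_zo_val a z 2 (by norm_num)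
  have e3 : x 3 = (a ^ 3 * z * (a ^ 3)⁻¹)⁻¹ := by
    show zo a z 3 ^ sapsix2_h18_s 3 = _
    rw [show sapsix2_h18_s 3 = -1 by decide, zpow_neg_one]
    exact congrArg _ (sapsix3_h18_zo_val a z 3 (by norm_num))
  have hcar : CarRel x := by
    refine cyc4_carRel a x (-1) (Or.inr rfl) ?_ ?_ ?_ ?_
    · intro i
      show a * zo a z i ^ sapsix2_h18_s i * a⁻¹ = (zo a z (i + 1) ^ sapsix2_h18_s (i + 1)) ^ (-1 : ℤ)
      rw [← zpow_mul, sapsix2_h18_s_succ, ← sapsix3_h18_shift a z ha i, conj_zpow]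
    · intro i
      show (zo a z i ^ sapsix2_h18_s i) ^ 3 = 1
      have h3 : zo a z i ^ 3 = 1 := by
        show (a ^ i.val * z * (a ^ i.val)⁻¹) ^ 3 = 1
        rw [conj_pow, hz, mul_one, mul_inv_cancel]
      rw [← zpow_natCast, ← zpow_mul, mul_comm, zpow_mul, zpow_natCast, h3, one_zpow]
    · rw [e0, e1, pow_zero, pow_one, one_mul, inv_one, mul_one]
      exact h01
    · rw [e0, e2, pow_zero, one_mul, inv_one, mul_one]
      exact h02
  obtain ⟨hfin, hcard⟩ := car_card_le x hcar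
  set N : Subgroup G := Subgroup.closure (Set.range x) with hN
  have hxN : ∀ i, x i ∈ N := fun i => Subgroup.subset_closure ⟨i, rfl⟩
  have haN : a ∈ N := by
    have h1 : a ^ 1 * z * (a ^ 1)⁻¹ = (x 1)⁻¹ := by rw [e1, inv_inv]
    have h3 : a ^ 3 * z * (a ^ 3)⁻¹ = (x 3)⁻¹ := by rw [e3, inv_inv]
    rw [hW, ← e0, ← e2, h1, h3]
    exact N.mul_mem (N.mul_mem (N.mul_mem (N.mul_mem (hxN 0) (N.inv_mem (hxN 3))) (hxN 2))
      (N.inv_mem (hxN 1))) (hxN 0)
  have hzN : z ∈ N := by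
    have : x 0 = z := by rw [e0, pow_zero, one_mul, inv_one, mul_one]
    rw [← this]
    exact hxN 0
  have hNtop : N = ⊤ := by
    rw [eq_top_iff, ← hgen, Subgroup.closure_le]
    rintro g (rfl | rfl)
    · exact haN
    · exact hzN
  have hc : Nat.card G = Nat.card N := by
    rw [hNtop]
    exact (Nat.card_congr Subgroup.topEquiv.toEquiv).symm
  have hG : Finite G := by
    have : Finite (⊤ : Subgroup G) := hNtop ▸ hfin
    exact Finite.of_equiv _ Subgroup.topEquiv.toEquiv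
  refine ⟨hG, ?_⟩
  have h4 : Nat.card (ZMod 4) = 4 := by rw [Nat.card_eq_fintype_card, ZMod.card]
  rw [h4] at hcard
  have : (4 + 2).factorial = 720 := by decide
  omega

theorem sapsix2_h18_c3_range : ∀ i : Fin 6, i ≠ 4 → i ≠ 5 →
    ∃ n : Fin 4, c3 i 4 5 = sapsix2_h18_pa ^ n.val * sapsix3_h18_pz * (sapsix2_h18_pa ^ n.val)⁻¹ ∨
      c3 i 4 5 = (sapsix2_h18_pa ^ n.val * sapsix3_h18_pz * (sapsix2_h18_pa ^ n.val)⁻¹)⁻¹ := by
  decide +kernel

/-- exact statement of SIX2 (`pres_A6`) -/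
theorem sapsix2_h18_pres_A6 : ∃ rels : Finset (FreeGroup (Fin 2)), rels.card ≤ 7 ∧
    Nonempty (PresentedGroup (↑rels : Set (FreeGroup (Fin 2))) ≃* alternatingGroup (Fin 6)) := by
  refine ⟨sapsix2_h18_rels.toFinset, ?_, ?_⟩
  · refine le_trans (List.toFinset_card_le _) ?_
    simp [sapsix2_h18_rels]
  · set rels : Set (FreeGroup (Fin 2)) := (↑sapsix2_h18_rels.toFinset : Set (FreeGroup (Fin 2))) with hrels
    let φ : PresentedGroup rels →* alternatingGroup (Fin 6) := PresentedGroup.toGroup sapsix2_h18_rels_hold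
    set A : PresentedGroup rels := PresentedGroup.of 0 with hA
    set Z : PresentedGroup rels := PresentedGroup.of 1 with hZ
    have hφA : φ A = ⟨sapsix2_h18_pa, sapsix2_h18_pa_mem⟩ := PresentedGroup.toGroup.of _
    have hφZ : φ Z = ⟨sapsix3_h18_pz, sapsix2_h18_pz_mem⟩ := PresentedGroup.toGroup.of _
    have hmem : ∀ r ∈ sapsix2_h18_rels, PresentedGroup.mk rels r = 1 := by
      intro r hr
      apply PresentedGroup.one_of_mem
      rw [hrels, Finset.mem_coe, List.mem_toFinset]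
      exact hr
    have hwA : PresentedGroup.mk rels wA = A := rfl
    have hwG : PresentedGroup.mk rels wG = Z := rfl
    have r1 : A ^ 4 = 1 := by
      have := hmem (wA ^ 4) (by simp [sapsix2_h18_rels])
      simpa only [map_pow, hwA] using this
    have r2 : Z ^ 3 = 1 := by
      have := hmem (wG ^ 3) (by simp [sapsix2_h18_rels])
      simpa only [map_pow, hwG] using this
    have r3 : (Z * (A * Z * A⁻¹)⁻¹) ^ 2 = 1 := by
      have := hmem ((wG * (wA * wG * wA⁻¹)⁻¹) ^ 2) (by simp [sapsix2_h18_rels])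
      simpa only [map_pow, map_mul, map_inv, hwA, hwG] using this
    have r4 : (Z * (A ^ 2 * Z * (A ^ 2)⁻¹)) ^ 2 = 1 := by
      have := hmem ((wG * (wA ^ 2 * wG * (wA ^ 2)⁻¹)) ^ 2) (by simp [sapsix2_h18_rels])
      simpa only [map_pow, map_mul, map_inv, hwA, hwG] using this
    have r5 : A = (A ^ 0 * Z * (A ^ 0)⁻¹) * (A ^ 3 * Z * (A ^ 3)⁻¹) * (A ^ 2 * Z * (A ^ 2)⁻¹) *
        (A ^ 1 * Z * (A ^ 1)⁻¹) * (A ^ 0 * Z * (A ^ 0)⁻¹) := by
      have := hmem (wA⁻¹ * sapsix2_h18_W) (by simp [sapsix2_h18_rels])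
      rw [map_mul, map_inv, inv_mul_eq_one] at this
      simpa only [sapsix2_h18_W, sapsix3_h18_w, map_pow, map_mul, map_inv, hwA, hwG] using this
    have hgen : Subgroup.closure ({A, Z} : Set (PresentedGroup rels)) = ⊤ := by
      rw [← PresentedGroup.closure_range_of rels]
      congr 1
      ext g
      constructor
      · rintro (rfl | rfl)
        · exact ⟨0, rfl⟩
        · exact ⟨1, rfl⟩
      · rintro ⟨i, rfl⟩
        fin_cases i
        · exact Or.inl rfl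
        · exact Or.inr rfl
    obtain ⟨hfin, hcard⟩ := sapsix2_h18_bound A Z r1 r2 r3 r4 r5 hgen
    have hsurj : Function.Surjective φ := by
      have hle : Subgroup.closure (Set.range fun y : {y : Fin 6 // y ≠ 4 ∧ y ≠ 5} => c3 (y : Fin 6) 4 5) ≤
          (φ.range).map (alternatingGroup (Fin 6)).subtype := by
        rw [Subgroup.closure_le]
        rintro _ ⟨y, rfl⟩
        obtain ⟨n, hn | hn⟩ := sapsix2_h18_c3_range y.1 y.2.1 y.2.2
        · have hval : ((φ (A ^ n.val * Z * (A ^ n.val)⁻¹) : alternatingGroup (Fin 6)) : Perm (Fin 6)) =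
              sapsix2_h18_pa ^ n.val * sapsix3_h18_pz * (sapsix2_h18_pa ^ n.val)⁻¹ := by
            rw [map_mul, map_mul, map_inv, map_pow, hφA, hφZ]
            rfl
          refine ⟨φ (A ^ n.val * Z * (A ^ n.val)⁻¹), ⟨_, rfl⟩, ?_⟩
          show ((φ (A ^ n.val * Z * (A ^ n.val)⁻¹) : alternatingGroup (Fin 6)) : Perm (Fin 6)) = _
          rw [hval]
          exact hn.symm
        · have hval : ((φ (A ^ n.val * Z * (A ^ n.val)⁻¹)⁻¹ : alternatingGroup (Fin 6)) : Perm (Fin 6)) =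
              (sapsix2_h18_pa ^ n.val * sapsix3_h18_pz * (sapsix2_h18_pa ^ n.val)⁻¹)⁻¹ := by
            rw [map_inv, map_mul, map_mul, map_inv, map_pow, hφA, hφZ]
            rfl
          refine ⟨φ (A ^ n.val * Z * (A ^ n.val)⁻¹)⁻¹, ⟨_, rfl⟩, ?_⟩
          show ((φ (A ^ n.val * Z * (A ^ n.val)⁻¹)⁻¹ : alternatingGroup (Fin 6)) : Perm (Fin 6)) = _
          rw [hval]
          exact hn.symm
      intro g
      have hg : (g : Perm (Fin 6)) ∈ Subgroup.closure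
          (Set.range fun y : {y : Fin 6 // y ≠ 4 ∧ y ≠ 5} => c3 (y : Fin 6) 4 5) := by
        rw [altgen (4 : Fin 6) 5 (by decide)]
        exact g.2
      obtain ⟨h, ⟨w, rfl⟩, hh⟩ := hle hg
      exact ⟨w, Subtype.ext hh⟩
    have hc : Nat.card (PresentedGroup rels) ≤ Nat.card (alternatingGroup (Fin 6)) := by
      have h2 : 2 * Nat.card (alternatingGroup (Fin 6)) = 720 := by
        rw [Nat.card_eq_fintype_card, two_mul_card_alternatingGroup, Fintype.card_perm, Fintype.card_fin]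
        decide
      omega
    exact ⟨MulEquiv.ofBijective φ (iso_of_card φ hsurj hc)⟩

end Cfsg.Agent.Lib.helper7.SAP
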