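import Mathlib
import Cfsg.Agent.Lib.Helper10.ZJctl3
import Cfsg.Agent.Lib.Helper13.SecFusH

set_option autoImplicit false

/-!
# Control of strong fusion by `N(zfam D)`, `D` strongly closed: basic tools

The single constant functor `fun _ => W` as a family in helper13's `Reach` formalism, the
hypothesis on constrained sections, and the transfer of control from a subgroup (as a type) to the
ambient group.
-/

universe u

namespace Cfsg.Agent.Lib.Helper18.SCFus

open Cfsg.Agent.Lib.Helper9 Cfsg.Agent.Lib.Helper10.ZJnpc Cfsg.Agent.Lib.Helper10.ZJsc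
  Cfsg.Agent.Lib.Helper10.ZJctl Cfsg.Agent.Lib.Helper13

section Const

variable {G : Type*} [Group G]

/-- `N(W)` controls strong fusion in `S`. -/
def SCtl (W S : Subgroup G) : Prop :=
  ∀ (A : Set G) (g : G), A ⊆ (S : Set G) → (fun a => g * a * g⁻¹) '' A ⊆ (S : Set G) →
    ∃ x ∈ Subgroup.normalizer (W : Set G), ∀ a ∈ A, x * a * x⁻¹ = g * a * g⁻¹

/-- The constant family attached to a subgroup `W`. -/
def constFam (W : Subgroup G) : Set (Subgroup G → Subgroup G) := {fun _ => W}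

theorem reach_const_of_mem {W S : Subgroup G} {A : Set G} {x : G}
    (hx : x ∈ Subgroup.normalizer (W : Set G)) (hA : A ⊆ (S : Set G))
    (hxA : (fun a => x * a * x⁻¹) '' A ⊆ (S : Set G)) :
    Reach (constFam W) ⊤ S A x := by
  refine ⟨x, ?_, fun _ _ => rfl⟩
  have hmem : (fun _ => W) ∈ constFam W := Set.mem_singleton _
  exact FReach.single (𝓦 := constFam W) (W := fun _ => W) hmem
    (Subgroup.mem_inf.mpr ⟨Subgroup.mem_top _, hx⟩) hA (fun a ha => hxA ⟨a, ha, rfl⟩)

theorem reach_const_congr {W S : Subgroup G} {A : Set G} {x g : G}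
    (hx : x ∈ Subgroup.normalizer (W : Set G)) (hA : A ⊆ (S : Set G))
    (hgA : (fun a => g * a * g⁻¹) '' A ⊆ (S : Set G))
    (hxg : ∀ a ∈ A, x * a * x⁻¹ = g * a * g⁻¹) :
    Reach (constFam W) ⊤ S A g := by
  apply (reach_const_of_mem hx hA ?_).congr hxg
  rintro _ ⟨a, ha, rfl⟩
  show x * a * x⁻¹ ∈ (S : Set G)
  rw [hxg a ha]
  exact hgA ⟨a, ha, rfl⟩

theorem freach_const_mem_normalizer {W H T : Subgroup G} {A : Set G} {c : G}
    (h : FReach (constFam W) H T A c) : c ∈ Subgroup.normalizer (W : Set G) := by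
  induction h with
  | one _ => exact Subgroup.one_mem _
  | step c y V hV hy hc hA ih =>
    have hV' : V = fun _ => W := hV
    subst hV'
    exact Subgroup.mul_mem _ (Subgroup.mem_inf.mp hy).2 ih

theorem exists_of_reach_const {W H T : Subgroup G} {A : Set G} {g : G}
    (h : Reach (constFam W) H T A g) :
    ∃ x ∈ Subgroup.normalizer (W : Set G), ∀ a ∈ A, x * a * x⁻¹ = g * a * g⁻¹ := by
  obtain ⟨c, hc, hca⟩ := h
  exact ⟨c, freach_const_mem_normalizer hc, hca⟩

theorem sctl_iff_reach {W S : Subgroup G} :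
    SCtl W S ↔ ∀ (A : Set G) (g : G), A ⊆ (S : Set G) →
      (fun a => g * a * g⁻¹) '' A ⊆ (S : Set G) → Reach (constFam W) ⊤ S A g := by
  constructor
  · intro h A g hA hgA
    obtain ⟨x, hx, hxa⟩ := h A g hA hgA
    exact reach_const_congr hx hA hgA hxa
  · intro h A g hA hgA
    exact exists_of_reach_const (h A g hA hgA)

theorem sctl_of_normal {W S : Subgroup G} (hW : W.Normal) : SCtl W S := by
  intro A g _ _
  refine ⟨g, ?_, fun _ _ => rfl⟩
  rw [Subgroup.normalizer_eq_top_iff.mpr hW]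
  exact Subgroup.mem_top _

end Const

section Hyp

/-- The hypothesis on constrained sections: `zfam D` is normal for every strongly closed `D`. -/
def HypSC (p : ℕ) (Qf : ∀ (Y : Type u) [Group Y], Subgroup Y → Prop) (X : Type u) [Group X] :
    Prop :=
  Subgroup.centralizer ((Cfsg.pCore p X : Subgroup X) : Set X) ≤ Cfsg.pCore p X →
    ∀ (S : Sylow p X) (D : Subgroup X), Cfsg.IsStronglyClosed D (S : Subgroup X) →
      (zfam (Qf X) D).Normal

/-- The statement proved by induction, for a group `X`. -/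
def AllSCtl (p : ℕ) (Qf : ∀ (Y : Type u) [Group Y], Subgroup Y → Prop) (X : Type u) [Group X] :
    Prop :=
  ∀ (S : Sylow p X) (D : Subgroup X), Cfsg.IsStronglyClosed D (S : Subgroup X) →
    SCtl (zfam (Qf X) D) (S : Subgroup X)

end Hyp

section Sub

variable {G : Type u} [Group G] [Finite G] {p : ℕ} [Fact p.Prime]
  {Qf : ∀ (Y : Type u) [Group Y], Subgroup Y → Prop}

theorem sylow_le_normalizer_zfam (hQ : QFam p Qf) (S : Sylow p G) (D : Subgroup G)
    (hD : Cfsg.IsStronglyClosed D (S : Subgroup G)) :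
    (S : Subgroup G) ≤ Subgroup.normalizer (zfam (Qf G) D : Set G) :=
  (normalizes_of_stronglyClosed hD).trans
    (normalizer_le_normalizer_zfam (Qf G) (hQ.hyp G S).aut D)

theorem zfam_bot (hQ : QFam p Qf) : zfam (Qf G) (⊥ : Subgroup G) = ⊥ := by
  rw [eq_bot_iff]
  exact hQ.le G ⊥

/-- Control in the group `↥N` gives control in `N` by `N ∩ N(zfam (D ∩ N))`. -/
theorem ctl_subgroup (hQ : QFam p Qf) (S : Sylow p G) (D : Subgroup G)
    (hD : Cfsg.IsStronglyClosed D (S : Subgroup G)) (N : Subgroup G)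
    (hNi : ¬ p ∣ ((S : Subgroup G) ⊓ N).relIndex N) (ihN : AllSCtl p Qf ↥N)
    (A : Set G) (h : G) (hhN : h ∈ N) (hA : A ⊆ (((S : Subgroup G) ⊓ N : Subgroup G) : Set G))
    (hhA : (fun a => h * a * h⁻¹) '' A ⊆ (((S : Subgroup G) ⊓ N : Subgroup G) : Set G)) :
    ∃ x ∈ N ⊓ Subgroup.normalizer (zfam (Qf G) (D ⊓ N) : Set G),
      ∀ a ∈ A, x * a * x⁻¹ = h * a * h⁻¹ := by
  have hT₁p : IsPGroup p (((S : Subgroup G) ⊓ N).subgroupOf N) :=
    (S.isPGroup'.to_le inf_le_left).comap_subtype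
  obtain ⟨SX, hSX⟩ : ∃ SX : Sylow p ↥N,
      (SX : Subgroup ↥N) = ((S : Subgroup G) ⊓ N).subgroupOf N :=
    ⟨hT₁p.toSylow hNi, IsPGroup.toSylow_coe _ _⟩
  have hDX : Cfsg.IsStronglyClosed (D.subgroupOf N) (SX : Subgroup ↥N) := by
    rw [hSX]
    constructor
    · intro x hx
      rw [Subgroup.mem_subgroupOf] at hx ⊢
      exact ⟨hD.1 hx, x.2⟩
    · intro x hx n hn
      rw [Subgroup.mem_subgroupOf] at hx hn ⊢
      have h1 := hn.1
      simp only [Subgroup.coe_mul, Subgroup.coe_inv] at h1 ⊢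
      exact hD.2 (x : G) hx (n : G) h1
  have hA' : N.subtype ⁻¹' A ⊆ ((SX : Subgroup ↥N) : Set ↥N) := by
    intro a ha
    rw [SetLike.mem_coe, hSX, Subgroup.mem_subgroupOf]
    exact hA ha
  have hhA' : (fun a => (⟨h, hhN⟩ : ↥N) * a * (⟨h, hhN⟩ : ↥N)⁻¹) '' (N.subtype ⁻¹' A) ⊆
      ((SX : Subgroup ↥N) : Set ↥N) := by
    rintro _ ⟨a, ha, rfl⟩
    rw [SetLike.mem_coe, hSX, Subgroup.mem_subgroupOf]
    have h1 := hhA ⟨(a : G), ha, rfl⟩
    simp only [Subgroup.coe_mul, Subgroup.coe_inv]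
    exact h1
  obtain ⟨x, hx, hxa⟩ := ihN SX (D.subgroupOf N) hDX (N.subtype ⁻¹' A) ⟨h, hhN⟩ hA' hhA'
  refine ⟨(x : G), Subgroup.mem_inf.mpr ⟨x.2, ?_⟩, ?_⟩
  · have hzm : zfam (Qf G) ((D.subgroupOf N).map N.subtype) =
        (zfam (Qf ↥N) (D.subgroupOf N)).map N.subtype :=
      zfam_map_of_injOn N.subtype (D.subgroupOf N) N.subtype_injective.injOn (Qf ↥N) (Qf G)
        (hQ.hyp ↥N SX).bot
        (fun B hB => hQ.map ↥N G N.subtype _ B N.subtype_injective.injOn hB)
    rw [Subgroup.subgroupOf_map_subtype] at hzm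
    rw [hzm]
    exact Subgroup.le_normalizer_map N.subtype ⟨x, hx, rfl⟩
  · intro a ha
    have haN : a ∈ N := (hA ha).2
    have h1 := hxa ⟨a, haN⟩ ha
    have h2 := congrArg Subtype.val h1
    simpa using h2

/-- Control in a subgroup containing the Sylow subgroup. -/
theorem reach_in_sub (hQ : QFam p Qf) (S : Sylow p G) (D : Subgroup G)
    (hD : Cfsg.IsStronglyClosed D (S : Subgroup G)) (N : Subgroup G)
    (hSN : (S : Subgroup G) ≤ N) (ihN : AllSCtl p Qf ↥N)
    (A : Set G) (h : G) (hhN : h ∈ N) (hA : A ⊆ ((S : Subgroup G) : Set G))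
    (hhA : (fun a => h * a * h⁻¹) '' A ⊆ ((S : Subgroup G) : Set G)) :
    Reach (constFam (zfam (Qf G) D)) ⊤ (S : Subgroup G) A h := by
  have hSi : ¬ p ∣ ((S : Subgroup G) ⊓ N).relIndex N := by
    rw [inf_eq_left.mpr hSN]
    intro hd
    exact S.not_dvd_index (hd.trans (Subgroup.relIndex_dvd_index_of_le hSN))
  have hinf : (S : Subgroup G) ⊓ N = (S : Subgroup G) := inf_eq_left.mpr hSN
  obtain ⟨x, hx, hxa⟩ := ctl_subgroup hQ S D hD N hSi ihN A h hhN (by rw [hinf]; exact hA)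
    (by rw [hinf]; exact hhA)
  have hDN : D ⊓ N = D := inf_eq_left.mpr (hD.1.trans hSN)
  rw [hDN] at hx
  exact reach_const_congr (Subgroup.mem_inf.mp hx).2 hA hhA hxa

end Sub

end Cfsg.Agent.Lib.Helper18.SCFus
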