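import Mathlib
import Cfsg.Agent.Lib.Helper18.SCFus1

set_option autoImplicit false

/-!
# Control of strong fusion by `N(zfam D)`: the local-to-global step and the `p'`-quotient step
-/

universe u

namespace Cfsg.Agent.Lib.Helper18.SCFus

open Cfsg.Agent.Lib.Helper9 Cfsg.Agent.Lib.Helper10.ZJnpc Cfsg.Agent.Lib.Helper10.ZJsc
  Cfsg.Agent.Lib.Helper10.ZJctl Cfsg.Agent.Lib.Helper13 Cfsg.Agent.Lib.Helper1.TNPC

section Local

variable {G : Type u} [Group G] [Finite G] {p : ℕ} [Fact p.Prime]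
  {Qf : ∀ (Y : Type u) [Group Y], Subgroup Y → Prop}

/-- Local-to-global: control in the normalizers of the nontrivial subgroups `T` of `S` with
`N_S(T)` a Sylow subgroup of `N(T)` gives control in `G`. -/
theorem sctl_of_local (hQ : QFam p Qf) (S : Sylow p G) (D : Subgroup G)
    (hD : Cfsg.IsStronglyClosed D (S : Subgroup G)) (hDb : D ≠ ⊥)
    (hloc : ∀ T : Subgroup G, T ≤ (S : Subgroup G) → T ≠ ⊥ →
      ¬ p ∣ ((S : Subgroup G) ⊓ Subgroup.normalizer (T : Set G)).relIndex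
        (Subgroup.normalizer (T : Set G)) →
      AllSCtl p Qf ↥(Subgroup.normalizer (T : Set G))) :
    SCtl (zfam (Qf G) D) (S : Subgroup G) := by
  intro A g hA hgA
  have hW := scW_isConjugacyFunctor hQ D
  have hPD := normalizes_of_stronglyClosed hD
  have hWP : scW (Qf G) D (S : Subgroup G) = zfam (Qf G) D := by
    unfold scW
    rw [scE_eq_inf hD le_rfl, inf_eq_right.mpr hD.1, if_neg hDb]
  have hloc' : ∀ T : Subgroup G, T ≠ ⊥ →
      Cfsg.IsWellPlaced p (scW (Qf G) D) (S : Subgroup G) T →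
      Cfsg.ControlsStrongFusionIn p (scW (Qf G) D) (Subgroup.normalizer (T : Set G)) := by
    intro T hT hwp
    have hTP := hwp.1
    have h0 : ¬ p ∣ ((S : Subgroup G) ⊓ Subgroup.normalizer (T : Set G)).relIndex
        (Subgroup.normalizer (T : Set G)) := hwp.2 0
    have ihN := hloc T hTP hT h0
    obtain ⟨N, hNdef⟩ : ∃ N : Subgroup G, N = Subgroup.normalizer (T : Set G) := ⟨_, rfl⟩
    rw [← hNdef] at h0 ihN ⊢
    refine ⟨(S : Subgroup G) ⊓ N, inf_le_right, S.isPGroup'.to_le inf_le_left, h0, ?_⟩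
    intro A h hhN hA hhA
    obtain ⟨x, hx, hxa⟩ := ctl_subgroup hQ S D hD N h0 ihN A h hhN hA hhA
    refine ⟨x, ?_, hxa⟩
    have hE : scE D ((S : Subgroup G) ⊓ N) = D ⊓ N := by
      rw [scE_eq_inf hD inf_le_left]
      ext y
      simp only [Subgroup.mem_inf]
      constructor
      · rintro ⟨⟨_, h2⟩, h3⟩
        exact ⟨h3, h2⟩
      · rintro ⟨h1, h2⟩
        exact ⟨⟨hD.1 h1, h2⟩, h1⟩
    have hne : D ⊓ N ≠ ⊥ := by
      obtain ⟨z, hzD, hz1, hzc⟩ := exists_central_mem (S : Subgroup G) D S.isPGroup' hD.1 hPD hDb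
      intro hb
      apply hz1
      have hzN : z ∈ N := by
        rw [hNdef]
        apply Cfsg.Agent.Lib.Helper13.mem_normalizer_of_cj_le
        rintro _ ⟨t, ht, rfl⟩
        show z * t * z⁻¹ ∈ T
        rw [hzc t (hTP ht)]
        simpa using ht
      have h2 : z ∈ D ⊓ N := ⟨hzD, hzN⟩
      rw [hb] at h2
      exact h2
    have hW₁ : scW (Qf G) D ((S : Subgroup G) ⊓ N) = zfam (Qf G) (D ⊓ N) := by
      unfold scW
      rw [hE, if_neg hne]
    rw [hW₁]
    exact hx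
  have hctl := Cfsg.Agent.S1961.result S (scW (Qf G) D) hW hloc'
  have hQi : ¬ p ∣ (S : Subgroup G).relIndex ⊤ := by
    rw [Subgroup.relIndex_top_right]; exact S.not_dvd_index
  obtain ⟨x, hx, hxa⟩ := Cfsg.Agent.Lib.Helper13.controls_of_sylow hW hctl le_top S.isPGroup' hQi
    A g (Subgroup.mem_top g) hA hgA
  rw [hWP] at hx
  exact ⟨x, (Subgroup.mem_inf.mp hx).2, hxa⟩

end Local

section PPrime

variable {G : Type u} [Group G] [Finite G] {p : ℕ} [Fact p.Prime]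
  {Qf : ∀ (Y : Type u) [Group Y], Subgroup Y → Prop}

/-- The quotient step for a normal `p'`-subgroup. -/
theorem sctl_of_quotient_pprime (hQ : QFam p Qf) (S : Sylow p G) (D : Subgroup G)
    (hD : Cfsg.IsStronglyClosed D (S : Subgroup G)) (K : Subgroup G) [hKn : K.Normal]
    (hK : (Nat.card K).Coprime p) (ih : AllSCtl p Qf (G ⧸ K)) :
    SCtl (zfam (Qf G) D) (S : Subgroup G) := by
  intro A g hA hgA
  have hsurj := QuotientGroup.mk'_surjective K
  have hDp : IsPGroup p D := S.isPGroup'.to_le hD.1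
  have hinjS := injOn_mk_of_coprime K hK (S : Subgroup G) S.isPGroup'
  have hinjD : Set.InjOn (QuotientGroup.mk' K) (D : Set G) := hinjS.mono hD.1
  have hDb := stronglyClosed_map_quotient S D hD K
  rw [← Sylow.coe_mapSurjective hsurj S] at hDb
  have hzmap : zfam (Qf (G ⧸ K)) (D.map (QuotientGroup.mk' K)) =
      (zfam (Qf G) D).map (QuotientGroup.mk' K) :=
    zfam_map_of_injOn (QuotientGroup.mk' K) D hinjD (Qf G) (Qf (G ⧸ K)) (hQ.hyp G S).bot
      (fun B hB => hQ.map G (G ⧸ K) (QuotientGroup.mk' K) D B hinjD hB)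
  have hWp : IsPGroup p (zfam (Qf G) D) := hDp.to_le (hQ.le G D)
  have hnorm := Cfsg.Agent.Lib.Helper10.map_normalizer_eq_of_coprime p K hK _ hWp
  obtain ⟨M, hMdef⟩ : ∃ M : Subgroup G, M = Subgroup.normalizer (zfam (Qf G) D : Set G) :=
    ⟨_, rfl⟩
  have hSM : (S : Subgroup G) ≤ M := hMdef ▸ sylow_le_normalizer_zfam hQ S D hD
  -- control in the quotient
  have hAb : (QuotientGroup.mk' K) '' A ⊆
      (((Sylow.mapSurjective hsurj S : Sylow p (G ⧸ K)) : Subgroup (G ⧸ K)) : Set (G ⧸ K)) := by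
    rintro _ ⟨a, ha, rfl⟩
    rw [Sylow.coe_mapSurjective]
    exact ⟨a, hA ha, rfl⟩
  have hgAb : (fun a => (QuotientGroup.mk' K) g * a * ((QuotientGroup.mk' K) g)⁻¹) ''
      ((QuotientGroup.mk' K) '' A) ⊆
      (((Sylow.mapSurjective hsurj S : Sylow p (G ⧸ K)) : Subgroup (G ⧸ K)) : Set (G ⧸ K)) := by
    rintro _ ⟨_, ⟨a, ha, rfl⟩, rfl⟩
    rw [Sylow.coe_mapSurjective]
    refine ⟨g * a * g⁻¹, hgA ⟨a, ha, rfl⟩, ?_⟩
    simp only [map_mul, map_inv]
  obtain ⟨xb, hxb, hxba⟩ := ih (Sylow.mapSurjective hsurj S) (D.map (QuotientGroup.mk' K)) hDb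
    _ ((QuotientGroup.mk' K) g) hAb hgAb
  rw [hzmap, ← hnorm, ← hMdef] at hxb
  obtain ⟨m, hm, rfl⟩ := hxb
  -- the image of `A` under `m` lies in `M ∩ S K`
  obtain ⟨B, hBdef⟩ : ∃ B : Subgroup G, B = Subgroup.closure A := ⟨_, rfl⟩
  have hBS : B ≤ (S : Subgroup G) := by rw [hBdef]; exact (Subgroup.closure_le _).mpr hA
  obtain ⟨B₁, hB₁def⟩ : ∃ B₁ : Subgroup G, B₁ = B.map (MulAut.conj m).toMonoidHom := ⟨_, rfl⟩
  have hB₁p : IsPGroup p B₁ := by rw [hB₁def]; exact (S.isPGroup'.to_le hBS).map _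
  have hB₁M : B₁ ≤ M := by
    rw [hB₁def]
    rintro _ ⟨b, hb, rfl⟩
    exact M.mul_mem (M.mul_mem hm (hSM (hBS hb))) (M.inv_mem hm)
  have hcm : ((S : Subgroup G).map (QuotientGroup.mk' K)).comap (QuotientGroup.mk' K) =
      (S : Subgroup G) ⊔ K := by
    rw [Subgroup.comap_map_eq, QuotientGroup.ker_mk']
  have hB₁SK : B₁ ≤ (S : Subgroup G) ⊔ K := by
    rw [hB₁def, hBdef, MonoidHom.map_closure, Subgroup.closure_le]
    rintro _ ⟨a, ha, rfl⟩
    rw [SetLike.mem_coe, ← hcm, Subgroup.mem_comap]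
    have h1 := hxba _ ⟨a, ha, rfl⟩
    have h2 : (QuotientGroup.mk' K) ((MulAut.conj m).toMonoidHom a) =
        (QuotientGroup.mk' K) m * (QuotientGroup.mk' K) a * ((QuotientGroup.mk' K) m)⁻¹ := by
      simp only [MulEquiv.coe_toMonoidHom, MulAut.conj_apply, map_mul, map_inv]
    rw [h2, h1]
    refine ⟨g * a * g⁻¹, hgA ⟨a, ha, rfl⟩, ?_⟩
    simp only [map_mul, map_inv]
  have hSK : (S : Subgroup G) ≤ Subgroup.normalizer (K : Set G) := by
    rw [Subgroup.normalizer_eq_top]; exact le_top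
  have hle : B₁.subgroupOf M ≤ ((S.subtype hSM : Sylow p ↥M) : Subgroup ↥M) ⊔ K.subgroupOf M := by
    intro b hb
    rw [Subgroup.mem_subgroupOf] at hb
    obtain ⟨s, hs, k, hk, hsk⟩ := mem_sup_of_le_normalizer hSK (hB₁SK hb)
    have hkM : k ∈ M := by
      have e : k = s⁻¹ * (b : G) := by rw [hsk]; group
      rw [e]
      exact M.mul_mem (M.inv_mem (hSM hs)) b.2
    have e : b = (⟨s, hSM hs⟩ : ↥M) * ⟨k, hkM⟩ := Subtype.ext hsk
    rw [e]
    apply Subgroup.mul_mem_sup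
    · rw [Sylow.coe_subtype, Subgroup.mem_subgroupOf]; exact hs
    · rw [Subgroup.mem_subgroupOf]; exact hk
  obtain ⟨c, hc, hcb⟩ := exists_conj_mem_sylow (S.subtype hSM) (K.subgroupOf M) (B₁.subgroupOf M)
    hB₁p.comap_subtype hle
  rw [Subgroup.mem_subgroupOf] at hc
  refine ⟨(c : G) * m, ?_, ?_⟩
  · rw [← hMdef]; exact M.mul_mem c.2 hm
  · intro a ha
    have hb : m * a * m⁻¹ ∈ B₁ := by
      rw [hB₁def]
      exact ⟨a, by rw [hBdef]; exact Subgroup.subset_closure ha, by simp⟩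
    have h1 := hcb ⟨m * a * m⁻¹, hB₁M hb⟩ (by rw [Subgroup.mem_subgroupOf]; exact hb)
    rw [Sylow.coe_subtype, Subgroup.mem_subgroupOf] at h1
    have h1' : (c : G) * m * a * ((c : G) * m)⁻¹ ∈ (S : Subgroup G) := by
      have e : (c : G) * m * a * ((c : G) * m)⁻¹ = (c : G) * (m * a * m⁻¹) * (c : G)⁻¹ := by group
      rw [e]
      simpa using h1
    have h2 : g * a * g⁻¹ ∈ (S : Subgroup G) := hgA ⟨a, ha, rfl⟩
    apply hinjS h1' h2
    have hc1 : (QuotientGroup.mk' K) (c : G) = 1 := (QuotientGroup.eq_one_iff _).mpr hc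
    have h3 := hxba _ ⟨a, ha, rfl⟩
    simp only [map_mul, map_inv, hc1, one_mul]
    exact h3

end PPrime

end Cfsg.Agent.Lib.Helper18.SCFus
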