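import Mathlib
import Cfsg.Agent.Lib.Helper18.SCFus2

set_option autoImplicit false

/-!
# Control of strong fusion by `N(zfam D)`: the quotient by `O_p` when `G = S C(O_p(G))`
-/

universe u

namespace Cfsg.Agent.Lib.Helper18.SCFus

open Cfsg.Agent.Lib.Helper9 Cfsg.Agent.Lib.Helper10.ZJnpc Cfsg.Agent.Lib.Helper10.ZJsc
  Cfsg.Agent.Lib.Helper10.ZJctl Cfsg.Agent.Lib.Helper13 Cfsg.Agent.Lib.Helper1.TNPC

section PCore

variable {G : Type u} [Group G] [Finite G] {p : ℕ} [Fact p.Prime]
  {Qf : ∀ (Y : Type u) [Group Y], Subgroup Y → Prop}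

/-- A strongly closed subgroup contained in a normal subgroup of the Sylow subgroup is normal. -/
theorem normal_of_stronglyClosed_le {S D Q : Subgroup G} (hD : Cfsg.IsStronglyClosed D S)
    [hQn : Q.Normal] (hQS : Q ≤ S) (hDQ : D ≤ Q) : D.Normal := by
  constructor
  intro d hd g
  exact hD.2 d hd g (hQS (hQn.conj_mem d (hDQ hd) g))

/-- The quotient step for the normal `p`-subgroup `Q = O_p(G)` centralized by all
`p'`-elements. -/
theorem sctl_of_quotient_pcore (hQ : QFam p Qf) (S : Sylow p G) (D : Subgroup G)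
    (hD : Cfsg.IsStronglyClosed D (S : Subgroup G))
    (Q : Subgroup G) [hQn : Q.Normal] (hQp : IsPGroup p ↥Q)
    (hQmax : ∀ R : Subgroup G, R.Normal → IsPGroup p ↥R → R ≤ Q)
    (hp' : ∀ g : G, (orderOf g).Coprime p → g ∈ Subgroup.centralizer (Q : Set G))
    (ihq : AllSCtl p Qf (G ⧸ Q))
    (ihsub : ∀ N : Subgroup G, N ≠ ⊤ → AllSCtl p Qf ↥N) :
    SCtl (zfam (Qf G) D) (S : Subgroup G) := by
  have hQS : Q ≤ (S : Subgroup G) := normal_pgroup_le_sylow Q hQp S
  by_cases hDQ : D ≤ Q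
  · have hDn : D.Normal := normal_of_stronglyClosed_le hD hQS hDQ
    apply sctl_of_normal
    rw [← Subgroup.normalizer_eq_top_iff, eq_top_iff]
    refine le_trans ?_ (normalizer_le_normalizer_zfam (Qf G) (hQ.hyp G S).aut D)
    rw [Subgroup.normalizer_eq_top_iff.mpr hDn]
  · rw [sctl_iff_reach]
    have hsurj := QuotientGroup.mk'_surjective Q
    have hDb := stronglyClosed_map_quotient S D hD Q
    rw [← Sylow.coe_mapSurjective hsurj S] at hDb
    have hcm := comap_map_sylow_of_le Q (S : Subgroup G) hQS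
    obtain ⟨Vb, hVb⟩ : ∃ Vb : Subgroup (G ⧸ Q),
        Vb = zfam (Qf (G ⧸ Q)) (D.map (QuotientGroup.mk' Q)) := ⟨_, rfl⟩
    have hDbp : IsPGroup p ↥(D.map (QuotientGroup.mk' Q)) := (S.isPGroup'.to_le hD.1).map _
    have hDbne : D.map (QuotientGroup.mk' Q) ≠ ⊥ := by
      intro hb
      apply hDQ
      intro d hd
      have h1 : (QuotientGroup.mk' Q) d ∈ D.map (QuotientGroup.mk' Q) := ⟨d, hd, rfl⟩
      rw [hb, Subgroup.mem_bot] at h1
      exact (QuotientGroup.eq_one_iff d).mp h1
    have hVbne : Vb ≠ ⊥ := hVb ▸ hQ.ne_bot (G ⧸ Q) _ hDbp hDbne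
    have hVble : Vb ≤ (S : Subgroup G).map (QuotientGroup.mk' Q) := by
      rw [hVb]
      exact (hQ.le (G ⧸ Q) _).trans (Subgroup.map_mono hD.1)
    have hVS : Vb.comap (QuotientGroup.mk' Q) ≤ (S : Subgroup G) := by
      rw [← hcm]
      exact Subgroup.comap_mono hVble
    have hne : Subgroup.normalizer ((Vb.comap (QuotientGroup.mk' Q) : Subgroup G) : Set G) ≠
        ⊤ := by
      intro htop
      have hVn := Subgroup.normalizer_eq_top_iff.mp htop
      have h1 := hQmax _ hVn (S.isPGroup'.to_le hVS)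
      have h2 : Vb ≤ ⊥ := by
        rw [← Subgroup.map_comap_eq_self_of_surjective hsurj Vb]
        refine (Subgroup.map_mono h1).trans ?_
        rw [QuotientGroup.map_mk'_self]
      exact hVbne (le_bot_iff.mp h2)
    have hSle : (S : Subgroup G) ≤
        Subgroup.normalizer ((Vb.comap (QuotientGroup.mk' Q) : Subgroup G) : Set G) := by
      rw [← Subgroup.comap_normalizer_eq_of_surjective _ hsurj]
      intro s hs
      rw [Subgroup.mem_comap, hVb]
      apply sylow_le_normalizer_zfam hQ (Sylow.mapSurjective hsurj S) _ hDb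
      rw [Sylow.coe_mapSurjective]
      exact ⟨s, hs, rfl⟩
    have hM : ∀ (A : Set G) (h : G),
        h ∈ Subgroup.normalizer ((Vb.comap (QuotientGroup.mk' Q) : Subgroup G) : Set G) →
        A ⊆ ((S : Subgroup G) : Set G) → (fun a => h * a * h⁻¹) '' A ⊆ ((S : Subgroup G) : Set G) →
        Reach (constFam (zfam (Qf G) D)) ⊤ (S : Subgroup G) A h :=
      fun A h hh hA hhA => reach_in_sub hQ S D hD _ hSle (ihsub _ hne) A h hh hA hhA
    have hSW := sylow_le_normalizer_zfam hQ S D hD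
    have hS : ∀ (A : Set G) (s : G), s ∈ (S : Subgroup G) → A ⊆ ((S : Subgroup G) : Set G) →
        Reach (constFam (zfam (Qf G) D)) ⊤ (S : Subgroup G) A s := by
      intro A s hs hA
      apply reach_const_of_mem (hSW hs) hA
      rintro _ ⟨a, ha, rfl⟩
      exact Subgroup.mul_mem _ (Subgroup.mul_mem _ hs (hA ha)) (Subgroup.inv_mem _ hs)
    have key : ∀ (k : ℕ) (H : Subgroup G), Q ≤ H → H ≤ (S : Subgroup G) →
        Nat.card ↥(S : Subgroup G) - Nat.card ↥H = k →
        ∀ x : G, H.map (MulAut.conj x).toMonoidHom ≤ (S : Subgroup G) →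
          Reach (constFam (zfam (Qf G) D)) ⊤ (S : Subgroup G) (H : Set G) x := by
      intro k
      induction k using Nat.strong_induction_on with
      | _ k ih =>
      intro H hQH hHS hk x hx
      have hAb : (QuotientGroup.mk' Q) '' (H : Set G) ⊆
          (((Sylow.mapSurjective hsurj S : Sylow p (G ⧸ Q)) : Subgroup (G ⧸ Q)) : Set (G ⧸ Q)) := by
        rintro _ ⟨a, ha, rfl⟩
        rw [Sylow.coe_mapSurjective]
        exact ⟨a, hHS ha, rfl⟩
      have hhAb : (fun a => (QuotientGroup.mk' Q) x * a * ((QuotientGroup.mk' Q) x)⁻¹) ''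
          ((QuotientGroup.mk' Q) '' (H : Set G)) ⊆
          (((Sylow.mapSurjective hsurj S : Sylow p (G ⧸ Q)) : Subgroup (G ⧸ Q)) : Set (G ⧸ Q)) := by
        rintro _ ⟨_, ⟨a, ha, rfl⟩, rfl⟩
        rw [Sylow.coe_mapSurjective]
        refine ⟨x * a * x⁻¹, hx ⟨a, ha, rfl⟩, ?_⟩
        simp only [map_mul, map_inv]
      obtain ⟨cb, hcbN, hagree⟩ := ihq (Sylow.mapSurjective hsurj S) _ hDb _
        ((QuotientGroup.mk' Q) x) hAb hhAb
      rw [← hVb] at hcbN
      obtain ⟨c, rfl⟩ := hsurj cb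
      have hcN : c ∈ Subgroup.normalizer ((Vb.comap (QuotientGroup.mk' Q) : Subgroup G) : Set G) := by
        rw [← Subgroup.comap_normalizer_eq_of_surjective _ hsurj, Subgroup.mem_comap]
        exact hcbN
      have hcH : ∀ a ∈ H, c * a * c⁻¹ ∈ (S : Subgroup G) := by
        intro a ha
        rw [← hcm, Subgroup.mem_comap]
        have h1 := hagree _ ⟨a, ha, rfl⟩
        simp only [map_mul, map_inv]
        rw [h1]
        refine ⟨x * a * x⁻¹, hx ⟨a, ha, rfl⟩, ?_⟩
        simp only [map_mul, map_inv]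
      have hcr : Reach (constFam (zfam (Qf G) D)) ⊤ (S : Subgroup G) (H : Set G) c := by
        apply hM _ c hcN hHS
        rintro _ ⟨a, ha, rfl⟩
        exact hcH a ha
      obtain ⟨H', hH'⟩ : ∃ H' : Subgroup G, H' = H.map (MulAut.conj c).toMonoidHom := ⟨_, rfl⟩
      have hH'S : H' ≤ (S : Subgroup G) := by
        rw [hH']
        rintro _ ⟨a, ha, rfl⟩
        exact hcH a ha
      have hQH' : Q ≤ H' := by
        rw [hH', ← cj_normal_eq Q c]
        exact cj_mono hQH
      have hcard : Nat.card ↥H' = Nat.card ↥H := by rw [hH', card_cj]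
      have hyQ : ∀ x' ∈ H', (x * c⁻¹) * x' * (x * c⁻¹)⁻¹ * x'⁻¹ ∈ Q := by
        intro x' hx'
        rw [hH'] at hx'
        obtain ⟨a, ha, rfl⟩ := hx'
        rw [← QuotientGroup.eq_one_iff]
        have h1 := hagree _ ⟨a, ha, rfl⟩
        have e : (x * c⁻¹) * (MulAut.conj c).toMonoidHom a * (x * c⁻¹)⁻¹ *
            ((MulAut.conj c).toMonoidHom a)⁻¹ = (x * a * x⁻¹) * (c * a * c⁻¹)⁻¹ := by
          simp only [MulEquiv.coe_toMonoidHom, MulAut.conj_apply]
          group
        rw [e]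
        have h2 : ((QuotientGroup.mk' Q) ((x * a * x⁻¹) * (c * a * c⁻¹)⁻¹)) = 1 := by
          simp only [map_mul, map_inv] at h1 ⊢
          rw [← h1]
          group
        exact h2
      have hyN : x * c⁻¹ ∈ Subgroup.normalizer (H' : Set G) := by
        apply mem_normalizer_of_cj_le
        rintro _ ⟨x', hx', rfl⟩
        have h1 := hQH' (hyQ x' hx')
        have e : (MulAut.conj (x * c⁻¹)).toMonoidHom x' =
            ((x * c⁻¹) * x' * (x * c⁻¹)⁻¹ * x'⁻¹) * x' := by
          simp only [MulEquiv.coe_toMonoidHom, MulAut.conj_apply]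
          group
        rw [e]
        exact Subgroup.mul_mem _ h1 hx'
      have hstar := reach_star S Q hQp hp' hS H' hQH' hH'S (by
        intro H₂ hQH₂ hH₂S hlt x₂ hx₂
        have hle : Nat.card ↥H₂ ≤ Nat.card ↥(S : Subgroup G) := Subgroup.card_le_of_le hH₂S
        have hle' : Nat.card ↥H ≤ Nat.card ↥(S : Subgroup G) := Subgroup.card_le_of_le hHS
        rw [hcard] at hlt
        exact ih (Nat.card ↥(S : Subgroup G) - Nat.card ↥H₂) (by omega) H₂ hQH₂ hH₂S rfl x₂ hx₂)
        hyN hyQ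
      have r := hcr.comp hstar (by
        intro a ha
        rw [hH']
        exact ⟨a, ha, rfl⟩)
      have e : x * c⁻¹ * c = x := by group
      rwa [e] at r
    intro A h hA hhA
    obtain ⟨H, hH⟩ : ∃ H : Subgroup G, H = Subgroup.closure A ⊔ Q := ⟨_, rfl⟩
    have hAH : A ⊆ (H : Set G) := by
      intro a ha
      rw [hH]
      exact (le_sup_left : Subgroup.closure A ≤ _) (Subgroup.subset_closure ha)
    have hHS : H ≤ (S : Subgroup G) := by
      rw [hH]
      exact sup_le ((Subgroup.closure_le _).mpr hA) hQS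
    have hHx : H.map (MulAut.conj h).toMonoidHom ≤ (S : Subgroup G) := by
      rw [hH, Subgroup.map_sup, cj_normal_eq Q h]
      refine sup_le ?_ hQS
      rw [MonoidHom.map_closure, Subgroup.closure_le]
      rintro _ ⟨a, ha, rfl⟩
      exact hhA ⟨a, ha, rfl⟩
    exact (key _ H (hH ▸ le_sup_right) hHS rfl h hHx).mono hAH

end PCore

end Cfsg.Agent.Lib.Helper18.SCFus
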