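import Mathlib
import Cfsg.Agent.Lib.Helper18.SCFus3

set_option autoImplicit false

/-!
# Control of strong fusion by `N(zfam D)`, `D` strongly closed: the main induction

If `zfam D` is normal in every constrained section (for every strongly closed `D` of a Sylow
subgroup of the section), then `N(zfam D)` controls strong fusion in a Sylow `p`-subgroup `S` of
`G`, for every `D` strongly closed in `S` with respect to `G`.
-/

universe u

namespace Cfsg.Agent.Lib.Helper18.SCFus

open Cfsg.Agent.Lib.Helper9 Cfsg.Agent.Lib.Helper10.ZJnpc Cfsg.Agent.Lib.Helper10.ZJsc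
  Cfsg.Agent.Lib.Helper10.ZJctl Cfsg.Agent.Lib.Helper13 Cfsg.Agent.Lib.Helper1.TNPC

section Main

variable {p : ℕ} [Fact p.Prime] {Qf : ∀ (Y : Type u) [Group Y], Subgroup Y → Prop}

theorem sc_sec_main (hQ : QFam p Qf) :
    ∀ (n : ℕ) (Γ : Type u) [Group Γ] [Finite Γ], Nat.card Γ = n →
      SecAll (HypSC p Qf) Γ → AllSCtl p Qf Γ := by
  intro n
  induction n using Nat.strong_induction_on with
  | _ n ih =>
  intro Γ _ _ hcard hsec S D hD
  have hp : p.Prime := Fact.out
  have ihsub : ∀ N : Subgroup Γ, N ≠ ⊤ → AllSCtl p Qf ↥N := fun N hN =>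
    ih (Nat.card ↥N) (hcard ▸ card_subgroup_lt_of_ne_top N hN) ↥N rfl (secAll_subgroup hsec N)
  have ihquot : ∀ (M : Subgroup Γ) [M.Normal], M ≠ ⊥ → AllSCtl p Qf (Γ ⧸ M) := fun M _ hM =>
    ih (Nat.card (Γ ⧸ M)) (hcard ▸ card_quotient_lt_of_ne_bot M hM) (Γ ⧸ M) rfl
      (secAll_quotient hsec M)
  by_cases hDb : D = ⊥
  · apply sctl_of_normal
    rw [hDb, zfam_bot hQ]
    exact Subgroup.normal_bot
  by_cases hQ0 : Cfsg.pCore p Γ = ⊥
  · apply sctl_of_local hQ S D hD hDb
    intro T hTS hTne _
    have hne : Subgroup.normalizer (T : Set Γ) ≠ ⊤ := by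
      intro htop
      have hTn : T.Normal := Subgroup.normalizer_eq_top_iff.mp htop
      have := Cfsg.Agent.Lib.Helper1.le_pCore hTn (S.isPGroup'.to_le hTS)
      rw [hQ0] at this
      exact hTne (le_bot_iff.mp this)
    exact ihsub _ hne
  · obtain ⟨Q, hQdef⟩ : ∃ Q : Subgroup Γ, Q = Cfsg.pCore p Γ := ⟨_, rfl⟩
    rw [← hQdef] at hQ0
    haveI hQn : Q.Normal := hQdef ▸ pCore_normal' p
    have hQp : IsPGroup p ↥Q := hQdef ▸ pCore_isPGroup
    have hle_Q : ∀ R : Subgroup Γ, R.Normal → IsPGroup p ↥R → R ≤ Q := fun R hRn hRp =>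
      hQdef ▸ Cfsg.Agent.Lib.Helper1.le_pCore hRn hRp
    by_cases hC : Subgroup.centralizer (Q : Set Γ) ≤ Q
    · rw [hQdef] at hC
      exact sctl_of_normal (secAll_self hsec hC S D hD)
    · by_cases hDp : Cfsg.pPrimeCore p Γ = ⊥
      swap
      · haveI : (Cfsg.pPrimeCore p Γ).Normal := pPrimeCore_normal' p
        exact sctl_of_quotient_pprime hQ S D hD (Cfsg.pPrimeCore p Γ)
          (Cfsg.Agent.Lib.Helper1.pPrimeCore_card_coprime p) (ihquot _ hDp)
      · obtain ⟨C, hCdef⟩ : ∃ C : Subgroup Γ, C = Subgroup.centralizer (Q : Set Γ) := ⟨_, rfl⟩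
        haveI hCn : C.Normal := by rw [hCdef]; exact Subgroup.normal_centralizer
        have hSC : ¬ (S : Subgroup Γ) ⊓ C ≤ Q := by
          intro hle
          rw [hCdef] at hle
          exact hC (centralizer_le_of_sylow_inf_le Q hDp S hle)
        have hRN : Subgroup.normalizer ((((S : Subgroup Γ) ⊓ C : Subgroup Γ)) : Set Γ) ≠ ⊤ := by
          intro htop
          have hRn := Subgroup.normalizer_eq_top_iff.mp htop
          exact hSC (hle_Q _ hRn (S.isPGroup'.to_le inf_le_left))
        have hSNC : (S : Subgroup Γ) ≤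
            Subgroup.normalizer ((((S : Subgroup Γ) ⊓ C : Subgroup Γ)) : Set Γ) := by
          intro s hs
          apply mem_normalizer_inf_of_mem (Subgroup.le_normalizer hs)
          rw [Subgroup.normalizer_eq_top_iff.mpr hCn]
          exact Subgroup.mem_top _
        by_cases hX : (S : Subgroup Γ) ⊔ C = ⊤
        swap
        · rw [sctl_iff_reach]
          exact reach_of_two_subgroups S C
            (fun A h hh hA hhA => reach_in_sub hQ S D hD _ le_sup_left (ihsub _ hX) A h hh hA hhA)
            (fun A h hh hA hhA => reach_in_sub hQ S D hD _ hSNC (ihsub _ hRN) A h hh hA hhA)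
        · have hp' : ∀ g : Γ, (orderOf g).Coprime p →
              g ∈ Subgroup.centralizer (Q : Set Γ) := by
            intro g hg
            rw [← hCdef]
            have hgtop : g ∈ (S : Subgroup Γ) ⊔ C := by rw [hX]; exact Subgroup.mem_top _
            have hSCn : (S : Subgroup Γ) ≤ Subgroup.normalizer (C : Set Γ) := by
              rw [Subgroup.normalizer_eq_top_iff.mpr hCn]; exact le_top
            obtain ⟨s, hs, c, hc, rfl⟩ := mem_sup_of_le_normalizer hSCn hgtop
            obtain ⟨k, hk⟩ := (IsPGroup.iff_orderOf.mp S.isPGroup') ⟨s, hs⟩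
            have hsk : s ^ p ^ k = 1 := by
              have h1 : (⟨s, hs⟩ : ↥(S : Subgroup Γ)) ^ p ^ k = 1 := by
                rw [← hk]; exact pow_orderOf_eq_one _
              have := congrArg Subtype.val h1
              simpa using this
            have hc1 : (QuotientGroup.mk' C) c = 1 := (QuotientGroup.eq_one_iff c).mpr hc
            have e1 : (QuotientGroup.mk' C) (s * c) = (QuotientGroup.mk' C) s := by
              rw [map_mul, hc1, mul_one]
            have h1 : ((QuotientGroup.mk' C) s) ^ orderOf (s * c) = 1 := by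
              rw [← e1, ← map_pow, pow_orderOf_eq_one, map_one]
            have h2 : ((QuotientGroup.mk' C) s) ^ p ^ k = 1 := by
              rw [← map_pow, hsk, map_one]
            have h3 := eq_one_of_pow_eq_one_of_coprime h1 h2 (Nat.Coprime.pow_right k hg)
            have hsC : s ∈ C := (QuotientGroup.eq_one_iff s).mp h3
            exact Subgroup.mul_mem _ hsC hc
          exact sctl_of_quotient_pcore hQ S D hD Q hQp hle_Q hp' (ihquot Q hQ0) ihsub

end Main

end Cfsg.Agent.Lib.Helper18.SCFus
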