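import Mathlib
import Cfsg.Agent.Lib.Helper10.ZJctl3
import Cfsg.Agent.S3079
import Cfsg.Prelude.Def_LocalEven

set_option autoImplicit false

namespace Cfsg.Agent.Lib.Helper18.ZJWrap

open Cfsg.Agent.Lib.Helper9 Cfsg.Agent.Lib.Helper10.ZJnpc Cfsg.Agent.Lib.Helper10.ZJctl

/-- The conclusion of statement S3081 from a core control-of-strong-fusion result stated for
the family functors `zfam`. -/
theorem s3081_of_core.{u} {G : Type u} [Group G] [Finite G] {p : ℕ} [Fact p.Prime] (hp : p ≠ 2)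
    (P : Sylow p G) (D : Subgroup G) (hD : Cfsg.IsStronglyClosed D (P : Subgroup G))
    (core : ∀ {Qf : ∀ (Y : Type u) [Group Y], Subgroup Y → Prop}, QFam p Qf →
      ∀ (A : Set G), A ⊆ (P : Subgroup G) → ∀ g : G,
      (fun a => g * a * g⁻¹) '' A ⊆ (P : Subgroup G) →
      ∃ x ∈ Subgroup.normalizer (zfam (Qf G) D : Set G), ∀ a ∈ A, g * a * g⁻¹ = x * a * x⁻¹) :
    (∀ A : Set G, A ⊆ (P : Subgroup G) →
      Cfsg.ControlsStrongFusionOf (Subgroup.normalizer ((Cfsg.centerThompsonAOf D) : Set G))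
        (P : Subgroup G) A) ∧
    (∀ A : Set G, A ⊆ (P : Subgroup G) →
      Cfsg.ControlsStrongFusionOf
        (Subgroup.normalizer ((Cfsg.omegaOne p (Cfsg.centerThompsonOf p D)) : Set G))
        (P : Subgroup G) A) := by
  constructor
  · intro A hA
    refine ⟨hA, fun g hg => ?_⟩
    rw [← zfam_eq_centerThompsonAOf D]
    exact core (qfam_comm hp) A hA g hg
  · intro A hA
    refine ⟨hA, fun g hg => ?_⟩
    have hDp : IsPGroup p D := P.isPGroup'.to_le hD.1
    rw [Cfsg.Agent.S3079.centerThompsonOf_eq_map, ← Cfsg.Agent.S3079.omegaOne_map_subtype]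
    have h1 := zfam_eq_omegaCenterThompson (p := p) D hDp
    unfold Cfsg.omegaCenterThompson at h1
    rw [← h1]
    exact core (qfam_elem hp) A hA g hg

end Cfsg.Agent.Lib.Helper18.ZJWrap
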