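import Mathlib
import Cfsg.Agent.Lib.Helper18.SCFus4
import Cfsg.Agent.Lib.Helper18.ZJWrap
import Cfsg.Agent.Lib.helper17.QdStab13

set_option autoImplicit false

/-!
# `N(zfam D)` controls strong fusion in `Qd(p)`-free groups, `D` strongly closed, `p` odd
-/

universe u

namespace Cfsg.Agent.Lib.Helper18.SCFus

open Cfsg.Agent.Lib.Helper9 Cfsg.Agent.Lib.Helper10.ZJnpc Cfsg.Agent.Lib.Helper10.ZJsc
  Cfsg.Agent.Lib.Helper10.ZJctl Cfsg.Agent.Lib.Helper13 Cfsg.Agent.Lib.Helper10.NPStab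
  Cfsg.Agent.Lib.helper17

variable {p : ℕ} [Fact p.Prime] {Qf : ∀ (Y : Type u) [Group Y], Subgroup Y → Prop}

/-- In a `Qd(p)`-free group (`p` odd) the hypothesis on constrained sections holds. -/
theorem secAll_hypSC_of_qdfree (hp : p ≠ 2) (hQ : QFam p Qf) (Y : Type u) [Group Y] [Finite Y]
    (h : ¬ Cfsg.Involves ↥(Cfsg.qd p) Y) : SecAll (HypSC p Qf) Y := by
  rintro X _ _ ⟨K, f, hf⟩ hc S D hD
  have hXfree : ¬ Cfsg.Involves ↥(Cfsg.qd p) X := fun hi =>
    h (involves_of_inj_surj_trans K.subtype K.subtype_injective f hf hi)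
  have hst := QdStab11.qdfree_nps hp hXfree
  exact zfam_normal_sc (Qf X) S (hQ.hyp X S) D hD hc hst

/-- Control of strong fusion by `N(zfam D)` in a `Qd(p)`-free group, for a strongly closed `D`. -/
theorem sctl_of_qdfree (hp : p ≠ 2) (hQ : QFam p Qf) {G : Type u} [Group G] [Finite G]
    (h : ¬ Cfsg.Involves ↥(Cfsg.qd p) G) (S : Sylow p G) (D : Subgroup G)
    (hD : Cfsg.IsStronglyClosed D (S : Subgroup G)) :
    SCtl (zfam (Qf G) D) (S : Subgroup G) :=
  sc_sec_main hQ (Nat.card G) G rfl (secAll_hypSC_of_qdfree hp hQ G h) S D hD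

/-- The conclusion of statement S3081. -/
theorem s3081_main {G : Type u} [Group G] [Finite G] (hp : p ≠ 2) (P : Sylow p G)
    (D : Subgroup G) (hD : Cfsg.IsStronglyClosed D (P : Subgroup G))
    (hqd : ¬ Cfsg.Involves ↥(Cfsg.qd p) G) :
    (∀ A : Set G, A ⊆ (P : Subgroup G) →
      Cfsg.ControlsStrongFusionOf (Subgroup.normalizer ((Cfsg.centerThompsonAOf D) : Set G))
        (P : Subgroup G) A) ∧
    (∀ A : Set G, A ⊆ (P : Subgroup G) →
      Cfsg.ControlsStrongFusionOf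
        (Subgroup.normalizer ((Cfsg.omegaOne p (Cfsg.centerThompsonOf p D)) : Set G))
        (P : Subgroup G) A) := by
  apply Cfsg.Agent.Lib.Helper18.ZJWrap.s3081_of_core hp P D hD
  intro Qf hQ A hA g hg
  obtain ⟨x, hx, hxa⟩ := sctl_of_qdfree hp hQ hqd P D hD A g hA hg
  exact ⟨x, hx, fun a ha => (hxa a ha).symm⟩

end Cfsg.Agent.Lib.Helper18.SCFus
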