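import Mathlib
import Cfsg.Agent.Lib.Helper18.SDM.Defs3
import Cfsg.Agent.Lib.Helper20.SDMB0
import Cfsg.Agent.Lib.Helper20.SDMB1

/-!
# SDM row U4, first half: `isUniQ_pow` (a unitriangular element of `BQ` is a `p`-element), helper18.
`N = g - 1` maps `V_{j+1} → V_j`, `V_m^⊥ → V_m`, `V_j^⊥ → V_{j+1}^⊥`, so `N^(n+1) = 0`.
-/

set_option autoImplicit false
set_option linter.unusedSectionVars false
set_option linter.unusedVariables false

namespace Cfsg.Agent.Lib.Helper18.QBN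

open Cfsg.Agent.Lib.helper14.UBN QuadraticMap

universe u v

variable {F : Type u} [Field F] {W : Type v} [AddCommGroup W] [Module F W] {n : ℕ}

/-- the coordinate `v.1 i` as a polar form -/
theorem sdmu4_coord (hn : Even n) (Q₀ : QuadraticForm F W) (v : QV F n W) (i : Fin n) :
    v.1 i = polar (frQ n Q₀) v (xv W (rv i)) := by
  rw [polar_xv hn, rv_rv]

/-- `polar v z = 0` when `z ∈ V_j` and the top `j` coordinates of `v` vanish -/
theorem sdmu4_polar_Vfl (hn : Even n) (Q₀ : QuadraticForm F W) (j : ℕ) (v z : QV F n W)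
    (hv : ∀ i : Fin n, rk (rv i) < j → v.1 i = 0) (hz : z ∈ Vfl F n W j) :
    polar (frQ n Q₀) v z = 0 := by
  rw [(mem_Vfl_iff_sum j z).mp hz, polar_comm]
  rw [show polar (⇑(frQ n Q₀)) (∑ i ∈ Finset.univ.filter (fun i : Fin n => rk i < j), z.1 i • xv W i) v
    = polarBilin (frQ n Q₀) (∑ i ∈ Finset.univ.filter (fun i : Fin n => rk i < j), z.1 i • xv W i) v
    from rfl]
  rw [map_sum, LinearMap.sum_apply]
  apply Finset.sum_eq_zero
  intro i hi
  rw [map_smul, LinearMap.smul_apply, polarBilin_apply_apply, polar_comm, polar_xv hn]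
  have hi' : rk i < j := (Finset.mem_filter.mp hi).2
  rw [hv (rv i) (by rw [rv_rv]; exact hi'), smul_zero]

/-- the column of a unitriangular element -/
theorem sdmu4_col {Q₀ : QuadraticForm F W} (g : GQ n Q₀) (hg : g ∈ BQ n Q₀) (hg1 : IsUniQ g)
    (i : Fin n) (hi : rk i < n / 2) : le g (xv W i) - xv W i ∈ Vfl F n W (rk i) := by
  have h1 : le g (xv W i) ∈ Vfl F n W (rk i + 1) :=
    (isUpQ_iff g).mp ((mem_BQ_iff g).mp hg) i hi
  have h2 : xv W i ∈ Vfl F n W (rk i + 1) := xv_mem_Vfl i _ (Nat.lt_succ_self _)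
  apply mem_Vfl_of_succ ((Vfl F n W (rk i + 1)).sub_mem h1 h2)
  intro i' hi'
  have e : i' = i := rk_injective hi'
  rw [e, Prod.fst_sub, Pi.sub_apply, hg1.1 i hi, xv_fst, if_pos rfl, sub_self]

/-- the inverse is unitriangular on the frame -/
theorem sdmu4_inv_diag {Q₀ : QuadraticForm F W} (g : GQ n Q₀) (hg : g ∈ BQ n Q₀) (hg1 : IsUniQ g)
    (i : Fin n) (hi : rk i < n / 2) : (le g⁻¹ (xv W i)).1 i = 1 := by
  have hgi : g⁻¹ ∈ BQ n Q₀ := (BQ n Q₀).inv_mem hg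
  have h1 : le g⁻¹ (xv W i) ∈ Vfl F n W (rk i + 1) :=
    (isUpQ_iff g⁻¹).mp ((mem_BQ_iff g⁻¹).mp hgi) i hi
  set c := (le g⁻¹ (xv W i)).1 i with hc
  -- `z = g⁻¹ x_i - c x_i ∈ V_{rk i}`
  have hz : le g⁻¹ (xv W i) - c • xv W i ∈ Vfl F n W (rk i) := by
    have h2 : c • xv W i ∈ Vfl F n W (rk i + 1) :=
      (Vfl F n W (rk i + 1)).smul_mem c (xv_mem_Vfl i _ (Nat.lt_succ_self _))
    apply mem_Vfl_of_succ ((Vfl F n W (rk i + 1)).sub_mem h1 h2)
    intro i' hi'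
    have e : i' = i := rk_injective hi'
    rw [e, Prod.fst_sub, Pi.sub_apply, Prod.smul_fst, Pi.smul_apply, xv_fst, if_pos rfl,
      smul_eq_mul, mul_one, sub_self]
  have hgz : le g (le g⁻¹ (xv W i) - c • xv W i) ∈ Vfl F n W (rk i) :=
    ((mem_BQ_iff g).mp hg) (rk i) (by omega) _ hz
  have h3 : (le g (le g⁻¹ (xv W i) - c • xv W i)).1 i = 0 :=
    ((mem_Vfl _ _).mp hgz).2 i (le_refl _)
  rw [map_sub, le_inv_apply, map_smul, Prod.fst_sub, Pi.sub_apply, Prod.smul_fst, Pi.smul_apply,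
    hg1.1 i hi, xv_fst, if_pos rfl, smul_eq_mul, mul_one, sub_eq_zero] at h3
  exact h3.symm

theorem sdmu4_inv_col {Q₀ : QuadraticForm F W} (g : GQ n Q₀) (hg : g ∈ BQ n Q₀) (hg1 : IsUniQ g)
    (i : Fin n) (hi : rk i < n / 2) : le g⁻¹ (xv W i) - xv W i ∈ Vfl F n W (rk i) := by
  have hgi : g⁻¹ ∈ BQ n Q₀ := (BQ n Q₀).inv_mem hg
  have h1 : le g⁻¹ (xv W i) ∈ Vfl F n W (rk i + 1) :=
    (isUpQ_iff g⁻¹).mp ((mem_BQ_iff g⁻¹).mp hgi) i hi
  have h2 : xv W i ∈ Vfl F n W (rk i + 1) := xv_mem_Vfl i _ (Nat.lt_succ_self _)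
  apply mem_Vfl_of_succ ((Vfl F n W (rk i + 1)).sub_mem h1 h2)
  intro i' hi'
  have e : i' = i := rk_injective hi'
  rw [e, Prod.fst_sub, Pi.sub_apply, sdmu4_inv_diag g hg hg1 i hi, xv_fst, if_pos rfl, sub_self]

/-- the endomorphism `g - 1` -/
noncomputable def sdmu4_N {Q₀ : QuadraticForm F W} (g : GQ n Q₀) : Module.End F (QV F n W) :=
  (le g).toLinearMap - 1

theorem sdmu4_N_apply {Q₀ : QuadraticForm F W} (g : GQ n Q₀) (v : QV F n W) :
    sdmu4_N g v = le g v - v := rfl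

/-- step (a): `N V_{j+1} ⊆ V_j` -/
theorem sdmu4_stepA {Q₀ : QuadraticForm F W} (g : GQ n Q₀) (hg : g ∈ BQ n Q₀) (hg1 : IsUniQ g)
    (j : ℕ) (hj : j < n / 2) (v : QV F n W) (hv : v ∈ Vfl F n W (j + 1)) :
    sdmu4_N g v ∈ Vfl F n W j := by
  rw [(mem_Vfl_iff_sum (j + 1) v).mp hv, map_sum]
  apply Submodule.sum_mem
  intro i hi
  have hi' : rk i < j + 1 := (Finset.mem_filter.mp hi).2
  rw [map_smul]
  apply Submodule.smul_mem
  rw [sdmu4_N_apply]
  exact Vfl_mono (by omega) (sdmu4_col g hg hg1 i (by omega))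

/-- step (c): the top `j` coordinates of `v` vanish ⇒ the top `j+1` coordinates of `N v` vanish -/
theorem sdmu4_stepC (hn : Even n) {Q₀ : QuadraticForm F W} (g : GQ n Q₀) (hg : g ∈ BQ n Q₀)
    (hg1 : IsUniQ g) (j : ℕ) (hj : j < n / 2) (v : QV F n W)
    (hv : ∀ i : Fin n, rk (rv i) < j → v.1 i = 0) :
    ∀ i : Fin n, rk (rv i) < j + 1 → (sdmu4_N g v).1 i = 0 := by
  intro i hi
  rw [sdmu4_N_apply, Prod.fst_sub, Pi.sub_apply, sub_eq_zero, sdmu4_coord hn Q₀ (le g v) i,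
    sdmu4_coord hn Q₀ v i]
  have e1 : polar (frQ n Q₀) (le g v) (xv W (rv i)) =
      polar (frQ n Q₀) v (le g⁻¹ (xv W (rv i))) := by
    rw [← le_polar g v (le g⁻¹ (xv W (rv i))), le_inv_apply]
  rw [e1]
  have h2 := sdmu4_inv_col g hg hg1 (rv i) (by omega)
  have h3 : polar (frQ n Q₀) v (le g⁻¹ (xv W (rv i)) - xv W (rv i)) = 0 :=
    sdmu4_polar_Vfl hn Q₀ j v _ hv (Vfl_mono (by omega) h2)
  rw [polar_sub_right, sub_eq_zero] at h3
  exact h3

/-- step (b): the top `n/2` coordinates of `v` vanish ⇒ `N v ∈ V_m` -/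
theorem sdmu4_stepB (hn : Even n) {Q₀ : QuadraticForm F W} (g : GQ n Q₀) (hg : g ∈ BQ n Q₀)
    (hg1 : IsUniQ g) (v : QV F n W) (hv : ∀ i : Fin n, rk (rv i) < n / 2 → v.1 i = 0) :
    sdmu4_N g v ∈ Vfl F n W (n / 2) := by
  obtain ⟨m, hm⟩ := hn
  -- `v = z + (0, v.2)` with `z ∈ V_m`
  have hz : ((v.1, 0) : QV F n W) ∈ Vfl F n W (n / 2) := by
    rw [mem_Vfl]
    refine ⟨rfl, fun i hi => ?_⟩
    apply hv
    have := rk_add_rv i
    have := rk_lt i
    omega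
  have hv' : v = ((v.1, 0) : QV F n W) + wv F n v.2 := by
    apply Prod.ext
    · funext i
      simp
    · simp
  rw [hv', map_add]
  apply Submodule.add_mem
  · rw [sdmu4_N_apply]
    exact (Vfl F n W (n / 2)).sub_mem (((mem_BQ_iff g).mp hg) (n / 2) (le_refl _) _ hz) hz
  · rw [sdmu4_N_apply, mem_Vfl]
    constructor
    · rw [Prod.snd_sub, hg1.2, wv_snd, sub_self]
    · intro i hi
      rw [Prod.fst_sub, Pi.sub_apply, wv_fst, sub_zero,
        sdmu4_coord ⟨m, hm⟩ Q₀ (le g (wv F n v.2)) i]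
      have e1 : polar (frQ n Q₀) (le g (wv F n v.2)) (xv W (rv i)) =
          polar (frQ n Q₀) (wv F n v.2) (le g⁻¹ (xv W (rv i))) := by
        rw [← le_polar g (wv F n v.2) (le g⁻¹ (xv W (rv i))), le_inv_apply]
      rw [e1]
      have hri : rk (rv i) < n / 2 := by
        have := rk_add_rv i
        have := rk_lt i
        omega
      have hgi : g⁻¹ ∈ BQ n Q₀ := (BQ n Q₀).inv_mem hg
      have h1 : le g⁻¹ (xv W (rv i)) ∈ Vfl F n W (rk (rv i) + 1) :=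
        (isUpQ_iff g⁻¹).mp ((mem_BQ_iff g⁻¹).mp hgi) (rv i) hri
      apply sdmu4_polar_Vfl ⟨m, hm⟩ Q₀ (rk (rv i) + 1) _ _ _ h1
      intro i' _
      rfl

theorem sdmu4_powC (hn : Even n) {Q₀ : QuadraticForm F W} (g : GQ n Q₀) (hg : g ∈ BQ n Q₀)
    (hg1 : IsUniQ g) (v : QV F n W) : ∀ j : ℕ, j ≤ n / 2 →
    ∀ i : Fin n, rk (rv i) < j → ((sdmu4_N g ^ j) v).1 i = 0 := by
  intro j
  induction j with
  | zero => intro _ i hi; exact absurd hi (Nat.not_lt_zero _)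
  | succ j ih =>
    intro hj i hi
    rw [pow_succ', Module.End.mul_apply]
    exact sdmu4_stepC hn g hg hg1 j (by omega) _ (ih (by omega)) i hi

theorem sdmu4_powA {Q₀ : QuadraticForm F W} (g : GQ n Q₀) (hg : g ∈ BQ n Q₀)
    (hg1 : IsUniQ g) (v : QV F n W) (hv : v ∈ Vfl F n W (n / 2)) : ∀ s : ℕ, s ≤ n / 2 →
    (sdmu4_N g ^ s) v ∈ Vfl F n W (n / 2 - s) := by
  intro s
  induction s with
  | zero => intro _; simpa using hv
  | succ s ih =>
    intro hs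
    rw [pow_succ', Module.End.mul_apply]
    have h1 := ih (by omega)
    have e : n / 2 - s = (n / 2 - (s + 1)) + 1 := by omega
    rw [e] at h1
    exact sdmu4_stepA g hg hg1 _ (by omega) _ h1

/-- `(g - 1)^(n+1) = 0` -/
theorem sdmu4_nilp (hn : Even n) {Q₀ : QuadraticForm F W} (g : GQ n Q₀) (hg : g ∈ BQ n Q₀)
    (hg1 : IsUniQ g) : sdmu4_N g ^ (n / 2 + (1 + n / 2)) = 0 := by
  apply LinearMap.ext
  intro v
  rw [pow_add, pow_add, pow_one, Module.End.mul_apply, Module.End.mul_apply, LinearMap.zero_apply]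
  have h1 := sdmu4_powC hn g hg hg1 v (n / 2) (le_refl _)
  have h2 := sdmu4_stepB hn g hg hg1 _ h1
  have h3 := sdmu4_powA g hg hg1 _ h2 (n / 2) (le_refl _)
  rw [Nat.sub_self, mem_Vfl] at h3
  apply Prod.ext
  · funext i
    exact h3.2 i (Nat.zero_le _)
  · exact h3.1


theorem sdmu4_pow_le {Q₀ : QuadraticForm F W} (g : GQ n Q₀) (K : ℕ) (v : QV F n W) :
    le (g ^ K) v = (((le g).toLinearMap : Module.End F (QV F n W)) ^ K) v := by
  induction K generalizing v with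
  | zero => rfl
  | succ K ih =>
    rw [pow_succ, le_mul, ih, pow_succ, Module.End.mul_apply]
    rfl

theorem sdmu4_frob (p : ℕ) [Fact p.Prime] [CharP F p] (T : Module.End F (QV F n W)) (k : ℕ) :
    (T - 1) ^ (p ^ k) = T ^ (p ^ k) - 1 := by
  have h : ((Polynomial.X : Polynomial F) - 1) ^ (p ^ k) = Polynomial.X ^ (p ^ k) - 1 := by
    rw [sub_pow_char_pow, one_pow]
  have h2 := congrArg (Polynomial.aeval T) h
  simpa using h2

/-- [ROW U4] unipotent ⇒ `p`-element -/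
theorem isUniQ_pow (hn : Even n) {Q₀ : QuadraticForm F W} (p : ℕ) [Fact p.Prime] [CharP F p]
    (g : GQ n Q₀) (hg : g ∈ BQ n Q₀) (hg1 : IsUniQ g) : ∃ k : ℕ, g ^ (p ^ k) = 1 := by
  have hp : p.Prime := Fact.out
  refine ⟨n / 2 + (1 + n / 2), ?_⟩
  have hlt : n / 2 + (1 + n / 2) ≤ p ^ (n / 2 + (1 + n / 2)) :=
    (Nat.lt_pow_self hp.one_lt).le
  have hN : sdmu4_N g ^ (p ^ (n / 2 + (1 + n / 2))) = 0 := by
    obtain ⟨d, hd⟩ := Nat.exists_eq_add_of_le hlt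
    rw [hd, pow_add, sdmu4_nilp hn g hg hg1, zero_mul]
  have hT : ((le g).toLinearMap : Module.End F (QV F n W)) ^ (p ^ (n / 2 + (1 + n / 2))) = 1 := by
    have h := sdmu4_frob (n := n) (W := W) p ((le g).toLinearMap : Module.End F (QV F n W))
      (n / 2 + (1 + n / 2))
    have e : ((le g).toLinearMap : Module.End F (QV F n W)) - 1 = sdmu4_N g := rfl
    rw [e, hN] at h
    exact (sub_eq_zero.mp h.symm)
  apply GQ_ext
  intro v
  rw [sdmu4_pow_le, hT, le_one]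
  rfl

end Cfsg.Agent.Lib.Helper18.QBN
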