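import Mathlib
import Cfsg.Agent.Lib.Helper18.SDMU4a
import Cfsg.Agent.Lib.helper2.SDMU2

/-!
# SDM row U4, second half: `UQ_isPGroup`, helper18.
-/

set_option autoImplicit false
set_option linter.unusedSectionVars false
set_option linter.unusedVariables false

namespace Cfsg.Agent.Lib.Helper18.QBN

open Cfsg.Agent.Lib.helper14.UBN QuadraticMap

universe u v

variable {F : Type u} [Field F] {W : Type v} [AddCommGroup W] [Module F W] {n : ℕ}

/-- [ROW U4] -/
theorem UQ_isPGroup (hn : Even n) (Q₀ : QuadraticForm F W) (p : ℕ) [Fact p.Prime] [CharP F p] :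
    IsPGroup p ↥(UQ hn Q₀) := by
  intro g
  obtain ⟨k, hk⟩ := isUniQ_pow hn p (g : GQ n Q₀) (UQ_le_BQ hn Q₀ g.2) (UQ_isUniQ hn Q₀ _ g.2)
  refine ⟨k, ?_⟩
  apply Subtype.ext
  rw [Subgroup.coe_pow, hk]
  rfl

end Cfsg.Agent.Lib.Helper18.QBN
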