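import Mathlib
import Cfsg.Agent.Lib.helper14.StDescend

/-!
helper18: descent of a Steinberg-like character under WEAKER hypotheses than
`Cfsg.Agent.Lib.helper14.steinberg_descend`: no assumption on the `p`-part of `|G|` nor on the index
of `N`; only: `θ` irreducible on `G`, `N` normal, `P` a Sylow `p`-subgroup of `N`, `θ 1 = |P|` and
`θ = 0` on `P \ {1}`.  (Needed for the even-dimensional orthogonal groups in characteristic `2`,
where `|GO : Ω| = 2` and the torus of `GO` has even order.)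
-/

set_option autoImplicit false

namespace Cfsg.Agent.Lib.Helper18.StDS

open Finset Cfsg.Agent.Lib.helper7 Cfsg.Agent.Lib.Helper25 Cfsg.Agent.Lib.Helper11
  Cfsg.Agent.Lib.helper15.StbSt Cfsg.Agent.S2544 Cfsg.Agent.Lib.helper14

/-- `restrict_irr_of_sylow_regular` with vanishing required only on the Sylow subgroup `P` of `N` -/
theorem stds_restrict_irr {G : Type*} [Group G] [Fintype G] (N : Subgroup G) [hN : N.Normal]
    (p : ℕ) [Fact p.Prime] (χ : G → ℂ) (hχ : Cfsg.IsIrrCharacter G χ)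
    (P : Sylow p N) (hvan : ∀ x : N, x ∈ P → x ≠ 1 → χ (x : G) = 0)
    (hdeg : χ 1 = (Nat.card (P : Subgroup N) : ℂ)) :
    Cfsg.IsIrrCharacter N (fun n : N => χ n) := by
  classical
  have : Fintype N := Fintype.ofFinite _
  have : Fintype (Cfsg.IrrCharacter N) := Fintype.ofFinite _
  have : Fintype (P : Subgroup N) := Fintype.ofFinite _
  have hR := Cfsg.Agent.Lib.helper2.isCharacter_restrict (h7_irr_isCharacter hχ) N
  obtain ⟨m, hm, hexp⟩ := Cfsg.Agent.Lib.helper2.isCharacter_expansion hR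
  have hcardpos : 0 < Nat.card (P : Subgroup N) := Nat.card_pos
  have hχ1 : χ 1 ≠ 0 := by
    rw [hdeg]
    exact_mod_cast hcardpos.ne'
  have hex : ∃ θ : Cfsg.IrrCharacter N, m θ ≠ 0 := by
    by_contra hcon
    push Not at hcon
    have h0 : (fun n : N => χ n) = 0 := by
      rw [hexp]
      apply Finset.sum_eq_zero
      intro θ _
      rw [hcon θ]
      simp
    have := congrFun h0 1
    exact hχ1 this
  obtain ⟨θ, hθm⟩ := hex
  have hcon : Cfsg.classInner (fun n : N => χ n) (θ : N → ℂ) ≠ 0 := by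
    rw [hm θ]
    exact_mod_cast hθm
  obtain ⟨e, hepos, _, hsum⟩ := h7_clifford N χ hχ (θ : N → ℂ) θ.2 hcon
  have hθcl := h7_irr_isClassFunction θ.2
  have hsumP : ∑ x : (P : Subgroup N), χ ((x : N) : G) = χ 1 := by
    rw [Finset.sum_eq_single (1 : (P : Subgroup N))]
    · rfl
    · intro x _ hx
      apply hvan (x : N) x.2
      intro h
      exact hx (Subtype.ext h)
    · intro h
      exact absurd (Finset.mem_univ _) h
  obtain ⟨k, hk⟩ := sum_subgroup_irr (P : Subgroup N) θ
  set I := Finset.univ.image (fun g : G => cj N (θ : N → ℂ) g) with hI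
  have hsum2 : ∑ x : (P : Subgroup N), χ ((x : N) : G) =
      (e : ℂ) * ((I.card : ℂ) * ((Nat.card (P : Subgroup N) : ℂ) * (k : ℂ))) := by
    have h1 : ∀ x : (P : Subgroup N), χ ((x : N) : G) = (e : ℂ) * ∑ ψ ∈ I, ψ (x : N) := by
      intro x
      have := congrFun hsum (x : N)
      simp only [Pi.smul_apply, Finset.sum_apply, smul_eq_mul] at this
      exact this
    rw [Finset.sum_congr rfl (fun x _ => h1 x), ← Finset.mul_sum, Finset.sum_comm]
    congr 1
    have h2 : ∀ ψ ∈ I, ∑ x : (P : Subgroup N), ψ (x : N) =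
        (Nat.card (P : Subgroup N) : ℂ) * (k : ℂ) := by
      intro ψ hψ
      rw [hI, Finset.mem_image] at hψ
      obtain ⟨g, _, rfl⟩ := hψ
      rw [sum_cj_sylow N p P (θ : N → ℂ) hθcl g, hk]
    rw [Finset.sum_congr rfl h2, Finset.sum_const, nsmul_eq_mul]
  rw [hsumP, hdeg] at hsum2
  have hnat : Nat.card (P : Subgroup N) = e * (I.card * (Nat.card (P : Subgroup N) * k)) := by
    exact_mod_cast hsum2
  have hetk : e * I.card * k = 1 := by
    have : Nat.card (P : Subgroup N) * 1 = Nat.card (P : Subgroup N) * (e * I.card * k) := by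
      rw [mul_one]
      conv_lhs => rw [hnat]
      ring
    exact (Nat.eq_of_mul_eq_mul_left hcardpos this).symm
  have he1 : e = 1 := by
    have := Nat.eq_one_of_mul_eq_one_right (Nat.eq_one_of_mul_eq_one_right hetk)
    exact this
  have hI1 : I.card = 1 := by
    have := Nat.eq_one_of_mul_eq_one_left (Nat.eq_one_of_mul_eq_one_right hetk)
    exact this
  have hθI : (θ : N → ℂ) ∈ I := by
    rw [hI, Finset.mem_image]
    exact ⟨1, Finset.mem_univ _, cj_one N _⟩
  obtain ⟨a, ha⟩ := Finset.card_eq_one.mp hI1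
  have haθ : a = (θ : N → ℂ) := by
    rw [ha, Finset.mem_singleton] at hθI
    exact hθI.symm
  rw [hsum, ha, Finset.sum_singleton, he1, haθ, Nat.cast_one, one_smul]
  exact θ.2

/-- Descent of a Steinberg-like character: `θ` irreducible on `G`, `N` normal in `G`, `P` a Sylow
`p`-subgroup of `N` with `θ 1 = |P|` and `θ = 0` on `P \ {1}`, `e : H ≃* N`, and `θ = θ 1` on the image
of the centre of `H`.  Then `H / Z(H)` has an irreducible character of degree the order of its Sylow
`p`-subgroups vanishing on their nonidentity elements. -/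
theorem stds_descend {G H : Type*} [Group G] [Fintype G] [Group H] (p : ℕ)
    [Fact p.Prime] (θ : G → ℂ) (hθ : Cfsg.IsIrrCharacter G θ)
    (N : Subgroup G) [hN : N.Normal] (P : Sylow p N)
    (hdeg : θ 1 = (Nat.card (P : Subgroup N) : ℂ))
    (hvan : ∀ x : N, x ∈ P → x ≠ 1 → θ (x : G) = 0)
    (e : H ≃* ↥N)
    (hcent : ∀ z ∈ Subgroup.center H, θ ((e z : ↥N) : G) = θ 1) :
    ∃ χ : H ⧸ Subgroup.center H → ℂ, Cfsg.IsIrrCharacter (H ⧸ Subgroup.center H) χ ∧
      ∀ P' : Sylow p (H ⧸ Subgroup.center H), χ 1 = Nat.card P' ∧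
        ∀ x : H ⧸ Subgroup.center H, x ∈ P' → x ≠ 1 → χ x = 0 := by
  classical
  have hp : p.Prime := Fact.out
  haveI : Finite H := Finite.of_equiv _ e.symm.toEquiv
  obtain ⟨d, ρ, hρ, hρχ⟩ := stds_restrict_irr N p θ hθ P hvan hdeg
  haveI := hρ
  let ρS : Representation ℂ H (Fin d → ℂ) := MonoidHom.comp ρ e.toMonoidHom
  have hρS : ρS.IsIrreducible := irreducible_comp_surj e.toMonoidHom e.surjective ρ
  haveI := hρS
  have hchar : ∀ s : H, ρS.character s = θ ((e s : ↥N) : G) := by
    intro s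
    show ρ.character (e s) = _
    rw [hρχ]
  have hK : Subgroup.center H ≤ MonoidHom.ker ρS := by
    intro z hz
    rw [MonoidHom.mem_ker]
    have h1 : ρS.character z = (Module.finrank ℂ (Fin d → ℂ) : ℂ) := by
      rw [← Representation.char_one ρS, hchar, hchar, map_one]
      exact hcent z hz
    exact (Cfsg.Agent.S0139.result ρS z).mp h1
  let σ : Representation ℂ (H ⧸ Subgroup.center H) (Fin d → ℂ) :=
    QuotientGroup.lift (Subgroup.center H) ρS hK
  have hσ : σ.IsIrreducible := quotient_irreducible ρS _ hK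
  have hσirr : Cfsg.IsIrrCharacter (H ⧸ Subgroup.center H) σ.character := ⟨d, σ, hσ, rfl⟩
  have hσchar : ∀ s : H, σ.character (QuotientGroup.mk s : H ⧸ Subgroup.center H) =
      θ ((e s : ↥N) : G) := by
    intro s
    rw [← hchar]
    rfl
  -- the degree is the `p`-part of `|N|`
  obtain ⟨a, ha⟩ : ∃ a : ℕ, Nat.card (P : Subgroup N) = p ^ a :=
    ⟨_, Sylow.card_eq_multiplicity P⟩
  have ha' : a = (Nat.card N).factorization p := by
    have h1 := Sylow.card_eq_multiplicity P
    rw [ha] at h1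
    exact Nat.pow_right_injective hp.two_le h1
  have h1Q : σ.character 1 = ((p ^ a : ℕ) : ℂ) := by
    have := hσchar 1
    rw [map_one] at this
    rw [← ha, ← hdeg]
    exact this
  haveI : Fintype (H ⧸ Subgroup.center H) := Fintype.ofFinite _
  have hdegQ : Cfsg.charDegree σ.character = p ^ a := by
    unfold Cfsg.charDegree
    rw [h1Q, Complex.natCast_re, Nat.floor_natCast]
  have hcardHN : Nat.card H = Nat.card N := Nat.card_congr e.toEquiv
  have hdivQ : p ^ (Nat.card (H ⧸ Subgroup.center H)).factorization p ∣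
      Cfsg.charDegree σ.character := by
    rw [hdegQ, ha']
    apply pow_dvd_pow
    have h1 : Nat.card (H ⧸ Subgroup.center H) ∣ Nat.card N := by
      rw [← hcardHN]
      exact Subgroup.card_quotient_dvd_card _
    exact (Nat.factorization_le_iff_dvd Nat.card_pos.ne' Nat.card_pos.ne').mpr h1 p
  have hvanQ : ∀ x : H ⧸ Subgroup.center H, p ∣ orderOf x → σ.character x = 0 := fun x hx =>
    Cfsg.Agent.Lib.Helper24.fz_vanish
      (⟨σ.character, hσirr⟩ : Cfsg.IrrCharacter (H ⧸ Subgroup.center H)) p hp hdivQ x hx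
  refine ⟨σ.character, hσirr, ?_⟩
  intro Q
  have hQvan : ∀ x : H ⧸ Subgroup.center H, x ∈ Q → x ≠ 1 → σ.character x = 0 := by
    intro x hxQ hx1
    apply hvanQ
    have hx1' : (⟨x, hxQ⟩ : (Q : Subgroup (H ⧸ Subgroup.center H))) ≠ 1 := by
      intro h
      exact hx1 (congrArg Subtype.val h)
    exact dvd_orderOf_of_mem_pgroup p (Q : Subgroup _) Q.isPGroup' ⟨x, hxQ⟩ hx1'
  refine ⟨?_, hQvan⟩
  have : Fintype (Q : Subgroup (H ⧸ Subgroup.center H)) := Fintype.ofFinite _
  obtain ⟨k, hk⟩ := sum_subgroup_irr (Q : Subgroup (H ⧸ Subgroup.center H))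
    (⟨σ.character, hσirr⟩ : Cfsg.IrrCharacter (H ⧸ Subgroup.center H))
  have hsumQ : ∑ x : (Q : Subgroup (H ⧸ Subgroup.center H)),
      σ.character (x : H ⧸ Subgroup.center H) = σ.character 1 := by
    rw [Finset.sum_eq_single (1 : (Q : Subgroup (H ⧸ Subgroup.center H)))]
    · rfl
    · intro x _ hx
      apply hQvan _ x.2
      intro h
      exact hx (Subtype.ext h)
    · intro h
      exact absurd (Finset.mem_univ _) h
  have hdvd1 : Nat.card (Q : Subgroup (H ⧸ Subgroup.center H)) ∣ p ^ a := by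
    have h3 : ((p ^ a : ℕ) : ℂ) =
        ((Nat.card (Q : Subgroup (H ⧸ Subgroup.center H)) * k : ℕ) : ℂ) := by
      rw [← h1Q, ← hsumQ]
      push_cast
      exact hk
    have h4 : p ^ a = Nat.card (Q : Subgroup (H ⧸ Subgroup.center H)) * k := by
      exact_mod_cast h3
    exact ⟨k, h4⟩
  have hdvd2 : p ^ a ∣ Nat.card (Q : Subgroup (H ⧸ Subgroup.center H)) := by
    obtain ⟨n', _, hn1, hn2⟩ := Cfsg.Agent.Lib.helper2.irr_degree_dvd_card
      (⟨σ.character, hσirr⟩ : Cfsg.IrrCharacter (H ⧸ Subgroup.center H))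
    have hn' : n' = p ^ a := by
      have : ((n' : ℕ) : ℂ) = ((p ^ a : ℕ) : ℂ) := by
        rw [← hn1]
        exact h1Q
      exact_mod_cast this
    rw [hn'] at hn2
    rw [Sylow.card_eq_multiplicity]
    apply pow_dvd_pow
    exact (hp.pow_dvd_iff_le_factorization Nat.card_pos.ne').mp hn2
  rw [h1Q]
  congr 1
  exact Nat.dvd_antisymm hdvd2 hdvd1

end Cfsg.Agent.Lib.Helper18.StDS
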