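import Mathlib
import Cfsg.Agent.Lib.Helper18.SDM.Defs2
import Cfsg.Agent.Lib.Helper10.SDMR2bcd

/-!
# Project SDM, ROW R2a (`root_conj_pos_A`), written by helper18 on helper10's `SDMR2bcd` tools
(`sdmr2_conj`, `sdmr2_inv_xv`, `sdmr2_sgX_congr`) and row R0c (`sgX_long_mem_BQ_iff`).
-/

set_option autoImplicit false
set_option linter.unusedSectionVars false
set_option linter.unusedVariables false

namespace Cfsg.Agent.Lib.Helper18.QBN

open Cfsg.Agent.Lib.helper14.UBN QuadraticMap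

universe u v

variable {F : Type u} [Field F] {W : Type v} [AddCommGroup W] [Module F W] {n : ℕ}

/-- [ROW R2a] positive position: `g⁻¹ U_k g ⊆ B`, node of type `A` -/
theorem root_conj_pos_A (hn : Even n) (Q₀ : QuadraticForm F W) (k : Fin (n / 2))
    (hk : pc k ≠ rv (pa k)) (g : GQ n Q₀) (π : Equiv.Perm (Fin n)) (hπ : RvC π) (hg : IsPermOf g π)
    (hpos : rk (π.symm (pa k)) < rk (π.symm (pc k))) (u : GQ n Q₀) (hu : u ∈ Uk hn Q₀ k) :
    g⁻¹ * u * g ∈ BQ n Q₀ := by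
  obtain ⟨y, hy, rfl⟩ := hu
  obtain ⟨t, rfl⟩ := hy.1 hk
  obtain ⟨c, hy', hc0, hconj⟩ :=
    sdmr2_conj hn Q₀ hπ hg (pa k) (t • xv W (rv (pc k))) (Yk_perp hn k hy)
  rw [hconj]
  obtain ⟨d, hd0, _, hd⟩ := sdmr2_inv_xv hg (rv (pc k))
  have hyeq : (c • le g⁻¹ (t • xv W (rv (pc k))) : QV F n W) =
      (c * t * d⁻¹) • xv W (rv (π.symm (pc k))) := by
    rw [map_smul, hd, RvC_symm hπ, smul_smul, smul_smul]
  have h1 : ((c * t * d⁻¹) • xv W (rv (π.symm (pc k))) : QV F n W).1 (rv (π.symm (pa k))) = 0 := by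
    rw [← hyeq]
    exact hy'
  rw [sdmr2_sgX_congr hn Q₀ _ hy' h1 hyeq]
  have hne1 : π.symm (pc k) ≠ π.symm (pa k) := fun e => pa_ne_pc k (π.symm.injective e).symm
  have hne2 : π.symm (pc k) ≠ rv (π.symm (pa k)) := by
    rw [← RvC_symm hπ]
    exact fun e => hk (π.symm.injective e)
  rw [sgX_long_mem_BQ_iff hn Q₀ _ _ hne1 hne2]
  exact Or.inl hpos

end Cfsg.Agent.Lib.Helper18.QBN
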