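import Mathlib
import Cfsg.Agent.Lib.Helper18.SDM.Asm
import Cfsg.Agent.Lib.Helper18.SDMU4
import Cfsg.Agent.Lib.Helper18.StDescendSyl
import Cfsg.Agent.Lib.Helper21.SDMST1core2
import Cfsg.Agent.Lib.Helper25.SDML1
import Cfsg.Agent.Lib.helper17.SDML2
import Cfsg.Agent.Lib.Helper25.SDMC1
import Cfsg.Agent.Lib.Helper25.SDMC2
import Cfsg.Agent.Lib.helper2.SDMU2
import Cfsg.Agent.Lib.Helper22.SDMU3
import Cfsg.Agent.Lib.helper17.SDMU5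
import Cfsg.Agent.Lib.helper17.SDMU6
import Cfsg.Agent.Lib.helper6.SDMSY
import Cfsg.Agent.Lib.helper6.SDMD2
import Cfsg.Agent.Lib.Helper10.SDMD3
import Cfsg.Agent.Lib.Helper29.SDMD4
import Cfsg.Agent.Lib.helper15.SDMX1
import Cfsg.Agent.Lib.helper23.SDMX2
import Cfsg.Agent.Lib.helper15.SDMX3
import Cfsg.Agent.Lib.helper15.SDMX4
import Cfsg.Agent.Lib.Helper16.OM9

/-!
# Project SDM (designer helper18): MAIN.  The Steinberg character of `PΩ⁻_{2m+2}(q)` (S2549 for `m ≥ 1`; in fact all `m`).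
-/

set_option autoImplicit false
set_option linter.unusedVariables false

namespace Cfsg.Agent.Lib.Helper18.QBN

open Cfsg.Agent.Lib.helper14.UBN QuadraticMap
open Cfsg.Agent.Lib.helper3 Cfsg.Agent.Lib.helper14

universe u v

/-- row ST1 from helper21's core: the Steinberg character of `GO(V,Q)` -/
theorem sdmmain_steinberg {F : Type u} [Field F] {W : Type v} [AddCommGroup W] [Module F W] {n : ℕ}
    (hn : Even n) (Q₀ : QuadraticForm F W) (hQ₀ : ∀ w : W, Q₀ w = 0 → w = 0)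
    (hW : ∃ w : W, w ≠ 0) [Finite (GQ n Q₀)] (p : ℕ) [Fact p.Prime] [CharP F p] :
    ∃ θ : GQ n Q₀ → ℂ, Cfsg.IsIrrCharacter (GQ n Q₀) θ ∧
      θ 1 = (Nat.card ↥(UQ hn Q₀) : ℂ) ∧ (∀ u ∈ UQ hn Q₀, u ≠ 1 → θ u = 0) ∧
      ∀ z : GQ n Q₀, (∀ g : GQ n Q₀, g⁻¹ * z * g ∈ BQ n Q₀) → θ z = θ 1 :=
  sdmst1_core hn Q₀ (qbnPair hn Q₀ hQ₀ hW) rfl rfl rfl
    (sigmaQ_mem hn Q₀) (sigmaQ_surj hn Q₀) (nLongQ_mem_NQ hn Q₀)
    (nLongQ_h1 hn Q₀ hQ₀ hW (qbnPair hn Q₀ hQ₀ hW) rfl rfl rfl)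
    (nLongQ_h1' hn Q₀ hQ₀ hW (qbnPair hn Q₀ hQ₀ hW) rfl rfl rfl)
    (nLongQ_h2 hn Q₀ hQ₀ hW (qbnPair hn Q₀ hQ₀ hW) rfl rfl rfl)
    (fun h hh => nLongQ_conj_torus hn Q₀ h hh)
    (fun β hβ hc => mem_torus_of_nLongQ_conj hn Q₀ β hβ hc)
    (fun b hb => sdmasm_BQ_eq_Sg_mul_T hn Q₀ b hb)
    (UQ_le_BQ hn Q₀) (fun g hg => UQ_isUniQ hn Q₀ g hg)
    (fun g hgT hg1 => eq_one_of_isUniQ_of_mem_TQ hn g hgT hg1)
    (fun b u hb hu => UQ_conj_mem hn Q₀ b u hb hu)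

/-- the torus of `GO` meets the commutator subgroup in a `p'`-group -/
theorem sdm_torus_pelement {F : Type u} [Field F] [Fintype F] (p : ℕ) [Fact p.Prime] [CharP F p]
    (m : ℕ) (a b : F)
    (hab : ∀ z₁ z₂ : F, z₁ ^ 2 + a * z₁ * z₂ + b * z₂ ^ 2 = 0 → z₁ = 0 ∧ z₂ = 0)
    (hn : Even (2 * m))
    (E : (((Fin m ⊕ Fin m) ⊕ Fin 2) → F) ≃ₗ[F] QV F (2 * m) (Fin 2 → F))
    (hE : ∀ x, frQ (2 * m) (binQ a b) (E x) = Cfsg.quadFormMinus m F a b x)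
    (t : GQ (2 * m) (binQ a b)) (ht : t ∈ TQ (2 * m) (binQ a b))
    (htN : t ∈ commutator (GQ (2 * m) (binQ a b))) (k : ℕ) (htk : t ^ (p ^ k) = 1) : t = 1 := by
  by_cases hp2 : p = 2
  · subst hp2
    rcases TQ_pelement_two hn (binQ a b) (binQ_aniso a b hab) (Module.finrank_fin_fun F) t ht k htk
      with h | ⟨z, hz, h⟩
    · exact h
    · exfalso
      obtain ⟨Q, hQ1, hQ2⟩ := minus_qf m a b hab
      have hE' : ∀ x, frQ (2 * m) (binQ a b) (E x) = Q x := by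
        intro x
        rw [hE x, hQ1]
      apply reflG_not_mem_commutator Q hQ2 (frQ (2 * m) (binQ a b)) E hE' (wv F (2 * m) z) hz
      rw [← h]
      exact htN
  · exact TQ_pelement_odd hn (binQ a b) (binQ_aniso a b hab) p hp2 t ht k htk

/-- S2549 (all `m`) -/
theorem sdm_minus_all {F : Type u} [Field F] [Fintype F] (p : ℕ) [Fact p.Prime] [CharP F p]
    (m : ℕ) (a b : F)
    (hab : ∀ z₁ z₂ : F, z₁ ^ 2 + a * z₁ * z₂ + b * z₂ ^ 2 = 0 → z₁ = 0 ∧ z₂ = 0) :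
    ∃ χ : Cfsg.POmega F (Cfsg.quadFormMinus m F a b) → ℂ,
      Cfsg.IsIrrCharacter (Cfsg.POmega F (Cfsg.quadFormMinus m F a b)) χ ∧
      ∀ P : Sylow p (Cfsg.POmega F (Cfsg.quadFormMinus m F a b)), χ 1 = Nat.card P ∧
        ∀ x : Cfsg.POmega F (Cfsg.quadFormMinus m F a b), x ∈ P → x ≠ 1 → χ x = 0 := by
  classical
  have hn : Even (2 * m) := ⟨m, two_mul m⟩
  have hQ₀ := binQ_aniso a b hab
  have hnd := binQ_nd a b hab
  have hW : ∃ w : Fin 2 → F, w ≠ 0 := by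
    refine ⟨fun _ => 1, fun h => ?_⟩
    have := congrFun h 0
    exact one_ne_zero this
  obtain ⟨E, hE⟩ := minus_equiv (F := F) m a b
  obtain ⟨Φ, hΦ⟩ := xfer_iso (Cfsg.quadFormMinus m F a b) (frQ (2 * m) (binQ a b)) E hE
  have hfin : Finite (GQ (2 * m) (binQ a b)) := Finite.of_equiv _ Φ.toEquiv
  haveI : Fintype (GQ (2 * m) (binQ a b)) := Fintype.ofFinite _
  obtain ⟨θ, hirr, hθ1, hvan, hcen⟩ := sdmmain_steinberg hn (binQ a b) hQ₀ hW p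
  have hUN := UQ_le_commutator hn (binQ a b) hQ₀ hnd hW
  obtain ⟨P₀, hP₀⟩ := sylow_of_bn p (BQ (2 * m) (binQ a b)) (TQ (2 * m) (binQ a b))
    (UQ hn (binQ a b)) (commutator (GQ (2 * m) (binQ a b))) (UQ_le_BQ hn (binQ a b))
    (UQ_isPGroup hn (binQ a b) p) (sdmasm_BQ_eq_Sg_mul_T hn (binQ a b))
    (index_BQ_not_dvd hn (binQ a b) hW (qbnPair hn (binQ a b) hQ₀ hW) rfl rfl rfl p)
    (mem_BQ_of_fixed hn (binQ a b) hW (qbnPair hn (binQ a b) hQ₀ hW) rfl rfl rfl)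
    hUN
    (fun t ht htN k htk => sdm_torus_pelement p m a b hab hn E hE t ht htN k htk)
  have hdeg : θ 1 = (Nat.card (P₀ : Subgroup ↥(commutator (GQ (2 * m) (binQ a b)))) : ℂ) := by
    rw [hθ1, hP₀]
    congr 1
    exact Nat.card_congr (Subgroup.subgroupOfEquivOfLe hUN).toEquiv.symm
  have hvan' : ∀ x : ↥(commutator (GQ (2 * m) (binQ a b))), x ∈ P₀ → x ≠ 1 →
      θ (x : GQ (2 * m) (binQ a b)) = 0 := by
    intro x hx hx1
    have hx' : x ∈ (P₀ : Subgroup ↥(commutator (GQ (2 * m) (binQ a b)))) := hx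
    rw [hP₀, Subgroup.mem_subgroupOf] at hx'
    apply hvan _ hx'
    intro h
    exact hx1 (Subtype.ext h)
  refine Cfsg.Agent.Lib.Helper18.StDS.stds_descend p θ hirr (commutator (GQ (2 * m) (binQ a b)))
    P₀ hdeg hvan' (Cfsg.Agent.Lib.Helper16.OM.commEquiv Φ) ?_
  intro z hz
  apply hcen
  intro g
  apply mem_BQ_of_comm hn (binQ a b) hW (qbnPair hn (binQ a b) hQ₀ hW) rfl rfl rfl
  intro u hu
  -- `z' = e z` is central in `N`; `g u g⁻¹ ∈ N`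
  obtain ⟨z', hz'⟩ : ∃ z' : ↥(commutator (GQ (2 * m) (binQ a b))),
      z' = Cfsg.Agent.Lib.Helper16.OM.commEquiv Φ z := ⟨_, rfl⟩
  rw [← hz']
  have hz'c : ∀ y : ↥(commutator (GQ (2 * m) (binQ a b))), y * z' = z' * y := by
    intro y
    obtain ⟨y₀, rfl⟩ := (Cfsg.Agent.Lib.Helper16.OM.commEquiv Φ).surjective y
    rw [hz']
    have h1 := Subgroup.mem_center_iff.mp hz y₀
    calc (Cfsg.Agent.Lib.Helper16.OM.commEquiv Φ) y₀ * (Cfsg.Agent.Lib.Helper16.OM.commEquiv Φ) z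
        = (Cfsg.Agent.Lib.Helper16.OM.commEquiv Φ) (y₀ * z) := (map_mul _ _ _).symm
      _ = (Cfsg.Agent.Lib.Helper16.OM.commEquiv Φ) (z * y₀) := by rw [h1]
      _ = _ := map_mul _ _ _
  have hgu : g * u * g⁻¹ ∈ commutator (GQ (2 * m) (binQ a b)) :=
    (inferInstance : (commutator (GQ (2 * m) (binQ a b))).Normal).conj_mem u (hUN hu) g
  have hcomm := hz'c ⟨g * u * g⁻¹, hgu⟩
  have hcomm' : g * u * g⁻¹ * (z' : GQ (2 * m) (binQ a b)) =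
      (z' : GQ (2 * m) (binQ a b)) * (g * u * g⁻¹) := congrArg Subtype.val hcomm
  calc u * (g⁻¹ * (z' : GQ (2 * m) (binQ a b)) * g)
      = g⁻¹ * (g * u * g⁻¹ * (z' : GQ (2 * m) (binQ a b))) * g := by group
    _ = g⁻¹ * ((z' : GQ (2 * m) (binQ a b)) * (g * u * g⁻¹)) * g := by rw [hcomm']
    _ = g⁻¹ * (z' : GQ (2 * m) (binQ a b)) * g * u := by group

end Cfsg.Agent.Lib.Helper18.QBN
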