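import Mathlib
import Cfsg.Agent.Lib.Helper1.SLN.Defs
import Cfsg.Agent.Lib.Helper1.SLN.Defs2
import Cfsg.Agent.Lib.Lead.SLn
import Cfsg.Agent.Lib.Helper16.SLNM3

/-!
# Project SL7 (S2288, designer helper1), block Q: spares by helper18 (rows are helper6's).
`sl7q2_h18_top_of_T01`: a subgroup of `SL₃(F)` containing `cM` and all `emb23 (xU t)` is everything.
`sl7q2b_h18_closure_yM4`: EXACT statement of Q2b (`|F| = 4`).
-/

set_option autoImplicit false

namespace Cfsg.Agent.Lib.Helper1.SLN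

open Matrix Equiv
open Cfsg.Agent.Lib.helper17.SLP

universe u v w

section Q

variable {F : Type u} [Field F]

/-- a subgroup of `SL₃(F)` containing `cM` and the root group `T₀₁` is everything -/
theorem sl7q2_h18_top_of_T01 (K : Subgroup (Matrix.SpecialLinearGroup (Fin 3) F))
    (hc : (cM : Matrix.SpecialLinearGroup (Fin 3) F) ∈ K) (hT : ∀ t : F, emb23 (xU t) ∈ K) : K = ⊤ := by
  have step : ∀ a b : Fin 3, (∀ (h : a ≠ b) (t : F), Matrix.SpecialLinearGroup.transvection h t ∈ K) →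
      ∀ (h : a + 1 ≠ b + 1) (t : F), Matrix.SpecialLinearGroup.transvection h t ∈ K := by
    intro a b hab h t
    have hab' : a ≠ b := fun e => h (by rw [e])
    have := cM_conj a b hab' t
    rw [← this]
    exact K.mul_mem (K.mul_mem hc (hab hab' t)) (K.inv_mem hc)
  have h01 : ∀ (h : (0 : Fin 3) ≠ 1) (t : F), Matrix.SpecialLinearGroup.transvection h t ∈ K := by
    intro h t
    have := hT t
    rwa [emb23_xU] at this
  have h12 : ∀ (h : (1 : Fin 3) ≠ 2) (t : F), Matrix.SpecialLinearGroup.transvection h t ∈ K :=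
    step 0 1 h01
  have h20 : ∀ (h : (2 : Fin 3) ≠ 0) (t : F), Matrix.SpecialLinearGroup.transvection h t ∈ K :=
    step 1 2 h12
  have comm : ∀ (i j k : Fin 3) (hij : i ≠ j) (hik : i ≠ k) (hkj : k ≠ j),
      (∀ t : F, Matrix.SpecialLinearGroup.transvection hik t ∈ K) →
      (∀ t : F, Matrix.SpecialLinearGroup.transvection hkj t ∈ K) →
      ∀ t : F, Matrix.SpecialLinearGroup.transvection hij t ∈ K := by
    intro i j k hij hik hkj h1 h2 t
    have := Cfsg.Agent.Lib.Lead.transvection_eq_commutator hij hik hkj t (1 : F)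
    rw [mul_one] at this
    rw [this, commutatorElement_def]
    exact K.mul_mem (K.mul_mem (K.mul_mem (h1 t) (h2 1)) (K.inv_mem (h1 t))) (K.inv_mem (h2 1))
  have h02 : ∀ (h : (0 : Fin 3) ≠ 2) (t : F), Matrix.SpecialLinearGroup.transvection h t ∈ K :=
    fun h => comm 0 2 1 h (by decide) (by decide) (h01 _) (h12 _)
  have h10 : ∀ (h : (1 : Fin 3) ≠ 0) (t : F), Matrix.SpecialLinearGroup.transvection h t ∈ K :=
    fun h => comm 1 0 2 h (by decide) (by decide) (h12 _) (h20 _)
  have h21 : ∀ (h : (2 : Fin 3) ≠ 1) (t : F), Matrix.SpecialLinearGroup.transvection h t ∈ K :=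
    fun h => comm 2 1 0 h (by decide) (by decide) (h20 _) (h01 _)
  rw [eq_top_iff, ← Cfsg.Agent.Lib.Lead.SL_closure_transvections, Subgroup.closure_le]
  rintro _ ⟨i, j, h, c, rfl⟩
  fin_cases i <;> fin_cases j
  · exact absurd rfl h
  · exact h01 h c
  · exact h02 h c
  · exact h10 h c
  · exact absurd rfl h
  · exact h12 h c
  · exact h20 h c
  · exact h21 h c
  · exact absurd rfl h

/-- congruence for explicit `3 × 3` matrices -/
theorem sl7q2b_h18_mat3_ext {R : Type*} {a b c d e f g h i a' b' c' d' e' f' g' h' i' : R}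
    (h1 : a = a') (h2 : b = b') (h3 : c = c') (h4 : d = d') (h5 : e = e') (h6 : f = f')
    (h7 : g = g') (h8 : h = h') (h9 : i = i') :
    (!![a, b, c; d, e, f; g, h, i] : Matrix (Fin 3) (Fin 3) R) = !![a', b', c'; d', e', f'; g', h', i'] := by
  subst h1 h2 h3 h4 h5 h6 h7 h8 h9
  rfl

/-- the word identity of Q2b at the matrix level: `z * z = z + 1`, `2 = 0`. -/
theorem sl7q2b_h18_word (z : F) (hz : z * z = z + 1) (h2 : (2 : F) = 0) :
    (!![z, 1, 0; 0, 1, 0; 0, 0, z + 1] : Matrix (Fin 3) (Fin 3) F) * !![z + 1, z + 1, 0; 0, 1, 0; 0, 0, z] = 1 ∧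
    (!![1, 1, 0; 0, 1, 0; 0, 0, 1] : Matrix (Fin 3) (Fin 3) F) * !![z, 0, 0; 0, 1, 0; 0, 0, z + 1] =
      !![z, 1, 0; 0, 1, 0; 0, 0, z + 1] ∧
    (!![0, 0, 1; 1, 0, 0; 0, 1, 0] : Matrix (Fin 3) (Fin 3) F) * !![z, 1, 0; 0, 1, 0; 0, 0, z + 1] *
        !![0, 0, 1; 1, 0, 0; 0, 1, 0] * !![z + 1, z + 1, 0; 0, 1, 0; 0, 0, z] *
      ((!![0, 0, 1; 1, 0, 0; 0, 1, 0] : Matrix (Fin 3) (Fin 3) F) * !![z, 1, 0; 0, 1, 0; 0, 0, z + 1] *
        !![0, 0, 1; 1, 0, 0; 0, 1, 0] * !![z + 1, z + 1, 0; 0, 1, 0; 0, 0, z]) *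
      ((!![0, 0, 1; 1, 0, 0; 0, 1, 0] : Matrix (Fin 3) (Fin 3) F) * !![z, 1, 0; 0, 1, 0; 0, 0, z + 1] *
        !![0, 0, 1; 1, 0, 0; 0, 1, 0] * !![z + 1, z + 1, 0; 0, 1, 0; 0, 0, z]) *
      !![0, 0, 1; 1, 0, 0; 0, 1, 0] = !![1, 1, 0; 0, 1, 0; 0, 0, 1] := by
  have h0 : (!![z, 1, 0; 0, 1, 0; 0, 0, z + 1] : Matrix (Fin 3) (Fin 3) F) * !![z + 1, z + 1, 0; 0, 1, 0; 0, 0, z] = !![1, 0, 0; 0, 1, 0; 0, 0, 1] := by
    rw [Matrix.mul_fin_three]
    apply sl7q2b_h18_mat3_ext
    · linear_combination (1 : F) * hz + ((0 : F) + (1 : F) * z) * h2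
    · linear_combination (1 : F) * hz + ((1 : F) + (1 : F) * z) * h2
    · linear_combination (0 : F) * hz + ((0 : F) + (0 : F) * z) * h2
    · linear_combination (0 : F) * hz + ((0 : F) + (0 : F) * z) * h2
    · linear_combination (0 : F) * hz + ((0 : F) + (0 : F) * z) * h2
    · linear_combination (0 : F) * hz + ((0 : F) + (0 : F) * z) * h2
    · linear_combination (0 : F) * hz + ((0 : F) + (0 : F) * z) * h2
    · linear_combination (0 : F) * hz + ((0 : F) + (0 : F) * z) * h2
    · linear_combination (1 : F) * hz + ((0 : F) + (1 : F) * z) * h2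
  have h1 : (!![0, 0, 1; 1, 0, 0; 0, 1, 0] : Matrix (Fin 3) (Fin 3) F) * !![z, 1, 0; 0, 1, 0; 0, 0, z + 1] = !![0, 0, z + 1; z, 1, 0; 0, 1, 0] := by
    rw [Matrix.mul_fin_three]
    apply sl7q2b_h18_mat3_ext
    · linear_combination (0 : F) * hz + ((0 : F) + (0 : F) * z) * h2
    · linear_combination (0 : F) * hz + ((0 : F) + (0 : F) * z) * h2
    · linear_combination (0 : F) * hz + ((0 : F) + (0 : F) * z) * h2
    · linear_combination (0 : F) * hz + ((0 : F) + (0 : F) * z) * h2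
    · linear_combination (0 : F) * hz + ((0 : F) + (0 : F) * z) * h2
    · linear_combination (0 : F) * hz + ((0 : F) + (0 : F) * z) * h2
    · linear_combination (0 : F) * hz + ((0 : F) + (0 : F) * z) * h2
    · linear_combination (0 : F) * hz + ((0 : F) + (0 : F) * z) * h2
    · linear_combination (0 : F) * hz + ((0 : F) + (0 : F) * z) * h2
  have h2s : (!![0, 0, z + 1; z, 1, 0; 0, 1, 0] : Matrix (Fin 3) (Fin 3) F) * !![0, 0, 1; 1, 0, 0; 0, 1, 0] = !![0, z + 1, 0; 1, 0, z; 1, 0, 0] := by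
    rw [Matrix.mul_fin_three]
    apply sl7q2b_h18_mat3_ext
    · linear_combination (0 : F) * hz + ((0 : F) + (0 : F) * z) * h2
    · linear_combination (0 : F) * hz + ((0 : F) + (0 : F) * z) * h2
    · linear_combination (0 : F) * hz + ((0 : F) + (0 : F) * z) * h2
    · linear_combination (0 : F) * hz + ((0 : F) + (0 : F) * z) * h2
    · linear_combination (0 : F) * hz + ((0 : F) + (0 : F) * z) * h2
    · linear_combination (0 : F) * hz + ((0 : F) + (0 : F) * z) * h2
    · linear_combination (0 : F) * hz + ((0 : F) + (0 : F) * z) * h2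
    · linear_combination (0 : F) * hz + ((0 : F) + (0 : F) * z) * h2
    · linear_combination (0 : F) * hz + ((0 : F) + (0 : F) * z) * h2
  have h3 : (!![0, z + 1, 0; 1, 0, z; 1, 0, 0] : Matrix (Fin 3) (Fin 3) F) * !![z + 1, z + 1, 0; 0, 1, 0; 0, 0, z] = !![0, z + 1, 0; z + 1, z + 1, z + 1; z + 1, z + 1, 0] := by
    rw [Matrix.mul_fin_three]
    apply sl7q2b_h18_mat3_ext
    · linear_combination (0 : F) * hz + ((0 : F) + (0 : F) * z) * h2
    · linear_combination (0 : F) * hz + ((0 : F) + (0 : F) * z) * h2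
    · linear_combination (0 : F) * hz + ((0 : F) + (0 : F) * z) * h2
    · linear_combination (0 : F) * hz + ((0 : F) + (0 : F) * z) * h2
    · linear_combination (0 : F) * hz + ((0 : F) + (0 : F) * z) * h2
    · linear_combination (1 : F) * hz + ((0 : F) + (0 : F) * z) * h2
    · linear_combination (0 : F) * hz + ((0 : F) + (0 : F) * z) * h2
    · linear_combination (0 : F) * hz + ((0 : F) + (0 : F) * z) * h2
    · linear_combination (0 : F) * hz + ((0 : F) + (0 : F) * z) * h2
  have h4 : (!![0, z + 1, 0; z + 1, z + 1, z + 1; z + 1, z + 1, 0] : Matrix (Fin 3) (Fin 3) F) * !![0, z + 1, 0; z + 1, z + 1, z + 1; z + 1, z + 1, 0] = !![z, z, z; 0, z, z; z, 0, z] := by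
    rw [Matrix.mul_fin_three]
    apply sl7q2b_h18_mat3_ext
    · linear_combination (1 : F) * hz + ((1 : F) + (1 : F) * z) * h2
    · linear_combination (1 : F) * hz + ((1 : F) + (1 : F) * z) * h2
    · linear_combination (1 : F) * hz + ((1 : F) + (1 : F) * z) * h2
    · linear_combination (2 : F) * hz + ((2 : F) + (3 : F) * z) * h2
    · linear_combination (3 : F) * hz + ((3 : F) + (4 : F) * z) * h2
    · linear_combination (1 : F) * hz + ((1 : F) + (1 : F) * z) * h2
    · linear_combination (1 : F) * hz + ((1 : F) + (1 : F) * z) * h2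
    · linear_combination (2 : F) * hz + ((2 : F) + (3 : F) * z) * h2
    · linear_combination (1 : F) * hz + ((1 : F) + (1 : F) * z) * h2
  have h5 : (!![z, z, z; 0, z, z; z, 0, z] : Matrix (Fin 3) (Fin 3) F) * !![0, z + 1, 0; z + 1, z + 1, z + 1; z + 1, z + 1, 0] = !![0, 1, 1; 0, 0, 1; 1, 0, 0] := by
    rw [Matrix.mul_fin_three]
    apply sl7q2b_h18_mat3_ext
    · linear_combination (2 : F) * hz + ((1 : F) + (2 : F) * z) * h2
    · linear_combination (3 : F) * hz + ((1 : F) + (3 : F) * z) * h2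
    · linear_combination (1 : F) * hz + ((0 : F) + (1 : F) * z) * h2
    · linear_combination (2 : F) * hz + ((1 : F) + (2 : F) * z) * h2
    · linear_combination (2 : F) * hz + ((1 : F) + (2 : F) * z) * h2
    · linear_combination (1 : F) * hz + ((0 : F) + (1 : F) * z) * h2
    · linear_combination (1 : F) * hz + ((0 : F) + (1 : F) * z) * h2
    · linear_combination (2 : F) * hz + ((1 : F) + (2 : F) * z) * h2
    · linear_combination (0 : F) * hz + ((0 : F) + (0 : F) * z) * h2
  have h6 : (!![0, 1, 1; 0, 0, 1; 1, 0, 0] : Matrix (Fin 3) (Fin 3) F) * !![0, 0, 1; 1, 0, 0; 0, 1, 0] = !![1, 1, 0; 0, 1, 0; 0, 0, 1] := by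
    rw [Matrix.mul_fin_three]
    apply sl7q2b_h18_mat3_ext
    · linear_combination (0 : F) * hz + ((0 : F) + (0 : F) * z) * h2
    · linear_combination (0 : F) * hz + ((0 : F) + (0 : F) * z) * h2
    · linear_combination (0 : F) * hz + ((0 : F) + (0 : F) * z) * h2
    · linear_combination (0 : F) * hz + ((0 : F) + (0 : F) * z) * h2
    · linear_combination (0 : F) * hz + ((0 : F) + (0 : F) * z) * h2
    · linear_combination (0 : F) * hz + ((0 : F) + (0 : F) * z) * h2
    · linear_combination (0 : F) * hz + ((0 : F) + (0 : F) * z) * h2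
    · linear_combination (0 : F) * hz + ((0 : F) + (0 : F) * z) * h2
    · linear_combination (0 : F) * hz + ((0 : F) + (0 : F) * z) * h2
  have hxd : (!![1, 1, 0; 0, 1, 0; 0, 0, 1] : Matrix (Fin 3) (Fin 3) F) * !![z, 0, 0; 0, 1, 0; 0, 0, z + 1] = !![z, 1, 0; 0, 1, 0; 0, 0, z + 1] := by
    rw [Matrix.mul_fin_three]
    apply sl7q2b_h18_mat3_ext
    · linear_combination (0 : F) * hz + ((0 : F) + (0 : F) * z) * h2
    · linear_combination (0 : F) * hz + ((0 : F) + (0 : F) * z) * h2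
    · linear_combination (0 : F) * hz + ((0 : F) + (0 : F) * z) * h2
    · linear_combination (0 : F) * hz + ((0 : F) + (0 : F) * z) * h2
    · linear_combination (0 : F) * hz + ((0 : F) + (0 : F) * z) * h2
    · linear_combination (0 : F) * hz + ((0 : F) + (0 : F) * z) * h2
    · linear_combination (0 : F) * hz + ((0 : F) + (0 : F) * z) * h2
    · linear_combination (0 : F) * hz + ((0 : F) + (0 : F) * z) * h2
    · linear_combination (0 : F) * hz + ((0 : F) + (0 : F) * z) * h2
  refine ⟨?_, hxd, ?_⟩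
  · rw [h0, Matrix.one_fin_three]
  · rw [h1, h2s, h3, h4, h5, h6]

theorem sl7q2b_h18_coe_emb_xU (t : F) :
    ((emb23 (xU t) : Matrix.SpecialLinearGroup (Fin 3) F) : Matrix (Fin 3) (Fin 3) F) =
      !![1, t, 0; 0, 1, 0; 0, 0, 1] := by
  rw [emb23_xU]
  ext i j
  fin_cases i <;> fin_cases j <;>
    simp [Matrix.SpecialLinearGroup.transvection, Matrix.transvection, Matrix.single_apply]

/-- `dM s` conjugates `T₀₁ t` to `T₀₁ (s t)` -/
theorem sl7q2b_h18_dM_conj (s : Fˣ) (t : F) :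
    dM s * emb23 (xU t) * (dM s)⁻¹ = emb23 (xU ((s : F) * t)) := by
  rw [mul_inv_eq_iff_eq_mul]
  apply Subtype.ext
  rw [Matrix.SpecialLinearGroup.coe_mul, Matrix.SpecialLinearGroup.coe_mul, sl7q2b_h18_coe_emb_xU,
    sl7q2b_h18_coe_emb_xU, dM_coe, Matrix.mul_fin_three, Matrix.mul_fin_three]
  apply sl7q2b_h18_mat3_ext <;> ring

theorem sl7q2b_h18_dM_pow_conj (s : Fˣ) (t : F) (n : ℕ) :
    dM s ^ n * emb23 (xU t) * (dM s ^ n)⁻¹ = emb23 (xU ((s : F) ^ n * t)) := by
  induction n with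
  | zero => simp
  | succ n ih =>
    have : dM s ^ (n + 1) * emb23 (xU t) * (dM s ^ (n + 1))⁻¹ =
        dM s * (dM s ^ n * emb23 (xU t) * (dM s ^ n)⁻¹) * (dM s)⁻¹ := by
      rw [pow_succ']
      group
    rw [this, ih, sl7q2b_h18_dM_conj, pow_succ', mul_assoc]

/-- in `SL_n`, a right inverse at the matrix level is the inverse -/
theorem sl7q2b_h18_coe_inv {n : Type*} [Fintype n] [DecidableEq n] (g : Matrix.SpecialLinearGroup n F)
    (N : Matrix n n F) (h : (g : Matrix n n F) * N = 1) :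
    ((g⁻¹ : Matrix.SpecialLinearGroup n F) : Matrix n n F) = N := by
  calc ((g⁻¹ : Matrix.SpecialLinearGroup n F) : Matrix n n F)
      = ((g⁻¹ : Matrix.SpecialLinearGroup n F) : Matrix n n F) * ((g : Matrix n n F) * N) := by
        rw [h, mul_one]
    _ = ((g⁻¹ * g : Matrix.SpecialLinearGroup n F) : Matrix n n F) * N := by
        rw [Matrix.SpecialLinearGroup.coe_mul, mul_assoc]
    _ = N := by rw [inv_mul_cancel, Matrix.SpecialLinearGroup.coe_one, one_mul]

/-- spare for Q2b (EXACT statement of `closure_yM4`) -/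
theorem sl7q2b_h18_closure_yM4 [Fintype F] (hF : Fintype.card F = 4) (ζ : Fˣ)
    (hζ : ∀ y : Fˣ, y ∈ Subgroup.zpowers ζ) :
    Subgroup.closure ({emb23 (xU (1 : F)) * dM ζ, cM} : Set (Matrix.SpecialLinearGroup (Fin 3) F)) = ⊤ := by
  classical
  -- arithmetic of the field with four elements
  have h2 : (2 : F) = 0 := by
    have h4 : ((4 : ℕ) : F) = 0 := by
      rw [← hF]
      exact FiniteField.cast_card_eq_zero F
    have : (2 : F) * 2 = 0 := by
      push_cast at h4
      linear_combination h4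
    exact mul_self_eq_zero.mp this
  have hcu : Fintype.card Fˣ = 3 := by rw [Fintype.card_units, hF]
  have hζ3 : ζ ^ 3 = 1 := by
    rw [← hcu]
    exact pow_card_eq_one
  have hζ1 : ζ ≠ 1 := by
    intro h1
    have : Fintype.card Fˣ ≤ 1 := by
      rw [Fintype.card_le_one_iff]
      intro a b
      have ha := hζ a
      have hb := hζ b
      rw [h1, Subgroup.zpowers_one_eq_bot, Subgroup.mem_bot] at ha hb
      rw [ha, hb]
    omega
  set z : F := (ζ : F) with hzdef
  have hz3 : z ^ 3 = 1 := by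
    have := congrArg Units.val hζ3
    rwa [Units.val_pow_eq_pow_val, Units.val_one] at this
  have hz1 : z - 1 ≠ 0 := by
    intro h
    apply hζ1
    apply Units.ext
    rw [Units.val_one]
    exact sub_eq_zero.mp h
  have hz : z * z = z + 1 := by
    have h0 : (z - 1) * (z * z + z + 1) = 0 := by linear_combination hz3
    have h1 : z * z + z + 1 = 0 := (mul_eq_zero.mp h0).resolve_left hz1
    linear_combination h1 - (z + 1) * h2
  have hinv : ((ζ⁻¹ : Fˣ) : F) = z + 1 := by
    apply Units.inv_eq_of_mul_eq_one_right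
    show z * (z + 1) = 1
    linear_combination hz + z * h2
  obtain ⟨hw0, hwxd, hword⟩ := sl7q2b_h18_word z hz h2
  -- the group elements
  set y : Matrix.SpecialLinearGroup (Fin 3) F := emb23 (xU (1 : F)) * dM ζ with hy
  have hyc : (y : Matrix (Fin 3) (Fin 3) F) = !![z, 1, 0; 0, 1, 0; 0, 0, z + 1] := by
    rw [hy, Matrix.SpecialLinearGroup.coe_mul, sl7q2b_h18_coe_emb_xU, dM_coe, hinv]
    exact hwxd
  have hyic : ((y⁻¹ : Matrix.SpecialLinearGroup (Fin 3) F) : Matrix (Fin 3) (Fin 3) F) =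
      !![z + 1, z + 1, 0; 0, 1, 0; 0, 0, z] := by
    apply sl7q2b_h18_coe_inv
    rw [hyc]
    exact hw0
  have hgrp : (cM * y * cM * y⁻¹) * (cM * y * cM * y⁻¹) * (cM * y * cM * y⁻¹) * cM =
      emb23 (xU (1 : F)) := by
    apply Subtype.ext
    simp only [Matrix.SpecialLinearGroup.coe_mul, hyc, hyic, cM_coe, sl7q2b_h18_coe_emb_xU]
    exact hword
  set K : Subgroup (Matrix.SpecialLinearGroup (Fin 3) F) := Subgroup.closure {y, cM} with hK
  have hyK : y ∈ K := Subgroup.subset_closure (Set.mem_insert _ _)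
  have hcK : (cM : Matrix.SpecialLinearGroup (Fin 3) F) ∈ K :=
    Subgroup.subset_closure (Set.mem_insert_of_mem _ rfl)
  have hxK : emb23 (xU (1 : F)) ∈ K := by
    rw [← hgrp]
    have hw : cM * y * cM * y⁻¹ ∈ K :=
      K.mul_mem (K.mul_mem (K.mul_mem hcK hyK) hcK) (K.inv_mem hyK)
    exact K.mul_mem (K.mul_mem (K.mul_mem hw hw) hw) hcK
  have hdK : dM ζ ∈ K := by
    have : dM ζ = (emb23 (xU (1 : F)))⁻¹ * y := by rw [hy]; group
    rw [this]
    exact K.mul_mem (K.inv_mem hxK) hyK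
  apply sl7q2_h18_top_of_T01 K hcK
  intro t
  by_cases ht : t = 0
  · have : emb23 (xU (0 : F)) = 1 := by
      apply Subtype.ext
      rw [sl7q2b_h18_coe_emb_xU, Matrix.SpecialLinearGroup.coe_one, Matrix.one_fin_three]
    rw [ht, this]
    exact K.one_mem
  · have hu := hζ (Units.mk0 t ht)
    rw [← mem_powers_iff_mem_zpowers] at hu
    obtain ⟨n, hn⟩ := hu
    have ht' : t = z ^ n * 1 := by
      have := congrArg Units.val hn
      rw [Units.val_pow_eq_pow_val, Units.val_mk0] at this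
      rw [mul_one, ← this]
    rw [ht', ← sl7q2b_h18_dM_pow_conj]
    exact K.mul_mem (K.mul_mem (K.pow_mem hdK n) hxK) (K.inv_mem (K.pow_mem hdK n))

end Q

end Cfsg.Agent.Lib.Helper1.SLN
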