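import Mathlib

/-!
# SPD (S5961) row FACT: `t !` divides the number of families with a permutation-invariant property
all of whose members are injective families (free action of `Perm (Fin t)` by `D ↦ D ∘ σ⁻¹`).
-/

set_option autoImplicit false

namespace Cfsg.Agent.Lib.Helper19.SPD

variable {F : Type*} [Field F] {d : ℕ}

/-- a free action: the order of the group divides the number of points -/
theorem spdfact_card_free {G X : Type*} [Group G] [MulAction G X]
    (hfree : ∀ x : X, MulAction.stabilizer G x = ⊥) : Nat.card G ∣ Nat.card X := by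
  let e : X ≃ (MulAction.orbitRel.Quotient G X) × G :=
    (MulAction.selfEquivSigmaOrbitsQuotientStabilizer G X).trans
      ((Equiv.sigmaCongrRight fun ω =>
        ((Subgroup.quotientEquivOfEq (hfree _)).trans
          QuotientGroup.quotientBot.toEquiv)).trans (Equiv.sigmaEquivProd _ _))
  rw [Nat.card_congr e, Nat.card_prod]
  exact Dvd.intro_left _ rfl

/-- FACT [M]: `t !` divides the number of families with a permutation-invariant property all of whose members are injective families
(`Equiv.Perm (Fin t)` acts freely by `D ↦ D ∘ σ`; copy `Cfsg.Agent.Lib.Helper24.el_fact_dvd`, Helper24/ElZ*.lean). -/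
theorem fact_dvd {t : ℕ} (P : (Fin t → Submodule F (Fin d ⊕ Fin d → F)) → Prop)
    (hperm : ∀ (D : Fin t → Submodule F (Fin d ⊕ Fin d → F)) (σ : Equiv.Perm (Fin t)), P D → P (D ∘ σ))
    (hinj : ∀ D, P D → Function.Injective D) [Finite {D // P D}] :
    t.factorial ∣ Nat.card {D // P D} := by
  classical
  let _ : MulAction (Equiv.Perm (Fin t)) {D : Fin t → Submodule F (Fin d ⊕ Fin d → F) // P D} :=
    { smul := fun σ D => ⟨D.1 ∘ σ.symm, hperm D.1 σ.symm D.2⟩
      one_smul := fun D => Subtype.ext rfl
      mul_smul := fun σ τ D => Subtype.ext rfl }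
  have hfree : ∀ D : {D : Fin t → Submodule F (Fin d ⊕ Fin d → F) // P D},
      MulAction.stabilizer (Equiv.Perm (Fin t)) D = ⊥ := by
    intro D
    rw [eq_bot_iff]
    intro σ hσ
    rw [MulAction.mem_stabilizer_iff] at hσ
    rw [Subgroup.mem_bot]
    have h1 : D.1 ∘ σ.symm = D.1 := congrArg Subtype.val hσ
    have hinj' : Function.Injective D.1 := hinj D.1 D.2
    ext j
    have h2 : σ.symm (σ j) = σ j := hinj' (congrFun h1 (σ j))
    rw [Equiv.symm_apply_apply] at h2
    rw [← h2]
    rfl
  have := spdfact_card_free hfree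
  rwa [Nat.card_eq_fintype_card, Fintype.card_perm, Fintype.card_fin] at this

end Cfsg.Agent.Lib.Helper19.SPD
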