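import Mathlib
import Cfsg.Prelude.Def_LieTypeChar
import Cfsg.Agent.Lib.helper14.SQD.Defs
import Cfsg.Agent.Lib.helper14.SQD.DefsU
import Cfsg.Agent.Lib.Helper24.SQD.DefsO
import Cfsg.Agent.Lib.Helper18.SQDOM7core
import Cfsg.Agent.Lib.Helper28.SQDOMcore
import Cfsg.Agent.Lib.Helper20.SQDOA1
import Cfsg.Agent.Lib.Helper21.SQDOA5
import Cfsg.Agent.Lib.Helper13.SQDOM2

/-!
Project SQD = S4625 (designer helper14), SkelO row OM7 (helper18): `omGrp_good`, VERBATIM; `sqdom7_core` fed with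
helper28's cores of OM5 / OM6 (`sqdom5_core`, `sqdom6_core`) on the landed OA1, OA5, OM2.
-/

set_option autoImplicit false

namespace Cfsg.Agent.Lib.helper14.SQD

open Cfsg Cfsg.Lie Matrix

universe u v

section OM
variable {k : ℕ} {F : Type u} [Field F] (a b : F)

/-- OM7 [M-H]. -/
theorem omGrp_good [Fintype F] [CharP F 2] :
    IsPGroup 2 ↥(omGrp (k := k) a b) ∧
      Fintype.card F ^ (2 * k) * Fintype.card F ^ (k * (k - 1) / 2) * Fintype.card F ^ (k * (k - 1) / 2) ≤
        Nat.card ↥(omGrp (k := k) a b) ∧ SqD (omGrp (k := k) a b) :=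
  sqdom7_core a b (sqdom5_core a b (fun S hS y => alt_quad_zero S hS y) (card_alt_ge k))
    (fun w hw => sqdom6_core a b (omC_props a b) w hw)

end OM

end Cfsg.Agent.Lib.helper14.SQD
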