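import Mathlib
import Cfsg.Prelude.Def_LieTypeChar
import Cfsg.Prelude.Def_ChevStructure
import Cfsg.Prelude.Def_ChevF4
import Cfsg.Prelude.Def_LieTwisted
import Cfsg.Agent.Lib.helper8.ChevTF35
import Cfsg.Agent.Lib.helper8.ChevTwU2
import Cfsg.Agent.Lib.helper14.SQD.Defs
import Cfsg.Agent.Lib.helper14.SQD.DefsTF
import Cfsg.Agent.Lib.Helper22.SQDTF3

/-!
Project SQD = S4625 (designer helper14), SkelTF rows TF4a TF4b TF6a TF6b TF6c as a SECOND writer (helper18): the exact
skeleton statements under own names `sqdtf6_h18_*` (on the landed TF3 `nWU_conj_char2`).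
-/

set_option autoImplicit false

namespace Cfsg.Agent.Lib.helper14.SQD

open Cfsg Cfsg.Lie Cfsg.Lie.ChevalleyDatum Cfsg.Agent.Lib.helper8

universe u v

section TF
variable {K : Type u} [Field K] [CharP K 2] {hB : H8Base.{u} chevF4}

/-- own copy of TF4a (`conj_pair`) -/
theorem sqdtf6_h18_conj_pair (R : H8TF K hB) (w : List ℕ)
    (hw : ∀ i ∈ w, i < chevF4.rank) (t : K) :
    (h8nWU chevF4 hB w : GL chevF4.Idx K) * h8tfPair R 33 24 t * (h8nWU chevF4 hB w : GL chevF4.Idx K)⁻¹ =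
      h8xU chevF4 hB (h8sW chevF4 w 33) (R.f t) * h8xU chevF4 hB (h8sW chevF4 w 24) t := by
  rw [← nWU_conj_char2 hB w hw 33 (by decide), ← nWU_conj_char2 hB w hw 24 (by decide)]
  unfold h8tfPair
  group

/-- own copy of TF4b (`conj_cls`) -/
theorem sqdtf6_h18_conj_cls (R : H8TF K hB) (w : List ℕ)
    (hw : ∀ i ∈ w, i < chevF4.rank) (t v : K) :
    (h8nWU chevF4 hB w : GL chevF4.Idx K) * h8tfCls R 27 25 28 30 t v * (h8nWU chevF4 hB w : GL chevF4.Idx K)⁻¹ =
      h8xU chevF4 hB (h8sW chevF4 w 27) (R.f t) * h8xU chevF4 hB (h8sW chevF4 w 25) t *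
        h8xU chevF4 hB (h8sW chevF4 w 28) (R.f t * t + v) * h8xU chevF4 hB (h8sW chevF4 w 30) ((R.f v) ^ 2) := by
  rw [← nWU_conj_char2 hB w hw 27 (by decide), ← nWU_conj_char2 hB w hw 25 (by decide),
    ← nWU_conj_char2 hB w hw 28 (by decide), ← nWU_conj_char2 hB w hw 30 (by decide)]
  unfold h8tfCls
  group

omit [CharP K 2] in
/-- a root element of a root `r ≠ k` not below `k` lies in the closure of `h8WkSet` -/
theorem sqdtf6_h18_mem_Wk (k r : ℕ) (hr : chevF4.IsPosRoot r) (hne : r ≠ k) (hle : posiF4 k ≤ posiF4 r) (t : K) :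
    h8xU chevF4 hB r t ∈ Subgroup.closure (h8WkSet chevF4 K posiF4 k) :=
  Subgroup.subset_closure ⟨r, t, hr, hne, hle, h8xU_val chevF4 hB r t⟩

/-- the normal form of a conjugated pair element -/
theorem sqdtf6_h18_pair_form (R : H8TF K hB) (w : List ℕ) (hw : ∀ i ∈ w, i < chevF4.rank) (a b : ℕ)
    (ha : h8sW chevF4 w 33 = a) (hb : h8sW chevF4 w 24 = b)
    (hpa : chevF4.IsPosRoot a) (hpb : chevF4.IsPosRoot b) (hne : b ≠ a) (hle : posiF4 a ≤ posiF4 b) (t : K) :
    (h8nWU chevF4 hB w : GL chevF4.Idx K) * h8tfPair R 33 24 t * (h8nWU chevF4 hB w : GL chevF4.Idx K)⁻¹ ∈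
        h8Ub chevF4 K posiF4 (posiF4 a) ∧
      ∃ y ∈ Subgroup.closure (h8WkSet chevF4 K posiF4 a),
        (h8nWU chevF4 hB w : GL chevF4.Idx K) * h8tfPair R 33 24 t * (h8nWU chevF4 hB w : GL chevF4.Idx K)⁻¹ =
          h8xU chevF4 hB a (R.f t) * y := by
  rw [sqdtf6_h18_conj_pair R w hw t, ha, hb]
  refine ⟨Subgroup.mul_mem _ (h8xU_mem_Ub chevF4 hB posiF4 _ a hpa le_rfl _)
    (h8xU_mem_Ub chevF4 hB posiF4 _ b hpb hle _), _, sqdtf6_h18_mem_Wk a b hpb hne hle t, rfl⟩

/-- the normal form of a conjugated class element `cls(t, 0)` -/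
theorem sqdtf6_h18_cls_form (R : H8TF K hB) (w : List ℕ) (hw : ∀ i ∈ w, i < chevF4.rank) (a b c d : ℕ)
    (ha : h8sW chevF4 w 27 = a) (hb : h8sW chevF4 w 25 = b) (hc : h8sW chevF4 w 28 = c)
    (hd : h8sW chevF4 w 30 = d)
    (hpa : chevF4.IsPosRoot a) (hpb : chevF4.IsPosRoot b) (hpc : chevF4.IsPosRoot c) (hpd : chevF4.IsPosRoot d)
    (hnb : b ≠ a) (hnc : c ≠ a) (hnd : d ≠ a)
    (hlb : posiF4 a ≤ posiF4 b) (hlc : posiF4 a ≤ posiF4 c) (hld : posiF4 a ≤ posiF4 d) (t : K) :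
    (h8nWU chevF4 hB w : GL chevF4.Idx K) * h8tfCls R 27 25 28 30 t 0 * (h8nWU chevF4 hB w : GL chevF4.Idx K)⁻¹ ∈
        h8Ub chevF4 K posiF4 (posiF4 a) ∧
      ∃ y ∈ Subgroup.closure (h8WkSet chevF4 K posiF4 a),
        (h8nWU chevF4 hB w : GL chevF4.Idx K) * h8tfCls R 27 25 28 30 t 0 *
          (h8nWU chevF4 hB w : GL chevF4.Idx K)⁻¹ = h8xU chevF4 hB a (R.f t) * y := by
  rw [sqdtf6_h18_conj_cls R w hw t 0, ha, hb, hc, hd]
  refine ⟨Subgroup.mul_mem _ (Subgroup.mul_mem _ (Subgroup.mul_mem _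
    (h8xU_mem_Ub chevF4 hB posiF4 _ a hpa le_rfl _) (h8xU_mem_Ub chevF4 hB posiF4 _ b hpb hlb _))
    (h8xU_mem_Ub chevF4 hB posiF4 _ c hpc hlc _)) (h8xU_mem_Ub chevF4 hB posiF4 _ d hpd hld _),
    h8xU chevF4 hB b t * h8xU chevF4 hB c (R.f t * t + 0) * h8xU chevF4 hB d ((R.f 0) ^ 2), ?_, ?_⟩
  · exact Subgroup.mul_mem _ (Subgroup.mul_mem _ (sqdtf6_h18_mem_Wk a b hpb hnb hlb _)
      (sqdtf6_h18_mem_Wk a c hpc hnc hlc _)) (sqdtf6_h18_mem_Wk a d hpd hnd hld _)
  · simp only [mul_assoc]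

/-- the normal form of a conjugated central class element `cls(0, t)` -/
theorem sqdtf6_h18_cen_form (R : H8TF K hB) (w : List ℕ) (hw : ∀ i ∈ w, i < chevF4.rank) (c d : ℕ)
    (hc : h8sW chevF4 w 28 = c) (hd : h8sW chevF4 w 30 = d)
    (hpc : chevF4.IsPosRoot c) (hpd : chevF4.IsPosRoot d) (hnd : d ≠ c) (hld : posiF4 c ≤ posiF4 d) (t : K) :
    (h8nWU chevF4 hB w : GL chevF4.Idx K) * h8tfCls R 27 25 28 30 0 t * (h8nWU chevF4 hB w : GL chevF4.Idx K)⁻¹ ∈
        h8Ub chevF4 K posiF4 (posiF4 c) ∧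
      ∃ y ∈ Subgroup.closure (h8WkSet chevF4 K posiF4 c),
        (h8nWU chevF4 hB w : GL chevF4.Idx K) * h8tfCls R 27 25 28 30 0 t *
          (h8nWU chevF4 hB w : GL chevF4.Idx K)⁻¹ = h8xU chevF4 hB c t * y := by
  rw [sqdtf6_h18_conj_cls R w hw 0 t, hc, hd, map_zero, h8xU_zero', h8xU_zero', one_mul, one_mul, zero_mul,
    zero_add]
  refine ⟨Subgroup.mul_mem _ (h8xU_mem_Ub chevF4 hB posiF4 _ c hpc le_rfl _)
    (h8xU_mem_Ub chevF4 hB posiF4 _ d hpd hld _), _, sqdtf6_h18_mem_Wk c d hpd hnd hld _, rfl⟩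

end TF

section TF6
variable {K : Type u} [Field K] [CharP K 2] {hB : H8Base.{u} chevF4}

theorem sqdtf6_h18_wd_lt : ∀ k < 8, ∀ i ∈ tfWd k, i < chevF4.rank := by decide

/-- exact statement of TF6a (`tfForm_pair`) -/
theorem sqdtf6_h18_tfForm_pair (R : H8TF K hB) : ∀ j < 4, TfForm R j := by
  intro j hj t
  interval_cases j
  · exact sqdtf6_h18_pair_form R (tfWd 0) (sqdtf6_h18_wd_lt 0 (by decide)) 33 24 (by decide +kernel)
      (by decide +kernel) (by decide) (by decide) (by decide) (by decide) t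
  · exact sqdtf6_h18_pair_form R (tfWd 1) (sqdtf6_h18_wd_lt 1 (by decide)) 37 32 (by decide +kernel)
      (by decide +kernel) (by decide) (by decide) (by decide) (by decide) t
  · exact sqdtf6_h18_pair_form R (tfWd 2) (sqdtf6_h18_wd_lt 2 (by decide)) 38 43 (by decide +kernel)
      (by decide +kernel) (by decide) (by decide) (by decide) (by decide) t
  · exact sqdtf6_h18_pair_form R (tfWd 3) (sqdtf6_h18_wd_lt 3 (by decide)) 39 45 (by decide +kernel)
      (by decide +kernel) (by decide) (by decide) (by decide) (by decide) t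

/-- exact statement of TF6b (`tfForm_cls`) -/
theorem sqdtf6_h18_tfForm_cls (R : H8TF K hB) : ∀ j, 4 ≤ j → j < 8 → TfForm R j := by
  intro j h4 h8 t
  interval_cases j
  · exact sqdtf6_h18_cls_form R (tfWd 4) (sqdtf6_h18_wd_lt 4 (by decide)) 27 25 28 30
      (by decide +kernel) (by decide +kernel) (by decide +kernel) (by decide +kernel)
      (by decide) (by decide) (by decide) (by decide) (by decide) (by decide) (by decide)
      (by decide) (by decide) (by decide) t
  · exact sqdtf6_h18_cls_form R (tfWd 5) (sqdtf6_h18_wd_lt 5 (by decide)) 34 26 36 42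
      (by decide +kernel) (by decide +kernel) (by decide +kernel) (by decide +kernel)
      (by decide) (by decide) (by decide) (by decide) (by decide) (by decide) (by decide)
      (by decide) (by decide) (by decide) t
  · exact sqdtf6_h18_cls_form R (tfWd 6) (sqdtf6_h18_wd_lt 6 (by decide)) 35 31 40 46
      (by decide +kernel) (by decide +kernel) (by decide +kernel) (by decide +kernel)
      (by decide) (by decide) (by decide) (by decide) (by decide) (by decide) (by decide)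
      (by decide) (by decide) (by decide) t
  · exact sqdtf6_h18_cls_form R (tfWd 7) (sqdtf6_h18_wd_lt 7 (by decide)) 29 41 44 47
      (by decide +kernel) (by decide +kernel) (by decide +kernel) (by decide +kernel)
      (by decide) (by decide) (by decide) (by decide) (by decide) (by decide) (by decide)
      (by decide) (by decide) (by decide) t

/-- exact statement of TF6c (`tfForm_cen`) -/
theorem sqdtf6_h18_tfForm_cen (R : H8TF K hB) : ∀ j, 8 ≤ j → j < 12 → TfForm R j := by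
  intro j h8 h12 t
  interval_cases j
  · exact sqdtf6_h18_cen_form R (tfWd 4) (sqdtf6_h18_wd_lt 4 (by decide)) 28 30
      (by decide +kernel) (by decide +kernel) (by decide) (by decide) (by decide) (by decide) t
  · exact sqdtf6_h18_cen_form R (tfWd 5) (sqdtf6_h18_wd_lt 5 (by decide)) 36 42
      (by decide +kernel) (by decide +kernel) (by decide) (by decide) (by decide) (by decide) t
  · exact sqdtf6_h18_cen_form R (tfWd 6) (sqdtf6_h18_wd_lt 6 (by decide)) 40 46
      (by decide +kernel) (by decide +kernel) (by decide) (by decide) (by decide) (by decide) t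
  · exact sqdtf6_h18_cen_form R (tfWd 7) (sqdtf6_h18_wd_lt 7 (by decide)) 44 47
      (by decide +kernel) (by decide +kernel) (by decide) (by decide) (by decide) (by decide) t

/-- exact statement of TF6 (`tfForm_all`) -/
theorem sqdtf6_h18_tfForm_all (R : H8TF K hB) : ∀ j < 12, TfForm R j := by
  intro j hj
  by_cases h4 : j < 4
  · exact sqdtf6_h18_tfForm_pair R j h4
  · by_cases h8 : j < 8
    · exact sqdtf6_h18_tfForm_cls R j (by omega) h8
    · exact sqdtf6_h18_tfForm_cen R j (by omega) hj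

end TF6

end Cfsg.Agent.Lib.helper14.SQD
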