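import Mathlib
import Cfsg.Agent.Lib.helper14.SQD.DefsU
import Cfsg.Agent.Lib.Helper18.SQDUF

/-!
Project SQD (designer helper14), row UE5: `herm_stable`.
-/

set_option autoImplicit false

namespace Cfsg.Agent.Lib.helper14.SQD

open Cfsg Cfsg.Lie Matrix

universe u v

section UE
variable {F : Type} [Field F] [Fintype F] [CharP F 2] (e : ℕ) {k : ℕ}

/-- `A^{**} = A` for `τ = frobE F e`, `card F = q ^ 2` (any shape) -/
theorem sqdue5_tadj_tadj {m n : Type*} (hF : Fintype.card F = (2 ^ e) ^ 2) (A : Matrix m n F) :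
    tadj (frobE F e) (tadj (frobE F e) A) = A := by
  ext i j
  simp only [tadj, Matrix.transpose_apply, Matrix.map_apply]
  exact frobE_frobE e hF (A i j)

/-- UE5 [E-M]. `(A S A^*)^* = A^{**} S^* A^* = A S A^*`. -/
theorem herm_stable (hF : Fintype.card F = (2 ^ e) ^ 2) (A S : Matrix (Fin k) (Fin k) F)
    (hS : S ∈ hermAdd k (frobE F e)) : A * S * tadj (frobE F e) A ∈ hermAdd k (frobE F e) := by
  have hS' : tadj (frobE F e) S = S := hS
  show tadj (frobE F e) (A * S * tadj (frobE F e) A) = A * S * tadj (frobE F e) A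
  rw [tadj_mul, tadj_mul, sqdue5_tadj_tadj e hF, hS', Matrix.mul_assoc]

end UE

end Cfsg.Agent.Lib.helper14.SQD
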