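import Mathlib
import Cfsg.Agent.Lib.helper14.SQD.DefsU
import Cfsg.Agent.Lib.Helper18.SQDUF

/-!
Project SQD (designer helper14), row UE6: `card_herm_ge` (at least `q ^ (k ^ 2)` Hermitian matrices).
-/

set_option autoImplicit false

namespace Cfsg.Agent.Lib.helper14.SQD

open Cfsg Cfsg.Lie Matrix

universe u v

/-- the strictly upper pairs -/
abbrev SqdUp (k : ℕ) := {p : Fin k × Fin k // p.1 < p.2}

/-- `2 * #{(i, j) | i < j} + k = k * k` -/
theorem sqdue6_card_up (k : ℕ) : 2 * Nat.card (SqdUp k) + k = k * k := by
  classical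
  rw [Nat.card_eq_fintype_card, Fintype.card_subtype]
  have hlow : (Finset.univ.filter fun p : Fin k × Fin k => p.2 < p.1).card =
      (Finset.univ.filter fun p : Fin k × Fin k => p.1 < p.2).card := by
    apply Finset.card_bij (fun p _ => (p.2, p.1))
    · intro p hp
      simp only [Finset.mem_filter, Finset.mem_univ, true_and] at hp ⊢
      exact hp
    · intro p _ p' _ h
      simp only [Prod.mk.injEq] at h
      exact Prod.ext h.2 h.1
    · intro p hp
      simp only [Finset.mem_filter, Finset.mem_univ, true_and] at hp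
      exact ⟨(p.2, p.1), by simp [hp], rfl⟩
  have hdiag : (Finset.univ.filter fun p : Fin k × Fin k => p.1 = p.2).card = k := by
    have : (Finset.univ.filter fun p : Fin k × Fin k => p.1 = p.2) =
        (Finset.univ : Finset (Fin k)).map ⟨fun i => (i, i), fun a b h => (Prod.mk.inj h).1⟩ := by
      ext p
      simp only [Finset.mem_filter, Finset.mem_univ, true_and, Finset.mem_map]
      constructor
      · intro h
        exact ⟨p.1, Prod.ext rfl h⟩
      · rintro ⟨i, rfl⟩
        rfl
    rw [this, Finset.card_map, Finset.card_univ, Fintype.card_fin]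
  have htot : (Finset.univ : Finset (Fin k × Fin k)).card = k * k := by
    rw [Finset.card_univ, Fintype.card_prod, Fintype.card_fin]
  have hsplit : (Finset.univ : Finset (Fin k × Fin k)) =
      ((Finset.univ.filter fun p : Fin k × Fin k => p.1 < p.2) ∪
        (Finset.univ.filter fun p : Fin k × Fin k => p.2 < p.1)) ∪
        (Finset.univ.filter fun p : Fin k × Fin k => p.1 = p.2) := by
    ext p
    simp only [Finset.mem_univ, Finset.mem_union, Finset.mem_filter, true_and, true_iff]
    rcases lt_trichotomy p.1 p.2 with h | h | h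
    · exact Or.inl (Or.inl h)
    · exact Or.inr h
    · exact Or.inl (Or.inr h)
  have hd1 : Disjoint (Finset.univ.filter fun p : Fin k × Fin k => p.1 < p.2)
      (Finset.univ.filter fun p : Fin k × Fin k => p.2 < p.1) := by
    rw [Finset.disjoint_filter]
    intro p _ h1 h2
    exact lt_asymm h1 h2
  have hd2 : Disjoint ((Finset.univ.filter fun p : Fin k × Fin k => p.1 < p.2) ∪
      (Finset.univ.filter fun p : Fin k × Fin k => p.2 < p.1))
      (Finset.univ.filter fun p : Fin k × Fin k => p.1 = p.2) := by
    rw [Finset.disjoint_union_left]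
    constructor
    · rw [Finset.disjoint_filter]
      intro p _ h1 h2
      exact (ne_of_lt h1) h2
    · rw [Finset.disjoint_filter]
      intro p _ h1 h2
      exact (ne_of_gt h1) h2
  rw [hsplit, Finset.card_union_of_disjoint hd2, Finset.card_union_of_disjoint hd1, hlow, hdiag] at htot
  omega

section UE
variable {F : Type} [Field F] [Fintype F] [CharP F 2] (e : ℕ) {k : ℕ}

/-- the Hermitian matrix with diagonal `d` (fixed by `τ`) and strictly upper part `u` -/
noncomputable def sqdue6_mat (d : Fin k → {x : F // frobE F e x = x}) (u : SqdUp k → F) : Matrix (Fin k) (Fin k) F :=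
  fun i j => if h : i < j then u ⟨(i, j), h⟩ else if h' : j < i then frobE F e (u ⟨(j, i), h'⟩) else (d i : F)

theorem sqdue6_mat_herm (hF : Fintype.card F = (2 ^ e) ^ 2) (d : Fin k → {x : F // frobE F e x = x})
    (u : SqdUp k → F) : sqdue6_mat e d u ∈ hermAdd k (frobE F e) := by
  show tadj (frobE F e) (sqdue6_mat e d u) = sqdue6_mat e d u
  ext i j
  simp only [tadj, Matrix.transpose_apply, Matrix.map_apply, sqdue6_mat]
  rcases lt_trichotomy i j with h | h | h
  · rw [dif_neg (lt_asymm h), dif_pos h, dif_pos h, frobE_frobE e hF]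
  · subst h
    rw [dif_neg (lt_irrefl _), dif_neg (lt_irrefl _)]
    exact (d i).2
  · rw [dif_pos h, dif_neg (lt_asymm h), dif_pos h]

/-- UE6 [M-H]. -/
theorem card_herm_ge (hF : Fintype.card F = (2 ^ e) ^ 2) :
    (2 ^ e) ^ (k ^ 2) ≤ Nat.card (hermAdd k (frobE F e)) := by
  classical
  let f : (Fin k → {x : F // frobE F e x = x}) × (SqdUp k → F) → hermAdd k (frobE F e) :=
    fun p => ⟨sqdue6_mat e p.1 p.2, sqdue6_mat_herm e hF p.1 p.2⟩
  have hf : Function.Injective f := by
    rintro ⟨d, u⟩ ⟨d', u'⟩ h
    have hm : sqdue6_mat e d u = sqdue6_mat e d' u' := congrArg Subtype.val h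
    have hd : d = d' := by
      funext i
      apply Subtype.ext
      have := congrFun (congrFun hm i) i
      simpa [sqdue6_mat] using this
    have hu : u = u' := by
      funext p
      obtain ⟨⟨i, j⟩, hij⟩ := p
      have := congrFun (congrFun hm i) j
      simp only [sqdue6_mat] at this
      rw [dif_pos hij, dif_pos hij] at this
      exact this
    rw [hd, hu]
  have hcard := Nat.card_le_card_of_injective f hf
  rw [Nat.card_prod, Nat.card_fun, Nat.card_fun, Nat.card_fin] at hcard
  have hK := card_fixed_ge (F := F) e hF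
  have hFc : Nat.card F = (2 ^ e) ^ 2 := by rw [Nat.card_eq_fintype_card, hF]
  have hup := sqdue6_card_up k
  calc (2 ^ e) ^ (k ^ 2) = (2 ^ e) ^ k * ((2 ^ e) ^ 2) ^ Nat.card (SqdUp k) := by
        have h1 : ((2 ^ e) ^ 2) ^ Nat.card (SqdUp k) = (2 ^ e) ^ (2 * Nat.card (SqdUp k)) :=
          (pow_mul _ 2 _).symm
        rw [h1, ← pow_add]
        congr 1
        rw [sq]
        omega
    _ ≤ Nat.card {x : F // frobE F e x = x} ^ k * Nat.card F ^ Nat.card (SqdUp k) := by
        rw [hFc]
        exact Nat.mul_le_mul_right _ (Nat.pow_le_pow_left hK k)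
    _ ≤ Nat.card (hermAdd k (frobE F e)) := hcard

end UE

end Cfsg.Agent.Lib.helper14.SQD
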