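import Mathlib
import Cfsg.Agent.Lib.Lead.STB.Defs
import Cfsg.Agent.Lib.Lead.STDB1

/-!
# Project STB (designer lead, family of S2094), row B5 (helper18), VERBATIM:
`cj_x_xs`, `cj_x_xs'`, `cj_xs_x`, `cj_xs_x'`: conjugation forms of `ls` and of its mirror image under `S.sym`.
Extras: `stbb5_xs_zero`, `stbb5_xs_neg` (B1 under private-free names, so that this file does not wait for B1),
`stbb5_comm_xs_x`, `stbb5_comm_xs_xn`, `stbb5_comm_x_xn` (the pairwise commutation of `xs a`, `x a b`, `x a (ng b)`).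
-/

set_option autoImplicit false

namespace Cfsg.Agent.Lib.Lead.STB

open Cfsg.Agent.Lib.helper15.St2 Cfsg.Agent.Lib.helper3.STC Cfsg.Agent.Lib.Lead.STD

universe v w

namespace SysB

variable {K : Type*} [Field K] {ι : Type*} {G : Type*} [Group G] (S : SysB K ι G)

theorem stbb5_xs_zero (a : ι ⊕ ι) : S.xs a 0 = 1 := by
  have h := S.adds a 0 0
  rw [add_zero] at h
  exact mul_eq_left.mp h

theorem stbb5_xs_neg (a : ι ⊕ ι) (t : K) : S.xs a (-t) = (S.xs a t)⁻¹ :=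
  eq_inv_of_mul_eq_one_left (by rw [S.adds, neg_add_cancel, S.stbb5_xs_zero])

/-- `xs a` commutes with `x a b` -/
theorem stbb5_comm_xs_x {a b : ι ⊕ ι} (hab : a ≠ b) (hab' : a ≠ ng b) (s t : K) :
    S.xs a s * S.x a b t = S.x a b t * S.xs a s :=
  S.comm_ls a a b hab hab' hab.symm (ne_ng a) s t

/-- `xs a` commutes with `x a (ng b)` -/
theorem stbb5_comm_xs_xn {a b : ι ⊕ ι} (hab : a ≠ b) (hab' : a ≠ ng b) (s t : K) :
    S.xs a s * S.x a (ng b) t = S.x a (ng b) t * S.xs a s :=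
  S.comm_ls a a (ng b) hab' (by rw [ng_ng]; exact hab) hab'.symm (ne_ng a) s t

/-- `x a b` commutes with `x a (ng b)` -/
theorem stbb5_comm_x_xn {a b : ι ⊕ ι} (hab : a ≠ b) (hab' : a ≠ ng b) (s t : K) :
    S.x a b s * S.x a (ng b) t = S.x a (ng b) t * S.x a b s := by
  have h1 : S.x a (ng b) t = S.x b (ng a) (-t) := by
    have := S.sym a (ng b) hab' (by rw [ng_ng]; exact hab) t
    rw [ng_ng] at this
    exact this
  rw [h1]
  exact S.sso a b hab hab' s (-t)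

/-- B5 [S-M]  conjugation forms of `ls` and its mirror image under `S.sym` (`x a b t = x (ng b) (ng a) (-t)`).  `xs a`, `x a (ng b)`, `x a b` commute pairwise (`comm_ls`, `S.sso`). -/
theorem cj_x_xs {a b : ι ⊕ ι} (hab : a ≠ b) (hab' : a ≠ ng b) (t u : K) :
    cj (S.x a b t) (S.xs b u) = S.xs a (t * u) * S.x a (ng b) (t * u ^ 2) * S.xs b u := by
  rw [← S.ls a b hab hab' t u]
  unfold cj
  group

theorem cj_x_xs' {a b : ι ⊕ ι} (hab : a ≠ b) (hab' : a ≠ ng b) (t u : K) :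
    cj (S.x a b t) (S.xs (ng a) u) = S.xs (ng b) (-(t * u)) * S.x (ng b) a (-(t * u ^ 2)) * S.xs (ng a) u := by
  rw [S.sym a b hab hab' t]
  have h := S.cj_x_xs (SysD.stdb1_ng_ne hab) (SysD.stdb1_ng_ne' hab') (-t) u
  rw [ng_ng] at h
  rw [h]
  have e1 : -t * u = -(t * u) := by ring
  have e2 : -t * u ^ 2 = -(t * u ^ 2) := by ring
  rw [e1, e2]

theorem cj_xs_x {a b : ι ⊕ ι} (hab : a ≠ b) (hab' : a ≠ ng b) (t u : K) :
    cj (S.xs b u) (S.x a b t) = S.x a b t * S.xs a (-(t * u)) * S.x a (ng b) (-(t * u ^ 2)) := by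
  have h := S.ls a b hab hab' t u
  rw [S.stbb5_xs_neg, S.toSysD.x_neg]
  have c1 := S.stbb5_comm_xs_x hab hab' (t * u) t
  have c2 := S.stbb5_comm_xs_xn hab hab' (t * u) (t * u ^ 2)
  have c3 := S.stbb5_comm_x_xn hab hab' t (t * u ^ 2)
  generalize S.xs a (t * u) = A at *
  generalize S.x a (ng b) (t * u ^ 2) = B at *
  generalize S.x a b t = X at *
  generalize S.xs b u = Y at *
  -- X Y X⁻¹ Y⁻¹ = A B ;  Y X Y⁻¹ = B⁻¹ A⁻¹ X
  have e1 : cj Y X = B⁻¹ * A⁻¹ * X := by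
    have : B⁻¹ * A⁻¹ = (X * Y * X⁻¹ * Y⁻¹)⁻¹ := by rw [h]; group
    rw [this]
    unfold cj
    group
  rw [e1]
  -- commute
  have c1' : A⁻¹ * X = X * A⁻¹ := by
    calc A⁻¹ * X = A⁻¹ * (X * A) * A⁻¹ := by group
      _ = A⁻¹ * (A * X) * A⁻¹ := by rw [c1]
      _ = X * A⁻¹ := by group
  have c3' : B⁻¹ * X = X * B⁻¹ := by
    calc B⁻¹ * X = B⁻¹ * (X * B) * B⁻¹ := by group
      _ = B⁻¹ * (B * X) * B⁻¹ := by rw [c3]
      _ = X * B⁻¹ := by group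
  have c2' : B⁻¹ * A⁻¹ = A⁻¹ * B⁻¹ := by
    calc B⁻¹ * A⁻¹ = (A * B)⁻¹ := by group
      _ = (B * A)⁻¹ := by rw [c2]
      _ = A⁻¹ * B⁻¹ := by group
  calc B⁻¹ * A⁻¹ * X = B⁻¹ * (A⁻¹ * X) := by group
    _ = B⁻¹ * (X * A⁻¹) := by rw [c1']
    _ = (B⁻¹ * X) * A⁻¹ := by group
    _ = X * B⁻¹ * A⁻¹ := by rw [c3']
    _ = X * (B⁻¹ * A⁻¹) := by group
    _ = X * (A⁻¹ * B⁻¹) := by rw [c2']
    _ = X * A⁻¹ * B⁻¹ := by group

theorem cj_xs_x' {a b : ι ⊕ ι} (hab : a ≠ b) (hab' : a ≠ ng b) (t u : K) :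
    cj (S.xs (ng a) u) (S.x a b t) = S.x a b t * S.xs (ng b) (t * u) * S.x (ng b) a (t * u ^ 2) := by
  rw [S.sym a b hab hab' t]
  have h := S.cj_xs_x (SysD.stdb1_ng_ne hab) (SysD.stdb1_ng_ne' hab') (-t) u
  rw [ng_ng] at h
  rw [h]
  have e1 : -(-t * u) = t * u := by ring
  have e2 : -(-t * u ^ 2) = t * u ^ 2 := by ring
  rw [e1, e2]

end SysB

end Cfsg.Agent.Lib.Lead.STB
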