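import Mathlib
import Cfsg.Agent.Lib.Lead.STB.Defs
import Cfsg.Agent.Lib.Helper16.STDW13

/-!
# Project STB (designer lead, family of S2094), row W10 (helper18), VERBATIM:
`IsMon.congr`, `IsMon.mul`, `IsMon.inv` for the type `B` predicate `SysB.IsMon g σ d d0`
(the `toSysD.IsMon` component is STD W13, `Helper16.STDW13`).
-/

set_option autoImplicit false

namespace Cfsg.Agent.Lib.Lead.STB

open Cfsg.Agent.Lib.helper15.St2 Cfsg.Agent.Lib.helper3.STC Cfsg.Agent.Lib.Lead.STD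

universe v w

namespace SysB

variable {K : Type*} [Field K] {ι : Type*} {G : Type*} [Group G] (S : SysB K ι G)

variable [DecidableEq ι]

/-- W10 [S-M]  formal properties of `IsMon` (model STD W13, `Helper16.STDW13`, whose rows give the `toSysD.IsMon` component). -/
theorem IsMon.congr {g : G} {σ σ' : Equiv.Perm (ι ⊕ ι)} {d d' : ι ⊕ ι → K} {d0 d0' : K} (h : S.IsMon g σ d d0)
    (hσ : σ = σ') (hd : ∀ k, d k = d' k) (hd0 : d0 = d0') : S.IsMon g σ' d' d0' := by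
  have : d = d' := funext hd
  subst hσ this hd0
  exact h

theorem IsMon.mul {g g' : G} {σ σ' : Equiv.Perm (ι ⊕ ι)} {d d' : ι ⊕ ι → K} {d0 d0' : K} (h : S.IsMon g σ d d0)
    (h' : S.IsMon g' σ' d' d0') : S.IsMon (g * g') (σ * σ') (fun k => d (σ' k) * d' k) (d0 * d0') := by
  obtain ⟨h1, h2, h3, h4, h5⟩ := h
  obtain ⟨h1', h2', h3', h4', h5'⟩ := h'
  refine ⟨SysD.IsMon.mul S.toSysD h1 h1', fun k => ?_, fun k => ?_, ?_, fun k t => ?_⟩
  · simp only [Equiv.Perm.mul_apply]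
    rw [h2', h2]
  · show d (σ' k) * d' k * (d (σ' (ng k)) * d' (ng k)) = 1
    rw [h2']
    have e1 := h3 (σ' k)
    have e2 := h3' k
    calc d (σ' k) * d' k * (d (ng (σ' k)) * d' (ng k))
        = (d (σ' k) * d (ng (σ' k))) * (d' k * d' (ng k)) := by ring
      _ = 1 := by rw [e1, e2, one_mul]
  · calc d0 * d0' * (d0 * d0') = (d0 * d0) * (d0' * d0') := by ring
      _ = 1 := by rw [h4, h4', one_mul]
  · rw [← cj_cj, h5' k t, h5 (σ' k)]
    simp only [Equiv.Perm.mul_apply]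
    congr 1
    ring

theorem IsMon.inv {g : G} {σ : Equiv.Perm (ι ⊕ ι)} {d : ι ⊕ ι → K} {d0 : K} (h : S.IsMon g σ d d0) :
    S.IsMon g⁻¹ σ⁻¹ (fun k => (d (σ⁻¹ k))⁻¹) d0 := by
  obtain ⟨h1, h2, h3, h4, h5⟩ := h
  have hs : ∀ k, σ⁻¹ (ng k) = ng (σ⁻¹ k) := by
    intro k
    apply σ.injective
    rw [h2]
    have e1 : σ (σ⁻¹ (ng k)) = ng k := σ.apply_symm_apply (ng k)
    have e2 : σ (σ⁻¹ k) = k := σ.apply_symm_apply k
    rw [e1, e2]
  refine ⟨SysD.IsMon.inv S.toSysD h1, hs, fun k => ?_, h4, fun k t => ?_⟩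
  · show (d (σ⁻¹ k))⁻¹ * (d (σ⁻¹ (ng k)))⁻¹ = 1
    rw [hs, ← mul_inv, h3, inv_one]
  · apply cj_inv_of
    rw [h5]
    have e2 : σ (σ⁻¹ k) = k := σ.apply_symm_apply k
    rw [e2]
    congr 1
    have hne : d (σ⁻¹ k) ≠ 0 := h1.1 _
    calc d (σ⁻¹ k) * d0 * ((d (σ⁻¹ k))⁻¹ * d0 * t)
        = (d (σ⁻¹ k) * (d (σ⁻¹ k))⁻¹) * (d0 * d0) * t := by ring
      _ = t := by rw [mul_inv_cancel₀ hne, h4, one_mul, one_mul]

end SysB

end Cfsg.Agent.Lib.Lead.STB
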