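import Mathlib
import Cfsg.Agent.Lib.helper15.St2
import Cfsg.Agent.Lib.helper7.StA
import Cfsg.Agent.Lib.helper7.StC
import Cfsg.Agent.Lib.helper7.StE
import Cfsg.Agent.Lib.Helper24.STCI1
import Cfsg.Agent.Lib.helper23.STCX2
import Cfsg.Agent.Lib.Helper27.STU.Defs
import Cfsg.Agent.Lib.Helper27.STU.Defs2
import Cfsg.Agent.Lib.Helper27.STU.Defs3
import Cfsg.Agent.Lib.Helper27.STU.Sub
import Cfsg.Agent.Lib.Helper24.STUB1
import Cfsg.Agent.Lib.helper4.STUN7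
import Cfsg.Agent.Lib.Helper16.STUR1
import Cfsg.Agent.Lib.Helper18.STUR4
import Cfsg.Agent.Lib.Helper18.STUR6

/-!
# Project STU (S2291, designer helper27), rows J1 (`Yg_fix_phi_eq_one`, as `stuj2_Yg_fix_phi_eq_one`) and J2 (`SysU.Rep.Y_fix_eq_one`)
(helper18), VERBATIM vs `Helper27/STU/Skel4.lean.txt`.  On `helper4.STUN7` (N7), `Helper16.STUR1` (R2), `Helper24.STUB1`, `Helper18.STUR4/R6`.
-/

set_option autoImplicit false

namespace Cfsg.Agent.Lib.Helper27.STU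

open Cfsg.Agent.Lib.helper15.St2 Cfsg.Agent.Lib.helper7.St Cfsg.Agent.Lib.helper3.STC

universe u v w w₀

namespace SysU

namespace Rep

variable {F : Type*} [Field F] [StarRing F] {od : Prop} {ι : Type*} {G : Type*} [Group G] {S : SysU F od ι G}
  {V : Type*} [AddCommGroup V] [Module F V] (R : S.Rep V)

variable (o : ι ⊕ ι)

/-- the statement of J1 `Yg_fix_phi_eq_one` -/
theorem stuj2_Yg_fix_phi_eq_one {y : G} (hy : y ∈ S.Yg o) (h : R.φ y (R.fr o) = R.fr o) : R.φ y = 1 :=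
  R.eq_one_of_Yshape h (Yg_col R o y hy)

/-- J2 [M-L] -/
theorem Y_fix_eq_one {o' : ι ⊕ ι} (ho' : o' ≠ o) (ho'' : o' ≠ ng o)
    (IHo' : ∀ x ∈ S.Lg o', R.φ x = 1 → x = 1) {y : G} (hy : y ∈ S.Yg o)
    (h : R.φ y (R.fr o) = R.fr o) : y = 1 := by
  obtain ⟨u, u', y'', hy'', rfl⟩ := S.Yg_decomp2 o ho' ho'' y hy
  have hno : ng o' ≠ o := fun e => ho'' (ng_eq_iff.1 e)
  have hno' : ng o' ≠ ng o := fun e => ho' (ng_inj.1 e)
  have hoo' : o ≠ ng o' := fun e => hno e.symm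
  have hyY : y'' ∈ S.Yg o := S.Yjj_le_Yg o o' hy''
  -- `y''` fixes `fr o'` and `fr (ng o')`
  have hf1 : R.φ y'' (R.fr o') = R.fr o' := by
    refine XQ_colStab R (Q := fun a b => b = o ∧ (a ≠ o' ∧ a ≠ ng o')) ?_ y'' hy''
    rintro a b - ⟨rfl, -, ha2⟩
    exact ⟨ho'.symm, fun e => ha2 (ng_eq_iff.1 e)⟩
  have hf2 : R.φ y'' (R.fr (ng o')) = R.fr (ng o') := by
    refine XQ_colStab R (Q := fun a b => b = o ∧ (a ≠ o' ∧ a ≠ ng o')) ?_ y'' hy''
    rintro a b - ⟨rfl, ha1, -⟩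
    exact ⟨hoo', fun e => ha1 (ng_inj.1 e)⟩
  -- the coordinates of `v₀ = R.φ y'' (fr o)`
  have hp : R.B (R.φ y'' (R.fr o)) (R.fr (ng o)) = 1 := Yg_apply R o hyY
  have hr : R.B (R.φ y'' (R.fr o)) (R.fr (ng o')) = 0 := by
    have := R.iso y'' (R.fr o) (R.fr (ng o'))
    rw [hf2] at this
    rw [this]
    exact R.gram0 o (ng o') hno'
  have hnr : R.B (R.φ y'' (R.fr o)) (R.fr o') = 0 := by
    have := R.iso y'' (R.fr o) (R.fr o')
    rw [hf1] at this
    rw [this]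
    exact R.gram0 o o' ho''
  -- Gram relations
  have g1 : R.B (R.fr (ng o')) (R.fr (ng o)) = 0 :=
    R.gram0 (ng o') (ng o) (fun e => ho'' (by rw [ng_ng] at e; exact e.symm))
  have g2 : R.B (R.fr (ng o')) (R.fr o') = 1 := stur4_gram1' R o'
  have g3 : R.B (R.fr o') (R.fr (ng o')) = 1 := R.gram1 o'
  have g4 : R.B (R.fr (ng o')) (R.fr (ng o')) = 0 := stur4_gram0' R _
  have g5 : R.B (R.fr (ng o)) (R.fr (ng o')) = 0 :=
    R.gram0 (ng o) (ng o') (fun e => hno (by rw [ng_ng] at e; exact e))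
  have g6 : R.B (R.fr o') (R.fr o') = 0 := stur4_gram0' R _
  have g7 : R.B (R.fr (ng o)) (R.fr o') = 0 :=
    R.gram0 (ng o) o' (fun e => ho' (by rw [ng_ng] at e; exact e))
  have g8 : R.B (R.fr o) (R.fr (ng o')) = 0 := R.gram0 o (ng o') hno'
  have g9 : R.B (R.fr o) (R.fr o') = 0 := R.gram0 o o' ho''
  have e1 : R.φ (S.xs (ng o') o u') (R.φ y'' (R.fr o)) = R.φ y'' (R.fr o) + u' • R.fr (ng o') := by
    rw [R.hxs (ng o') o hno hno', hp, hr, mul_one, mul_zero, zero_smul, sub_zero]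
  have e2 : R.φ (S.xs o' o u) (R.φ y'' (R.fr o) + u' • R.fr (ng o')) =
      R.φ y'' (R.fr o) + u' • R.fr (ng o') + u • R.fr o' - (star u * u') • R.fr (ng o) := by
    rw [R.hxs o' o ho' ho'', R.B_add_left, R.B_add_left, R.B_smul_left, R.B_smul_left, hp, hnr, g1, g2, mul_zero,
      add_zero, mul_one, mul_one, zero_add]
  have h' := h
  rw [stur4_phi_mul_apply, stur4_phi_mul_apply, e1, e2] at h'
  have hu : u = 0 := by
    have h3 := congrArg (fun v => R.B v (R.fr (ng o'))) h'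
    simp only [stur4_B_sub_left, R.B_add_left, R.B_smul_left, hr, g4, g3, g5, g8, mul_zero, mul_one, add_zero,
      zero_add, sub_zero] at h3
    exact h3
  have hu' : u' = 0 := by
    have h3 := congrArg (fun v => R.B v (R.fr o')) h'
    simp only [stur4_B_sub_left, R.B_add_left, R.B_smul_left, hnr, g2, g6, g7, g9, mul_zero, mul_one, add_zero,
      zero_add, sub_zero] at h3
    exact h3
  subst hu hu'
  rw [S.xs_zero ho' ho'', S.xs_zero hno hno', one_mul, one_mul] at h ⊢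
  exact IHo' y'' (S.Yjj_le_Lg o ho' ho'' hy'') (stuj2_Yg_fix_phi_eq_one R o hyY h)

end Rep

end SysU

end Cfsg.Agent.Lib.Helper27.STU
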