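import Mathlib
import Cfsg.Agent.Lib.helper15.St2
import Cfsg.Agent.Lib.helper7.StA
import Cfsg.Agent.Lib.helper7.StC
import Cfsg.Agent.Lib.helper7.StE
import Cfsg.Agent.Lib.Helper24.STCI1
import Cfsg.Agent.Lib.helper23.STCX2
import Cfsg.Agent.Lib.Helper27.STU.Defs
import Cfsg.Agent.Lib.Helper27.STU.Defs2
import Cfsg.Agent.Lib.Helper27.STU.Defs3
import Cfsg.Agent.Lib.Helper27.STU.Sub
import Cfsg.Agent.Lib.Helper24.STUB1
import Cfsg.Agent.Lib.Helper22.STUN1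
import Cfsg.Agent.Lib.Helper18.STUR4
import Cfsg.Agent.Lib.Helper18.STUR5
import Cfsg.Agent.Lib.Helper18.STUR6

/-!
# Project STU (S2291, designer helper27), rows J4 (`not_cell`), J5 (`cell0_fix`), J6 (`A_fix_eq_one`), J7 (`Phat_ker`)
(helper18), VERBATIM vs `Helper27/STU/Skel4.lean.txt`.  On `Helper24.STUB1` (`hs_one`), `Helper22.STUN1` and `Helper18.STUR4/R5/R6`.
-/

set_option autoImplicit false

namespace Cfsg.Agent.Lib.Helper27.STU

open Cfsg.Agent.Lib.helper15.St2 Cfsg.Agent.Lib.helper7.St Cfsg.Agent.Lib.helper3.STC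

universe u v w w₀

namespace SysU

namespace Rep

variable {F : Type*} [Field F] [StarRing F] {od : Prop} {ι : Type*} {G : Type*} [Group G] {S : SysU F od ι G}
  {V : Type*} [AddCommGroup V] [Module F V] (R : S.Rep V)

variable (o : ι ⊕ ι)

/-- the coordinate `o` of `R.φ (y * p) (fr o)` is not `0` -/
theorem stuj4_coord {y p : G} (hy : y ∈ S.Yg o) (hp : p ∈ S.Phat o) :
    R.B (R.φ (y * p) (R.fr o)) (R.fr (ng o)) ≠ 0 := by
  obtain ⟨c, hc, hpc⟩ := Phat_lineStab R o p hp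
  rw [stur4_phi_mul_apply, hpc, map_smul, R.B_smul_left, Yg_apply R o hy, mul_one]
  exact hc

/-- if `φ (n * y * p) = 1` and `φ n v = fr o` then `φ (y * p) (fr o) = v` -/
theorem stuj4_eq {n y p : G} (h : R.φ (n * y * p) = 1) {v : V} (hv : R.φ n v = R.fr o) :
    R.φ (y * p) (R.fr o) = v := by
  have h1 : R.φ n (R.φ (y * p) (R.fr o)) = R.fr o := by
    rw [← stur4_phi_mul_apply, ← mul_assoc, h]
    rfl
  exact (R.φ n).injective (h1.trans hv.symm)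

/-- J4 [M] -/
theorem not_cell [DecidableEq ι] {ξ₀ : Lam F od} (hξ₀ : ξ₀.c ≠ 0) {k : ι ⊕ ι} (hk : k ≠ o) {y p : G} (hy : y ∈ S.Yg o) (hp : p ∈ S.Phat o) :
    R.φ (S.w1 ξ₀ o k * y * p) ≠ 1 := by
  intro h
  apply stuj4_coord R o hy hp
  unfold w1 at h
  by_cases hko : k = ng o
  · rw [if_pos hko] at h
    have hv : R.φ (S.wl o ξ₀) (ξ₀.c⁻¹ • R.fr (ng o)) = R.fr o := by
      rw [map_smul, phi_wl_snd R o hξ₀, smul_smul, inv_mul_cancel₀ hξ₀, one_smul]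
    rw [stuj4_eq R o h hv, R.B_smul_left, stur4_gram0', mul_zero]
  · rw [if_neg hko] at h
    have hok' : o ≠ ng k := fun e => hko (by rw [e, ng_ng])
    have hv : R.φ (S.ws o k 1) (R.fr k) = R.fr o := by
      rw [phi_ws_snd R hk.symm hok' 1 one_ne_zero, one_smul]
    rw [stuj4_eq R o h hv]
    exact R.gram0 k (ng o) (fun e => hk (ng_inj.1 e).symm)

/-- J5 [S-M] -/
theorem cell0_fix {y p : G} (hy : y ∈ S.Yg o) (hp : p ∈ S.Phat o) (h : R.φ (y * p) = 1) : R.φ y (R.fr o) = R.fr o := by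
  obtain ⟨c, hc, hpc⟩ := Phat_lineStab R o p hp
  have h2 : R.φ (y * p) (R.fr o) = R.fr o := by
    rw [h]
    rfl
  rw [stur4_phi_mul_apply, hpc, map_smul] at h2
  have h3 := congrArg (fun v => R.B v (R.fr (ng o))) h2
  simp only [R.B_smul_left, Yg_apply R o hy, R.gram1, mul_one] at h3
  rw [h3, one_smul] at h2
  exact h2

/-- J6 [M] -/
theorem A_fix_eq_one [DecidableEq ι] (hW : S.HW) {ξ₀ : Lam F od} (hξ₀ : ξ₀.c ≠ 0)
    (hYfix : ∀ y ∈ S.Yg o, R.φ y (R.fr o) = R.fr o → y = 1) {a : G} (ha : a ∈ S.Ag o)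
    (h : R.φ a (R.fr (ng o)) = R.fr (ng o)) : a = 1 := by
  obtain ⟨-, hs, hl⟩ := hW.2 o ξ₀ hξ₀
  -- `cj w` maps `Ag o` into `Yg o`
  have hcj : ∀ a ∈ S.Ag o, cj (S.wl o ξ₀) a ∈ S.Yg o := by
    intro a ha
    unfold Ag XQ at ha
    induction ha using Subgroup.closure_induction with
    | mem g hg =>
      rcases hg with ⟨a', b, t, hab, hab', rfl, rfl⟩ | ⟨a', ξ, rfl, rfl⟩
      · have hb' : b ≠ ng a' := fun e => hab' (by rw [e, ng_ng])
        rw [hs a' b hab hab' t, Equiv.swap_apply_left, Equiv.swap_apply_of_ne_of_ne hab.symm hb']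
        exact S.xs_mem_Yg' a' hab.symm hb' _
      · rw [hl a' ξ, Equiv.swap_apply_left]
        exact S.xl_mem_Yg a' _
    | one => rw [cj_one]; exact one_mem _
    | mul x y _ _ hx hy => rw [cj_mul]; exact mul_mem hx hy
    | inv x _ hx => rw [cj_inv]; exact inv_mem hx
  have hw : R.φ (S.wl o ξ₀) (ξ₀.c⁻¹ • R.fr (ng o)) = R.fr o := by
    rw [map_smul, phi_wl_snd R o hξ₀, smul_smul, inv_mul_cancel₀ hξ₀, one_smul]
  have hwi : R.φ (S.wl o ξ₀)⁻¹ (R.fr o) = ξ₀.c⁻¹ • R.fr (ng o) := stur4_phi_inv_apply R hw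
  have hfix : R.φ (cj (S.wl o ξ₀) a) (R.fr o) = R.fr o := by
    unfold cj
    rw [stur4_phi_mul_apply, stur4_phi_mul_apply, hwi, map_smul, h, hw]
  have h1 := hYfix _ (hcj a ha) hfix
  unfold cj at h1
  have : a = (S.wl o ξ₀)⁻¹ * (S.wl o ξ₀ * a * (S.wl o ξ₀)⁻¹) * S.wl o ξ₀ := by
    group
  rw [this, h1]
  group

/-- J7 [M] -/
theorem Phat_ker {b : ι ⊕ ι} (hb : b ≠ o) (hb' : b ≠ ng o) (hdec : ∀ p ∈ S.Phat o, p ∈ S.ALT o b)
    (hAfix : ∀ a ∈ S.Ag o, R.φ a (R.fr (ng o)) = R.fr (ng o) → a = 1)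
    (IHo : ∀ x ∈ S.Lg o, R.φ x = 1 → x = 1) {p : G} (hp : p ∈ S.Phat o) (h : R.φ p = 1) : p = 1 := by
  have hob' : o ≠ ng b := fun e => hb' (by rw [e, ng_ng])
  obtain ⟨a, ha, x, hx, t, ht, rfl⟩ := hdec p hp
  -- the vector `fr o`
  have h1 : R.φ (a * x * S.hs o b t) (R.fr o) = t • R.fr o := by
    rw [stur4_phi_mul_apply, stur4_phi_mul_apply, phi_hs_fst R hb.symm hob' t ht, map_smul, map_smul,
      Pg_col R o x (S.Lg_le_Pg o hx), Pg_col R o a (S.Ag_le_Pg o ha)]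
  have h1' : R.φ (a * x * S.hs o b t) (R.fr o) = R.fr o := by
    rw [h]
    rfl
  have ht1 : t = 1 := by
    rw [h1] at h1'
    have h3 := congrArg (fun v => R.B v (R.fr (ng o))) h1'
    simpa [R.B_smul_left, R.gram1] using h3
  subst ht1
  rw [S.hs_one hb.symm hob', mul_one] at h ⊢
  -- the vector `fr (ng o)`
  have h2 : R.φ a (R.fr (ng o)) = R.fr (ng o) := by
    have : R.φ (a * x) (R.fr (ng o)) = R.fr (ng o) := by
      rw [h]
      rfl
    rwa [stur4_phi_mul_apply, Lg_col' R o x hx] at this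
  have ha1 := hAfix a ha h2
  subst ha1
  rw [one_mul] at h ⊢
  exact IHo x hx h

end Rep

end SysU

end Cfsg.Agent.Lib.Helper27.STU
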