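import Mathlib
import Cfsg.Agent.Lib.helper15.St2
import Cfsg.Agent.Lib.helper7.StA
import Cfsg.Agent.Lib.helper7.StC
import Cfsg.Agent.Lib.helper7.StE
import Cfsg.Agent.Lib.Helper24.STCI1
import Cfsg.Agent.Lib.helper23.STCX2
import Cfsg.Agent.Lib.Helper27.STU.Defs
import Cfsg.Agent.Lib.Helper27.STU.Defs2
import Cfsg.Agent.Lib.Helper27.STU.Defs3
import Cfsg.Agent.Lib.Helper27.STU.Sub
import Cfsg.Agent.Lib.Helper18.STUJ4

/-!
# Project STU (S2291, designer helper27), row J8 (`SysU.Rep.ker_trivial`) (helper18), VERBATIM vs `Helper27/STU/Skel4.lean.txt`.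
On `Helper18.STUJ4` (J4 J5 J6 J7).
-/

set_option autoImplicit false

namespace Cfsg.Agent.Lib.Helper27.STU

open Cfsg.Agent.Lib.helper15.St2 Cfsg.Agent.Lib.helper7.St Cfsg.Agent.Lib.helper3.STC

universe u v w w₀

namespace SysU

namespace Rep

variable {F : Type*} [Field F] [StarRing F] {od : Prop} {ι : Type*} {G : Type*} [Group G] {S : SysU F od ι G}
  {V : Type*} [AddCommGroup V] [Module F V] (R : S.Rep V)

variable (o : ι ⊕ ι)

/-- J8 [S-M] -/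
theorem ker_trivial [DecidableEq ι] (hW : S.HW) {ξ₀ : Lam F od} (hξ₀ : ξ₀.c ≠ 0) {b : ι ⊕ ι} (hb : b ≠ o) (hb' : b ≠ ng o)
    (hInD : ∀ g, S.InD ξ₀ o g) (hdec : ∀ p ∈ S.Phat o, p ∈ S.ALT o b)
    (hYfix : ∀ y ∈ S.Yg o, R.φ y (R.fr o) = R.fr o → y = 1)
    (IHo : ∀ x ∈ S.Lg o, R.φ x = 1 → x = 1) (g : G) (hg : R.φ g = 1) : g = 1 := by
  rcases hInD g with ⟨y, hy, p, hp, rfl⟩ | ⟨k, hk, y, hy, p, hp, rfl⟩
  · have hy1 : y = 1 := hYfix y hy (cell0_fix R o hy hp hg)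
    subst hy1
    rw [one_mul] at hg ⊢
    exact Phat_ker R o hb hb' hdec (fun a ha h => A_fix_eq_one R o hW hξ₀ hYfix ha h) IHo hp hg
  · exact absurd hg (not_cell R o hξ₀ hk hy hp)

end Rep

end SysU

end Cfsg.Agent.Lib.Helper27.STU
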