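import Mathlib
import Cfsg.Agent.Lib.helper15.St2
import Cfsg.Agent.Lib.helper7.StA
import Cfsg.Agent.Lib.helper7.StC
import Cfsg.Agent.Lib.helper7.StE
import Cfsg.Agent.Lib.Helper24.STCI1
import Cfsg.Agent.Lib.helper23.STCX2
import Cfsg.Agent.Lib.Helper27.STU.Defs
import Cfsg.Agent.Lib.Helper27.STU.Defs2
import Cfsg.Agent.Lib.Helper27.STU.Defs3
import Cfsg.Agent.Lib.Helper27.STU.Sub
import Cfsg.Agent.Lib.Helper24.STUM3
import Cfsg.Agent.Lib.Helper16.STUH4
import Cfsg.Agent.Lib.Helper5.STULA5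
import Cfsg.Agent.Lib.Helper11.STUX1
import Cfsg.Agent.Lib.Helper18.STUJ2
import Cfsg.Agent.Lib.Helper18.STUJ8

/-!
# Project STU (S2291, designer helper27), rows K2 (`ker_trivial_aux`), K3 (`SysU.Rep.injective`), K4 (`SysU.bijective_of_rep`): the CORES
(helper18), on the STATEMENTS of F18 (`InD_all`), A2 (`Phat_decomp`) and Q3 (`Rep.ker_trivial_of_subsingleton`), which are not on main yet.
Everything else is cited: M4 `hW_all` (`Helper24.STUM3`), H4 `hH_all` (`Helper16.STUH4`), LA5 `Lam.exists_c_ne` (`Helper5.STULA5`), X1 `XQ_le` (`Helper11.STUX1`),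
J2 / J8 (`Helper18.STUJ2`, `Helper18.STUJ8`), `Sub.lean`, `Defs3.lean`.
-/

set_option autoImplicit false

namespace Cfsg.Agent.Lib.Helper27.STU

open Cfsg.Agent.Lib.helper15.St2 Cfsg.Agent.Lib.helper7.St Cfsg.Agent.Lib.helper3.STC

universe u v w w₀

open SysU

/-- K2 on the statements of F18, A2, Q3. -/
theorem stuk2_core {F : Type u} [Field F] [StarRing F] [Finite F] (hF : Hyp F) {od : Prop} {V : Type*} [AddCommGroup V] [Module F V]
    (hInD : ∀ (ι : Type v) [DecidableEq ι] [Finite ι] (G : Type w) [Group G] (S : SysU F od ι G) (ξ₀ : Lam F od) (o : ι ⊕ ι),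
      S.HW → S.HH → ξ₀.c ≠ 0 → S.XQ (fun _ _ => True) = ⊤ → ∀ g : G, S.InD ξ₀ o g)
    (hdec : ∀ (ι : Type v) [DecidableEq ι] (G : Type w) [Group G] (S : SysU F od ι G) (o : ι ⊕ ι),
      S.HW → S.HH → ∀ {b : ι ⊕ ι}, b ≠ o → b ≠ ng o → ∀ p ∈ S.Phat o, p ∈ S.ALT o b)
    (hQ3 : ∀ (ι : Type v) [Subsingleton ι] (G : Type w) [Group G] (S : SysU F od ι G) (R : S.Rep V) (_ : ι),
      S.XQ (fun _ _ => True) = ⊤ → ∀ g : G, R.φ g = 1 → g = 1) :
    ∀ (m : ℕ) (ι : Type v) [Finite ι] (G : Type w) [Group G] (S : SysU F od ι G) (R : S.Rep V),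
      Nat.card ι = m → S.XQ (fun _ _ => True) = ⊤ → ∀ g, R.φ g = 1 → g = 1 := by
  intro m
  induction m with
  | zero =>
    intro ι _ G _ S R hcard hgen g _
    have : IsEmpty ι := (Nat.card_eq_zero.1 hcard).resolve_right (not_infinite_iff_finite.2 ‹_›)
    have hg : g ∈ S.XQ (fun _ _ => True) := by rw [hgen]; exact Subgroup.mem_top g
    rw [S.XQ_eq_bot_of_isEmpty] at hg
    exact Subgroup.mem_bot.1 hg
  | succ m ih =>
    intro ι _ G _ S R hcard hgen g hg
    classical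
    by_cases hm : m = 0
    · have hss : Subsingleton ι := by
        rw [hm] at hcard
        exact (Nat.card_eq_one_iff_unique.1 hcard).1
      have hne : Nonempty ι := by
        rw [hm] at hcard
        exact (Nat.card_eq_one_iff_unique.1 hcard).2
      obtain ⟨i₀⟩ := hne
      exact hQ3 ι G S R i₀ hgen g hg
    · have hnt : Nontrivial ι := by
        rw [← Finite.one_lt_card_iff_nontrivial, hcard]
        omega
      obtain ⟨i₀, i₁, hi⟩ := exists_pair_ne ι
      have hsub : ∀ i : ι, ∀ x ∈ S.Lg (Sum.inl i), R.φ x = 1 → x = 1 := by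
        intro i x hx hφx
        have hc : Nat.card {j // j ≠ i} = m := by
          have := Fintype.ofFinite ι
          rw [Nat.card_eq_fintype_card] at hcard ⊢
          rw [Fintype.card_subtype_compl, Fintype.card_subtype_eq, hcard]
          rfl
        have := ih {j // j ≠ i} (S.Lg (Sum.inl i)) (S.sub i) (R.sub i) hc (S.sub_gen i) ⟨x, hx⟩ hφx
        exact congrArg Subtype.val this
      have hb : (Sum.inl i₁ : ι ⊕ ι) ≠ Sum.inl i₀ := fun e => hi (Sum.inl.inj e).symm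
      have hb' : (Sum.inl i₁ : ι ⊕ ι) ≠ ng (Sum.inl i₀) := by
        intro e
        cases e
      obtain ⟨ξ₀, hξ₀⟩ := Lam.exists_c_ne (od := od) hF
      have hW : S.HW := S.hW_all
      have hH : S.HH := S.hH_all hW
      have hYfix : ∀ y ∈ S.Yg (Sum.inl i₀), R.φ y (R.fr (Sum.inl i₀)) = R.fr (Sum.inl i₀) → y = 1 := by
        intro y hy h
        exact Rep.Y_fix_eq_one R (Sum.inl i₀) hb hb' (hsub i₁) hy h
      exact Rep.ker_trivial R (Sum.inl i₀) hW hξ₀ hb hb' (fun g => hInD ι G S ξ₀ (Sum.inl i₀) hW hH hξ₀ hgen g)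
        (hdec ι G S (Sum.inl i₀) hW hH hb hb') hYfix (hsub i₀) g hg

/-- K3 on the statement of K2. -/
theorem stuk3_core {F : Type u} [Field F] [StarRing F] {od : Prop} {ι : Type v} [Finite ι]
    {G : Type w} [Group G] {S : SysU F od ι G} {V : Type*} [AddCommGroup V] [Module F V] (R : S.Rep V)
    (hK2 : ∀ (m : ℕ) (ι : Type v) [Finite ι] (G : Type w) [Group G] (S : SysU F od ι G) (R : S.Rep V),
      Nat.card ι = m → S.XQ (fun _ _ => True) = ⊤ → ∀ g, R.φ g = 1 → g = 1)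
    (hgen : S.XQ (fun _ _ => True) = ⊤) : Function.Injective R.φ := by
  rw [injective_iff_map_eq_one]
  exact fun g hg => hK2 (Nat.card ι) ι G S R rfl hgen g hg

/-- K4 on the statement of K3 (for the pulled back representation). -/
theorem stuk4_core {F : Type u} [Field F] [StarRing F] {od : Prop} {ι : Type v} [Finite ι]
    {G₀ : Type w₀} [Group G₀] {S₀ : SysU F od ι G₀} {V : Type*} [AddCommGroup V] [Module F V] (R₀ : S₀.Rep V)
    (hgen₀ : S₀.XQ (fun _ _ => True) = ⊤) {G : Type w} [Group G] (S : SysU F od ι G) (π : G →* G₀)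
    (hK3 : ∀ (R : S.Rep V), S.XQ (fun _ _ => True) = ⊤ → Function.Injective R.φ)
    (hgen : S.XQ (fun _ _ => True) = ⊤) (hs : ∀ a b, a ≠ b → a ≠ ng b → ∀ t, π (S.xs a b t) = S₀.xs a b t)
    (hl : ∀ a ξ, π (S.xl a ξ) = S₀.xl a ξ) : Function.Bijective π := by
  constructor
  · intro g g' h
    apply hK3 (R₀.comap S π hs hl) hgen
    rw [Rep.comap_phi, Rep.comap_phi, h]
  · rw [← MonoidHom.range_eq_top, eq_top_iff, ← hgen₀]
    apply S₀.XQ_le
    · intro a b t hab hab' _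
      exact ⟨S.xs a b t, hs a b hab hab' t⟩
    · intro a ξ _
      exact ⟨S.xl a ξ, hl a ξ⟩

end Cfsg.Agent.Lib.Helper27.STU
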