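import Mathlib
import Cfsg.Agent.Lib.helper15.St2
import Cfsg.Agent.Lib.helper7.StA
import Cfsg.Agent.Lib.helper7.StC
import Cfsg.Agent.Lib.helper7.StE
import Cfsg.Agent.Lib.Helper24.STCI1
import Cfsg.Agent.Lib.helper23.STCX2
import Cfsg.Agent.Lib.Helper27.STU.Defs
import Cfsg.Agent.Lib.Helper27.STU.Defs2
import Cfsg.Agent.Lib.Helper27.STU.Defs3
import Cfsg.Agent.Lib.Helper27.STU.Sub
import Cfsg.Agent.Lib.Helper18.STUK2core
import Cfsg.Agent.Lib.Helper24.STUF9
import Cfsg.Agent.Lib.helper4.STUA2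
import Cfsg.Agent.Lib.Helper27.STUQ1

/-!
# Project STU (S2291, designer helper27), rows K2 (`ker_trivial_aux`), K3 (`SysU.Rep.injective`), K4 (`SysU.bijective_of_rep`) (helper18),
VERBATIM vs `Helper27/STU/Skel4.lean.txt`.  Wrappers of the cores in `Helper18.STUK2core` on F18 `InD_all` (`Helper24.STUF9`), A2 `Phat_decomp` (`helper4.STUA2`),
Q3 `Rep.ker_trivial_of_subsingleton` (`Helper27.STUQ1`).
-/

set_option autoImplicit false

namespace Cfsg.Agent.Lib.Helper27.STU

open Cfsg.Agent.Lib.helper15.St2 Cfsg.Agent.Lib.helper7.St Cfsg.Agent.Lib.helper3.STC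

universe u v w w₀

open SysU

/-- K2 [M]  model `ker_trivial_aux` (`STCK2`).  Induction on `m`.  `m = 0`: `XQ_eq_bot_of_isEmpty`.  `m = 1`: `Rep.ker_trivial_of_subsingleton`.  `m + 2`: choose `i₀ ≠ i₁`, `o = Sum.inl i₀`,
`o' = b = Sum.inl i₁`; `ξ₀` from LA5 `Lam.exists_c_ne hF`; `hW` M4 `hW_all`, `hH` H4 `hH_all`; `IHo`, `IHo'` from the induction hypothesis for `S.sub i₀`, `S.sub i₁` with `R.sub`
(`sub_gen`, `Rep.sub_phi`; `Nat.card {i // i ≠ i₀} = m + 1`); `hYfix` J2 `Rep.Y_fix_eq_one`; `hInD` F18 `InD_all`; `hdec` A2 `Phat_decomp`; conclude by J8 `Rep.ker_trivial`. -/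
theorem ker_trivial_aux {F : Type u} [Field F] [StarRing F] [Finite F] (hF : Hyp F) {od : Prop} {V : Type*} [AddCommGroup V] [Module F V] :
    ∀ (m : ℕ) (ι : Type v) [Finite ι] (G : Type w) [Group G] (S : SysU F od ι G) (R : S.Rep V),
      Nat.card ι = m → S.XQ (fun _ _ => True) = ⊤ → ∀ g, R.φ g = 1 → g = 1 :=
  stuk2_core hF
    (fun ι _ _ G _ S ξ₀ o hW hH hξ₀ hgen g => S.InD_all ξ₀ o hF hW hH hξ₀ hgen g)
    (fun ι _ G _ S o hW hH _ hb hb' => S.Phat_decomp o hF hW hH hb hb')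
    (fun ι _ G _ S R i₀ hgen g hg => R.ker_trivial_of_subsingleton i₀ hgen g hg)

/-- K3 [S]  **the main theorem of STU**: a representation of a generated Steinberg system of unitary type over a finite field is injective. -/
theorem SysU.Rep.injective {F : Type u} [Field F] [StarRing F] [Finite F] (hF : Hyp F) {od : Prop} {ι : Type v} [Finite ι]
    {G : Type w} [Group G] {S : SysU F od ι G} {V : Type*} [AddCommGroup V] [Module F V] (R : S.Rep V)
    (hgen : S.XQ (fun _ _ => True) = ⊤) : Function.Injective R.φ :=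
  stuk3_core R (ker_trivial_aux hF) hgen

/-- K4 [S-M]  the criterion used by the gluing blocks, frame-free: a homomorphism from a group with a generating system onto a represented generating system, matching the root elements, is
bijective.  Injective: K3 for `R₀.comap S π hs hl` (`Defs3.lean`; `Rep.comap_phi`).  Surjective: the range of `π` contains the generators of `S₀.XQ ⊤ = ⊤` (X1 `XQ_le`). -/
theorem SysU.bijective_of_rep {F : Type u} [Field F] [StarRing F] [Finite F] (hF : Hyp F) {od : Prop} {ι : Type v} [Finite ι]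
    {G₀ : Type w₀} [Group G₀] {S₀ : SysU F od ι G₀} {V : Type*} [AddCommGroup V] [Module F V] (R₀ : S₀.Rep V)
    (hgen₀ : S₀.XQ (fun _ _ => True) = ⊤) {G : Type w} [Group G] (S : SysU F od ι G) (π : G →* G₀)
    (hgen : S.XQ (fun _ _ => True) = ⊤) (hs : ∀ a b, a ≠ b → a ≠ ng b → ∀ t, π (S.xs a b t) = S₀.xs a b t)
    (hl : ∀ a ξ, π (S.xl a ξ) = S₀.xl a ξ) : Function.Bijective π :=
  stuk4_core R₀ hgen₀ S π (fun R hg => SysU.Rep.injective hF R hg) hgen hs hl

end Cfsg.Agent.Lib.Helper27.STU
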