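import Mathlib
import Cfsg.Agent.Lib.Helper19.SU5.Defs
import Cfsg.Agent.Lib.Helper19.SU5.Defs2
import Cfsg.Agent.Lib.Helper27.STU.Defs3

/-!
# Project SU5 (designer helper19), Skel2 block E, row E1 (helper18), VERBATIM: `exists_iotaLU`
the long-root embedding `SL₂(K) →* SUm F True`, `M ↦ [[ι M₀₀, 0, κ ι M₀₁], [0, 1, 0], [κ⁻¹ ι M₁₀, 0, ι M₁₁]]`.
-/

set_option autoImplicit false

namespace Cfsg.Agent.Lib.Helper19.SU5

open Cfsg.Agent.Lib.helper17.SLP Cfsg.Agent.Lib.helper3.SP4 Cfsg.Agent.Lib.Helper22.SU4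
open Cfsg.Agent.Lib.Helper27.STU (Lam XpM XmM XpS XmS SUm XpU XmU SysU)

universe u v w

section E

variable {F : Type u} {K : Type u} [Field F] [Field K]

/-- the `3 × 3` matrix of the long-root embedding -/
def su5e1_fm (ι : K →+* F) (κ : F) (M : Matrix (Fin 2) (Fin 2) K) : Matrix (Fin 3) (Fin 3) F :=
  !![ι (M 0 0), 0, κ * ι (M 0 1); 0, 1, 0; κ⁻¹ * ι (M 1 0), 0, ι (M 1 1)]

theorem su5e1_fm_mul (ι : K →+* F) (κ : F) (hκ : κ ≠ 0) (M N : Matrix (Fin 2) (Fin 2) K) :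
    su5e1_fm ι κ (M * N) = su5e1_fm ι κ M * su5e1_fm ι κ N := by
  ext i j
  fin_cases i <;> fin_cases j <;>
    simp [su5e1_fm, Matrix.mul_apply, Fin.sum_univ_three, Fin.sum_univ_two] <;> field_simp

theorem su5e1_fm_det (ι : K →+* F) (κ : F) (hκ : κ ≠ 0) (M : Matrix (Fin 2) (Fin 2) K) :
    (su5e1_fm ι κ M).det = ι M.det := by
  rw [Matrix.det_fin_three, Matrix.det_fin_two]
  simp [su5e1_fm]
  field_simp

/-- the hom `SL₂(K) →* SL₃(F)` -/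
def su5e1_fS (ι : K →+* F) (κ : F) (hκ : κ ≠ 0) :
    Matrix.SpecialLinearGroup (Fin 2) K →* Matrix.SpecialLinearGroup (Fin 3) F :=
  MonoidHom.mk' (fun M => ⟨su5e1_fm ι κ M.1, by rw [su5e1_fm_det ι κ hκ, M.2, map_one]⟩)
    (fun M N => Subtype.ext (su5e1_fm_mul ι κ hκ M.1 N.1))

/-- the lower unipotent matrix of `SL₂(K)` -/
def su5e1_yM (t : K) : Matrix.SpecialLinearGroup (Fin 2) K :=
  ⟨!![1, 0; t, 1], by simp [Matrix.det_fin_two_of]⟩

/-- the decomposition `g = x(s) y(c) x(t)` for `c ≠ 0` -/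
theorem su5e1_decomp (g : Matrix.SpecialLinearGroup (Fin 2) K) (hc : g.1 1 0 ≠ 0) :
    g = xM ((g.1 0 0 - 1) / g.1 1 0) * su5e1_yM (g.1 1 0) * xM ((g.1 1 1 - 1) / g.1 1 0) := by
  have hdet := g.2
  rw [Matrix.det_fin_two] at hdet
  apply Subtype.ext
  rw [Matrix.SpecialLinearGroup.coe_mul, Matrix.SpecialLinearGroup.coe_mul]
  show g.1 = !![1, (g.1 0 0 - 1) / g.1 1 0; 0, 1] * !![1, 0; g.1 1 0, 1] * !![1, (g.1 1 1 - 1) / g.1 1 0; 0, 1]
  ext i j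
  fin_cases i <;> fin_cases j
  · simp [Matrix.mul_apply, Fin.sum_univ_two]
    field_simp
    ring
  · simp [Matrix.mul_apply, Fin.sum_univ_two]
    field_simp
    linear_combination -hdet
  · simp [Matrix.mul_apply, Fin.sum_univ_two]
  · simp [Matrix.mul_apply, Fin.sum_univ_two]
    field_simp
    ring

end E

section E'

variable {F : Type u} {K : Type u} [Field F] [Field K] [StarRing F]

/-- the parameter `(0, κ ι u)` -/
def su5e1_lx (ι : K →+* F) (hι : ∀ y, star (ι y) = ι y) (κ : F) (hκ' : star κ = -κ) (u : K) : Lam F True :=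
  ⟨0, κ * ι u, by rw [star_mul', hι, hκ', star_zero, mul_zero, add_zero]; ring, fun _ => rfl⟩

/-- the parameter `(0, κ⁻¹ ι u)` -/
def su5e1_ly (ι : K →+* F) (hι : ∀ y, star (ι y) = ι y) (κ : F) (hκ' : star κ = -κ) (u : K) : Lam F True :=
  ⟨0, κ⁻¹ * ι u, by rw [star_mul', hι, star_inv₀, hκ', star_zero, mul_zero, add_zero, inv_neg]; ring, fun _ => rfl⟩

theorem su5e1_fS_xM (ι : K →+* F) (hι : ∀ y, star (ι y) = ι y) (κ : F) (hκ : κ ≠ 0) (hκ' : star κ = -κ) (u : K) :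
    su5e1_fS ι κ hκ (xM u) = XpS (su5e1_lx ι hι κ hκ' u) := by
  apply Subtype.ext
  show su5e1_fm ι κ !![1, u; 0, 1] = XpM (su5e1_lx ι hι κ hκ' u)
  ext i j
  fin_cases i <;> fin_cases j <;> simp [su5e1_fm, XpM, su5e1_lx]

theorem su5e1_fS_yM (ι : K →+* F) (hι : ∀ y, star (ι y) = ι y) (κ : F) (hκ : κ ≠ 0) (hκ' : star κ = -κ) (u : K) :
    su5e1_fS ι κ hκ (su5e1_yM u) = XmS (su5e1_ly ι hι κ hκ' u) := by
  apply Subtype.ext
  show su5e1_fm ι κ !![1, 0; u, 1] = XmM (su5e1_ly ι hι κ hκ' u)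
  ext i j
  fin_cases i <;> fin_cases j <;> simp [su5e1_fm, XmM, su5e1_ly]

theorem su5e1_mem (ι : K →+* F) (hι : ∀ y, star (ι y) = ι y) (κ : F) (hκ : κ ≠ 0) (hκ' : star κ = -κ)
    (g : Matrix.SpecialLinearGroup (Fin 2) K) : su5e1_fS ι κ hκ g ∈ SUm F True := by
  have hx : ∀ u, su5e1_fS ι κ hκ (xM u) ∈ SUm F True := by
    intro u
    rw [su5e1_fS_xM ι hι κ hκ hκ']
    exact Subgroup.subset_closure (Or.inl ⟨_, rfl⟩)
  have hy : ∀ u, su5e1_fS ι κ hκ (su5e1_yM u) ∈ SUm F True := by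
    intro u
    rw [su5e1_fS_yM ι hι κ hκ hκ']
    exact Subgroup.subset_closure (Or.inr ⟨_, rfl⟩)
  have hmain : ∀ g : Matrix.SpecialLinearGroup (Fin 2) K, g.1 1 0 ≠ 0 → su5e1_fS ι κ hκ g ∈ SUm F True := by
    intro g hc
    rw [su5e1_decomp g hc, map_mul, map_mul]
    exact (SUm F True).mul_mem ((SUm F True).mul_mem (hx _) (hy _)) (hx _)
  by_cases hc : g.1 1 0 = 0
  · have hdet := g.2
    rw [Matrix.det_fin_two, hc, mul_zero, sub_zero] at hdet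
    have ha : g.1 0 0 ≠ 0 := fun h => by rw [h, zero_mul] at hdet; exact zero_ne_one hdet
    have hc' : (su5e1_yM 1 * g).1 1 0 ≠ 0 := by
      rw [Matrix.SpecialLinearGroup.coe_mul]
      show (!![1, 0; (1 : K), 1] * g.1) 1 0 ≠ 0
      simp [Matrix.mul_apply, Fin.sum_univ_two, hc, ha]
    have e : g = (su5e1_yM 1)⁻¹ * (su5e1_yM 1 * g) := by group
    rw [e, map_mul, map_inv]
    exact (SUm F True).mul_mem ((SUm F True).inv_mem (hy 1)) (hmain _ hc')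
  · exact hmain g hc

/-- E1 [M-L] -/
theorem exists_iotaLU [Fintype F] [Fintype K] (D : Tw F K) (hσ : ∀ x, D.σ x = star x) (κ : F) (hκ : κ ≠ 0) (hκ' : star κ = -κ) :
    ∃ ιL : Matrix.SpecialLinearGroup (Fin 2) K →* ↥(SUm F True),
      ∀ M : Matrix.SpecialLinearGroup (Fin 2) K, Cfsg.Agent.Lib.Helper27.STU.SUm.mat (ιL M) =
        !![D.ι (M.1 0 0), 0, κ * D.ι (M.1 0 1); 0, 1, 0; κ⁻¹ * D.ι (M.1 1 0), 0, D.ι (M.1 1 1)] := by
  have hι : ∀ y, star (D.ι y) = D.ι y := by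
    intro y
    rw [← hσ]
    exact (D.fix (D.ι y)).2 ⟨y, rfl⟩
  exact ⟨(su5e1_fS D.ι κ hκ).codRestrict (SUm F True) (su5e1_mem D.ι hι κ hκ hκ'), fun M => rfl⟩

end E'

end Cfsg.Agent.Lib.Helper19.SU5
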