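import Mathlib
import Cfsg.Agent.Lib.Helper19.SU5.Defs
import Cfsg.Agent.Lib.Helper19.SU5.Defs2
import Cfsg.Agent.Lib.Helper27.STU.Defs3
import Cfsg.Agent.Lib.Helper5.STULA5
import Cfsg.Agent.Lib.helper2.STUV1

/-!
# Project SU5 (designer helper19), Skel2 block E, row E2 (helper18), VERBATIM: `exists_HUU`
the torus `Fˣ →* SUm F True`, `r ↦ diag(r, star r / r, (star r)⁻¹)`, realised as `WU η_r * (WU ξ₀)⁻¹` with `η_r.c = r κ`, `ξ₀ = (0, κ)`.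
-/

set_option autoImplicit false

namespace Cfsg.Agent.Lib.Helper19.SU5

open Cfsg.Agent.Lib.helper17.SLP Cfsg.Agent.Lib.helper3.SP4 Cfsg.Agent.Lib.Helper22.SU4
open Cfsg.Agent.Lib.Helper27.STU (Lam XpM XmM XpS XmS SUm XpU XmU SysU)

universe u v w

section E

variable {F : Type u} [Field F] [StarRing F]

/-- the matrix of the Weyl element `WU η` (`η.c ≠ 0`) -/
theorem su5e2_mat_WU (η : Lam F True) (hc : η.c ≠ 0) :
    Cfsg.Agent.Lib.Helper27.STU.SUm.mat (WU η) =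
      !![0, 0, η.c; 0, -(star η.c / η.c), 0; (star η.c)⁻¹, 0, 0] := by
  show XpM η * XmM (Lam.mu η) * XpM (Lam.nu η) = _
  exact Cfsg.Agent.Lib.Helper27.STU.SysU.WM_eq hc

/-- the matrix of `WU η * (WU ξ₀)⁻¹` for `η.c = r κ`, `ξ₀.c = κ`, `star κ = -κ` -/
theorem su5e2_mat_hu (κ : F) (hκ : κ ≠ 0) (hκ' : star κ = -κ) (ξ₀ η : Lam F True) (r : F) (hr : r ≠ 0)
    (hξ₀ : ξ₀.c = κ) (hη : η.c = r * κ) :
    Cfsg.Agent.Lib.Helper27.STU.SUm.mat (WU η * (WU ξ₀)⁻¹) =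
      !![r, 0, 0; 0, star r / r, 0; 0, 0, (star r)⁻¹] := by
  have hc0 : ξ₀.c ≠ 0 := by rw [hξ₀]; exact hκ
  have hcη : η.c ≠ 0 := by rw [hη]; exact mul_ne_zero hr hκ
  have hsr : star r ≠ 0 := fun h0 => hr (by simpa using congrArg star h0)
  have h1 : Cfsg.Agent.Lib.Helper27.STU.SUm.mat (WU η * (WU ξ₀)⁻¹) * Cfsg.Agent.Lib.Helper27.STU.SUm.mat (WU ξ₀) =
      Cfsg.Agent.Lib.Helper27.STU.SUm.mat (WU η) := by
    rw [← Cfsg.Agent.Lib.Helper27.STU.SUm.mat_mul, inv_mul_cancel_right]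
  rw [su5e2_mat_WU _ hc0, su5e2_mat_WU _ hcη, hξ₀, hη, star_mul', hκ'] at h1
  have hN : (!![0, 0, κ; 0, -(-κ / κ), 0; (-κ)⁻¹, 0, 0] : Matrix (Fin 3) (Fin 3) F) *
      !![0, 0, -κ; 0, 1, 0; κ⁻¹, 0, 0] = 1 := by
    ext i j
    fin_cases i <;> fin_cases j <;> simp [Matrix.mul_apply, Fin.sum_univ_three, hκ]
  calc Cfsg.Agent.Lib.Helper27.STU.SUm.mat (WU η * (WU ξ₀)⁻¹)
      = Cfsg.Agent.Lib.Helper27.STU.SUm.mat (WU η * (WU ξ₀)⁻¹) *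
          ((!![0, 0, κ; 0, -(-κ / κ), 0; (-κ)⁻¹, 0, 0] : Matrix (Fin 3) (Fin 3) F) *
            !![0, 0, -κ; 0, 1, 0; κ⁻¹, 0, 0]) := by rw [hN, Matrix.mul_one]
    _ = (!![0, 0, r * κ; 0, -(star r * -κ / (r * κ)), 0; (star r * -κ)⁻¹, 0, 0] : Matrix (Fin 3) (Fin 3) F) *
          !![0, 0, -κ; 0, 1, 0; κ⁻¹, 0, 0] := by rw [← Matrix.mul_assoc, h1]
    _ = !![r, 0, 0; 0, star r / r, 0; 0, 0, (star r)⁻¹] := by
      ext i j
      fin_cases i <;> fin_cases j <;> simp [Matrix.mul_apply, Fin.sum_univ_three] <;> field_simp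

end E

section E'

variable {F : Type u} {K : Type u} [Field F] [Field K] [StarRing F] [Fintype F] [Fintype K]

/-- E2 [M] -/
theorem exists_HUU (hF : Cfsg.Agent.Lib.Helper27.STU.Hyp F) (κ : F) (hκ : κ ≠ 0) (hκ' : star κ = -κ) :
    ∃ HU : Fˣ →* ↥(SUm F True), ∀ r : Fˣ, Cfsg.Agent.Lib.Helper27.STU.SUm.mat (HU r) =
      !![(r : F), 0, 0; 0, star (r : F) / (r : F), 0; 0, 0, (star (r : F))⁻¹] := by
  obtain ⟨ξ₀, hξ₀, -⟩ := Lam.exists_of_skew (od := True) κ hκ'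
  choose η hη using fun r : Fˣ => Lam.exists_of_c (od := True) hF trivial ((r : F) * κ)
  have hmat : ∀ r : Fˣ, Cfsg.Agent.Lib.Helper27.STU.SUm.mat (WU (η r) * (WU ξ₀)⁻¹) =
      !![(r : F), 0, 0; 0, star (r : F) / (r : F), 0; 0, 0, (star (r : F))⁻¹] :=
    fun r => su5e2_mat_hu κ hκ hκ' ξ₀ (η r) (r : F) r.ne_zero hξ₀ (hη r)
  refine ⟨MonoidHom.mk' (fun r => WU (η r) * (WU ξ₀)⁻¹) ?_, hmat⟩
  intro r s
  apply Cfsg.Agent.Lib.Helper27.STU.SUm.mat_injective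
  show Cfsg.Agent.Lib.Helper27.STU.SUm.mat (WU (η (r * s)) * (WU ξ₀)⁻¹) =
    Cfsg.Agent.Lib.Helper27.STU.SUm.mat ((WU (η r) * (WU ξ₀)⁻¹) * (WU (η s) * (WU ξ₀)⁻¹))
  rw [hmat (r * s), Cfsg.Agent.Lib.Helper27.STU.SUm.mat_mul, hmat r, hmat s]
  have hr : (r : F) ≠ 0 := r.ne_zero
  have hs : (s : F) ≠ 0 := s.ne_zero
  have hsr : star (r : F) ≠ 0 := fun h0 => hr (by simpa using congrArg star h0)
  have hss : star (s : F) ≠ 0 := fun h0 => hs (by simpa using congrArg star h0)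
  ext i j
  fin_cases i <;> fin_cases j <;> simp [Matrix.mul_apply, Fin.sum_univ_three, star_mul'] <;> field_simp

end E'

end Cfsg.Agent.Lib.Helper19.SU5
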