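import Mathlib
import Cfsg.Agent.Lib.helper3.SU5.Defs
import Cfsg.Agent.Lib.helper8.STULA1
import Cfsg.Agent.Lib.helper14.STULA3
import Cfsg.Agent.Lib.Helper5.STULA5
import Cfsg.Agent.Lib.Helper24.STUM0
import Cfsg.Agent.Lib.Helper27.STUQ1
import Cfsg.Agent.Lib.helper2.STUV1

/-!
# Project SU5 (S2291 odd side, designer helper3), rows G1 (`Pre.Mon.adds`, `Pre.Mon.addl`) and G2 (`Pre.Mon.cls`) (helper18), VERBATIM vs `helper3/SU5/Skel.lean.txt`.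
Own-name copies `su5g1_xs_eq`, `su5g1_xl_eq` of the two G0 statements `Mon.xs_eq`, `Mon.xl_eq`.
-/

set_option autoImplicit false

namespace Cfsg.Agent.Lib.helper3.SU5

open Cfsg.Agent.Lib.helper15.St2 Cfsg.Agent.Lib.Helper27.STU
open Cfsg.Agent.Lib.helper3.STC (ng sws)

universe u v w w₀

namespace Pre

section G

variable {F : Type u} [Field F] [StarRing F] {od : Prop} {ι : Type v} {G : Type w} [Group G] (P : Pre F od ι G)
  {g : G} {π : Equiv.Perm (ι ⊕ ι)} {d : ι ⊕ ι → F} {d0 : F}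

/-- own-name copy of G0 `Mon.xs_eq` -/
theorem su5g1_xs_eq (hg : P.Mon g π d d0) {a b : ι ⊕ ι} (hab : a ≠ b) (hab' : a ≠ ng b) (t : F) :
    P.xs (π a) (π b) t = cj g (P.xs a b ((d a * (d b)⁻¹)⁻¹ * t)) := by
  rw [hg.2.1 a b hab hab']
  have he : d a * (d b)⁻¹ ≠ 0 := mul_ne_zero (hg.1.d_ne a) (inv_ne_zero (hg.1.d_ne b))
  rw [← mul_assoc, mul_inv_cancel₀ he, one_mul]

/-- own-name copy of G0 `Mon.xl_eq` -/
theorem su5g1_xl_eq (hg : P.Mon g π d d0) (a : ι ⊕ ι) (ξ : Lam F od) :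
    P.xl (π a) ξ = cj g (P.xl a (Lam.act (d a * d0⁻¹)⁻¹ ξ)) := by
  rw [hg.2.2 a, Lam.act_act]
  have he : d a * d0⁻¹ ≠ 0 := mul_ne_zero (hg.1.d_ne a) (inv_ne_zero hg.1.d0_ne)
  rw [mul_inv_cancel₀ he, Lam.act_one]

/-- G1 [S-M]  `adds`, `addl` transport: `xs (π a) (π b) t * xs (π a) (π b) u = cj g (xs a b (e⁻¹ t) * xs a b (e⁻¹ u))` (`Mon.xs_eq`, `cj_mul`, `mul_add`); `Lam.act_mul`. -/
theorem Mon.adds (hg : P.Mon g π d d0) {a b : ι ⊕ ι} (hab : a ≠ b) (hab' : a ≠ ng b) (h : P.Adds a b) : P.Adds (π a) (π b) := by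
  intro t u
  rw [su5g1_xs_eq P hg hab hab', su5g1_xs_eq P hg hab hab', su5g1_xs_eq P hg hab hab', ← cj_mul, h, mul_add]

theorem Mon.addl (hg : P.Mon g π d d0) {a : ι ⊕ ι} (h : P.Addl a) : P.Addl (π a) := by
  intro ξ η
  rw [su5g1_xl_eq P hg, su5g1_xl_eq P hg, su5g1_xl_eq P hg, ← cj_mul, h, Lam.act_mul]

/-- G2 [S-M]  commuting pairs transport. -/
theorem Mon.cls (hg : P.Mon g π d d0) {a c e : ι ⊕ ι} (hce : c ≠ e) (hce' : c ≠ ng e) (h : P.Cls a c e) : P.Cls (π a) (π c) (π e) := by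
  intro ξ u
  rw [su5g1_xl_eq P hg, su5g1_xs_eq P hg hce hce', ← cj_mul, ← cj_mul, h]

end G

end Pre

end Cfsg.Agent.Lib.helper3.SU5
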