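import Mathlib
import Cfsg.Agent.Lib.helper3.SU5.Defs
import Cfsg.Agent.Lib.helper8.STULA1
import Cfsg.Agent.Lib.helper14.STULA3
import Cfsg.Agent.Lib.Helper5.STULA5
import Cfsg.Agent.Lib.Helper24.STUM0
import Cfsg.Agent.Lib.Helper27.STUQ1
import Cfsg.Agent.Lib.helper2.STUV1
import Cfsg.Agent.Lib.Helper24.STUM2core
import Cfsg.Agent.Lib.Helper24.STUM3core

/-!
# Project SU5 (S2291 odd side, designer helper3), row M1 (`Dat.monData_A`, `Dat.monData_B`) (helper18), VERBATIM vs `helper3/SU5/Skel.lean.txt`.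
Instances of `stum2_monData`, `stum3_monData` (helper24's `STUM2core`, `STUM3core`).
-/

set_option autoImplicit false

namespace Cfsg.Agent.Lib.helper3.SU5

open Cfsg.Agent.Lib.helper15.St2 Cfsg.Agent.Lib.Helper27.STU
open Cfsg.Agent.Lib.helper3.STC (ng sws)

universe u v w w₀

namespace Dat

variable {F : Type u} [Field F] [StarRing F] {G : Type w} [Group G] (D : Dat F G)

/-- M1 [S-M]  the data of the two Weyl elements are `MonData` (finite case analysis on `k : Fin 2 ⊕ Fin 2`; `dws`, `dwl`, `d0l` of `STU/Defs2.lean`; for `d0l`: `star (star c / c) * (star c / c) = 1`). -/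
theorem monData_A : SysU.MonData (sws (Sum.inl (0 : Fin 2)) (Sum.inl 1)) (dws (Sum.inl (0 : Fin 2)) (Sum.inl 1) (1 : F)) 1 :=
  stum2_monData (by decide) (by decide) 1 one_ne_zero

theorem monData_B (hc : D.ξ₀.c ≠ 0) :
    SysU.MonData (Equiv.swap (Sum.inl (1 : Fin 2)) (Sum.inr 1)) (dwl (Sum.inl (1 : Fin 2)) D.ξ₀) (d0l D.ξ₀) :=
  stum3_monData (Sum.inl (1 : Fin 2)) hc

end Dat

end Cfsg.Agent.Lib.helper3.SU5
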