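import Mathlib
import Cfsg.Agent.Lib.helper3.SU5.Defs
import Cfsg.Agent.Lib.helper8.STULA1
import Cfsg.Agent.Lib.helper14.STULA3
import Cfsg.Agent.Lib.Helper5.STULA5
import Cfsg.Agent.Lib.Helper24.STUM0
import Cfsg.Agent.Lib.Helper27.STUQ1
import Cfsg.Agent.Lib.helper2.STUV1

/-!
# Project SU5 (S2291 odd side, designer helper3), rows N1 (`Dat.nA_yD`) and N2 (`Dat.nB_yC`): the CORES (helper18),
on the STATEMENTS of I6 `nA_xA` and I7 `nB_xB`.  Own-name copies `su5n1_*` of the six N0 statements (proved here from the definitions and `Tab5`).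
-/

set_option autoImplicit false

namespace Cfsg.Agent.Lib.helper3.SU5

open Cfsg.Agent.Lib.helper15.St2 Cfsg.Agent.Lib.Helper27.STU
open Cfsg.Agent.Lib.helper3.STC (ng sws)

universe u v w w₀

namespace Dat

variable {F : Type u} [Field F] [StarRing F] {G : Type w} [Group G] (D : Dat F G)

theorem su5n1_star_ne {c : F} (hc : c ≠ 0) : star c ≠ 0 := fun h => hc (by simpa using congrArg star h)

/-- own-name copies of N0 -/
theorem su5n1_nB_xA (hT : Tab5 D) (t : F) : cj D.nB (D.xA t) = D.xD (star D.ξ₀.c * t) := by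
  have hs := su5n1_star_ne hT.c0
  unfold xD
  have e : star D.ξ₀.c * t / star D.ξ₀.c = t := by field_simp
  rw [e]

theorem su5n1_nB_yA (hT : Tab5 D) (t : F) : cj D.nB (D.yA t) = D.yD ((star D.ξ₀.c)⁻¹ * t) := by
  have hs := su5n1_star_ne hT.c0
  unfold yD
  rw [← mul_assoc, mul_inv_cancel₀ hs, one_mul]

theorem su5n1_nB_xD (hT : Tab5 D) (t : F) : cj D.nB (D.xD t) = D.xA (t / D.ξ₀.c) := by
  have hs := su5n1_star_ne hT.c0
  have hc := hT.c0
  unfold xD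
  rw [cj_cj, hT.b2_xA]
  congr 1
  field_simp

theorem su5n1_nB_yD (hT : Tab5 D) (t : F) : cj D.nB (D.yD t) = D.yA (D.ξ₀.c * t) := by
  have hs := su5n1_star_ne hT.c0
  have hc := hT.c0
  unfold yD
  rw [cj_cj, hT.b2_yA]
  congr 1
  field_simp

theorem su5n1_nA_xC (hT : Tab5 D) (ξ : Lam F True) : cj D.nA (D.xC ξ) = D.xB (Lam.act (-1) ξ) := by
  unfold xC
  rw [cj_cj, hT.a2_xB]

theorem su5n1_nA_yC (hT : Tab5 D) (ξ : Lam F True) : cj D.nA (D.yC ξ) = D.yB (Lam.act (-1) ξ) := by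
  unfold yC
  rw [cj_cj, hT.a2_yB]

/-- N1 on the statement of I6 `nA_xA` -/
theorem su5n1_core (hT : Tab5 D) (hAx : ∀ t : F, cj D.nA (D.xA t) = D.yA (-t)) (t : F) :
    cj D.nA (D.yD t) = D.yD (star t) := by
  have hs := su5n1_star_ne hT.c0
  have hc := hT.c0
  -- `yD t = cj nB (cj nA (xA u))`, `u = -(star c₀ * t)`
  have h1 : D.yD t = cj D.nB (cj D.nA (D.xA (-(star D.ξ₀.c * t)))) := by
    rw [hAx, neg_neg]; rfl
  have hbr : D.nA * D.nB * D.nA = D.nB * D.nA * D.nB * D.nA * D.nB⁻¹ := by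
    rw [← hT.braid]; group
  have h2 : cj D.nB⁻¹ (D.xA (-(star D.ξ₀.c * t))) = D.xD (D.ξ₀.c * (-(star D.ξ₀.c * t))) := by
    apply cj_inv_of
    rw [su5n1_nB_xD D hT]
    congr 1
    field_simp
  rw [h1, cj_cj, cj_cj, hbr, ← cj_cj, ← cj_cj, ← cj_cj, ← cj_cj, h2, hT.a_xD, su5n1_nB_xD D hT, hAx,
    su5n1_nB_yA D hT]
  congr 1
  simp only [star_mul', star_neg, star_star]
  field_simp

/-- N2 on the statement of I7 `nB_xB` -/
theorem su5n1_core2 (hT : Tab5 D)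
    (hBx : ∀ ξ : Lam F True, cj D.nB (D.xB ξ) = D.yB (Lam.act (-(D.ξ₀.c / (star D.ξ₀.c) ^ 2)) ξ))
    (ξ : Lam F True) :
    cj D.nB (D.yC ξ) = D.yC (Lam.act (-(D.ξ₀.c / star D.ξ₀.c)) ξ) := by
  have hs := su5n1_star_ne hT.c0
  have hc := hT.c0
  have he : -(D.ξ₀.c / (star D.ξ₀.c) ^ 2) ≠ 0 := neg_ne_zero.mpr (div_ne_zero hc (pow_ne_zero 2 hs))
  -- `yB ξ = cj nB (xB ξ₁)`
  have h1 : D.yB ξ = cj D.nB (D.xB (Lam.act (-(D.ξ₀.c / (star D.ξ₀.c) ^ 2))⁻¹ ξ)) := by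
    rw [hBx, Lam.act_act, mul_inv_cancel₀ he, Lam.act_one]
  have hbr : D.nB * D.nA * D.nB = D.nA * D.nB * D.nA * D.nB * D.nA⁻¹ := by
    rw [hT.braid]; group
  have h2 : ∀ η : Lam F True, cj D.nA⁻¹ (D.xB η) = D.xC (Lam.act (-1) η) := by
    intro η
    apply cj_inv_of
    rw [su5n1_nA_xC D hT, Lam.act_act]
    norm_num [Lam.act_one]
  have h3 : ∀ η : Lam F True, cj D.nA (D.yB η) = D.yC η := fun η => rfl
  show cj D.nB (cj D.nA (D.yB ξ)) = _
  rw [h1, cj_cj, cj_cj, hbr, ← cj_cj, ← cj_cj, ← cj_cj, ← cj_cj, h2, hT.b_xC, su5n1_nA_xC D hT, hBx, h3,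
    Lam.act_act, Lam.act_act, Lam.act_act, Lam.act_act]
  congr 2
  field_simp

end Dat

end Cfsg.Agent.Lib.helper3.SU5
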