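import Mathlib
import Cfsg.Agent.Lib.helper3.SU5.Defs
import Cfsg.Agent.Lib.helper8.STULA1
import Cfsg.Agent.Lib.helper14.STULA3
import Cfsg.Agent.Lib.Helper5.STULA5
import Cfsg.Agent.Lib.Helper24.STUM0
import Cfsg.Agent.Lib.Helper27.STUQ1
import Cfsg.Agent.Lib.helper2.STUV1
import Cfsg.Agent.Lib.Helper18.SU5N1core
import Cfsg.Agent.Lib.helper3.SU5I5
import Cfsg.Agent.Lib.helper15.SU5I4
import Cfsg.Agent.Lib.Helper20.SU5I7core

/-!
# Project SU5 (S2291 odd side, designer helper3), rows N1 (`Dat.nA_yD`) and N2 (`Dat.nB_yC`) (helper18), VERBATIM vs `helper3/SU5/Skel.lean.txt`.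
Wrappers of `Helper18.SU5N1core` on I6 `nA_xA` (`helper3.SU5I5`) and on I7 `nB_xB` in the form of helper20's core `su5i7_nB_xB` (`Helper20.SU5I7core`) fed with I4 `WU_XpU` (`helper15.SU5I4`).
-/

set_option autoImplicit false

namespace Cfsg.Agent.Lib.helper3.SU5

open Cfsg.Agent.Lib.helper15.St2 Cfsg.Agent.Lib.Helper27.STU
open Cfsg.Agent.Lib.helper3.STC (ng sws)

universe u v w w₀

namespace Dat

variable {F : Type u} [Field F] [StarRing F] {G : Type w} [Group G] (D : Dat F G)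

/-- N1 [M]  `cj nA (yD t) = yD (star t)`.  `yD t = cj nB (cj nA (xA (-(star c₀ * t))))` (def, `nA_xA`), so `cj nA (yD t) = cj (nA * nB * nA) (xA u)`, `u = -(star c₀ * t)` (`cj_cj`);
braid: `nA * nB * nA = nB * nA * nB * nA * nB⁻¹`; `cj nB⁻¹ (xA u) = xD (c₀ * u)` (`cj_inv_of (nB_xD …)`); then `cj nA (xD w) = xD (star w)` (`a_xD`), `cj nB (xD w') = xA (w' / c₀)`,
`cj nA (xA s) = yA (-s)`, `cj nB (yA s') = yD ((star c₀)⁻¹ * s')`; the parameter: `star (c₀ * u) = -(c₀ * star c₀ * star t)`, result `yD (star t)` (`field_simp`; `star_mul'`, `star_neg`, `star_star`). -/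
theorem nA_yD (hT : Tab5 D) (t : F) : cj D.nA (D.yD t) = D.yD (star t) :=
  D.su5n1_core hT (fun t => D.nA_xA t) t

/-- N2 [M]  `cj nB (yC ξ) = yC (act (-(c₀ / star c₀)) ξ)`.  `yB ξ = cj nB (xB ξ₁)` with `ξ₁ = act e⁻¹ ξ`, `e = -(c₀ / (star c₀) ^ 2)` (`nB_xB`, `Lam.act_act`, `Lam.act_one`), so
`cj nB (yC ξ) = cj (nB * nA * nB) (xB ξ₁)`; braid: `nB * nA * nB = nA * nB * nA * nB * nA⁻¹`; `cj nA⁻¹ (xB ξ₁) = xC (act (-1) ξ₁)` (`cj_inv_of (nA_xC …)`, `act (-1) (act (-1) η) = η`);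
then `b_xC`, `nA_xC`, `nB_xB`, and `cj nA (yB η) = yC η` (def); collect the four scalars with `Lam.act_act`: `e * (-1) * f * (-1) = f * e`, `f = -(c₀ / star c₀)`. -/
theorem nB_yC (hT : Tab5 D) (ξ : Lam F True) :
    cj D.nB (D.yC ξ) = D.yC (Lam.act (-(D.ξ₀.c / star D.ξ₀.c)) ξ) :=
  D.su5n1_core2 hT (fun ξ => D.su5i7_nB_xB (fun hc η => WU_XpU hc η) hT.c0 ξ) ξ

end Dat

end Cfsg.Agent.Lib.helper3.SU5
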