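import Cfsg.Agent.Lib.Helper18.SZCSlib

/-! # SZC row S1 (verbatim): `V_mem` -/

set_option autoImplicit false
open scoped ComplexConjugate

namespace Cfsg.Agent.Lib.Helper10.SZC

section
variable {G : Type*} [Group G] [Fintype G]
variable {q r : ℕ}

/-- S1 -/
theorem V_mem (D : SzcData G q r) (i : Bool) (v : Cfsg.IrrCharacter G → ℤ) :
    v ∈ Vset D i ↔ ∃ l : ↥(D.A i) →* ℂˣ, l ≠ 1 ∧
      v = fun χ => sgn i * coef (Psi D.H (D.A i) l) χ :=
  szcs_mem D i v

end

end Cfsg.Agent.Lib.Helper10.SZC
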