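import Cfsg.Agent.Lib.Helper18.SZCT10
import Cfsg.Agent.Lib.Helper18.SZCS1
import Cfsg.Agent.Lib.Helper18.SZCS23core
import Cfsg.Agent.Lib.Helper18.SZCS456core
import Cfsg.Agent.Lib.Helper18.SZCS789core
import Cfsg.Agent.Lib.Helper10.SZCC1
import Cfsg.Agent.Lib.Helper13.SZCC2
import Cfsg.Agent.Lib.Helper10.SZCDcore
import Cfsg.Agent.Lib.Helper10.SZCD
import Cfsg.Agent.Lib.Helper10.SZCD7
import Cfsg.Agent.Lib.Helper10.SZCT5
import Cfsg.Agent.Lib.Helper13.SZCA1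
import Cfsg.Agent.Lib.Helper1.SZCF3

/-!
# SZC rows S2–S9 (verbatim): `V_norm`, `V_pair`, `V_card`, `V_cusp`, `sumNI_V`, `degree_shape1`,
`exists_shape1`, `no_shape2`

Each is the corresponding core of `SZCS23core` / `SZCS456core` / `SZCS789core` applied to the landed
rows it cites.
-/

set_option autoImplicit false
open scoped ComplexConjugate

namespace Cfsg.Agent.Lib.Helper10.SZC

section
variable {G : Type*} [Group G] [Fintype G]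
variable {q r : ℕ}

theorem szcs_hC1 : SzcsC1 G := fun θ hθ χ => coef_spec θ hθ χ
theorem szcs_hC2 : SzcsC2 G := fun inst θ θ' h h' => @coef_inner G _ _ inst θ θ' h h'
theorem szcs_hD5 (D : SzcData G q r) : SzcsD5 D := fun i l => psi_genChar D.H (D.A i) l
theorem szcs_hD6 (D : SzcData G q r) : SzcsD6 D := fun i l hl χ hχ => psi_noncusp D i l hl χ hχ
theorem szcs_hD7 (D : SzcData G q r) : SzcsD7 D := fun i l χ hχ => psi_cusp D i l χ hχ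
theorem szcs_hD8 (D : SzcData G q r) : SzcsD8 D := fun i l l' hl hl' => psi_gram_same D i l l' hl hl'
theorem szcs_hD9 (D : SzcData G q r) : SzcsD9 D := fun l l' hl hl' => psi_gram_cross D l l' hl hl'
theorem szcs_hT5 (D : SzcData G q r) : SzcsT5 D := fun i inst ψ hψ =>
  @phi_sum G _ _ (D.A i) (D.tor i).comm inst ψ hψ
theorem szcs_hT8 (D : SzcData G q r) : SzcsT8 D := fun i l hl => phi_norm (D.tor i) l hl
theorem szcs_hT9 (D : SzcData G q r) : SzcsT9 D := fun i l l' hl hl' =>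
  phi_gram_cases (D.tor i) l l' hl hl'
theorem szcs_hT10 (D : SzcData G q r) : SzcsT10 D := fun i l hl => phi_fiber (D.tor i) l hl
theorem szcs_hA1 (D : SzcData G q r) : SzcsA1 q r := arith D.hq D.hr
theorem szcs_hF3 (D : SzcData G q r) : SzcsF3 D := fun χ hχ => cusp_degree D χ hχ

/-- S2 -/
theorem V_norm [Fintype (Cfsg.IrrCharacter G)] (D : SzcData G q r)
    (v : Cfsg.IrrCharacter G → ℤ) (hv : v ∈ Vall D) : ∑ χ, v χ * v χ = 3 :=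
  szcs2_core D szcs_hC2 (szcs_hD5 D) (szcs_hD8 D) (szcs_hT8 D) v hv

/-- S3 -/
theorem V_pair [Fintype (Cfsg.IrrCharacter G)] (D : SzcData G q r)
    (v w : Cfsg.IrrCharacter G → ℤ) (hv : v ∈ Vall D) (hw : w ∈ Vall D) (hvw : v ≠ w) :
    ∑ χ, v χ * w χ = 2 :=
  szcs3_core D szcs_hC2 (szcs_hD5 D) (szcs_hD8 D) (szcs_hD9 D) (szcs_hT9 D) v w hv hw hvw

/-- S4 -/
theorem V_card (D : SzcData G q r) (i : Bool) :
    4 * (Vset D i).card = aN q r i - 1 ∧ Disjoint (Vset D false) (Vset D true) ∧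
    (Vall D).card = q / 2 :=
  szcs4_core D szcs_hC2 (szcs_hD5 D) (szcs_hD8 D) (szcs_hD9 D) (szcs_hT8 D) (szcs_hT9 D)
    (szcs_hT10 D) (szcs_hA1 D) i

/-- S5 -/
theorem V_cusp (D : SzcData G q r) (v : Cfsg.IrrCharacter G → ℤ) (hv : v ∈ Vall D)
    (χ : Cfsg.IrrCharacter G) (hχ : v χ ≠ 0) : Cusp D.Q (χ : G → ℂ) :=
  szcs5_core D szcs_hC1 (szcs_hD5 D) (szcs_hD6 D) v hv χ hχ

/-- S6 -/
theorem sumNI_V (D : SzcData G q r) (i : Bool) (χ : Cfsg.IrrCharacter G)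
    (hχ : Cusp D.Q (χ : G → ℂ)) :
    sumNI (D.A i) (χ : G → ℂ) = ((sgn i * 4 * ∑ v ∈ Vset D i, v χ : ℤ) : ℂ) :=
  szcs6_core D szcs_hC1 szcs_hC2 (szcs_hD5 D) (szcs_hD7 D) (szcs_hD8 D) (szcs_hT5 D)
    (szcs_hT8 D) (szcs_hT9 D) (szcs_hT10 D) i χ hχ

/-- S7 -/
theorem degree_shape1 [Fintype (Cfsg.IrrCharacter G)] (D : SzcData G q r)
    (R : Cfsg.IrrCharacter G → ℤ) (pt : (Cfsg.IrrCharacter G → ℤ) → Cfsg.IrrCharacter G)
    (sg : (Cfsg.IrrCharacter G → ℤ) → ℤ)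
    (hR : ∑ χ, R χ * R χ = 2)
    (hV : ∀ v ∈ Vall D, (sg v = 1 ∨ sg v = -1) ∧ R (pt v) = 0 ∧ v (pt v) = sg v ∧
      ∀ χ, χ ≠ pt v → v χ = R χ)
    (hinj : ∀ v ∈ Vall D, ∀ w ∈ Vall D, pt v = pt w → v = w)
    (χ : Cfsg.IrrCharacter G) (hχ : Cusp D.Q (χ : G → ℂ)) :
    (R χ = 1 ∧ (∀ v ∈ Vall D, pt v ≠ χ) ∧ (χ : G → ℂ) 1 = (((q - 1) * (r / 2) : ℕ) : ℂ)) ∨
    (R χ = 0 ∧ (∃ v ∈ Vset D false, pt v = χ) ∧
      (χ : G → ℂ) 1 = (((q - 1) * aN q r true : ℕ) : ℂ)) ∨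
    (R χ = 0 ∧ (∃ v ∈ Vset D true, pt v = χ) ∧
      (χ : G → ℂ) 1 = (((q - 1) * aN q r false : ℕ) : ℂ)) :=
  szcs7_core D (szcs_hF3 D) (fun i => V_card D i) (fun i χ hχ => sumNI_V D i χ hχ) (szcs_hA1 D)
    R pt sg hR hV hinj χ hχ

/-- S8 -/
theorem exists_shape1 [Fintype (Cfsg.IrrCharacter G)] (D : SzcData G q r)
    (h1 : Shape1 (Vall D)) :
    (∀ χ : Cfsg.IrrCharacter G, Cusp D.Q (χ : G → ℂ) →
      (χ : G → ℂ) 1 = (((q - 1) * (r / 2) : ℕ) : ℂ) ∨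
      (χ : G → ℂ) 1 = (((q - 1) * aN q r true : ℕ) : ℂ) ∨
      (χ : G → ℂ) 1 = (((q - 1) * aN q r false : ℕ) : ℂ)) ∧
    (∃ χ : Cfsg.IrrCharacter G, (χ : G → ℂ) 1 = (((q - 1) * (r / 2) : ℕ) : ℂ)) ∧
    (∃ χ : Cfsg.IrrCharacter G, (χ : G → ℂ) 1 = (((q - 1) * aN q r true : ℕ) : ℂ)) ∧
    (∃ χ : Cfsg.IrrCharacter G, (χ : G → ℂ) 1 = (((q - 1) * aN q r false : ℕ) : ℂ)) :=
  szcs8_core D (fun i => V_card D i) (fun v hv χ hχ => V_cusp D v hv χ hχ)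
    (fun R pt sg hR hV hinj χ hχ => degree_shape1 D R pt sg hR hV hinj χ hχ) (szcs_hA1 D) h1

/-- S9 -/
theorem no_shape2 [Fintype (Cfsg.IrrCharacter G)] (D : SzcData G q r)
    (h4 : (Vall D).card = 4) : ¬ Shape2 (Vall D) :=
  szcs9_core D (szcs_hF3 D) (fun i => V_card D i) (fun v hv χ hχ => V_cusp D v hv χ hχ)
    (fun i χ hχ => sumNI_V D i χ hχ) h4

end

end Cfsg.Agent.Lib.Helper10.SZC
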