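import Cfsg.Agent.Lib.Helper10.SZC.Defs

/-!
# SZC row T10 (core): the fibres of `l ↦ phi A l` on nontrivial `l` have exactly 4 elements

`szct10_core` proves the Skel statement of `phi_fiber` from the STATEMENTS of T7 (`phi_gram`),
T8 (`phi_norm`), T9 (`phi_gram_cases`) for the given torus (T6 is not needed).
Counting: `N ≃ Σ (l' in the fibre), {n // l'^n = l}` and each inner set has `|A|` elements.
-/

set_option autoImplicit false
open scoped ComplexConjugate

namespace Cfsg.Agent.Lib.Helper10.SZC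

section
variable {G : Type*} [Group G] [Fintype G]

/-- conjugation by `n ∈ N` as an endomorphism of `A` -/
def szct10_conj {A N : Subgroup G} (hT : Torus A N) (n : ↥N) : ↥A →* ↥A where
  toFun a := ⟨(n : G) * (a : G) * (n : G)⁻¹, hT.norm n n.2 a a.2⟩
  map_one' := by ext; simp
  map_mul' a b := by ext; simp [mul_assoc]

omit [Fintype G] in
theorem szct10_conj_apply {A N : Subgroup G} (hT : Torus A N) (n : ↥N) (a : ↥A) :
    szct10_conj hT n a = ⟨(n : G) * (a : G) * (n : G)⁻¹, hT.norm n n.2 a a.2⟩ := rfl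

omit [Fintype G] in
theorem szct10_conj_inv_conj {A N : Subgroup G} (hT : Torus A N) (n : ↥N) (a : ↥A) :
    szct10_conj hT n⁻¹ (szct10_conj hT n a) = a := by
  ext; simp [szct10_conj_apply, mul_assoc]

omit [Fintype G] in
theorem szct10_conj_conj_inv {A N : Subgroup G} (hT : Torus A N) (n : ↥N) (a : ↥A) :
    szct10_conj hT n (szct10_conj hT n⁻¹ a) = a := by
  ext; simp [szct10_conj_apply, mul_assoc]

theorem szct10_phi_one_eq_zero (A : Subgroup G) : phi A (1 : ↥A →* ℂˣ) = 0 := by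
  funext g
  simp only [phi, Cfsg.indFun, Pi.zero_apply]
  have : (Cfsg.extendByZero A fun a : ↥A => (1 : ℂ) - (((1 : ↥A →* ℂˣ) a : ℂˣ) : ℂ)) = 0 := by
    funext x
    simp only [Cfsg.extendByZero, MonoidHom.one_apply, Units.val_one, sub_self, Pi.zero_apply]
    by_cases hx : ∃ a : ↥A, (a : G) = x
    · obtain ⟨a, rfl⟩ := hx
      rw [Subtype.val_injective.extend_apply]
    · rw [Function.extend_apply' _ _ _ hx]; rfl
  rw [this]; simp

/-- T10 core: on the statements of T7, T8, T9 -/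
theorem szct10_core {A N : Subgroup G} (hT : Torus A N) (l : ↥A →* ℂˣ) (hl : l ≠ 1)
    (h7 : ∀ (l l' : ↥A →* ℂˣ), l ≠ 1 → l' ≠ 1 →
      (Nat.card A : ℂ) * (Cfsg.classInner (phi A l) (phi A l') - 4) =
      (Nat.card {n : ↥N // ∀ a : ↥A,
        l' ⟨(n : G) * (a : G) * (n : G)⁻¹, hT.norm n n.2 a a.2⟩ = l a} : ℂ))
    (h8 : ∀ (l : ↥A →* ℂˣ), l ≠ 1 → Cfsg.classInner (phi A l) (phi A l) = 5)
    (h9 : ∀ (l l' : ↥A →* ℂˣ), l ≠ 1 → l' ≠ 1 →
      phi A l = phi A l' ∨ Cfsg.classInner (phi A l) (phi A l') = 4) :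
    Nat.card {l' : ↥A →* ℂˣ // phi A l' = phi A l} = 4 := by
  classical
  have hAfin : Finite ↥A := inferInstance
  have hApos : 0 < Nat.card ↥A := Nat.card_pos
  -- members of the fibre are nontrivial
  have hne : ∀ l' : ↥A →* ℂˣ, phi A l' = phi A l → l' ≠ 1 := by
    intro l' h h1
    have h5 := h8 l hl
    rw [← h, h1, szct10_phi_one_eq_zero] at h5
    simp [Cfsg.classInner] at h5
  -- for members of the fibre the set of `n` has `|A|` elements
  have hcnt : ∀ l' : ↥A →* ℂˣ, phi A l' = phi A l →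
      Nat.card {n : ↥N // ∀ a : ↥A,
        l' ⟨(n : G) * (a : G) * (n : G)⁻¹, hT.norm n n.2 a a.2⟩ = l a} = Nat.card ↥A := by
    intro l' h
    have h7' := h7 l l' hl (hne l' h)
    rw [h, h8 l hl] at h7'
    have : ((Nat.card ↥A : ℕ) : ℂ) = (Nat.card {n : ↥N // ∀ a : ↥A,
        l' ⟨(n : G) * (a : G) * (n : G)⁻¹, hT.norm n n.2 a a.2⟩ = l a} : ℂ) := by
      rw [← h7']; ring
    exact (Nat.cast_injective this).symm
  -- the twisted character `l ∘ conj n⁻¹` is in the fibre
  have htw : ∀ n : ↥N, phi A (l.comp (szct10_conj hT n⁻¹)) = phi A l := by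
    intro n
    have hfix : ∀ a : ↥A, (l.comp (szct10_conj hT n⁻¹))
        ⟨(n : G) * (a : G) * (n : G)⁻¹, hT.norm n n.2 a a.2⟩ = l a := by
      intro a
      have := szct10_conj_inv_conj hT n a
      rw [szct10_conj_apply hT n a] at this
      rw [MonoidHom.comp_apply, this]
    have hne' : l.comp (szct10_conj hT n⁻¹) ≠ 1 := by
      intro h1
      apply hl
      ext a
      rw [← hfix a, h1]; simp
    have h7' := h7 l _ hl hne'
    rcases h9 l _ hl hne' with h | h
    · exact h.symm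
    · exfalso
      rw [h] at h7'
      have hpos : 0 < Nat.card {n' : ↥N // ∀ a : ↥A, (l.comp (szct10_conj hT n⁻¹))
        ⟨(n' : G) * (a : G) * (n' : G)⁻¹, hT.norm n' n'.2 a a.2⟩ = l a} := by
        have : Nonempty {n' : ↥N // ∀ a : ↥A, (l.comp (szct10_conj hT n⁻¹))
          ⟨(n' : G) * (a : G) * (n' : G)⁻¹, hT.norm n' n'.2 a a.2⟩ = l a} := ⟨⟨n, hfix⟩⟩
        exact Nat.card_pos
      have : ((Nat.card {n' : ↥N // ∀ a : ↥A, (l.comp (szct10_conj hT n⁻¹))
        ⟨(n' : G) * (a : G) * (n' : G)⁻¹, hT.norm n' n'.2 a a.2⟩ = l a} : ℕ) : ℂ) = 0 := by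
        rw [← h7']; ring
      have := Nat.cast_eq_zero.mp this
      omega
  -- the equivalence `N ≃ Σ s, {n // s^n = l}`
  let S := {l' : ↥A →* ℂˣ // phi A l' = phi A l}
  let F : S → Type _ := fun s => {n : ↥N // ∀ a : ↥A,
        s.1 ⟨(n : G) * (a : G) * (n : G)⁻¹, hT.norm n n.2 a a.2⟩ = l a}
  have e : ↥N ≃ Σ s : S, F s :=
    { toFun := fun n => ⟨⟨l.comp (szct10_conj hT n⁻¹), htw n⟩, ⟨n, by
        intro a
        have := szct10_conj_inv_conj hT n a
        rw [szct10_conj_apply hT n a] at this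
        show (l.comp (szct10_conj hT n⁻¹)) _ = l a
        rw [MonoidHom.comp_apply, this]⟩⟩
      invFun := fun p => p.2.1
      left_inv := fun n => rfl
      right_inv := by
        rintro ⟨⟨l', hl'⟩, ⟨n, hn⟩⟩
        have : l.comp (szct10_conj hT n⁻¹) = l' := by
          ext a
          have h1 := hn (szct10_conj hT n⁻¹ a)
          have h2 := szct10_conj_conj_inv hT n a
          rw [szct10_conj_apply hT n] at h2
          rw [h2] at h1
          rw [MonoidHom.comp_apply, ← h1]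
        subst this
        rfl }
  have : Finite (↥A →* ℂˣ) := inferInstance
  have : Finite S := inferInstance
  haveI : Fintype S := Fintype.ofFinite S
  have hcard : Nat.card ↥N = Nat.card (Σ s : S, F s) := Nat.card_congr e
  rw [Nat.card_sigma] at hcard
  have hF : ∀ s : S, Nat.card (F s) = Nat.card ↥A := fun s => hcnt s.1 s.2
  simp only [hF, Finset.sum_const, Finset.card_univ, smul_eq_mul] at hcard
  rw [hT.card, ← Nat.card_eq_fintype_card] at hcard
  exact (Nat.eq_of_mul_eq_mul_right hApos hcard).symm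

end

end Cfsg.Agent.Lib.Helper10.SZC
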