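import Cfsg.Agent.Lib.Helper10.SZC.Defs
import Cfsg.Agent.Lib.Helper18.SZCT10core
import Cfsg.Agent.Lib.helper2.CharInt
import Cfsg.Agent.Lib.helper7.Clifford
import Cfsg.Agent.Lib.Helper29.AbFrobDual

/-!
# SZC block S: shared lemmas for the synthesis rows (S1–S9)

The statements of the rows cited by block S are packaged as `Prop`-valued definitions `SzcsC1`,
`SzcsC2`, `SzcsD5 D`, … (each is the Skel statement, specialised to the data `D`), so that each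
core takes exactly the rows it needs as hypotheses.
-/

set_option autoImplicit false
open scoped ComplexConjugate

namespace Cfsg.Agent.Lib.Helper10.SZC

section
variable {G : Type*} [Group G] [Fintype G] {q r : ℕ}

/-! ## the cited statements -/

/-- statement of C1 `coef_spec` -/
def SzcsC1 (G : Type*) [Group G] [Fintype G] : Prop :=
  ∀ (θ : G → ℂ), Cfsg.IsGeneralizedCharacter G θ → ∀ χ : Cfsg.IrrCharacter G,
    ((coef θ χ : ℤ) : ℂ) = Cfsg.classInner θ (χ : G → ℂ) ∧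
    ((coef θ χ : ℤ) : ℂ) = Cfsg.classInner (χ : G → ℂ) θ

/-- statement of C2 `coef_inner` (for every `Fintype` instance) -/
def SzcsC2 (G : Type*) [Group G] [Fintype G] : Prop :=
  ∀ (inst : Fintype (Cfsg.IrrCharacter G)) (θ θ' : G → ℂ),
    Cfsg.IsGeneralizedCharacter G θ → Cfsg.IsGeneralizedCharacter G θ' →
    Cfsg.classInner θ θ' = ((∑ χ : Cfsg.IrrCharacter G, coef θ χ * coef θ' χ : ℤ) : ℂ)

/-- statement of D5 `psi_genChar` at the tori of `D` -/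
def SzcsD5 (D : SzcData G q r) : Prop :=
  ∀ (i : Bool) (l : ↥(D.A i) →* ℂˣ), Cfsg.IsGeneralizedCharacter G (Psi D.H (D.A i) l)

/-- statement of D6 `psi_noncusp` -/
def SzcsD6 (D : SzcData G q r) : Prop :=
  ∀ (i : Bool) (l : ↥(D.A i) →* ℂˣ), l ≠ 1 → ∀ χ : Cfsg.IrrCharacter G,
    ¬ Cusp D.Q (χ : G → ℂ) → Cfsg.classInner (χ : G → ℂ) (Psi D.H (D.A i) l) = 0

/-- statement of D7 `psi_cusp` -/
def SzcsD7 (D : SzcData G q r) : Prop :=
  ∀ (i : Bool) (l : ↥(D.A i) →* ℂˣ) (χ : Cfsg.IrrCharacter G), Cusp D.Q (χ : G → ℂ) →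
    Cfsg.classInner (χ : G → ℂ) (Psi D.H (D.A i) l) =
      Cfsg.classInner (χ : G → ℂ) (phi (D.A i) l)

/-- statement of D8 `psi_gram_same` -/
def SzcsD8 (D : SzcData G q r) : Prop :=
  ∀ (i : Bool) (l l' : ↥(D.A i) →* ℂˣ), l ≠ 1 → l' ≠ 1 →
    Cfsg.classInner (Psi D.H (D.A i) l) (Psi D.H (D.A i) l') =
      Cfsg.classInner (phi (D.A i) l) (phi (D.A i) l') - 2

/-- statement of D9 `psi_gram_cross` -/
def SzcsD9 (D : SzcData G q r) : Prop :=
  ∀ (l : ↥(D.A false) →* ℂˣ) (l' : ↥(D.A true) →* ℂˣ), l ≠ 1 → l' ≠ 1 →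
    Cfsg.classInner (Psi D.H (D.A false) l) (Psi D.H (D.A true) l') = -2

/-- statement of T5 `phi_sum` at the tori of `D` -/
def SzcsT5 (D : SzcData G q r) : Prop :=
  ∀ (i : Bool) (inst : Fintype (↥(D.A i) →* ℂˣ)) (ψ : G → ℂ), Cfsg.IsClassFunction G ψ →
    ∑ l : ↥(D.A i) →* ℂˣ, Cfsg.classInner ψ (phi (D.A i) l) = sumNI (D.A i) ψ

/-- statement of T8 `phi_norm` at the tori of `D` -/
def SzcsT8 (D : SzcData G q r) : Prop :=
  ∀ (i : Bool) (l : ↥(D.A i) →* ℂˣ), l ≠ 1 →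
    Cfsg.classInner (phi (D.A i) l) (phi (D.A i) l) = 5

/-- statement of T9 `phi_gram_cases` at the tori of `D` -/
def SzcsT9 (D : SzcData G q r) : Prop :=
  ∀ (i : Bool) (l l' : ↥(D.A i) →* ℂˣ), l ≠ 1 → l' ≠ 1 →
    phi (D.A i) l = phi (D.A i) l' ∨ Cfsg.classInner (phi (D.A i) l) (phi (D.A i) l') = 4

/-- statement of T10 `phi_fiber` at the tori of `D` -/
def SzcsT10 (D : SzcData G q r) : Prop :=
  ∀ (i : Bool) (l : ↥(D.A i) →* ℂˣ), l ≠ 1 →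
    Nat.card {l' : ↥(D.A i) →* ℂˣ // phi (D.A i) l' = phi (D.A i) l} = 4

/-- conclusion of A1 `arith` -/
def SzcsA1 (q r : ℕ) : Prop :=
  Even r ∧ Even q ∧ 4 ≤ r ∧ r + 4 ≤ q ∧
    aN q r false * aN q r true = q ^ 2 + 1 ∧
    Nat.Coprime (aN q r false) (aN q r true) ∧
    (∀ i, Nat.Coprime (aN q r i) (q ^ 2 * (q - 1))) ∧
    (∀ i, 4 ∣ aN q r i - 1) ∧ (∀ i, 5 ≤ aN q r i) ∧
    (aN q r false - 1) / 4 + (aN q r true - 1) / 4 = q / 2 ∧
    aN q r false = aN q r true + 2 * r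

/-- statement of F3 `cusp_degree` -/
def SzcsF3 (D : SzcData G q r) : Prop :=
  ∀ χ : Cfsg.IrrCharacter G, Cusp D.Q (χ : G → ℂ) →
    4 * (χ : G → ℂ) 1 = ((q - 1 : ℕ) : ℂ) *
      ((aN q r true : ℂ) * sumNI (D.A false) (χ : G → ℂ) +
       (aN q r false : ℂ) * sumNI (D.A true) (χ : G → ℂ))

/-! ## the coefficient vectors -/

/-- the coefficient vector attached to `l` -/
noncomputable def szcs_vec (D : SzcData G q r) (i : Bool) (l : ↥(D.A i) →* ℂˣ) :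
    Cfsg.IrrCharacter G → ℤ :=
  fun χ => sgn i * coef (Psi D.H (D.A i) l) χ

theorem szcs_sgn_mul_self (i : Bool) : sgn i * sgn i = 1 := by
  cases i <;> simp [sgn]

theorem szcs_sgn_false : sgn false = 1 := by simp [sgn]

theorem szcs_sgn_true : sgn true = -1 := by simp [sgn]

/-- S1 in terms of `szcs_vec` -/
theorem szcs_mem (D : SzcData G q r) (i : Bool) (v : Cfsg.IrrCharacter G → ℤ) :
    v ∈ Vset D i ↔ ∃ l : ↥(D.A i) →* ℂˣ, l ≠ 1 ∧ v = szcs_vec D i l := by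
  classical
  unfold Vset
  simp only [Finset.mem_image, Finset.mem_filter, Finset.mem_univ, true_and]
  constructor
  · rintro ⟨l, hl, rfl⟩; exact ⟨l, hl, rfl⟩
  · rintro ⟨l, hl, rfl⟩; exact ⟨l, hl, rfl⟩

theorem szcs_Vset_eq (D : SzcData G q r) (i : Bool) [Fintype (↥(D.A i) →* ℂˣ)]
    [DecidableEq (↥(D.A i) →* ℂˣ)] [DecidableEq (Cfsg.IrrCharacter G → ℤ)] :
    Vset D i = (Finset.univ.filter (fun l : ↥(D.A i) →* ℂˣ => l ≠ 1)).image (szcs_vec D i) := by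
  ext v
  rw [szcs_mem]
  simp only [Finset.mem_image, Finset.mem_filter, Finset.mem_univ, true_and]
  constructor
  · rintro ⟨l, hl, rfl⟩; exact ⟨l, hl, rfl⟩
  · rintro ⟨l, hl, rfl⟩; exact ⟨l, hl, rfl⟩

theorem szcs_mem_Vall (D : SzcData G q r) (v : Cfsg.IrrCharacter G → ℤ) :
    v ∈ Vall D ↔ ∃ (i : Bool) (l : ↥(D.A i) →* ℂˣ), l ≠ 1 ∧ v = szcs_vec D i l := by
  classical
  unfold Vall
  rw [Finset.mem_union, szcs_mem, szcs_mem]
  constructor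
  · rintro (⟨l, hl, h⟩ | ⟨l, hl, h⟩)
    · exact ⟨false, l, hl, h⟩
    · exact ⟨true, l, hl, h⟩
  · rintro ⟨i, l, hl, h⟩
    cases i
    · exact Or.inl ⟨l, hl, h⟩
    · exact Or.inr ⟨l, hl, h⟩

theorem szcs_vec_congr (D : SzcData G q r) (i : Bool) (l l' : ↥(D.A i) →* ℂˣ)
    (h : phi (D.A i) l = phi (D.A i) l') : szcs_vec D i l = szcs_vec D i l' := by
  unfold szcs_vec Psi
  rw [h]

/-- the Gram matrix of the coefficient vectors -/
theorem szcs_vec_inner [inst : Fintype (Cfsg.IrrCharacter G)] (D : SzcData G q r)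
    (hC2 : SzcsC2 G) (hD5 : SzcsD5 D) (i j : Bool) (l : ↥(D.A i) →* ℂˣ)
    (l' : ↥(D.A j) →* ℂˣ) :
    ((∑ χ, szcs_vec D i l χ * szcs_vec D j l' χ : ℤ) : ℂ) =
      ((sgn i * sgn j : ℤ) : ℂ) *
        Cfsg.classInner (Psi D.H (D.A i) l) (Psi D.H (D.A j) l') := by
  rw [hC2 inst _ _ (hD5 i l) (hD5 j l'), ← Int.cast_mul, Finset.mul_sum]
  congr 1
  apply Finset.sum_congr rfl
  intro χ _
  simp only [szcs_vec]
  ring

theorem szcs_vec_norm [inst : Fintype (Cfsg.IrrCharacter G)] (D : SzcData G q r)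
    (hC2 : SzcsC2 G) (hD5 : SzcsD5 D) (hD8 : SzcsD8 D) (hT8 : SzcsT8 D)
    (i : Bool) (l : ↥(D.A i) →* ℂˣ) (hl : l ≠ 1) :
    ∑ χ, szcs_vec D i l χ * szcs_vec D i l χ = 3 := by
  have h := szcs_vec_inner D hC2 hD5 i i l l
  rw [hD8 i l l hl hl, hT8 i l hl, szcs_sgn_mul_self] at h
  have h3 : ((∑ χ, szcs_vec D i l χ * szcs_vec D i l χ : ℤ) : ℂ) = ((3 : ℤ) : ℂ) := by
    rw [h]; push_cast; norm_num
  exact Int.cast_injective h3

theorem szcs_vec_pair_same [inst : Fintype (Cfsg.IrrCharacter G)] (D : SzcData G q r)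
    (hC2 : SzcsC2 G) (hD5 : SzcsD5 D) (hD8 : SzcsD8 D) (hT9 : SzcsT9 D)
    (i : Bool) (l l' : ↥(D.A i) →* ℂˣ) (hl : l ≠ 1) (hl' : l' ≠ 1)
    (hne : phi (D.A i) l ≠ phi (D.A i) l') :
    ∑ χ, szcs_vec D i l χ * szcs_vec D i l' χ = 2 := by
  have h := szcs_vec_inner D hC2 hD5 i i l l'
  rcases hT9 i l l' hl hl' with h9 | h9
  · exact absurd h9 hne
  rw [hD8 i l l' hl hl', h9, szcs_sgn_mul_self] at h
  have h3 : ((∑ χ, szcs_vec D i l χ * szcs_vec D i l' χ : ℤ) : ℂ) = ((2 : ℤ) : ℂ) := by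
    rw [h]; push_cast; norm_num
  exact Int.cast_injective h3

theorem szcs_vec_pair_cross [inst : Fintype (Cfsg.IrrCharacter G)] (D : SzcData G q r)
    (hC2 : SzcsC2 G) (hD5 : SzcsD5 D) (hD9 : SzcsD9 D)
    (l : ↥(D.A false) →* ℂˣ) (l' : ↥(D.A true) →* ℂˣ) (hl : l ≠ 1) (hl' : l' ≠ 1) :
    ∑ χ, szcs_vec D false l χ * szcs_vec D true l' χ = 2 := by
  have h := szcs_vec_inner D hC2 hD5 false true l l'
  rw [hD9 l l' hl hl', szcs_sgn_false, szcs_sgn_true] at h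
  have h3 : ((∑ χ, szcs_vec D false l χ * szcs_vec D true l' χ : ℤ) : ℂ) = ((2 : ℤ) : ℂ) := by
    rw [h]; push_cast; norm_num
  exact Int.cast_injective h3

/-- two nontrivial `l`, `l'` on the same torus give the same vector iff `phi l = phi l'` -/
theorem szcs_vec_eq_iff [inst : Fintype (Cfsg.IrrCharacter G)] (D : SzcData G q r)
    (hC2 : SzcsC2 G) (hD5 : SzcsD5 D) (hD8 : SzcsD8 D) (hT8 : SzcsT8 D) (hT9 : SzcsT9 D)
    (i : Bool) (l l' : ↥(D.A i) →* ℂˣ) (hl : l ≠ 1) (hl' : l' ≠ 1) :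
    szcs_vec D i l = szcs_vec D i l' ↔ phi (D.A i) l = phi (D.A i) l' := by
  constructor
  · intro h
    by_contra hne
    have h2 := szcs_vec_pair_same D hC2 hD5 hD8 hT9 i l l' hl hl' hne
    have h3 := szcs_vec_norm D hC2 hD5 hD8 hT8 i l hl
    rw [← h] at h2
    omega
  · exact szcs_vec_congr D i l l'

/-- `phi l' = phi l` with `l ≠ 1` forces `l' ≠ 1` -/
theorem szcs_ne_one_of_phi_eq (D : SzcData G q r) (hT8 : SzcsT8 D) (i : Bool)
    (l l' : ↥(D.A i) →* ℂˣ) (hl : l ≠ 1) (h : phi (D.A i) l' = phi (D.A i) l) : l' ≠ 1 := by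
  intro h1
  have h5 := hT8 i l hl
  rw [← h, h1, szct10_phi_one_eq_zero] at h5
  simp [Cfsg.classInner] at h5

end

end Cfsg.Agent.Lib.Helper10.SZC
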