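import Cfsg.Agent.Lib.Helper18.SZCT10core
import Cfsg.Agent.Lib.Helper1.SZCT7
import Cfsg.Agent.Lib.Helper1.SZCT8

/-! # SZC row T10 (verbatim): `phi_fiber` -/

set_option autoImplicit false
open scoped ComplexConjugate

namespace Cfsg.Agent.Lib.Helper10.SZC

section
variable {G : Type*} [Group G] [Fintype G]

/-- T10 -/
theorem phi_fiber {A N : Subgroup G} (hT : Torus A N) (l : ↥A →* ℂˣ) (hl : l ≠ 1) :
    Nat.card {l' : ↥A →* ℂˣ // phi A l' = phi A l} = 4 :=
  szct10_core hT l hl (fun l l' h h' => phi_gram hT l l' h h') (fun l h => phi_norm hT l h)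
    (fun l l' h h' => phi_gram_cases hT l l' h h')

end

end Cfsg.Agent.Lib.Helper10.SZC
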