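import Cfsg.Agent.Lib.Helper18.SpE.Defs

set_option autoImplicit false
set_option linter.unusedSectionVars false

namespace Cfsg.Agent.Lib.Helper18.SpES

open Matrix Cfsg.Agent.Lib.Helper18.SpE

section E

variable {F : Type*} [Field F] [Fintype F] [CharP F 2]

theorem two_eq_zero' : (2 : F) = 0 := CharP.cast_eq_zero F 2

theorem add_self' (x : F) : x + x = 0 := by
  rw [← two_mul, two_eq_zero', zero_mul]

theorem polar_self' {V : Type*} [AddCommGroup V] [Module F V]
    (Q : QuadraticForm F V) (x : V) : QuadraticMap.polar Q x x = 0 := by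
  have : QuadraticMap.polar Q x x = 2 * Q x := by
    rw [QuadraticMap.polar_self]
    simp [two_mul, two_smul]
  rw [this, two_eq_zero', zero_mul]

/-- a triple `v, u, w` with `B(u,w) ≠ 0` and `v ∉ span {u, w}` is linearly independent -/
theorem li3_of_polar {V : Type*} [AddCommGroup V] [Module F V]
    (Q : QuadraticForm F V) (v u w : V) (huw : QuadraticMap.polar Q u w ≠ 0)
    (hv : v ∉ Submodule.span F ({u, w} : Set V)) : LinearIndependent F ![v, u, w] := by
  rw [Fintype.linearIndependent_iff]
  intro g hg
  rw [Fin.sum_univ_three] at hg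
  simp only [Matrix.cons_val_zero, Matrix.cons_val_one, Matrix.cons_val_two, Matrix.head_cons,
    Matrix.tail_cons] at hg
  have h0 : g 0 = 0 := by
    by_contra h0
    apply hv
    rw [Submodule.mem_span_pair]
    refine ⟨-(g 0)⁻¹ * g 1, -(g 0)⁻¹ * g 2, ?_⟩
    have : g 0 • v = -(g 1 • u + g 2 • w) := by
      rw [eq_neg_iff_add_eq_zero, ← add_assoc]; exact hg
    calc (-(g 0)⁻¹ * g 1) • u + (-(g 0)⁻¹ * g 2) • w
        = (g 0)⁻¹ • (-(g 1 • u + g 2 • w)) := by
          simp only [mul_smul, smul_neg, neg_smul, smul_add]; abel
      _ = (g 0)⁻¹ • (g 0 • v) := by rw [this]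
      _ = v := by rw [smul_smul, inv_mul_cancel₀ h0, one_smul]
  rw [h0, zero_smul, zero_add] at hg
  have h1 : g 1 = 0 := by
    have := congrArg (fun x => QuadraticMap.polar Q x w) hg
    simp only [QuadraticMap.polar_add_left, QuadraticMap.polar_smul_left, polar_self',
      smul_eq_mul, mul_zero, add_zero] at this
    have h3 : QuadraticMap.polar Q (0 : V) w = 0 := by simp [QuadraticMap.polar]
    rw [h3] at this
    rcases mul_eq_zero.mp this with h | h
    · exact h
    · exact absurd h huw
  have h2 : g 2 = 0 := by
    have := congrArg (fun x => QuadraticMap.polar Q u x) hg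
    simp only [QuadraticMap.polar_add_right, QuadraticMap.polar_smul_right, polar_self',
      smul_eq_mul, mul_zero, zero_add] at this
    have h3 : QuadraticMap.polar Q u (0 : V) = 0 := by simp [QuadraticMap.polar]
    rw [h3] at this
    rcases mul_eq_zero.mp this with h | h
    · exact h
    · exact absurd h huw
  intro i
  fin_cases i
  · exact h0
  · exact h1
  · exact h2

/-- S : a singular vector and a polar pair, independent of each other -/
theorem exists_singular_triple {V : Type*} [AddCommGroup V] [Module F V] [FiniteDimensional F V]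
    (Q : QuadraticForm F V) (hdim : 3 ≤ Module.finrank F V)
    (hpol : ∃ x y : V, QuadraticMap.polar Q x y ≠ 0) :
    ∃ v u w : V, LinearIndependent F ![v, u, w] ∧ Q v = 0 ∧ QuadraticMap.polar Q u w ≠ 0 := by
  classical
  obtain ⟨u, w, huw⟩ := hpol
  have hB0 : ∀ x : V, QuadraticMap.polar Q x x = 0 := polar_self' Q
  have hBc : ∀ x y : V, QuadraticMap.polar Q x y = QuadraticMap.polar Q y x :=
    fun x y => QuadraticMap.polar_comm Q x y
  -- a vector outside span {u, w}
  obtain ⟨z, hz⟩ : ∃ z : V, z ∉ Submodule.span F ({u, w} : Set V) := by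
    by_contra hcon
    push Not at hcon
    have htop : Submodule.span F ({u, w} : Set V) = ⊤ := by
      rw [eq_top_iff]; intro x _; exact hcon x
    have h1 : Module.finrank F (Submodule.span F ({u, w} : Set V)) ≤ 2 := by
      have := finrank_span_le_card (R := F) ({u, w} : Set V)
      have h2 : ({u, w} : Set V).toFinset.card ≤ 2 := by
        have : ({u, w} : Set V).toFinset = ({u, w} : Finset V) := by
          ext x; simp
        rw [this]; exact Finset.card_le_two
      omega
    rw [htop, finrank_top] at h1
    omega
  set α := QuadraticMap.polar Q w z with hα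
  set γ := QuadraticMap.polar Q z u with hγ
  set δ := QuadraticMap.polar Q u w with hδ
  set r : V := α • u + γ • w + δ • z with hr
  have hru : QuadraticMap.polar Q r u = 0 := by
    rw [hr]
    simp only [QuadraticMap.polar_add_left, QuadraticMap.polar_smul_left, hB0, smul_eq_mul,
      mul_zero, zero_add]
    rw [hBc w u, ← hδ, ← hγ, mul_comm δ γ]
    exact add_self' _
  have hrw : QuadraticMap.polar Q r w = 0 := by
    rw [hr]
    simp only [QuadraticMap.polar_add_left, QuadraticMap.polar_smul_left, hB0, smul_eq_mul,
      mul_zero, add_zero]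
    rw [hBc z w, ← hδ, ← hα, mul_comm δ α]
    exact add_self' _
  have hr_notin : r ∉ Submodule.span F ({u, w} : Set V) := by
    intro hmem
    apply hz
    have h1 : δ • z = r - (α • u + γ • w) := by rw [hr]; abel
    have h2 : δ • z ∈ Submodule.span F ({u, w} : Set V) := by
      rw [h1]
      apply Submodule.sub_mem _ hmem
      apply Submodule.add_mem
      · exact Submodule.smul_mem _ _ (Submodule.subset_span (by simp))
      · exact Submodule.smul_mem _ _ (Submodule.subset_span (by simp))
    have h3 : z = δ⁻¹ • (δ • z) := by rw [smul_smul, inv_mul_cancel₀ huw, one_smul]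
    rw [h3]
    exact Submodule.smul_mem _ _ h2
  by_cases hQr : Q r = 0
  · exact ⟨r, u, w, li3_of_polar Q r u w huw hr_notin, hQr, huw⟩
  · -- t with t^2 = Q u / Q r
    obtain ⟨t, ht⟩ : ∃ t : F, t * t = Q u / Q r := by
      have := FiniteField.isSquare_of_char_two (F := F) (CharP.ringChar_of_prime_eq_zero Nat.prime_two two_eq_zero') (Q u / Q r)
      obtain ⟨t, ht⟩ := this
      exact ⟨t, ht.symm⟩
    have hur : QuadraticMap.polar Q u r = 0 := by rw [hBc]; exact hru
    have hwr : QuadraticMap.polar Q w r = 0 := by rw [hBc]; exact hrw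
    refine ⟨u + t • r, w, u + (t + 1) • r, ?_, ?_, ?_⟩
    · apply li3_of_polar Q
      · rw [QuadraticMap.polar_add_right, QuadraticMap.polar_smul_right, hwr, smul_zero, add_zero,
          hBc]
        exact huw
      · intro hmem
        rw [Submodule.mem_span_pair] at hmem
        obtain ⟨a, b, hab⟩ := hmem
        -- apply B(·, w)
        have h1 := congrArg (fun x => QuadraticMap.polar Q x w) hab
        simp only [QuadraticMap.polar_add_left, QuadraticMap.polar_smul_left, hB0, hrw,
          smul_eq_mul, mul_zero, zero_add, add_zero] at h1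
        have hb : b = 1 := by
          have : (b - 1) * δ = 0 := by rw [sub_mul, one_mul, h1, sub_self]
          rcases mul_eq_zero.mp this with h | h
          · exact sub_eq_zero.mp h
          · exact absurd h huw
        apply hr_notin
        rw [Submodule.mem_span_pair]
        refine ⟨0, a, ?_⟩
        rw [hb, one_smul] at hab
        have : a • w = (u + t • r) - (u + (t + 1) • r) := by rw [← hab]; abel
        rw [zero_smul, zero_add, this, add_smul, one_smul]
        have hrr : r + r = 0 := by
          rw [← two_smul F r, two_eq_zero', zero_smul]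
        have : u + t • r - (u + (t • r + r)) = -r := by abel
        rw [this]
        exact (eq_neg_of_add_eq_zero_left hrr).symm
    · rw [QuadraticMap.map_add Q, QuadraticMap.map_smul, QuadraticMap.polar_smul_right, hur,
        smul_zero, add_zero, smul_eq_mul, ht, div_mul_cancel₀ _ hQr]
      exact add_self' _
    · rw [QuadraticMap.polar_add_right, QuadraticMap.polar_smul_right, hwr, smul_zero, add_zero,
        hBc]
      exact huw

end E

end Cfsg.Agent.Lib.Helper18.SpES
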