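import Cfsg.Agent.Lib.Helper18.SpE.Defs
import Cfsg.Agent.Lib.Helper18.SpES
import Cfsg.Agent.Lib.Helper21.SpEG

set_option autoImplicit false
set_option linter.unusedSectionVars false

namespace Cfsg.Agent.Lib.Helper18.SpEE

open Matrix Cfsg.Agent.Lib.Helper18.SpE Cfsg.Agent.Lib.Helper18.SpES Cfsg.Agent.Lib.Helper21.SpEG

section E

variable {F : Type*} [Field F] [Fintype F] [CharP F 2]

theorem polar_comp_equiv {V : Type*} [AddCommGroup V] [Module F V]
    (Q : QuadraticForm F V) (g : V ≃ₗ[F] V) (x y : V) :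
    QuadraticMap.polar (Q.comp (g : V →ₗ[F] V)) x y = QuadraticMap.polar Q (g x) (g y) := by
  simp [QuadraticMap.polar]

/-- EA : some member is nonzero at `e` with `e` outside the radical of its polar form -/
theorem exists_nonsing {V : Type*} [AddCommGroup V] [Module F V] [FiniteDimensional F V]
    (𝒬 : Set (QuadraticForm F V)) (hst : Stable 𝒬) (hp : HasPolar 𝒬) (e : V) (he : e ≠ 0) :
    ∃ Q ∈ 𝒬, Q e ≠ 0 ∧ ∃ y : V, QuadraticMap.polar Q e y ≠ 0 := by
  obtain ⟨Q₀, hQ₀, u, w, huw⟩ := hp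
  -- a vector v with Q₀ v ≠ 0 and some y with B(v, y) ≠ 0
  obtain ⟨v, y, hv, hvy⟩ : ∃ v y : V, Q₀ v ≠ 0 ∧ QuadraticMap.polar Q₀ v y ≠ 0 := by
    by_cases hu : Q₀ u = 0
    · by_cases hw : Q₀ w = 0
      · refine ⟨u + w, w, ?_, ?_⟩
        · rw [QuadraticMap.map_add Q₀, hu, hw, zero_add, zero_add]; exact huw
        · rw [QuadraticMap.polar_add_left, polar_self', add_zero]; exact huw
      · refine ⟨w, u, hw, ?_⟩
        rw [QuadraticMap.polar_comm]; exact huw
    · exact ⟨u, w, hu, huw⟩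
  have hv0 : v ≠ 0 := by
    intro h; apply hv; rw [h, QuadraticMap.map_zero]
  obtain ⟨g, hg⟩ := exists_equiv_apply_eq (F := F) e v he hv0
  refine ⟨Q₀.comp (g : V →ₗ[F] V), hst Q₀ hQ₀ g, ?_, g.symm y, ?_⟩
  · show Q₀ (g e) ≠ 0
    rw [hg]; exact hv
  · rw [polar_comp_equiv, hg, LinearEquiv.apply_symm_apply]
    exact hvy

/-- EB : some member vanishes at `(1, 0)` and has nonzero polar form on `0 × W` -/
theorem exists_sing_split {W : Type*} [AddCommGroup W] [Module F W] [FiniteDimensional F W]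
    (hW : 2 ≤ Module.finrank F W) (𝒬 : Set (QuadraticForm F (F × W))) (hst : Stable 𝒬)
    (hp : HasPolar 𝒬) :
    ∃ Q ∈ 𝒬, Q ((1 : F), (0 : W)) = 0 ∧
      ∃ h₁ h₂ : W, QuadraticMap.polar Q ((0 : F), h₁) ((0 : F), h₂) ≠ 0 := by
  obtain ⟨Q₀, hQ₀, x, y, hxy⟩ := hp
  have hdim : 3 ≤ Module.finrank F (F × W) := by
    rw [Module.finrank_prod, Module.finrank_self]; omega
  obtain ⟨v, u, w, hli, hv, huw⟩ := exists_singular_triple Q₀ hdim ⟨x, y, hxy⟩
  -- two independent vectors of W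
  obtain ⟨h₁, h₂, h12⟩ : ∃ h₁ h₂ : W, LinearIndependent F ![h₁, h₂] := by
    have hb := Module.finBasis F W
    have h0 : 0 < Module.finrank F W := by omega
    have h1 : 1 < Module.finrank F W := by omega
    refine ⟨hb ⟨0, h0⟩, hb ⟨1, h1⟩, ?_⟩
    have hinj : Function.Injective (![⟨0, h0⟩, ⟨1, h1⟩] : Fin 2 → Fin (Module.finrank F W)) := by
      intro i j hij
      fin_cases i <;> fin_cases j <;> simp_all [Fin.ext_iff]
    have := hb.linearIndependent.comp _ hinj
    convert this using 1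
    ext i
    fin_cases i <;> rfl
  have hli0 : LinearIndependent F ![((1 : F), (0 : W)), ((0 : F), h₁), ((0 : F), h₂)] := by
    rw [Fintype.linearIndependent_iff] at h12 ⊢
    intro c hc
    rw [Fin.sum_univ_three] at hc
    simp only [Matrix.cons_val_zero, Matrix.cons_val_one, Matrix.cons_val_two, Matrix.head_cons,
      Matrix.tail_cons] at hc
    have hc1 := congrArg Prod.fst hc
    have hc2 := congrArg Prod.snd hc
    simp at hc1 hc2
    have h := h12 ![c 1, c 2] (by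
      rw [Fin.sum_univ_two]
      simpa using hc2)
    intro i
    fin_cases i
    · exact hc1
    · exact h 0
    · exact h 1
  obtain ⟨g, hg⟩ := exists_equiv_of_li (F := F) _ _ hli0 hli
  have hg0 : g ((1 : F), (0 : W)) = v := hg 0
  have hg1 : g ((0 : F), h₁) = u := hg 1
  have hg2 : g ((0 : F), h₂) = w := hg 2
  refine ⟨Q₀.comp (g : (F × W) →ₗ[F] (F × W)), hst Q₀ hQ₀ g, ?_, h₁, h₂, ?_⟩
  · show Q₀ (g ((1 : F), (0 : W))) = 0
    rw [hg0]; exact hv
  · rw [polar_comp_equiv, hg1, hg2]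
    exact huw

end E

end Cfsg.Agent.Lib.Helper18.SpEE
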