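import Mathlib

set_option autoImplicit false

namespace Cfsg.Agent.Lib.Helper18.SymAut

open Equiv Equiv.Perm Nat

theorem fact_lt (m : ℕ) (hm : 4 ≤ m) : 2 ^ (m - 1) * m ! < (2 * m - 2)! := by
  induction m, hm using Nat.le_induction with
  | base => decide
  | succ m hm ih =>
    have h1 : 2 * (m + 1) - 2 = (2 * m - 2) + 2 := by omega
    have h2 : m + 1 - 1 = (m - 1) + 1 := by omega
    rw [h1, h2, Nat.factorial_succ (2 * m - 2 + 1), Nat.factorial_succ (2 * m - 2), Nat.factorial_succ m, pow_succ]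
    have h3 : 2 * (m + 1) ≤ (2 * m - 2 + 1 + 1) * (2 * m - 2 + 1) := by
      have : 2 * m - 2 + 1 + 1 = 2 * m := by omega
      rw [this]
      have : 2 ≤ 2 * m - 2 + 1 := by omega
      nlinarith
    calc 2 ^ (m - 1) * 2 * ((m + 1) * m !) = (2 ^ (m - 1) * m !) * (2 * (m + 1)) := by ring
      _ < (2 * m - 2)! * (2 * (m + 1)) := by
        apply Nat.mul_lt_mul_of_pos_right ih (by omega)
      _ ≤ (2 * m - 2)! * ((2 * m - 2 + 1 + 1) * (2 * m - 2 + 1)) := Nat.mul_le_mul_left _ h3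
      _ = (2 * m - 2 + 1 + 1) * ((2 * m - 2 + 1) * (2 * m - 2)!) := by ring

theorem arith (n m : ℕ) (hn : 5 ≤ n) (h6 : n ≠ 6) (hm : 1 ≤ m) (hmn : 2 * m ≤ n)
    (h : (n - 2 * m)! * 2 ^ m * m ! = (n - 2)! * 2) : m = 1 := by
  by_contra hne
  have hm2 : 2 ≤ m := by omega
  have hk : 2 * m - 2 ≤ n - 2 := by omega
  have hf := Nat.factorial_mul_descFactorial hk
  have hsub : n - 2 - (2 * m - 2) = n - 2 * m := by omega
  rw [hsub] at hf
  rw [← hf] at h
  have hpos : 0 < (n - 2 * m)! := Nat.factorial_pos _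
  have h' : 2 ^ m * m ! = (n - 2).descFactorial (2 * m - 2) * 2 := by
    have : (n - 2 * m)! * (2 ^ m * m !) = (n - 2 * m)! * ((n - 2).descFactorial (2 * m - 2) * 2) := by
      rw [← mul_assoc, ← mul_assoc]; exact h
    exact Nat.eq_of_mul_eq_mul_left hpos this
  have h'' : 2 ^ (m - 1) * m ! = (n - 2).descFactorial (2 * m - 2) := by
    have h2 : 2 ^ m = 2 ^ (m - 1) * 2 := by rw [← pow_succ]; congr 1; omega
    rw [h2] at h'
    have : 2 * (2 ^ (m - 1) * m !) = 2 * (n - 2).descFactorial (2 * m - 2) := by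
      rw [mul_comm 2 ((n - 2).descFactorial _), ← h']; ring
    exact Nat.eq_of_mul_eq_mul_left (by norm_num) this
  rcases Nat.lt_or_ge m 4 with hlt | hge
  · interval_cases m
    · have hmono := Nat.descFactorial_le 2 (show 3 ≤ n - 2 by omega)
      have : (3 : ℕ).descFactorial 2 = 6 := by decide
      have e1 : 2 ^ (2 - 1) * 2 ! = 4 := by decide
      have e2 : 2 * 2 - 2 = 2 := by norm_num
      rw [e1, e2] at h''
      omega
    · have hn7 : 7 ≤ n := by omega
      have hmono := Nat.descFactorial_le 4 (show 5 ≤ n - 2 by omega)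
      have : (5 : ℕ).descFactorial 4 = 120 := by decide
      have e1 : 2 ^ (3 - 1) * 3 ! = 24 := by decide
      have e2 : 2 * 3 - 2 = 4 := by norm_num
      rw [e1, e2] at h''
      omega
  · have hmono := Nat.descFactorial_le (2 * m - 2) hk
    rw [Nat.descFactorial_self] at hmono
    have := fact_lt m hge
    omega

theorem card_centralizer_replicate {α : Type*} [Fintype α] [DecidableEq α] (σ : Perm α) (m : ℕ)
    (hm : 1 ≤ m) (hσ : σ.cycleType = Multiset.replicate m 2) :
    Nat.card (Subgroup.centralizer {σ}) = (Fintype.card α - 2 * m)! * 2 ^ m * m ! := by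
  rw [Equiv.Perm.nat_card_centralizer, hσ, Multiset.sum_replicate, Multiset.prod_replicate]
  have h1 : (Multiset.replicate m 2).toFinset = {2} := by
    ext x
    simp only [Multiset.mem_toFinset, Multiset.mem_replicate, Finset.mem_singleton]
    constructor
    · rintro ⟨_, rfl⟩; rfl
    · rintro rfl; exact ⟨by omega, rfl⟩
  rw [h1, Finset.prod_singleton, Multiset.count_replicate_self, smul_eq_mul, mul_comm m 2]

theorem card_centralizer_swap {α : Type*} [Fintype α] [DecidableEq α] (τ : Perm α) (hτ : τ.IsSwap) :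
    Nat.card (Subgroup.centralizer {τ}) = (Fintype.card α - 2)! * 2 := by
  have h := card_centralizer_replicate τ 1 le_rfl
    (by rw [Equiv.Perm.isSwap_iff_cycleType.mp hτ]; rfl)
  simpa using h

theorem card_centralizer_map {G G' : Type*} [Group G] [Group G'] (e : G ≃* G') (g : G) :
    Nat.card (Subgroup.centralizer {e g}) = Nat.card (Subgroup.centralizer {g}) := by
  apply Nat.card_congr
  refine ⟨fun x => ⟨e.symm x.1, ?_⟩, fun x => ⟨e x.1, ?_⟩, ?_, ?_⟩
  · have hx := Subgroup.mem_centralizer_singleton_iff.mp x.2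
    rw [Subgroup.mem_centralizer_singleton_iff]
    apply e.injective
    simp only [map_mul, MulEquiv.apply_symm_apply]
    exact hx
  · have hx := Subgroup.mem_centralizer_singleton_iff.mp x.2
    rw [Subgroup.mem_centralizer_singleton_iff, ← map_mul, ← map_mul, hx]
  · intro x; ext1; simp
  · intro x; ext1; simp

theorem isSwap_map {α β : Type*} [Fintype α] [DecidableEq α] [Fintype β] [DecidableEq β]
    (hcard : Fintype.card α = Fintype.card β) (h5 : 5 ≤ Fintype.card α) (h6 : Fintype.card α ≠ 6)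
    (e : Perm α ≃* Perm β) (τ : Perm α) (hτ : τ.IsSwap) : (e τ).IsSwap := by
  have hord : orderOf (e τ) = 2 := by
    rw [MulEquiv.orderOf_eq]; exact hτ.orderOf
  have hp : (orderOf (e τ)).Prime := by rw [hord]; exact Nat.prime_two
  obtain ⟨k, hk⟩ := Equiv.Perm.cycleType_prime_order hp
  rw [hord] at hk
  have hsum := Equiv.Perm.sum_cycleType_le (e τ)
  rw [hk, Multiset.sum_replicate, smul_eq_mul, ← hcard] at hsum
  have hc1 := card_centralizer_replicate (e τ) (k + 1) (by omega) hk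
  have hc2 := card_centralizer_swap τ hτ
  rw [card_centralizer_map e τ, hc2, ← hcard] at hc1
  have := arith (Fintype.card α) (k + 1) h5 h6 (by omega) (by omega) hc1.symm
  have hk0 : k = 0 := by omega
  rw [Equiv.Perm.isSwap_iff_cycleType, hk, hk0]
  rfl

theorem commute_swap_of_fix {α : Type*} [DecidableEq α] (σ : Perm α) (x y : α)
    (hx : σ x = x) (hy : σ y = y) : Commute σ (swap x y) := by
  have h := Equiv.swap_apply_apply σ x y
  rw [hx, hy] at h
  have : σ * swap x y = swap x y * σ := by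
    conv_rhs => rw [h]
    group
  exact this

theorem moves_of_not_commute {α : Type*} [DecidableEq α] (σ : Perm α) (x y : α)
    (h : ¬ Commute σ (swap x y)) : σ x ≠ x ∨ σ y ≠ y := by
  by_contra hc
  push Not at hc
  exact h (commute_swap_of_fix σ x y hc.1 hc.2)

theorem swap_eq_of_moves {α : Type*} [DecidableEq α] (σ : Perm α) (hσ : σ.IsSwap) (b c : α)
    (hbc : b ≠ c) (hb : σ b ≠ b) (hc : σ c ≠ c) : σ = swap b c := by
  obtain ⟨x, y, hxy, rfl⟩ := hσ
  have hb' : b = x ∨ b = y := by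
    by_contra h
    push Not at h
    exact hb (Equiv.swap_apply_of_ne_of_ne h.1 h.2)
  have hc' : c = x ∨ c = y := by
    by_contra h
    push Not at h
    exact hc (Equiv.swap_apply_of_ne_of_ne h.1 h.2)
  rcases hb' with rfl | rfl <;> rcases hc' with rfl | rfl
  · exact absurd rfl hbc
  · rfl
  · exact Equiv.swap_comm _ _
  · exact absurd rfl hbc

theorem swap_of_moves {α : Type*} [DecidableEq α] (σ : Perm α) (hσ : σ.IsSwap) (a : α)
    (ha : σ a ≠ a) : ∃ c, c ≠ a ∧ σ = swap a c := by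
  obtain ⟨x, y, hxy, rfl⟩ := hσ
  have ha' : a = x ∨ a = y := by
    by_contra h
    push Not at h
    exact ha (Equiv.swap_apply_of_ne_of_ne h.1 h.2)
  rcases ha' with rfl | rfl
  · exact ⟨y, hxy.symm, rfl⟩
  · exact ⟨x, hxy, Equiv.swap_comm _ _⟩

theorem star_aux {α ι : Type*} [DecidableEq α] (σ : ι → Perm α) (hsw : ∀ i, (σ i).IsSwap)
    (hnc : ∀ i j, i ≠ j → ¬ Commute (σ i) (σ j)) (i1 i2 i3 i4 : ι)
    (h12 : i1 ≠ i2) (h13 : i1 ≠ i3) (h14 : i1 ≠ i4) (h23 : i2 ≠ i3) (h24 : i2 ≠ i4) (h34 : i3 ≠ i4)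
    (a b : α) (hab : a ≠ b) (h1 : σ i1 = swap a b) (h2 : σ i2 a ≠ a) :
    ∀ i, σ i a ≠ a := by
  obtain ⟨c, hca, h2c⟩ := swap_of_moves (σ i2) (hsw i2) a h2
  have hcb : c ≠ b := by
    rintro rfl
    apply hnc i1 i2 h12
    rw [h1, h2c]
  have claim : ∀ i, i ≠ i1 → i ≠ i2 → σ i a ≠ a ∨ σ i = swap b c := by
    intro i hi1 hi2
    by_cases hia : σ i a = a
    · right
      have hb : σ i b ≠ b := by
        have := moves_of_not_commute (σ i) a b (by rw [← h1]; exact hnc i i1 hi1)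
        tauto
      have hc : σ i c ≠ c := by
        have := moves_of_not_commute (σ i) a c (by rw [← h2c]; exact hnc i i2 hi2)
        tauto
      exact swap_eq_of_moves (σ i) (hsw i) b c hcb.symm hb hc
    · left; exact hia
  have hex : ∃ i0, i0 ≠ i1 ∧ i0 ≠ i2 ∧ σ i0 a ≠ a := by
    rcases claim i3 h13.symm h23.symm with h | h
    · exact ⟨i3, h13.symm, h23.symm, h⟩
    · rcases claim i4 h14.symm h24.symm with h' | h'
      · exact ⟨i4, h14.symm, h24.symm, h'⟩
      · exfalso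
        apply hnc i3 i4 h34
        rw [h, h']
  obtain ⟨i0, h01, h02, h0a⟩ := hex
  obtain ⟨d, hda, h0d⟩ := swap_of_moves (σ i0) (hsw i0) a h0a
  have hdb : d ≠ b := by
    rintro rfl
    apply hnc i0 i1 h01
    rw [h1, h0d]
  have hdc : d ≠ c := by
    rintro rfl
    apply hnc i0 i2 h02
    rw [h2c, h0d]
  intro i
  by_cases hi1 : i = i1
  · rw [hi1, h1, Equiv.swap_apply_left]; exact hab.symm
  by_cases hi2 : i = i2
  · rw [hi2]; exact h2
  rcases claim i hi1 hi2 with h | h
  · exact h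
  · exfalso
    by_cases hi0 : i = i0
    · rw [hi0] at h
      apply h0a
      rw [h]
      exact Equiv.swap_apply_of_ne_of_ne hab hca.symm
    · apply hnc i i0 hi0
      rw [h, h0d]
      apply commute_swap_of_fix
      · exact Equiv.swap_apply_of_ne_of_ne hab hca.symm
      · exact Equiv.swap_apply_of_ne_of_ne hdb hdc

theorem star {α ι : Type*} [DecidableEq α] (σ : ι → Perm α) (hsw : ∀ i, (σ i).IsSwap)
    (hnc : ∀ i j, i ≠ j → ¬ Commute (σ i) (σ j)) (i1 i2 i3 i4 : ι)
    (h12 : i1 ≠ i2) (h13 : i1 ≠ i3) (h14 : i1 ≠ i4) (h23 : i2 ≠ i3) (h24 : i2 ≠ i4) (h34 : i3 ≠ i4) :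
    ∃ a, ∀ i, σ i a ≠ a := by
  obtain ⟨a, b, hab, h1⟩ := hsw i1
  have hm : σ i2 a ≠ a ∨ σ i2 b ≠ b :=
    moves_of_not_commute (σ i2) a b (by rw [← h1]; exact hnc i2 i1 h12.symm)
  rcases hm with h | h
  · exact ⟨a, star_aux σ hsw hnc i1 i2 i3 i4 h12 h13 h14 h23 h24 h34 a b hab h1 h⟩
  · exact ⟨b, star_aux σ hsw hnc i1 i2 i3 i4 h12 h13 h14 h23 h24 h34 b a hab.symm
      (by rw [h1]; exact Equiv.swap_comm _ _) h⟩

theorem not_commute_swap {β : Type*} [DecidableEq β] (x0 y y' : β) (hy : y ≠ x0) (hy' : y' ≠ x0)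
    (hyy : y ≠ y') : ¬ Commute (swap x0 y) (swap x0 y') := by
  intro h
  have h1 : (swap x0 y * swap x0 y') y = (swap x0 y' * swap x0 y) y := by rw [h.eq]
  simp only [Perm.mul_apply] at h1
  rw [Equiv.swap_apply_of_ne_of_ne hy hyy, Equiv.swap_apply_right, Equiv.swap_apply_left] at h1
  exact hy' h1.symm

theorem fix_point_of_iso {α β : Type*} [Fintype α] [DecidableEq α] [Fintype β] [DecidableEq β]
    (hcard : Fintype.card α = Fintype.card β) (h5 : 5 ≤ Fintype.card α) (h6 : Fintype.card α ≠ 6)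
    (e : Perm α ≃* Perm β) (x0 : β) :
    ∃ ω : α, ∀ g : Perm α, e g x0 = x0 → g ω = ω := by
  let ι := {y : β // y ≠ x0}
  let σ : ι → Perm α := fun y => e.symm (swap x0 y.1)
  have hsw : ∀ i, (σ i).IsSwap := by
    intro i
    apply isSwap_map hcard.symm (by omega) (by omega) e.symm
    exact ⟨x0, i.1, i.2.symm, rfl⟩
  have hnc : ∀ i j, i ≠ j → ¬ Commute (σ i) (σ j) := by
    intro i j hij hc
    have hc' : Commute (e (σ i)) (e (σ j)) := hc.map e
    simp only [σ, MulEquiv.apply_symm_apply] at hc'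
    exact not_commute_swap x0 i.1 j.1 i.2 j.2 (fun h => hij (Subtype.ext h)) hc'
  have hcι : 4 ≤ Fintype.card ι := by
    have : Fintype.card ι = Fintype.card β - 1 := by
      simp only [ι]
      rw [Fintype.card_subtype_compl, Fintype.card_subtype_eq]
    omega
  obtain ⟨f⟩ : Nonempty (Fin 4 ↪ ι) := Function.Embedding.nonempty_of_card_le (by simpa using hcι)
  have hf : ∀ a b : Fin 4, a ≠ b → f a ≠ f b := fun a b hab h => hab (f.injective h)
  obtain ⟨ω, hω⟩ := star σ hsw hnc (f 0) (f 1) (f 2) (f 3) (hf _ _ (by decide)) (hf _ _ (by decide))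
    (hf _ _ (by decide)) (hf _ _ (by decide)) (hf _ _ (by decide)) (hf _ _ (by decide))
  refine ⟨ω, fun g hg => ?_⟩
  have hconj : ∀ i : ι, ∃ j : ι, g * σ i * g⁻¹ = σ j := by
    intro i
    have hne : e g i.1 ≠ x0 := by
      intro h
      have : e g i.1 = e g x0 := by rw [h, hg]
      exact i.2 ((e g).injective this)
    refine ⟨⟨e g i.1, hne⟩, ?_⟩
    apply e.injective
    simp only [σ, map_mul, map_inv, MulEquiv.apply_symm_apply]
    rw [← Equiv.swap_apply_apply, hg]
  by_contra hgω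
  have hne : g⁻¹ ω ≠ ω := by
    intro h
    apply hgω
    have := congrArg g h
    simpa using this.symm
  have hmv : ∀ i : ι, σ i (g⁻¹ ω) ≠ g⁻¹ ω := by
    intro i
    obtain ⟨j, hj⟩ := hconj i
    have := hω j
    rw [← hj] at this
    intro h
    apply this
    simp only [Perm.mul_apply]
    rw [h]
    simp
  have hall : ∀ i : ι, σ i = swap ω (g⁻¹ ω) := fun i =>
    swap_eq_of_moves (σ i) (hsw i) ω (g⁻¹ ω) hne.symm (hω i) (hmv i)
  apply hnc (f 0) (f 1) (hf _ _ (by decide))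
  rw [hall (f 0), hall (f 1)]

theorem eq_stabilizer_of_fix {Ω : Type*} [Fintype Ω] [DecidableEq Ω] (H : Subgroup (Perm Ω))
    (hH : H.index = Fintype.card Ω) (ω : Ω) (hfix : ∀ g ∈ H, g ω = ω) :
    H = MulAction.stabilizer (Perm Ω) ω := by
  have hle : H ≤ MulAction.stabilizer (Perm Ω) ω := by
    intro g hg
    rw [MulAction.mem_stabilizer_iff, Perm.smul_def]
    exact hfix g hg
  have hidx := MulAction.index_stabilizer_of_transitive (Perm Ω) ω
  rw [Nat.card_eq_fintype_card] at hidx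
  have hmul := Subgroup.relIndex_mul_index hle
  rw [hidx, hH] at hmul
  have hpos : 0 < Fintype.card Ω := Fintype.card_pos_iff.mpr ⟨ω⟩
  have h1 : H.relIndex (MulAction.stabilizer (Perm Ω) ω) = 1 := by
    have : H.relIndex (MulAction.stabilizer (Perm Ω) ω) * Fintype.card Ω = 1 * Fintype.card Ω := by
      rw [hmul, one_mul]
    exact Nat.eq_of_mul_eq_mul_right hpos this
  exact le_antisymm hle (Subgroup.relIndex_eq_one.mp h1)

theorem large_case {Ω : Type*} [Fintype Ω] [DecidableEq Ω] (h5 : 5 ≤ Fintype.card Ω)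
    (h6 : Fintype.card Ω ≠ 6) (H : Subgroup (Perm Ω)) (hH : H.index = Fintype.card Ω) :
    ∃ x : Ω, H = MulAction.stabilizer (Perm Ω) x := by
  classical
  let X := Perm Ω ⧸ H
  haveI : Fintype X := Fintype.ofFinite X
  have hcardX : Fintype.card X = Fintype.card Ω := by
    rw [← hH, ← Nat.card_eq_fintype_card]; rfl
  have hcore : H.normalCore = ⊥ := by
    by_contra hne
    have hnt : Nontrivial H.normalCore := (Subgroup.nontrivial_iff_ne_bot _).mpr hne
    have hle : alternatingGroup Ω ≤ H :=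
      (Equiv.Perm.alternatingGroup_le_of_normal (by rw [Nat.card_eq_fintype_card]; exact h5) hnt).trans
        H.normalCore_le
    have : Nontrivial Ω := Fintype.one_lt_card_iff_nontrivial.mp (by omega)
    have h2 := Subgroup.relIndex_mul_index hle
    rw [alternatingGroup.index_eq_two] at h2
    have hdvd : H.index ∣ 2 := Dvd.intro_left _ h2
    have := Nat.le_of_dvd (by norm_num) hdvd
    omega
  have hinj : Function.Injective (MulAction.toPermHom (Perm Ω) X) := by
    rw [← MonoidHom.ker_eq_bot_iff, ← Subgroup.normalCore_eq_ker, hcore]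
  have hbij : Function.Bijective (MulAction.toPermHom (Perm Ω) X) := by
    rw [Fintype.bijective_iff_injective_and_card]
    refine ⟨hinj, ?_⟩
    rw [Fintype.card_perm, Fintype.card_perm, hcardX]
  let e : Perm Ω ≃* Perm X := MulEquiv.ofBijective (MulAction.toPermHom (Perm Ω) X) hbij
  obtain ⟨ω, hω⟩ := fix_point_of_iso hcardX.symm h5 h6 e ((1 : Perm Ω) : X)
  refine ⟨ω, eq_stabilizer_of_fix H hH ω fun g hg => hω g ?_⟩
  show (MulAction.toPermHom (Perm Ω) X g) ((1 : Perm Ω) : X) = ((1 : Perm Ω) : X)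
  rw [MulAction.toPermHom_apply, MulAction.toPerm_apply, MulAction.Quotient.smul_coe, smul_eq_mul, mul_one]
  exact QuotientGroup.eq.mpr (by simpa using H.inv_mem hg)

theorem unique_fix_of_prime {Ω : Type*} [Fintype Ω] [DecidableEq Ω] (p : ℕ) (hp : p.Prime)
    (hcard : Fintype.card Ω = p + 1) (ρ : Perm Ω) (hρ : orderOf ρ = p) :
    ∃ ω : Ω, ρ ω = ω ∧ ∀ y, ρ y = y → y = ω := by
  obtain ⟨k, hk⟩ := Equiv.Perm.cycleType_prime_order (σ := ρ) (by rw [hρ]; exact hp)
  rw [hρ] at hk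
  have hsum := Equiv.Perm.sum_cycleType_le ρ
  rw [hk, Multiset.sum_replicate, smul_eq_mul, hcard] at hsum
  have hp2 := hp.two_le
  have hk0 : k = 0 := by
    by_contra hne
    have : 2 ≤ k + 1 := by omega
    nlinarith
  have hfp := Equiv.Perm.card_fixedPoints ρ
  rw [hk, hk0, Multiset.sum_replicate, smul_eq_mul, hcard] at hfp
  have hfp1 : Fintype.card (Function.fixedPoints ρ) = 1 := by rw [hfp]; omega
  obtain ⟨⟨ω, hω⟩, huniq⟩ := Fintype.card_eq_one_iff.mp hfp1
  refine ⟨ω, hω, fun y hy => ?_⟩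
  have := huniq ⟨y, hy⟩
  exact congrArg Subtype.val this

theorem fix_of_normal_prime {Ω : Type*} [Fintype Ω] [DecidableEq Ω] (p : ℕ) (hp : p.Prime)
    (hcard : Fintype.card Ω = p + 1) (H : Subgroup (Perm Ω)) (ρ : H) (hρ : orderOf ρ = p)
    (hN : (Subgroup.zpowers ρ).Normal) : ∃ ω : Ω, ∀ g ∈ H, g ω = ω := by
  have hρ' : orderOf (ρ : Perm Ω) = p := by rw [Subgroup.orderOf_coe]; exact hρ
  obtain ⟨ω, hω, huniq⟩ := unique_fix_of_prime p hp hcard (ρ : Perm Ω) hρ'
  refine ⟨ω, fun g hg => ?_⟩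
  have hmem : (⟨g, hg⟩ : H) * ρ * (⟨g, hg⟩ : H)⁻¹ ∈ Subgroup.zpowers ρ :=
    hN.conj_mem ρ (Subgroup.mem_zpowers ρ) ⟨g, hg⟩
  obtain ⟨j, hj⟩ := Subgroup.mem_zpowers_iff.mp hmem
  have hj' : (ρ : Perm Ω) ^ j = g * (ρ : Perm Ω) * g⁻¹ := by
    have := congrArg (Subtype.val) hj
    simpa using this
  have hord : orderOf (g * (ρ : Perm Ω) * g⁻¹) = p := by
    rw [← MulAut.conj_apply, MulEquiv.orderOf_eq]; exact hρ'
  obtain ⟨ω', hω', huniq'⟩ := unique_fix_of_prime p hp hcard _ hord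
  have h1 : (g * (ρ : Perm Ω) * g⁻¹) (g ω) = g ω := by
    simp [Perm.mul_apply, hω]
  have h2 : (g * (ρ : Perm Ω) * g⁻¹) ω = ω := by
    rw [← hj']
    exact Equiv.Perm.zpow_apply_eq_self_of_apply_eq_self hω j
  rw [huniq' _ h1, huniq' _ h2]

theorem small_cases {Ω : Type*} [Fintype Ω] [DecidableEq Ω] (h4 : Fintype.card Ω ≤ 4)
    (H : Subgroup (Perm Ω)) (hH : H.index = Fintype.card Ω) :
    ∃ x : Ω, H = MulAction.stabilizer (Perm Ω) x := by
  have hidx0 : H.index ≠ 0 := Subgroup.index_ne_zero_of_finite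
  have hmul := H.card_mul_index
  rw [Nat.card_perm, hH, Nat.card_eq_fintype_card (α := Ω)] at hmul
  have hpos : 0 < Fintype.card Ω := by omega
  obtain ⟨x0⟩ := Fintype.card_pos_iff.mp hpos
  suffices h : ∃ ω : Ω, ∀ g ∈ H, g ω = ω by
    obtain ⟨ω, hω⟩ := h
    exact ⟨ω, eq_stabilizer_of_fix H hH ω hω⟩
  have hcases : Fintype.card Ω = 1 ∨ Fintype.card Ω = 2 ∨ Fintype.card Ω = 3 ∨ Fintype.card Ω = 4 := by
    omega
  rcases hcases with h | h | h | h
  · obtain ⟨x, hx⟩ := Fintype.card_eq_one_iff.mp h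
    exact ⟨x, fun g _ => hx _⟩
  · rw [h] at hmul
    have hc : Nat.card H = 1 := by
      have : Nat.card H * 2 = 1 * 2 := by rw [hmul]; decide
      exact Nat.eq_of_mul_eq_mul_right (by norm_num) this
    have hbot : H = ⊥ := Subgroup.eq_bot_of_card_eq H hc
    refine ⟨x0, fun g hg => ?_⟩
    rw [hbot, Subgroup.mem_bot] at hg
    rw [hg]; rfl
  · rw [h] at hmul
    have hc : Nat.card H = 2 := by
      have : Nat.card H * 3 = 2 * 3 := by rw [hmul]; decide
      exact Nat.eq_of_mul_eq_mul_right (by norm_num) this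
    have : Fact (Nat.Prime 2) := ⟨Nat.prime_two⟩
    obtain ⟨ρ, hρ⟩ := exists_prime_orderOf_dvd_card' (G := H) 2 (by rw [hc])
    have htop : Subgroup.zpowers ρ = ⊤ := by
      apply Subgroup.eq_top_of_card_eq
      rw [Nat.card_zpowers, hρ, hc]
    exact fix_of_normal_prime 2 Nat.prime_two h H ρ hρ (by rw [htop]; infer_instance)
  · rw [h] at hmul
    have hc : Nat.card H = 6 := by
      have : Nat.card H * 4 = 6 * 4 := by rw [hmul]; decide
      exact Nat.eq_of_mul_eq_mul_right (by norm_num) this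
    have : Fact (Nat.Prime 3) := ⟨Nat.prime_three⟩
    obtain ⟨ρ, hρ⟩ := exists_prime_orderOf_dvd_card' (G := H) 3 (by rw [hc]; decide)
    have hidx : (Subgroup.zpowers ρ).index = 2 := by
      have := (Subgroup.zpowers ρ).card_mul_index
      rw [Nat.card_zpowers, hρ, hc] at this
      omega
    exact fix_of_normal_prime 3 Nat.prime_three h H ρ hρ (Subgroup.normal_of_index_eq_two hidx)

theorem main {Ω : Type*} [Fintype Ω] [DecidableEq Ω] (h6 : Fintype.card Ω ≠ 6)
    (H : Subgroup (Perm Ω)) (hH : H.index = Fintype.card Ω) :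
    ∃ x : Ω, H = MulAction.stabilizer (Perm Ω) x := by
  rcases Nat.lt_or_ge (Fintype.card Ω) 5 with h | h
  · exact small_cases (by omega) H hH
  · exact large_case h h6 H hH

end Cfsg.Agent.Lib.Helper18.SymAut
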