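import Mathlib
import Cfsg.Agent.Lib.helper3.T2E.Defs3
import Cfsg.Agent.Lib.helper8.ChevTwE6H16
import Cfsg.Agent.Lib.helper8.ChevTwE6c

set_option autoImplicit false

namespace Cfsg.Agent.Lib.helper3.T2E

open Cfsg.Lie Cfsg.Lie.ChevalleyDatum Matrix
open Cfsg.Agent.Lib.helper8 Cfsg.Agent.Lib.Helper10.TEM Cfsg.Agent.Lib.helper7.Ce
  Cfsg.Agent.Lib.helper15.St2

universe u

variable {K : Type u} [Field K] {q : ℕ} {f : K ≃+* K} {Γ : Type u} [Group Γ]
  {π : Γ →* ↥(twistedE6 K q)}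

theorem t2el1h18_s42 : h8sE6 42 ≠ 42 := by decide
theorem t2el1h18_s40 : h8sE6 40 ≠ 40 := by decide
theorem t2el1h18_s44 : h8sE6 44 = 44 := by decide

theorem t2el1h18_adm42 (t : K) : Adm q 42 t := fun h => absurd h t2el1h18_s42
theorem t2el1h18_adm40 (t : K) : Adm q 40 t := fun h => absurd h t2el1h18_s40

theorem t2el1h18_XT42 (t : K) : XT q 42 t = XS q 42 t := if_neg t2el1h18_s42
theorem t2el1h18_XT40 (t : K) : XT q 40 t = XS q 40 t := if_neg t2el1h18_s40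
theorem t2el1h18_XT44 (t : K) : XT q 44 t = X 44 t := if_pos t2el1h18_s44

/-- the Frobenius fixes `ε (x + x^q)`, `ε = ±1` -/
theorem t2el1h18_fix (hF : Frob q f) {ε : K} (hε : ε = 1 ∨ ε = -1) (x : K) :
    (ε * (x + x ^ q)) ^ q = ε * (x + x ^ q) := by
  have hε' : ε ^ q = ε := by
    rcases hε with rfl | rfl
    · exact one_pow q
    · exact hF.neg
  have h1 : (x + x ^ q) ^ q = x ^ q + x := by
    rw [← hF.pow, map_add, hF.pow x, hF.pow (x ^ q), ← hF.pow x, ← hF.pow (f x), hF.inv]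
  rw [mul_pow, hε', h1, add_comm]

/-- the commutator of the lifts at `42`, `40` is a lift of an admissible element of the root group `44` -/
theorem t2el1h18_map (hF : Frob q f) {L42 L40 : K → Γ} (h42 : IsRootLift q π 42 L42)
    (h40 : IsRootLift q π 40 L40) {ε : K} (hε : ε = 1 ∨ ε = -1)
    (hD : ∀ t u : K, cm (XS q 42 t) (XS q 40 u) = X 44 (ε * (t * u + (t * u) ^ q))) (t u : K) :
    Adm q 44 (ε * (t * u + (t * u) ^ q)) ∧
      pm π (cm (L42 t) (L40 u)) = XT q 44 (ε * (t * u + (t * u) ^ q)) := by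
  refine ⟨fun _ => t2el1h18_fix hF hε _, ?_⟩
  rw [map_cm, h42.map t (t2el1h18_adm42 t), h40.map u (t2el1h18_adm40 u), t2el1h18_XT42, t2el1h18_XT40,
    t2el1h18_XT44, hD]

/-- L1 core: hypotheses = the statements of D13c `comm_SL` and C3 `CLm_pairs` -/
theorem t2el1h18_core (hF : Frob q f) {L42 L40 : K → Γ} (h42 : IsRootLift q π 42 L42)
    (h40 : IsRootLift q π 40 L40)
    (hD13c : ∃ ε : K, (ε = 1 ∨ ε = -1) ∧
      ∀ t u : K, cm (XS q 42 t) (XS q 40 u) = X 44 (ε * (t * u + (t * u) ^ q)))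
    (hC3 : ∀ a b : ℕ, (a, b) ∈ [(42, 44), (40, 44), (46, 47), (39, 47), (56, 57), (42, 57), (39, 43), (39, 44),
      (44, 43), (39, 56)] → ∀ t u, Adm q a t → Adm q b u → CLm π (XT q a t) (XT q b u)) :
    (∀ s t u, cm (L42 (s + t)) (L40 u) = cm (L42 s) (L40 u) * cm (L42 t) (L40 u)) ∧
    (∀ s t u, cm (L42 s) (L40 (t + u)) = cm (L42 s) (L40 t) * cm (L42 s) (L40 u)) := by
  obtain ⟨ε, hε, hD⟩ := hD13c
  have hc42 : ∀ s t u, L42 s * cm (L42 t) (L40 u) = cm (L42 t) (L40 u) * L42 s := by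
    intro s t u
    obtain ⟨ha, hm⟩ := t2el1h18_map hF h42 h40 hε hD t u
    exact hC3 42 44 (by simp) s _ (t2el1h18_adm42 s) ha (L42 s) (cm (L42 t) (L40 u))
      (h42.map s (t2el1h18_adm42 s)) hm
  have hc40 : ∀ s t u, L40 s * cm (L42 t) (L40 u) = cm (L42 t) (L40 u) * L40 s := by
    intro s t u
    obtain ⟨ha, hm⟩ := t2el1h18_map hF h42 h40 hε hD t u
    exact hC3 40 44 (by simp) s _ (t2el1h18_adm40 s) ha (L40 s) (cm (L42 t) (L40 u))
      (h40.map s (t2el1h18_adm40 s)) hm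
  constructor
  · intro s t u
    rw [add_comm s t, h42.add t s (t2el1h18_adm42 t) (t2el1h18_adm42 s), cm_mul_left, hc42 t s u,
      mul_inv_cancel_right]
  · intro s t u
    rw [h40.add t u (t2el1h18_adm40 t) (t2el1h18_adm40 u), cm_mul_right, hc40 t s u, mul_inv_cancel_right]

end Cfsg.Agent.Lib.helper3.T2E
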