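import Mathlib
import Cfsg.Agent.Lib.helper3.T2E.Defs3
import Cfsg.Agent.Lib.helper8.ChevTwE6H16
import Cfsg.Agent.Lib.helper8.ChevTwE6c
import Cfsg.Agent.Lib.Helper20.T2ED10b
import Cfsg.Agent.Lib.Helper18.T2EL1core

set_option autoImplicit false

namespace Cfsg.Agent.Lib.helper3.T2E

open Cfsg.Lie Cfsg.Lie.ChevalleyDatum Matrix
open Cfsg.Agent.Lib.helper8 Cfsg.Agent.Lib.Helper10.TEM Cfsg.Agent.Lib.helper7.Ce
  Cfsg.Agent.Lib.helper15.St2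

universe u

variable {K : Type u} [Field K] {q : ℕ} {f : K ≃+* K} {Γ : Type u} [Group Γ]
  {π : Γ →* ↥(twistedE6 K q)}

theorem t2el2h18_s56 : h8sE6 56 = 36 := by decide
theorem t2el2h18_s46 : h8sE6 46 = 46 := by decide
theorem t2el2h18_K5642 : h8K chevE6 56 42 = -1 := by decide
theorem t2el2h18_K3642 : h8K chevE6 36 42 = 0 := by decide
theorem t2el2h18_K4642 : h8K chevE6 46 42 = 0 := by decide
theorem t2el2h18_K5640 : h8K chevE6 56 40 = 0 := by decide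
theorem t2el2h18_K3640 : h8K chevE6 36 40 = -1 := by decide
theorem t2el2h18_K4640 : h8K chevE6 46 40 = -1 := by decide
theorem t2el2h18_K5644 : h8K chevE6 56 44 = -1 := by decide
theorem t2el2h18_K3644 : h8K chevE6 36 44 = -1 := by decide
theorem t2el2h18_K4644 : h8K chevE6 46 44 = -1 := by decide

/-- the characters of `HT q 56 c` on `42`, `40`, `44` -/
theorem t2el2h18_chi56 (hF : Frob q f) (c : K) (hc : c ≠ 0) :
    h8chi chevE6 hB (HT q 56 c) 42 = c⁻¹ ∧ h8chi chevE6 hB (HT q 56 c) 40 = (c ^ q)⁻¹ ∧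
      h8chi chevE6 hB (HT q 56 c) 44 = c⁻¹ * (c ^ q)⁻¹ := by
  have hne : h8sE6 56 ≠ 56 := by decide
  refine ⟨?_, ?_, ?_⟩
  · rw [HT_chi hF 56 (by norm_num) c hc 42 (by norm_num), if_neg hne, t2el2h18_s56, t2el2h18_K5642,
      t2el2h18_K3642, _root_.zpow_neg_one, zpow_zero, mul_one]
  · rw [HT_chi hF 56 (by norm_num) c hc 40 (by norm_num), if_neg hne, t2el2h18_s56, t2el2h18_K5640,
      t2el2h18_K3640, _root_.zpow_neg_one, zpow_zero, one_mul]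
  · rw [HT_chi hF 56 (by norm_num) c hc 44 (by norm_num), if_neg hne, t2el2h18_s56, t2el2h18_K5644,
      t2el2h18_K3644, _root_.zpow_neg_one, _root_.zpow_neg_one]

/-- the characters of `HT q 46 c` on `42`, `40`, `44` -/
theorem t2el2h18_chi46 (hF : Frob q f) (c : K) (hc : c ≠ 0) :
    h8chi chevE6 hB (HT q 46 c) 42 = 1 ∧ h8chi chevE6 hB (HT q 46 c) 40 = c⁻¹ ∧
      h8chi chevE6 hB (HT q 46 c) 44 = c⁻¹ := by
  refine ⟨?_, ?_, ?_⟩
  · rw [HT_chi hF 46 (by norm_num) c hc 42 (by norm_num), if_pos t2el2h18_s46, t2el2h18_K4642, zpow_zero]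
  · rw [HT_chi hF 46 (by norm_num) c hc 40 (by norm_num), if_pos t2el2h18_s46, t2el2h18_K4640, _root_.zpow_neg_one]
  · rw [HT_chi hF 46 (by norm_num) c hc 44 (by norm_num), if_pos t2el2h18_s46, t2el2h18_K4644, _root_.zpow_neg_one]

/-- the torus element `HT q 56 lam⁻¹ * HT q 46 (lam * lam ^ q)`: in `T1`, characters `lam`, `lam⁻¹`, `1` on `42`, `40`, `44` -/
theorem t2el2h18_tor (hF : Frob q f) (lam : K) (hl : lam ≠ 0) :
    HT q 56 lam⁻¹ * HT q 46 (lam * lam ^ q) ∈ T1 K q ∧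
    h8chi chevE6 hB (HT q 56 lam⁻¹ * HT q 46 (lam * lam ^ q)) 42 = lam ∧
    h8chi chevE6 hB (HT q 56 lam⁻¹ * HT q 46 (lam * lam ^ q)) 40 = lam⁻¹ ∧
    h8chi chevE6 hB (HT q 56 lam⁻¹ * HT q 46 (lam * lam ^ q)) 44 = 1 := by
  have hn : chevE6.nroots = 72 := t2ed10h20_nroots
  have hli : lam⁻¹ ≠ 0 := inv_ne_zero hl
  have hlq : lam ^ q ≠ 0 := pow_ne_zero q hl
  have hd : lam * lam ^ q ≠ 0 := mul_ne_zero hl hlq
  have hadm56 : Adm q 56 (lam⁻¹ : K) := fun h => absurd h (by decide)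
  have hadm46 : Adm q 46 (lam * lam ^ q) := by
    intro _
    rw [mul_pow, ← hF.pow lam, ← hF.pow (f lam), hF.inv, mul_comm]
  have h1 := HT_mem hF 56 (by norm_num) lam⁻¹ hli hadm56
  have h2 := HT_mem hF 46 (by norm_num) (lam * lam ^ q) hd hadm46
  obtain ⟨a1, a2, a3⟩ := t2el2h18_chi56 hF lam⁻¹ hli
  obtain ⟨b1, b2, b3⟩ := t2el2h18_chi46 hF (lam * lam ^ q) hd
  refine ⟨Subgroup.mul_mem _ h1 h2, ?_, ?_, ?_⟩
  · rw [h8chi_mul chevE6 hB hA hW _ _ h1.1 h2.1 42 (by rw [hn]; norm_num), a1, b1, inv_inv, mul_one]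
  · rw [h8chi_mul chevE6 hB hA hW _ _ h1.1 h2.1 40 (by rw [hn]; norm_num), a2, b2, inv_pow, inv_inv]
    field_simp
  · rw [h8chi_mul chevE6 hB hA hW _ _ h1.1 h2.1 44 (by rw [hn]; norm_num), a3, b3, inv_pow, inv_inv, inv_inv]
    field_simp

/-- L2 core: hypotheses = the statements of D13c `comm_SL` and C5 `CLm_tor` (at `r = 44`) -/
theorem t2el2h18_core (hF : Frob q f) (hπ : IsCE π) {L42 L40 : K → Γ} (h42 : IsRootLift q π 42 L42)
    (h40 : IsRootLift q π 40 L40)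
    (hD13c : ∃ ε : K, (ε = 1 ∨ ε = -1) ∧
      ∀ t u : K, cm (XS q 42 t) (XS q 40 u) = X 44 (ε * (t * u + (t * u) ^ q)))
    (hC5 : ∀ h : GG K, h ∈ T1 K q → h8chi chevE6 hB h 44 = 1 → ∀ t, Adm q 44 t → CLm π h (XT q 44 t))
    (lam : K) (hl : lam ≠ 0) (t u : K) :
    cm (L42 (lam * t)) (L40 (lam⁻¹ * u)) = cm (L42 t) (L40 u) := by
  obtain ⟨ε, hε, hD⟩ := hD13c
  obtain ⟨hmem, c42, c40, c44⟩ := t2el2h18_tor (q := q) hF lam hl
  obtain ⟨γ, hγ⟩ := hπ.surj ⟨HT q 56 lam⁻¹ * HT q 46 (lam * lam ^ q), hmem.2⟩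
  have hpm : pm π γ = HT q 56 lam⁻¹ * HT q 46 (lam * lam ^ q) := by
    show ((π γ : ↥(twistedE6 K q)) : GG K) = _
    rw [hγ]
  have hdiag : pm π γ ∈ chevE6.diagonalSubgroup K := by rw [hpm]; exact hmem.1
  have e42 := h42.tor γ hdiag t (t2el1h18_adm42 t)
  have e40 := h40.tor γ hdiag u (t2el1h18_adm40 u)
  rw [hpm, c42] at e42
  rw [hpm, c40] at e40
  obtain ⟨ha, hm⟩ := t2el1h18_map hF h42 h40 hε hD t u
  have hcomm : γ * cm (L42 t) (L40 u) = cm (L42 t) (L40 u) * γ :=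
    hC5 _ hmem c44 _ ha γ (cm (L42 t) (L40 u)) hpm hm
  have h1 : cj γ (cm (L42 t) (L40 u)) = cm (L42 t) (L40 u) := by
    unfold cj
    rw [hcomm, mul_inv_cancel_right]
  have h2 : cj γ (cm (L42 t) (L40 u)) = cm (L42 (lam * t)) (L40 (lam⁻¹ * u)) := by
    rw [cj_cm]
    unfold cj
    rw [e42, e40]
  rw [← h2, h1]

end Cfsg.Agent.Lib.helper3.T2E
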