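import Mathlib
import Cfsg.Agent.Lib.helper3.T2E.Defs3
import Cfsg.Agent.Lib.helper8.ChevTwE6H16
import Cfsg.Agent.Lib.Helper12.T2ED13c
import Cfsg.Agent.Lib.helper23.T2EC5
import Cfsg.Agent.Lib.Helper18.T2EL2core

set_option autoImplicit false

namespace Cfsg.Agent.Lib.helper3.T2E

open Cfsg.Lie Cfsg.Lie.ChevalleyDatum Matrix
open Cfsg.Agent.Lib.helper8 Cfsg.Agent.Lib.Helper10.TEM Cfsg.Agent.Lib.helper7.Ce
  Cfsg.Agent.Lib.helper15.St2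

universe u

variable {K : Type u} [Field K] {q : ℕ} {f : K ≃+* K} {Γ : Type u} [Group Γ]
  {π : Γ →* ↥(twistedE6 K q)}

-- ROW L2 [M]  `h := HT q 56 lam⁻¹ * HT q 46 (lam * lam ^ q)` has `χ_42 = lam`, `χ_40 = lam⁻¹`, `χ_44 = 1` (D10c, D9); a lift `γ` of `h` commutes with
-- `cm (L42 t) (L40 u)` (C5 at `r = 44`), and `cj γ` of it is `cm (L42 (lam t)) (L40 (lam⁻¹ u))` (`tor`).
theorem long_bal [Fintype K] (hq : IsPrimePow q) (hK : Fintype.card K = q ^ 2) (h2 : q ≠ 2)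
    (hF : Frob q f) (hπ : IsCE π) {L42 L40 : K → Γ} (h42 : IsRootLift q π 42 L42)
    (h40 : IsRootLift q π 40 L40) (lam : K) (hl : lam ≠ 0) (t u : K) :
    cm (L42 (lam * t)) (L40 (lam⁻¹ * u)) = cm (L42 t) (L40 u) :=
  t2el2h18_core hF hπ h42 h40 (comm_SL hF)
    (fun h hh h1 => CLm_tor hq hK h2 hF hπ 44 (by norm_num) h hh h1) lam hl t u

end Cfsg.Agent.Lib.helper3.T2E
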