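import Mathlib
import Cfsg.Agent.Lib.Helper24.T3C.Defs2

set_option autoImplicit false

namespace Cfsg.Agent.Lib.Helper24.T3C

open Cfsg.Agent.Lib.helper15.St2 Cfsg.Agent.Lib.helper7.Ce Cfsg.Agent.Lib.helper17.T3

variable {F K : Type*} [Field F] [Field K] [Algebra F K] {C : Cub F K} {G : Type*} [Group G] {Γ : Type*} [Group Γ]
  {π : Γ →* G} {S : SysT C G}

/-- T1 [M] (three statements) -/
theorem hs_s0 (S : SysT C G) (k : ZMod 6) (t u : K) (ht : t ≠ 0) :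
    cj (S.hs k t) (S.xs k u) = S.xs k (t ^ 2 * u) := by
  have h1 : cj (S.ws k 1) (S.xs (k + 3) u) = S.xs k u := by
    have h := S.ws_s3 k 1 u one_ne_zero
    rw [one_pow, one_mul] at h
    exact h
  have h2 : cj (S.ws k 1)⁻¹ (S.xs k u) = S.xs (k + 3) u := cj_inv_of h1
  have h3 : cj (S.ws k t) (S.xs (k + 3) u) = S.xs k (t ^ 2 * u) := S.ws_s3 k t u ht
  unfold SysT.hs
  rw [← cj_cj, h2, h3]

theorem hs_l1 (S : SysT C G) (k : ZMod 6) (t : K) (c : F) (ht : t ≠ 0) :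
    cj (S.hs k t) (S.xl (k + 1) c) = S.xl (k + 1) c := by
  have h1 : cj (S.ws k 1) (S.xl (k + 1) c) = S.xl (k + 1) c := S.ws_l1 k 1 c one_ne_zero
  have h2 : cj (S.ws k 1)⁻¹ (S.xl (k + 1) c) = S.xl (k + 1) c := cj_inv_of h1
  have h3 : cj (S.ws k t) (S.xl (k + 1) c) = S.xl (k + 1) c := S.ws_l1 k t c ht
  unfold SysT.hs
  rw [← cj_cj, h2, h3]

theorem hs_l4 (S : SysT C G) (k : ZMod 6) (t : K) (c : F) (ht : t ≠ 0) :
    cj (S.hs k t) (S.xl (k + 4) c) = S.xl (k + 4) c := by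
  have h1 : cj (S.ws k 1) (S.xl (k + 4) c) = S.xl (k + 4) c := S.ws_l4 k 1 c one_ne_zero
  have h2 : cj (S.ws k 1)⁻¹ (S.xl (k + 4) c) = S.xl (k + 4) c := cj_inv_of h1
  have h3 : cj (S.ws k t) (S.xl (k + 4) c) = S.xl (k + 4) c := S.ws_l4 k t c ht
  unfold SysT.hs
  rw [← cj_cj, h2, h3]

end Cfsg.Agent.Lib.Helper24.T3C
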