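import Mathlib
import Cfsg.Agent.Lib.helper17.T3.DefsC

set_option autoImplicit false

namespace Cfsg.Agent.Lib.helper17.T3

open Cfsg.Agent.Lib.helper15.St2 Cfsg.Agent.Lib.helper7.Ce Matrix

variable {F K : Type*} [Field F] [Field K] [Algebra F K]

variable {C : Cub F K} {G Γ : Type*} [Group G] [Group Γ]

section T

variable (S : SysT C G) {σ : Γ →* G}

/-- own-name copy: the torus element `hs k u` on its own short root group -/
theorem t3ct6h18_hs_s0 (k : ZMod 6) (t u : K) (ht : t ≠ 0) :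
    cj (S.hs k t) (S.xs k u) = S.xs k (t ^ 2 * u) := by
  have h1 : cj (S.ws k 1) (S.xs (k + 3) u) = S.xs k u := by
    have h := S.ws_s3 k 1 u one_ne_zero
    rw [one_pow, one_mul] at h
    exact h
  have h2 : cj (S.ws k 1)⁻¹ (S.xs k u) = S.xs (k + 3) u := cj_inv_of h1
  have h3 : cj (S.ws k t) (S.xs (k + 3) u) = S.xs k (t ^ 2 * u) := S.ws_s3 k t u ht
  unfold SysT.hs
  rw [← cj_cj, h2, h3]

/-- own-name copy: the torus element `hs k u` on the long root group `L_{k+4}` -/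
theorem t3ct6h18_hs_l4 (k : ZMod 6) (t : K) (c : F) (ht : t ≠ 0) :
    cj (S.hs k t) (S.xl (k + 4) c) = S.xl (k + 4) c := by
  have h1 : cj (S.ws k 1) (S.xl (k + 4) c) = S.xl (k + 4) c := S.ws_l4 k 1 c one_ne_zero
  have h2 : cj (S.ws k 1)⁻¹ (S.xl (k + 4) c) = S.xl (k + 4) c := cj_inv_of h1
  have h3 : cj (S.ws k t) (S.xl (k + 4) c) = S.xl (k + 4) c := S.ws_l4 k t c ht
  unfold SysT.hs
  rw [← cj_cj, h2, h3]

/-- [T6] [S] the torus trick with `x = S.xs (k+2)`, `w = S.xl k c`, `g = S.hs (k+2) u`: `hs_xs (k+2) 0`, `hs_xl (k+2) 4` (`k + 2 + 4 = k`, `C.chl 4 u = 1`), `c_ls2`; then `CL.symm`. -/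
theorem CL_ls2 (h : IsCE σ) {u : K} (hu0 : u ≠ 0) (hu1 : u ^ 2 ≠ 1) (k : ZMod 6) (c : F) (s : K) : CL σ (S.xl k c) (S.xs (k + 2) s) := by
  have e : k + 2 + 4 = k := by
    have : (2 : ZMod 6) + 4 = 0 := by decide
    rw [add_assoc, this, add_zero]
  have hgw : cj (S.hs (k + 2) u) (S.xl k c) = S.xl k c := by
    have h4 := t3ct6h18_hs_l4 S (k + 2) u c hu0
    rw [e] at h4
    exact h4
  have := h.torus (fun t => S.xs (k + 2) t) (fun s t => (S.adds (k + 2) s t).symm) (S.xl k c) (S.hs (k + 2) u) (u ^ 2) hu1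
    (fun t => (S.c_ls2 k c t).symm) (fun t => t3ct6h18_hs_s0 S (k + 2) u t hu0) hgw s
  exact this.symm

end T

end Cfsg.Agent.Lib.helper17.T3
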