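import Mathlib
import Cfsg.Agent.Lib.helper17.T3.DefsC

set_option autoImplicit false

namespace Cfsg.Agent.Lib.helper17.T3

open Cfsg.Agent.Lib.helper15.St2 Cfsg.Agent.Lib.helper7.Ce Matrix

variable {F K : Type*} [Field F] [Field K] [Algebra F K]

variable {C : Cub F K} {G Γ : Type*} [Group G] [Group Γ]

section T

variable (S : SysT C G) {σ : Γ →* G}

/-- [T7] [S] `X k s * X k t = X k (s + t) = X k (t + s) = X k t * X k s` (`L.add`, `add_comm`), `IsCE.CL_of_lift'` with `L.map`. -/
theorem CL_ss0 (h : IsCE σ) (L : ShortLift S σ) (k : ZMod 6) (s t : K) : CL σ (S.xs k s) (S.xs k t) := by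
  have hab : L.X k s * L.X k t = L.X k t * L.X k s := by
    rw [L.add, L.add, add_comm]
  exact h.CL_of_lift' (L.map k s) (L.map k t) hab

end T

end Cfsg.Agent.Lib.helper17.T3
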