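import Mathlib
import Cfsg.Agent.Lib.helper23.P4V.Defs
import Cfsg.Agent.Lib.Helper18.TD4VL1
import Cfsg.Agent.Lib.Helper18.TD4VL3

/-!
# Project TD4V (designer helper23), row L2: `cover2` (pure `GL₂(F)` algebra).
-/

set_option autoImplicit false

namespace Cfsg.Agent.Lib.helper23.TD4V

open Matrix
open Cfsg.Agent.Lib.helper23.P4V

universe u

section L

variable {F : Type u} [Field F]

/-- generic case: `b' = b + y d ≠ 0` and `x ∉ {0, (2ν - a' - d)/b'}` -/
theorem td4vl2_generic (ν a b c d x y : F) (hA : a * d - b * c = ν ^ 2) (hb' : b + y * d ≠ 0)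
    (hx : x * (b + y * d) ≠ 2 * ν - (a + y * c) - d) :
    InSig ν (!![1, 0; x, 1] * !![1, y; 0, 1] * !![a, b; c, d]) := by
  refine Or.inr ⟨?_, ?_, ?_⟩
  · rw [td4vl3_LU_det, Matrix.det_fin_two_of, hA]
  · rw [td4vl3_LU_mul, Matrix.trace_fin_two_of]
    intro h
    apply hx
    linear_combination h
  · apply td4vl1_not_scalar01
    rw [td4vl3_LU_mul]
    exact hb'

/-- the field with two elements: case bash -/
theorem td4vl2_two (h01 : ∀ a : F, a = 0 ∨ a = 1) (a b c d : F) (hA : a * d - b * c = 1) :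
    ∃ y : F, InSig (1 : F) (!![1, 0; 1, 1] * !![1, y; 0, 1] * !![a, b; c, d]) := by
  have h2 : (1 : F) + 1 = 0 := by
    rcases h01 (1 + 1) with h | h
    · exact h
    · exfalso
      have : (1 : F) = 0 := by linear_combination h
      exact one_ne_zero this
  have hneg : (-1 : F) = 1 := by linear_combination -h2
  have hsc : ∀ p r : F, p = 1 → r = 1 → InSig (1 : F) !![p, 0; 0, r] := by
    intro p r hp hr
    left
    rw [hp, hr]
    ext i j
    fin_cases i <;> fin_cases j <;> simp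
  have hgood : ∀ m : M2 F, m.det = 1 → m.trace = 1 → InSig (1 : F) m := by
    intro m hd ht
    refine Or.inr ⟨by rw [hd]; ring, ?_, ?_⟩
    · rw [ht]
      intro h
      have : (1 : F) = 0 := by rw [h]; linear_combination h2
      exact one_ne_zero this
    · rintro ⟨k, hk⟩
      rw [hk] at ht
      have h3 : (k • (1 : M2 F)).trace = k + k := by
        simp
        ring
      rw [h3] at ht
      rcases h01 k with h | h
      · rw [h] at ht; simp at ht
      · rw [h, h2] at ht
        exact zero_ne_one ht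
  have hdet : ∀ y : F, ((!![1, 0; 1, 1] : M2 F) * !![1, y; 0, 1] * !![a, b; c, d]).det = 1 := by
    intro y
    rw [td4vl3_LU_det, Matrix.det_fin_two_of, hA]
  rcases h01 a with ha | ha <;> rcases h01 b with hb | hb <;> rcases h01 c with hc | hc <;>
    rcases h01 d with hd | hd <;> subst ha hb hc hd
  all_goals first
    | (exfalso; revert hA; simp [hneg]; done)
    | (refine ⟨0, ?_⟩
       first
         | (apply hgood _ (hdet 0)
            rw [td4vl3_LU_mul, Matrix.trace_fin_two_of]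
            simp [h2]; done)
         | (rw [td4vl3_LU_mul]
            convert hsc 1 1 rfl rfl using 2 <;> simp [h2]; done))
    | (refine ⟨1, ?_⟩
       first
         | (apply hgood _ (hdet 1)
            rw [td4vl3_LU_mul, Matrix.trace_fin_two_of]
            simp [h2]; done)
         | (rw [td4vl3_LU_mul]
            convert hsc 1 1 rfl rfl using 2 <;> simp [h2]; done))

/-- **L2** [M-H]. -/
theorem cover2 [Fintype F] (ν : F) (hν : ν ≠ 0) (A : M2 F) (hA : A.det = ν ^ 2) :
    ∃ x y : F, x ≠ 0 ∧ InSig ν (!![1, 0; x, 1] * !![1, y; 0, 1] * A) := by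
  obtain ⟨a, ha⟩ : ∃ a, A 0 0 = a := ⟨_, rfl⟩
  obtain ⟨b, hb⟩ : ∃ b, A 0 1 = b := ⟨_, rfl⟩
  obtain ⟨c, hc⟩ : ∃ c, A 1 0 = c := ⟨_, rfl⟩
  obtain ⟨d, hd⟩ : ∃ d, A 1 1 = d := ⟨_, rfl⟩
  have hAeta : A = !![a, b; c, d] := by rw [Matrix.eta_fin_two A, ha, hb, hc, hd]
  subst hAeta
  clear ha hb hc hd
  rw [Matrix.det_fin_two_of] at hA
  by_cases h3 : ∃ p r : F, p ≠ 0 ∧ r ≠ 0 ∧ p ≠ r
  · -- at least three elements
    obtain ⟨p, r, hp, hr, hpr⟩ := h3
    -- choose `y` with `b + y d ≠ 0`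
    obtain ⟨y, hy⟩ : ∃ y : F, b + y * d ≠ 0 := by
      by_cases hd0 : d = 0
      · refine ⟨0, ?_⟩
        rw [zero_mul, add_zero]
        intro hb0
        rw [hd0, hb0] at hA
        apply pow_ne_zero 2 hν
        rw [← hA]; ring
      · refine ⟨(1 - b) / d, ?_⟩
        rw [div_mul_cancel₀ _ hd0]
        simp
    -- choose `x ∉ {0, z}`
    set z := (2 * ν - (a + y * c) - d) / (b + y * d) with hz
    obtain ⟨x, hx0, hxz⟩ : ∃ x : F, x ≠ 0 ∧ x ≠ z := by
      by_cases h : p = z
      · exact ⟨r, hr, fun h' => hpr (h.trans h'.symm)⟩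
      · exact ⟨p, hp, h⟩
    refine ⟨x, y, hx0, td4vl2_generic ν a b c d x y hA hy ?_⟩
    intro h
    apply hxz
    rw [hz, eq_div_iff hy]
    exact h
  · -- two elements
    have h01 : ∀ s : F, s = 0 ∨ s = 1 := by
      intro s
      by_cases hs : s = 0
      · exact Or.inl hs
      · right
        by_contra hs1
        exact h3 ⟨s, 1, hs, one_ne_zero, hs1⟩
    have hν1 : ν = 1 := (h01 ν).resolve_left hν
    subst hν1
    rw [one_pow] at hA
    obtain ⟨y, hy⟩ := td4vl2_two h01 a b c d hA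
    exact ⟨1, y, one_ne_zero, hy⟩

end L

end Cfsg.Agent.Lib.helper23.TD4V
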