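import Mathlib
import Cfsg.Agent.Lib.Helper10.TEM.Defs
import Cfsg.Agent.Lib.Helper18.TEMA5core
import Cfsg.Agent.Lib.Helper16.TEMC2
import Cfsg.Agent.Lib.Helper21.TEMC3
import Cfsg.Agent.Lib.Helper21.TEMC5
import Cfsg.Agent.Lib.Helper27.TEMP3
import Cfsg.Agent.Lib.helper15.TEMG3
import Cfsg.Agent.Lib.helper4.TEMR2

/-!
# Project TEM = S2191 (designer helper10), row A5 (helper18), VERBATIM: `iso_comm`
= `tema5_core` (`Helper18.TEMA5core`) at C2 `comm_pairs` (`Helper16.TEMC2`), C3 `norm_of_terms` (`Helper21.TEMC3`), C5 `Q_comm` (`Helper21.TEMC5`),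
P3 `one_rat` (`Helper27.TEMP3`), G3 `X_mem_G1` `XS_mem_G1` (`helper15.TEMG3`), R2 `rat_X` (`helper4.TEMR2`).
-/

set_option autoImplicit false

namespace Cfsg.Agent.Lib.Helper10.TEM

open Cfsg.Lie Cfsg.Lie.ChevalleyDatum Matrix
open Cfsg.Agent.Lib.helper8

universe u

variable {K : Type u} [Field K] {q : ℕ} {f : K ≃+* K} {M H : Subgroup (GG K)}

-- ROW A5  [M-H]
theorem iso_comm (hF : Frob q f) (hM : IsM q M) (t : ℕ → K) (ℓ : GG K) (hℓ : ℓ ∈ UPsi K Psi1)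
    (hℓM : ℓ ∈ M) (r a r' : ℕ) (h : (r, a, r') ∈ shortTriples) :
    ∃ ε : K, (ε = 1 ∨ ε = -1) ∧ ∃ m ∈ M,
      (QS q t * ℓ) * X a 1 * (QS q t * ℓ)⁻¹ * (X a 1)⁻¹ = XS q r' (ε * t r) * m :=
  tema5_core hF hM (fun L a h g hg c => comm_pairs L a h g hg c) (fun L L' h g hg b hb => norm_of_terms L L' h g hg b hb)
    (fun g hg h hh => Q_comm g hg h hh) (fun r hr g hg => one_rat hF r hr g hg) (fun r hr hσ t ht => X_mem_G1 hF r hr hσ t ht)
    (fun r hr hσ t => XS_mem_G1 hF r hr hσ t) (fun r t ht => rat_X hF r t ht) t ℓ hℓ hℓM r a r' h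

end Cfsg.Agent.Lib.Helper10.TEM
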