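import Mathlib
import Cfsg.Agent.Lib.helper17.Frattini

set_option autoImplicit false

namespace Cfsg.Agent.Lib.Helper18.TIF

variable {S : Type*} [Group S]

/-- The conjugate `s R s⁻¹`. -/
abbrev cj (s : S) (R : Subgroup S) : Subgroup S := R.map (MulAut.conj s).toMonoidHom

theorem mem_cj {s x : S} {R : Subgroup S} : x ∈ cj s R ↔ s⁻¹ * x * s ∈ R := by
  unfold cj
  rw [Subgroup.mem_map_equiv]
  simp [MulAut.conj_symm_apply]

theorem conj_mem_cj {s r : S} {R : Subgroup S} (hr : r ∈ R) : s * r * s⁻¹ ∈ cj s R := by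
  rw [mem_cj]
  simpa [mul_assoc] using hr

theorem cj_one (R : Subgroup S) : cj 1 R = R := by
  ext x
  rw [mem_cj]
  simp

theorem cj_mul (s t : S) (R : Subgroup S) : cj (s * t) R = cj s (cj t R) := by
  ext x
  rw [mem_cj, mem_cj, mem_cj]
  simp [mul_assoc]

theorem conj_mem_of_cj_eq {s r : S} {R : Subgroup S} (h : cj s R = R) (hr : r ∈ R) :
    s * r * s⁻¹ ∈ R := by
  have := conj_mem_cj (s := s) hr
  rwa [h] at this

theorem cj_pow_eq {s : S} {R : Subgroup S} (h : cj s R = R) (k : ℕ) : cj (s ^ k) R = R := by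
  induction k with
  | zero => simpa using cj_one R
  | succ n ih => rw [pow_succ, cj_mul, h, ih]

/-- Two subgroups commute elementwise. -/
def Comm (A B : Subgroup S) : Prop := ∀ x ∈ A, ∀ y ∈ B, x * y = y * x

theorem Comm.symm {A B : Subgroup S} (h : Comm A B) : Comm B A := fun x hx y hy => (h y hy x hx).symm

theorem comm_iff {A B : Subgroup S} : Comm A B ↔ ⁅A, B⁆ = ⊥ := by
  rw [Subgroup.commutator_eq_bot_iff_le_centralizer]
  constructor
  · intro h x hx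
    rw [Subgroup.mem_centralizer_iff]
    intro y hy
    exact (h x hx y hy).symm
  · intro h x hx y hy
    have := h hx
    rw [Subgroup.mem_centralizer_iff] at this
    exact (this y hy).symm

/-- An invariant family of TI subgroups inside `H`. -/
structure Fam (H : Subgroup S) (Δ : Set (Subgroup S)) : Prop where
  le : ∀ R ∈ Δ, R ≤ H
  inv : ∀ h ∈ H, ∀ R ∈ Δ, cj h R ∈ Δ
  frat : ∀ R ∈ Δ, frattini ↥R ≠ ⊥
  ord : ∀ R ∈ Δ, ∀ T ∈ Δ, Nat.card ↥R = Nat.card ↥T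
  ti : ∀ R ∈ Δ, ∀ T ∈ Δ, R = T ∨ R ⊓ T = ⊥

theorem Fam.ne_bot {H : Subgroup S} {Δ : Set (Subgroup S)} (hF : Fam H Δ) {R : Subgroup S} (hR : R ∈ Δ) :
    R ≠ ⊥ := by
  intro h
  apply hF.frat R hR
  rw [eq_bot_iff]
  intro x _
  rw [Subgroup.mem_bot]
  apply Subtype.ext
  have h2 : (x : S) ∈ (⊥ : Subgroup S) := h ▸ x.2
  rw [Subgroup.mem_bot] at h2
  simpa using h2

theorem Fam.inf_eq_bot {H : Subgroup S} {Δ : Set (Subgroup S)} (hF : Fam H Δ) {R T : Subgroup S} (hR : R ∈ Δ)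
    (hT : T ∈ Δ) (hne : R ≠ T) {x : S} (hxR : x ∈ R) (hxT : x ∈ T) : x = 1 := by
  have h := (hF.ti R hR T hT).resolve_left hne
  have : x ∈ R ⊓ T := ⟨hxR, hxT⟩
  rw [h, Subgroup.mem_bot] at this
  exact this

/-- If `B` normalizes `A` (both in the family, distinct), they commute. -/
theorem comm_of_normalizes [Finite S] {H : Subgroup S} {Δ : Set (Subgroup S)} (hF : Fam H Δ)
    {A B : Subgroup S} (hA : A ∈ Δ) (hB : B ∈ Δ) (hne : A ≠ B)
    (hBA : ∀ b ∈ B, ∀ a ∈ A, b * a * b⁻¹ ∈ A) : Comm A B := by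
  have key : ∀ a ∈ A, cj a B = B := by
    intro a ha
    by_contra hcon
    have hB' : cj a B ∈ Δ := hF.inv a (hF.le A hA ha) B hB
    let f : ↥B → ↥A := fun b => ⟨(b : S) * a * (b : S)⁻¹ * a⁻¹, A.mul_mem (hBA b b.2 a ha) (A.inv_mem ha)⟩
    have hinj : Function.Injective f := by
      intro b c hbc
      have h1 : (b : S) * a * (b : S)⁻¹ * a⁻¹ = (c : S) * a * (c : S)⁻¹ * a⁻¹ := congrArg Subtype.val hbc
      have h2 : (c : S)⁻¹ * b = a * ((c : S)⁻¹ * b) * a⁻¹ := by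
        have h3 : (b : S) * a * (b : S)⁻¹ = (c : S) * a * (c : S)⁻¹ := mul_right_cancel h1
        have h4 : (c : S)⁻¹ * b * a = a * ((c : S)⁻¹ * b) := by
          have : (b : S) * a = (c : S) * a * (c : S)⁻¹ * b := by
            rw [← h3]; group
          calc (c : S)⁻¹ * b * a = (c : S)⁻¹ * ((b : S) * a) := by group
            _ = (c : S)⁻¹ * ((c : S) * a * (c : S)⁻¹ * b) := by rw [this]
            _ = a * ((c : S)⁻¹ * b) := by group
        rw [← h4]; group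
      have h5 : (c : S)⁻¹ * b ∈ B := B.mul_mem (B.inv_mem c.2) b.2
      have h6 : (c : S)⁻¹ * b ∈ cj a B := by
        rw [h2]; exact conj_mem_cj h5
      have h7 := hF.inf_eq_bot hB' hB hcon h6 h5
      apply Subtype.ext
      have : (b : S) = (c : S) * ((c : S)⁻¹ * b) := by group
      rw [this, h7, mul_one]
    have hbij : Function.Bijective f :=
      hinj.bijective_of_nat_card_le (le_of_eq (hF.ord A hA B hB))
    obtain ⟨b, hb⟩ := hbij.2 ⟨a⁻¹, A.inv_mem ha⟩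
    have h1 : (b : S) * a * (b : S)⁻¹ * a⁻¹ = a⁻¹ := congrArg Subtype.val hb
    have h2 : a = 1 := by
      have h3 : (b : S) * a * (b : S)⁻¹ = 1 := by
        have := congrArg (· * a) h1
        simpa using this
      have : a = (b : S)⁻¹ * ((b : S) * a * (b : S)⁻¹) * b := by group
      rw [this, h3]; group
    apply hcon
    rw [h2]; exact cj_one B
  intro a ha b hb
  have h1 : a * b * a⁻¹ ∈ B := conj_mem_of_cj_eq (key a ha) hb
  have h2 : a * b * a⁻¹ * b⁻¹ ∈ B := B.mul_mem h1 (B.inv_mem hb)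
  have h3 : a * b * a⁻¹ * b⁻¹ ∈ A := by
    have : a * b * a⁻¹ * b⁻¹ = a * (b * a⁻¹ * b⁻¹) := by group
    rw [this]
    exact A.mul_mem ha (hBA b hb a⁻¹ (A.inv_mem ha))
  have h4 := hF.inf_eq_bot hA hB hne h3 h2
  have : a * b = (a * b * a⁻¹ * b⁻¹) * (b * a) := by group
  rw [this, h4, one_mul]


/-- A proper subgroup of a finite `p`-subgroup `H` lies in a proper subgroup of `H` normalized by `H`. -/
theorem exists_normal_proper [Finite S] {p : ℕ} [Fact p.Prime] (hS : IsPGroup p S) {H A : Subgroup S}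
    (hAH : A ≤ H) (hne : A ≠ H) :
    ∃ M : Subgroup S, A ≤ M ∧ M ≤ H ∧ M ≠ H ∧ ∀ h ∈ H, ∀ m ∈ M, h * m * h⁻¹ ∈ M := by
  have hA' : A.subgroupOf H ≠ ⊤ := by
    intro h
    rw [Subgroup.subgroupOf_eq_top] at h
    exact hne (le_antisymm hAH h)
  obtain ⟨M', hM', hAM'⟩ := (eq_top_or_exists_le_coatom (A.subgroupOf H)).resolve_left hA'
  have hHp : IsPGroup p ↥H := hS.to_subgroup H
  haveI : Group.IsNilpotent ↥H := hHp.isNilpotent
  have hn : M'.Normal := Subgroup.NormalizerCondition.normal_of_coatom M' Group.normalizerCondition_of_isNilpotent hM'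
  refine ⟨M'.map H.subtype, ?_, ?_, ?_, ?_⟩
  · intro a ha
    refine ⟨⟨a, hAH ha⟩, hAM' ?_, rfl⟩
    rw [Subgroup.mem_subgroupOf]
    exact ha
  · rintro x ⟨y, -, rfl⟩
    exact y.2
  · intro h
    apply hM'.1
    rw [eq_top_iff]
    intro y _
    have hy : (y : S) ∈ M'.map H.subtype := by rw [h]; exact y.2
    obtain ⟨z, hz, hzy⟩ := hy
    have : z = y := Subtype.ext hzy
    rw [← this]; exact hz
  · rintro h hh m ⟨y, hy, rfl⟩
    refine ⟨⟨h, hh⟩ * y * ⟨h, hh⟩⁻¹, hn.conj_mem y hy ⟨h, hh⟩, rfl⟩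


/-- Powers of the commutator `a b a⁻¹ b⁻¹` when `A` commutes with `b A b⁻¹`. -/
theorem comm_pow_eq {A : Subgroup S} {a b : S} (ha : a ∈ A) (hc : Comm A (cj b A)) (k : ℕ) :
    (a * b * a⁻¹ * b⁻¹) ^ k = a ^ k * b * (a ^ k)⁻¹ * b⁻¹ := by
  have hu : b * a⁻¹ * b⁻¹ ∈ cj b A := conj_mem_cj (A.inv_mem ha)
  have hcomm : Commute a (b * a⁻¹ * b⁻¹) := hc a ha _ hu
  have h1 : a * b * a⁻¹ * b⁻¹ = a * (b * a⁻¹ * b⁻¹) := by group
  rw [h1, hcomm.mul_pow, conj_pow, inv_pow]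
  group

theorem comm_pow_eq_one_iff {A : Subgroup S} {a b : S} (ha : a ∈ A) (hc : Comm A (cj b A))
    (hti : ∀ z, z ∈ A → z ∈ cj b A → z = 1) (k : ℕ) :
    (a * b * a⁻¹ * b⁻¹) ^ k = 1 ↔ a ^ k = 1 := by
  rw [comm_pow_eq ha hc]
  constructor
  · intro h
    have h1 : a ^ k = b * a ^ k * b⁻¹ := by
      have h2 : (a ^ k * b * (a ^ k)⁻¹ * b⁻¹) * (b * a ^ k * b⁻¹) = a ^ k := by group
      rw [h, one_mul] at h2
      exact h2.symm
    refine hti _ (A.pow_mem ha k) ?_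
    rw [h1]
    exact conj_mem_cj (A.pow_mem ha k)
  · intro h
    rw [h]; group


theorem main [Finite S] (hS : IsPGroup 2 S) : ∀ n : ℕ, ∀ H : Subgroup S, Nat.card ↥H = n →
    ∀ Δ : Set (Subgroup S), Fam H Δ → ∀ A ∈ Δ, ∀ B ∈ Δ, A ≠ B → Comm A B := by
  intro n
  induction n using Nat.strong_induction_on with
  | _ n ih =>
  intro H hn Δ hF A hA B hB hne
  have restrict : ∀ K : Subgroup S, K ≤ H → K ≠ H → ∀ R ∈ Δ, ∀ T ∈ Δ, R ≤ K → T ≤ K → R ≠ T →
      Comm R T := by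
    intro K hKH hKne R hR T hT hRK hTK hRT
    have hcard : Nat.card ↥K < n := by
      rw [← hn]
      refine lt_of_le_of_ne (Subgroup.card_le_of_le hKH) ?_
      intro h
      exact hKne (Subgroup.eq_of_le_of_card_ge hKH (le_of_eq h.symm))
    have hFK : Fam K {R | R ∈ Δ ∧ R ≤ K} := by
      refine ⟨fun R hR => hR.2, ?_, fun R hR => hF.frat R hR.1, fun R hR T hT => hF.ord R hR.1 T hT.1,
        fun R hR T hT => hF.ti R hR.1 T hT.1⟩
      intro k hk R hR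
      refine ⟨hF.inv k (hKH hk) R hR.1, ?_⟩
      intro x hx
      rw [mem_cj] at hx
      have h1 := hR.2 hx
      have h2 : x = k * (k⁻¹ * x * k) * k⁻¹ := by group
      rw [h2]
      exact K.mul_mem (K.mul_mem hk h1) (K.inv_mem hk)
    exact ih _ hcard K rfl _ hFK R ⟨hR, hRK⟩ T ⟨hT, hTK⟩ hRT
  by_cases hK : A ⊔ B = H
  swap
  · exact restrict (A ⊔ B) (sup_le (hF.le A hA) (hF.le B hB)) hK A hA B hB le_sup_left le_sup_right hne
  by_cases hBA : ∀ b ∈ B, ∀ a ∈ A, b * a * b⁻¹ ∈ A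
  · exact comm_of_normalizes hF hA hB hne hBA
  by_cases hAB : ∀ a ∈ A, ∀ b ∈ B, a * b * a⁻¹ ∈ B
  · exact (comm_of_normalizes hF hB hA (Ne.symm hne) hAB).symm
  exfalso
  -- distinct conjugates commute
  have conjs : ∀ A B : Subgroup S, A ∈ Δ → B ∈ Δ → A ≠ B → ∀ h ∈ H, cj h A ≠ A →
      Comm A (cj h A) := by
    intro A B hA hB hne h hh hcj
    have hAH : A ≠ H := by
      intro hAH
      apply hF.ne_bot hB
      rw [eq_bot_iff]
      intro x hx
      rw [Subgroup.mem_bot]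
      exact hF.inf_eq_bot hA hB hne (hAH ▸ hF.le B hB hx) hx
    obtain ⟨M, hAM, hMH, hMne, hMn⟩ := exists_normal_proper hS (hF.le A hA) hAH
    refine restrict M hMH hMne A hA (cj h A) (hF.inv h hh A hA) hAM ?_ (Ne.symm hcj)
    intro x hx
    rw [mem_cj] at hx
    have h2 : x = h * (h⁻¹ * x * h) * h⁻¹ := by group
    rw [h2]
    exact hMn h hh _ (hAM hx)
  -- TI for conjugates
  have tis : ∀ A : Subgroup S, A ∈ Δ → ∀ h ∈ H, cj h A ≠ A → ∀ z, z ∈ A → z ∈ cj h A → z = 1 := by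
    intro A hA h hh hcj z hz1 hz2
    exact hF.inf_eq_bot hA (hF.inv h hh A hA) (Ne.symm hcj) hz1 hz2
  -- the order comparison for bad pairs
  have P1 : ∀ A B : Subgroup S, A ∈ Δ → B ∈ Δ → A ≠ B → ∀ a ∈ A, ∀ b ∈ B, cj b A ≠ A → cj a B ≠ B →
      ∀ k : ℕ, a ^ k = 1 ↔ b ^ k = 1 := by
    intro A B hA hB hne a ha b hb hbA haB k
    have hbH := hF.le B hB hb
    have haH := hF.le A hA ha
    have h1 := comm_pow_eq_one_iff ha (conjs A B hA hB hne b hbH hbA) (tis A hA b hbH hbA) k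
    have h2 := comm_pow_eq_one_iff hb (conjs B A hB hA (Ne.symm hne) a haH haB) (tis B hB a haH haB) k
    have h3 : b * a * b⁻¹ * a⁻¹ = (a * b * a⁻¹ * b⁻¹)⁻¹ := by group
    rw [h3, inv_pow, inv_eq_one] at h2
    rw [← h1, ← h2]
  -- squares of bad elements are good
  have P2 : ∀ A B : Subgroup S, A ∈ Δ → B ∈ Δ → A ≠ B → ∀ a ∈ A, ∀ b ∈ B, cj b A ≠ A → cj a B ≠ B →
      cj (a ^ 2) B = B := by
    intro A B hA hB hne a ha b hb hbA haB
    by_contra hcon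
    have h1 := P1 A B hA hB hne a ha b hb hbA haB
    have h2 := P1 A B hA hB hne (a ^ 2) (A.pow_mem ha 2) b hb hbA hcon
    obtain ⟨m, hm⟩ := (IsPGroup.iff_orderOf.mp hS) a
    rcases m with _ | m
    · rw [pow_zero, orderOf_eq_one_iff] at hm
      apply haB
      rw [hm]; exact cj_one B
    · have h3 : (a ^ 2) ^ (2 ^ m) = 1 := by
        rw [← pow_mul, ← pow_succ', ← hm]
        exact pow_orderOf_eq_one a
      have h4 : a ^ (2 ^ m) = 1 := (h1 _).mpr ((h2 _).mp h3)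
      have h5 := orderOf_dvd_of_pow_eq_one h4
      rw [hm, Nat.pow_dvd_pow_iff_le_right (by norm_num)] at h5
      omega
  -- bad elements are involutions
  have P3 : ∀ A B : Subgroup S, A ∈ Δ → B ∈ Δ → A ≠ B → ∀ a ∈ A, ∀ b ∈ B, cj b A ≠ A → cj a B ≠ B →
      a ^ 2 = 1 := by
    intro A B hA hB hne a ha b hb hbA haB
    have hbH := hF.le B hB hb
    have haH := hF.le A hA ha
    have hcA := conjs A B hA hB hne b hbH hbA
    have hcB := conjs B A hB hA (Ne.symm hne) a haH haB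
    rw [← comm_pow_eq_one_iff ha hcA (tis A hA b hbH hbA) 2]
    have hgA := P2 A B hA hB hne a ha b hb hbA haB
    have hgB := P2 B A hB hA (Ne.symm hne) b hb a ha haB hbA
    have hxB : (a * b * a⁻¹ * b⁻¹) ^ 2 ∈ B := by
      rw [comm_pow_eq ha hcA]
      exact B.mul_mem (conj_mem_of_cj_eq hgA hb) (B.inv_mem hb)
    have hxA : (a * b * a⁻¹ * b⁻¹) ^ 2 ∈ A := by
      have h3 : a * b * a⁻¹ * b⁻¹ = (b * a * b⁻¹ * a⁻¹)⁻¹ := by group
      rw [h3, inv_pow, comm_pow_eq hb hcB]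
      exact A.inv_mem (A.mul_mem (conj_mem_of_cj_eq hgB ha) (A.inv_mem ha))
    exact hF.inf_eq_bot hA hB hne hxA hxB
  -- pick a bad pair
  push Not at hBA hAB
  obtain ⟨b₀, hb₀, a₁, ha₁, hba⟩ := hBA
  obtain ⟨a₀, ha₀, b₁, hb₁, hab⟩ := hAB
  have hb₀A : cj b₀ A ≠ A := fun h => hba (conj_mem_of_cj_eq h ha₁)
  have ha₀B : cj a₀ B ≠ B := fun h => hab (conj_mem_of_cj_eq h hb₁)
  have hb₀H := hF.le B hB hb₀
  have ha₀H := hF.le A hA ha₀
  have ha₀2 : a₀ ^ 2 = 1 := P3 A B hA hB hne a₀ ha₀ b₀ hb₀ hb₀A ha₀B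
  have hbad : ∀ a ∈ A, cj a B ≠ B → a ^ 2 = 1 := fun a ha haB =>
    P3 A B hA hB hne a ha b₀ hb₀ hb₀A haB
  have hcA := conjs A B hA hB hne b₀ hb₀H hb₀A
  -- good involutions are trivial
  have P5 : ∀ c ∈ A, cj c B = B → c ^ 2 = 1 → c = 1 := by
    intro c hc hcB hc2
    have h1 : cj (a₀ * c) B ≠ B := by rw [cj_mul, hcB]; exact ha₀B
    have h2 : (a₀ * c) ^ 2 = 1 := hbad _ (A.mul_mem ha₀ hc) h1
    have hinv_a : a₀⁻¹ = a₀ := by
      rw [inv_eq_iff_mul_eq_one, ← pow_two]; exact ha₀2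
    have hinv_c : c⁻¹ = c := by
      rw [inv_eq_iff_mul_eq_one, ← pow_two]; exact hc2
    have hcomm : a₀ * c = c * a₀ := by
      have h3 : (a₀ * c)⁻¹ = a₀ * c := by
        rw [inv_eq_iff_mul_eq_one, ← pow_two]; exact h2
      rw [mul_inv_rev, hinv_a, hinv_c] at h3
      exact h3.symm
    have hw : b₀ * c⁻¹ * b₀⁻¹ ∈ cj b₀ A := conj_mem_cj (A.inv_mem hc)
    have hcw : a₀ * (b₀ * c⁻¹ * b₀⁻¹) = (b₀ * c⁻¹ * b₀⁻¹) * a₀ := hcA a₀ ha₀ _ hw
    have hdB : c * b₀ * c⁻¹ * b₀⁻¹ ∈ B := B.mul_mem (conj_mem_of_cj_eq hcB hb₀) (B.inv_mem hb₀)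
    have hd : a₀ * (c * b₀ * c⁻¹ * b₀⁻¹) * a₀⁻¹ = c * b₀ * c⁻¹ * b₀⁻¹ := by
      have e1 : c * b₀ * c⁻¹ * b₀⁻¹ = c * (b₀ * c⁻¹ * b₀⁻¹) := by group
      rw [e1, ← mul_assoc, hcomm, mul_assoc c, hcw]
      group
    have hdB' : c * b₀ * c⁻¹ * b₀⁻¹ ∈ cj a₀ B := by
      rw [← hd]; exact conj_mem_cj hdB
    have hd1 : c * b₀ * c⁻¹ * b₀⁻¹ = 1 :=
      hF.inf_eq_bot (hF.inv a₀ ha₀H B hB) hB ha₀B hdB' hdB
    have hc' : c = b₀ * c * b₀⁻¹ := by
      have e2 : (c * b₀ * c⁻¹ * b₀⁻¹) * (b₀ * c * b₀⁻¹) = c := by group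
      rw [hd1, one_mul] at e2
      exact e2.symm
    refine tis A hA b₀ hb₀H hb₀A c hc ?_
    rw [hc']; exact conj_mem_cj hc
  -- good elements are trivial
  have P6 : ∀ c ∈ A, cj c B = B → c = 1 := by
    intro c hc hcB
    obtain ⟨m, hm⟩ := (IsPGroup.iff_orderOf.mp hS) c
    rcases m with _ | m
    · rw [pow_zero, orderOf_eq_one_iff] at hm; exact hm
    · exfalso
      have h1 : (c ^ (2 ^ m)) ^ 2 = 1 := by
        rw [← pow_mul, ← pow_succ, ← hm]; exact pow_orderOf_eq_one c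
      have h2 := P5 _ (A.pow_mem hc _) (cj_pow_eq hcB _) h1
      have h3 := orderOf_dvd_of_pow_eq_one h2
      rw [hm, Nat.pow_dvd_pow_iff_le_right (by norm_num)] at h3
      omega
  have hexp : ∀ a ∈ A, a ^ 2 = 1 := by
    intro a ha
    by_cases h : cj a B = B
    · rw [P6 a ha h]; exact one_pow 2
    · exact hbad a ha h
  apply hF.frat A hA
  rw [eq_bot_iff]
  have hexp' : ∀ x : ↥A, x ^ 2 = 1 := fun x => Subtype.ext (by simpa using hexp x x.2)
  refine Cfsg.Agent.Lib.helper17.frattini_le_of_comm_pow_mem (p := 2) (⊥ : Subgroup ↥A) ?_ ?_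
  · intro x y
    rw [Subgroup.mem_bot, commutatorElement_def]
    have hx : x⁻¹ = x := by rw [inv_eq_iff_mul_eq_one, ← pow_two]; exact hexp' x
    have hy : y⁻¹ = y := by rw [inv_eq_iff_mul_eq_one, ← pow_two]; exact hexp' y
    have hxy := hexp' (x * y)
    rw [hx, hy]
    rw [pow_two] at hxy
    rw [← hxy]; group
  · intro x
    rw [Subgroup.mem_bot]; exact hexp' x

end Cfsg.Agent.Lib.Helper18.TIF
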