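import Cfsg.Agent.Lib.helper7.TO.Basic

/-!
# Project TO (S5704), piece SGALGA (helper18): `sg_ex`, `sgq_ex`, `sgq_mul`
-/

set_option autoImplicit false

namespace Cfsg.Agent.Lib.helper7.TO

open Matrix Cfsg.Agent.Lib.helper7.TP Cfsg.Agent.Lib.Helper28.SympAbs
open scoped Kronecker

variable {a b : ℕ} {F : Type*} [Field F]

/-- the functional `x ↦ f p x`. -/
def tosgalga_fL (C : Ctx a b F) (p : Fin a × Fin b → F) : (Fin a × Fin b → F) →ₗ[F] F where
  toFun x := C.f p x
  map_add' x y := C.hf.add_right p x y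
  map_smul' c x := C.hf.smul_right c p x

/-- the generalised Siegel map as a linear map. -/
def tosgalga_TL (C : Ctx a b F) (p v : Fin a × Fin b → F) :
    (Fin a × Fin b → F) →ₗ[F] (Fin a × Fin b → F) :=
  LinearMap.id + (tosgalga_fL C p).smulRight v - (tosgalga_fL C v).smulRight p -
    (C.q v) • (tosgalga_fL C p).smulRight p

theorem tosgalga_TL_apply (C : Ctx a b F) (p v x : Fin a × Fin b → F) :
    tosgalga_TL C p v x = x + C.f p x • v - C.f v x • p - (C.q v * C.f p x) • p := by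
  change x + C.f p x • v - C.f v x • p - C.q v • (C.f p x • p) = _
  rw [smul_smul]

/-- the composition formula of the generalised Siegel maps. -/
theorem tosgalga_comp (C : Ctx a b F) (p v v' : Fin a × Fin b → F) (hp : C.q p = 0)
    (hpv : C.f p v = 0) (hpv' : C.f p v' = 0) (x : Fin a × Fin b → F) :
    (x + C.f p x • v' - C.f v' x • p - (C.q v' * C.f p x) • p) +
      C.f p (x + C.f p x • v' - C.f v' x • p - (C.q v' * C.f p x) • p) • v -
      C.f v (x + C.f p x • v' - C.f v' x • p - (C.q v' * C.f p x) • p) • p -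
      (C.q v * C.f p (x + C.f p x • v' - C.f v' x • p - (C.q v' * C.f p x) • p)) • p =
    x + C.f p x • (v + v') - C.f (v + v') x • p - (C.q (v + v') * C.f p x) • p := by
  have hpp : C.f p p = 0 := C.f_self_of_q hp
  have hvp : C.f v p = 0 := by rw [C.f_symm, hpv]
  have e1 : C.f p (x + C.f p x • v' - C.f v' x • p - (C.q v' * C.f p x) • p) = C.f p x := by
    rw [C.f_sub_right, C.f_sub_right, C.hf.add_right, C.hf.smul_right, C.hf.smul_right,
      C.hf.smul_right, hpv', hpp]
    ring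
  have e2 : C.f v (x + C.f p x • v' - C.f v' x • p - (C.q v' * C.f p x) • p) =
      C.f v x + C.f p x * C.f v v' := by
    rw [C.f_sub_right, C.f_sub_right, C.hf.add_right, C.hf.smul_right, C.hf.smul_right,
      C.hf.smul_right, hvp]
    ring
  rw [e1, e2, C.q_add, C.hf.add_left]
  module

/-- SGALG2: existence of the generalised Siegel element, and membership in `G`. -/
theorem sgq_ex (C : Ctx a b F) (p v : Fin a × Fin b → F) (hp : C.q p = 0) (hpv : C.f p v = 0) :
    ∃ t : Matrix.GeneralLinearGroup (Fin a × Fin b) F, t ∈ C.G ∧ C.IsSgQ t p v := by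
  have hpp : C.f p p = 0 := C.f_self_of_q hp
  have hvp : C.f v p = 0 := by rw [C.f_symm, hpv]
  have hcomp : ∀ v₁ v₂ : Fin a × Fin b → F, C.f p v₁ = 0 → C.f p v₂ = 0 → v₁ + v₂ = 0 →
      LinearMap.toMatrix' (tosgalga_TL C p v₁) * LinearMap.toMatrix' (tosgalga_TL C p v₂) = 1 := by
    intro v₁ v₂ h1 h2 h12
    rw [← LinearMap.toMatrix'_comp, ← LinearMap.toMatrix'_id]
    congr 1
    apply LinearMap.ext
    intro x
    rw [LinearMap.comp_apply, tosgalga_TL_apply C p v₂ x, tosgalga_TL_apply,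
      tosgalga_comp C p v₁ v₂ hp h1 h2 x, h12, C.q_zero, C.f_zero_left]
    simp
  have hnv : C.f p (-v) = 0 := by rw [C.f_neg_right, hpv, neg_zero]
  refine ⟨⟨LinearMap.toMatrix' (tosgalga_TL C p v), LinearMap.toMatrix' (tosgalga_TL C p (-v)),
    hcomp v (-v) hpv hnv (add_neg_cancel v), hcomp (-v) v hnv hpv (neg_add_cancel v)⟩, ?_, ?_⟩
  · rw [C.mem_G]
    intro x
    change C.q (LinearMap.toMatrix' (tosgalga_TL C p v) *ᵥ x) = C.q x
    rw [LinearMap.toMatrix'_mulVec, tosgalga_TL_apply]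
    have e : x + C.f p x • v - C.f v x • p - (C.q v * C.f p x) • p =
        x + (C.f p x • v + (-(C.f v x + C.q v * C.f p x)) • p) := by module
    rw [e, C.q_add, C.q_add, C.q_smul, C.q_smul, hp, C.hf.add_right, C.hf.smul_right,
      C.hf.smul_right, C.hf.smul_left, C.hf.smul_right, hvp, C.f_symm x v, C.f_symm x p]
    ring
  · intro x
    change LinearMap.toMatrix' (tosgalga_TL C p v) *ᵥ x = _
    rw [LinearMap.toMatrix'_mulVec, tosgalga_TL_apply]

/-- SGALG1: existence, and membership in `G`. -/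
theorem sg_ex (C : Ctx a b F) (p v : Fin a × Fin b → F) (c : F) (hp : C.q p = 0) (hv : C.q v = 0)
    (hpv : C.f p v = 0) :
    ∃ t : Matrix.GeneralLinearGroup (Fin a × Fin b) F, t ∈ C.G ∧ C.IsSgV t p v c := by
  obtain ⟨t, htG, ht⟩ := sgq_ex C p (c • v) hp (by rw [C.hf.smul_right, hpv, mul_zero])
  refine ⟨t, htG, fun x => ?_⟩
  rw [ht x, C.q_smul, hv, C.hf.smul_left]
  unfold Ctx.sgv
  module

/-- SGALG3: `sgq (p, v) * sgq (p, v') = sgq (p, v + v')`. -/
theorem sgq_mul (C : Ctx a b F) (p v v' : Fin a × Fin b → F) (hp : C.q p = 0) (hpv : C.f p v = 0)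
    (hpv' : C.f p v' = 0) (t t' : Matrix.GeneralLinearGroup (Fin a × Fin b) F)
    (ht : C.IsSgQ t p v) (ht' : C.IsSgQ t' p v') : C.IsSgQ (t * t') p (v + v') := by
  intro x
  rw [Units.val_mul, ← Matrix.mulVec_mulVec, ht' x, ht]
  exact tosgalga_comp C p v v' hp hpv hpv' x

end Cfsg.Agent.Lib.helper7.TO
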