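import Cfsg.Agent.Lib.helper7.TP.Defs

/-!
# Project TP (S5637), piece UNIP (helper18): `unip_of_nt`.
-/

set_option autoImplicit false

namespace Cfsg.Agent.Lib.helper7.TP

open Matrix
open scoped Kronecker

variable {a b : ℕ} {F : Type*} [Field F]

/-- the `B`-transvections lie in `T0`. -/
theorem tpunip_mem_T0 (w ψ : Fin b → F) (h : ψ ⬝ᵥ w = 0) :
    EL (1 : Matrix (Fin a) (Fin a) F) w ψ h ∈ T0 a b F := by
  have hdet : (1 + Matrix.vecMulVec w ψ).det = 1 := by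
    rw [Matrix.vecMulVec_eq Unit, Matrix.det_one_add_replicateCol_mul_replicateRow, h, add_zero]
  have hmat : ELm (1 : Matrix (Fin a) (Fin a) F) w ψ =
      (1 : Matrix (Fin a) (Fin a) F) ⊗ₖ (1 + Matrix.vecMulVec w ψ) := by
    rw [ELm, Matrix.kronecker_add, Matrix.one_kronecker_one]
  refine ⟨?_, ?_⟩
  · refine ⟨1, Matrix.GeneralLinearGroup.mkOfDetNeZero (1 + Matrix.vecMulVec w ψ)
      (by rw [hdet]; exact one_ne_zero), ?_⟩
    rw [EL_coe, hmat]
    rfl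
  · change EL (1 : Matrix (Fin a) (Fin a) F) w ψ h ∈
      (Matrix.GeneralLinearGroup.det : _ →* Fˣ).ker
    rw [MonoidHom.mem_ker]
    apply Units.ext
    rw [Matrix.GeneralLinearGroup.val_det_apply, EL_coe, hmat, Matrix.det_kronecker, hdet]
    simp

/-- two linear conditions on `b ≥ 3` unknowns have a non-zero solution. -/
theorem tpunip_exists_perp (hb : 3 ≤ b) (w w' : Fin b → F) :
    ∃ ψ : Fin b → F, ψ ≠ 0 ∧ ψ ⬝ᵥ w = 0 ∧ ψ ⬝ᵥ w' = 0 := by
  let f : (Fin b → F) →ₗ[F] (Fin 2 → F) := (Matrix.of ![w, w']).mulVecLin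
  have hlt : Module.finrank F (Fin 2 → F) < Module.finrank F (Fin b → F) := by
    rw [Module.finrank_fin_fun, Module.finrank_fin_fun]
    omega
  obtain ⟨ψ, hψ, hψ0⟩ := (Submodule.ne_bot_iff _).mp (LinearMap.ker_ne_bot_of_finrank_lt (f := f) hlt)
  refine ⟨ψ, hψ0, ?_, ?_⟩
  · have := congrFun (LinearMap.mem_ker.mp hψ) 0
    simp only [f, Matrix.mulVecLin_apply, Matrix.mulVec, Matrix.of_apply, Matrix.cons_val_zero,
      Pi.zero_apply] at this
    rw [dotProduct_comm]; exact this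
  · have := congrFun (LinearMap.mem_ker.mp hψ) 1
    simp only [f, Matrix.mulVecLin_apply, Matrix.mulVec, Matrix.of_apply, Matrix.cons_val_one,
      Matrix.cons_val_zero, Pi.zero_apply] at this
    rw [dotProduct_comm]; exact this

theorem tpunip_ten_single (i : Fin a) (j : Fin b) :
    ten (Pi.single i (1 : F)) (Pi.single j (1 : F)) = Pi.single (i, j) (1 : F) := by
  funext p
  obtain ⟨p1, p2⟩ := p
  simp only [ten, Pi.single_apply, Prod.mk.injEq]
  by_cases h1 : p1 = i <;> by_cases h2 : p2 = j <;> simp [h1, h2]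

theorem tpunip_ten_eq_zero {u : Fin a → F} {w : Fin b → F} (hw : w ≠ 0) (h : ten u w = 0) :
    u = 0 := by
  obtain ⟨j, hj⟩ := Function.ne_iff.mp hw
  funext i
  have := congrFun h (i, j)
  simp only [ten, Pi.zero_apply, mul_eq_zero] at this
  rcases this with h' | h'
  · exact h'
  · exact absurd h' hj


/-- `u ↦ u ⊗ w` as a linear map. -/
def tpunipTenL (w : Fin b → F) : (Fin a → F) →ₗ[F] (Fin a × Fin b → F) where
  toFun u := ten u w
  map_add' u u' := ten_add_left u u' w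
  map_smul' c u := ten_smul_left c u w

/-- `w ↦ u ⊗ w` as a linear map. -/
def tpunipTenR (u : Fin a → F) : (Fin b → F) →ₗ[F] (Fin a × Fin b → F) where
  toFun w := ten u w
  map_add' w w' := ten_add_right u w w'
  map_smul' c w := ten_smul_right c u w

/-- the `A`-coordinate of `G v - v` read off on the column `j0`. -/
def tpunipZ (G : Matrix (Fin a × Fin b) (Fin a × Fin b) F) (j0 : Fin b) (d : F) :
    (Fin a × Fin b → F) →ₗ[F] (Fin a → F) :=
  LinearMap.pi (fun i => d • LinearMap.proj (i, j0)) ∘ₗ (G.mulVecLin - LinearMap.id)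

theorem tpunipZ_apply (G : Matrix (Fin a × Fin b) (Fin a × Fin b) F) (j0 : Fin b) (d : F)
    (v : Fin a × Fin b → F) (i : Fin a) :
    tpunipZ G j0 d v i = d * ((G *ᵥ v - v) (i, j0)) := by
  simp [tpunipZ]

/-- the core computation: the commutator of `g = 1 + Z` with `x' = 1 ⊗ (1 + w'' ψ'ᵀ)`. -/
theorem tpunip_comm (G : Matrix (Fin a × Fin b) (Fin a × Fin b) F)
    (z : (Fin a × Fin b → F) →ₗ[F] (Fin a → F)) (w w'' ψ' : Fin b → F)
    (hz : ∀ v, G *ᵥ v = v + ten (z v) w) (h1 : ψ' ⬝ᵥ w = 0) (h2 : ψ' ⬝ᵥ w'' = 0)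
    (ζ : Matrix (Fin a) (Fin a) F) (hζ : ∀ u, ζ *ᵥ u = z (ten u w'')) :
    G * ELm 1 w'' ψ' = ELm ζ w ψ' * ELm 1 w'' ψ' * G := by
  rw [Matrix.ext_iff_mulVec]
  intro v
  rw [← Matrix.mulVec_mulVec, ← Matrix.mulVec_mulVec, ← Matrix.mulVec_mulVec]
  rw [ELm_mulVec 1 w'' ψ' v, Matrix.one_mulVec, hz (v + ten (ctr ψ' v) w''), map_add, ← hζ]
  rw [hz v, ELm_mulVec 1 w'' ψ', Matrix.one_mulVec, ctr_add, ctr_ten, h1, zero_smul, add_zero]
  rw [ELm_mulVec ζ w ψ', ctr_add, ctr_add, ctr_ten, ctr_ten, h1, h2, zero_smul, zero_smul,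
    add_zero, add_zero, ten_add_left]
  abel


/-- UNIP (step A): `M ∩ U_L = R_L` for `L = A ⊗ w`. -/
theorem unip_of_nt (ha : 1 ≤ a) (hb : 3 ≤ b)
    (M : Subgroup (Matrix.GeneralLinearGroup (Fin a × Fin b) F)) (hTM : T0 a b F ≤ M) (hNT : NT M)
    (w : Fin b → F) (hw : w ≠ 0) (g : Matrix.GeneralLinearGroup (Fin a × Fin b) F) (hg : g ∈ M)
    (h1 : ∀ v : Fin a × Fin b → F,
      (g : Matrix (Fin a × Fin b) (Fin a × Fin b) F) *ᵥ v - v ∈ Bline (a := a) w)
    (h2 : ∀ u : Fin a → F,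
      (g : Matrix (Fin a × Fin b) (Fin a × Fin b) F) *ᵥ ten u w = ten u w) :
    ∃ ψ : Fin b → F, ψ ⬝ᵥ w = 0 ∧
      (g : Matrix (Fin a × Fin b) (Fin a × Fin b) F) = ELm 1 w ψ := by
  classical
  obtain ⟨j0, hj0⟩ := Function.ne_iff.mp hw
  rw [Pi.zero_apply] at hj0
  set G : Matrix (Fin a × Fin b) (Fin a × Fin b) F :=
    (g : Matrix (Fin a × Fin b) (Fin a × Fin b) F) with hG
  set z := tpunipZ G j0 (w j0)⁻¹ with hzdef
  have hz : ∀ v, G *ᵥ v = v + ten (z v) w := by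
    intro v
    obtain ⟨u, hu⟩ := (mem_Bline w _).mp (h1 v)
    have hzu : z v = u := by
      funext i
      rw [hzdef, tpunipZ_apply, hu]
      simp only [ten]
      field_simp
    rw [hzu, ← hu]
    abel
  let i0 : Fin a := ⟨0, by omega⟩
  -- step A : scalar action for every `w''`
  have hA : ∀ w'' : Fin b → F, ∃ c : F, ∀ u : Fin a → F, z (ten u w'') = c • u := by
    intro w''
    obtain ⟨ψ', hψ'0, hψ'w, hψ'w''⟩ := tpunip_exists_perp hb w w''
    set ζ : Matrix (Fin a) (Fin a) F := LinearMap.toMatrix' (z ∘ₗ tpunipTenL w'') with hζdef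
    have hζ : ∀ u, ζ *ᵥ u = z (ten u w'') := by
      intro u
      rw [hζdef, LinearMap.toMatrix'_mulVec]
      rfl
    have hcomm := tpunip_comm G z w w'' ψ' hz hψ'w hψ'w'' ζ hζ
    have hx'M : EL (1 : Matrix (Fin a) (Fin a) F) w'' ψ' hψ'w'' ∈ M :=
      hTM (tpunip_mem_T0 w'' ψ' hψ'w'')
    have hgl : g * EL (1 : Matrix (Fin a) (Fin a) F) w'' ψ' hψ'w'' =
        EL ζ w ψ' hψ'w * EL (1 : Matrix (Fin a) (Fin a) F) w'' ψ' hψ'w'' * g := by
      apply Units.ext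
      simp only [Units.val_mul, EL_coe]
      exact hcomm
    have hEM : EL ζ w ψ' hψ'w ∈ M := by
      have : EL ζ w ψ' hψ'w =
          g * EL (1 : Matrix (Fin a) (Fin a) F) w'' ψ' hψ'w'' *
            (EL (1 : Matrix (Fin a) (Fin a) F) w'' ψ' hψ'w'' * g)⁻¹ := by
        rw [eq_mul_inv_iff_mul_eq, ← mul_assoc]
        exact hgl.symm
      rw [this]
      exact M.mul_mem (M.mul_mem hg hx'M) (M.inv_mem (M.mul_mem hx'M hg))
    obtain ⟨c, hc⟩ := hNT ζ ⟨w, ψ', EL ζ w ψ' hψ'w, hw, hψ'0, hψ'w, rfl, hEM⟩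
    refine ⟨c, fun u => ?_⟩
    rw [← hζ u, hc, Matrix.smul_mulVec, Matrix.one_mulVec]
  -- the functional
  let φ : (Fin b → F) →ₗ[F] F := LinearMap.proj i0 ∘ₗ z ∘ₗ tpunipTenR (Pi.single i0 (1 : F))
  let ψ : Fin b → F := fun j => φ (fun j' => if j = j' then 1 else 0)
  have hφ : ∀ w'' : Fin b → F, φ w'' = ψ ⬝ᵥ w'' := by
    intro w''
    rw [LinearMap.pi_apply_eq_sum_univ φ w'', dotProduct]
    apply Finset.sum_congr rfl
    intro j _
    rw [smul_eq_mul, mul_comm]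
  have hC : ∀ (w'' : Fin b → F) (u : Fin a → F), z (ten u w'') = (ψ ⬝ᵥ w'') • u := by
    intro w'' u
    obtain ⟨c, hc⟩ := hA w''
    have h3 : φ w'' = c := by
      have := congrFun (hc (Pi.single i0 1)) i0
      simpa [φ, tpunipTenR] using this
    rw [hc u, ← hφ w'', h3]
  have hψw : ψ ⬝ᵥ w = 0 := by
    have h3 := h2 (Pi.single i0 1)
    rw [hz, hC w, add_eq_left] at h3
    have h4 := tpunip_ten_eq_zero hw h3
    have h5 := congrFun h4 i0
    simpa using h5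
  refine ⟨ψ, hψw, ?_⟩
  apply Matrix.ext_of_mulVec_single
  rintro ⟨i, j⟩
  rw [← tpunip_ten_single, hz, hC, ELm_mulVec, Matrix.one_mulVec, ctr_ten]

end Cfsg.Agent.Lib.helper7.TP
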