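import Cfsg.Agent.Lib.Helper27.TS2.Defs

/-!
# Project TS2, row OTRANS: `O(B)` is transitive on the non-zero singular vectors (`ob_trans_sing`)
-/

set_option autoImplicit false
set_option linter.unusedSectionVars false
set_option linter.unusedVariables false

namespace Cfsg.Agent.Lib.Helper21.TS

open Matrix
open scoped Kronecker
open Cfsg.Agent.Lib.helper7.TP

variable {a b : ℕ} {F : Type*} [Field F]

/-- the reflection in a non-singular vector `n`, as an element of `Iso J`. -/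
theorem ts2otrans_refl {J : Matrix (Fin b) (Fin b) F} (hJ : Jᵀ = J) (n : Fin b → F)
    (hn : bf J n n ≠ 0) :
    ∃ β ∈ Iso J, ∀ x : Fin b → F,
      (β : Matrix (Fin b) (Fin b) F) *ᵥ x = x + ((-2 / bf J n n) * bf J n x) • n := by
  have hsq : tvm J n (-2 / bf J n n) * tvm J n (-2 / bf J n n) = 1 := by
    rw [Matrix.ext_iff_mulVec]
    intro x
    rw [← Matrix.mulVec_mulVec, tvm_mulVec, tvm_mulVec, bf_add_right, bf_smul_right,
      Matrix.one_mulVec, add_assoc, ← add_smul]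
    have : (-2 / bf J n n * bf J n x + -2 / bf J n n * (bf J n x + -2 / bf J n n * bf J n x * bf J n n)) = 0 := by
      field_simp
      ring
    rw [this, zero_smul, add_zero]
  refine ⟨⟨tvm J n (-2 / bf J n n), tvm J n (-2 / bf J n n), hsq, hsq⟩, ?_, ?_⟩
  · rw [mem_Iso_iff_bf]
    intro x y
    show bf J (tvm J n (-2 / bf J n n) *ᵥ x) (tvm J n (-2 / bf J n n) *ᵥ y) = bf J x y
    rw [tvm_mulVec, tvm_mulVec, bf_add_left, bf_add_right, bf_add_right, bf_smul_left,
      bf_smul_left, bf_smul_right, bf_smul_right, bf_symm hJ x n]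
    field_simp
    ring
  · intro x
    show tvm J n (-2 / bf J n n) *ᵥ x = _
    rw [tvm_mulVec]

/-- one reflection: singular `w`, `w'` with `f(w, w') ≠ 0`. -/
theorem ts2otrans_step {J : Matrix (Fin b) (Fin b) F} (hJ : Jᵀ = J) (two : (2 : F) ≠ 0)
    {w w' : Fin b → F} (hw0 : bf J w w = 0) (hw0' : bf J w' w' = 0) (hc : bf J w w' ≠ 0) :
    ∃ β ∈ Iso J, (β : Matrix (Fin b) (Fin b) F) *ᵥ w = w' := by
  have hnn : bf J (w - w') (w - w') = -2 * bf J w w' := by
    rw [bf_sub_left, bf_sub_right, bf_sub_right, hw0, hw0', bf_symm hJ w' w]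
    ring
  have hn : bf J (w - w') (w - w') ≠ 0 := by
    rw [hnn]
    exact mul_ne_zero (neg_ne_zero.mpr two) hc
  obtain ⟨β, hβ, hβx⟩ := ts2otrans_refl hJ (w - w') hn
  refine ⟨β, hβ, ?_⟩
  rw [hβx, hnn, bf_sub_left, hw0, bf_symm hJ w' w]
  have : (-2 / (-2 * bf J w w') * (0 - bf J w w')) = -1 := by
    field_simp
    ring
  rw [this]
  funext i
  simp only [Pi.add_apply, Pi.smul_apply, Pi.sub_apply, smul_eq_mul]
  ring

/-- OTRANS. `O(B)` is transitive on the non-zero singular vectors. -/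
theorem ob_trans_sing {J : Matrix (Fin b) (Fin b) F} (hJ : Jᵀ = J) (two : (2 : F) ≠ 0)
    (hdet : J.det ≠ 0) {w w' : Fin b → F} (hw : w ≠ 0) (hw' : w' ≠ 0) (hw0 : bf J w w = 0)
    (hw0' : bf J w' w' = 0) :
    ∃ β ∈ Iso J, (β : Matrix (Fin b) (Fin b) F) *ᵥ w = w' := by
  by_cases hc : bf J w w' = 0
  · -- find `y` with `f(w,y) ≠ 0 ≠ f(w',y)`
    have hy : ∃ y, bf J w y ≠ 0 ∧ bf J w' y ≠ 0 := by
      obtain ⟨x₁, hx₁⟩ := bf_nondeg hdet hw
      obtain ⟨x₂, hx₂⟩ := bf_nondeg hdet hw'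
      by_cases h1 : bf J w' x₁ = 0
      · by_cases h2 : bf J w x₂ = 0
        · refine ⟨x₁ + x₂, ?_, ?_⟩
          · rw [bf_add_right, h2, add_zero]; exact hx₁
          · rw [bf_add_right, h1, zero_add]; exact hx₂
        · exact ⟨x₂, h2, hx₂⟩
      · exact ⟨x₁, hx₁, h1⟩
    obtain ⟨y, hy1, hy2⟩ := hy
    have hw'w : bf J w' w = 0 := by rw [bf_symm hJ]; exact hc
    -- the singular vector `w''`
    have h00 : bf J (y - (bf J y y / (2 * bf J w y)) • w) (y - (bf J y y / (2 * bf J w y)) • w) = 0 := by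
      rw [bf_sub_left, bf_sub_right, bf_sub_right, bf_smul_left, bf_smul_left, bf_smul_right,
        bf_smul_right, hw0, bf_symm hJ y w]
      field_simp
      ring
    have h1 : bf J w (y - (bf J y y / (2 * bf J w y)) • w) ≠ 0 := by
      rw [bf_sub_right, bf_smul_right, hw0, mul_zero, sub_zero]; exact hy1
    have h2 : bf J (y - (bf J y y / (2 * bf J w y)) • w) w' ≠ 0 := by
      rw [bf_symm hJ, bf_sub_right, bf_smul_right, hw'w, mul_zero, sub_zero]; exact hy2
    obtain ⟨β₁, hβ₁, e₁⟩ := ts2otrans_step hJ two hw0 h00 h1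
    obtain ⟨β₂, hβ₂, e₂⟩ := ts2otrans_step hJ two h00 hw0' h2
    refine ⟨β₂ * β₁, mul_mem hβ₂ hβ₁, ?_⟩
    rw [Units.val_mul, ← Matrix.mulVec_mulVec, e₁, e₂]
  · exact ts2otrans_step hJ two hw0 hw0' hc

end Cfsg.Agent.Lib.Helper21.TS
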