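import Mathlib
import Cfsg.Agent.Lib.Helper16.TSDSKEWh16

/-!
# TSD (S5980) row SKEW, verbatim name: wrapper around helper16's `tsdskew_h16_rank_even`.
-/

set_option autoImplicit false

namespace Cfsg.Agent.Lib.helper4.TSD

open Matrix

variable {F : Type*} [Field F]

/-- SKEW [M]. A skew-symmetric matrix (`2 ≠ 0`) has even rank. -/
theorem tsd_skew_rank_even (h2 : (2 : F) ≠ 0) {n : ℕ} (M : Matrix (Fin n) (Fin n) F) (hM : Mᵀ = -M) :
    Even M.rank :=
  tsdskew_h16_rank_even h2 M hM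

end Cfsg.Agent.Lib.helper4.TSD
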