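import Mathlib
import Cfsg.Agent.Lib.Helper1.Nilp
import Cfsg.Agent.Lib.Helper1.Fitting
import Cfsg.Agent.Lib.helper4.AutFitting
import Cfsg.Agent.Lib.Helper12.Local
import Cfsg.Agent.Lib.Helper24.TwoInvol
import Cfsg.Prelude.Def_Local

set_option autoImplicit false

namespace Cfsg.Agent.Lib.Helper18.ThompsonDihedral

section Eigen

variable {Q : Type*} [Group Q]

/-- points of `Z` fixed by `σ` -/
def fixSub (Z : Subgroup Q) (σ : MulAut Q) : Subgroup Q where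
  carrier := {z | z ∈ Z ∧ σ z = z}
  mul_mem' := by
    rintro a b ⟨ha, ha'⟩ ⟨hb, hb'⟩
    exact ⟨Z.mul_mem ha hb, by rw [map_mul, ha', hb']⟩
  one_mem' := ⟨Z.one_mem, map_one σ⟩
  inv_mem' := by
    rintro a ⟨ha, ha'⟩
    exact ⟨Z.inv_mem ha, by rw [map_inv, ha']⟩

theorem mem_fixSub (Z : Subgroup Q) (σ : MulAut Q) (z : Q) :
    z ∈ fixSub Z σ ↔ z ∈ Z ∧ σ z = z := Iff.rfl

theorem fixSub_le (Z : Subgroup Q) (σ : MulAut Q) : fixSub Z σ ≤ Z := fun _ hz => hz.1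

theorem card_lt_of_lt [Finite Q] {H K : Subgroup Q} (h : H < K) : Nat.card H < Nat.card K := by
  by_contra hge
  push Not at hge
  exact h.ne (Subgroup.eq_of_le_of_card_ge h.le hge)

theorem eigen [Finite Q] (S : Set (MulAut Q)) :
    ∀ n : ℕ, ∀ Z : Subgroup Q, Nat.card Z = n → Z ≠ ⊥ →
      (∀ a ∈ Z, ∀ b ∈ Z, a * b = b * a) →
      (∀ σ ∈ S, ∀ z ∈ Z, σ z ∈ Z) →
      (∀ σ ∈ S, ∀ z ∈ Z, σ (σ z) = z) →
      (∀ σ ∈ S, ∀ τ ∈ S, ∀ z ∈ Z, σ (τ z) = τ (σ z)) →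
      ∃ z ∈ Z, z ≠ 1 ∧ ∀ σ ∈ S, σ z = z ∨ σ z = z⁻¹ := by
  intro n
  induction n using Nat.strong_induction_on with
  | _ n ih =>
    intro Z hn hZ hc hinv h2 hcomm
    by_cases h : ∃ σ ∈ S, fixSub Z σ ≠ ⊥ ∧ fixSub Z σ ≠ Z
    · obtain ⟨σ, hσ, h1, h2'⟩ := h
      have hlt : fixSub Z σ < Z := lt_of_le_of_ne (fixSub_le Z σ) h2'
      have hcard : Nat.card (fixSub Z σ) < n := by
        rw [← hn]; exact card_lt_of_lt hlt
      obtain ⟨z, hz, hz1, hzS⟩ := ih _ hcard (fixSub Z σ) rfl h1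
        (fun a ha b hb => hc a ha.1 b hb.1)
        (fun τ hτ z hz => ⟨hinv τ hτ z hz.1, by rw [hcomm σ hσ τ hτ z hz.1, hz.2]⟩)
        (fun τ hτ z hz => h2 τ hτ z hz.1)
        (fun τ hτ ρ hρ z hz => hcomm τ hτ ρ hρ z hz.1)
      exact ⟨z, hz.1, hz1, hzS⟩
    · push Not at h
      obtain ⟨z, hz1⟩ := (Subgroup.ne_bot_iff_exists_ne_one).mp hZ
      have hz1' : (z : Q) ≠ 1 := fun h => hz1 (Subtype.ext h)
      refine ⟨z, z.2, hz1', ?_⟩
      intro σ hσ
      by_cases hb : fixSub Z σ = ⊥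
      · right
        have hmem : (z : Q) * σ z ∈ fixSub Z σ := by
          refine ⟨Z.mul_mem z.2 (hinv σ hσ z z.2), ?_⟩
          rw [map_mul, h2 σ hσ z z.2]
          exact hc _ (hinv σ hσ z z.2) _ z.2
        rw [hb, Subgroup.mem_bot] at hmem
        exact (eq_inv_of_mul_eq_one_right hmem)
      · left
        have := h σ hσ hb
        have hzm : (z : Q) ∈ fixSub Z σ := by rw [this]; exact z.2
        exact hzm.2

end Eigen

section Core

variable {N : Type*} [Group N]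

theorem eq_one_of_sq_of_odd {W : Subgroup N} (hodd : Odd (Nat.card W)) {w : N} (hw : w ∈ W)
    (h : w * w = 1) : w = 1 := by
  have h1 : orderOf w ∣ 2 := orderOf_dvd_of_pow_eq_one (by rw [pow_two]; exact h)
  have h2 : orderOf w ∣ Nat.card W := W.orderOf_dvd_natCard hw
  have h3 : orderOf w ∣ Nat.gcd 2 (Nat.card W) := Nat.dvd_gcd h1 h2
  rw [Nat.Coprime.gcd_eq_one hodd.coprime_two_left] at h3
  exact orderOf_eq_one_iff.mp (Nat.dvd_one.mp h3)

/-- elements of `W` inverted by `σ` -/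
def invSub (W : Subgroup N) (hW : ∀ a ∈ W, ∀ b ∈ W, a * b = b * a) (σ : MulAut N) :
    Subgroup N where
  carrier := {w | w ∈ W ∧ σ w = w⁻¹}
  mul_mem' := by
    rintro a b ⟨ha, ha'⟩ ⟨hb, hb'⟩
    refine ⟨W.mul_mem ha hb, ?_⟩
    rw [map_mul, ha', hb', mul_inv_rev]
    exact hW _ (W.inv_mem ha) _ (W.inv_mem hb)
  one_mem' := ⟨W.one_mem, by simp⟩
  inv_mem' := by
    rintro a ⟨ha, ha'⟩
    exact ⟨W.inv_mem ha, by rw [map_inv, ha']⟩

/-- elements of `𝒜` fixing `z` -/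
def stabSub (A : Subgroup (MulAut N)) (z : N) : Subgroup (MulAut N) where
  carrier := {σ | σ ∈ A ∧ σ z = z}
  mul_mem' := by
    rintro a b ⟨ha, ha'⟩ ⟨hb, hb'⟩
    exact ⟨A.mul_mem ha hb, by rw [MulAut.mul_apply, hb', ha']⟩
  one_mem' := ⟨A.one_mem, rfl⟩
  inv_mem' := by
    rintro a ⟨ha, ha'⟩
    refine ⟨A.inv_mem ha, ?_⟩
    rw [MulAut.inv_apply, MulEquiv.symm_apply_eq, ha']

theorem stabSub_le (A : Subgroup (MulAut N)) (z : N) : stabSub A z ≤ A := fun _ h => h.1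

theorem invol_apply {A : Subgroup (MulAut N)} (h2 : ∀ σ ∈ A, σ * σ = 1) {σ : MulAut N}
    (hσ : σ ∈ A) (x : N) : σ (σ x) = x := by
  have := congrArg (fun f : MulAut N => f x) (h2 σ hσ)
  simpa [MulAut.mul_apply] using this

theorem invol_comm {A : Subgroup (MulAut N)} (h2 : ∀ σ ∈ A, σ * σ = 1) {σ τ : MulAut N}
    (hσ : σ ∈ A) (hτ : τ ∈ A) : σ * τ = τ * σ := by
  have h1 : σ⁻¹ = σ := inv_eq_of_mul_eq_one_left (h2 σ hσ)
  have h3 : τ⁻¹ = τ := inv_eq_of_mul_eq_one_left (h2 τ hτ)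
  have h4 : (σ * τ)⁻¹ = σ * τ := inv_eq_of_mul_eq_one_left (h2 _ (A.mul_mem hσ hτ))
  rw [← h4, mul_inv_rev, h1, h3]

theorem invol_comm_apply {A : Subgroup (MulAut N)} (h2 : ∀ σ ∈ A, σ * σ = 1) {σ τ : MulAut N}
    (hσ : σ ∈ A) (hτ : τ ∈ A) (x : N) : σ (τ x) = τ (σ x) := by
  have := congrArg (fun f : MulAut N => f x) (invol_comm h2 hσ hτ)
  simpa [MulAut.mul_apply] using this

theorem key_fix [Finite N] {A : Subgroup (MulAut N)} {W : Subgroup N}
    (h2 : ∀ σ ∈ A, σ * σ = 1)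
    (hW : ∀ a ∈ W, ∀ b ∈ W, a * b = b * a) (hodd : Odd (Nat.card W))
    (hinv : ∀ σ ∈ A, ∀ w ∈ W, σ w ∈ W)
    (hfaith : ∀ σ ∈ A, (∀ w ∈ W, σ w = w) → σ = 1)
    {a₁ : MulAut N} (ha₁ : a₁ ∈ A)
    (hmax : ∀ τ ∈ A, τ ≠ 1 → Nat.card (fixSub W τ) ≤ Nat.card (fixSub W a₁))
    {τ : MulAut N} (hτ : τ ∈ A) (hfix : ∀ w ∈ fixSub W a₁, τ w = w) : τ = 1 ∨ τ = a₁ := by
  by_contra hcon
  push Not at hcon
  obtain ⟨hτ1, hτa⟩ := hcon
  obtain ⟨ρ, hρ⟩ : ∃ ρ, ρ = a₁ * τ := ⟨_, rfl⟩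
  have hρA : ρ ∈ A := by rw [hρ]; exact A.mul_mem ha₁ hτ
  have hρ1 : ρ ≠ 1 := by
    intro h
    apply hτa
    have h1 : a₁⁻¹ = a₁ := inv_eq_of_mul_eq_one_left (h2 a₁ ha₁)
    rw [← h1]
    rw [hρ] at h
    exact (eq_inv_of_mul_eq_one_right h)
  have hfτ : fixSub W a₁ = fixSub W τ := by
    apply Subgroup.eq_of_le_of_card_ge
    · intro w hw; exact ⟨hw.1, hfix w hw⟩
    · exact hmax τ hτ hτ1
  apply hρ1
  apply hfaith ρ hρA
  intro w hw
  have haw : a₁ w ∈ W := hinv a₁ ha₁ w hw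
  obtain ⟨u, hu⟩ : ∃ u, u = w * (a₁ w)⁻¹ := ⟨_, rfl⟩
  have huW : u ∈ W := by rw [hu]; exact W.mul_mem hw (W.inv_mem haw)
  have hau : a₁ u = u⁻¹ := by
    rw [hu, map_mul, map_inv, invol_apply h2 ha₁, mul_inv_rev, inv_inv]
  have hτu : τ u ∈ W := hinv τ hτ u huW
  obtain ⟨v, hv⟩ : ∃ v, v = u * τ u := ⟨_, rfl⟩
  have hvW : v ∈ W := by rw [hv]; exact W.mul_mem huW hτu
  have hvfix : v ∈ fixSub W τ := by
    refine ⟨hvW, ?_⟩
    rw [hv, map_mul, invol_apply h2 hτ]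
    exact hW _ hτu _ huW
  rw [← hfτ] at hvfix
  have hav : a₁ v = v⁻¹ := by
    rw [hv, map_mul, invol_comm_apply h2 ha₁ hτ, hau, map_inv, mul_inv_rev]
    exact hW _ (W.inv_mem huW) _ (W.inv_mem hτu)
  have hv1 : v = 1 := by
    apply eq_one_of_sq_of_odd hodd hvW
    have h3 : v⁻¹ = v := by rw [← hav]; exact hvfix.2
    calc v * v = v * v⁻¹ := by rw [h3]
      _ = 1 := mul_inv_cancel v
  have hτu' : τ u = u⁻¹ := by
    rw [hv] at hv1
    exact (eq_inv_of_mul_eq_one_right hv1)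
  have hρu : ρ u = u := by
    rw [hρ, MulAut.mul_apply, hτu', map_inv, hau, inv_inv]
  obtain ⟨f, hf⟩ : ∃ f, f = w * a₁ w := ⟨_, rfl⟩
  have hfW : f ∈ fixSub W a₁ := by
    rw [hf]
    refine ⟨W.mul_mem hw haw, ?_⟩
    rw [map_mul, invol_apply h2 ha₁]
    exact hW _ haw _ hw
  have hρf : ρ f = f := by
    rw [hρ, MulAut.mul_apply, hfix f hfW, hfW.2]
  have hww : w * w = f * u := by
    rw [hf, hu]
    have hc := hW _ haw _ hw
    calc w * w = w * (w * (a₁ w * (a₁ w)⁻¹)) := by rw [mul_inv_cancel, mul_one]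
      _ = w * ((w * a₁ w) * (a₁ w)⁻¹) := by rw [mul_assoc]
      _ = w * ((a₁ w * w) * (a₁ w)⁻¹) := by rw [hc]
      _ = w * a₁ w * (w * (a₁ w)⁻¹) := by simp only [mul_assoc]
  have hρww : ρ w * ρ w = w * w := by
    rw [← map_mul, hww, map_mul, hρf, hρu]
  have hρw : ρ w ∈ W := hinv ρ hρA w hw
  have ht : (ρ w * w⁻¹) * (ρ w * w⁻¹) = 1 := by
    have hc := hW _ (W.inv_mem hw) _ hρw
    calc (ρ w * w⁻¹) * (ρ w * w⁻¹) = ρ w * (w⁻¹ * ρ w) * w⁻¹ := by simp only [mul_assoc]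
      _ = ρ w * (ρ w * w⁻¹) * w⁻¹ := by rw [hc]
      _ = (ρ w * ρ w) * (w⁻¹ * w⁻¹) := by simp only [mul_assoc]
      _ = 1 := by rw [hρww]; group
  have := eq_one_of_sq_of_odd hodd (W.mul_mem hρw (W.inv_mem hw)) ht
  exact mul_inv_eq_one.mp this

theorem card_stabSub [Finite N] {A : Subgroup (MulAut N)} {z : N} {a₁ : MulAut N} {d : ℕ}
    (hcard : Nat.card A = 2 ^ (d + 1)) (ha₁ : a₁ ∈ A) (ha₁z : a₁ z = z⁻¹) (hz : z ≠ z⁻¹)
    (heig : ∀ σ ∈ A, σ z = z ∨ σ z = z⁻¹) : Nat.card (stabSub A z) = 2 ^ d := by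
  have hidx : ((stabSub A z).subgroupOf A).index = 2 := by
    rw [Subgroup.index_eq_two_iff]
    refine ⟨⟨a₁, ha₁⟩, ?_⟩
    intro b
    rcases heig b b.2 with hb | hb
    · right
      refine ⟨?_, ?_⟩
      · rw [Subgroup.mem_subgroupOf]
        exact ⟨b.2, hb⟩
      · rw [Subgroup.mem_subgroupOf]
        intro h
        have h3 : ((b : MulAut N) * a₁) z = z := h.2
        rw [MulAut.mul_apply, ha₁z, map_inv, hb] at h3
        exact hz h3.symm
    · left
      refine ⟨?_, ?_⟩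
      · rw [Subgroup.mem_subgroupOf]
        refine ⟨A.mul_mem b.2 ha₁, ?_⟩
        show ((b : MulAut N) * a₁) z = z
        rw [MulAut.mul_apply, ha₁z, map_inv, hb, inv_inv]
      · rw [Subgroup.mem_subgroupOf]
        intro h
        have h3 : (b : MulAut N) z = z := h.2
        rw [hb] at h3
        exact hz h3.symm
  have h1 := Subgroup.card_mul_index ((stabSub A z).subgroupOf A)
  rw [hidx, hcard, Nat.card_congr (Subgroup.subgroupOfEquivOfLe (stabSub_le A z)).toEquiv,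
    pow_succ] at h1
  exact Nat.eq_of_mul_eq_mul_right (by norm_num) h1

theorem core [Finite N] (d : ℕ) : ∀ (A : Subgroup (MulAut N)) (W : Subgroup N),
    (∀ σ ∈ A, σ * σ = 1) → Nat.card A = 2 ^ d →
    (∀ a ∈ W, ∀ b ∈ W, a * b = b * a) → Odd (Nat.card W) →
    (∀ σ ∈ A, ∀ w ∈ W, σ w ∈ W) →
    (∀ σ ∈ A, (∀ w ∈ W, σ w = w) → σ = 1) →
    ∃ (s : Fin d → MulAut N) (y : Fin d → N),
      (∀ i, s i ∈ A ∧ y i ∈ W ∧ y i ≠ 1 ∧ s i (y i) = (y i)⁻¹) ∧
      (∀ i j, i ≠ j → s j (y i) = y i) ∧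
      Subgroup.closure (Set.range s) = A := by
  induction d with
  | zero =>
    intro A W _ hcard _ _ _ _
    refine ⟨Fin.elim0, Fin.elim0, fun i => i.elim0, fun i => i.elim0, ?_⟩
    have hA : A = ⊥ := Subgroup.card_eq_one.mp (by simpa using hcard)
    rw [hA, Set.range_eq_empty, Subgroup.closure_empty]
  | succ d ih =>
    intro A W h2 hcard hW hodd hinv hfaith
    -- a nontrivial element
    have hAne : A ≠ ⊥ := by
      intro h
      rw [h, Subgroup.card_bot] at hcard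
      have : 2 ≤ 2 ^ (d + 1) := by
        calc 2 = 2 ^ 1 := by norm_num
          _ ≤ 2 ^ (d + 1) := Nat.pow_le_pow_right (by norm_num) (by omega)
      omega
    obtain ⟨σ₀, hσ₀⟩ := (Subgroup.ne_bot_iff_exists_ne_one).mp hAne
    have hσ₀' : (σ₀ : MulAut N) ≠ 1 := fun h => hσ₀ (Subtype.ext h)
    obtain ⟨a₁, ⟨ha₁, ha₁1⟩, hmax'⟩ := Set.exists_max_image {σ : MulAut N | σ ∈ A ∧ σ ≠ 1}
      (fun σ => Nat.card (fixSub W σ)) (Set.toFinite _) ⟨σ₀, σ₀.2, hσ₀'⟩
    have hmax : ∀ τ ∈ A, τ ≠ 1 → Nat.card (fixSub W τ) ≤ Nat.card (fixSub W a₁) :=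
      fun τ hτ hτ1 => hmax' τ ⟨hτ, hτ1⟩
    have hK : ∀ τ ∈ A, (∀ w ∈ fixSub W a₁, τ w = w) → τ = 1 ∨ τ = a₁ :=
      fun τ hτ hfix => key_fix h2 hW hodd hinv hfaith ha₁ hmax hτ hfix
    -- the inverted part is nontrivial
    have hex : ∃ w ∈ W, a₁ w ≠ w := by
      by_contra hcon
      push Not at hcon
      exact ha₁1 (hfaith a₁ ha₁ hcon)
    obtain ⟨w₀, hw₀, hw₀'⟩ := hex
    have hIne : invSub W hW a₁ ≠ ⊥ := by
      intro h
      have hmem : w₀ * (a₁ w₀)⁻¹ ∈ invSub W hW a₁ := by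
        refine ⟨W.mul_mem hw₀ (W.inv_mem (hinv a₁ ha₁ w₀ hw₀)), ?_⟩
        rw [map_mul, map_inv, invol_apply h2 ha₁, mul_inv_rev, inv_inv]
      rw [h, Subgroup.mem_bot, mul_inv_eq_one] at hmem
      exact hw₀' hmem.symm
    obtain ⟨z, hzI, hz1, hzeig⟩ := eigen (A : Set (MulAut N)) _ (invSub W hW a₁) rfl hIne
      (fun a ha b hb => hW a ha.1 b hb.1)
      (fun σ hσ w hw => ⟨hinv σ hσ w hw.1, by
        rw [invol_comm_apply h2 ha₁ hσ, hw.2, map_inv]⟩)
      (fun σ hσ w _ => invol_apply h2 hσ w)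
      (fun σ hσ τ hτ w _ => invol_comm_apply h2 hσ hτ w)
    have hzW : z ∈ W := hzI.1
    have ha₁z : a₁ z = z⁻¹ := hzI.2
    have hzz : z ≠ z⁻¹ := by
      intro h
      apply hz1
      apply eq_one_of_sq_of_odd hodd hzW
      calc z * z = z * z⁻¹ := by rw [← h]
        _ = 1 := mul_inv_cancel z
    have hBcard : Nat.card (stabSub A z) = 2 ^ d := card_stabSub hcard ha₁ ha₁z hzz hzeig
    have ha₁B : a₁ ∉ stabSub A z := by
      intro h
      have h3 : a₁ z = z := h.2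
      rw [ha₁z] at h3
      exact hzz h3.symm
    have hW₁odd : Odd (Nat.card (fixSub W a₁)) :=
      Odd.of_dvd_nat hodd (Subgroup.card_dvd_of_le (fixSub_le W a₁))
    obtain ⟨s', y', h1, h3, h4⟩ := ih (stabSub A z) (fixSub W a₁)
      (fun σ hσ => h2 σ hσ.1) hBcard
      (fun a ha b hb => hW a ha.1 b hb.1) hW₁odd
      (fun σ hσ w hw => ⟨hinv σ hσ.1 w hw.1, by
        rw [invol_comm_apply h2 ha₁ hσ.1, hw.2]⟩)
      (fun σ hσ hfix => by
        rcases hK σ hσ.1 hfix with h | h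
        · exact h
        · exfalso; rw [h] at hσ; exact ha₁B hσ)
    refine ⟨Fin.cons a₁ s', Fin.cons z y', ?_, ?_, ?_⟩
    · intro i
      refine Fin.cases ?_ ?_ i
      · simp only [Fin.cons_zero]
        exact ⟨ha₁, hzW, hz1, ha₁z⟩
      · intro j
        simp only [Fin.cons_succ]
        obtain ⟨hs, hy, hy1, hsy⟩ := h1 j
        exact ⟨hs.1, hy.1, hy1, hsy⟩
    · intro i j
      refine Fin.cases ?_ ?_ i
      · refine Fin.cases ?_ ?_ j
        · intro h; exact absurd rfl h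
        · intro j' _
          simp only [Fin.cons_zero, Fin.cons_succ]
          exact (h1 j').1.2
      · intro i'
        refine Fin.cases ?_ ?_ j
        · intro _
          simp only [Fin.cons_zero, Fin.cons_succ]
          exact (h1 i').2.1.2
        · intro j' hij
          simp only [Fin.cons_succ]
          exact h3 i' j' (fun h => hij (by rw [h]))
    · apply le_antisymm
      · rw [Subgroup.closure_le]
        rintro _ ⟨i, rfl⟩
        refine Fin.cases ?_ ?_ i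
        · simp only [Fin.cons_zero]; exact ha₁
        · intro j; simp only [Fin.cons_succ]; exact (h1 j).1.1
      · have hsub : stabSub A z ≤ Subgroup.closure (Set.range (Fin.cons a₁ s' : Fin (d + 1) → MulAut N)) := by
          rw [← h4]
          apply Subgroup.closure_mono
          rintro _ ⟨j, rfl⟩
          exact ⟨j.succ, by simp only [Fin.cons_succ]⟩
        have ha₁c : a₁ ∈ Subgroup.closure (Set.range (Fin.cons a₁ s' : Fin (d + 1) → MulAut N)) :=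
          Subgroup.subset_closure ⟨0, by simp only [Fin.cons_zero]⟩
        intro σ hσ
        rcases hzeig σ hσ with h | h
        · exact hsub ⟨hσ, h⟩
        · have hmem : a₁ * σ ∈ stabSub A z := by
            refine ⟨A.mul_mem ha₁ hσ, ?_⟩
            show (a₁ * σ) z = z
            rw [MulAut.mul_apply, h, map_inv, ha₁z, inv_inv]
          have : σ = a₁⁻¹ * (a₁ * σ) := by group
          rw [this]
          exact Subgroup.mul_mem _ (Subgroup.inv_mem _ ha₁c) (hsub hmem)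

end Core

section SelfCent

variable {N : Type*} [Group N]

theorem aut_eq_one_of_fix [Finite N]
    (W : Subgroup N) [hWn : W.Normal] (hC : Subgroup.centralizer (W : Set N) ≤ W)
    (σ : MulAut N) (hσ : ∀ x ∈ W, σ x = x) (hcop : (orderOf σ).Coprime (Nat.card N)) :
    σ = 1 := by
  apply MulEquiv.ext
  intro g
  show σ g = g
  obtain ⟨z, hz⟩ : ∃ z, z = g⁻¹ * σ g := ⟨_, rfl⟩
  have hzC : z ∈ Subgroup.centralizer (W : Set N) := by
    rw [Subgroup.mem_centralizer_iff]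
    intro x hx
    have h1 : g * x * g⁻¹ ∈ W := hWn.conj_mem x hx g
    have h2 := hσ _ h1
    rw [map_mul, map_mul, map_inv, hσ x hx] at h2
    have h3 : x * (g⁻¹ * σ g) = g⁻¹ * (g * x * g⁻¹) * σ g := by group
    rw [hz, h3, ← h2]
    group
  have hzW : z ∈ W := hC hzC
  have hσz : σ z = z := hσ z hzW
  have hpow : ∀ k : ℕ, (σ ^ k) g = g * z ^ k := by
    intro k
    induction k with
    | zero => simp
    | succ k ih =>
      have hgz : g * z = σ g := by rw [hz]; group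
      rw [pow_succ', MulAut.mul_apply, ih, map_mul, map_pow, hσz, pow_succ', ← mul_assoc, hgz]
  have h1 : z ^ orderOf σ = 1 := by
    have := hpow (orderOf σ)
    rw [pow_orderOf_eq_one, MulAut.one_apply] at this
    exact (mul_eq_left.mp this.symm)
  have h2 : z ^ Nat.card N = 1 := pow_card_eq_one'
  have h3 : orderOf z ∣ 1 := by
    rw [← Nat.Coprime.gcd_eq_one hcop]
    exact Nat.dvd_gcd (orderOf_dvd_of_pow_eq_one h1) (orderOf_dvd_of_pow_eq_one h2)
  have h4 : z = 1 := orderOf_eq_one_iff.mp (Nat.dvd_one.mp h3)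
  rw [hz] at h4
  have : σ g = g * (g⁻¹ * σ g) := by group
  rw [this, h4, mul_one]

theorem map_eq_of_invol (W : Subgroup N) (σ : MulAut N) (hW : ∀ w ∈ W, σ w ∈ W)
    (h2 : ∀ x, σ (σ x) = x) : W.map (σ : N →* N) = W := by
  ext x
  constructor
  · rintro ⟨w, hw, rfl⟩
    exact hW w hw
  · intro hx
    exact ⟨σ x, hW x hx, h2 x⟩

/-- the automorphism induced on the quotient -/
noncomputable def indAut (W : Subgroup N) [W.Normal] (σ : MulAut N) (hW : ∀ w ∈ W, σ w ∈ W)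
    (h2 : ∀ x, σ (σ x) = x) : MulAut (N ⧸ W) :=
  QuotientGroup.congr W W σ (map_eq_of_invol W σ hW h2)

theorem indAut_mk (W : Subgroup N) [W.Normal] (σ : MulAut N) (hW : ∀ w ∈ W, σ w ∈ W)
    (h2 : ∀ x, σ (σ x) = x) (x : N) :
    indAut W σ hW h2 (QuotientGroup.mk' W x) = QuotientGroup.mk' W (σ x) := by
  unfold indAut
  exact QuotientGroup.congr_mk W W σ _ x

theorem selfcentralizing_of_max [Finite N] [Group.IsNilpotent N]
    (S : Set (MulAut N))
    (hS2 : ∀ σ ∈ S, ∀ x, σ (σ x) = x)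
    (hSc : ∀ σ ∈ S, ∀ τ ∈ S, ∀ x, σ (τ x) = τ (σ x))
    (W : Subgroup N) [hWn : W.Normal] (hWc : ∀ a ∈ W, ∀ b ∈ W, a * b = b * a)
    (hWS : ∀ σ ∈ S, ∀ w ∈ W, σ w ∈ W)
    (hmax : ∀ M : Subgroup N, M.Normal → (∀ a ∈ M, ∀ b ∈ M, a * b = b * a) →
      (∀ σ ∈ S, ∀ m ∈ M, σ m ∈ M) → W ≤ M → M = W) :
    Subgroup.centralizer (W : Set N) ≤ W := by
  by_contra hne
  have hle : W ≤ Subgroup.centralizer (W : Set N) := by
    intro x hx
    rw [Subgroup.mem_centralizer_iff]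
    intro y hy
    exact hWc y hy x hx
  obtain ⟨C, hC⟩ : ∃ C, C = Subgroup.centralizer (W : Set N) := ⟨_, rfl⟩
  rw [← hC] at hne hle
  have hCnorm : C.Normal := by rw [hC]; infer_instance
  obtain ⟨π, hπd⟩ : ∃ π, π = QuotientGroup.mk' W := ⟨_, rfl⟩
  have hπ : Function.Surjective π := by rw [hπd]; exact QuotientGroup.mk'_surjective W
  have hπ1 : ∀ x, π x = 1 ↔ x ∈ W := by
    intro x; rw [hπd]; exact QuotientGroup.eq_one_iff x
  have hCn : (C.map π).Normal := Subgroup.Normal.map hCnorm π hπ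
  have hCne : C.map π ≠ ⊥ := by
    intro hbot
    apply hne
    intro c hc
    have : π c ∈ C.map π := Subgroup.mem_map_of_mem π hc
    rw [hbot, Subgroup.mem_bot] at this
    exact (hπ1 c).mp this
  have hZne := Cfsg.Agent.Lib.Helper1.normal_inf_center_ne_bot (C.map π) hCne
  -- the induced automorphisms
  obtain ⟨Sbar, hSbar⟩ : ∃ Sbar : Set (MulAut (N ⧸ W)),
      Sbar = {τ | ∃ σ ∈ S, ∀ x, τ (π x) = π (σ x)} := ⟨_, rfl⟩
  have hσC : ∀ σ ∈ S, ∀ c ∈ C, σ c ∈ C := by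
    intro σ hσ c hc
    rw [hC, Subgroup.mem_centralizer_iff] at hc ⊢
    intro w hw
    have h1 := hc (σ w) (hWS σ hσ w hw)
    have h2 := congrArg σ h1
    rw [map_mul, map_mul, hS2 σ hσ w] at h2
    exact h2
  obtain ⟨q, hqZ, hq1, hqeig⟩ := eigen Sbar _ (C.map π ⊓ Subgroup.center (N ⧸ W)) rfl hZne
    (fun a _ b hb => Subgroup.mem_center_iff.mp hb.2 a)
    (by
      intro τ hτ q hq
      rw [hSbar] at hτ
      obtain ⟨σ, hσ, hτσ⟩ := hτ
      refine ⟨?_, ?_⟩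
      · obtain ⟨c, hc, rfl⟩ := hq.1
        rw [hτσ]
        exact Subgroup.mem_map_of_mem π (hσC σ hσ c hc)
      · show τ q ∈ Subgroup.center (N ⧸ W)
        rw [Subgroup.mem_center_iff]
        intro g
        obtain ⟨g', rfl⟩ := τ.surjective g
        rw [← map_mul, ← map_mul, Subgroup.mem_center_iff.mp hq.2 g'])
    (by
      intro τ hτ q _
      rw [hSbar] at hτ
      obtain ⟨σ, hσ, hτσ⟩ := hτ
      obtain ⟨x, rfl⟩ := hπ q
      rw [hτσ, hτσ, hS2 σ hσ])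
    (by
      intro τ₁ hτ₁ τ₂ hτ₂ q _
      rw [hSbar] at hτ₁ hτ₂
      obtain ⟨σ₁, hσ₁, hτσ₁⟩ := hτ₁
      obtain ⟨σ₂, hσ₂, hτσ₂⟩ := hτ₂
      obtain ⟨x, rfl⟩ := hπ q
      rw [hτσ₂, hτσ₁, hτσ₁, hτσ₂, hSc σ₁ hσ₁ σ₂ hσ₂])
  obtain ⟨x, hxC, rfl⟩ := hqZ.1
  have hqcent := hqZ.2
  have hxW : x ∉ W := fun h => hq1 ((hπ1 x).mpr h)
  obtain ⟨M, hM⟩ : ∃ M : Subgroup N, M = (Subgroup.zpowers (π x)).comap π := ⟨_, rfl⟩
  have hWM : W ≤ M := by
    intro n hn
    rw [hM]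
    change π n ∈ Subgroup.zpowers (π x)
    rw [(hπ1 n).mpr hn]
    exact Subgroup.one_mem _
  have hxM : x ∈ M := by
    rw [hM]; exact Subgroup.mem_zpowers (π x)
  have hZn : (Subgroup.zpowers (π x)).Normal := by
    constructor
    intro n hn g
    have hn' : n ∈ Subgroup.center (N ⧸ W) := by
      obtain ⟨k, rfl⟩ := hn
      exact Subgroup.zpow_mem _ hqcent k
    have : g * n * g⁻¹ = n := by
      rw [Subgroup.mem_center_iff] at hn'
      rw [hn' g]; group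
    rw [this]; exact hn
  have hMn : M.Normal := by rw [hM]; exact Subgroup.Normal.comap hZn π
  have hMc : ∀ a ∈ M, ∀ b ∈ M, a * b = b * a := by
    have hdec : ∀ a ∈ M, ∃ k : ℤ, ∃ n ∈ W, a = x ^ k * n := by
      intro a ha
      rw [hM] at ha
      obtain ⟨k, hk⟩ := ha
      refine ⟨k, (x ^ k)⁻¹ * a, ?_, by group⟩
      rw [← hπ1]
      rw [map_mul, map_inv, map_zpow]
      have hk' : π x ^ k = π a := hk
      rw [hk']; group
    have hxn : ∀ n ∈ W, ∀ k : ℤ, n * x ^ k = x ^ k * n := by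
      intro n hn k
      have h2 : x ^ k ∈ C := Subgroup.zpow_mem _ hxC k
      rw [hC, Subgroup.mem_centralizer_iff] at h2
      exact h2 n hn
    intro a ha b hb
    obtain ⟨k, n, hn, rfl⟩ := hdec a ha
    obtain ⟨l, m, hm, rfl⟩ := hdec b hb
    calc x ^ k * n * (x ^ l * m) = x ^ k * (n * x ^ l) * m := by group
      _ = x ^ k * (x ^ l * n) * m := by rw [hxn n hn l]
      _ = x ^ l * (x ^ k * (n * m)) := by
          rw [mul_assoc, mul_assoc, ← mul_assoc (x ^ k), ← zpow_add, add_comm, zpow_add]; group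
      _ = x ^ l * (x ^ k * (m * n)) := by rw [hWc n hn m hm]
      _ = x ^ l * ((x ^ k * m) * n) := by group
      _ = x ^ l * ((m * x ^ k) * n) := by rw [hxn m hm k]
      _ = x ^ l * m * (x ^ k * n) := by group
  have hMS : ∀ σ ∈ S, ∀ m ∈ M, σ m ∈ M := by
    intro σ hσ m hm
    have hτ : indAut W σ (hWS σ hσ) (hS2 σ hσ) ∈ Sbar := by
      rw [hSbar]
      refine ⟨σ, hσ, ?_⟩
      intro y
      rw [hπd]
      exact indAut_mk W σ _ _ y
    have hτm : ∀ y, indAut W σ (hWS σ hσ) (hS2 σ hσ) (π y) = π (σ y) := by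
      intro y
      rw [hπd]
      exact indAut_mk W σ _ _ y
    rw [hM] at hm ⊢
    obtain ⟨k, hk⟩ := hm
    change π (σ m) ∈ Subgroup.zpowers (π x)
    have hk' : π x ^ k = π m := hk
    rw [← hτm, ← hk', map_zpow]
    rcases hqeig _ hτ with h | h
    · rw [h]; exact Subgroup.zpow_mem_zpowers _ k
    · rw [h]; exact Subgroup.zpow_mem _ (Subgroup.inv_mem _ (Subgroup.mem_zpowers _)) k
  have := hmax M hMn hMc hMS hWM
  exact hxW (this ▸ hxM)

end SelfCent

section Reduce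

variable {N : Type*} [Group N]

theorem coprime_orderOf_of_invol [Finite N] (hodd : Odd (Nat.card N)) (σ : MulAut N)
    (h2 : ∀ x, σ (σ x) = x) : (orderOf σ).Coprime (Nat.card N) := by
  have h1 : σ ^ 2 = 1 := by
    apply MulEquiv.ext
    intro x
    rw [pow_two, MulAut.mul_apply, h2 x, MulAut.one_apply]
  have h3 : orderOf σ ∣ 2 := orderOf_dvd_of_pow_eq_one h1
  exact Nat.Coprime.coprime_dvd_left h3 hodd.coprime_two_left

theorem exists_faithful_abelian_nilp [Finite N] [Group.IsNilpotent N]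
    (hodd : Odd (Nat.card N)) (S : Set (MulAut N))
    (hS2 : ∀ σ ∈ S, ∀ x, σ (σ x) = x)
    (hSc : ∀ σ ∈ S, ∀ τ ∈ S, ∀ x, σ (τ x) = τ (σ x)) :
    ∃ W : Subgroup N, (∀ a ∈ W, ∀ b ∈ W, a * b = b * a) ∧ (∀ σ ∈ S, ∀ w ∈ W, σ w ∈ W) ∧
      ∀ σ ∈ S, (∀ w ∈ W, σ w = w) → σ = 1 := by
  obtain ⟨W, hWmem, hWmax⟩ := (Set.toFinite {W : Subgroup N | W.Normal ∧
      (∀ a ∈ W, ∀ b ∈ W, a * b = b * a) ∧ ∀ σ ∈ S, ∀ w ∈ W, σ w ∈ W}).exists_maximal
    ⟨⊥, inferInstance, by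
      intro a ha b hb
      rw [Subgroup.mem_bot] at ha hb
      rw [ha, hb], by
      intro σ _ w hw
      rw [Subgroup.mem_bot] at hw ⊢
      rw [hw, map_one]⟩
  obtain ⟨hWn, hWc, hWS⟩ := hWmem
  haveI := hWn
  have hsc := selfcentralizing_of_max S hS2 hSc W hWc hWS (by
    intro M hMn hMc hMS hWM
    exact le_antisymm (hWmax ⟨hMn, hMc, hMS⟩ hWM) hWM)
  refine ⟨W, hWc, hWS, ?_⟩
  intro σ hσ hfix
  exact aut_eq_one_of_fix W hsc σ hfix (coprime_orderOf_of_invol hodd σ (hS2 σ hσ))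

/-- restriction of an automorphism to an invariant subgroup -/
def restrAut (F : Subgroup N) (σ : MulAut N) (h : ∀ x ∈ F, σ x ∈ F)
    (h' : ∀ x ∈ F, σ.symm x ∈ F) : MulAut F where
  toFun x := ⟨σ x, h x x.2⟩
  invFun x := ⟨σ.symm x, h' x x.2⟩
  left_inv x := by ext; simp
  right_inv x := by ext; simp
  map_mul' x y := by ext; simp

theorem restrAut_apply (F : Subgroup N) (σ : MulAut N) (h : ∀ x ∈ F, σ x ∈ F)
    (h' : ∀ x ∈ F, σ.symm x ∈ F) (x : F) : ((restrAut F σ h h' x : F) : N) = σ x := rfl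

theorem symm_eq_of_invol (σ : MulAut N) (h2 : ∀ x, σ (σ x) = x) (x : N) : σ.symm x = σ x := by
  rw [MulEquiv.symm_apply_eq, h2]

theorem exists_faithful_abelian [Finite N] [Group.IsSolvable N]
    (hodd : Odd (Nat.card N)) (A : Subgroup (MulAut N)) (h2 : ∀ σ ∈ A, σ * σ = 1) :
    ∃ W : Subgroup N, (∀ a ∈ W, ∀ b ∈ W, a * b = b * a) ∧ (∀ σ ∈ A, ∀ w ∈ W, σ w ∈ W) ∧
      ∀ σ ∈ A, (∀ w ∈ W, σ w = w) → σ = 1 := by
  obtain ⟨F, hFd⟩ : ∃ F, F = Cfsg.fittingSubgroup N := ⟨_, rfl⟩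
  have hF : ∀ σ : MulAut N, ∀ x ∈ F, σ x ∈ F := by
    intro σ x hx
    have := Cfsg.Agent.Lib.Helper12.fittingSubgroup_map_mulEquiv (G := N) (G' := N) σ
    rw [hFd, ← this]
    exact ⟨x, hFd ▸ hx, rfl⟩
  have hF' : ∀ σ : MulAut N, ∀ x ∈ F, σ.symm x ∈ F := fun σ x hx => hF σ⁻¹ x hx
  haveI hFnil : Group.IsNilpotent F := by
    rw [hFd]; exact Cfsg.Agent.Lib.Helper1.fittingSubgroup_nilpotent
  have hFodd : Odd (Nat.card F) := Odd.of_dvd_nat hodd (Subgroup.card_subgroup_dvd_card F)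
  obtain ⟨S, hS⟩ : ∃ S : Set (MulAut F), S = {τ | ∃ σ ∈ A, ∀ x : F, ((τ x : F) : N) = σ x} :=
    ⟨_, rfl⟩
  have hS2 : ∀ τ ∈ S, ∀ x, τ (τ x) = x := by
    intro τ hτ x
    rw [hS] at hτ
    obtain ⟨σ, hσ, hτσ⟩ := hτ
    apply Subtype.ext
    rw [hτσ, hτσ, invol_apply h2 hσ]
  have hSc : ∀ τ₁ ∈ S, ∀ τ₂ ∈ S, ∀ x, τ₁ (τ₂ x) = τ₂ (τ₁ x) := by
    intro τ₁ hτ₁ τ₂ hτ₂ x
    rw [hS] at hτ₁ hτ₂
    obtain ⟨σ₁, hσ₁, hτσ₁⟩ := hτ₁
    obtain ⟨σ₂, hσ₂, hτσ₂⟩ := hτ₂
    apply Subtype.ext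
    rw [hτσ₁, hτσ₂, hτσ₂, hτσ₁, invol_comm_apply h2 hσ₁ hσ₂]
  obtain ⟨WF, hWFc, hWFS, hWFf⟩ := exists_faithful_abelian_nilp hFodd S hS2 hSc
  have hrS : ∀ σ ∈ A, restrAut F σ (hF σ) (hF' σ) ∈ S := by
    intro σ hσ
    rw [hS]
    exact ⟨σ, hσ, fun x => rfl⟩
  refine ⟨WF.map F.subtype, ?_, ?_, ?_⟩
  · rintro _ ⟨a, ha, rfl⟩ _ ⟨b, hb, rfl⟩
    have := hWFc a ha b hb
    exact congrArg Subtype.val this
  · rintro σ hσ _ ⟨w, hw, rfl⟩
    exact ⟨restrAut F σ (hF σ) (hF' σ) w, hWFS _ (hrS σ hσ) w hw, rfl⟩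
  · intro σ hσ hfix
    have h1 : restrAut F σ (hF σ) (hF' σ) = 1 := by
      apply hWFf _ (hrS σ hσ)
      intro w hw
      apply Subtype.ext
      rw [restrAut_apply]
      exact hfix _ ⟨w, hw, rfl⟩
    have h3 : ∀ x ∈ Cfsg.fittingSubgroup N, σ x = x := by
      intro x hx
      rw [← hFd] at hx
      have := congrArg (fun f : MulAut F => ((f ⟨x, hx⟩ : F) : N)) h1
      simpa [restrAut_apply] using this
    by_contra hne
    exact Cfsg.Agent.Lib.helper4.aut_fix_fitting σ h3 hne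
      (coprime_orderOf_of_invol hodd σ (fun x => invol_apply h2 hσ x))

end Reduce

section Main

theorem abstract_main {N : Type*} [Group N] [Finite N] [Group.IsSolvable N]
    (hodd : Odd (Nat.card N)) (A : Subgroup (MulAut N)) (h2 : ∀ σ ∈ A, σ * σ = 1) (d : ℕ)
    (hcard : Nat.card A = 2 ^ d) :
    ∃ (s : Fin d → MulAut N) (y : Fin d → N),
      (∀ i, s i ∈ A ∧ y i ≠ 1 ∧ s i (y i) = (y i)⁻¹) ∧
      (∀ i j, i ≠ j → s j (y i) = y i) ∧ (∀ i j, y i * y j = y j * y i) ∧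
      Subgroup.closure (Set.range s) = A := by
  obtain ⟨W, hWc, hWS, hWf⟩ := exists_faithful_abelian hodd A h2
  have hWodd : Odd (Nat.card W) := Odd.of_dvd_nat hodd (Subgroup.card_subgroup_dvd_card W)
  obtain ⟨s, y, h1, h3, h4⟩ := core d A W h2 hcard hWc hWodd hWS hWf
  refine ⟨s, y, fun i => ⟨(h1 i).1, (h1 i).2.2.1, (h1 i).2.2.2⟩, h3, ?_, h4⟩
  intro i j
  exact hWc _ (h1 i).2.1 _ (h1 j).2.1

variable {G : Type*} [Group G]

theorem zpowers_le_centralizer_zpowers {g h : G} (hc : g * h = h * g) :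
    Subgroup.zpowers g ≤ Subgroup.centralizer (Subgroup.zpowers h : Set G) := by
  rw [Subgroup.zpowers_le, Subgroup.mem_centralizer_iff]
  rintro _ ⟨m, rfl⟩
  have hc' : Commute h g := hc.symm
  exact (hc'.zpow_left m).eq

theorem sup_comm_elem {a y a' y' : G} (h1 : a * a' = a' * a) (h2 : a * y' = y' * a)
    (h3 : y * a' = a' * y) (h4 : y * y' = y' * y) :
    ∀ x ∈ Subgroup.zpowers a ⊔ Subgroup.zpowers y,
      ∀ x' ∈ Subgroup.zpowers a' ⊔ Subgroup.zpowers y', x * x' = x' * x := by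
  have hle : Subgroup.zpowers a ⊔ Subgroup.zpowers y ≤
      Subgroup.centralizer ((Subgroup.zpowers a' ⊔ Subgroup.zpowers y' : Subgroup G) : Set G) := by
    apply sup_le
    · rw [Subgroup.le_centralizer_iff]
      apply sup_le
      · exact zpowers_le_centralizer_zpowers h1.symm
      · exact zpowers_le_centralizer_zpowers h2.symm
    · rw [Subgroup.le_centralizer_iff]
      apply sup_le
      · exact zpowers_le_centralizer_zpowers h3.symm
      · exact zpowers_le_centralizer_zpowers h4.symm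
  intro x hx x' hx'
  have := hle hx
  rw [Subgroup.mem_centralizer_iff] at this
  exact (this x' hx').symm

theorem dihedral_of_inverted [Finite G] {a y : G} (ha : orderOf a = 2) (hy1 : y ≠ 1)
    (hyodd : Odd (orderOf y)) (hinv : a * y * a⁻¹ = y⁻¹) :
    Nonempty (↥(Subgroup.zpowers a ⊔ Subgroup.zpowers y) ≃* DihedralGroup (orderOf y)) := by
  have ha2 : a * a = 1 := Cfsg.Agent.Lib.Helper24.ti_sq_of_order ha
  have hainv : a⁻¹ = a := Cfsg.Agent.Lib.Helper24.ti_inv_of_sq ha2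
  have hay2 : (a * y) * (a * y) = 1 := by
    rw [hainv] at hinv
    calc (a * y) * (a * y) = (a * y * a) * y := by group
      _ = 1 := by rw [hinv]; group
  have hay1 : a * y ≠ 1 := by
    intro h
    have hy : y = a⁻¹ := eq_inv_of_mul_eq_one_right h
    rw [hainv] at hy
    rw [hy, ha] at hyodd
    exact absurd hyodd (by decide)
  have hay : orderOf (a * y) = 2 := orderOf_eq_prime (by rw [pow_two]; exact hay2) hay1
  have e := Cfsg.Agent.Lib.Helper24.tiEquiv ha hay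
  have h : a * (a * y) = y := by rw [← mul_assoc, ha2, one_mul]
  rw [h] at e
  have hcl : Subgroup.closure ({a, a * y} : Set G) = Subgroup.zpowers a ⊔ Subgroup.zpowers y := by
    apply le_antisymm
    · rw [Subgroup.closure_le]
      rintro x (rfl | hx)
      · exact (le_sup_left : Subgroup.zpowers x ≤ _) (Subgroup.mem_zpowers x)
      · rw [Set.mem_singleton_iff] at hx
        rw [hx]
        exact Subgroup.mul_mem _
          ((le_sup_left : Subgroup.zpowers a ≤ _) (Subgroup.mem_zpowers a))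
          ((le_sup_right : Subgroup.zpowers y ≤ _) (Subgroup.mem_zpowers y))
    · apply sup_le
      · rw [Subgroup.zpowers_le]
        exact Subgroup.subset_closure (Set.mem_insert _ _)
      · rw [Subgroup.zpowers_le]
        have h6 : a⁻¹ * (a * y) ∈ Subgroup.closure ({a, a * y} : Set G) :=
          Subgroup.mul_mem _
            (Subgroup.inv_mem _ (Subgroup.subset_closure (Set.mem_insert _ _)))
            (Subgroup.subset_closure (Set.mem_insert_of_mem _ rfl))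
        rwa [inv_mul_cancel_left] at h6
  exact ⟨(MulEquiv.subgroupCongr hcl.symm).trans e⟩

end Main

section Final

variable {G : Type*} [Group G]

theorem thompson_dihedral [Finite G] (L A : Subgroup G) (hLs : Group.IsSolvable ↥L)
    (hLodd : Odd (Nat.card ↥L)) (hA : Cfsg.IsElementaryAbelian 2 A) (d : ℕ)
    (hAd : Nat.card ↥A = 2 ^ d) (hAL : A ≤ Subgroup.normalizer (L : Set G))
    (hfaith : A ⊓ Subgroup.centralizer (L : Set G) = ⊥) :
    ∃ (Ai : Fin d → Subgroup G) (Li : Fin d → Subgroup G) (n : Fin d → ℕ),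
      (∀ i, Ai i ≤ A ∧ Nat.card ↥(Ai i) = 2 ∧ Li i ≤ L ∧ Odd (n i) ∧ 3 ≤ n i ∧
        Nonempty (↥(Ai i ⊔ Li i) ≃* DihedralGroup (n i))) ∧
      (⨆ i, Ai i) = A ∧
      ∀ i j, i ≠ j → ∀ x ∈ Ai i ⊔ Li i, ∀ y ∈ Ai j ⊔ Li j, x * y = y * x := by
  obtain ⟨hAc, hA2⟩ := hA
  have hAcomm : ∀ a ∈ A, ∀ b ∈ A, a * b = b * a :=
    (Cfsg.Agent.Lib.Helper1.isMulCommutative_subgroup_iff A).mp hAc
  obtain ⟨φ, hφd⟩ : ∃ φ : A →* MulAut L, φ = L.normalizerMonoidHom.comp (Subgroup.inclusion hAL) :=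
    ⟨_, rfl⟩
  have hφ : ∀ (a : A) (x : L), ((φ a x : L) : G) = (a : G) * x * (a : G)⁻¹ := by
    intro a x
    rw [hφd]
    rfl
  have hinj : Function.Injective φ := by
    rw [injective_iff_map_eq_one]
    intro a ha
    have hmem : (a : G) ∈ A ⊓ Subgroup.centralizer (L : Set G) := by
      refine ⟨a.2, ?_⟩
      show (a : G) ∈ Subgroup.centralizer (L : Set G)
      rw [Subgroup.mem_centralizer_iff]
      intro x hx
      have h1 := hφ a ⟨x, hx⟩
      rw [ha, MulAut.one_apply] at h1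
      have h2 : x = (a : G) * x * (a : G)⁻¹ := h1
      calc x * a = (a * x * (a : G)⁻¹) * a := by rw [← h2]
        _ = a * x := by group
    rw [hfaith, Subgroup.mem_bot] at hmem
    exact Subtype.ext hmem
  have h2 : ∀ σ ∈ φ.range, σ * σ = 1 := by
    rintro _ ⟨a, rfl⟩
    rw [← map_mul]
    have : a * a = 1 := by
      apply Subtype.ext
      have := hA2 a a.2
      rw [pow_two] at this
      exact this
    rw [this, map_one]
  have hcard : Nat.card φ.range = 2 ^ d := by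
    rw [← hAd]
    exact (Nat.card_congr (MonoidHom.ofInjective hinj).toEquiv).symm
  obtain ⟨s, y, h1, h3, h4, h5⟩ := abstract_main hLodd φ.range h2 d hcard
  choose a ha using fun i => (h1 i).1
  have hy1 : ∀ i, ((y i : L) : G) ≠ 1 := fun i h => (h1 i).2.1 (Subtype.ext h)
  have hyodd : ∀ i, Odd (orderOf ((y i : L) : G)) := by
    intro i
    exact Odd.of_dvd_nat hLodd (L.orderOf_dvd_natCard (y i).2)
  have hinv : ∀ i, (a i : G) * (y i : G) * (a i : G)⁻¹ = ((y i : L) : G)⁻¹ := by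
    intro i
    rw [← hφ, ha i, (h1 i).2.2]
    rfl
  have hfix : ∀ i j, i ≠ j → (a j : G) * (y i : G) = (y i : G) * (a j : G) := by
    intro i j hij
    have h6 := h3 i j hij
    rw [← ha j] at h6
    have h7 := hφ (a j) (y i)
    rw [h6] at h7
    calc (a j : G) * (y i : G) = ((a j : G) * (y i : G) * (a j : G)⁻¹) * (a j : G) := by group
      _ = (y i : G) * (a j : G) := by rw [← h7]
  have hane : ∀ i, (a i : G) ≠ 1 := by
    intro i h
    have h6 := hinv i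
    rw [h, one_mul, inv_one, mul_one] at h6
    have h7 : ((y i : L) : G) * (y i : G) = 1 := by
      calc ((y i : L) : G) * (y i : G) = (y i : G) * ((y i : L) : G)⁻¹ := by rw [← h6]
        _ = 1 := mul_inv_cancel _
    have h8 : orderOf ((y i : L) : G) ∣ 2 := orderOf_dvd_of_pow_eq_one (by rw [pow_two]; exact h7)
    have h9 := hyodd i
    have h10 : orderOf ((y i : L) : G) = 1 := by
      rcases (Nat.dvd_prime Nat.prime_two).mp h8 with h | h
      · exact h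
      · rw [h] at h9; exact absurd h9 (by decide)
    exact hy1 i (orderOf_eq_one_iff.mp h10)
  have haord : ∀ i, orderOf (a i : G) = 2 :=
    fun i => orderOf_eq_prime (hA2 _ (a i).2) (hane i)
  refine ⟨fun i => Subgroup.zpowers (a i : G), fun i => Subgroup.zpowers ((y i : L) : G),
    fun i => orderOf ((y i : L) : G), ?_, ?_, ?_⟩
  · intro i
    refine ⟨?_, ?_, ?_, hyodd i, ?_, ?_⟩
    · rw [Subgroup.zpowers_le]; exact (a i).2
    · rw [Nat.card_zpowers, haord i]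
    · rw [Subgroup.zpowers_le]; exact (y i).2
    · have h6 := hyodd i
      have h7 : orderOf ((y i : L) : G) ≠ 1 := fun h => hy1 i (orderOf_eq_one_iff.mp h)
      have h8 : 0 < orderOf ((y i : L) : G) := orderOf_pos _
      obtain ⟨k, hk⟩ := h6
      show 3 ≤ orderOf ((y i : L) : G)
      omega
    · exact dihedral_of_inverted (haord i) (hy1 i) (hyodd i) (hinv i)
  · apply le_antisymm
    · apply iSup_le
      intro i
      rw [Subgroup.zpowers_le]; exact (a i).2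
    · have hle : (⊤ : Subgroup A).map φ ≤
          ((⨆ i, Subgroup.zpowers (a i : G)).comap A.subtype).map φ := by
        rw [← MonoidHom.range_eq_map, ← h5, Subgroup.closure_le]
        rintro _ ⟨i, rfl⟩
        refine ⟨a i, ?_, ha i⟩
        show (a i : G) ∈ ⨆ i, Subgroup.zpowers (a i : G)
        exact (le_iSup (fun i => Subgroup.zpowers (a i : G)) i) (Subgroup.mem_zpowers _)
      have hle' := (Subgroup.map_le_map_iff_of_injective hinj).mp hle
      intro g hg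
      exact hle' (Subgroup.mem_top (⟨g, hg⟩ : A))
  · intro i j hij
    apply sup_comm_elem
    · exact hAcomm _ (a i).2 _ (a j).2
    · exact hfix j i (Ne.symm hij)
    · exact (hfix i j hij).symm
    · have := h4 i j
      exact congrArg Subtype.val this

end Final

end Cfsg.Agent.Lib.Helper18.ThompsonDihedral
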