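import Mathlib

set_option autoImplicit false

/-! A quadratic map from an `F_2`-space `V` to an `F_2`-space `T` with at most four elements
that has no nontrivial zero forces `|V| ≤ 16` (Chevalley-Warning). -/

namespace Cfsg.Agent.Lib.Helper18.ThreeInv

open MvPolynomial

section cw

variable {V T : Type*} [AddCommGroup V] [Module (ZMod 2) V]
  [AddCommGroup T] [Module (ZMod 2) T]

theorem ti_zmod2_cases (c : ZMod 2) : c = 0 ∨ c = 1 := by
  fin_cases c
  · left; rfl
  · right; rfl

theorem ti_Q_zero (Q : V → T) (hQ : ∀ v, Q v = 0 ↔ v = 0) : Q 0 = 0 := (hQ 0).mpr rfl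

theorem ti_Q_smul (Q : V → T) (hQ : ∀ v, Q v = 0 ↔ v = 0) (c : ZMod 2) (v : V) :
    Q (c • v) = c • Q v := by
  rcases ti_zmod2_cases c with rfl | rfl
  · simp [ti_Q_zero Q hQ]
  · simp

theorem ti_B_zero_left (B : V → V → T) (hBl : ∀ u u' v, B (u + u') v = B u v + B u' v) (v : V) :
    B 0 v = 0 := by
  have := hBl 0 0 v
  rw [add_zero] at this
  exact left_eq_add.mp this

theorem ti_B_zero_right (B : V → V → T) (hBr : ∀ u v v', B u (v + v') = B u v + B u v') (u : V) :
    B u 0 = 0 := by
  have := hBr u 0 0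
  rw [add_zero] at this
  exact left_eq_add.mp this

theorem ti_B_smul_left (B : V → V → T) (hBl : ∀ u u' v, B (u + u') v = B u v + B u' v)
    (c : ZMod 2) (u v : V) : B (c • u) v = c • B u v := by
  rcases ti_zmod2_cases c with rfl | rfl
  · simp [ti_B_zero_left B hBl]
  · simp

theorem ti_B_smul_right (B : V → V → T) (hBr : ∀ u v v', B u (v + v') = B u v + B u v')
    (c : ZMod 2) (u v : V) : B u (c • v) = c • B u v := by
  rcases ti_zmod2_cases c with rfl | rfl
  · simp [ti_B_zero_right B hBr]
  · simp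

/-- the polynomial attached to a functional -/
noncomputable def tiPoly (a : Fin 5 → ZMod 2) (c : Fin 5 → Fin 5 → ZMod 2) :
    MvPolynomial (Fin 5) (ZMod 2) :=
  ∑ i, C (a i) * X i + ∑ i, ∑ j, C (c i j) * X i * X j

theorem tiPoly_totalDegree (a : Fin 5 → ZMod 2) (c : Fin 5 → Fin 5 → ZMod 2) :
    (tiPoly a c).totalDegree ≤ 2 := by
  unfold tiPoly
  refine (totalDegree_add _ _).trans (max_le ?_ ?_)
  · refine (totalDegree_finset_sum _ _).trans ?_
    apply Finset.sup_le
    intro i _
    refine (totalDegree_mul _ _).trans ?_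
    rw [totalDegree_C, totalDegree_X]
    omega
  · refine (totalDegree_finset_sum _ _).trans ?_
    apply Finset.sup_le
    intro i _
    refine (totalDegree_finset_sum _ _).trans ?_
    apply Finset.sup_le
    intro j _
    refine (totalDegree_mul _ _).trans ?_
    have h1 : (C (c i j) * X i : MvPolynomial (Fin 5) (ZMod 2)).totalDegree ≤ 1 := by
      refine (totalDegree_mul _ _).trans ?_
      rw [totalDegree_C, totalDegree_X]
    rw [totalDegree_X]
    omega

theorem tiPoly_eval (a : Fin 5 → ZMod 2) (c : Fin 5 → Fin 5 → ZMod 2) (x : Fin 5 → ZMod 2) :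
    eval x (tiPoly a c) = ∑ i, a i * x i + ∑ i, ∑ j, c i j * x i * x j := by
  unfold tiPoly
  simp [map_add, map_sum]

/-- the expansion of a quadratic map on a combination of five vectors -/
theorem ti_expand (Q : V → T) (hQ : ∀ v, Q v = 0 ↔ v = 0)
    (B : V → V → T) (hQB : ∀ u v, Q (u + v) = Q u + Q v + B u v)
    (hBl : ∀ u u' v, B (u + u') v = B u v + B u' v)
    (hBr : ∀ u v v', B u (v + v') = B u v + B u v')
    (χ : T →ₗ[ZMod 2] ZMod 2) (e : Fin 5 → V) (x : Fin 5 → ZMod 2) :
    χ (Q (∑ i, x i • e i)) = ∑ i, χ (Q (e i)) * x i +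
      ∑ i, ∑ j, (if i < j then χ (B (e i) (e j)) else 0) * x i * x j := by
  simp only [Fin.sum_univ_five, hQB, hBl, hBr, ti_Q_smul Q hQ, ti_B_smul_left B hBl,
    ti_B_smul_right B hBr, map_add, map_smul, smul_eq_mul]
  simp (decide := true) only [Fin.isValue, if_true, if_false]
  ring

/-- **Chevalley-Warning bound.** -/
theorem ti_cw [Finite V] [Finite T] (hT : Nat.card T ≤ 4)
    (Q : V → T) (hQ : ∀ v, Q v = 0 ↔ v = 0)
    (B : V → V → T) (hQB : ∀ u v, Q (u + v) = Q u + Q v + B u v)
    (hBl : ∀ u u' v, B (u + u') v = B u v + B u' v)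
    (hBr : ∀ u v v', B u (v + v') = B u v + B u v') :
    Nat.card V ≤ 16 := by
  classical
  by_contra hlt
  push Not at hlt
  haveI : Fintype V := Fintype.ofFinite V
  haveI : Fintype T := Fintype.ofFinite T
  -- the rank of `V` is at least five
  have hcV : Nat.card V = 2 ^ Module.finrank (ZMod 2) V := by
    rw [Nat.card_eq_fintype_card, Module.card_eq_pow_finrank (K := ZMod 2) (V := V), ZMod.card]
  have hcT : Nat.card T = 2 ^ Module.finrank (ZMod 2) T := by
    rw [Nat.card_eq_fintype_card, Module.card_eq_pow_finrank (K := ZMod 2) (V := T), ZMod.card]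
  have h5 : 5 ≤ Module.finrank (ZMod 2) V := by
    by_contra h
    push Not at h
    have : 2 ^ Module.finrank (ZMod 2) V ≤ 2 ^ 4 :=
      Nat.pow_le_pow_right (by norm_num) (by omega)
    omega
  have hd : Module.finrank (ZMod 2) T ≤ 2 := by
    by_contra h
    push Not at h
    have : 2 ^ 3 ≤ 2 ^ Module.finrank (ZMod 2) T :=
      Nat.pow_le_pow_right (by norm_num) (by omega)
    omega
  obtain ⟨e, he⟩ := exists_linearIndependent_of_le_finrank h5
  set bT := Module.finBasis (ZMod 2) T with hbT
  set d := Module.finrank (ZMod 2) T with hd'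
  let f : Fin d → MvPolynomial (Fin 5) (ZMod 2) := fun k =>
    tiPoly (fun i => bT.coord k (Q (e i)))
      (fun i j => if i < j then bT.coord k (B (e i) (e j)) else 0)
  have hdeg : ∑ k, (f k).totalDegree < Fintype.card (Fin 5) := by
    calc ∑ k, (f k).totalDegree ≤ ∑ _k : Fin d, 2 :=
          Finset.sum_le_sum (fun k _ => tiPoly_totalDegree _ _)
      _ = d * 2 := by simp
      _ < Fintype.card (Fin 5) := by simp; omega
  have hcw := char_dvd_card_solutions_of_fintype_sum_lt 2 hdeg
  have hone : Fintype.card { x : Fin 5 → ZMod 2 // ∀ k, eval x (f k) = 0 } = 1 := by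
    rw [Fintype.card_eq_one_iff]
    refine ⟨⟨0, ?_⟩, ?_⟩
    · intro k
      simp only [f, tiPoly_eval]
      simp
    · rintro ⟨x, hx⟩
      apply Subtype.ext
      show x = 0
      have h1 : ∀ k, bT.coord k (Q (∑ i, x i • e i)) = 0 := by
        intro k
        rw [ti_expand Q hQ B hQB hBl hBr (bT.coord k) e x]
        have := hx k
        simp only [f, tiPoly_eval] at this
        exact this
      have h2 : Q (∑ i, x i • e i) = 0 := (Module.Basis.forall_coord_eq_zero_iff bT).mp h1
      have h3 : ∑ i, x i • e i = 0 := (hQ _).mp h2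
      funext i
      exact (Fintype.linearIndependent_iff.mp he) x h3 i
  rw [Fintype.card_eq_nat_card] at hcw hone
  rw [hone] at hcw
  omega

end cw

end Cfsg.Agent.Lib.Helper18.ThreeInv
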