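import Mathlib
import Cfsg.Agent.Lib.Helper18.ThreeInvB

set_option autoImplicit false

/-! Anisotropic quadratic maps on elementary abelian `2`-groups (multiplicative form) and
automorphisms preserving them: basic lemmas. -/

namespace Cfsg.Agent.Lib.Helper18.ThreeInv

section quad

variable {W T : Type*} [CommGroup W] [CommGroup T]

/-- the polar map of `q` -/
def tiB (q : W → T) (u v : W) : T := q (u * v) * q u * q v

/-- an anisotropic quadratic map between groups of exponent two -/
structure TIQuad (q : W → T) : Prop where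
  hW : ∀ w : W, w * w = 1
  hT : ∀ t : T, t * t = 1
  hq : ∀ w, q w = 1 ↔ w = 1
  hb : ∀ u u' v, tiB q (u * u') v = tiB q u v * tiB q u' v

variable {q : W → T}

theorem TIQuad.hT' (Q : TIQuad q) (a b : T) : a * (a * b) = b := by
  rw [← mul_assoc, Q.hT, one_mul]

theorem TIQuad.hW' (Q : TIQuad q) (a b : W) : a * (a * b) = b := by
  rw [← mul_assoc, Q.hW, one_mul]

theorem TIQuad.inv_eq (Q : TIQuad q) (a : W) : a⁻¹ = a :=
  inv_eq_of_mul_eq_one_left (Q.hW a)

theorem TIQuad.mul_eq_one_iff (Q : TIQuad q) (a b : W) : a * b = 1 ↔ a = b := by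
  rw [mul_eq_one_iff_eq_inv, Q.inv_eq]

theorem TIQuad.q_one (Q : TIQuad q) : q 1 = 1 := (Q.hq 1).mpr rfl

theorem tiB_comm (q : W → T) (u v : W) : tiB q u v = tiB q v u := by
  unfold tiB
  rw [mul_comm u v, mul_assoc, mul_comm (q u), ← mul_assoc]

theorem TIQuad.hb' (Q : TIQuad q) (u v v' : W) : tiB q u (v * v') = tiB q u v * tiB q u v' := by
  rw [tiB_comm q u (v * v'), Q.hb, tiB_comm q v u, tiB_comm q v' u]

theorem TIQuad.q_mul (Q : TIQuad q) (u v : W) : q (u * v) = q u * q v * tiB q u v := by
  unfold tiB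
  have h1 := Q.hT' (q u)
  have h2 := Q.hT' (q v)
  calc q (u * v) = q u * (q u * (q v * (q v * q (u * v)))) := by rw [h2, h1]
    _ = q u * q v * (q (u * v) * q u * q v) := by
      simp only [mul_comm, mul_left_comm, mul_assoc]

theorem TIQuad.restrict (Q : TIQuad q) (U : Subgroup W) : TIQuad (fun x : U => q (x : W)) where
  hW := fun w => Subtype.ext (Q.hW w)
  hT := Q.hT
  hq := fun w => by
    rw [Q.hq]
    exact ⟨fun h => Subtype.ext h, fun h => by rw [h]; rfl⟩
  hb := fun u u' v => Q.hb u u' v

/-- the bound from Chevalley-Warning -/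
theorem TIQuad.card_le (Q : TIQuad q) [Finite W] [Finite T] (hT4 : Nat.card T ≤ 4) :
    Nat.card W ≤ 16 := by
  letI : Module (ZMod 2) (Additive W) := AddCommGroup.zmodModule (n := 2) (fun x => by
    rw [two_nsmul]
    exact congrArg Additive.ofMul (Q.hW x.toMul))
  letI : Module (ZMod 2) (Additive T) := AddCommGroup.zmodModule (n := 2) (fun x => by
    rw [two_nsmul]
    exact congrArg Additive.ofMul (Q.hT x.toMul))
  have := ti_cw (V := Additive W) (T := Additive T) hT4
    (fun v => Additive.ofMul (q v.toMul))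
    (fun v => by
      constructor
      · intro h
        have h1 : q v.toMul = 1 := congrArg Additive.toMul h
        exact congrArg Additive.ofMul ((Q.hq _).mp h1)
      · intro h
        rw [h]
        exact congrArg Additive.ofMul Q.q_one)
    (fun u v => Additive.ofMul (tiB q u.toMul v.toMul))
    (fun u v => congrArg Additive.ofMul (Q.q_mul u.toMul v.toMul))
    (fun u u' v => congrArg Additive.ofMul (Q.hb u.toMul u'.toMul v.toMul))
    (fun u v v' => congrArg Additive.ofMul (Q.hb' u.toMul v.toMul v'.toMul))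
  exact this

theorem ti_exists_notMem [Finite W] (S : Finset W) (h : S.card < Nat.card W) : ∃ x, x ∉ S := by
  classical
  by_contra hcon
  push Not at hcon
  haveI : Fintype W := Fintype.ofFinite W
  have : S = Finset.univ := Finset.eq_univ_iff_forall.mpr hcon
  rw [this, Finset.card_univ, Nat.card_eq_fintype_card] at h
  exact lt_irrefl _ h

/-- `q` cannot take at most two values off the identity when `8 ≤ |W|` -/
theorem TIQuad.two_values (Q : TIQuad q) [Finite W] (h8 : 8 ≤ Nat.card W) (c c' : T)
    (hc : c ≠ 1) (hc' : c' ≠ 1) (h : ∀ x : W, x ≠ 1 → q x = c ∨ q x = c') : False := by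
  classical
  obtain ⟨v, hv⟩ := ti_exists_notMem ({1} : Finset W) (by simp; omega)
  obtain ⟨w, hw⟩ := ti_exists_notMem ({1, v} : Finset W)
    (lt_of_le_of_lt (Finset.card_le_two) (by omega))
  obtain ⟨u, hu⟩ := ti_exists_notMem ({1, v, w, v * w} : Finset W)
    (lt_of_le_of_lt (Finset.card_le_four) (by omega))
  simp only [Finset.mem_singleton] at hv
  simp only [Finset.mem_insert, Finset.mem_singleton, not_or] at hw hu
  have hvw : v * w ≠ 1 := by
    rw [Ne, Q.mul_eq_one_iff]
    exact fun h => hw.2 h.symm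
  have huv : u * v ≠ 1 := by
    rw [Ne, Q.mul_eq_one_iff]
    exact hu.2.1
  have huw : u * w ≠ 1 := by
    rw [Ne, Q.mul_eq_one_iff]
    exact hu.2.2.1
  have huvw : u * (v * w) ≠ 1 := by
    rw [Ne, Q.mul_eq_one_iff]
    exact hu.2.2.2
  have hval : ∀ x y : W, x ≠ 1 → y ≠ 1 → x * y ≠ 1 → tiB q x y = c ∨ tiB q x y = c' := by
    intro x y hx hy hxy
    unfold tiB
    have hcc := Q.hT c
    have hcc' := Q.hT c'
    rcases h x hx with h1 | h1 <;> rcases h y hy with h2 | h2 <;>
      rcases h (x * y) hxy with h3 | h3 <;> rw [h1, h2, h3]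
    · left; rw [hcc, one_mul]
    · right; rw [mul_assoc, hcc, mul_one]
    · right; rw [hcc, one_mul]
    · left; rw [mul_comm c' c, mul_assoc, hcc', mul_one]
    · right; rw [mul_assoc, mul_comm c' c, ← mul_assoc, hcc, one_mul]
    · left; rw [hcc', one_mul]
    · left; rw [mul_assoc, hcc', mul_one]
    · right; rw [hcc', one_mul]
  have key := Q.hb' u v w
  have hcc := Q.hT c
  have hcc' := Q.hT c'
  rcases hval u v hu.1 hv huv with h1 | h1 <;> rcases hval u w hu.1 hw.1 huw with h2 | h2 <;>
    rcases hval u (v * w) hu.1 hvw huvw with h3 | h3 <;> rw [h1, h2, h3] at key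
  · rw [hcc] at key; exact hc key
  · rw [hcc] at key; exact hc' key
  · exact hc' (left_eq_mul.mp key)
  · exact hc (right_eq_mul.mp key)
  · exact hc' (right_eq_mul.mp key)
  · exact hc (left_eq_mul.mp key)
  · rw [hcc'] at key; exact hc key
  · rw [hcc'] at key; exact hc' key

end quad

end Cfsg.Agent.Lib.Helper18.ThreeInv
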