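import Mathlib
import Cfsg.Agent.Lib.Helper18.ThreeInvC

set_option autoImplicit false

/-! Automorphisms of prime order of elementary abelian `2`-groups: orbits, fixed points. -/

namespace Cfsg.Agent.Lib.Helper18.ThreeInv

section aut

variable {W : Type*} [CommGroup W]

theorem ti_pow_fix (g : MulAut W) (u : W) (h : g u = u) (m : ℕ) : (g ^ m) u = u := by
  induction m with
  | zero => simp
  | succ m ih => rw [pow_succ, MulAut.mul_apply, h, ih]

theorem ti_pow_succ_apply (α : MulAut W) (i : ℕ) (u : W) : (α ^ (i + 1)) u = α ((α ^ i) u) := by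
  rw [pow_succ', MulAut.mul_apply]

/-- a nonfixed point of an automorphism of prime order has a full orbit -/
theorem ti_free (α : MulAut W) (r : ℕ) (hr : r.Prime) (hα : α ^ r = 1) (u : W) (hu : α u ≠ u) :
    Function.Injective (fun i : Fin r => (α ^ (i : ℕ)) u) := by
  have key : ∀ i j : ℕ, i ≤ j → j < r → (α ^ i) u = (α ^ j) u → i = j := by
    intro i j hij hj h
    by_contra hne
    obtain ⟨d, rfl⟩ := Nat.exists_eq_add_of_le hij
    have hd0 : 0 < d := by omega
    have hd : (α ^ d) u = u := by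
      rw [pow_add, MulAut.mul_apply] at h
      exact ((α ^ i).injective h).symm
    have hcop : Nat.Coprime d r := by
      rw [Nat.coprime_comm, hr.coprime_iff_not_dvd]
      intro hdvd
      have := Nat.le_of_dvd hd0 hdvd
      omega
    obtain ⟨m, -, hm⟩ := Nat.exists_mul_mod_eq_one_of_coprime hcop hr.one_lt
    have h1 : α ^ (d * m) = α := by
      rw [pow_eq_pow_mod (d * m) hα, hm, pow_one]
    apply hu
    have h2 := ti_pow_fix (α ^ d) u hd m
    rw [← pow_mul, h1] at h2
    exact h2
  intro i j h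
  simp only at h
  apply Fin.ext
  rcases le_total (i : ℕ) (j : ℕ) with hij | hij
  · exact key _ _ hij j.2 h
  · exact (key _ _ hij i.2 h.symm).symm

theorem ti_q_pow {T : Type*} {q : W → T} (α : MulAut W) (hqα : ∀ w, q (α w) = q w) (i : ℕ)
    (w : W) : q ((α ^ i) w) = q w := by
  induction i with
  | zero => simp
  | succ i ih => rw [ti_pow_succ_apply, hqα, ih]

/-- fixed point congruence on an invariant subgroup -/
theorem ti_cong [Finite W] (α : MulAut W) (r : ℕ) (hr : r.Prime) (hα : α ^ r = 1)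
    (U : Subgroup W) (hU : ∀ u ∈ U, α u ∈ U) (hfix : ∀ u ∈ U, α u = u → u = 1) :
    Nat.card U ≡ 1 [MOD r] := by
  classical
  haveI : Fact r.Prime := ⟨hr⟩
  haveI : Fintype U := Fintype.ofFinite U
  let f : Function.End U := fun u => ⟨α u.1, hU _ u.2⟩
  have hf : ∀ (k : ℕ) (u : U), (((f ^ k) u : U) : W) = (α ^ k) u.1 := by
    intro k
    induction k with
    | zero => intro u; rw [pow_zero, pow_zero]; rfl
    | succ k ih =>
      intro u
      rw [pow_succ', ti_pow_succ_apply, ← ih u]
      rfl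
  have hfr : f ^ r ^ 1 = 1 := by
    rw [pow_one]
    funext u
    apply Subtype.ext
    rw [hf, hα]
    rfl
  have h1 := Equiv.Perm.card_fixedPoints_modEq (p := r) (n := 1) (f := f) hfr
  have h2 : Fintype.card (Function.fixedPoints f) = 1 := by
    rw [Fintype.card_eq_one_iff]
    refine ⟨⟨1, ?_⟩, ?_⟩
    · rw [Function.mem_fixedPoints]
      apply Subtype.ext
      show α 1 = 1
      exact map_one α
    · rintro ⟨x, hx⟩
      apply Subtype.ext
      rw [Function.mem_fixedPoints] at hx
      have : α x.1 = x.1 := congrArg Subtype.val hx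
      exact Subtype.ext (hfix x.1 x.2 this)
  rw [h2, Fintype.card_eq_nat_card] at h1
  exact h1

/-- the map `w ↦ w * α w` -/
def tiComm (α : MulAut W) : W →* W := (MonoidHom.id W) * α.toMonoidHom

theorem tiComm_apply (α : MulAut W) (w : W) : tiComm α w = w * α w := rfl

theorem tiComm_inv (α : MulAut W) : ∀ u ∈ (tiComm α).range, α u ∈ (tiComm α).range := by
  rintro _ ⟨w, rfl⟩
  exact ⟨α w, by rw [tiComm_apply, tiComm_apply, map_mul]⟩

theorem tiComm_fix (hW : ∀ w : W, w * w = 1) (α : MulAut W) (r : ℕ) (hodd : Odd r)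
    (hα : α ^ r = 1) : ∀ u ∈ (tiComm α).range, α u = u → u = 1 := by
  rintro _ ⟨w, rfl⟩ h
  rw [tiComm_apply] at h ⊢
  rw [map_mul, mul_comm w (α w)] at h
  have h1 : α (α w) = w := mul_left_cancel h
  have h2 : (α ^ 2) w = w := by rw [pow_two, MulAut.mul_apply, h1]
  obtain ⟨k, hk⟩ := hodd
  have h3 := ti_pow_fix (α ^ 2) w h2 (k + 1)
  rw [← pow_mul] at h3
  have h4 : α ^ (2 * (k + 1)) = α := by
    have : 2 * (k + 1) = r + 1 := by omega
    rw [this, pow_succ, hα, one_mul]
  rw [h4] at h3
  rw [h3, hW]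

theorem tiComm_ker (hW : ∀ w : W, w * w = 1) (α : MulAut W) (w : W) :
    w ∈ (tiComm α).ker ↔ α w = w := by
  rw [MonoidHom.mem_ker, tiComm_apply, mul_eq_one_iff_eq_inv, inv_eq_of_mul_eq_one_left (hW (α w))]
  exact eq_comm

theorem tiComm_ne_bot (hW : ∀ w : W, w * w = 1) (α : MulAut W) (hα1 : α ≠ 1) :
    (tiComm α).range ≠ ⊥ := by
  intro h
  apply hα1
  ext w
  rw [MulAut.one_apply, ← tiComm_ker hW, MonoidHom.mem_ker]
  have : tiComm α w ∈ (tiComm α).range := ⟨w, rfl⟩
  rw [h, Subgroup.mem_bot] at this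
  exact this

theorem tiComm_card (α : MulAut W) :
    Nat.card (tiComm α).ker * Nat.card (tiComm α).range = Nat.card W := by
  rw [← Subgroup.index_ker]
  exact Subgroup.card_mul_index _

end aut

end Cfsg.Agent.Lib.Helper18.ThreeInv
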