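import Mathlib
import Cfsg.Agent.Lib.Helper18.ThreeInvD

set_option autoImplicit false

/-! Prime order automorphisms preserving an anisotropic quadratic map: the possible primes,
and the exclusion of seven. -/

namespace Cfsg.Agent.Lib.Helper18.ThreeInv

section primes

variable {W T : Type*} [CommGroup W] [CommGroup T] {q : W → T}

theorem TIQuad.isPGroup (Q : TIQuad q) : IsPGroup 2 W := by
  intro w
  exact ⟨1, by rw [pow_one, pow_two, Q.hW]⟩

theorem TIQuad.prime_cases (Q : TIQuad q) [Finite W] (hW16 : Nat.card W ≤ 16) (α : MulAut W)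
    (r : ℕ) (hr : r.Prime) (hr2 : r ≠ 2) (hα : α ^ r = 1) (hα1 : α ≠ 1) :
    r = 3 ∨ (r = 7 ∧ Nat.card (tiComm α).range = 8) ∨
      (r = 5 ∧ Nat.card (tiComm α).range = 16) := by
  haveI : Fact (Nat.Prime 2) := ⟨Nat.prime_two⟩
  have hodd : Odd r := hr.odd_of_ne_two hr2
  have hU2 : IsPGroup 2 (tiComm α).range := Q.isPGroup.to_subgroup _
  obtain ⟨m, hm⟩ := IsPGroup.iff_card.mp hU2
  have hle : Nat.card (tiComm α).range ≤ 16 :=
    (Subgroup.card_le_card_group _).trans hW16
  have hne : Nat.card (tiComm α).range ≠ 1 := by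
    intro h
    exact tiComm_ne_bot Q.hW α hα1 (Subgroup.card_eq_one.mp h)
  have hcong := ti_cong α r hr hα (tiComm α).range (tiComm_inv α) (tiComm_fix Q.hW α r hodd hα)
  rw [hm] at hle hne hcong ⊢
  have hm4 : m ≤ 4 := by
    by_contra h
    push Not at h
    have : 2 ^ 5 ≤ 2 ^ m := Nat.pow_le_pow_right (by norm_num) h
    omega
  have hdvd : r ∣ 2 ^ m - 1 :=
    (Nat.modEq_iff_dvd' Nat.one_le_two_pow).mp hcong.symm
  have hr1 := hr.one_lt
  interval_cases m
  · exact absurd rfl hne
  · norm_num at hdvd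
    omega
  · norm_num at hdvd
    left
    exact (Nat.prime_dvd_prime_iff_eq hr Nat.prime_three).mp hdvd
  · norm_num at hdvd
    right; left
    exact ⟨(Nat.prime_dvd_prime_iff_eq hr (by norm_num)).mp hdvd, by norm_num⟩
  · norm_num at hdvd
    have h15 : (15 : ℕ) = 3 * 5 := by norm_num
    rw [h15] at hdvd
    rcases (Nat.Prime.dvd_mul hr).mp hdvd with h | h
    · left
      exact (Nat.prime_dvd_prime_iff_eq hr Nat.prime_three).mp h
    · right; right
      exact ⟨(Nat.prime_dvd_prime_iff_eq hr Nat.prime_five).mp h, by norm_num⟩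

/-- no automorphism of order seven preserving `q` acts freely on a subgroup of order eight -/
theorem TIQuad.no_seven (Q : TIQuad q) [Finite W] (α : MulAut W) (hα7 : α ^ 7 = 1)
    (hqα : ∀ w, q (α w) = q w) (U : Subgroup W) (hU8 : Nat.card U = 8)
    (hUα : ∀ u ∈ U, α u ∈ U) (hfix : ∀ u ∈ U, α u = u → u = 1) : False := by
  classical
  haveI : Fintype W := Fintype.ofFinite W
  obtain ⟨u0, hu0U, hu01⟩ : ∃ u0 ∈ U, u0 ≠ 1 := by
    by_contra hcon
    push Not at hcon
    have : U = ⊥ := by
      rw [Subgroup.eq_bot_iff_forall]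
      exact hcon
    rw [this, Subgroup.card_bot] at hU8
    omega
  have hinj := ti_free α 7 (by norm_num) hα7 u0 (fun h => hu01 (hfix u0 hu0U h))
  have hpowU : ∀ i : ℕ, (α ^ i) u0 ∈ U := by
    intro i
    induction i with
    | zero => simpa using hu0U
    | succ i ih => rw [ti_pow_succ_apply]; exact hUα _ ih
  -- the orbit is all of `U` minus the identity
  let S : Finset W := Finset.image (fun i : Fin 7 => (α ^ (i : ℕ)) u0) Finset.univ
  let R : Finset W := (Finset.univ.filter (fun x => x ∈ U)).erase 1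
  have hS7 : S.card = 7 := by
    rw [Finset.card_image_of_injective _ hinj]
    simp
  have hR7 : R.card = 7 := by
    rw [Finset.card_erase_of_mem (by simp [U.one_mem])]
    have : (Finset.univ.filter (fun x => x ∈ U)).card = Nat.card U := by
      rw [Nat.card_eq_fintype_card, Fintype.card_subtype]
    rw [this, hU8]
  have hSR : S ⊆ R := by
    intro x hx
    obtain ⟨i, -, rfl⟩ := Finset.mem_image.mp hx
    rw [Finset.mem_erase]
    refine ⟨?_, by simpa using hpowU i⟩
    intro h1
    have h2 := ti_q_pow (q := q) α hqα i u0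
    rw [h1, Q.q_one] at h2
    exact hu01 ((Q.hq u0).mp h2.symm)
  have hSeq : S = R := Finset.eq_of_subset_of_card_le hSR (by rw [hS7, hR7])
  have hconst : ∀ x ∈ U, x ≠ 1 → q x = q u0 := by
    intro x hxU hx1
    have : x ∈ R := by
      rw [Finset.mem_erase]
      exact ⟨hx1, by simpa using hxU⟩
    rw [← hSeq] at this
    obtain ⟨i, -, rfl⟩ := Finset.mem_image.mp this
    exact ti_q_pow α hqα i u0
  have hc : q u0 ≠ 1 := fun h => hu01 ((Q.hq u0).mp h)
  refine (Q.restrict U).two_values (by rw [hU8]) (q u0) (q u0) hc hc ?_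
  intro x hx
  left
  exact hconst x.1 x.2 (fun h => hx (Subtype.ext h))

end primes

end Cfsg.Agent.Lib.Helper18.ThreeInv
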