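import Mathlib
import Cfsg.Agent.Lib.Helper18.ThreeInvE

set_option autoImplicit false

/-! A fixed point free automorphism of order five preserving an anisotropic quadratic map on a
group of order sixteen: the fibres of the map are the orbits. -/

namespace Cfsg.Agent.Lib.Helper18.ThreeInv

section five

variable {W T : Type*} [CommGroup W] [CommGroup T] {q : W → T}

theorem TIQuad.five_fibre (Q : TIQuad q) [Finite W] (hW16 : Nat.card W = 16)
    (α : MulAut W) (hqα : ∀ w, q (α w) = q w) (hα5 : α ^ 5 = 1)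
    (hfix : ∀ w, α w = w → w = 1) (u0 : W) (hu0 : u0 ≠ 1) :
    ∀ y, q y = q u0 → ∃ i : Fin 5, y = (α ^ (i : ℕ)) u0 := by
  classical
  haveI : Fintype W := Fintype.ofFinite W
  have hc1 : q u0 ≠ 1 := fun h => hu0 ((Q.hq u0).mp h)
  obtain ⟨x1, hx1, hx1c⟩ : ∃ x1 : W, x1 ≠ 1 ∧ q x1 ≠ q u0 := by
    by_contra hcon
    push Not at hcon
    exact Q.two_values (by omega) (q u0) (q u0) hc1 hc1 (fun x hx => Or.inl (hcon x hx))
  have hc2 : q x1 ≠ 1 := fun h => hx1 ((Q.hq x1).mp h)
  obtain ⟨x2, hx2, hx2c, hx2c'⟩ : ∃ x2 : W, x2 ≠ 1 ∧ q x2 ≠ q u0 ∧ q x2 ≠ q x1 := by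
    by_contra hcon
    push Not at hcon
    refine Q.two_values (by omega) (q u0) (q x1) hc1 hc2 (fun x hx => ?_)
    by_cases h : q x = q u0
    · exact Or.inl h
    · exact Or.inr (hcon x hx h)
  have hc3 : q x2 ≠ 1 := fun h => hx2 ((Q.hq x2).mp h)
  let x : Fin 3 → W := ![u0, x1, x2]
  have hx1' : ∀ k, x k ≠ 1 := by
    intro k
    fin_cases k
    · exact hu0
    · exact hx1
    · exact hx2
  have hxq : ∀ k k', q (x k) = q (x k') → k = k' := by
    intro k k' h
    fin_cases k <;> fin_cases k' <;> simp only [x, Matrix.cons_val_zero, Matrix.cons_val_one,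
      Matrix.cons_val] at h <;> first | rfl | (exfalso; first | exact hx1c h | exact hx1c h.symm | exact hx2c h | exact hx2c h.symm | exact hx2c' h | exact hx2c' h.symm)
  let g : Option (Fin 3 × Fin 5) → W := fun o =>
    match o with
    | none => 1
    | some (k, i) => (α ^ (i : ℕ)) (x k)
  have hgq : ∀ k i, q (g (some (k, i))) = q (x k) := fun k i => ti_q_pow α hqα i (x k)
  have hginj : Function.Injective g := by
    intro o o' h
    rcases o with _ | ⟨k, i⟩ <;> rcases o' with _ | ⟨k', i'⟩
    · rfl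
    · exfalso
      have h1 := hgq k' i'
      rw [← h] at h1
      have : q (x k') = 1 := by rw [← h1]; exact Q.q_one
      exact hx1' k' ((Q.hq _).mp this)
    · exfalso
      have h1 := hgq k i
      rw [h] at h1
      have : q (x k) = 1 := by rw [← h1]; exact Q.q_one
      exact hx1' k ((Q.hq _).mp this)
    · have h1 : q (x k) = q (x k') := by rw [← hgq k i, ← hgq k' i', h]
      have hk := hxq k k' h1
      subst hk
      have hinj := ti_free α 5 (by norm_num) hα5 (x k) (fun h => hx1' k (hfix _ h))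
      have := hinj h
      rw [this]
  have hgbij : Function.Bijective g := by
    rw [Fintype.bijective_iff_injective_and_card]
    refine ⟨hginj, ?_⟩
    rw [← Nat.card_eq_fintype_card (α := W), hW16]
    simp
  intro y hy
  obtain ⟨o, rfl⟩ := hgbij.2 y
  rcases o with _ | ⟨k, i⟩
  · exfalso
    apply hc1
    rw [← hy]
    exact Q.q_one
  · rw [hgq] at hy
    have hk := hxq k 0 hy
    subst hk
    exact ⟨i, rfl⟩

end five

end Cfsg.Agent.Lib.Helper18.ThreeInv
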