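import Mathlib
import Cfsg.Agent.Lib.Helper18.ThreeInvF

set_option autoImplicit false

/-! The pentagon: the stabilizer of an anisotropic quadratic map containing a fixed point free
automorphism of order five has order at most ten. -/

namespace Cfsg.Agent.Lib.Helper18.ThreeInv

theorem ti_D1 : ∀ s : Fin 5, (s - 1 = 1 ∨ s - 1 = 4) → s ≠ 0 → s = 2 := by decide

theorem ti_D2 : ∀ s : Fin 5, (s - 2 = 1 ∨ s - 2 = 4) → s ≠ 1 → s = 3 := by decide

theorem ti_D3 : ∀ s : Fin 5, s ≠ 0 → s ≠ 1 → s ≠ 2 → s ≠ 3 → s = 4 := by decide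

theorem ti_e0 : ∀ j : Fin 5, j - 0 = j := by decide

theorem ti_e1 : ∀ j : Fin 5, (j - 1) + 1 = j := by decide

theorem ti_e2 : ∀ i j : Fin 5, j - 1 - i = j - (i + 1) := by decide

theorem ti_e3 : ∀ i j : Fin 5, j - i = 0 → i = j := by decide

theorem ti_fin5_induction (P : Fin 5 → Prop) (h0 : P 0) (hs : ∀ i, P i → P (i + 1)) :
    ∀ i, P i := by
  have h1 : P 1 := hs 0 h0
  have h2 : P 2 := hs 1 h1
  have h3 : P 3 := hs 2 h2
  have h4 : P 4 := hs 3 h3
  intro i
  fin_cases i <;> assumption

theorem ti_card_adj :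
    (Finset.univ.filter (fun p : Fin 5 × Fin 5 => p.2 - p.1 = 1 ∨ p.2 - p.1 = 4)).card = 10 := by
  decide

/-- a map of the pentagon fixing two adjacent vertices is the identity -/
theorem ti_pentagon (σ : Fin 5 → Fin 5) (h0 : σ 0 = 0) (h1 : σ 1 = 1)
    (hinj : Function.Injective σ)
    (hadj : ∀ i j : Fin 5, (j - i = 1 ∨ j - i = 4) → (σ j - σ i = 1 ∨ σ j - σ i = 4)) :
    ∀ k, σ k = k := by
  have h2 : σ 2 = 2 := by
    apply ti_D1
    · have := hadj 1 2 (by decide)
      rwa [h1] at this
    · intro h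
      have := hinj (h.trans h0.symm)
      exact absurd this (by decide)
  have h3 : σ 3 = 3 := by
    apply ti_D2
    · have := hadj 2 3 (by decide)
      rwa [h2] at this
    · intro h
      have := hinj (h.trans h1.symm)
      exact absurd this (by decide)
  have h4 : σ 4 = 4 := by
    apply ti_D3
    · intro h
      exact absurd (hinj (h.trans h0.symm)) (by decide)
    · intro h
      exact absurd (hinj (h.trans h1.symm)) (by decide)
    · intro h
      exact absurd (hinj (h.trans h2.symm)) (by decide)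
    · intro h
      exact absurd (hinj (h.trans h3.symm)) (by decide)
  intro k
  fin_cases k
  · exact h0
  · exact h1
  · exact h2
  · exact h3
  · exact h4

section five

variable {W T : Type*} [CommGroup W] [CommGroup T] {q : W → T}

theorem TIQuad.five_bound (Q : TIQuad q) [Finite W] (hW16 : Nat.card W = 16)
    (H : Subgroup (MulAut W)) (hH : ∀ h ∈ H, ∀ w, q (h w) = q w)
    (α : MulAut W) (hαH : α ∈ H) (hα5 : α ^ 5 = 1) (hfix : ∀ w, α w = w → w = 1) :
    Nat.card H ≤ 10 := by
  classical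
  have hqα := hH α hαH
  obtain ⟨u0, hu0⟩ : ∃ u0 : W, u0 ≠ 1 := by
    by_contra hcon
    push Not at hcon
    have : Nat.card W = 1 := by
      rw [Nat.card_eq_one_iff_unique]
      exact ⟨⟨fun a b => (hcon a).trans (hcon b).symm⟩, ⟨1⟩⟩
    omega
  have hc1 : q u0 ≠ 1 := fun h => hu0 ((Q.hq u0).mp h)
  have hF := Q.five_fibre hW16 α hqα hα5 hfix u0 hu0
  have hvinj := ti_free α 5 (by norm_num) hα5 u0 (fun h => hu0 (hfix _ h))
  obtain ⟨v, hv⟩ : ∃ v : Fin 5 → W, v = fun i : Fin 5 => (α ^ (i : ℕ)) u0 := ⟨_, rfl⟩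
  rw [← hv] at hvinj
  have hF' : ∀ y, q y = q u0 → ∃ i : Fin 5, y = v i := by
    intro y hy
    obtain ⟨i, hi⟩ := hF y hy
    exact ⟨i, by rw [hv]; exact hi⟩
  have hqv : ∀ i, q (v i) = q u0 := by
    intro i
    rw [hv]
    exact ti_q_pow α hqα i u0
  have hv1 : ∀ i, v i ≠ 1 := by
    intro i h
    apply hc1
    rw [← hqv i, h, Q.q_one]
  -- shifting
  have hV1 : ∀ i : Fin 5, α (v i) = v (i + 1) := by
    intro i
    rw [hv]
    fin_cases i
    · simp
    · show α ((α ^ 1) u0) = (α ^ 2) u0
      rw [← ti_pow_succ_apply]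
    · show α ((α ^ 2) u0) = (α ^ 3) u0
      rw [← ti_pow_succ_apply]
    · show α ((α ^ 3) u0) = (α ^ 4) u0
      rw [← ti_pow_succ_apply]
    · show α ((α ^ 4) u0) = (α ^ 0) u0
      rw [← ti_pow_succ_apply, hα5, pow_zero]
  have hV2 : ∀ i j : Fin 5, q (v (i + 1) * v (j + 1)) = q (v i * v j) := by
    intro i j
    rw [← hV1, ← hV1, ← map_mul, hqα]
  have hP' : ∀ i j : Fin 5, q (v i * v j) = q (v 0 * v (j - i)) := by
    intro i
    induction i using ti_fin5_induction with
    | h0 =>
      intro j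
      rw [ti_e0]
    | hs i ih =>
      intro j
      rw [← ti_e1 j, hV2, ih, ti_e2, ti_e1]
  obtain ⟨a1, ha1⟩ : ∃ a1, a1 = q (v 0 * v 1) := ⟨_, rfl⟩
  obtain ⟨a2, ha2⟩ : ∃ a2, a2 = q (v 0 * v 2) := ⟨_, rfl⟩
  have hf0 : q (v 0 * v 0) = 1 := by rw [Q.hW, Q.q_one]
  have hf3 : q (v 0 * v 3) = a2 := by
    rw [mul_comm, hP' 3 0, ha2]
    rfl
  have hf4 : q (v 0 * v 4) = a1 := by
    rw [mul_comm, hP' 4 0, ha1]
    rfl
  have ha11 : a1 ≠ 1 := by
    rw [ha1, Ne, Q.hq, Q.mul_eq_one_iff]
    intro h
    exact absurd (hvinj h) (by decide)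
  -- the product of the orbit is trivial
  have hprod : v 0 * v 1 * v 2 * v 3 * v 4 = 1 := by
    apply hfix
    rw [map_mul, map_mul, map_mul, map_mul, hV1, hV1, hV1, hV1, hV1]
    have e1 : (0 : Fin 5) + 1 = 1 := by decide
    have e2 : (1 : Fin 5) + 1 = 2 := by decide
    have e3 : (2 : Fin 5) + 1 = 3 := by decide
    have e4 : (3 : Fin 5) + 1 = 4 := by decide
    have e5 : (4 : Fin 5) + 1 = 0 := by decide
    rw [e1, e2, e3, e4, e5]
    simp only [mul_comm, mul_left_comm, mul_assoc]
  have ha12 : a1 ≠ a2 := by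
    intro h
    have hall : ∀ i j : Fin 5, i ≠ j → q (v i * v j) = a1 := by
      intro i j hij
      rw [hP']
      have hd : j - i ≠ 0 := fun h => hij (ti_e3 i j h)
      generalize j - i = d at hd
      fin_cases d
      · exact absurd rfl hd
      · exact ha1.symm
      · rw [h]; exact ha2.symm
      · rw [h]; exact hf3
      · exact hf4
    have hB : ∀ i j : Fin 5, i ≠ j → tiB q (v i) (v j) = a1 := by
      intro i j hij
      unfold tiB
      rw [hall i j hij, hqv, hqv, mul_assoc, Q.hT, mul_one]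
    have h4 : q (v 0 * v 1 * v 2 * v 3) = 1 := by
      rw [Q.q_mul (v 0 * v 1 * v 2) (v 3), Q.hb, Q.hb, Q.q_mul (v 0 * v 1) (v 2), Q.hb,
        hB 0 3 (by decide), hB 1 3 (by decide), hB 2 3 (by decide), hB 0 2 (by decide),
        hB 1 2 (by decide), hall 0 1 (by decide), hqv, hqv]
      have e1 := Q.hT a1
      have e2 := Q.hT (q u0)
      have e1' := Q.hT' a1
      have e2' := Q.hT' (q u0)
      simp only [mul_comm, mul_left_comm, mul_assoc, e1, e2, e1', e2', mul_one]
    have h5 : v 0 * v 1 * v 2 * v 3 = 1 := (Q.hq _).mp h4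
    rw [h5, one_mul] at hprod
    exact hv1 4 hprod
  have hadj : ∀ i j : Fin 5, q (v i * v j) = a1 ↔ (j - i = 1 ∨ j - i = 4) := by
    intro i j
    rw [hP']
    generalize j - i = d
    fin_cases d
    · simp only [Fin.zero_eta, Fin.isValue]
      rw [hf0]
      constructor
      · intro h; exact absurd h.symm ha11
      · intro h; exfalso; revert h; decide
    · simp only [Fin.mk_one, Fin.isValue]
      rw [← ha1]
      simp
    · simp only [Fin.reduceFinMk, Fin.isValue]
      rw [← ha2]
      constructor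
      · intro h; exact absurd h.symm ha12
      · intro h; exfalso; revert h; decide
    · simp only [Fin.reduceFinMk, Fin.isValue]
      rw [hf3]
      constructor
      · intro h; exact absurd h.symm ha12
      · intro h; exfalso; revert h; decide
    · simp only [Fin.reduceFinMk, Fin.isValue]
      rw [hf4]
      simp
  -- the orbit generates
  have hclos : Subgroup.closure (Set.range v) = ⊤ := by
    set V := Subgroup.closure (Set.range v) with hVdef
    have hVα : ∀ x ∈ V, α x ∈ V := by
      intro x hx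
      induction hx using Subgroup.closure_induction with
      | mem x hx =>
        obtain ⟨i, rfl⟩ := hx
        rw [hV1]
        exact Subgroup.subset_closure ⟨_, rfl⟩
      | one => rw [map_one]; exact V.one_mem
      | mul x y _ _ hx hy => rw [map_mul]; exact V.mul_mem hx hy
      | inv x _ hx => rw [map_inv]; exact V.inv_mem hx
    have hcong := ti_cong α 5 (by norm_num) hα5 V hVα (fun u _ h => hfix u h)
    have hdvd : Nat.card V ∣ 16 := by
      rw [← hW16]
      exact Subgroup.card_subgroup_dvd_card V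
    have hne1 : Nat.card V ≠ 1 := by
      intro h
      have hbot := Subgroup.card_eq_one.mp h
      have : v 0 ∈ V := Subgroup.subset_closure ⟨0, rfl⟩
      rw [hbot, Subgroup.mem_bot] at this
      exact hv1 0 this
    have hmem : Nat.card V ∈ Nat.divisors 16 := by
      rw [Nat.mem_divisors]
      exact ⟨hdvd, by norm_num⟩
    have hdiv : Nat.divisors 16 = {1, 2, 4, 8, 16} := by decide
    rw [hdiv] at hmem
    simp only [Finset.mem_insert, Finset.mem_singleton] at hmem
    have h16 : Nat.card V = 16 := by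
      rcases hmem with h | h | h | h | h
      · exact absurd h hne1
      · rw [h] at hcong; exact absurd hcong (by decide)
      · rw [h] at hcong; exact absurd hcong (by decide)
      · rw [h] at hcong; exact absurd hcong (by decide)
      · exact h
    rw [← hW16] at h16
    exact (Subgroup.card_eq_iff_eq_top V).mp h16
  -- an element of `H` fixing `v 0` and `v 1` is trivial
  have hstab : ∀ g ∈ H, g (v 0) = v 0 → g (v 1) = v 1 → g = 1 := by
    intro g hg hg0 hg1
    have hex : ∀ k : Fin 5, ∃ s : Fin 5, g (v k) = v s := by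
      intro k
      apply hF'
      rw [hH g hg, hqv]
    choose σ hσ using hex
    have hσ0 : σ 0 = 0 := hvinj ((hσ 0).symm.trans hg0)
    have hσ1 : σ 1 = 1 := hvinj ((hσ 1).symm.trans hg1)
    have hσinj : Function.Injective σ := by
      intro i j hij
      apply hvinj
      apply g.injective
      rw [hσ, hσ, hij]
    have hσadj : ∀ i j : Fin 5, (j - i = 1 ∨ j - i = 4) → (σ j - σ i = 1 ∨ σ j - σ i = 4) := by
      intro i j hij
      rw [← hadj, ← hσ, ← hσ, ← map_mul, hH g hg, hadj]
      exact hij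
    have hσid := ti_pentagon σ hσ0 hσ1 hσinj hσadj
    have hgfix : ∀ x ∈ Subgroup.closure (Set.range v), g x = x := by
      intro x hx
      induction hx using Subgroup.closure_induction with
      | mem x hx =>
        obtain ⟨i, rfl⟩ := hx
        rw [hσ, hσid]
      | one => exact map_one g
      | mul x y _ _ hx hy => rw [map_mul, hx, hy]
      | inv x _ hx => rw [map_inv, hx]
    ext x
    rw [MulAut.one_apply]
    exact hgfix x (by rw [hclos]; exact Subgroup.mem_top x)
  -- the injection into the adjacent pairs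
  have hex : ∀ h : H, ∃ p : Fin 5 × Fin 5, h.1 (v 0) = v p.1 ∧ h.1 (v 1) = v p.2 := by
    intro h
    obtain ⟨i, hi⟩ := hF' (h.1 (v 0)) (by rw [hH h.1 h.2, hqv])
    obtain ⟨j, hj⟩ := hF' (h.1 (v 1)) (by rw [hH h.1 h.2, hqv])
    exact ⟨(i, j), hi, hj⟩
  choose Φ hΦ using hex
  have hΦinj : Function.Injective Φ := by
    intro h h' hhh
    have h0 : h.1 (v 0) = h'.1 (v 0) := by rw [(hΦ h).1, (hΦ h').1, hhh]
    have h1 : h.1 (v 1) = h'.1 (v 1) := by rw [(hΦ h).2, (hΦ h').2, hhh]
    have hg : h'.1⁻¹ * h.1 = 1 := by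
      apply hstab _ (H.mul_mem (H.inv_mem h'.2) h.2)
      · rw [MulAut.mul_apply, h0, ← MulAut.mul_apply, inv_mul_cancel, MulAut.one_apply]
      · rw [MulAut.mul_apply, h1, ← MulAut.mul_apply, inv_mul_cancel, MulAut.one_apply]
    apply Subtype.ext
    exact (inv_mul_eq_one.mp hg).symm
  have hΦmem : ∀ h : H, Φ h ∈
      Finset.univ.filter (fun p : Fin 5 × Fin 5 => p.2 - p.1 = 1 ∨ p.2 - p.1 = 4) := by
    intro h
    rw [Finset.mem_filter]
    refine ⟨Finset.mem_univ _, ?_⟩
    rw [← hadj, ← (hΦ h).1, ← (hΦ h).2, ← map_mul, hH h.1 h.2, hadj]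
    decide
  haveI : Fintype H := Fintype.ofFinite H
  rw [Nat.card_eq_fintype_card, ← Finset.card_univ, ← ti_card_adj]
  exact Finset.card_le_card_of_injOn Φ (fun h _ => hΦmem h) (fun a _ b _ hab => hΦinj hab)

end five

end Cfsg.Agent.Lib.Helper18.ThreeInv
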