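import Mathlib
import Cfsg.Agent.Lib.Helper18.ThreeInvG
import Cfsg.Agent.Lib.helper2.Burnside2

set_option autoImplicit false

/-! The stabilizer of an anisotropic quadratic map with at most four values is solvable. -/

namespace Cfsg.Agent.Lib.Helper18.ThreeInv

theorem ti_two_three (n : ℕ) (hn : n ≠ 0) (h : ∀ r : ℕ, r.Prime → r ∣ n → r = 2 ∨ r = 3) :
    ∃ a b : ℕ, n = 2 ^ a * 3 ^ b := by
  induction n using Nat.strong_induction_on with
  | _ n ih =>
    by_cases h1 : n = 1
    · exact ⟨0, 0, by simp [h1]⟩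
    · have hp := Nat.minFac_prime h1
      obtain ⟨m, hm⟩ := Nat.minFac_dvd n
      have hm0 : m ≠ 0 := by
        rintro rfl
        rw [mul_zero] at hm
        exact hn hm
      have hlt : m < n := by
        have h2 := hp.two_le
        have hmpos : 0 < m := Nat.pos_of_ne_zero hm0
        calc m = 1 * m := (one_mul m).symm
          _ < n.minFac * m := Nat.mul_lt_mul_of_pos_right (by omega) hmpos
          _ = n := hm.symm
      obtain ⟨a, b, hab⟩ := ih m hlt hm0 (fun r hr hrm => h r hr (hrm.trans ⟨n.minFac, by rw [mul_comm]; exact hm⟩))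
      rcases h n.minFac hp (Nat.minFac_dvd n) with h2 | h3
      · refine ⟨a + 1, b, ?_⟩
        rw [hm, h2, hab]
        ring
      · refine ⟨a, b + 1, ?_⟩
        rw [hm, h3, hab]
        ring

theorem ti_solvable_le_ten {G : Type*} [Group G] [Finite G] (h : Nat.card G ≤ 10) :
    Group.IsSolvable G := by
  have hpos : 0 < Nat.card G := Nat.card_pos
  have h2 := Nat.prime_two
  have h3 := Nat.prime_three
  have h5 := Nat.prime_five
  have h7 : Nat.Prime 7 := by norm_num
  obtain ⟨n, hn⟩ : ∃ n, Nat.card G = n := ⟨_, rfl⟩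
  rw [hn] at h hpos
  interval_cases n
  · exact Cfsg.Agent.Lib.helper2.burnside_pq 2 3 0 0 h2 h3 (by rw [hn]; norm_num)
  · exact Cfsg.Agent.Lib.helper2.burnside_pq 2 3 1 0 h2 h3 (by rw [hn]; norm_num)
  · exact Cfsg.Agent.Lib.helper2.burnside_pq 2 3 0 1 h2 h3 (by rw [hn]; norm_num)
  · exact Cfsg.Agent.Lib.helper2.burnside_pq 2 3 2 0 h2 h3 (by rw [hn]; norm_num)
  · exact Cfsg.Agent.Lib.helper2.burnside_pq 2 5 0 1 h2 h5 (by rw [hn]; norm_num)
  · exact Cfsg.Agent.Lib.helper2.burnside_pq 2 3 1 1 h2 h3 (by rw [hn]; norm_num)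
  · exact Cfsg.Agent.Lib.helper2.burnside_pq 2 7 0 1 h2 h7 (by rw [hn]; norm_num)
  · exact Cfsg.Agent.Lib.helper2.burnside_pq 2 3 3 0 h2 h3 (by rw [hn]; norm_num)
  · exact Cfsg.Agent.Lib.helper2.burnside_pq 2 3 0 2 h2 h3 (by rw [hn]; norm_num)
  · exact Cfsg.Agent.Lib.helper2.burnside_pq 2 5 1 1 h2 h5 (by rw [hn]; norm_num)

section main

variable {W T : Type*} [CommGroup W] [CommGroup T] {q : W → T}

/-- **The stabilizer of an anisotropic quadratic map with at most four values is solvable.** -/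
theorem TIQuad.solvable (Q : TIQuad q) [Finite W] [Finite T] (hT4 : Nat.card T ≤ 4)
    (H : Subgroup (MulAut W)) (hH : ∀ h ∈ H, ∀ w, q (h w) = q w) : Group.IsSolvable H := by
  have hW16 := Q.card_le hT4
  have hprime : ∀ r : ℕ, r.Prime → r ∣ Nat.card H → r = 2 ∨ r = 3 ∨ Nat.card H ≤ 10 := by
    intro r hr hdvd
    by_cases hr2 : r = 2
    · exact Or.inl hr2
    right
    haveI : Fact r.Prime := ⟨hr⟩
    obtain ⟨x, hx⟩ := exists_prime_orderOf_dvd_card' r hdvd
    have hα : x.1 ^ r = 1 := by
      have := pow_orderOf_eq_one x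
      rw [hx] at this
      exact congrArg Subtype.val this
    have hα1 : x.1 ≠ 1 := by
      intro h
      have : x = 1 := Subtype.ext h
      rw [this, orderOf_one] at hx
      exact hr.one_lt.ne hx
    rcases Q.prime_cases hW16 x.1 r hr hr2 hα hα1 with h3 | ⟨h7, h8⟩ | ⟨h5, h16⟩
    · exact Or.inl h3
    · exfalso
      subst h7
      exact Q.no_seven x.1 hα (hH x.1 x.2) (tiComm x.1).range h8 (tiComm_inv x.1)
        (tiComm_fix Q.hW x.1 7 (by decide) hα)
    · right
      subst h5
      have hcard := tiComm_card x.1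
      rw [h16] at hcard
      have hk1 : Nat.card (tiComm x.1).ker = 1 := by
        have hpos : 0 < Nat.card (tiComm x.1).ker := Nat.card_pos
        nlinarith
      have hW : Nat.card W = 16 := by rw [← hcard, hk1]
      have hfix : ∀ w, x.1 w = w → w = 1 := by
        intro w hw
        have hmem : w ∈ (tiComm x.1).ker := (tiComm_ker Q.hW x.1 w).mpr hw
        rw [Subgroup.card_eq_one.mp hk1, Subgroup.mem_bot] at hmem
        exact hmem
      exact Q.five_bound hW H hH x.1 x.2 hα hfix
  by_cases h10 : Nat.card H ≤ 10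
  · exact ti_solvable_le_ten h10
  · have hpos : Nat.card H ≠ 0 := Nat.card_pos.ne'
    obtain ⟨a, b, hab⟩ := ti_two_three (Nat.card H) hpos (fun r hr hdvd => by
      rcases hprime r hr hdvd with h | h | h
      · exact Or.inl h
      · exact Or.inr h
      · exact absurd h h10)
    exact Cfsg.Agent.Lib.helper2.burnside_pq 2 3 a b Nat.prime_two Nat.prime_three hab

end main

end Cfsg.Agent.Lib.Helper18.ThreeInv
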