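import Mathlib
import Cfsg.Agent.Lib.helper2.Burnside2
import Cfsg.Agent.Lib.Helper13.CritAutA
import Cfsg.Agent.Lib.Helper24.CritAut

set_option autoImplicit false

/-! General lemmas on automorphism groups of `2`-groups for the three involutions theorem. -/

namespace Cfsg.Agent.Lib.Helper18.ThreeInv

section general

variable {P : Type*} [Group P]

/-- restriction of automorphisms to an invariant subgroup -/
def tiRes (S : Subgroup P) (hS : ∀ (α : MulAut P), ∀ s ∈ S, α s ∈ S) : MulAut P →* MulAut S where
  toFun α :=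
    { toFun := fun s => ⟨α s, hS α s s.2⟩
      invFun := fun s => ⟨α⁻¹ s, hS α⁻¹ s s.2⟩
      left_inv := by
        intro s
        apply Subtype.ext
        simp
      right_inv := by
        intro s
        apply Subtype.ext
        simp
      map_mul' := by
        intro a b
        apply Subtype.ext
        simp }
  map_one' := by
    ext s
    rfl
  map_mul' := by
    intro a b
    ext s
    rfl

theorem tiRes_apply (S : Subgroup P) (hS : ∀ (α : MulAut P), ∀ s ∈ S, α s ∈ S) (α : MulAut P)
    (s : S) : ((tiRes S hS α) s : P) = α s := rfl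

theorem ti_map_eq (S : Subgroup P) (hS : ∀ (α : MulAut P), ∀ s ∈ S, α s ∈ S)
    (α : MulAut P) : S.map (α : P →* P) = S := by
  apply le_antisymm
  · rintro _ ⟨s, hs, rfl⟩
    exact hS α s hs
  · intro s hs
    refine ⟨α⁻¹ s, hS α⁻¹ s hs, ?_⟩
    simp

/-- induced automorphisms on the quotient by an invariant normal subgroup -/
def tiQuot (S : Subgroup P) [S.Normal] (hS : ∀ (α : MulAut P), ∀ s ∈ S, α s ∈ S) :
    MulAut P →* MulAut (P ⧸ S) where
  toFun α := QuotientGroup.congr S S α (ti_map_eq S hS α)
  map_one' := by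
    ext q
    induction q using QuotientGroup.induction_on with
    | H v => rfl
  map_mul' := by
    intro a b
    ext q
    induction q using QuotientGroup.induction_on with
    | H v => rfl

theorem tiQuot_mk (S : Subgroup P) [S.Normal] (hS : ∀ (α : MulAut P), ∀ s ∈ S, α s ∈ S)
    (α : MulAut P) (v : P) :
    tiQuot S hS α (QuotientGroup.mk v) = QuotientGroup.mk (α v) := rfl

theorem ti_char_inv (S : Subgroup P) [hS : S.Characteristic] :
    ∀ (α : MulAut P), ∀ s ∈ S, α s ∈ S := by
  intro α s hs
  have h := Subgroup.characteristic_iff_map_eq.mp hS α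
  rw [← h]
  exact ⟨s, hs, rfl⟩

theorem ti_solvable_of_ker_range {G G' : Type*} [Group G] [Group G'] (f : G →* G')
    (h1 : Group.IsSolvable f.ker) (h2 : Group.IsSolvable f.range) : Group.IsSolvable G := by
  refine Group.isSolvable_of_ker_le_range f.ker.subtype f.rangeRestrict ?_
  rw [MonoidHom.ker_rangeRestrict, Subgroup.range_subtype]

theorem ti_solvable_of_injective {G G' : Type*} [Group G] [Group G'] (f : G →* G')
    (hf : Function.Injective f) (h : Group.IsSolvable G') : Group.IsSolvable G :=
  Group.isSolvable_of_isSolvable_injective hf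

theorem ti_solvable_subgroup {G : Type*} [Group G] (h : Group.IsSolvable G) (K : Subgroup G) :
    Group.IsSolvable K :=
  ti_solvable_of_injective K.subtype K.subtype_injective h

/-- a group of automorphisms all of whose elements of odd order are trivial is solvable -/
theorem ti_solvable_of_odd_trivial {G : Type*} [Group G] [Finite G]
    (h : ∀ g : G, (orderOf g).Coprime 2 → g = 1) : Group.IsSolvable G := by
  haveI : Fact (Nat.Prime 2) := ⟨Nat.prime_two⟩
  have hp : IsPGroup 2 G := by
    intro g
    have hn : orderOf g ≠ 0 := (orderOf_pos g).ne'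
    obtain ⟨k, m, hm, hkm⟩ := Nat.exists_eq_two_pow_mul_odd hn
    refine ⟨k, ?_⟩
    apply h
    have h1 : (g ^ 2 ^ k) ^ m = 1 := by
      rw [← pow_mul, ← hkm, pow_orderOf_eq_one]
    have h2 : orderOf (g ^ 2 ^ k) ∣ m := orderOf_dvd_of_pow_eq_one h1
    exact Nat.Coprime.coprime_dvd_left h2 (Nat.coprime_two_right.mpr hm)
  haveI := hp.isNilpotent
  infer_instance

theorem ti_perm_solvable (Ω : Type*) [Finite Ω] (h : Nat.card Ω ≤ 4) :
    Group.IsSolvable (Equiv.Perm Ω) := by
  have hc : Nat.card (Equiv.Perm Ω) = (Nat.card Ω).factorial := Nat.card_perm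
  obtain ⟨n, hn⟩ : ∃ n, Nat.card Ω = n := ⟨_, rfl⟩
  rw [hn] at h hc
  have h2 := Nat.prime_two
  have h3 := Nat.prime_three
  interval_cases n
  · exact Cfsg.Agent.Lib.helper2.burnside_pq 2 3 0 0 h2 h3 (by rw [hc]; decide)
  · exact Cfsg.Agent.Lib.helper2.burnside_pq 2 3 0 0 h2 h3 (by rw [hc]; decide)
  · exact Cfsg.Agent.Lib.helper2.burnside_pq 2 3 1 0 h2 h3 (by rw [hc]; decide)
  · exact Cfsg.Agent.Lib.helper2.burnside_pq 2 3 1 1 h2 h3 (by rw [hc]; decide)
  · exact Cfsg.Agent.Lib.helper2.burnside_pq 2 3 3 1 h2 h3 (by rw [hc]; decide)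

/-- an automorphism of odd order of an abelian `2`-group fixing the involutions is trivial -/
theorem ti_fix_abelian [Finite P] (hP : IsPGroup 2 P) (hc : ∀ a b : P, a * b = b * a)
    (α : MulAut P) (hα : (orderOf α).Coprime 2) (h1 : ∀ m : P, m * m = 1 → α m = m) :
    α = 1 := by
  haveI : Fact (Nat.Prime 2) := ⟨Nat.prime_two⟩
  have key : ∀ n : ℕ, ∀ m : P, m ^ (2 ^ n) = 1 → α m = m := by
    intro n
    induction n with
    | zero =>
      intro m hm
      rw [pow_zero, pow_one] at hm
      rw [hm, map_one]
    | succ n ih =>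
      intro m hmn
      have h2 : (m ^ 2) ^ (2 ^ n) = 1 := by rw [← pow_mul, ← pow_succ']; exact hmn
      have h3 : α (m ^ 2) = m ^ 2 := ih _ h2
      apply Cfsg.Agent.Lib.Helper13.coprime_fix_of_fix_comm hP α hα
      apply h1
      have hcm : Commute m⁻¹ (α m) := hc _ _
      rw [← pow_two, hcm.mul_pow, ← map_pow, h3, inv_pow, inv_mul_cancel]
  ext m
  obtain ⟨n, hn⟩ := hP m
  rw [MulAut.one_apply]
  exact key n m hn

/-- the action on the solutions of `x * x = 1` -/
def tiOmega (P : Type*) [Group P] : MulAut P →* Equiv.Perm {x : P // x * x = 1} where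
  toFun α :=
    { toFun := fun x => ⟨α x.1, by rw [← map_mul, x.2, map_one]⟩
      invFun := fun x => ⟨α⁻¹ x.1, by rw [← map_mul, x.2, map_one]⟩
      left_inv := by
        intro x
        apply Subtype.ext
        simp
      right_inv := by
        intro x
        apply Subtype.ext
        simp }
  map_one' := by
    ext x
    rfl
  map_mul' := by
    intro a b
    ext x
    rfl

/-- **abelian case** -/
theorem ti_abelian [Finite P] (hP : IsPGroup 2 P) (hc : ∀ a b : P, a * b = b * a)
    (h4 : Nat.card {x : P // x * x = 1} ≤ 4) : Group.IsSolvable (MulAut P) := by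
  apply ti_solvable_of_ker_range (tiOmega P)
  · apply ti_solvable_of_odd_trivial
    intro g hg
    have hg' : (orderOf g.1).Coprime 2 := by
      rwa [Subgroup.orderOf_coe]
    apply Subtype.ext
    apply ti_fix_abelian hP hc g.1 hg'
    intro m hm
    have := g.2
    rw [MonoidHom.mem_ker] at this
    have h2 := congrArg (fun σ : Equiv.Perm {x : P // x * x = 1} => ((σ ⟨m, hm⟩ : {x : P // x * x = 1}) : P)) this
    exact h2
  · exact ti_solvable_subgroup (ti_perm_solvable _ h4) _

/-- **reduction to a characteristic subgroup containing its centralizer** -/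
theorem ti_reduce [Finite P] (hP : IsPGroup 2 P) (H : Subgroup P)
    (hinv : ∀ (α : MulAut P), ∀ s ∈ H, α s ∈ H) (hn : H.Normal)
    (hcent : Subgroup.centralizer (H : Set P) ≤ H) (hsol : Group.IsSolvable (MulAut H)) :
    Group.IsSolvable (MulAut P) := by
  haveI : Fact (Nat.Prime 2) := ⟨Nat.prime_two⟩
  apply ti_solvable_of_ker_range (tiRes H hinv)
  · apply ti_solvable_of_odd_trivial
    intro g hg
    have hg' : (orderOf g.1).Coprime 2 := by
      rwa [Subgroup.orderOf_coe]
    apply Subtype.ext
    apply Cfsg.Agent.Lib.Helper24.ca_crit hP H hn hcent g.1 hg'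
    intro x hx
    have := g.2
    rw [MonoidHom.mem_ker] at this
    have h2 := congrArg (fun σ : MulAut H => ((σ ⟨x, hx⟩ : H) : P)) this
    exact h2
  · exact ti_solvable_subgroup hsol _

end general

end Cfsg.Agent.Lib.Helper18.ThreeInv
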