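import Mathlib
import Cfsg.Agent.Lib.Helper18.ThreeInvH
import Cfsg.Agent.Lib.Helper18.ThreeInvI

set_option autoImplicit false

/-! The class two case of the three involutions theorem: the squaring map as a quadratic map
from `P / Z(P)` to `Z(P) / Z(P)^2`. -/

namespace Cfsg.Agent.Lib.Helper18.ThreeInv

open scoped commutatorElement IsMulCommutative

section classtwo

variable {P : Type*} [Group P]

/-- the commutative group structure on `P / Z(P)` in class two -/
@[reducible] def tiWComm (hcl : ∀ x y : P, ⁅x, y⁆ ∈ Subgroup.center P) :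
    CommGroup (P ⧸ Subgroup.center P) :=
  { (inferInstance : Group (P ⧸ Subgroup.center P)) with
    mul_comm := by
      intro a b
      induction a using QuotientGroup.induction_on with
      | H x =>
        induction b using QuotientGroup.induction_on with
        | H y =>
          rw [← QuotientGroup.mk_mul, ← QuotientGroup.mk_mul, QuotientGroup.eq]
          have := hcl y⁻¹ x⁻¹
          rw [commutatorElement_def, inv_inv, inv_inv] at this
          have e : (x * y)⁻¹ * (y * x) = y⁻¹ * x⁻¹ * y * x := by group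
          rw [e]
          exact this }

/-- the squares of the centre -/
def tiZsq (P : Type*) [Group P] : Subgroup (Subgroup.center P) :=
  (powMonoidHom 2 : Subgroup.center P →* Subgroup.center P).range

/-- the target group `Z(P) / Z(P)^2` -/
abbrev TiT (P : Type*) [Group P] : Type _ := Subgroup.center P ⧸ tiZsq P

theorem tiT_mk_sq (s : Subgroup.center P) : (QuotientGroup.mk (s ^ 2) : TiT P) = 1 := by
  rw [QuotientGroup.eq_one_iff]
  exact ⟨s, rfl⟩

theorem tiT_sq (t : TiT P) : t * t = 1 := by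
  induction t using QuotientGroup.induction_on with
  | H z =>
    rw [← QuotientGroup.mk_mul, ← pow_two]
    exact tiT_mk_sq z

/-- the squaring map -/
def tiQ (hsq : ∀ x : P, x * x ∈ Subgroup.center P) : P ⧸ Subgroup.center P → TiT P :=
  fun w => Quotient.liftOn' w (fun x => (QuotientGroup.mk ⟨x * x, hsq x⟩ : TiT P)) (by
    intro a b hab
    rw [QuotientGroup.leftRel_apply] at hab
    show (QuotientGroup.mk ⟨a * a, hsq a⟩ : TiT P) = QuotientGroup.mk ⟨b * b, hsq b⟩
    have hz := Subgroup.mem_center_iff.mp hab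
    have e : (⟨b * b, hsq b⟩ : Subgroup.center P) = ⟨a * a, hsq a⟩ * (⟨a⁻¹ * b, hab⟩) ^ 2 := by
      apply Subtype.ext
      show b * b = a * a * (a⁻¹ * b) ^ 2
      rw [pow_two]
      have h1 : a * (a⁻¹ * b) = (a⁻¹ * b) * a := hz a
      calc b * b = (a * (a⁻¹ * b)) * (a * (a⁻¹ * b)) := by group
        _ = a * ((a⁻¹ * b) * a) * (a⁻¹ * b) := by group
        _ = a * (a * (a⁻¹ * b)) * (a⁻¹ * b) := by rw [← h1]
        _ = a * a * ((a⁻¹ * b) * (a⁻¹ * b)) := by group
    rw [e, QuotientGroup.mk_mul, tiT_mk_sq, mul_one])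

theorem tiQ_mk (hsq : ∀ x : P, x * x ∈ Subgroup.center P) (x : P) :
    tiQ hsq (QuotientGroup.mk x) = QuotientGroup.mk ⟨x * x, hsq x⟩ := rfl

/-- the class two identity for squares -/
theorem ti_mul_sq (hcl : ∀ x y : P, ⁅x, y⁆ ∈ Subgroup.center P) (x y : P) :
    (x * y) * (x * y) = ⁅y, x⁆ * (x * x) * (y * y) := by
  have hc := Subgroup.mem_center_iff.mp (hcl y x)
  calc (x * y) * (x * y) = x * ⁅y, x⁆ * x * y * y := by
        rw [commutatorElement_def]; group
    _ = ⁅y, x⁆ * x * x * y * y := by rw [hc x]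
    _ = ⁅y, x⁆ * (x * x) * (y * y) := by simp only [mul_assoc]

theorem ti_comm_mul (hcl : ∀ x y : P, ⁅x, y⁆ ∈ Subgroup.center P) (y x x' : P) :
    ⁅y, x * x'⁆ = ⁅y, x⁆ * ⁅y, x'⁆ := by
  have hc := Subgroup.mem_center_iff.mp (hcl y x')
  calc ⁅y, x * x'⁆ = y * x * y⁻¹ * (⁅y, x'⁆ * x⁻¹) := by
        simp only [commutatorElement_def]; group
    _ = y * x * y⁻¹ * (x⁻¹ * ⁅y, x'⁆) := by rw [← hc x⁻¹]
    _ = ⁅y, x⁆ * ⁅y, x'⁆ := by
        rw [commutatorElement_def y x]; simp only [mul_assoc]

theorem ti_polar (hcl : ∀ x y : P, ⁅x, y⁆ ∈ Subgroup.center P)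
    (hsq : ∀ x : P, x * x ∈ Subgroup.center P) (x y : P) :
    tiQ hsq (QuotientGroup.mk (x * y)) * tiQ hsq (QuotientGroup.mk x) *
      tiQ hsq (QuotientGroup.mk y) = QuotientGroup.mk ⟨⁅y, x⁆, hcl y x⟩ := by
  rw [tiQ_mk, tiQ_mk, tiQ_mk, ← QuotientGroup.mk_mul, ← QuotientGroup.mk_mul]
  have e : (⟨x * y * (x * y), hsq (x * y)⟩ * ⟨x * x, hsq x⟩ * ⟨y * y, hsq y⟩ :
      Subgroup.center P) = ⟨⁅y, x⁆, hcl y x⟩ * (⟨x * x, hsq x⟩ * ⟨y * y, hsq y⟩) ^ 2 := by
    apply Subtype.ext
    show x * y * (x * y) * (x * x) * (y * y) = ⁅y, x⁆ * ((x * x) * (y * y)) ^ 2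
    rw [ti_mul_sq hcl, pow_two]
    simp only [mul_assoc]
  rw [e, QuotientGroup.mk_mul, tiT_mk_sq, mul_one]

theorem ti_quad (hcl : ∀ x y : P, ⁅x, y⁆ ∈ Subgroup.center P)
    (hsq : ∀ x : P, x * x ∈ Subgroup.center P)
    (hΩZ : ∀ x : P, x * x = 1 → x ∈ Subgroup.center P) :
    @TIQuad (P ⧸ Subgroup.center P) (TiT P) (tiWComm hcl) _ (tiQ hsq) := by
  letI := tiWComm hcl
  refine ⟨?_, tiT_sq, ?_, ?_⟩
  · intro w
    induction w using QuotientGroup.induction_on with
    | H x =>
      rw [← QuotientGroup.mk_mul, QuotientGroup.eq_one_iff]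
      exact hsq x
  · intro w
    induction w using QuotientGroup.induction_on with
    | H x =>
      rw [tiQ_mk, QuotientGroup.eq_one_iff, QuotientGroup.eq_one_iff]
      constructor
      · rintro ⟨z, hz⟩
        have hz' : (z : P) ^ 2 = x * x := congrArg Subtype.val hz
        have hzc := Subgroup.mem_center_iff.mp z.2
        have h1 : (x * (z : P)⁻¹) * (x * (z : P)⁻¹) = 1 := by
          have hzi : x * (z : P) = (z : P) * x := hzc x
          have hzi' : (z : P)⁻¹ * x = x * (z : P)⁻¹ := by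
            rw [eq_mul_inv_iff_mul_eq, mul_assoc, hzi, inv_mul_cancel_left]
          calc (x * (z : P)⁻¹) * (x * (z : P)⁻¹) = x * ((z : P)⁻¹ * x) * (z : P)⁻¹ := by group
            _ = x * (x * (z : P)⁻¹) * (z : P)⁻¹ := by rw [hzi']
            _ = (x * x) * ((z : P) ^ 2)⁻¹ := by group
            _ = 1 := by rw [hz', mul_inv_cancel]
        have h2 := hΩZ _ h1
        have : x = (x * (z : P)⁻¹) * z := by group
        rw [this]
        exact mul_mem h2 z.2
      · intro hx
        exact ⟨⟨x, hx⟩, Subtype.ext (pow_two x)⟩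
  · intro u u' v
    induction u using QuotientGroup.induction_on with
    | H x =>
      induction u' using QuotientGroup.induction_on with
      | H x' =>
        induction v using QuotientGroup.induction_on with
        | H y =>
          unfold tiB
          simp only [← QuotientGroup.mk_mul]
          rw [ti_polar hcl hsq (x * x') y, ti_polar hcl hsq x y, ti_polar hcl hsq x' y,
            ← QuotientGroup.mk_mul]
          congr 1
          apply Subtype.ext
          exact ti_comm_mul hcl y x x'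

theorem ti_card_T [Finite P] (h4 : Nat.card {x : P // x * x = 1} ≤ 4) :
    Nat.card (TiT P) ≤ 4 := by
  set f : Subgroup.center P →* Subgroup.center P := powMonoidHom 2 with hf
  have h1 : Nat.card f.ker * Nat.card f.range = Nat.card (Subgroup.center P) := by
    rw [← Subgroup.index_ker]
    exact Subgroup.card_mul_index _
  have h2 : Nat.card f.range * f.range.index = Nat.card (Subgroup.center P) :=
    Subgroup.card_mul_index _
  have h3 : f.range.index = Nat.card (TiT P) := Subgroup.index_eq_card _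
  have hpos : 0 < Nat.card f.range := Nat.card_pos
  have h5 : Nat.card (TiT P) = Nat.card f.ker := by
    rw [← h3]
    apply Nat.eq_of_mul_eq_mul_left hpos
    rw [h2, mul_comm, h1]
  rw [h5]
  refine le_trans ?_ h4
  apply Nat.card_le_card_of_injective
    (fun z : f.ker => (⟨(z.1 : P), by
      have := z.2
      rw [MonoidHom.mem_ker] at this
      have h6 : ((z.1 : P)) ^ 2 = 1 := congrArg Subtype.val this
      rw [← pow_two, h6]⟩ : {x : P // x * x = 1}))
  intro a b hab
  have h7 := Subtype.ext_iff.mp hab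
  exact Subtype.ext (Subtype.ext h7)

theorem tiQ_inv (hsq : ∀ x : P, x * x ∈ Subgroup.center P) (α : MulAut P)
    (hα : ∀ z ∈ Subgroup.center P, α z = z) (x : P) :
    tiQ hsq (QuotientGroup.mk (α x)) = tiQ hsq (QuotientGroup.mk x) := by
  rw [tiQ_mk, tiQ_mk]
  congr 1
  apply Subtype.ext
  show α x * α x = x * x
  rw [← map_mul, hα _ (hsq x)]

/-- **the class two case** -/
theorem ti_class_two [Finite P] (hP : IsPGroup 2 P)
    (hcl : ∀ x y : P, ⁅x, y⁆ ∈ Subgroup.center P)
    (hsq : ∀ x : P, x * x ∈ Subgroup.center P)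
    (hΩZ : ∀ x : P, x * x = 1 → x ∈ Subgroup.center P)
    (h4 : Nat.card {x : P // x * x = 1} ≤ 4) : Group.IsSolvable (MulAut P) := by
  have hZinv := ti_char_inv (Subgroup.center P)
  apply ti_solvable_of_ker_range (tiRes (Subgroup.center P) hZinv)
  swap
  · apply ti_solvable_subgroup
    apply ti_abelian (hP.to_subgroup _) (fun a b => mul_comm a b)
    refine le_trans ?_ h4
    apply Nat.card_le_card_of_injective
      (fun z : {x : Subgroup.center P // x * x = 1} =>
        (⟨(z.1 : P), congrArg Subtype.val z.2⟩ : {x : P // x * x = 1}))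
    intro a b hab
    have h7 := Subtype.ext_iff.mp hab
    exact Subtype.ext (Subtype.ext h7)
  · have hB1 : ∀ a : (tiRes (Subgroup.center P) hZinv).ker,
        ∀ z ∈ Subgroup.center P, a.1 z = z := by
      intro a z hz
      have := a.2
      rw [MonoidHom.mem_ker] at this
      exact congrArg (fun σ : MulAut (Subgroup.center P) =>
        ((σ ⟨z, hz⟩ : Subgroup.center P) : P)) this
    let ρ3 : (tiRes (Subgroup.center P) hZinv).ker →* MulAut (P ⧸ Subgroup.center P) :=
      (tiQuot (Subgroup.center P) hZinv).comp (Subgroup.subtype _)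
    apply ti_solvable_of_ker_range ρ3
    · apply Group.isSolvable_of_comm
      have hker : ∀ a : ρ3.ker, ∀ x : P, x⁻¹ * a.1.1 x ∈ Subgroup.center P := by
        intro a x
        have := a.2
        rw [MonoidHom.mem_ker] at this
        have h1 : (QuotientGroup.mk (a.1.1 x) : P ⧸ Subgroup.center P) = QuotientGroup.mk x :=
          congrArg (fun σ : MulAut (P ⧸ Subgroup.center P) => σ (QuotientGroup.mk x)) this
        exact QuotientGroup.eq.mp h1.symm
      intro a b
      apply Subtype.ext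
      apply Subtype.ext
      ext x
      show a.1.1 (b.1.1 x) = b.1.1 (a.1.1 x)
      have ha := hker a x
      have hb := hker b x
      have hac := Subgroup.mem_center_iff.mp ha
      have e1 : a.1.1 (b.1.1 x) = x * (x⁻¹ * a.1.1 x) * (x⁻¹ * b.1.1 x) := by
        calc a.1.1 (b.1.1 x) = a.1.1 (x * (x⁻¹ * b.1.1 x)) := by
              rw [mul_inv_cancel_left]
          _ = a.1.1 x * (x⁻¹ * b.1.1 x) := by rw [map_mul, hB1 a.1 _ hb]
          _ = x * (x⁻¹ * a.1.1 x) * (x⁻¹ * b.1.1 x) := by rw [mul_inv_cancel_left]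
      have e2 : b.1.1 (a.1.1 x) = x * (x⁻¹ * b.1.1 x) * (x⁻¹ * a.1.1 x) := by
        calc b.1.1 (a.1.1 x) = b.1.1 (x * (x⁻¹ * a.1.1 x)) := by
              rw [mul_inv_cancel_left]
          _ = b.1.1 x * (x⁻¹ * a.1.1 x) := by rw [map_mul, hB1 b.1 _ ha]
          _ = x * (x⁻¹ * b.1.1 x) * (x⁻¹ * a.1.1 x) := by rw [mul_inv_cancel_left]
      rw [e1, e2, mul_assoc x (x⁻¹ * a.1.1 x) (x⁻¹ * b.1.1 x),
        mul_assoc x (x⁻¹ * b.1.1 x) (x⁻¹ * a.1.1 x), hac (x⁻¹ * b.1.1 x)]
    · letI := tiWComm hcl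
      refine (ti_quad hcl hsq hΩZ).solvable (ti_card_T h4) ρ3.range ?_
      rintro _ ⟨a, rfl⟩ w
      induction w using QuotientGroup.induction_on with
      | H x => exact tiQ_inv hsq a.1 (hB1 a) x

end classtwo

end Cfsg.Agent.Lib.Helper18.ThreeInv
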