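import Mathlib
import Cfsg.Agent.Lib.Helper18.ThreeInvJ
import Cfsg.Agent.Lib.Helper1.Critical
import Cfsg.Agent.Lib.Helper5.PGroup

set_option autoImplicit false

/-! The three involutions theorem: a finite `2`-group with at most four solutions of `x * x = 1`
has a solvable automorphism group. -/

namespace Cfsg.Agent.Lib.Helper18.ThreeInv

open scoped commutatorElement

universe u

section main

variable {P : Type*} [Group P]

theorem ti_normal_of_inv (H : Subgroup P) (hinv : ∀ (α : MulAut P), ∀ s ∈ H, α s ∈ H) :
    H.Normal := by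
  constructor
  intro s hs g
  have := hinv (MulAut.conj g) s hs
  rwa [MulAut.conj_apply] at this

theorem ti_exists_central_invol [Finite P] (hP : IsPGroup 2 P) (hnt : Nontrivial P) :
    ∃ z : P, z ∈ Subgroup.center P ∧ z ≠ 1 ∧ z * z = 1 := by
  haveI : Fact (Nat.Prime 2) := ⟨Nat.prime_two⟩
  haveI := hP.center_nontrivial
  obtain ⟨k, hk⟩ := IsPGroup.iff_card.mp (hP.to_subgroup (Subgroup.center P))
  have h1 : 1 < Nat.card (Subgroup.center P) := Finite.one_lt_card
  have hk0 : k ≠ 0 := by
    rintro rfl
    rw [pow_zero] at hk
    omega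
  have hdvd : 2 ∣ Nat.card (Subgroup.center P) := by
    rw [hk]
    exact dvd_pow_self 2 hk0
  obtain ⟨x, hx⟩ := exists_prime_orderOf_dvd_card' 2 hdvd
  refine ⟨x.1, x.2, ?_, ?_⟩
  · intro h
    have : x = 1 := Subtype.ext h
    rw [this, orderOf_one] at hx
    omega
  · have := pow_orderOf_eq_one x
    rw [hx, pow_two] at this
    exact congrArg Subtype.val this

/-- involutions commute pairwise -/
theorem ti_invol_comm [Finite P] (hP : IsPGroup 2 P)
    (h4 : Nat.card {x : P // x * x = 1} ≤ 4) (s t : P) (hs : s * s = 1) (ht : t * t = 1) :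
    s * t = t * s := by
  classical
  by_contra hne
  have hs1 : s ≠ 1 := by
    rintro rfl
    exact hne (by rw [one_mul, mul_one])
  haveI : Nontrivial P := ⟨⟨s, 1, hs1⟩⟩
  obtain ⟨z, hzc, hz1, hzz⟩ := ti_exists_central_invol hP inferInstance
  have hzc' := Subgroup.mem_center_iff.mp hzc
  have h1z : (1 : P) ≠ z := fun h => hz1 h.symm
  have h1s : (1 : P) ≠ s := fun h => hs1 h.symm
  have h1t : (1 : P) ≠ t := by
    rintro rfl
    exact hne (by rw [one_mul, mul_one])
  have hzs : z ≠ s := by
    rintro rfl
    exact hne (hzc' t).symm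
  have hzt : z ≠ t := by
    rintro rfl
    exact hne (hzc' s)
  have h1sz : (1 : P) ≠ s * z := by
    intro h
    have : s = z := by
      have h2 : s * z = z * z := by rw [← h, hzz]
      exact mul_right_cancel h2
    exact hzs this.symm
  have hzsz : z ≠ s * z := by
    intro h
    exact hs1 (right_eq_mul.mp h)
  have hst : s ≠ t := by
    rintro rfl
    exact hne rfl
  have hssz : s ≠ s * z := by
    intro h
    exact hz1 (left_eq_mul.mp h)
  have htsz : t ≠ s * z := by
    rintro rfl
    apply hne
    rw [mul_assoc s z s, ← hzc' s]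
  haveI : Fintype P := Fintype.ofFinite P
  have hS : ({1, z, s, t, s * z} : Finset P).card = 5 := by
    rw [Finset.card_insert_of_notMem, Finset.card_insert_of_notMem,
      Finset.card_insert_of_notMem, Finset.card_insert_of_notMem, Finset.card_singleton]
    · simp only [Finset.mem_singleton]; exact htsz
    · simp only [Finset.mem_insert, Finset.mem_singleton, not_or]; exact ⟨hst, hssz⟩
    · simp only [Finset.mem_insert, Finset.mem_singleton, not_or]; exact ⟨hzs, hzt, hzsz⟩
    · simp only [Finset.mem_insert, Finset.mem_singleton, not_or]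
      exact ⟨h1z, h1s, h1t, h1sz⟩
  have hsub : ({1, z, s, t, s * z} : Finset P) ⊆ Finset.univ.filter (fun x : P => x * x = 1) := by
    intro x hx
    simp only [Finset.mem_insert, Finset.mem_singleton] at hx
    rw [Finset.mem_filter]
    refine ⟨Finset.mem_univ _, ?_⟩
    rcases hx with rfl | rfl | rfl | rfl | rfl
    · exact one_mul 1
    · exact hzz
    · exact hs
    · exact ht
    · rw [mul_assoc, ← mul_assoc z s z, ← hzc' s, mul_assoc, hzz, mul_one, hs]
  have hcard := Finset.card_le_card hsub
  rw [hS] at hcard
  have : (Finset.univ.filter (fun x : P => x * x = 1)).card = Nat.card {x : P // x * x = 1} := by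
    rw [Nat.card_eq_fintype_card, Fintype.card_subtype]
  omega

/-- **the main induction** -/
theorem ti_main : ∀ (n : ℕ) (P : Type u) [Group P] [Finite P], Nat.card P = n → IsPGroup 2 P →
    Nat.card {x : P // x * x = 1} ≤ 4 → Group.IsSolvable (MulAut P) := by
  intro n
  induction n using Nat.strong_induction_on with
  | _ n ih =>
    intro P _ _ hn hP h4
    haveI : Fact (Nat.Prime 2) := ⟨Nat.prime_two⟩
    have hred : ∀ H : Subgroup P, H ≠ ⊤ → (∀ (α : MulAut P), ∀ s ∈ H, α s ∈ H) →
        Subgroup.centralizer (H : Set P) ≤ H → Group.IsSolvable (MulAut P) := by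
      intro H hne hinv hcent
      apply ti_reduce hP H hinv (ti_normal_of_inv H hinv) hcent
      apply ih (Nat.card H) _ H rfl (hP.to_subgroup H)
      · refine le_trans ?_ h4
        apply Nat.card_le_card_of_injective
          (fun z : {x : H // x * x = 1} =>
            (⟨(z.1 : P), congrArg Subtype.val z.2⟩ : {x : P // x * x = 1}))
        intro a b hab
        have h7 := Subtype.ext_iff.mp hab
        exact Subtype.ext (Subtype.ext h7)
      · rw [← hn]
        apply lt_of_le_of_ne (Subgroup.card_le_card_group H)
        intro h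
        exact hne ((Subgroup.card_eq_iff_eq_top H).mp h)
    have hcomm := ti_invol_comm hP h4
    by_cases hC : Subgroup.centralizer {x : P | x * x = 1} = ⊤
    · have hΩZ : ∀ x : P, x * x = 1 → x ∈ Subgroup.center P := by
        intro x hx
        rw [Subgroup.mem_center_iff]
        intro g
        have hg : g ∈ Subgroup.centralizer {x : P | x * x = 1} := by
          rw [hC]; exact Subgroup.mem_top g
        exact ((Subgroup.mem_centralizer_iff.mp hg) x hx).symm
      obtain ⟨H, hchar, h1, h2, h3⟩ := Cfsg.Agent.Lib.Helper1.exists_critical hP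
      by_cases hH : H = ⊤
      · subst hH
        have hcl : ∀ x y : P, ⁅x, y⁆ ∈ Subgroup.center P := by
          intro x y
          have := h2 (Subgroup.commutator_mem_commutator (Subgroup.mem_top x) (Subgroup.mem_top y))
          have h5 := this.2
          rwa [Subgroup.coe_top, Subgroup.centralizer_univ] at h5
        have hsq : ∀ x : P, x * x ∈ Subgroup.center P := by
          intro x
          have h5 := Cfsg.Agent.Lib.Helper5.h5_pgroup_pow_mem_frattini
            (hP.to_subgroup (⊤ : Subgroup P)) ⟨x, Subgroup.mem_top x⟩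
          have h6 : x ^ 2 ∈ (frattini (⊤ : Subgroup P)).map (⊤ : Subgroup P).subtype :=
            ⟨_, h5, rfl⟩
          have h7 := h1 h6
          rwa [Subgroup.coe_top, Subgroup.centralizer_univ, pow_two] at h7
        exact ti_class_two hP hcl hsq hΩZ h4
      · exact hred H hH (@ti_char_inv _ _ H hchar) h3
    · apply hred _ hC
      · intro α g hg
        rw [Subgroup.mem_centralizer_iff] at hg ⊢
        intro s hs
        have hs' : α⁻¹ s ∈ {x : P | x * x = 1} := by
          show α⁻¹ s * α⁻¹ s = 1
          rw [← map_mul, hs, map_one]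
        have h5 := hg _ hs'
        have h6 := congrArg α h5
        rwa [map_mul, map_mul, MulAut.apply_inv_self] at h6
      · intro x hx
        rw [Subgroup.mem_centralizer_iff] at hx ⊢
        intro s hs
        apply hx
        rw [SetLike.mem_coe, Subgroup.mem_centralizer_iff]
        intro t ht
        exact hcomm t s ht hs

end main

end Cfsg.Agent.Lib.Helper18.ThreeInv
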