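import Cfsg.Agent.Lib.helper15.UD.Defs

set_option autoImplicit false
set_option linter.unusedVariables false
set_option linter.unusedSectionVars false

/-!
# UD / EPS (helper18): a norm-one element whose square is not one.
-/

namespace Cfsg.Agent.Lib.helper15.UD

open Matrix Cfsg.Agent.Lib.Helper28 Cfsg.Agent.Lib.Helper29.ExtrL

variable {n q : ℕ} {F : Type*} [Field F] [Fintype F] {σ : F ≃+* F}

/-- EPS [S] an element of norm one whose square is not one (`q + 1 ≥ 3`). -/
theorem exists_eps (hc : Ctx n q F σ) : ∃ ε : F, ε * σ ε = 1 ∧ ε * ε ≠ 1 := by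
  classical
  have hq2 := UHerm.two_le_q hc.card
  obtain ⟨g, hg⟩ := IsCyclic.exists_generator (α := Fˣ)
  have hord : orderOf g = q ^ 2 - 1 := by
    rw [orderOf_eq_card_of_forall_mem_zpowers hg, Nat.card_eq_fintype_card, Fintype.card_units, hc.card]
  have hfac : q ^ 2 - 1 = (q - 1) * (q + 1) := by
    obtain ⟨k, rfl⟩ : ∃ k, q = k + 1 := ⟨q - 1, by omega⟩
    simp only [Nat.add_sub_cancel]
    have : (k + 1) ^ 2 = k * (k + 1 + 1) + 1 := by ring
    rw [this, Nat.add_sub_cancel]
  refine ⟨((g ^ (q - 1) : Fˣ) : F), ?_, ?_⟩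
  · rw [hc.frob, ← pow_succ', ← Units.val_pow_eq_pow_val, ← pow_mul, ← hfac, ← hord, pow_orderOf_eq_one]
    rfl
  · intro h
    have h1 : g ^ ((q - 1) * 2) = 1 := by
      apply Units.ext
      rw [pow_mul, pow_two, Units.val_mul, h]
      rfl
    have h3 := orderOf_dvd_of_pow_eq_one h1
    rw [hord, hfac] at h3
    have h4 : q + 1 ∣ 2 := Nat.dvd_of_mul_dvd_mul_left (by omega) h3
    have := Nat.le_of_dvd (by norm_num) h4
    omega

end Cfsg.Agent.Lib.helper15.UD
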