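import Cfsg.Agent.Lib.Helper18.UTCMAINcore
import Cfsg.Agent.Lib.helper15.UTCL1
import Cfsg.Agent.Lib.helper8.UTCL2
import Cfsg.Agent.Lib.Helper19.UTCL6

/-!
# UT / CMAIN : `closure_main` verbatim (core in `Helper18.UTCMAINcore`; `cl1`, `cl2`, `cl6` from their rows)
-/

set_option autoImplicit false

open Cfsg

namespace Cfsg.Agent.Lib.Helper9.UT

open Matrix Cfsg.Agent.Lib.Helper29.ExtrL Cfsg.Agent.Lib.Helper28.UMax

variable {n q : ℕ} {F : Type*} [Field F] [Fintype F] {σ : F ≃+* F}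
  {M : Subgroup (Matrix.GeneralLinearGroup (Fin n) F)}

/-- CMAIN. `cl1`, `cl2`, `cl6`, `Helper28.UMax.XS_gen`. -/
theorem closure_main (S : UTS n q σ M) (hq : 3 ≤ q) (hn : 13 ≤ n) {y : Fin n → F}
    (hy : y ∈ XS (Cfsg.hermForm n F q) σ M) (hy0 : y ≠ 0) {j : Fin n} (hj : y j = 0) :
    SUg n F q ≤ M :=
  utcmain_core S hn (fun hy hy0 _ hj => cl1 S hq hy hy0 hj)
    (fun hv _ _ hii' hvi hvi' hvm => cl2 S (by omega) hv hii' hvi hvi' hvm)
    (fun hall2 => cl6 S hq (by omega) hall2) hy hy0 hj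

end Cfsg.Agent.Lib.Helper9.UT
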