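import Cfsg.Agent.Lib.Helper9.UT.Defs

/-!
# UT / CMAIN core (helper18): `closure_main` with the statements of `cl1`, `cl2`, `cl6` as hypotheses.
-/

set_option autoImplicit false

open Cfsg

namespace Cfsg.Agent.Lib.Helper9.UT

open Matrix Cfsg.Agent.Lib.Helper29.ExtrL Cfsg.Agent.Lib.Helper28.UMax

variable {n q : ℕ} {F : Type*} [Field F] [Fintype F] {σ : F ≃+* F}
  {M : Subgroup (Matrix.GeneralLinearGroup (Fin n) F)}

/-- CMAIN core: `cl1`, `cl2`, `cl6` (as hypotheses, for the given `M`), `Helper28.UMax.XS_gen`. -/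
theorem utcmain_core (S : UTS n q σ M) (hn : 13 ≤ n)
    (hcl1 : ∀ {y : Fin n → F}, y ∈ XS (Cfsg.hermForm n F q) σ M → y ≠ 0 → ∀ {j : Fin n}, y j = 0 →
      ∃ v ∈ XS (Cfsg.hermForm n F q) σ M, ∃ i i' : Fin n, i ≠ i' ∧ v i ≠ 0 ∧ v i' ≠ 0 ∧
        ∀ m, m ≠ i → m ≠ i' → v m = 0)
    (hcl2 : ∀ {v : Fin n → F}, v ∈ XS (Cfsg.hermForm n F q) σ M → ∀ {i i' : Fin n}, i ≠ i' → v i ≠ 0 →
      v i' ≠ 0 → (∀ m, m ≠ i → m ≠ i' → v m = 0) →
      ∀ (a b : Fin n) (α β : F), a ≠ b → α * σ α + β * σ β = 0 →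
        α • Pi.single a (1 : F) + β • Pi.single b (1 : F) ∈ XS (Cfsg.hermForm n F q) σ M)
    (hcl6 : (∀ (a b : Fin n) (α β : F), a ≠ b → α * σ α + β * σ β = 0 →
        α • Pi.single a (1 : F) + β • Pi.single b (1 : F) ∈ XS (Cfsg.hermForm n F q) σ M) →
      ∀ v : Fin n → F, Cfsg.hermForm n F q v v = 0 → v ∈ XS (Cfsg.hermForm n F q) σ M)
    {y : Fin n → F} (hy : y ∈ XS (Cfsg.hermForm n F q) σ M) (hy0 : y ≠ 0) {j : Fin n} (hj : y j = 0) :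
    SUg n F q ≤ M := by
  obtain ⟨v, hv, i, i', hii', hvi, hvi', hvm⟩ := hcl1 hy hy0 hj
  have hall2 := hcl2 hv hii' hvi hvi' hvm
  have hall := hcl6 hall2
  exact XS_gen S.hU (Or.inr (by omega)) M (SUg n F q) (fun g => Iff.rfl) hall

end Cfsg.Agent.Lib.Helper9.UT
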