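import Cfsg.Agent.Lib.Helper18.UTPUNIPQform
import Cfsg.Agent.Lib.Helper22.UTPBTV

/-!
# UTP / STAB (part 1): the map `μ` induced on the line, `μ` is a similitude (NTu)
-/

set_option autoImplicit false
set_option linter.unusedVariables false
set_option linter.unusedSectionVars false

namespace Cfsg.Agent.Lib.helper6.UTP

open Matrix
open scoped Kronecker
open Cfsg.Agent.Lib.helper7.TP

variable {F : Type*} [Field F] {a b : ℕ}

/-- the contraction `ctr ψ` as a linear map. -/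
def utpstab18CtrL (ψ : Fin b → F) : (Fin a × Fin b → F) →ₗ[F] (Fin a → F) where
  toFun := ctr ψ
  map_add' := ctr_add ψ
  map_smul' c v := ctr_smul ψ c v

@[simp] theorem utpstab18CtrL_apply (ψ : Fin b → F) (v : Fin a × Fin b → F) :
    utpstab18CtrL (a := a) ψ v = ctr ψ v := rfl

/-- a unipotent matrix (`N³ = 0`) has determinant one. -/
theorem utpstab18_det_unipotent {ι : Type} [Fintype ι] [DecidableEq ι] (N : Matrix ι ι F)
    (hN : N * N * N = 0) : (1 + N).det = 1 := by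
  have hnil : IsNilpotent (-N) := by
    refine ⟨3, ?_⟩
    have : (-N) ^ 3 = -(N * N * N) := by
      rw [pow_succ, pow_two]
      simp
    rw [this, hN, neg_zero]
  have h1 := Matrix.isNilpotent_charpoly_sub_pow_of_isNilpotent hnil
  have h2 : (-N).charpoly = Polynomial.X ^ Fintype.card ι := by
    have := h1.eq_zero
    exact sub_eq_zero.1 this
  have h3 := Matrix.eval_charpoly (-N) (1 : F)
  rw [h2, Polynomial.eval_pow, Polynomial.eval_X, one_pow, map_one, sub_neg_eq_add] at h3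
  exact h3.symm

/-- the map `μ` induced by `g` from the line `A ⊗ w` to the line `A ⊗ w'`. -/
theorem utpstab18_mu (σ : F ≃+* F) (hσ : Inv2 σ) (w w' w₂ : Fin b → F) (hw : w ≠ 0)
    (hw2' : hf σ w' w₂ = 1) (g : Matrix.GeneralLinearGroup (Fin a × Fin b) F)
    (hl : ∀ u : Fin a → F, ∃ u' : Fin a → F,
      (g : Matrix (Fin a × Fin b) (Fin a × Fin b) F) *ᵥ ten u w = ten u' w') :
    ∃ μ : (Fin a → F) →ₗ[F] (Fin a → F),
      (∀ u, (g : Matrix (Fin a × Fin b) (Fin a × Fin b) F) *ᵥ ten u w = ten (μ u) w') ∧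
      Function.Injective μ ∧ Function.Surjective μ := by
  let μ : (Fin a → F) →ₗ[F] (Fin a → F) :=
    utpstab18CtrL (cj σ w₂) ∘ₗ (g : Matrix (Fin a × Fin b) (Fin a × Fin b) F).mulVecLin ∘ₗ
      tpunipTenL w
  have hμ : ∀ u, (g : Matrix (Fin a × Fin b) (Fin a × Fin b) F) *ᵥ ten u w = ten (μ u) w' := by
    intro u
    obtain ⟨u', hu'⟩ := hl u
    have : μ u = u' := by
      change ctr (cj σ w₂) ((g : Matrix (Fin a × Fin b) (Fin a × Fin b) F) *ᵥ ten u w) = u'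
      rw [hu', ctr_cj_ten, hw2', one_smul]
    rw [this, hu']
  have hinj : Function.Injective μ := by
    rw [← LinearMap.ker_eq_bot, LinearMap.ker_eq_bot']
    intro u hu
    have h1 := hμ u
    rw [hu, utpunipq_ten_zero_left] at h1
    have h2 := utpxsapi_inv_mv g (ten u w)
    rw [h1, Matrix.mulVec_zero] at h2
    exact tpunip_ten_eq_zero hw h2.symm
  exact ⟨μ, hμ, hinj, LinearMap.injective_iff_surjective.1 hinj⟩

/-- `μ` is a similitude (from `NTu`). -/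
theorem utpstab18_simil (σ : F ≃+* F) (hσ : Inv2 σ) (ha : 1 ≤ a)
    (M : Subgroup (Matrix.GeneralLinearGroup (Fin a × Fin b) F)) (hTM : T0u σ a b ≤ M)
    (hMS : M ≤ SUm σ (Fin a × Fin b)) (hNT : NTu σ M)
    (w w₂ : Fin b → F) (hw : w ≠ 0) (h : cj σ w ⬝ᵥ w = 0) (hw2 : hf σ w₂ w = 1)
    (g : Matrix.GeneralLinearGroup (Fin a × Fin b) F) (hg : g ∈ M)
    (μ : (Fin a → F) →ₗ[F] (Fin a → F))
    (hμ : ∀ u, (g : Matrix (Fin a × Fin b) (Fin a × Fin b) F) *ᵥ ten u w = ten (μ u) w)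
    (hμi : Function.Injective μ) (hμs : Function.Surjective μ) :
    ∃ l₀ : F, l₀ ≠ 0 ∧ σ l₀ = l₀ ∧ ∀ u u' : Fin a → F, hf σ (μ u) (μ u') = l₀ * hf σ u u' := by
  classical
  have hgU : ∀ x y, hf σ ((g : Matrix (Fin a × Fin b) (Fin a × Fin b) F) *ᵥ x)
      ((g : Matrix (Fin a × Fin b) (Fin a × Fin b) F) *ᵥ y) = hf σ x y :=
    (mem_GUm σ g).1 (hMS hg).1
  -- a non-zero skew scalar
  obtain ⟨x₀, hx₀⟩ := hσ.moved
  obtain ⟨c, hcdef⟩ : ∃ c : F, c = x₀ - σ x₀ := ⟨_, rfl⟩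
  have hc0 : c ≠ 0 := by
    rw [hcdef]
    exact fun h0 => hx₀ (sub_eq_zero.mp h0).symm
  have hc : σ c = -c := by
    rw [hcdef, map_sub, hσ.invol]
    ring
  have htM : EL (c • (1 : Matrix (Fin a) (Fin a) F)) w (cj σ w) h ∈ M :=
    hTM (btv_mem σ hσ c hc w h)
  obtain ⟨Gi, hGi⟩ : ∃ Gi : Matrix (Fin a × Fin b) (Fin a × Fin b) F,
      Gi = ((g⁻¹ : Matrix.GeneralLinearGroup (Fin a × Fin b) F) :
        Matrix (Fin a × Fin b) (Fin a × Fin b) F) := ⟨_, rfl⟩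
  have hGGi : ∀ v, (g : Matrix (Fin a × Fin b) (Fin a × Fin b) F) *ᵥ (Gi *ᵥ v) = v := by
    intro v
    rw [hGi, Matrix.mulVec_mulVec, ← Units.val_mul, mul_inv_cancel, Units.val_one,
      Matrix.one_mulVec]
  -- the adjoint relation
  have hadj : ∀ (v : Fin a × Fin b → F) (u' : Fin a → F),
      hf σ (ctr (cj σ w) (Gi *ᵥ v)) u' = hf σ (ctr (cj σ w) v) (μ u') := by
    intro v u'
    rw [← hf_ten_right, ← hf_ten_right, ← hgU (Gi *ᵥ v) (ten u' w), hGGi, hμ]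
  let θ : (Fin a → F) →ₗ[F] (Fin a → F) :=
    utpstab18CtrL (cj σ w) ∘ₗ Gi.mulVecLin ∘ₗ tpunipTenL w₂
  have hθ : ∀ x, θ x = ctr (cj σ w) (Gi *ᵥ ten x w₂) := fun x => rfl
  have hadjθ : ∀ x u' : Fin a → F, hf σ (θ x) u' = hf σ x (μ u') := by
    intro x u'
    rw [hθ, hadj, ctr_cj_ten, hw2, one_smul]
  have hθall : ∀ v : Fin a × Fin b → F, ctr (cj σ w) (Gi *ᵥ v) = θ (ctr (cj σ w) v) := by
    intro v
    rw [← sub_eq_zero]
    apply hf_nondeg' σ hσ
    intro u'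
    rw [hf_sub_left, hadj, hadjθ, sub_self]
  -- the conjugate of the `B`-transvection
  let ζ : Matrix (Fin a) (Fin a) F := LinearMap.toMatrix' (c • (μ ∘ₗ θ))
  have hζ : ∀ u, ζ *ᵥ u = c • μ (θ u) := by
    intro u
    rw [LinearMap.toMatrix'_mulVec]
    rfl
  have ht'M : g * EL (c • (1 : Matrix (Fin a) (Fin a) F)) w (cj σ w) h * g⁻¹ ∈ M :=
    M.mul_mem (M.mul_mem hg htM) (M.inv_mem hg)
  have ht'mat : ((g * EL (c • (1 : Matrix (Fin a) (Fin a) F)) w (cj σ w) h * g⁻¹ :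
      Matrix.GeneralLinearGroup (Fin a × Fin b) F) :
        Matrix (Fin a × Fin b) (Fin a × Fin b) F) = ELm ζ w (cj σ w) := by
    rw [Matrix.ext_iff_mulVec]
    intro v
    rw [Units.val_mul, Units.val_mul, EL_coe, ← hGi, ← Matrix.mulVec_mulVec, ← Matrix.mulVec_mulVec,
      ELm_mulVec, ELm_mulVec, Matrix.mulVec_add, hGGi, hμ, hθall, hζ, Matrix.smul_mulVec,
      Matrix.one_mulVec, map_smul]
  have hLam : LamEu σ M ζ := ⟨w, _, hw, h, ht'mat, ht'M⟩
  obtain ⟨c', hc'⟩ := hNT ζ hLam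
  have hμθ : ∀ u, μ (θ u) = (c' / c) • u := by
    intro u
    have e := hζ u
    rw [hc', Matrix.smul_mulVec, Matrix.one_mulVec] at e
    rw [div_eq_inv_mul, mul_smul, e, smul_smul, inv_mul_cancel₀ hc0, one_smul]
  have hθμ : ∀ x, θ (μ x) = (c' / c) • x := by
    intro x
    apply hμi
    rw [hμθ, map_smul]
  have hsim : ∀ u u' : Fin a → F, hf σ (μ u) (μ u') = (c' / c) * hf σ u u' := by
    intro u u'
    rw [← hadjθ, hθμ, hf_smul_left]
  -- the unit vector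
  let i₀ : Fin a := ⟨0, by omega⟩
  have he₀ : hf σ (Pi.single i₀ (1 : F)) (Pi.single i₀ (1 : F)) = 1 := by
    simp [hf, cj, single_dotProduct]
  have hl₀ : c' / c = hf σ (μ (Pi.single i₀ (1 : F))) (μ (Pi.single i₀ (1 : F))) := by
    rw [hsim, he₀, mul_one]
  refine ⟨c' / c, ?_, ?_, hsim⟩
  · intro h0
    have h1 : μ (Pi.single i₀ (1 : F)) = 0 := by
      apply hf_nondeg' σ hσ
      intro y
      obtain ⟨u', rfl⟩ := hμs y
      rw [hsim, h0, zero_mul]
    have h2 : (Pi.single i₀ (1 : F) : Fin a → F) = 0 := hμi (by rw [h1, map_zero])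
    have h3 := congrFun h2 i₀
    simp at h3
  · rw [hl₀]
    exact (hf_herm σ hσ _ _).symm

end Cfsg.Agent.Lib.helper6.UTP
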