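import Cfsg.Agent.Lib.Helper18.UTPSTABa

/-!
# UTP / STAB (part 2): `g` normalises `M ∩ U_L`; structure of `g` on `L^⊥ / L`
-/

set_option autoImplicit false
set_option linter.unusedVariables false
set_option linter.unusedSectionVars false

namespace Cfsg.Agent.Lib.helper6.UTP

open Matrix
open scoped Kronecker
open Cfsg.Agent.Lib.helper7.TP

variable {F : Type*} [Field F] {a b : ℕ}

/-- for `n ⊥ w` there is `n' ⊥ w` with `g (u ⊗ n) ≡ (l₀⁻¹ μ u) ⊗ n'` modulo `A ⊗ w`. -/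
theorem utpstab18_struct (σ : F ≃+* F) (hσ : Inv2 σ) (ha : 1 ≤ a)
    (M : Subgroup (Matrix.GeneralLinearGroup (Fin a × Fin b) F)) (hTM : T0u σ a b ≤ M)
    (hMS : M ≤ SUm σ (Fin a × Fin b)) (hNT : NTu σ M)
    (w w₂ : Fin b → F) (hw : w ≠ 0) (h : cj σ w ⬝ᵥ w = 0) (hw2 : hf σ w₂ w = 1)
    (g : Matrix.GeneralLinearGroup (Fin a × Fin b) F) (hg : g ∈ M)
    (μ : (Fin a → F) →ₗ[F] (Fin a → F))
    (hμ : ∀ u, (g : Matrix (Fin a × Fin b) (Fin a × Fin b) F) *ᵥ ten u w = ten (μ u) w)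
    (hμs : Function.Surjective μ) (l₀ : F) (hl0 : l₀ ≠ 0) (hl₀σ : σ l₀ = l₀)
    (hsim : ∀ u u' : Fin a → F, hf σ (μ u) (μ u') = l₀ * hf σ u u')
    (n : Fin b → F) (hn : hf σ n w = 0) :
    ∃ n' : Fin b → F, hf σ n' w = 0 ∧ ∀ u : Fin a → F,
      (g : Matrix (Fin a × Fin b) (Fin a × Fin b) F) *ᵥ ten u n - ten (l₀⁻¹ • μ u) n' ∈
        Bline (a := a) w := by
  have hw0 : hf σ w w = 0 := (iso_iff σ w).1 h
  have hw2' : hf σ w w₂ = 1 := by rw [hf_herm σ hσ, hw2, map_one]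
  have hwn : hf σ w n = 0 := by rw [hf_herm σ hσ, hn, map_zero]
  have hgU : ∀ x y, hf σ ((g : Matrix (Fin a × Fin b) (Fin a × Fin b) F) *ᵥ x)
      ((g : Matrix (Fin a × Fin b) (Fin a × Fin b) F) *ᵥ y) = hf σ x y :=
    (mem_GUm σ g).1 (hMS hg).1
  obtain ⟨G, hG⟩ : ∃ G : Matrix (Fin a × Fin b) (Fin a × Fin b) F,
      G = (g : Matrix (Fin a × Fin b) (Fin a × Fin b) F) := ⟨_, rfl⟩
  obtain ⟨Gi, hGi⟩ : ∃ Gi : Matrix (Fin a × Fin b) (Fin a × Fin b) F,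
      Gi = ((g⁻¹ : Matrix.GeneralLinearGroup (Fin a × Fin b) F) :
        Matrix (Fin a × Fin b) (Fin a × Fin b) F) := ⟨_, rfl⟩
  rw [← hG] at hgU hμ
  have hGGi : ∀ v, G *ᵥ (Gi *ᵥ v) = v := by
    intro v
    rw [hG, hGi, Matrix.mulVec_mulVec, ← Units.val_mul, mul_inv_cancel, Units.val_one,
      Matrix.one_mulVec]
  have hGiG : ∀ v, Gi *ᵥ (G *ᵥ v) = v := by
    intro v
    rw [hG, hGi, Matrix.mulVec_mulVec, ← Units.val_mul, inv_mul_cancel, Units.val_one,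
      Matrix.one_mulVec]
  have hadj : ∀ (v : Fin a × Fin b → F) (u' : Fin a → F),
      hf σ (ctr (cj σ w) (Gi *ᵥ v)) u' = hf σ (ctr (cj σ w) v) (μ u') := by
    intro v u'
    rw [← hf_ten_right, ← hf_ten_right, ← hgU (Gi *ᵥ v) (ten u' w), hGGi, hμ]
  have hGiperp : ∀ v : Fin a × Fin b → F, ctr (cj σ w) v = 0 → ctr (cj σ w) (Gi *ᵥ v) = 0 := by
    intro v hv
    apply hf_nondeg' σ hσ
    intro u'
    rw [hadj, hv, hf_zero_left]
  have hGperp : ∀ v : Fin a × Fin b → F, ctr (cj σ w) v = 0 → ctr (cj σ w) (G *ᵥ v) = 0 := by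
    intro v hv
    apply hf_nondeg' σ hσ
    intro u'
    obtain ⟨u₀, rfl⟩ := hμs u'
    rw [← hf_ten_right, ← hμ, hgU, hf_ten_right, hv, hf_zero_left]
  -- the Siegel element
  obtain ⟨s, S, κ, hsU, hsd, hSm, hSact⟩ := utpunipq_ksiegel (a := a) σ hσ w n hw0 hn
  have hSM : S ∈ M := hTM (kron_mem σ hσ 1 s (Subgroup.one_mem _) hsU
    (by rw [hsd, Units.val_one, Matrix.det_one, one_pow, one_pow, one_mul]) S
    (by rw [hSm, Units.val_one]))
  obtain ⟨Sm, hSmdef⟩ : ∃ Sm : Matrix (Fin a × Fin b) (Fin a × Fin b) F,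
      Sm = (S : Matrix (Fin a × Fin b) (Fin a × Fin b) F) := ⟨_, rfl⟩
  rw [← hSmdef] at hSact
  have hSw : ∀ u : Fin a → F, Sm *ᵥ ten u w = ten u w := by
    intro u
    rw [hSact, ctr_cj_ten, ctr_cj_ten, hw0, hwn, zero_smul]
    simp only [utpunipq_ten_zero_left, smul_zero, add_zero, sub_zero]
  have hSy : ∀ (u : Fin a → F) (y : Fin b → F), hf σ y w = 0 →
      Sm *ᵥ ten u y = ten u y - hf σ y n • ten u w := by
    intro u y hy
    rw [hSact, ctr_cj_ten, ctr_cj_ten, hy, zero_smul, ten_smul_left]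
    simp only [utpunipq_ten_zero_left, smul_zero, add_zero]
  have hS0 : ∀ v : Fin a × Fin b → F, ctr (cj σ w) v = 0 →
      Sm *ᵥ v = v - ten (ctr (cj σ n) v) w := by
    intro v hv
    rw [hSact, hv]
    simp only [utpunipq_ten_zero_left, smul_zero, add_zero]
  -- the conjugate `x' = g S g⁻¹`
  have hx'M : g * S * g⁻¹ ∈ M := M.mul_mem (M.mul_mem hg hSM) (M.inv_mem hg)
  have hx' : ∀ v, ((g * S * g⁻¹ : Matrix.GeneralLinearGroup (Fin a × Fin b) F) :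
      Matrix (Fin a × Fin b) (Fin a × Fin b) F) *ᵥ v = G *ᵥ (Sm *ᵥ (Gi *ᵥ v)) := by
    intro v
    rw [Units.val_mul, Units.val_mul, ← hG, ← hGi, ← hSmdef, ← Matrix.mulVec_mulVec,
      ← Matrix.mulVec_mulVec]
  have h1' : ∀ u : Fin a → F, ((g * S * g⁻¹ : Matrix.GeneralLinearGroup (Fin a × Fin b) F) :
      Matrix (Fin a × Fin b) (Fin a × Fin b) F) *ᵥ ten u w = ten u w := by
    intro u
    obtain ⟨u₀, rfl⟩ := hμs u
    rw [hx', ← hμ, hGiG, hSw]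
  have h2' : ∀ (u : Fin a → F) (y : Fin b → F), hf σ y w = 0 →
      ((g * S * g⁻¹ : Matrix.GeneralLinearGroup (Fin a × Fin b) F) :
        Matrix (Fin a × Fin b) (Fin a × Fin b) F) *ᵥ ten u y - ten u y ∈ Bline (a := a) w := by
    intro u y hy
    have hv0 : ctr (cj σ w) (Gi *ᵥ ten u y) = 0 := by
      apply hGiperp
      rw [ctr_cj_ten, hy, zero_smul]
    rw [hx', hS0 _ hv0, Matrix.mulVec_sub, hGGi, hμ]
    refine ⟨-μ (ctr (cj σ n) (Gi *ᵥ ten u y)), ?_⟩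
    rw [utpunipq_ten_neg_left]
    abel
  obtain ⟨n', κ', hn'w, hx'form⟩ :=
    utpunipq_shape σ hσ ha M hTM hMS hNT w hw h _ hx'M h1' h2'
  have hstar : ∀ (u : Fin a → F) (y : Fin b → F), hf σ y w = 0 →
      ctr (cj σ n') (G *ᵥ ten u y) = hf σ y n • μ u := by
    intro u y hy
    have hv1 : ctr (cj σ w) (G *ᵥ ten u y) = 0 := by
      apply hGperp
      rw [ctr_cj_ten, hy, zero_smul]
    have e1 := hx'form (G *ᵥ ten u y)
    rw [hx', hGiG, hSy u y hy, Matrix.mulVec_sub, Matrix.mulVec_smul, hμ, hv1] at e1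
    simp only [utpunipq_ten_zero_left, smul_zero, add_zero] at e1
    have e2 : ten (ctr (cj σ n') (G *ᵥ ten u y)) w = ten (hf σ y n • μ u) w := by
      rw [ten_smul_left]
      have e3 := sub_right_injective e1
      exact e3.symm
    have e3 := congrArg (ctr (cj σ w₂)) e2
    rw [ctr_cj_ten, ctr_cj_ten, hw2', one_smul, one_smul] at e3
    exact e3
  refine ⟨n', hn'w, fun u => ?_⟩
  rw [← hG]
  have hGiv : Gi *ᵥ (G *ᵥ ten u n - ten (l₀⁻¹ • μ u) n') ∈ Bline (a := a) w := by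
    apply utpunipq_dperp σ hσ w w₂ hw2
    intro u₁ y₁ hy₁
    have e1 : σ (hf σ y₁ n) = hf σ n y₁ := (hf_herm σ hσ n y₁).symm
    have e2 : σ (hf σ u₁ u) = hf σ u u₁ := (hf_herm σ hσ u u₁).symm
    rw [← hgU, hGGi, hf_sub_left, hgU, hf_ten, hf_herm σ hσ (ten (l₀⁻¹ • μ u) n'), hf_ten_right,
      hstar u₁ y₁ hy₁, hf_smul_left, hf_smul_right, hsim]
    simp only [map_mul, map_inv₀, hl₀σ, e1, e2]
    field_simp
    ring
  obtain ⟨z, hz⟩ := hGiv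
  refine ⟨μ z, ?_⟩
  rw [← hμ, ← hz, hGGi]

end Cfsg.Agent.Lib.helper6.UTP
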