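import Cfsg.Agent.Lib.Helper18.UTPSTABb

/-!
# UTP / STAB (part 3): the linear map `β_d` induced on `w^⊥`
-/

set_option autoImplicit false
set_option linter.unusedVariables false
set_option linter.unusedSectionVars false

namespace Cfsg.Agent.Lib.helper6.UTP

open Matrix
open scoped Kronecker
open Cfsg.Agent.Lib.helper7.TP

variable {F : Type*} [Field F] {a b : ℕ}

/-- the contraction on the `A` side, `(u ⊗ y) ↦ (φ · u) • y`, as a linear map. -/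
def utpstab18CtrA (φ : Fin a → F) : (Fin a × Fin b → F) →ₗ[F] (Fin b → F) where
  toFun v := fun j => ∑ i, v (i, j) * φ i
  map_add' v v' := by
    funext j
    simp [add_mul, Finset.sum_add_distrib]
  map_smul' c v := by
    funext j
    simp [Finset.mul_sum, mul_assoc]

theorem utpstab18CtrA_ten (σ : F ≃+* F) (x u : Fin a → F) (y : Fin b → F) :
    utpstab18CtrA (b := b) (cj σ x) (ten u y) = hf σ u x • y := by
  funext j
  change ∑ i, ten u y (i, j) * cj σ x i = (hf σ u x • y) j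
  simp only [ten, cj, Pi.smul_apply, smul_eq_mul, hf, dotProduct]
  rw [Finset.sum_mul]
  apply Finset.sum_congr rfl
  intro i _
  ring

/-- the linear map `β_d` with `g (u ⊗ y) ≡ (l₀⁻¹ μ u) ⊗ β_d y` modulo `A ⊗ w` for `y ⊥ w`. -/
theorem utpstab18_betad (σ : F ≃+* F) (hσ : Inv2 σ) (ha : 1 ≤ a)
    (M : Subgroup (Matrix.GeneralLinearGroup (Fin a × Fin b) F)) (hTM : T0u σ a b ≤ M)
    (hMS : M ≤ SUm σ (Fin a × Fin b)) (hNT : NTu σ M)
    (w w₂ : Fin b → F) (hw : w ≠ 0) (h : cj σ w ⬝ᵥ w = 0) (hw2 : hf σ w₂ w = 1)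
    (g : Matrix.GeneralLinearGroup (Fin a × Fin b) F) (hg : g ∈ M)
    (μ : (Fin a → F) →ₗ[F] (Fin a → F))
    (hμ : ∀ u, (g : Matrix (Fin a × Fin b) (Fin a × Fin b) F) *ᵥ ten u w = ten (μ u) w)
    (hμs : Function.Surjective μ) (l₀ : F) (hl0 : l₀ ≠ 0) (hl₀σ : σ l₀ = l₀)
    (hsim : ∀ u u' : Fin a → F, hf σ (μ u) (μ u') = l₀ * hf σ u u') :
    ∃ βd : (Fin b → F) →ₗ[F] (Fin b → F), βd w = l₀ • w ∧
      (∀ y, hf σ y w = 0 → hf σ (βd y) w = 0) ∧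
      (∀ y, hf σ y w = 0 → ∀ u : Fin a → F,
        (g : Matrix (Fin a × Fin b) (Fin a × Fin b) F) *ᵥ ten u y - ten (l₀⁻¹ • μ u) (βd y) ∈
          Bline (a := a) w) ∧
      (∀ y y', hf σ y w = 0 → hf σ y' w = 0 → hf σ (βd y) (βd y') = l₀ * hf σ y y') := by
  classical
  have hw0 : hf σ w w = 0 := (iso_iff σ w).1 h
  have hgU : ∀ x y, hf σ ((g : Matrix (Fin a × Fin b) (Fin a × Fin b) F) *ᵥ x)
      ((g : Matrix (Fin a × Fin b) (Fin a × Fin b) F) *ᵥ y) = hf σ x y :=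
    (mem_GUm σ g).1 (hMS hg).1
  let i₀ : Fin a := ⟨0, by omega⟩
  obtain ⟨e₀, he₀def⟩ : ∃ e₀ : Fin a → F, e₀ = Pi.single i₀ (1 : F) := ⟨_, rfl⟩
  have he₀ : hf σ e₀ e₀ = 1 := by
    rw [he₀def]
    simp [hf, cj, single_dotProduct]
  have hμe : hf σ (μ e₀) (μ e₀) = l₀ := by rw [hsim, he₀, mul_one]
  let βd : (Fin b → F) →ₗ[F] (Fin b → F) :=
    utpstab18CtrA (cj σ (μ e₀)) ∘ₗ (g : Matrix (Fin a × Fin b) (Fin a × Fin b) F).mulVecLin ∘ₗ
      tpunipTenR e₀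
  have hβd : ∀ y, βd y = utpstab18CtrA (cj σ (μ e₀))
      ((g : Matrix (Fin a × Fin b) (Fin a × Fin b) F) *ᵥ ten e₀ y) := fun y => rfl
  have hstruct := fun (n : Fin b → F) (hn : hf σ n w = 0) =>
    utpstab18_struct σ hσ ha M hTM hMS hNT w w₂ hw h hw2 g hg μ hμ hμs l₀ hl0 hl₀σ hsim n hn
  -- the key relation between `β_d y` and the `n'` of `utpstab18_struct`
  have key : ∀ y, hf σ y w = 0 → ∃ (n' : Fin b → F) (c₁ : F), hf σ n' w = 0 ∧
      βd y = n' + c₁ • w ∧ ∀ u : Fin a → F,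
        (g : Matrix (Fin a × Fin b) (Fin a × Fin b) F) *ᵥ ten u y - ten (l₀⁻¹ • μ u) n' ∈
          Bline (a := a) w := by
    intro y hy
    obtain ⟨n', hn'w, hn'⟩ := hstruct y hy
    obtain ⟨z, hz⟩ := hn' e₀
    refine ⟨n', hf σ z (μ e₀), hn'w, ?_, hn'⟩
    have e : (g : Matrix (Fin a × Fin b) (Fin a × Fin b) F) *ᵥ ten e₀ y =
        ten (l₀⁻¹ • μ e₀) n' + ten z w := by
      rw [← hz]; abel
    rw [hβd, e, map_add, utpstab18CtrA_ten, utpstab18CtrA_ten, hf_smul_left, hμe, inv_mul_cancel₀ hl0,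
      one_smul]
  have hE2 : ∀ y, hf σ y w = 0 → hf σ (βd y) w = 0 := by
    intro y hy
    obtain ⟨n', c₁, hn'w, hb, _⟩ := key y hy
    rw [hb, hf_add_left, hf_smul_left, hn'w, hw0, mul_zero, add_zero]
  have hE3 : ∀ y, hf σ y w = 0 → ∀ u : Fin a → F,
      (g : Matrix (Fin a × Fin b) (Fin a × Fin b) F) *ᵥ ten u y - ten (l₀⁻¹ • μ u) (βd y) ∈
        Bline (a := a) w := by
    intro y hy u
    obtain ⟨n', c₁, hn'w, hb, hn'⟩ := key y hy
    obtain ⟨z, hz⟩ := hn' u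
    obtain ⟨m, hm⟩ : ∃ m : Fin a → F, m = l₀⁻¹ • μ u := ⟨_, rfl⟩
    rw [← hm] at hz ⊢
    refine ⟨z - c₁ • m, ?_⟩
    rw [hb, ten_add_right, ten_smul_right, utpunipq_ten_sub_left, ten_smul_left c₁ m w, ← hz]
    abel
  refine ⟨βd, ?_, hE2, hE3, ?_⟩
  · rw [hβd, hμ, utpstab18CtrA_ten, hμe]
  · intro y y' hy hy'
    obtain ⟨z, hz⟩ := hE3 y hy e₀
    obtain ⟨z', hz'⟩ := hE3 y' hy' e₀
    have e : (g : Matrix (Fin a × Fin b) (Fin a × Fin b) F) *ᵥ ten e₀ y =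
        ten (l₀⁻¹ • μ e₀) (βd y) + ten z w := by
      rw [← hz]; abel
    have e' : (g : Matrix (Fin a × Fin b) (Fin a × Fin b) F) *ᵥ ten e₀ y' =
        ten (l₀⁻¹ • μ e₀) (βd y') + ten z' w := by
      rw [← hz']; abel
    have e1 := hgU (ten e₀ y) (ten e₀ y')
    have hwy' : hf σ w (βd y') = 0 := by rw [hf_herm σ hσ, hE2 y' hy', map_zero]
    have hmm : hf σ (l₀⁻¹ • μ e₀) (l₀⁻¹ • μ e₀) = l₀⁻¹ := by
      rw [hf_smul_left, hf_smul_right, hμe, map_inv₀, hl₀σ]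
      field_simp
    rw [e, e'] at e1
    simp only [hf_add_left, hf_add_right, hf_ten, hE2 y hy, hwy', hw0, he₀, hmm, mul_zero,
      add_zero, one_mul] at e1
    rw [← e1]
    field_simp

end Cfsg.Agent.Lib.helper6.UTP
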