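import Cfsg.Agent.Lib.Helper18.UTPSTABc

/-!
# UTP / STAB (part 4): the Levi element `β` of `GU_b`
-/

set_option autoImplicit false
set_option linter.unusedVariables false
set_option linter.unusedSectionVars false

namespace Cfsg.Agent.Lib.helper6.UTP

open Matrix
open scoped Kronecker
open Cfsg.Agent.Lib.helper7.TP

variable {F : Type*} [Field F] {a b : ℕ}

/-- the linear functional `y ↦ hf y x`. -/
def utpstab18HfL (σ : F ≃+* F) {ι : Type} [Fintype ι] (x : ι → F) : (ι → F) →ₗ[F] F where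
  toFun y := hf σ y x
  map_add' y y' := hf_add_left σ y y' x
  map_smul' c y := hf_smul_left σ c y x

/-- a matrix preserving the form is invertible. -/
theorem utpstab18_det_ne_zero (σ : F ≃+* F) (hσ : Inv2 σ) {ι : Type} [Fintype ι] [DecidableEq ι]
    (A : Matrix ι ι F) (hA : ∀ x y, hf σ (A *ᵥ x) (A *ᵥ y) = hf σ x y) : A.det ≠ 0 := by
  intro h0
  obtain ⟨v, hv0, hv⟩ := Matrix.exists_mulVec_eq_zero_iff.2 h0
  apply hv0
  apply hf_nondeg' σ hσ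
  intro y
  rw [← hA, hv, hf_zero_left]

/-- the Levi element: an isometry `β` of `B` with `β w = ν⁻¹ w` inducing `(ν l₀)⁻¹ β_d` on `w^⊥ / w`. -/
theorem utpstab18_levi (σ : F ≃+* F) (hσ : Inv2 σ) (w w₂ : Fin b → F) (hw0 : hf σ w w = 0)
    (hw20 : hf σ w₂ w₂ = 0) (hw2 : hf σ w₂ w = 1)
    (βd : (Fin b → F) →ₗ[F] (Fin b → F)) (l₀ ν : F) (hl0 : l₀ ≠ 0) (hl₀σ : σ l₀ = l₀)
    (hν : ν * σ ν = l₀⁻¹) (hβw : βd w = l₀ • w)
    (hE2 : ∀ y, hf σ y w = 0 → hf σ (βd y) w = 0)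
    (hE4 : ∀ y y', hf σ y w = 0 → hf σ y' w = 0 → hf σ (βd y) (βd y') = l₀ * hf σ y y') :
    ∃ β : Matrix.GeneralLinearGroup (Fin b) F, β ∈ GUm σ (Fin b) ∧
      (β : Matrix (Fin b) (Fin b) F) *ᵥ w = ν⁻¹ • w ∧
      ∀ y, hf σ y w = 0 → ∃ c₃ : F,
        (β : Matrix (Fin b) (Fin b) F) *ᵥ y = (ν * l₀)⁻¹ • βd y + c₃ • w := by
  have hw2' : hf σ w w₂ = 1 := by rw [hf_herm σ hσ, hw2, map_one]
  have hν0 : ν ≠ 0 := by
    rintro rfl
    rw [zero_mul] at hν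
    exact inv_ne_zero hl0 hν.symm
  have hσν0 : σ ν ≠ 0 := by
    intro h0
    rw [h0, mul_zero] at hν
    exact inv_ne_zero hl0 hν.symm
  let PL : (Fin b → F) →ₗ[F] (Fin b → F) :=
    LinearMap.id - (utpstab18HfL σ w₂).smulRight w - (utpstab18HfL σ w).smulRight w₂
  have hP : ∀ y, PL y = y - hf σ y w₂ • w - hf σ y w • w₂ := fun y => rfl
  let βL : (Fin b → F) →ₗ[F] (Fin b → F) :=
    ν⁻¹ • (utpstab18HfL σ w₂).smulRight w + σ ν • (utpstab18HfL σ w).smulRight w₂ +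
      (ν * l₀)⁻¹ • (PL ∘ₗ βd ∘ₗ PL)
  have hβL : ∀ y, βL y = (ν⁻¹ * hf σ y w₂) • w + (σ ν * hf σ y w) • w₂ +
      (ν * l₀)⁻¹ • PL (βd (PL y)) := by
    intro y
    change ν⁻¹ • (hf σ y w₂ • w) + σ ν • (hf σ y w • w₂) + (ν * l₀)⁻¹ • PL (βd (PL y)) = _
    rw [smul_smul, smul_smul]
  have hPw1 : ∀ y, hf σ (PL y) w = 0 := by
    intro y
    rw [hP, hf_sub_left, hf_sub_left, hf_smul_left, hf_smul_left, hw0, hw2]
    ring
  have hPw2 : ∀ y, hf σ (PL y) w₂ = 0 := by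
    intro y
    rw [hP, hf_sub_left, hf_sub_left, hf_smul_left, hf_smul_left, hw20, hw2']
    ring
  have hwP : ∀ y, hf σ w (PL y) = 0 := by
    intro y
    rw [hf_herm σ hσ, hPw1, map_zero]
  have hw2P : ∀ y, hf σ w₂ (PL y) = 0 := by
    intro y
    rw [hf_herm σ hσ, hPw2, map_zero]
  have hPPw : PL w = 0 := by
    rw [hP, hw2', hw0, one_smul, zero_smul, sub_self, sub_zero]
  -- `P (β_d p)` for `p ⊥ w`
  have hPβ : ∀ p, hf σ p w = 0 → PL (βd p) = βd p - hf σ (βd p) w₂ • w := by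
    intro p hp
    rw [hP, hE2 p hp, zero_smul, sub_zero]
  have hQQ : ∀ y y', hf σ (PL (βd (PL y))) (PL (βd (PL y'))) = l₀ * hf σ (PL y) (PL y') := by
    intro y y'
    have hwb : hf σ w (βd (PL y')) = 0 := by
      rw [hf_herm σ hσ, hE2 _ (hPw1 y'), map_zero]
    rw [hPβ _ (hPw1 y), hPβ _ (hPw1 y'), hf_sub_left, hf_sub_right, hf_sub_right, hf_smul_left,
      hf_smul_left, hf_smul_right, hf_smul_right, hE2 _ (hPw1 y), hwb, hw0, hE4 _ _ (hPw1 y) (hPw1 y')]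
    ring
  have hdec : ∀ y y', hf σ y y' = hf σ y w₂ * σ (hf σ y' w) + hf σ y w * σ (hf σ y' w₂) +
      hf σ (PL y) (PL y') := by
    intro y y'
    have e1 : hf σ w y' = σ (hf σ y' w) := hf_herm σ hσ w y'
    have e2 : hf σ w₂ y' = σ (hf σ y' w₂) := hf_herm σ hσ w₂ y'
    rw [hP, hP]
    simp only [hf_sub_left, hf_sub_right, hf_smul_left, hf_smul_right, hw0, hw20, hw2, hw2', e1, e2]
    ring
  have hiso : ∀ y y', hf σ (βL y) (βL y') = hf σ y y' := by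
    intro y y'
    have hQw : hf σ (PL (βd (PL y))) w = 0 := hPw1 _
    have hQw2 : hf σ (PL (βd (PL y))) w₂ = 0 := hPw2 _
    have hwQ : hf σ w (PL (βd (PL y'))) = 0 := hwP _
    have hw2Q : hf σ w₂ (PL (βd (PL y'))) = 0 := hw2P _
    have hρ : (ν * l₀)⁻¹ * σ ((ν * l₀)⁻¹) * l₀ = 1 := by
      rw [map_inv₀, map_mul, hl₀σ]
      have h1 : ν * l₀ * (σ ν * l₀) = l₀ := by
        have : ν * σ ν * l₀ = 1 := by rw [hν, inv_mul_cancel₀ hl0]
        linear_combination l₀ * this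
      rw [← mul_inv, h1, inv_mul_cancel₀ hl0]
    rw [hβL, hβL, hdec y y']
    simp only [hf_add_left, hf_add_right, hf_smul_left, hf_smul_right, hw0, hw20, hw2, hw2', hQw,
      hQw2, hwQ, hw2Q, hQQ, map_mul, hσ.invol, map_inv₀, hl₀σ, mul_zero, add_zero, zero_add, mul_one]
    have h2 : ν⁻¹ * ν = 1 := inv_mul_cancel₀ hν0
    have h3 : σ ν * (σ ν)⁻¹ = 1 := mul_inv_cancel₀ hσν0
    rw [map_inv₀, map_mul, hl₀σ] at hρ
    linear_combination (hf σ y w₂ * σ (hf σ y' w)) * h2 + (hf σ y w * σ (hf σ y' w₂)) * h3 +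
      (hf σ (PL y) (PL y')) * hρ
  have hβm : ∀ y, (LinearMap.toMatrix' βL) *ᵥ y = βL y := fun y =>
    LinearMap.toMatrix'_mulVec βL y
  have hdet : (LinearMap.toMatrix' βL).det ≠ 0 := by
    apply utpstab18_det_ne_zero σ hσ
    intro x y
    rw [hβm, hβm, hiso]
  refine ⟨Matrix.GeneralLinearGroup.mkOfDetNeZero _ hdet, ?_, ?_, ?_⟩
  · rw [mem_GUm]
    intro x y
    change hf σ ((LinearMap.toMatrix' βL) *ᵥ x) ((LinearMap.toMatrix' βL) *ᵥ y) = hf σ x y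
    rw [hβm, hβm, hiso]
  · change (LinearMap.toMatrix' βL) *ᵥ w = ν⁻¹ • w
    rw [hβm, hβL, hPPw, map_zero, map_zero, hw2', hw0, mul_one, mul_zero, zero_smul, smul_zero,
      add_zero, add_zero]
  · intro y hy
    refine ⟨ν⁻¹ * hf σ y w₂ - (ν * l₀)⁻¹ * hf σ (βd y) w₂, ?_⟩
    change (LinearMap.toMatrix' βL) *ᵥ y = _
    have hPy : PL y = y - hf σ y w₂ • w := by
      rw [hP, hy, zero_smul, sub_zero]
    have e1 : PL (βd (PL y)) = βd y - hf σ (βd y) w₂ • w := by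
      rw [hPy, map_sub, map_smul, hβw, map_sub, map_smul, map_smul, hPPw, smul_zero, smul_zero,
        sub_zero, hPβ y hy]
    rw [hβm, hβL, e1, hy, mul_zero, zero_smul, add_zero]
    module

end Cfsg.Agent.Lib.helper6.UTP
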