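import Cfsg.Agent.Lib.Helper18.UTPUNIPQcore
import Cfsg.Agent.Lib.helper4.UTPUNIPZ
import Cfsg.Agent.Lib.Helper19.UTPKRON
import Cfsg.Agent.Lib.Helper22.UTPBTV

/-!
# UTP / UNIPQ : `unipq` verbatim (core in `Helper18.UTPUNIPQcore`)
-/

set_option autoImplicit false
set_option linter.unusedVariables false
set_option linter.unusedSectionVars false

namespace Cfsg.Agent.Lib.helper6.UTP

open Matrix
open scoped Kronecker
open Cfsg.Agent.Lib.helper7.TP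

variable {F : Type*} [Field F] {a b : ℕ}

/-- UNIPQ [L] `M ∩ U_L ≤ K0` for `L = A ⊗ w`: an element of `M` that is trivial on `L` and on `L^⊥ / L` is `1 ⊗ (element of U_w)`.
(`g (ten u y) = ten u y + ten (Z(y) u) w` for `y ⊥ w`, `Z(y) ∈ End A` linear in `y`, `Z(w) = 0`.  For `n ⊥ w` the Siegel element
`s_n : y ↦ y + h y w • n - h y n • w + κ h y w • w` (`κ + σ κ = - h n n`) is in `SU_b`, `1 ⊗ s_n ∈ T0u` (KRON); the commutator of `g` and
`1 ⊗ s_n` moves `V` into `A ⊗ w`, so it is `ELm ζ w w*` with `ζ = ± (Z(n) - Z(n)^*)` (UNIPZ: scalar).  Same for `l n`, `σ l ≠ l`: `Z(n)` is scalar,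
`Z(n) = c(n) • 1`, `c` linear, `c(n) = - h n n₁`; `g (1 ⊗ s_{n₁})⁻¹` is trivial on `A ⊗ w^⊥`: UNIPZ.) -/
theorem unipq [Finite F] (σ : F ≃+* F) (hσ : Inv2 σ) (ha : 1 ≤ a) (hb : 3 ≤ b)
    (M : Subgroup (Matrix.GeneralLinearGroup (Fin a × Fin b) F)) (hTM : T0u σ a b ≤ M)
    (hMS : M ≤ SUm σ (Fin a × Fin b)) (hNT : NTu σ M)
    (w : Fin b → F) (hw : w ≠ 0) (h : cj σ w ⬝ᵥ w = 0)
    (g : Matrix.GeneralLinearGroup (Fin a × Fin b) F) (hg : g ∈ M)
    (h1 : ∀ u : Fin a → F, (g : Matrix (Fin a × Fin b) (Fin a × Fin b) F) *ᵥ ten u w = ten u w)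
    (h2 : ∀ (u : Fin a → F) (y : Fin b → F), hf σ y w = 0 →
      (g : Matrix (Fin a × Fin b) (Fin a × Fin b) F) *ᵥ ten u y - ten u y ∈ Bline (a := a) w) :
    g ∈ K0 a b F :=
  utpunipq_core σ hσ ha M hTM hMS w hw h
    (fun g' hg' hB => unipz σ hσ ha M hMS hNT w hw h g' hg' hB)
    (fun β hβ hd g' hg' => kron_mem σ hσ 1 β (Subgroup.one_mem _) hβ
      (by rw [hd, Units.val_one, Matrix.det_one, one_pow, one_pow, one_mul]) g'
      (by rw [hg', Units.val_one]))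
    (fun c hc => btv_mem σ hσ c hc w h)
    g hg h1 h2

end Cfsg.Agent.Lib.helper6.UTP
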