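import Cfsg.Agent.Lib.helper6.UTP.Defs
import Cfsg.Agent.Lib.Helper28.UGen2

/-!
# UTP / TRANSN : `SU_k` is transitive on the vectors of a given non-zero norm
-/

set_option autoImplicit false
set_option linter.unusedVariables false
set_option linter.unusedSectionVars false

namespace Cfsg.Agent.Lib.helper6.UTP

open Matrix
open scoped Kronecker
open Cfsg.Agent.Lib.helper7.TP

variable {F : Type*} [Field F] {a b : ℕ}

/-- the standard hermitian form `hf σ` is a unitary form in the sense of the Prelude. -/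
theorem utptransn_unitary (σ : F ≃+* F) (hσ : Inv2 σ) {ι : Type} [Fintype ι] [DecidableEq ι] :
    Cfsg.Geo.IsUnitaryForm σ (hf σ : (ι → F) → (ι → F) → F) where
  ne_refl := by
    intro h
    obtain ⟨x, hx⟩ := hσ.moved
    apply hx
    rw [h]
    rfl
  involutive := hσ.invol
  add_left := hf_add_left σ
  smul_left := hf_smul_left σ
  herm := hf_herm σ hσ
  nondegenerate := by
    intro v hv
    constructor
    · by_contra hcon
      push Not at hcon
      exact hv (hf_nondeg σ v hcon)
    · by_contra hcon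
      push Not at hcon
      exact hv (hf_nondeg' σ hσ v hcon)

/-- a fixed element other than `0`, `1` when `|F| ≠ 4`. -/
theorem utptransn_fixed [Fintype F] (σ : F ≃+* F) (hσ : Inv2 σ) (h4 : Fintype.card F ≠ 4) :
    ∃ c : F, σ c = c ∧ c ≠ 0 ∧ c ≠ 1 := by
  classical
  by_contra H
  push Not at H
  have h2 : (1 + 1 : F) = 0 := by
    by_contra h
    have := H (1 + 1) (by simp) h
    apply one_ne_zero (α := F)
    linear_combination this
  have hneg : ∀ x : F, -x = x := by
    intro x
    linear_combination (-x) * h2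
  obtain ⟨x₀, hx₀⟩ := hσ.moved
  have hT : ∀ y : F, σ (y + σ y) = y + σ y := by
    intro y
    rw [map_add, hσ.invol, add_comm]
  have hker : ∀ y : F, y + σ y = 0 → y = 0 ∨ y = 1 := by
    intro y hy
    have hfix : σ y = y := by
      have : σ y = -y := by linear_combination hy
      rw [this, hneg]
    by_cases h0 : y = 0
    · exact Or.inl h0
    · exact Or.inr (H y hfix h0)
  have hTx : x₀ + σ x₀ = 1 := by
    by_contra h
    have h0 : x₀ + σ x₀ = 0 := by
      by_contra h0
      exact h (H _ (hT x₀) h0)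
    apply hx₀
    have : σ x₀ = -x₀ := by linear_combination h0
    rw [this, hneg]
  have hall : ∀ y : F, y = 0 ∨ y = 1 ∨ y = x₀ ∨ y = x₀ + 1 := by
    intro y
    by_cases h0 : y + σ y = 0
    · rcases hker y h0 with h | h
      · exact Or.inl h
      · exact Or.inr (Or.inl h)
    · have h1 : y + σ y = 1 := H _ (hT y) h0
      have h3 : (y + x₀) + σ (y + x₀) = 0 := by
        rw [map_add]
        linear_combination h1 + hTx + h2
      rcases hker _ h3 with h | h
      · right; right; left
        have : y = -x₀ := by linear_combination h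
        rw [this, hneg]
      · right; right; right
        have : y = -x₀ + 1 := by linear_combination h
        rw [this, hneg]
  have hx0 : x₀ ≠ 0 := by
    rintro rfl
    exact hx₀ (map_zero σ)
  have hx1 : x₀ ≠ 1 := by
    rintro rfl
    exact hx₀ (map_one σ)
  apply h4
  have huniv : (Finset.univ : Finset F) = {0, 1, x₀, x₀ + 1} := by
    ext y
    simp only [Finset.mem_univ, Finset.mem_insert, Finset.mem_singleton, true_iff]
    exact hall y
  rw [← Finset.card_univ, huniv]
  rw [Finset.card_insert_of_notMem, Finset.card_insert_of_notMem, Finset.card_insert_of_notMem,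
    Finset.card_singleton]
  · simp only [Finset.mem_singleton]
    intro h
    apply one_ne_zero (α := F)
    linear_combination -h
  · simp only [Finset.mem_insert, Finset.mem_singleton, not_or]
    refine ⟨fun h => hx1 h.symm, fun h => hx0 ?_⟩
    linear_combination -h
  · simp only [Finset.mem_insert, Finset.mem_singleton, not_or]
    refine ⟨fun h => one_ne_zero h.symm, fun h => hx0 h.symm, fun h => hx1 ?_⟩
    have : x₀ = -1 := by linear_combination -h
    rw [this, hneg]

/-- two distinct non-zero skew elements when `|F| ≠ 4`. -/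
theorem utptransn_twoskew [Fintype F] (σ : F ≃+* F) (hσ : Inv2 σ) (h4 : Fintype.card F ≠ 4) :
    Cfsg.Agent.Lib.Helper28.UGen2.TwoSkew σ := by
  obtain ⟨c, hc, hc0, hc1⟩ := utptransn_fixed σ hσ h4
  obtain ⟨x, hx⟩ := hσ.moved
  have hk0 : x - σ x ≠ 0 := fun h => hx (sub_eq_zero.mp h).symm
  have hk : σ (x - σ x) = -(x - σ x) := by
    rw [map_sub, hσ.invol]
    ring
  refine ⟨x - σ x, c * (x - σ x), hk0, mul_ne_zero hc0 hk0, hk, ?_, ?_⟩
  · rw [map_mul, hk, hc]
    ring
  · intro h
    have h1 : (c - 1) * (x - σ x) = 0 := by linear_combination -h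
    rcases mul_eq_zero.1 h1 with h2 | h2
    · exact hc1 (sub_eq_zero.1 h2)
    · exact hk0 h2

/-- TRANSN [M-L] `SU_k` is transitive on the vectors of a given non-zero norm, `k ≥ 3`, not `k = 3, |F| = 4`.
(`Helper28.UGen2.n1'` after transport, or Witt + determinant correction as in TRANS.) -/
theorem su_trans_norm [Fintype F] (σ : F ≃+* F) (hσ : Inv2 σ) {k : ℕ} (hk : 3 ≤ k)
    (hex : ¬ (k = 3 ∧ Fintype.card F = 4)) (m m' : Fin k → F)
    (hm : hf σ m m ≠ 0) (h : hf σ m m = hf σ m' m') :
    ∃ β : Matrix.GeneralLinearGroup (Fin k) F, β ∈ GUm σ (Fin k) ∧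
      (β : Matrix (Fin k) (Fin k) F).det = 1 ∧ (β : Matrix (Fin k) (Fin k) F) *ᵥ m = m' := by
  have hU : Cfsg.Geo.IsUnitaryForm σ (hf σ : (Fin k → F) → (Fin k → F) → F) :=
    utptransn_unitary σ hσ
  have h4 : 4 ≤ k ∨ Cfsg.Agent.Lib.Helper28.UGen2.TwoSkew σ := by
    by_cases h4 : 4 ≤ k
    · exact Or.inl h4
    · right
      apply utptransn_twoskew σ hσ
      intro hc
      exact hex ⟨by omega, hc⟩
  obtain ⟨r, hr, hrm⟩ := Cfsg.Agent.Lib.Helper28.UGen2.n1' hU hk h4 m m' h hm
  have hGA := Cfsg.Agent.Lib.Helper28.UGen.Ra_le_GA hU _ hr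
  obtain ⟨h1, h2, _⟩ := hGA
  exact ⟨r, h1, Cfsg.Agent.Lib.Helper28.UGen.det_of_SL r h2, hrm⟩

end Cfsg.Agent.Lib.helper6.UTP
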