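import Cfsg.Agent.Lib.Helper18.UTPSTABd
import Cfsg.Agent.Lib.Helper18.UTPUNIPQ
import Cfsg.Agent.Lib.helper6.UTPSIEGEL
import Cfsg.Agent.Lib.Helper24.UTPISOANYcore
import Cfsg.Agent.Lib.Helper27.UTPTRANS

/-!
# UTP / STAB (part 5): assembly
-/

set_option autoImplicit false
set_option linter.unusedVariables false
set_option linter.unusedSectionVars false

namespace Cfsg.Agent.Lib.helper6.UTP

open Matrix
open scoped Kronecker
open Cfsg.Agent.Lib.helper7.TP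

variable {F : Type*} [Field F] {a b : ℕ}

/-- STAB for `w' = w`: an element of `M` stabilising the line `A ⊗ w` lies in `K0`. -/
theorem utpstab18_same [Fintype F] (σ : F ≃+* F) (hσ : Inv2 σ) (ha : 1 ≤ a) (hb : 3 ≤ b)
    (M : Subgroup (Matrix.GeneralLinearGroup (Fin a × Fin b) F)) (hTM : T0u σ a b ≤ M)
    (hMS : M ≤ SUm σ (Fin a × Fin b)) (hNT : NTu σ M)
    (w : Fin b → F) (hw : w ≠ 0) (h : cj σ w ⬝ᵥ w = 0)
    (g : Matrix.GeneralLinearGroup (Fin a × Fin b) F) (hg : g ∈ M)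
    (hl : ∀ u : Fin a → F, ∃ u' : Fin a → F,
      (g : Matrix (Fin a × Fin b) (Fin a × Fin b) F) *ᵥ ten u w = ten u' w) :
    g ∈ K0 a b F := by
  classical
  have hw0 : hf σ w w = 0 := (iso_iff σ w).1 h
  obtain ⟨w₂, hw20, hw2'⟩ := utpisoany_partner σ hσ w hw hw0
  have hw2 : hf σ w₂ w = 1 := by rw [hf_herm σ hσ, hw2', map_one]
  obtain ⟨μ, hμ, hμi, hμs⟩ := utpstab18_mu σ hσ w w w₂ hw hw2' g hl
  obtain ⟨l₀, hl0, hl₀σ, hsim⟩ :=
    utpstab18_simil σ hσ ha M hTM hMS hNT w w₂ hw h hw2 g hg μ hμ hμi hμs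
  obtain ⟨βd, hβw, hE2, hE3, hE4⟩ :=
    utpstab18_betad σ hσ ha M hTM hMS hNT w w₂ hw h hw2 g hg μ hμ hμs l₀ hl0 hl₀σ hsim
  obtain ⟨ν, hν⟩ := utpsg_norm_surj σ hσ l₀⁻¹ (by rw [map_inv₀, hl₀σ])
  have hν0 : ν ≠ 0 := by
    rintro rfl
    rw [zero_mul] at hν
    exact inv_ne_zero hl0 hν.symm
  obtain ⟨β, hβU, hβw', hβy⟩ :=
    utpstab18_levi σ hσ w w₂ hw0 hw20 hw2 βd l₀ ν hl0 hl₀σ hν hβw hE2 hE4
  -- the element `α = ν μ` of `GU_a`
  have hαm : ∀ u, (LinearMap.toMatrix' (ν • μ)) *ᵥ u = ν • μ u := fun u =>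
    LinearMap.toMatrix'_mulVec (ν • μ) u
  have hαiso : ∀ x y, hf σ ((LinearMap.toMatrix' (ν • μ)) *ᵥ x)
      ((LinearMap.toMatrix' (ν • μ)) *ᵥ y) = hf σ x y := by
    intro x y
    rw [hαm, hαm, hf_smul_left, hf_smul_right, hsim]
    have : ν * σ ν * l₀ = 1 := by rw [hν, inv_mul_cancel₀ hl0]
    linear_combination (hf σ x y) * this
  have hαdet : (LinearMap.toMatrix' (ν • μ)).det ≠ 0 := utpstab18_det_ne_zero σ hσ _ hαiso
  obtain ⟨α, hαdef⟩ : ∃ α : Matrix.GeneralLinearGroup (Fin a) F,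
      α = Matrix.GeneralLinearGroup.mkOfDetNeZero _ hαdet := ⟨_, rfl⟩
  have hαv : ∀ u, (α : Matrix (Fin a) (Fin a) F) *ᵥ u = ν • μ u := by
    intro u
    rw [hαdef]
    exact hαm u
  have hαU : α ∈ GUm σ (Fin a) := by
    rw [mem_GUm]
    intro x y
    rw [hαv, hαv, ← hαm, ← hαm, hαiso]
  -- the Kronecker element `k = α ⊗ β`
  have hkdet : ((α : Matrix (Fin a) (Fin a) F) ⊗ₖ (β : Matrix (Fin b) (Fin b) F)).det ≠ 0 := by
    rw [Matrix.det_kronecker]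
    exact mul_ne_zero (pow_ne_zero _ (Matrix.GeneralLinearGroup.det_ne_zero α))
      (pow_ne_zero _ (Matrix.GeneralLinearGroup.det_ne_zero β))
  obtain ⟨k, hkdef⟩ : ∃ k : Matrix.GeneralLinearGroup (Fin a × Fin b) F,
      k = Matrix.GeneralLinearGroup.mkOfDetNeZero _ hkdet := ⟨_, rfl⟩
  have hk : (k : Matrix (Fin a × Fin b) (Fin a × Fin b) F) =
      (α : Matrix (Fin a) (Fin a) F) ⊗ₖ (β : Matrix (Fin b) (Fin b) F) := by
    rw [hkdef]; rfl
  have hkU : k ∈ GUm σ (Fin a × Fin b) := utpkron_mem_GUm σ α β hαU hβU k hk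
  have hkten : ∀ (u : Fin a → F) (y : Fin b → F),
      (k : Matrix (Fin a × Fin b) (Fin a × Fin b) F) *ᵥ ten u y =
        ten (ν • μ u) ((β : Matrix (Fin b) (Fin b) F) *ᵥ y) := by
    intro u y
    rw [hk, kron_mulVec_ten, hαv]
  have hkw : ∀ u : Fin a → F, (k : Matrix (Fin a × Fin b) (Fin a × Fin b) F) *ᵥ ten u w =
      (g : Matrix (Fin a × Fin b) (Fin a × Fin b) F) *ᵥ ten u w := by
    intro u
    rw [hkten, hβw', hμ, ten_smul_left, ten_smul_right, smul_smul, mul_inv_cancel₀ hν0, one_smul]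
  have hky : ∀ (u : Fin a → F) (y : Fin b → F), hf σ y w = 0 →
      (g : Matrix (Fin a × Fin b) (Fin a × Fin b) F) *ᵥ ten u y -
        (k : Matrix (Fin a × Fin b) (Fin a × Fin b) F) *ᵥ ten u y ∈ Bline (a := a) w := by
    intro u y hy
    obtain ⟨c₃, hc₃⟩ := hβy y hy
    obtain ⟨z, hz⟩ := hE3 y hy u
    refine ⟨z - c₃ • (ν • μ u), ?_⟩
    have e : ten (ν • μ u) ((ν * l₀)⁻¹ • βd y) = ten (l₀⁻¹ • μ u) (βd y) := by
      rw [ten_smul_left, ten_smul_right, ten_smul_left, smul_smul]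
      congr 1
      field_simp
    rw [hkten, hc₃, ten_add_right, e, ten_smul_right, utpunipq_ten_sub_left,
      ten_smul_left c₃ (ν • μ u) w, ← hz]
    abel
  -- `g₂ = k⁻¹ g` is in the radical
  have h1₂ : ∀ u : Fin a → F, ((k⁻¹ * g : Matrix.GeneralLinearGroup (Fin a × Fin b) F) :
      Matrix (Fin a × Fin b) (Fin a × Fin b) F) *ᵥ ten u w = ten u w := by
    intro u
    rw [utpxsapi_mul_mv, ← hkw, utpxsapi_inv_mv]
  have h2₂ : ∀ (u : Fin a → F) (y : Fin b → F), hf σ y w = 0 →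
      ((k⁻¹ * g : Matrix.GeneralLinearGroup (Fin a × Fin b) F) :
        Matrix (Fin a × Fin b) (Fin a × Fin b) F) *ᵥ ten u y - ten u y ∈ Bline (a := a) w := by
    intro u y hy
    obtain ⟨z, hz⟩ := hky u y hy
    obtain ⟨x₀, hx₀⟩ := hμs z
    refine ⟨x₀, ?_⟩
    rw [utpxsapi_mul_mv]
    nth_rewrite 2 [← utpxsapi_inv_mv k (ten u y)]
    rw [← Matrix.mulVec_sub, hz, ← hx₀, ← hμ, ← hkw, utpxsapi_inv_mv]
  have hg₂U : k⁻¹ * g ∈ GUm σ (Fin a × Fin b) :=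
    (GUm σ (Fin a × Fin b)).mul_mem ((GUm σ (Fin a × Fin b)).inv_mem hkU) (hMS hg).1
  have hg₂iso := (mem_GUm σ _).1 hg₂U
  -- `g₂` is unipotent, so `det g₂ = 1`
  obtain ⟨N₂, hN₂def⟩ : ∃ N₂ : Matrix (Fin a × Fin b) (Fin a × Fin b) F,
      N₂ = ((k⁻¹ * g : Matrix.GeneralLinearGroup (Fin a × Fin b) F) :
        Matrix (Fin a × Fin b) (Fin a × Fin b) F) - 1 := ⟨_, rfl⟩
  have hN₂ : ∀ v, N₂ *ᵥ v = ((k⁻¹ * g : Matrix.GeneralLinearGroup (Fin a × Fin b) F) :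
      Matrix (Fin a × Fin b) (Fin a × Fin b) F) *ᵥ v - v := by
    intro v
    rw [hN₂def, Matrix.sub_mulVec, Matrix.one_mulVec]
  have hNi : ∀ v, ctr (cj σ w) (N₂ *ᵥ v) = 0 := by
    intro v
    rw [hN₂, utpunipq_ctr_sub, utpunipq_perp σ hσ w _ hg₂iso h1₂, sub_self]
  have hNii : ∀ v', ctr (cj σ w) v' = 0 → N₂ *ᵥ v' ∈ Bline (a := a) w := by
    intro v' hv'
    have := utpunipq_ind0 σ w w₂ hw2 (Submodule.comap (Matrix.toLin' N₂) (Bline (a := a) w))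
      (fun u y hy => by
        rw [Submodule.mem_comap, Matrix.toLin'_apply, hN₂]
        exact h2₂ u y hy) v' hv'
    rwa [Submodule.mem_comap, Matrix.toLin'_apply] at this
  have hNiii : ∀ z : Fin a → F, N₂ *ᵥ ten z w = 0 := by
    intro z
    rw [hN₂, h1₂, sub_self]
  have hN₂3 : N₂ * N₂ * N₂ = 0 := by
    rw [Matrix.ext_iff_mulVec]
    intro v
    rw [← Matrix.mulVec_mulVec, ← Matrix.mulVec_mulVec, Matrix.zero_mulVec]
    obtain ⟨z, hz⟩ := hNii _ (hNi v)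
    rw [hz, hNiii]
  have hdet₂ : ((k⁻¹ * g : Matrix.GeneralLinearGroup (Fin a × Fin b) F) :
      Matrix (Fin a × Fin b) (Fin a × Fin b) F).det = 1 := by
    have e : ((k⁻¹ * g : Matrix.GeneralLinearGroup (Fin a × Fin b) F) :
        Matrix (Fin a × Fin b) (Fin a × Fin b) F) = 1 + N₂ := by
      rw [hN₂def]; abel
    rw [e]
    exact utpstab18_det_unipotent N₂ hN₂3
  have hdetg : (g : Matrix (Fin a × Fin b) (Fin a × Fin b) F).det = 1 :=
    utpunipq_det_of_SL g (hMS hg).2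
  have hdetk : (k : Matrix (Fin a × Fin b) (Fin a × Fin b) F).det = 1 := by
    have e : (g : Matrix (Fin a × Fin b) (Fin a × Fin b) F) =
        (k : Matrix (Fin a × Fin b) (Fin a × Fin b) F) *
          ((k⁻¹ * g : Matrix.GeneralLinearGroup (Fin a × Fin b) F) :
            Matrix (Fin a × Fin b) (Fin a × Fin b) F) := by
      rw [← Units.val_mul, mul_inv_cancel_left]
    have e2 := congrArg Matrix.det e
    rw [Matrix.det_mul, hdetg, hdet₂, mul_one] at e2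
    exact e2.symm
  have hkT : k ∈ T0u σ a b := by
    refine kron_mem σ hσ α β hαU hβU ?_ k hk
    have e := hdetk
    rw [hk, Matrix.det_kronecker, Fintype.card_fin, Fintype.card_fin] at e
    exact e
  have hg₂M : k⁻¹ * g ∈ M := M.mul_mem (M.inv_mem (hTM hkT)) hg
  have hg₂K : k⁻¹ * g ∈ K0 a b F :=
    unipq σ hσ ha hb M hTM hMS hNT w hw h _ hg₂M h1₂ h2₂
  have hgeq : g = k * (k⁻¹ * g) := by rw [mul_inv_cancel_left]
  rw [hgeq]
  exact (K0 a b F).mul_mem hkT.1 hg₂K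

end Cfsg.Agent.Lib.helper6.UTP
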