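import Cfsg.Agent.Lib.Helper18.UTPSTABe

/-!
# UTP / STAB : an independent proof of `stab_u` (the verbatim `stab_u` is `Helper19.UTPSTAB`), named `utpstab18_main`
-/

set_option autoImplicit false
set_option linter.unusedVariables false
set_option linter.unusedSectionVars false

namespace Cfsg.Agent.Lib.helper6.UTP

open Matrix
open scoped Kronecker
open Cfsg.Agent.Lib.helper7.TP

variable {F : Type*} [Field F] {a b : ℕ}

/-- STAB [L] an element of `M` mapping a line into a `B`-line lies in `K0`.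
(`w'` is isotropic; TRANS + KRON: WLOG `w' = w`, `g (ten u w) = ten (μ u) w`.  `g` normalises `M ∩ U_L`, which is `1 ⊗ U_w` by UNIPQ:
`g (1 ⊗ s_n) g⁻¹ = 1 ⊗ s_{π n}` modulo the centre; on `A ⊗ w^⊥`: `ctr (π n)* ∘ g = μ ∘ ctr n*`, `π` linear modulo `w`: `g` induces `μ' ⊗ β'` on
`A ⊗ w^⊥ / A ⊗ w`; isometry: `μ`, `β'` similitudes with inverse multipliers; `k = (ν μ) ⊗ β ∈ T0u` (`β w = ν⁻¹ w`, `β w₂ = σ ν w₂`, `β = ν⁻¹ β'` on `⟨w, w₂⟩^⊥`)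
agrees with `g` on `A ⊗ w` and on `A ⊗ w^⊥` modulo `A ⊗ w`; `k⁻¹ g ∈ M ∩ U_L ≤ K0`.) -/
theorem utpstab18_main [Fintype F] (σ : F ≃+* F) (hσ : Inv2 σ) (ha : 1 ≤ a) (hb : 3 ≤ b)
    (M : Subgroup (Matrix.GeneralLinearGroup (Fin a × Fin b) F)) (hTM : T0u σ a b ≤ M)
    (hMS : M ≤ SUm σ (Fin a × Fin b)) (hNT : NTu σ M)
    (w w' : Fin b → F) (hw : w ≠ 0) (hw' : w' ≠ 0) (h : cj σ w ⬝ᵥ w = 0)
    (g : Matrix.GeneralLinearGroup (Fin a × Fin b) F) (hg : g ∈ M)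
    (hl : ∀ u : Fin a → F, ∃ u' : Fin a → F,
      (g : Matrix (Fin a × Fin b) (Fin a × Fin b) F) *ᵥ ten u w = ten u' w') :
    g ∈ K0 a b F := by
  classical
  have hw0 : hf σ w w = 0 := (iso_iff σ w).1 h
  have hgU : ∀ x y, hf σ ((g : Matrix (Fin a × Fin b) (Fin a × Fin b) F) *ᵥ x)
      ((g : Matrix (Fin a × Fin b) (Fin a × Fin b) F) *ᵥ y) = hf σ x y :=
    (mem_GUm σ g).1 (hMS hg).1
  -- a covector for `w'`
  obtain ⟨x, hx⟩ : ∃ x : Fin b → F, hf σ w' x ≠ 0 := by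
    by_contra hcon
    push Not at hcon
    exact hw' (hf_nondeg' σ hσ w' hcon)
  obtain ⟨w₂, hw₂def⟩ : ∃ w₂ : Fin b → F, w₂ = (σ (hf σ w' x))⁻¹ • x := ⟨_, rfl⟩
  have hw2' : hf σ w' w₂ = 1 := by
    rw [hw₂def, hf_smul_right, map_inv₀, hσ.invol, inv_mul_cancel₀ hx]
  obtain ⟨μ, hμ, hμi, hμs⟩ := utpstab18_mu σ hσ w w' w₂ hw hw2' g hl
  -- `w'` is isotropic
  let i₀ : Fin a := ⟨0, by omega⟩
  have he₀ : hf σ (Pi.single i₀ (1 : F)) (Pi.single i₀ (1 : F)) = 1 := by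
    simp [hf, cj, single_dotProduct]
  have hw'0 : hf σ w' w' = 0 := by
    obtain ⟨u, hu⟩ := hμs (Pi.single i₀ (1 : F))
    have e := hgU (ten u w) (ten u w)
    rw [hμ, hu, hf_ten, hf_ten, he₀, hw0, mul_zero, one_mul] at e
    exact e
  have h' : cj σ w' ⬝ᵥ w' = 0 := (iso_iff σ w').2 hw'0
  -- move `w'` to `w`
  obtain ⟨β₀, hβ₀U, hβ₀d, hβ₀w⟩ := su_trans_iso σ hσ hb w' w hw' hw h' h
  obtain ⟨B, hBT, hBm⟩ := utpisoany_one_kron_mem (a := a) σ hσ β₀ hβ₀U hβ₀d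
  have hBM : B ∈ M := hTM hBT
  have hg₁M : B * g ∈ M := M.mul_mem hBM hg
  have hl₁ : ∀ u : Fin a → F, ∃ u' : Fin a → F,
      ((B * g : Matrix.GeneralLinearGroup (Fin a × Fin b) F) :
        Matrix (Fin a × Fin b) (Fin a × Fin b) F) *ᵥ ten u w = ten u' w := by
    intro u
    refine ⟨μ u, ?_⟩
    rw [utpxsapi_mul_mv, hμ, hBm, kron_mulVec_ten, Matrix.one_mulVec, hβ₀w]
  have hg₁K : B * g ∈ K0 a b F :=
    utpstab18_same σ hσ ha hb M hTM hMS hNT w hw h (B * g) hg₁M hl₁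
  have hgeq : g = B⁻¹ * (B * g) := by rw [inv_mul_cancel_left]
  rw [hgeq]
  exact (K0 a b F).mul_mem ((K0 a b F).inv_mem hBT.1) hg₁K

end Cfsg.Agent.Lib.helper6.UTP
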