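import Cfsg.Agent.Lib.helper6.UTP.Defs
import Cfsg.Agent.Lib.Helper18.TPUNIP
import Cfsg.Agent.Lib.Helper18.UTPXSAPI

/-!
# UTP / UNIPQ (part 1): generalities — pure tensors span, the Siegel element
-/

set_option autoImplicit false
set_option linter.unusedVariables false
set_option linter.unusedSectionVars false

namespace Cfsg.Agent.Lib.helper6.UTP

open Matrix
open scoped Kronecker
open Cfsg.Agent.Lib.helper7.TP

variable {F : Type*} [Field F] {a b : ℕ}

/-- the trace `x ↦ x + σ x` is onto the fixed field. -/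
theorem utpunipq_trace (σ : F ≃+* F) (hσ : Inv2 σ) (c : F) (hc : σ c = c) : ∃ x : F, x + σ x = c := by
  by_cases h2 : (2 : F) = 0
  · obtain ⟨x, hx⟩ := hσ.moved
    have ht : x + σ x ≠ 0 := by
      intro h
      apply hx
      have h1 : σ x = -x := by linear_combination h
      have h3 : -x = x := by linear_combination (-x) * h2
      rw [h1, h3]
    refine ⟨c * x / (x + σ x), ?_⟩
    rw [map_div₀, map_mul, map_add, hσ.invol, hc, add_comm (σ x) x]
    field_simp
  · refine ⟨c / 2, ?_⟩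
    rw [map_div₀, hc, map_ofNat]
    field_simp
    ring

theorem utpunipq_ten_zero_left (w : Fin b → F) : ten (0 : Fin a → F) w = 0 := by
  funext p; simp [ten]

theorem utpunipq_ten_sub_right (u : Fin a → F) (w w' : Fin b → F) :
    ten u (w - w') = ten u w - ten u w' := by
  funext p; simp [ten, mul_sub]

theorem utpunipq_ten_sub_left (u u' : Fin a → F) (w : Fin b → F) :
    ten (u - u') w = ten u w - ten u' w := by
  funext p; simp [ten, sub_mul]

theorem utpunipq_ctr_zero (ψ : Fin b → F) : ctr ψ (0 : Fin a × Fin b → F) = 0 := by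
  funext i; simp [ctr]

theorem utpunipq_ctr_sub (ψ : Fin b → F) (v v' : Fin a × Fin b → F) :
    ctr ψ (v - v') = ctr ψ v - ctr ψ v' := by
  funext i
  simp [ctr, sub_mul, Finset.sum_sub_distrib]

/-- pure tensors span `V`. -/
theorem utpunipq_ind (P : Submodule F (Fin a × Fin b → F))
    (h : ∀ (u : Fin a → F) (y : Fin b → F), ten u y ∈ P) (v : Fin a × Fin b → F) : v ∈ P := by
  classical
  have hv : v = ∑ p, v p • (Pi.single p (1 : F) : Fin a × Fin b → F) := by
    funext q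
    simp [Finset.sum_apply, Pi.single_apply]
  rw [hv]
  refine P.sum_mem (fun p _ => P.smul_mem _ ?_)
  obtain ⟨i, j⟩ := p
  rw [← tpunip_ten_single]
  exact h _ _

/-- the span of the pure tensors `u ⊗ y`, `y ⊥ w`. -/
def utpunipqQ (σ : F ≃+* F) (w : Fin b → F) : Submodule F (Fin a × Fin b → F) :=
  Submodule.span F {x | ∃ (u : Fin a → F) (y : Fin b → F), hf σ y w = 0 ∧ x = ten u y}

/-- `V = A ⊗ w₂ + A ⊗ w^⊥` when `hf w₂ w = 1`. -/
theorem utpunipq_dec (σ : F ≃+* F) (w w₂ : Fin b → F) (hw2 : hf σ w₂ w = 1)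
    (v : Fin a × Fin b → F) :
    v - ten (ctr (cj σ w) v) w₂ ∈ utpunipqQ (a := a) σ w := by
  let P₀ : Submodule F (Fin a × Fin b → F) :=
    { carrier := {v | v - ten (ctr (cj σ w) v) w₂ ∈ utpunipqQ (a := a) σ w}
      add_mem' := by
        intro v v' hv hv'
        have e : v + v' - ten (ctr (cj σ w) (v + v')) w₂ =
            (v - ten (ctr (cj σ w) v) w₂) + (v' - ten (ctr (cj σ w) v') w₂) := by
          rw [ctr_add, ten_add_left]
          abel
        change v + v' - ten (ctr (cj σ w) (v + v')) w₂ ∈ utpunipqQ (a := a) σ w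
        rw [e]
        exact Submodule.add_mem _ hv hv'
      zero_mem' := by
        change (0 : Fin a × Fin b → F) - ten (ctr (cj σ w) 0) w₂ ∈ utpunipqQ (a := a) σ w
        rw [utpunipq_ctr_zero, utpunipq_ten_zero_left, sub_zero]
        exact Submodule.zero_mem _
      smul_mem' := by
        intro c v hv
        change c • v - ten (ctr (cj σ w) (c • v)) w₂ ∈ utpunipqQ (a := a) σ w
        rw [ctr_smul, ten_smul_left, ← smul_sub]
        exact Submodule.smul_mem _ c hv }
  have key : v ∈ P₀ := by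
    apply utpunipq_ind
    intro u y
    change ten u y - ten (ctr (cj σ w) (ten u y)) w₂ ∈ utpunipqQ (a := a) σ w
    rw [ctr_cj_ten, ten_smul_left, ← ten_smul_right, ← utpunipq_ten_sub_right]
    apply Submodule.subset_span
    refine ⟨u, _, ?_, rfl⟩
    rw [hf_sub_left, hf_smul_left, hw2, mul_one, sub_self]
  exact key

theorem utpunipq_ind2 (σ : F ≃+* F) (w w₂ : Fin b → F) (hw2 : hf σ w₂ w = 1)
    (P : Submodule F (Fin a × Fin b → F)) (h1 : ∀ u : Fin a → F, ten u w₂ ∈ P)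
    (h2 : ∀ (u : Fin a → F) (y : Fin b → F), hf σ y w = 0 → ten u y ∈ P)
    (v : Fin a × Fin b → F) : v ∈ P := by
  have hQP : utpunipqQ (a := a) σ w ≤ P := by
    apply Submodule.span_le.2
    rintro x ⟨u, y, hy, rfl⟩
    exact h2 u y hy
  have := P.add_mem (h1 (ctr (cj σ w) v)) (hQP (utpunipq_dec σ w w₂ hw2 v))
  rwa [add_sub_cancel] at this

theorem utpunipq_ind0 (σ : F ≃+* F) (w w₂ : Fin b → F) (hw2 : hf σ w₂ w = 1)
    (P : Submodule F (Fin a × Fin b → F))
    (h2 : ∀ (u : Fin a → F) (y : Fin b → F), hf σ y w = 0 → ten u y ∈ P)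
    (v : Fin a × Fin b → F) (hv : ctr (cj σ w) v = 0) : v ∈ P := by
  have hQP : utpunipqQ (a := a) σ w ≤ P := by
    apply Submodule.span_le.2
    rintro x ⟨u, y, hy, rfl⟩
    exact h2 u y hy
  have := hQP (utpunipq_dec σ w w₂ hw2 v)
  rwa [hv, utpunipq_ten_zero_left, sub_zero] at this

/-- an isometry fixing `A ⊗ w` pointwise commutes with the contraction by `w*`. -/
theorem utpunipq_perp (σ : F ≃+* F) (hσ : Inv2 σ) (w : Fin b → F)
    (X : Matrix (Fin a × Fin b) (Fin a × Fin b) F)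
    (hX : ∀ x y, hf σ (X *ᵥ x) (X *ᵥ y) = hf σ x y)
    (hXw : ∀ u : Fin a → F, X *ᵥ ten u w = ten u w) (v : Fin a × Fin b → F) :
    ctr (cj σ w) (X *ᵥ v) = ctr (cj σ w) v := by
  rw [← sub_eq_zero]
  apply hf_nondeg' σ hσ
  intro u
  rw [hf_sub_left, ← hf_ten_right, ← hf_ten_right]
  nth_rewrite 1 [← hXw u]
  rw [hX, sub_self]

theorem utpunipq_det_of_SL {ι : Type} [Fintype ι] [DecidableEq ι] (g : Matrix.GeneralLinearGroup ι F)
    (hg : g ∈ Cfsg.Geo.specialLinear ι F) : (g : Matrix ι ι F).det = 1 := by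
  unfold Cfsg.Geo.specialLinear at hg
  rw [MonoidHom.mem_ker] at hg
  have := congrArg Units.val hg
  simpa using this

/-- the Siegel element `y ↦ y + hf y w • n - hf y n • w + κ hf y w • w` of `SU_b` (`w` isotropic, `n ⊥ w`). -/
theorem utpunipq_siegel (σ : F ≃+* F) (hσ : Inv2 σ) (w n : Fin b → F) (hw : hf σ w w = 0)
    (hn : hf σ n w = 0) :
    ∃ (s : Matrix.GeneralLinearGroup (Fin b) F) (κ : F), s ∈ GUm σ (Fin b) ∧
      (s : Matrix (Fin b) (Fin b) F).det = 1 ∧
      ∀ y, (s : Matrix (Fin b) (Fin b) F) *ᵥ y =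
        y + hf σ y w • n - hf σ y n • w + (κ * hf σ y w) • w := by
  have hnn : σ (hf σ n n) = hf σ n n := (hf_herm σ hσ n n).symm
  obtain ⟨κ₁, hκ₁⟩ := utpunipq_trace σ hσ (hf σ n n) hnn
  have hwn : hf σ w n = 0 := by rw [hf_herm σ hσ, hn, map_zero]
  obtain ⟨t₁, ht₁S, ht₁⟩ := utpxsapi_transv (n + κ₁ • w) (cj σ w) (by
    rw [dotProduct_comm]
    change hf σ (n + κ₁ • w) w = 0
    rw [hf_add_left, hf_smul_left, hn, hw, mul_zero, add_zero])
  obtain ⟨t₂, ht₂S, ht₂⟩ := utpxsapi_transv w (-cj σ n) (by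
    rw [neg_dotProduct, dotProduct_comm]
    change -hf σ w n = 0
    rw [hwn, neg_zero])
  have hact : ∀ y, ((t₂ * t₁ : Matrix.GeneralLinearGroup (Fin b) F) : Matrix (Fin b) (Fin b) F) *ᵥ y =
      y + hf σ y w • n - hf σ y n • w + ((κ₁ - hf σ n n) * hf σ y w) • w := by
    intro y
    rw [utpxsapi_mul_mv, ht₁, ht₂]
    have e1 : cj σ w ⬝ᵥ y = hf σ y w := by rw [dotProduct_comm]; rfl
    have e2 : ∀ z : Fin b → F, -cj σ n ⬝ᵥ z = -hf σ z n := by
      intro z
      rw [neg_dotProduct, dotProduct_comm]; rfl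
    rw [e1, e2, hf_add_left, hf_smul_left, hf_add_left, hf_smul_left, hwn, mul_zero, add_zero]
    module
  refine ⟨t₂ * t₁, κ₁ - hf σ n n, ?_, ?_, hact⟩
  · rw [mem_GUm]
    intro y y'
    rw [hact, hact]
    have hny' : hf σ n y' = σ (hf σ y' n) := hf_herm σ hσ n y'
    have hwy' : hf σ w y' = σ (hf σ y' w) := hf_herm σ hσ w y'
    simp only [hf_add_left, hf_sub_left, hf_smul_left, hf_add_right, hf_sub_right, hf_smul_right,
      hn, hw, hwn, hny', hwy', map_mul, map_sub, hnn, mul_zero, add_zero, sub_zero]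
    linear_combination (hf σ y w * σ (hf σ y' w)) * hκ₁
  · exact utpunipq_det_of_SL _ (Subgroup.mul_mem _ ht₂S ht₁S)

end Cfsg.Agent.Lib.helper6.UTP
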