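import Cfsg.Agent.Lib.Helper18.UTPUNIPQa

/-!
# UTP / UNIPQ (part 2): the commutator with `1 ⊗ (Siegel element)`
-/

set_option autoImplicit false
set_option linter.unusedVariables false
set_option linter.unusedSectionVars false

namespace Cfsg.Agent.Lib.helper6.UTP

open Matrix
open scoped Kronecker
open Cfsg.Agent.Lib.helper7.TP

variable {F : Type*} [Field F] {a b : ℕ}

theorem utpunipq_vmv {ι : Type} [Fintype ι] (u v x : ι → F) :
    Matrix.vecMulVec u v *ᵥ x = (v ⬝ᵥ x) • u := by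
  rw [Matrix.vecMulVec_mulVec, op_smul_eq_smul]

theorem utpunipq_ctr_neg_left (ψ : Fin b → F) (v : Fin a × Fin b → F) :
    ctr (-ψ) v = -ctr ψ v := by
  funext i
  simp [ctr]

theorem utpunipq_ten_neg_left (u : Fin a → F) (w : Fin b → F) : ten (-u) w = -ten u w := by
  funext p; simp [ten]

/-- the element `1 ⊗ s_n` and its action on `V`. -/
theorem utpunipq_ksiegel (σ : F ≃+* F) (hσ : Inv2 σ) (w n : Fin b → F) (hw : hf σ w w = 0)
    (hn : hf σ n w = 0) :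
    ∃ (s : Matrix.GeneralLinearGroup (Fin b) F) (S : Matrix.GeneralLinearGroup (Fin a × Fin b) F)
      (κ : F), s ∈ GUm σ (Fin b) ∧ (s : Matrix (Fin b) (Fin b) F).det = 1 ∧
      (S : Matrix (Fin a × Fin b) (Fin a × Fin b) F) =
        (1 : Matrix (Fin a) (Fin a) F) ⊗ₖ (s : Matrix (Fin b) (Fin b) F) ∧
      ∀ v, (S : Matrix (Fin a × Fin b) (Fin a × Fin b) F) *ᵥ v =
        v + ten (ctr (cj σ w) v) n - ten (ctr (cj σ n) v) w + κ • ten (ctr (cj σ w) v) w := by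
  obtain ⟨s, κ, hsU, hsd, hact⟩ := utpunipq_siegel σ hσ w n hw hn
  have hmat : (s : Matrix (Fin b) (Fin b) F) =
      1 + Matrix.vecMulVec n (cj σ w) + Matrix.vecMulVec w (-cj σ n) +
        κ • Matrix.vecMulVec w (cj σ w) := by
    rw [Matrix.ext_iff_mulVec]
    intro y
    have e1 : cj σ w ⬝ᵥ y = hf σ y w := by rw [dotProduct_comm]; rfl
    have e2 : -cj σ n ⬝ᵥ y = -hf σ y n := by
      rw [neg_dotProduct, dotProduct_comm]; rfl
    rw [hact, Matrix.add_mulVec, Matrix.add_mulVec, Matrix.add_mulVec, Matrix.one_mulVec,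
      Matrix.smul_mulVec, utpunipq_vmv, utpunipq_vmv, utpunipq_vmv, e1, e2]
    module
  have hdet : ((1 : Matrix (Fin a) (Fin a) F) ⊗ₖ (s : Matrix (Fin b) (Fin b) F)).det = 1 := by
    rw [Matrix.det_kronecker, hsd, Matrix.det_one, one_pow, one_pow, one_mul]
  have hdet0 : ((1 : Matrix (Fin a) (Fin a) F) ⊗ₖ (s : Matrix (Fin b) (Fin b) F)).det ≠ 0 := by
    rw [hdet]; exact one_ne_zero
  refine ⟨s, Matrix.GeneralLinearGroup.mkOfDetNeZero _ hdet0, κ, hsU, hsd, rfl, ?_⟩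
  intro v
  change ((1 : Matrix (Fin a) (Fin a) F) ⊗ₖ (s : Matrix (Fin b) (Fin b) F)) *ᵥ v = _
  rw [hmat, Matrix.kronecker_add, Matrix.kronecker_add, Matrix.kronecker_add,
    Matrix.kronecker_smul, Matrix.one_kronecker_one, Matrix.add_mulVec, Matrix.add_mulVec,
    Matrix.add_mulVec, Matrix.one_mulVec, Matrix.smul_mulVec, kron_vecMulVec_mulVec,
    kron_vecMulVec_mulVec, kron_vecMulVec_mulVec, utpunipq_ctr_neg_left]
  simp only [Matrix.one_mulVec, utpunipq_ten_neg_left]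
  abel

/-- the commutator of `g` with `1 ⊗ s_n` is a central element `ELm ζ w w*`; `ζ = Z(n) - Z(n)^*` is scalar. -/
theorem utpunipq_comm (σ : F ≃+* F) (hσ : Inv2 σ)
    (M : Subgroup (Matrix.GeneralLinearGroup (Fin a × Fin b) F))
    (hMS : M ≤ SUm σ (Fin a × Fin b)) (w w₂ n : Fin b → F) (hw0 : hf σ w w = 0)
    (hw2 : hf σ w₂ w = 1) (hn : hf σ n w = 0)
    (hUZ : ∀ g' : Matrix.GeneralLinearGroup (Fin a × Fin b) F, g' ∈ M →
      (∀ v : Fin a × Fin b → F,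
        (g' : Matrix (Fin a × Fin b) (Fin a × Fin b) F) *ᵥ v - v ∈ Bline (a := a) w) →
      ∃ c : F, σ c = -c ∧ (g' : Matrix (Fin a × Fin b) (Fin a × Fin b) F) =
        ELm (c • (1 : Matrix (Fin a) (Fin a) F)) w (cj σ w))
    (hKR : ∀ β : Matrix.GeneralLinearGroup (Fin b) F, β ∈ GUm σ (Fin b) →
      (β : Matrix (Fin b) (Fin b) F).det = 1 →
      ∀ g' : Matrix.GeneralLinearGroup (Fin a × Fin b) F,
        (g' : Matrix (Fin a × Fin b) (Fin a × Fin b) F) =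
          (1 : Matrix (Fin a) (Fin a) F) ⊗ₖ (β : Matrix (Fin b) (Fin b) F) → g' ∈ M)
    (g : Matrix.GeneralLinearGroup (Fin a × Fin b) F) (hg : g ∈ M)
    (h1 : ∀ u : Fin a → F, (g : Matrix (Fin a × Fin b) (Fin a × Fin b) F) *ᵥ ten u w = ten u w)
    (Z : (Fin b → F) → (Fin a → F) → (Fin a → F))
    (hZ : ∀ (u : Fin a → F) (y : Fin b → F), hf σ y w = 0 →
      (g : Matrix (Fin a × Fin b) (Fin a × Fin b) F) *ᵥ ten u y = ten u y + ten (Z y u) w) :
    ∃ c : F, ∀ u u' : Fin a → F, hf σ (Z n u) u' - hf σ u (Z n u') = c * hf σ u u' := by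
  have hgU : ∀ x y, hf σ ((g : Matrix (Fin a × Fin b) (Fin a × Fin b) F) *ᵥ x)
      ((g : Matrix (Fin a × Fin b) (Fin a × Fin b) F) *ᵥ y) = hf σ x y :=
    (mem_GUm σ g).1 (hMS hg).1
  obtain ⟨s, S, κ, hsU, hsd, hSm, hSact⟩ := utpunipq_ksiegel (a := a) σ hσ w n hw0 hn
  have hSM : S ∈ M := hKR s hsU hsd S hSm
  have hSU : ∀ x y, hf σ ((S : Matrix (Fin a × Fin b) (Fin a × Fin b) F) *ᵥ x)
      ((S : Matrix (Fin a × Fin b) (Fin a × Fin b) F) *ᵥ y) = hf σ x y :=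
    (mem_GUm σ S).1 (hMS hSM).1
  have hwn : hf σ w n = 0 := by rw [hf_herm σ hσ, hn, map_zero]
  have hw2' : hf σ w w₂ = 1 := by rw [hf_herm σ hσ, hw2, map_one]
  obtain ⟨G, hG⟩ : ∃ G : Matrix (Fin a × Fin b) (Fin a × Fin b) F,
      G = (g : Matrix (Fin a × Fin b) (Fin a × Fin b) F) := ⟨_, rfl⟩
  obtain ⟨Sm, hSmdef⟩ : ∃ Sm : Matrix (Fin a × Fin b) (Fin a × Fin b) F,
      Sm = (S : Matrix (Fin a × Fin b) (Fin a × Fin b) F) := ⟨_, rfl⟩
  rw [← hG] at hgU h1 hZ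
  rw [← hSmdef] at hSU hSact
  have hSw : ∀ u : Fin a → F, Sm *ᵥ ten u w = ten u w := by
    intro u
    rw [hSact, ctr_cj_ten, ctr_cj_ten, hw0, hwn, zero_smul]
    simp only [utpunipq_ten_zero_left, smul_zero, add_zero, sub_zero]
  have hSy : ∀ (u : Fin a → F) (y : Fin b → F), hf σ y w = 0 →
      Sm *ᵥ ten u y = ten u y - hf σ y n • ten u w := by
    intro u y hy
    rw [hSact, ctr_cj_ten, ctr_cj_ten, hy, zero_smul, ten_smul_left]
    simp only [utpunipq_ten_zero_left, smul_zero, add_zero]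
  obtain ⟨N, hNdef⟩ : ∃ N : Matrix (Fin a × Fin b) (Fin a × Fin b) F, N = G * Sm - Sm * G :=
    ⟨_, rfl⟩
  have hN : ∀ v, N *ᵥ v = G *ᵥ (Sm *ᵥ v) - Sm *ᵥ (G *ᵥ v) := by
    intro v
    rw [hNdef, Matrix.sub_mulVec, ← Matrix.mulVec_mulVec, ← Matrix.mulVec_mulVec]
  have hN1 : ∀ (u : Fin a → F) (y : Fin b → F), hf σ y w = 0 → N *ᵥ ten u y = 0 := by
    intro u y hy
    rw [hN, hSy u y hy, Matrix.mulVec_sub, Matrix.mulVec_smul, h1, hZ u y hy, Matrix.mulVec_add,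
      hSy u y hy, hSw]
    abel
  have hN2 : ∀ u : Fin a → F, N *ᵥ ten u w₂ =
      ten (Z n u + ctr (cj σ n) (G *ᵥ ten u w₂ - ten u w₂)) w := by
    intro u
    obtain ⟨D, hD⟩ : ∃ D : Fin a × Fin b → F, D = G *ᵥ ten u w₂ - ten u w₂ := ⟨_, rfl⟩
    have hGD : G *ᵥ ten u w₂ = ten u w₂ + D := by rw [hD]; abel
    have hD0 : ctr (cj σ w) D = 0 := by
      rw [hD, utpunipq_ctr_sub, utpunipq_perp σ hσ w G hgU h1, sub_self]
    have hSw2 : Sm *ᵥ ten u w₂ = ten u w₂ + ten u n - hf σ w₂ n • ten u w + κ • ten u w := by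
      rw [hSact, ctr_cj_ten, ctr_cj_ten, hw2, one_smul, ten_smul_left]
    have hSD : Sm *ᵥ D = D - ten (ctr (cj σ n) D) w := by
      rw [hSact, hD0]
      simp only [utpunipq_ten_zero_left, smul_zero, add_zero]
    rw [hN, hSw2, Matrix.mulVec_add, Matrix.mulVec_sub, Matrix.mulVec_add, Matrix.mulVec_smul,
      Matrix.mulVec_smul, h1, hZ u n hn, ← hD, hGD, Matrix.mulVec_add, hSw2, hSD, ten_add_left]
    abel
  have hker : ∀ v' : Fin a × Fin b → F, ctr (cj σ w) v' = 0 → N *ᵥ v' = 0 := by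
    intro v' hv'
    have := utpunipq_ind0 σ w w₂ hw2 (LinearMap.ker (Matrix.toLin' N)) (fun u y hy => by
      rw [LinearMap.mem_ker, Matrix.toLin'_apply]
      exact hN1 u y hy) v' hv'
    rwa [LinearMap.mem_ker, Matrix.toLin'_apply] at this
  have hN3 : N * (Sm * G) = N := by
    rw [Matrix.ext_iff_mulVec]
    intro v
    rw [← Matrix.mulVec_mulVec, ← Matrix.mulVec_mulVec]
    have h0 := hker (Sm *ᵥ (G *ᵥ v) - v) (by
      rw [utpunipq_ctr_sub, utpunipq_perp σ hσ w Sm hSU hSw, utpunipq_perp σ hσ w G hgU h1,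
        sub_self])
    rw [Matrix.mulVec_sub, sub_eq_zero] at h0
    exact h0
  obtain ⟨Gi, hGi⟩ : ∃ Gi : Matrix (Fin a × Fin b) (Fin a × Fin b) F,
      Gi = ((g⁻¹ : Matrix.GeneralLinearGroup (Fin a × Fin b) F) :
        Matrix (Fin a × Fin b) (Fin a × Fin b) F) := ⟨_, rfl⟩
  obtain ⟨Si, hSi⟩ : ∃ Si : Matrix (Fin a × Fin b) (Fin a × Fin b) F,
      Si = ((S⁻¹ : Matrix.GeneralLinearGroup (Fin a × Fin b) F) :
        Matrix (Fin a × Fin b) (Fin a × Fin b) F) := ⟨_, rfl⟩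
  have hGGi : G * Gi = 1 := by
    rw [hG, hGi, ← Units.val_mul, mul_inv_cancel, Units.val_one]
  have hSSi : Sm * Si = 1 := by
    rw [hSmdef, hSi, ← Units.val_mul, mul_inv_cancel, Units.val_one]
  have hCM : g * S * g⁻¹ * S⁻¹ ∈ M :=
    M.mul_mem (M.mul_mem (M.mul_mem hg hSM) (M.inv_mem hg)) (M.inv_mem hSM)
  have hCmat : ((g * S * g⁻¹ * S⁻¹ : Matrix.GeneralLinearGroup (Fin a × Fin b) F) :
      Matrix (Fin a × Fin b) (Fin a × Fin b) F) = 1 + N := by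
    rw [Units.val_mul, Units.val_mul, Units.val_mul, ← hG, ← hSmdef, ← hGi, ← hSi]
    have hGS : G * Sm = Sm * G + N := by rw [hNdef]; abel
    have hNN : N * Gi * Si = N := by
      calc N * Gi * Si = N * (Sm * G) * Gi * Si := by rw [hN3]
        _ = N * (Sm * (G * Gi) * Si) := by simp only [Matrix.mul_assoc]
        _ = N := by rw [hGGi, Matrix.mul_one, hSSi, Matrix.mul_one]
    calc G * Sm * Gi * Si = (Sm * G + N) * Gi * Si := by rw [hGS]
      _ = Sm * (G * Gi) * Si + N * Gi * Si := by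
          rw [Matrix.add_mul, Matrix.add_mul]
          simp only [Matrix.mul_assoc]
      _ = 1 + N := by rw [hGGi, Matrix.mul_one, hSSi, hNN]
  have hCB : ∀ v : Fin a × Fin b → F,
      ((g * S * g⁻¹ * S⁻¹ : Matrix.GeneralLinearGroup (Fin a × Fin b) F) :
        Matrix (Fin a × Fin b) (Fin a × Fin b) F) *ᵥ v - v ∈ Bline (a := a) w := by
    intro v
    rw [hCmat, Matrix.add_mulVec, Matrix.one_mulVec, add_sub_cancel_left]
    have := utpunipq_ind2 σ w w₂ hw2 (Submodule.comap (Matrix.toLin' N) (Bline (a := a) w))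
      (fun u => by
        rw [Submodule.mem_comap, Matrix.toLin'_apply, hN2]
        exact ⟨_, rfl⟩)
      (fun u y hy => by
        rw [Submodule.mem_comap, Matrix.toLin'_apply, hN1 u y hy]
        exact Submodule.zero_mem _) v
    rwa [Submodule.mem_comap, Matrix.toLin'_apply] at this
  obtain ⟨c, hc, hCE⟩ := hUZ _ hCM hCB
  have hζ : ∀ u : Fin a → F, Z n u + ctr (cj σ n) (G *ᵥ ten u w₂ - ten u w₂) = c • u := by
    intro u
    have e1 : ((g * S * g⁻¹ * S⁻¹ : Matrix.GeneralLinearGroup (Fin a × Fin b) F) :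
        Matrix (Fin a × Fin b) (Fin a × Fin b) F) *ᵥ ten u w₂ =
        ELm (c • (1 : Matrix (Fin a) (Fin a) F)) w (cj σ w) *ᵥ ten u w₂ := by rw [hCE]
    rw [hCmat, Matrix.add_mulVec, Matrix.one_mulVec, ELm_mulVec, ctr_cj_ten, hw2, one_smul,
      Matrix.smul_mulVec, Matrix.one_mulVec, hN2] at e1
    have e2 := add_left_cancel e1
    have e3 := congrArg (ctr (cj σ w₂)) e2
    rw [ctr_cj_ten, ctr_cj_ten, hw2', one_smul, one_smul] at e3
    exact e3
  have hiso : ∀ u u' : Fin a → F,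
      hf σ u (Z n u') + hf σ (ctr (cj σ n) (G *ᵥ ten u w₂ - ten u w₂)) u' = 0 := by
    intro u u'
    obtain ⟨D, hD⟩ : ∃ D : Fin a × Fin b → F, D = G *ᵥ ten u w₂ - ten u w₂ := ⟨_, rfl⟩
    have hGD : G *ᵥ ten u w₂ = ten u w₂ + D := by rw [hD]; abel
    have hD0 : ctr (cj σ w) D = 0 := by
      rw [hD, utpunipq_ctr_sub, utpunipq_perp σ hσ w G hgU h1, sub_self]
    have e := hgU (ten u w₂) (ten u' n)
    rw [← hD]
    rw [hGD, hZ u' n hn, hf_add_left, hf_add_right, hf_add_right, hf_ten, hf_ten, hw2, mul_one,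
      hf_ten_right σ D u' n, hf_ten_right σ D (Z n u') w, hD0, hf_zero_left, add_zero] at e
    linear_combination e
  refine ⟨c, fun u u' => ?_⟩
  have e1 : hf σ (Z n u + ctr (cj σ n) (G *ᵥ ten u w₂ - ten u w₂)) u' = hf σ (c • u) u' := by
    rw [hζ u]
  rw [hf_add_left, hf_smul_left] at e1
  have e2 := hiso u u'
  linear_combination e1 - e2

/-- `Z(n)` is scalar. -/
theorem utpunipq_scalar (σ : F ≃+* F) (hσ : Inv2 σ) (w : Fin b → F)
    (Z : (Fin b → F) → (Fin a → F) → (Fin a → F))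
    (hZs : ∀ (l : F) (n : Fin b → F) (u : Fin a → F), Z (l • n) u = l • Z n u)
    (hcomm : ∀ n' : Fin b → F, hf σ n' w = 0 →
      ∃ c : F, ∀ u u' : Fin a → F, hf σ (Z n' u) u' - hf σ u (Z n' u') = c * hf σ u u')
    (n : Fin b → F) (hn : hf σ n w = 0) : ∃ d : F, ∀ u : Fin a → F, Z n u = d • u := by
  obtain ⟨l, hl⟩ := hσ.moved
  obtain ⟨c₁, h1⟩ := hcomm n hn
  obtain ⟨c₂, h2⟩ := hcomm (l • n) (by rw [hf_smul_left, hn, mul_zero])
  have hne : l - σ l ≠ 0 := fun h => hl (sub_eq_zero.1 h).symm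
  refine ⟨(c₂ - σ l * c₁) / (l - σ l), fun u => ?_⟩
  rw [← sub_eq_zero]
  apply hf_nondeg' σ hσ
  intro u'
  rw [hf_sub_left, hf_smul_left]
  have e1 := h1 u u'
  have e2 := h2 u u'
  rw [hZs, hZs, hf_smul_left, hf_smul_right] at e2
  field_simp
  linear_combination e2 - σ l * e1

end Cfsg.Agent.Lib.helper6.UTP
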