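import Cfsg.Agent.Lib.Helper18.UTPUNIPQb

/-!
# UTP / UNIPQ (part 3): assembly
-/

set_option autoImplicit false
set_option linter.unusedVariables false
set_option linter.unusedSectionVars false

namespace Cfsg.Agent.Lib.helper6.UTP

open Matrix
open scoped Kronecker
open Cfsg.Agent.Lib.helper7.TP

variable {F : Type*} [Field F] {a b : ℕ}

/-- a vector perpendicular to `A ⊗ w^⊥` lies in `A ⊗ w`. -/
theorem utpunipq_dperp (σ : F ≃+* F) (hσ : Inv2 σ) (w w₂ : Fin b → F) (hw2 : hf σ w₂ w = 1)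
    (v' : Fin a × Fin b → F)
    (h : ∀ (u : Fin a → F) (y : Fin b → F), hf σ y w = 0 → hf σ v' (ten u y) = 0) :
    v' ∈ Bline (a := a) w := by
  have hw2' : hf σ w w₂ = 1 := by rw [hf_herm σ hσ, hw2, map_one]
  refine ⟨ctr (cj σ w₂) v', ?_⟩
  rw [← sub_eq_zero]
  apply hf_nondeg' σ hσ
  let P : Submodule F (Fin a × Fin b → F) :=
    { carrier := {x | hf σ (v' - ten (ctr (cj σ w₂) v') w) x = 0}
      add_mem' := by
        intro x y hx hy
        change hf σ _ (x + y) = 0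
        rw [hf_add_right, hx, hy, add_zero]
      zero_mem' := hf_zero_right σ _
      smul_mem' := by
        intro c x hx
        change hf σ _ (c • x) = 0
        rw [hf_smul_right, hx, mul_zero] }
  intro x
  have : x ∈ P := by
    apply utpunipq_ind2 σ w w₂ hw2 P
    · intro u
      change hf σ (v' - ten (ctr (cj σ w₂) v') w) (ten u w₂) = 0
      rw [hf_sub_left, hf_ten, hw2', mul_one, hf_ten_right, sub_self]
    · intro u y hy
      change hf σ (v' - ten (ctr (cj σ w₂) v') w) (ten u y) = 0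
      have hwy : hf σ w y = 0 := by rw [hf_herm σ hσ, hy, map_zero]
      rw [hf_sub_left, hf_ten, hwy, mul_zero, h u y hy, sub_zero]
  exact this

/-- UNIPQ with the statements of UNIPZ, KRON (`α = 1`) and BTV as hypotheses. -/
theorem utpunipq_core (σ : F ≃+* F) (hσ : Inv2 σ) (ha : 1 ≤ a)
    (M : Subgroup (Matrix.GeneralLinearGroup (Fin a × Fin b) F)) (hTM : T0u σ a b ≤ M)
    (hMS : M ≤ SUm σ (Fin a × Fin b))
    (w : Fin b → F) (hw : w ≠ 0) (h : cj σ w ⬝ᵥ w = 0)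
    (hUZ : ∀ g' : Matrix.GeneralLinearGroup (Fin a × Fin b) F, g' ∈ M →
      (∀ v : Fin a × Fin b → F,
        (g' : Matrix (Fin a × Fin b) (Fin a × Fin b) F) *ᵥ v - v ∈ Bline (a := a) w) →
      ∃ c : F, σ c = -c ∧ (g' : Matrix (Fin a × Fin b) (Fin a × Fin b) F) =
        ELm (c • (1 : Matrix (Fin a) (Fin a) F)) w (cj σ w))
    (hKR : ∀ β : Matrix.GeneralLinearGroup (Fin b) F, β ∈ GUm σ (Fin b) →
      (β : Matrix (Fin b) (Fin b) F).det = 1 →
      ∀ g' : Matrix.GeneralLinearGroup (Fin a × Fin b) F,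
        (g' : Matrix (Fin a × Fin b) (Fin a × Fin b) F) =
          (1 : Matrix (Fin a) (Fin a) F) ⊗ₖ (β : Matrix (Fin b) (Fin b) F) → g' ∈ T0u σ a b)
    (hBTV : ∀ c : F, σ c = -c →
      EL (c • (1 : Matrix (Fin a) (Fin a) F)) w (cj σ w) h ∈ T0u σ a b)
    (g : Matrix.GeneralLinearGroup (Fin a × Fin b) F) (hg : g ∈ M)
    (h1 : ∀ u : Fin a → F, (g : Matrix (Fin a × Fin b) (Fin a × Fin b) F) *ᵥ ten u w = ten u w)
    (h2 : ∀ (u : Fin a → F) (y : Fin b → F), hf σ y w = 0 →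
      (g : Matrix (Fin a × Fin b) (Fin a × Fin b) F) *ᵥ ten u y - ten u y ∈ Bline (a := a) w) :
    g ∈ K0 a b F := by
  classical
  have hw0 : hf σ w w = 0 := (iso_iff σ w).1 h
  -- a partner `w₂` of `w`
  obtain ⟨w₂, hw2⟩ : ∃ w₂ : Fin b → F, hf σ w₂ w = 1 := by
    have hex : ∃ x : Fin b → F, hf σ x w ≠ 0 := by
      by_contra hcon
      push Not at hcon
      exact hw (hf_nondeg σ w hcon)
    obtain ⟨x, hx⟩ := hex
    exact ⟨(hf σ x w)⁻¹ • x, by rw [hf_smul_left, inv_mul_cancel₀ hx]⟩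
  have hw2' : hf σ w w₂ = 1 := by rw [hf_herm σ hσ, hw2, map_one]
  obtain ⟨G, hG⟩ : ∃ G : Matrix (Fin a × Fin b) (Fin a × Fin b) F,
      G = (g : Matrix (Fin a × Fin b) (Fin a × Fin b) F) := ⟨_, rfl⟩
  have hgU : ∀ x y, hf σ ((g : Matrix (Fin a × Fin b) (Fin a × Fin b) F) *ᵥ x)
      ((g : Matrix (Fin a × Fin b) (Fin a × Fin b) F) *ᵥ y) = hf σ x y :=
    (mem_GUm σ g).1 (hMS hg).1
  -- the maps `Z(y)`
  obtain ⟨Z, hZdef⟩ : ∃ Z : (Fin b → F) → (Fin a → F) → (Fin a → F),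
      Z = fun y u => ctr (cj σ w₂)
        ((g : Matrix (Fin a × Fin b) (Fin a × Fin b) F) *ᵥ ten u y - ten u y) := ⟨_, rfl⟩
  have hZ : ∀ (u : Fin a → F) (y : Fin b → F), hf σ y w = 0 →
      (g : Matrix (Fin a × Fin b) (Fin a × Fin b) F) *ᵥ ten u y = ten u y + ten (Z y u) w := by
    intro u y hy
    obtain ⟨u', hu'⟩ := h2 u y hy
    have e : Z y u = u' := by
      rw [hZdef]
      change ctr (cj σ w₂) ((g : Matrix (Fin a × Fin b) (Fin a × Fin b) F) *ᵥ ten u y - ten u y)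
        = u'
      rw [hu', ctr_cj_ten, hw2', one_smul]
    rw [e, ← hu']
    abel
  have hZs : ∀ (l : F) (n : Fin b → F) (u : Fin a → F), Z (l • n) u = l • Z n u := by
    intro l n u
    rw [hZdef]
    change ctr (cj σ w₂) ((g : Matrix (Fin a × Fin b) (Fin a × Fin b) F) *ᵥ ten u (l • n) -
      ten u (l • n)) = l • ctr (cj σ w₂)
        ((g : Matrix (Fin a × Fin b) (Fin a × Fin b) F) *ᵥ ten u n - ten u n)
    rw [ten_smul_right, Matrix.mulVec_smul, ← smul_sub, ctr_smul]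
  have hZa : ∀ (y y' : Fin b → F) (u : Fin a → F), Z (y + y') u = Z y u + Z y' u := by
    intro y y' u
    rw [hZdef]
    change ctr (cj σ w₂) ((g : Matrix (Fin a × Fin b) (Fin a × Fin b) F) *ᵥ ten u (y + y') -
      ten u (y + y')) = ctr (cj σ w₂)
        ((g : Matrix (Fin a × Fin b) (Fin a × Fin b) F) *ᵥ ten u y - ten u y) +
      ctr (cj σ w₂) ((g : Matrix (Fin a × Fin b) (Fin a × Fin b) F) *ᵥ ten u y' - ten u y')
    rw [ten_add_right, Matrix.mulVec_add, add_sub_add_comm, ctr_add]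
  have hZw : ∀ u : Fin a → F, Z w u = 0 := by
    intro u
    rw [hZdef]
    change ctr (cj σ w₂) ((g : Matrix (Fin a × Fin b) (Fin a × Fin b) F) *ᵥ ten u w - ten u w) = 0
    rw [h1, sub_self, utpunipq_ctr_zero]
  have hKRM : ∀ β : Matrix.GeneralLinearGroup (Fin b) F, β ∈ GUm σ (Fin b) →
      (β : Matrix (Fin b) (Fin b) F).det = 1 →
      ∀ g' : Matrix.GeneralLinearGroup (Fin a × Fin b) F,
        (g' : Matrix (Fin a × Fin b) (Fin a × Fin b) F) =
          (1 : Matrix (Fin a) (Fin a) F) ⊗ₖ (β : Matrix (Fin b) (Fin b) F) → g' ∈ M :=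
    fun β hβ hd g' hg' => hTM (hKR β hβ hd g' hg')
  have hcomm : ∀ n' : Fin b → F, hf σ n' w = 0 →
      ∃ c : F, ∀ u u' : Fin a → F, hf σ (Z n' u) u' - hf σ u (Z n' u') = c * hf σ u u' :=
    fun n' hn' => utpunipq_comm σ hσ M hMS w w₂ n' hw0 hw2 hn' hUZ hKRM g hg h1 Z hZ
  have hsc : ∀ n : Fin b → F, hf σ n w = 0 → ∃ d : F, ∀ u : Fin a → F, Z n u = d • u :=
    fun n hn => utpunipq_scalar σ hσ w Z hZs hcomm n hn
  -- the linear functional `c`
  let i₀ : Fin a := ⟨0, by omega⟩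
  let e₀ : Fin a → F := Pi.single i₀ 1
  let cL : (Fin b → F) →ₗ[F] F :=
    { toFun := fun y => Z y e₀ i₀
      map_add' := by
        intro y y'
        change Z (y + y') e₀ i₀ = Z y e₀ i₀ + Z y' e₀ i₀
        rw [hZa]
        rfl
      map_smul' := by
        intro l y
        change Z (l • y) e₀ i₀ = l • Z y e₀ i₀
        rw [hZs]
        rfl }
  have hcL : ∀ n : Fin b → F, hf σ n w = 0 → ∀ u : Fin a → F, Z n u = cL n • u := by
    intro n hn u
    obtain ⟨d, hd⟩ := hsc n hn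
    have : cL n = d := by
      change Z n e₀ i₀ = d
      rw [hd]
      simp [e₀]
    rw [this]
    exact hd u
  obtain ⟨γ, hγ⟩ : ∃ γ : Fin b → F, ∀ y : Fin b → F, cL y = y ⬝ᵥ γ := by
    refine ⟨fun i => cL (fun j => if i = j then 1 else 0), fun y => ?_⟩
    rw [LinearMap.pi_apply_eq_sum_univ cL y]
    simp only [dotProduct, smul_eq_mul]
  obtain ⟨n₁, hn₁def⟩ : ∃ n₁ : Fin b → F, n₁ = -cj σ γ := ⟨_, rfl⟩
  have hn₁ : ∀ y : Fin b → F, hf σ y n₁ = -cL y := by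
    intro y
    rw [hγ, hn₁def, hf, cj_neg, cj_cj σ hσ, dotProduct_neg]
  have hn₁w : hf σ n₁ w = 0 := by
    rw [hf_herm σ hσ, hn₁ w]
    change σ (-(Z w e₀ i₀)) = 0
    rw [hZw]
    simp
  -- the element `1 ⊗ s_{n₁}` agrees with `g` on `A ⊗ w^⊥`
  obtain ⟨s, S, κ, hsU, hsd, hSm, hSact⟩ := utpunipq_ksiegel (a := a) σ hσ w n₁ hw0 hn₁w
  have hST : S ∈ T0u σ a b := hKR s hsU hsd S hSm
  have hSM : S ∈ M := hTM hST
  have hSG : ∀ (u : Fin a → F) (y : Fin b → F), hf σ y w = 0 →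
      (S : Matrix (Fin a × Fin b) (Fin a × Fin b) F) *ᵥ ten u y =
        (g : Matrix (Fin a × Fin b) (Fin a × Fin b) F) *ᵥ ten u y := by
    intro u y hy
    rw [hSact, ctr_cj_ten, ctr_cj_ten, hy, zero_smul, hZ u y hy, hcL y hy u, hn₁ y, ten_smul_left,
      ten_smul_left]
    simp only [utpunipq_ten_zero_left, smul_zero, add_zero]
    module
  -- `g' = S⁻¹ g` is in the centre of the radical
  have hg'M : S⁻¹ * g ∈ M := M.mul_mem (M.inv_mem hSM) hg
  have hg'U : ∀ x y, hf σ (((S⁻¹ * g : Matrix.GeneralLinearGroup (Fin a × Fin b) F) :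
      Matrix (Fin a × Fin b) (Fin a × Fin b) F) *ᵥ x)
      (((S⁻¹ * g : Matrix.GeneralLinearGroup (Fin a × Fin b) F) :
      Matrix (Fin a × Fin b) (Fin a × Fin b) F) *ᵥ y) = hf σ x y :=
    (mem_GUm σ _).1 (hMS hg'M).1
  have hfix : ∀ (u : Fin a → F) (y : Fin b → F), hf σ y w = 0 →
      ((S⁻¹ * g : Matrix.GeneralLinearGroup (Fin a × Fin b) F) :
        Matrix (Fin a × Fin b) (Fin a × Fin b) F) *ᵥ ten u y = ten u y := by
    intro u y hy
    rw [utpxsapi_mul_mv, ← hSG u y hy, utpxsapi_inv_mv]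
  have hgB : ∀ v : Fin a × Fin b → F,
      ((S⁻¹ * g : Matrix.GeneralLinearGroup (Fin a × Fin b) F) :
        Matrix (Fin a × Fin b) (Fin a × Fin b) F) *ᵥ v - v ∈ Bline (a := a) w := by
    intro v
    apply utpunipq_dperp σ hσ w w₂ hw2
    intro u y hy
    rw [hf_sub_left]
    nth_rewrite 1 [← hfix u y hy]
    rw [hg'U, sub_self]
  obtain ⟨c', hc', hg'E⟩ := hUZ _ hg'M hgB
  have hg'eq : S⁻¹ * g = EL (c' • (1 : Matrix (Fin a) (Fin a) F)) w (cj σ w) h :=
    Units.ext hg'E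
  have hgeq : g = S * (S⁻¹ * g) := by group
  rw [hgeq, hg'eq]
  exact (K0 a b F).mul_mem hST.1 (hBTV c' hc').1

end Cfsg.Agent.Lib.helper6.UTP
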