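import Cfsg.Agent.Lib.Helper18.UTPUNIPQcore
import Cfsg.Agent.Lib.helper4.UTPUNIPZ
import Cfsg.Agent.Lib.Helper19.UTPKRON

/-!
# UTP / UNIPQ : the explicit shape of the elements of `M ∩ U_L` (for STAB)
-/

set_option autoImplicit false
set_option linter.unusedVariables false
set_option linter.unusedSectionVars false

namespace Cfsg.Agent.Lib.helper6.UTP

open Matrix
open scoped Kronecker
open Cfsg.Agent.Lib.helper7.TP

variable {F : Type*} [Field F] {a b : ℕ}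

/-- the explicit shape of an element of `M ∩ U_L`: `g = (1 ⊗ s_{n₁}) * ELm (c' • 1) w w*` (UNIPZ, KRON (`α = 1`) as hypotheses). -/
theorem utpunipq_split (σ : F ≃+* F) (hσ : Inv2 σ) (ha : 1 ≤ a)
    (M : Subgroup (Matrix.GeneralLinearGroup (Fin a × Fin b) F)) (hTM : T0u σ a b ≤ M)
    (hMS : M ≤ SUm σ (Fin a × Fin b))
    (w : Fin b → F) (hw : w ≠ 0) (h : cj σ w ⬝ᵥ w = 0)
    (hUZ : ∀ g' : Matrix.GeneralLinearGroup (Fin a × Fin b) F, g' ∈ M →
      (∀ v : Fin a × Fin b → F,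
        (g' : Matrix (Fin a × Fin b) (Fin a × Fin b) F) *ᵥ v - v ∈ Bline (a := a) w) →
      ∃ c : F, σ c = -c ∧ (g' : Matrix (Fin a × Fin b) (Fin a × Fin b) F) =
        ELm (c • (1 : Matrix (Fin a) (Fin a) F)) w (cj σ w))
    (hKR : ∀ β : Matrix.GeneralLinearGroup (Fin b) F, β ∈ GUm σ (Fin b) →
      (β : Matrix (Fin b) (Fin b) F).det = 1 →
      ∀ g' : Matrix.GeneralLinearGroup (Fin a × Fin b) F,
        (g' : Matrix (Fin a × Fin b) (Fin a × Fin b) F) =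
          (1 : Matrix (Fin a) (Fin a) F) ⊗ₖ (β : Matrix (Fin b) (Fin b) F) → g' ∈ T0u σ a b)
    (g : Matrix.GeneralLinearGroup (Fin a × Fin b) F) (hg : g ∈ M)
    (h1 : ∀ u : Fin a → F, (g : Matrix (Fin a × Fin b) (Fin a × Fin b) F) *ᵥ ten u w = ten u w)
    (h2 : ∀ (u : Fin a → F) (y : Fin b → F), hf σ y w = 0 →
      (g : Matrix (Fin a × Fin b) (Fin a × Fin b) F) *ᵥ ten u y - ten u y ∈ Bline (a := a) w) :
    ∃ (n₁ : Fin b → F) (S : Matrix.GeneralLinearGroup (Fin a × Fin b) F) (κ c' : F),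
      hf σ n₁ w = 0 ∧ S ∈ T0u σ a b ∧
      (∀ v, (S : Matrix (Fin a × Fin b) (Fin a × Fin b) F) *ᵥ v =
        v + ten (ctr (cj σ w) v) n₁ - ten (ctr (cj σ n₁) v) w + κ • ten (ctr (cj σ w) v) w) ∧
      σ c' = -c' ∧
      ((S⁻¹ * g : Matrix.GeneralLinearGroup (Fin a × Fin b) F) :
        Matrix (Fin a × Fin b) (Fin a × Fin b) F) =
          ELm (c' • (1 : Matrix (Fin a) (Fin a) F)) w (cj σ w) := by
  classical
  have hw0 : hf σ w w = 0 := (iso_iff σ w).1 h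
  -- a partner `w₂` of `w`
  obtain ⟨w₂, hw2⟩ : ∃ w₂ : Fin b → F, hf σ w₂ w = 1 := by
    have hex : ∃ x : Fin b → F, hf σ x w ≠ 0 := by
      by_contra hcon
      push Not at hcon
      exact hw (hf_nondeg σ w hcon)
    obtain ⟨x, hx⟩ := hex
    exact ⟨(hf σ x w)⁻¹ • x, by rw [hf_smul_left, inv_mul_cancel₀ hx]⟩
  have hw2' : hf σ w w₂ = 1 := by rw [hf_herm σ hσ, hw2, map_one]
  obtain ⟨G, hG⟩ : ∃ G : Matrix (Fin a × Fin b) (Fin a × Fin b) F,
      G = (g : Matrix (Fin a × Fin b) (Fin a × Fin b) F) := ⟨_, rfl⟩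
  have hgU : ∀ x y, hf σ ((g : Matrix (Fin a × Fin b) (Fin a × Fin b) F) *ᵥ x)
      ((g : Matrix (Fin a × Fin b) (Fin a × Fin b) F) *ᵥ y) = hf σ x y :=
    (mem_GUm σ g).1 (hMS hg).1
  -- the maps `Z(y)`
  obtain ⟨Z, hZdef⟩ : ∃ Z : (Fin b → F) → (Fin a → F) → (Fin a → F),
      Z = fun y u => ctr (cj σ w₂)
        ((g : Matrix (Fin a × Fin b) (Fin a × Fin b) F) *ᵥ ten u y - ten u y) := ⟨_, rfl⟩
  have hZ : ∀ (u : Fin a → F) (y : Fin b → F), hf σ y w = 0 →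
      (g : Matrix (Fin a × Fin b) (Fin a × Fin b) F) *ᵥ ten u y = ten u y + ten (Z y u) w := by
    intro u y hy
    obtain ⟨u', hu'⟩ := h2 u y hy
    have e : Z y u = u' := by
      rw [hZdef]
      change ctr (cj σ w₂) ((g : Matrix (Fin a × Fin b) (Fin a × Fin b) F) *ᵥ ten u y - ten u y)
        = u'
      rw [hu', ctr_cj_ten, hw2', one_smul]
    rw [e, ← hu']
    abel
  have hZs : ∀ (l : F) (n : Fin b → F) (u : Fin a → F), Z (l • n) u = l • Z n u := by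
    intro l n u
    rw [hZdef]
    change ctr (cj σ w₂) ((g : Matrix (Fin a × Fin b) (Fin a × Fin b) F) *ᵥ ten u (l • n) -
      ten u (l • n)) = l • ctr (cj σ w₂)
        ((g : Matrix (Fin a × Fin b) (Fin a × Fin b) F) *ᵥ ten u n - ten u n)
    rw [ten_smul_right, Matrix.mulVec_smul, ← smul_sub, ctr_smul]
  have hZa : ∀ (y y' : Fin b → F) (u : Fin a → F), Z (y + y') u = Z y u + Z y' u := by
    intro y y' u
    rw [hZdef]
    change ctr (cj σ w₂) ((g : Matrix (Fin a × Fin b) (Fin a × Fin b) F) *ᵥ ten u (y + y') -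
      ten u (y + y')) = ctr (cj σ w₂)
        ((g : Matrix (Fin a × Fin b) (Fin a × Fin b) F) *ᵥ ten u y - ten u y) +
      ctr (cj σ w₂) ((g : Matrix (Fin a × Fin b) (Fin a × Fin b) F) *ᵥ ten u y' - ten u y')
    rw [ten_add_right, Matrix.mulVec_add, add_sub_add_comm, ctr_add]
  have hZw : ∀ u : Fin a → F, Z w u = 0 := by
    intro u
    rw [hZdef]
    change ctr (cj σ w₂) ((g : Matrix (Fin a × Fin b) (Fin a × Fin b) F) *ᵥ ten u w - ten u w) = 0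
    rw [h1, sub_self, utpunipq_ctr_zero]
  have hKRM : ∀ β : Matrix.GeneralLinearGroup (Fin b) F, β ∈ GUm σ (Fin b) →
      (β : Matrix (Fin b) (Fin b) F).det = 1 →
      ∀ g' : Matrix.GeneralLinearGroup (Fin a × Fin b) F,
        (g' : Matrix (Fin a × Fin b) (Fin a × Fin b) F) =
          (1 : Matrix (Fin a) (Fin a) F) ⊗ₖ (β : Matrix (Fin b) (Fin b) F) → g' ∈ M :=
    fun β hβ hd g' hg' => hTM (hKR β hβ hd g' hg')
  have hcomm : ∀ n' : Fin b → F, hf σ n' w = 0 →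
      ∃ c : F, ∀ u u' : Fin a → F, hf σ (Z n' u) u' - hf σ u (Z n' u') = c * hf σ u u' :=
    fun n' hn' => utpunipq_comm σ hσ M hMS w w₂ n' hw0 hw2 hn' hUZ hKRM g hg h1 Z hZ
  have hsc : ∀ n : Fin b → F, hf σ n w = 0 → ∃ d : F, ∀ u : Fin a → F, Z n u = d • u :=
    fun n hn => utpunipq_scalar σ hσ w Z hZs hcomm n hn
  -- the linear functional `c`
  let i₀ : Fin a := ⟨0, by omega⟩
  let e₀ : Fin a → F := Pi.single i₀ 1
  let cL : (Fin b → F) →ₗ[F] F :=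
    { toFun := fun y => Z y e₀ i₀
      map_add' := by
        intro y y'
        change Z (y + y') e₀ i₀ = Z y e₀ i₀ + Z y' e₀ i₀
        rw [hZa]
        rfl
      map_smul' := by
        intro l y
        change Z (l • y) e₀ i₀ = l • Z y e₀ i₀
        rw [hZs]
        rfl }
  have hcL : ∀ n : Fin b → F, hf σ n w = 0 → ∀ u : Fin a → F, Z n u = cL n • u := by
    intro n hn u
    obtain ⟨d, hd⟩ := hsc n hn
    have : cL n = d := by
      change Z n e₀ i₀ = d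
      rw [hd]
      simp [e₀]
    rw [this]
    exact hd u
  obtain ⟨γ, hγ⟩ : ∃ γ : Fin b → F, ∀ y : Fin b → F, cL y = y ⬝ᵥ γ := by
    refine ⟨fun i => cL (fun j => if i = j then 1 else 0), fun y => ?_⟩
    rw [LinearMap.pi_apply_eq_sum_univ cL y]
    simp only [dotProduct, smul_eq_mul]
  obtain ⟨n₁, hn₁def⟩ : ∃ n₁ : Fin b → F, n₁ = -cj σ γ := ⟨_, rfl⟩
  have hn₁ : ∀ y : Fin b → F, hf σ y n₁ = -cL y := by
    intro y
    rw [hγ, hn₁def, hf, cj_neg, cj_cj σ hσ, dotProduct_neg]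
  have hn₁w : hf σ n₁ w = 0 := by
    rw [hf_herm σ hσ, hn₁ w]
    change σ (-(Z w e₀ i₀)) = 0
    rw [hZw]
    simp
  -- the element `1 ⊗ s_{n₁}` agrees with `g` on `A ⊗ w^⊥`
  obtain ⟨s, S, κ, hsU, hsd, hSm, hSact⟩ := utpunipq_ksiegel (a := a) σ hσ w n₁ hw0 hn₁w
  have hST : S ∈ T0u σ a b := hKR s hsU hsd S hSm
  have hSM : S ∈ M := hTM hST
  have hSG : ∀ (u : Fin a → F) (y : Fin b → F), hf σ y w = 0 →
      (S : Matrix (Fin a × Fin b) (Fin a × Fin b) F) *ᵥ ten u y =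
        (g : Matrix (Fin a × Fin b) (Fin a × Fin b) F) *ᵥ ten u y := by
    intro u y hy
    rw [hSact, ctr_cj_ten, ctr_cj_ten, hy, zero_smul, hZ u y hy, hcL y hy u, hn₁ y, ten_smul_left,
      ten_smul_left]
    simp only [utpunipq_ten_zero_left, smul_zero, add_zero]
    module
  -- `g' = S⁻¹ g` is in the centre of the radical
  have hg'M : S⁻¹ * g ∈ M := M.mul_mem (M.inv_mem hSM) hg
  have hg'U : ∀ x y, hf σ (((S⁻¹ * g : Matrix.GeneralLinearGroup (Fin a × Fin b) F) :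
      Matrix (Fin a × Fin b) (Fin a × Fin b) F) *ᵥ x)
      (((S⁻¹ * g : Matrix.GeneralLinearGroup (Fin a × Fin b) F) :
      Matrix (Fin a × Fin b) (Fin a × Fin b) F) *ᵥ y) = hf σ x y :=
    (mem_GUm σ _).1 (hMS hg'M).1
  have hfix : ∀ (u : Fin a → F) (y : Fin b → F), hf σ y w = 0 →
      ((S⁻¹ * g : Matrix.GeneralLinearGroup (Fin a × Fin b) F) :
        Matrix (Fin a × Fin b) (Fin a × Fin b) F) *ᵥ ten u y = ten u y := by
    intro u y hy
    rw [utpxsapi_mul_mv, ← hSG u y hy, utpxsapi_inv_mv]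
  have hgB : ∀ v : Fin a × Fin b → F,
      ((S⁻¹ * g : Matrix.GeneralLinearGroup (Fin a × Fin b) F) :
        Matrix (Fin a × Fin b) (Fin a × Fin b) F) *ᵥ v - v ∈ Bline (a := a) w := by
    intro v
    apply utpunipq_dperp σ hσ w w₂ hw2
    intro u y hy
    rw [hf_sub_left]
    nth_rewrite 1 [← hfix u y hy]
    rw [hg'U, sub_self]
  obtain ⟨c', hc', hg'E⟩ := hUZ _ hg'M hgB
  exact ⟨n₁, S, κ, c', hn₁w, hST, hSact, hc', hg'E⟩

/-- every element of `M ∩ U_L` acts as `v ↦ v + ten (ctr w* v) n₁ - ten (ctr n₁* v) w + κ • ten (ctr w* v) w`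
for some `n₁ ⊥ w` (it is `1 ⊗ (Siegel-type element)`). -/
theorem utpunipq_form (σ : F ≃+* F) (hσ : Inv2 σ) (ha : 1 ≤ a)
    (M : Subgroup (Matrix.GeneralLinearGroup (Fin a × Fin b) F)) (hTM : T0u σ a b ≤ M)
    (hMS : M ≤ SUm σ (Fin a × Fin b))
    (w : Fin b → F) (hw : w ≠ 0) (h : cj σ w ⬝ᵥ w = 0)
    (hUZ : ∀ g' : Matrix.GeneralLinearGroup (Fin a × Fin b) F, g' ∈ M →
      (∀ v : Fin a × Fin b → F,
        (g' : Matrix (Fin a × Fin b) (Fin a × Fin b) F) *ᵥ v - v ∈ Bline (a := a) w) →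
      ∃ c : F, σ c = -c ∧ (g' : Matrix (Fin a × Fin b) (Fin a × Fin b) F) =
        ELm (c • (1 : Matrix (Fin a) (Fin a) F)) w (cj σ w))
    (hKR : ∀ β : Matrix.GeneralLinearGroup (Fin b) F, β ∈ GUm σ (Fin b) →
      (β : Matrix (Fin b) (Fin b) F).det = 1 →
      ∀ g' : Matrix.GeneralLinearGroup (Fin a × Fin b) F,
        (g' : Matrix (Fin a × Fin b) (Fin a × Fin b) F) =
          (1 : Matrix (Fin a) (Fin a) F) ⊗ₖ (β : Matrix (Fin b) (Fin b) F) → g' ∈ T0u σ a b)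
    (g : Matrix.GeneralLinearGroup (Fin a × Fin b) F) (hg : g ∈ M)
    (h1 : ∀ u : Fin a → F, (g : Matrix (Fin a × Fin b) (Fin a × Fin b) F) *ᵥ ten u w = ten u w)
    (h2 : ∀ (u : Fin a → F) (y : Fin b → F), hf σ y w = 0 →
      (g : Matrix (Fin a × Fin b) (Fin a × Fin b) F) *ᵥ ten u y - ten u y ∈ Bline (a := a) w) :
    ∃ (n₁ : Fin b → F) (κ' : F), hf σ n₁ w = 0 ∧
      ∀ v, (g : Matrix (Fin a × Fin b) (Fin a × Fin b) F) *ᵥ v =
        v + ten (ctr (cj σ w) v) n₁ - ten (ctr (cj σ n₁) v) w + κ' • ten (ctr (cj σ w) v) w := by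
  obtain ⟨n₁, S, κ, c', hn₁w, hST, hSact, hc', hE⟩ :=
    utpunipq_split σ hσ ha M hTM hMS w hw h hUZ hKR g hg h1 h2
  have hw0 : hf σ w w = 0 := (iso_iff σ w).1 h
  have hwn : hf σ w n₁ = 0 := by rw [hf_herm σ hσ, hn₁w, map_zero]
  refine ⟨n₁, κ + c', hn₁w, fun v => ?_⟩
  have e : (g : Matrix (Fin a × Fin b) (Fin a × Fin b) F) *ᵥ v =
      (S : Matrix (Fin a × Fin b) (Fin a × Fin b) F) *ᵥ
        (((S⁻¹ * g : Matrix.GeneralLinearGroup (Fin a × Fin b) F) :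
          Matrix (Fin a × Fin b) (Fin a × Fin b) F) *ᵥ v) := by
    rw [← utpxsapi_mul_mv, mul_inv_cancel_left]
  rw [e, hE, ELm_mulVec, Matrix.smul_mulVec, Matrix.one_mulVec, hSact, ctr_add, ctr_add, ctr_cj_ten,
    ctr_cj_ten, hw0, hwn, zero_smul]
  simp only [add_zero, ten_smul_left, add_smul]
  abel

/-- `utpunipq_form` with UNIPZ and KRON plugged in. -/
theorem utpunipq_shape (σ : F ≃+* F) (hσ : Inv2 σ) (ha : 1 ≤ a)
    (M : Subgroup (Matrix.GeneralLinearGroup (Fin a × Fin b) F)) (hTM : T0u σ a b ≤ M)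
    (hMS : M ≤ SUm σ (Fin a × Fin b)) (hNT : NTu σ M)
    (w : Fin b → F) (hw : w ≠ 0) (h : cj σ w ⬝ᵥ w = 0)
    (g : Matrix.GeneralLinearGroup (Fin a × Fin b) F) (hg : g ∈ M)
    (h1 : ∀ u : Fin a → F, (g : Matrix (Fin a × Fin b) (Fin a × Fin b) F) *ᵥ ten u w = ten u w)
    (h2 : ∀ (u : Fin a → F) (y : Fin b → F), hf σ y w = 0 →
      (g : Matrix (Fin a × Fin b) (Fin a × Fin b) F) *ᵥ ten u y - ten u y ∈ Bline (a := a) w) :
    ∃ (n₁ : Fin b → F) (κ' : F), hf σ n₁ w = 0 ∧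
      ∀ v, (g : Matrix (Fin a × Fin b) (Fin a × Fin b) F) *ᵥ v =
        v + ten (ctr (cj σ w) v) n₁ - ten (ctr (cj σ n₁) v) w + κ' • ten (ctr (cj σ w) v) w :=
  utpunipq_form σ hσ ha M hTM hMS w hw h
    (fun g' hg' hB => unipz σ hσ ha M hMS hNT w hw h g' hg' hB)
    (fun β hβ hd g' hg' => kron_mem σ hσ 1 β (Subgroup.one_mem _) hβ
      (by rw [hd, Units.val_one, Matrix.det_one, one_pow, one_pow, one_mul]) g'
      (by rw [hg', Units.val_one]))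
    g hg h1 h2

end Cfsg.Agent.Lib.helper6.UTP
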