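import Mathlib

set_option autoImplicit false

/-! Concrete facts about `Z₂ × S₄`, all by `decide`. -/

namespace Cfsg.Agent.Lib.Helper18.ZS4

open Equiv

abbrev K := Multiplicative (ZMod 2) × Equiv.Perm (Fin 4)

def t0 : K := (Multiplicative.ofAdd 1, 1)
def z0 : K := (1, swap 0 2 * swap 1 3)
def s0 : K := (1, swap 0 2)
def r0 : K := (1, swap 0 1 * swap 1 2 * swap 2 3)
def y0 : K := (1, swap 0 1 * swap 1 2)

set_option maxRecDepth 100000 in
theorem card_K : Fintype.card K = 48 := by decide

set_option maxRecDepth 100000 in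
theorem center_K : ∀ k : K, (∀ x : K, k * x = x * k) → k = 1 ∨ k = t0 := by decide

set_option maxRecDepth 100000 in
theorem t0_central : ∀ x : K, t0 * x = x * t0 := by decide

set_option maxRecDepth 100000 in
theorem t0_ne_one : t0 ≠ 1 := by decide

set_option maxRecDepth 100000 in
theorem t0_sq : t0 * t0 = 1 := by decide

set_option maxRecDepth 100000 in
theorem z0_ne_one : z0 ≠ 1 := by decide

set_option maxRecDepth 100000 in
theorem z0_sq : z0 * z0 = 1 := by decide

set_option maxRecDepth 100000 in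
theorem s0_sq : s0 * s0 = 1 := by decide

set_option maxRecDepth 100000 in
theorem r0_sq : r0 * r0 = z0 := by decide

set_option maxRecDepth 100000 in
theorem r0_comm_z0 : r0 * z0 = z0 * r0 := by decide

set_option maxRecDepth 100000 in
theorem s0_comm_z0 : s0 * z0 = z0 * s0 := by decide

set_option maxRecDepth 100000 in
theorem comm_r0_s0 : r0 * s0 * r0⁻¹ * s0⁻¹ = z0 := by decide

set_option maxRecDepth 100000 in
theorem card_cent_z0 : Fintype.card {k : K // k * z0 = z0 * k} = 16 := by decide

set_option maxRecDepth 100000 in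
theorem comm_T0 : ∀ a b : K, a * z0 = z0 * a → b * z0 = z0 * b →
    a * b * a⁻¹ * b⁻¹ = 1 ∨ a * b * a⁻¹ * b⁻¹ = z0 := by decide

set_option maxRecDepth 100000 in
theorem y0_cube : y0 * y0 * y0 = 1 := by decide

set_option maxRecDepth 100000 in
theorem y0_ne_one : y0 ≠ 1 := by decide

/-- the three elements `(1, double transposition)` -/
def isDbl (w : K) : Bool :=
  w == z0 || w == ((1, swap 0 1 * swap 2 3) : K) || w == ((1, swap 0 3 * swap 1 2) : K)

set_option maxRecDepth 100000 in
theorem dbl_conj : ∀ w : K, isDbl w = true → ∃ c : K, w = c * z0 * c⁻¹ := by decide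

set_option maxRecDepth 100000 in
set_option synthInstance.maxSize 100000 in
set_option synthInstance.maxHeartbeats 0 in
theorem kf2 : ∀ A B : K, (A * A = 1 ∧ B * B = 1 ∧ A * B = B * A ∧ A ≠ 1 ∧ A ≠ t0 ∧ B ≠ 1 ∧ B ≠ t0 ∧
    B ≠ A ∧ B ≠ t0 * A) →
    (isDbl A || isDbl B || isDbl (A * B) || isDbl (t0 * A) || isDbl (t0 * B) ||
      isDbl (t0 * A * B)) = true := by
  decide

set_option maxRecDepth 100000 in
theorem r0_conj_s0 : r0 * s0 * r0⁻¹ = s0 * z0 := by decide

set_option maxRecDepth 100000 in
theorem s0_ne_t0 : s0 ≠ t0 := by decide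

set_option maxRecDepth 100000 in
theorem s0_ne_one : s0 ≠ 1 := by decide

end Cfsg.Agent.Lib.Helper18.ZS4
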