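import Mathlib
import Cfsg.Agent.Lib.Helper18.ZS4K

set_option autoImplicit false

namespace Cfsg.Agent.Lib.Helper18.ZS4

open Subgroup

variable {G : Type*} [Group G] {t : G} (e : ↥(centralizer ({t} : Set G)) ≃* K)

/-- the inclusion of `Z₂ × S₄` in `G` given by `e` -/
def inc : K →* G := (centralizer ({t} : Set G)).subtype.comp e.symm.toMonoidHom

theorem inc_apply (k : K) : inc e k = ((e.symm k : ↥(centralizer ({t} : Set G))) : G) := rfl

theorem inc_injective : Function.Injective (inc e) :=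
  Subtype.coe_injective.comp e.symm.injective

theorem inc_mem (k : K) : inc e k ∈ centralizer ({t} : Set G) := (e.symm k).2

theorem exists_inc {g : G} (hg : g ∈ centralizer ({t} : Set G)) : ∃ k, inc e k = g :=
  ⟨e ⟨g, hg⟩, by simp [inc_apply]⟩

theorem inc_comm_t (k : K) : inc e k * t = t * inc e k :=
  (mem_centralizer_singleton_iff.1 (inc_mem e k))

theorem t_mem : t ∈ centralizer ({t} : Set G) := mem_centralizer_singleton_iff.2 rfl

theorem inc_t0 (ht1 : t ≠ 1) : inc e t0 = t := by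
  obtain ⟨k, hk⟩ := exists_inc e (t_mem (t := t))
  have hc : ∀ x : K, k * x = x * k := by
    intro x
    apply inc_injective e
    rw [map_mul, map_mul, hk]
    exact (inc_comm_t e x).symm
  rcases center_K k hc with h | h
  · exfalso; apply ht1; rw [← hk, h, map_one]
  · rw [← h, hk]

include e in
theorem card_centralizer_t : Nat.card (centralizer ({t} : Set G)) = 48 := by
  rw [Nat.card_congr (MulEquiv.toEquiv e), Nat.card_eq_fintype_card, card_K]

theorem inc_eq_one {k : K} (h : inc e k = 1) : k = 1 := by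
  apply inc_injective e
  rw [h, map_one]

theorem inc_ne_one {k : K} (h : k ≠ 1) : inc e k ≠ 1 := fun h' => h (inc_eq_one e h')

/-- the Sylow 2-subgroup `C(t) ∩ C(z)` -/
def Tz : Subgroup G := (centralizer ({z0} : Set K)).map (inc e)

theorem mem_Tz {g : G} : g ∈ Tz e ↔ ∃ k : K, k * z0 = z0 * k ∧ inc e k = g := by
  unfold Tz
  rw [mem_map]
  constructor
  · rintro ⟨k, hk, rfl⟩
    exact ⟨k, (mem_centralizer_singleton_iff.1 hk), rfl⟩
  · rintro ⟨k, hk, rfl⟩
    exact ⟨k, mem_centralizer_singleton_iff.2 hk, rfl⟩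

theorem card_Tz : Nat.card (Tz e) = 16 := by
  unfold Tz
  rw [Subgroup.card_map_of_injective (inc_injective e)]
  rw [← card_cent_z0, ← Nat.card_eq_fintype_card]
  apply Nat.card_congr
  exact Equiv.subtypeEquivRight (fun k => mem_centralizer_singleton_iff)

theorem Tz_le_t : Tz e ≤ centralizer ({t} : Set G) := by
  intro g hg
  obtain ⟨k, -, rfl⟩ := (mem_Tz e).1 hg
  exact inc_mem e k

theorem Tz_le_z : Tz e ≤ centralizer ({inc e z0} : Set G) := by
  intro g hg
  obtain ⟨k, hk, rfl⟩ := (mem_Tz e).1 hg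
  rw [mem_centralizer_singleton_iff, ← map_mul, ← map_mul, hk]

theorem mem_Tz_of_comm {g : G} (hg : g ∈ centralizer ({t} : Set G))
    (hz : g * inc e z0 = inc e z0 * g) : g ∈ Tz e := by
  obtain ⟨k, rfl⟩ := exists_inc e hg
  refine (mem_Tz e).2 ⟨k, ?_, rfl⟩
  apply inc_injective e
  rw [map_mul, map_mul, hz]

theorem t_mem_Tz (ht1 : t ≠ 1) : t ∈ Tz e := by
  refine (mem_Tz e).2 ⟨t0, t0_central z0, inc_t0 e ht1⟩

theorem z_mem_Tz : inc e z0 ∈ Tz e := (mem_Tz e).2 ⟨z0, rfl, rfl⟩

theorem commutator_Tz_le : ⁅Tz e, Tz e⁆ ≤ zpowers (inc e z0) := by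
  rw [Subgroup.commutator_le]
  intro a ha b hb
  obtain ⟨k, hk, rfl⟩ := (mem_Tz e).1 ha
  obtain ⟨l, hl, rfl⟩ := (mem_Tz e).1 hb
  rw [commutatorElement_def, ← map_inv, ← map_inv, ← map_mul, ← map_mul, ← map_mul]
  rcases comm_T0 k l hk hl with h | h
  · rw [h, map_one]; exact one_mem _
  · rw [h]; exact mem_zpowers _

theorem z_mem_commutator : inc e z0 ∈ ⁅Tz e, Tz e⁆ := by
  have h1 : inc e r0 ∈ Tz e := (mem_Tz e).2 ⟨r0, r0_comm_z0, rfl⟩
  have h2 : inc e s0 ∈ Tz e := (mem_Tz e).2 ⟨s0, s0_comm_z0, rfl⟩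
  have := Subgroup.commutator_mem_commutator h1 h2
  rw [commutatorElement_def, ← map_inv, ← map_inv, ← map_mul, ← map_mul, ← map_mul,
    comm_r0_s0] at this
  exact this

variable [Finite G]

section sylow

variable (T : Sylow 2 G) (htc : ∀ s ∈ (T : Subgroup G), s * t = t * s)

include htc in
theorem exists_sylow_eq : ∃ S : Sylow 2 G, (S : Subgroup G) = Tz e := by
  haveI : Fact (Nat.Prime 2) := ⟨Nat.prime_two⟩
  have hTle : (T : Subgroup G) ≤ centralizer ({t} : Set G) := by
    intro s hs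
    rw [mem_centralizer_singleton_iff]
    exact htc s hs
  have hdvd : Nat.card (T : Subgroup G) ∣ 48 := by
    rw [← card_centralizer_t e]
    exact Subgroup.card_dvd_of_le hTle
  have hp : IsPGroup 2 (Tz e) := IsPGroup.of_card (n := 4) (by rw [card_Tz]; norm_num)
  obtain ⟨Q, hQ⟩ := hp.exists_le_sylow
  obtain ⟨g, hg⟩ := MulAction.exists_smul_eq G T Q
  have hcardQ : Nat.card (Q : Subgroup G) = Nat.card (T : Subgroup G) := by
    rw [← hg]
    exact (Sylow.card_eq_multiplicity (g • T)).trans (Sylow.card_eq_multiplicity T).symm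
  have h16 : 16 ∣ Nat.card (T : Subgroup G) := by
    rw [← hcardQ, ← card_Tz e]
    exact Subgroup.card_dvd_of_le hQ
  obtain ⟨n, hn⟩ := (IsPGroup.iff_card.1 T.isPGroup')
  have hn4 : n = 4 := by
    rw [hn] at hdvd h16
    have hle : n ≤ 5 := by
      by_contra hcon
      have : 2 ^ 6 ∣ 2 ^ n := pow_dvd_pow 2 (by omega)
      have := Nat.le_of_dvd (by norm_num) (this.trans hdvd)
      omega
    interval_cases n <;> omega
  refine ⟨Q, (Subgroup.eq_of_le_of_card_ge hQ ?_).symm⟩
  rw [hcardQ, hn, hn4, card_Tz]; norm_num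

variable (h2 : ∀ S : Sylow 2 G,
  centralizer ((⁅(S : Subgroup G), (S : Subgroup G)⁆ : Subgroup G) : Set G) = (S : Subgroup G))

include htc h2 in
theorem centralizer_z_eq : centralizer ({inc e z0} : Set G) = Tz e := by
  obtain ⟨S, hS⟩ := exists_sylow_eq e T htc
  apply le_antisymm _ (Tz_le_z e)
  have h := h2 S
  rw [hS] at h
  rw [← h]
  intro g hg
  rw [mem_centralizer_singleton_iff] at hg
  rw [mem_centralizer_iff]
  intro x hx
  have hx' := commutator_Tz_le e hx
  obtain ⟨i, rfl⟩ := mem_zpowers_iff.1 hx'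
  have : Commute g (inc e z0) := hg
  exact ((this.zpow_right i).eq).symm

include htc h2 in
theorem centralizer_z_le : centralizer ({inc e z0} : Set G) ≤ centralizer ({t} : Set G) := by
  rw [centralizer_z_eq e T htc h2]
  exact Tz_le_t e

include htc h2 in
theorem card_centralizer_z : Nat.card (centralizer ({inc e z0} : Set G)) = 16 := by
  rw [centralizer_z_eq e T htc h2, card_Tz]

end sylow

end Cfsg.Agent.Lib.Helper18.ZS4
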