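import Mathlib
import Cfsg.Agent.Lib.Helper18.ZS4A
import Cfsg.Agent.Lib.Helper18.PPrimeCore

set_option autoImplicit false

namespace Cfsg.Agent.Lib.Helper18.ZS4

open Subgroup

variable {G : Type*} [Group G] {t : G} (e : ↥(centralizer ({t} : Set G)) ≃* K)

theorem orderOf_inc_z0 : orderOf (inc e z0) = 2 := by
  apply orderOf_eq_prime
  · rw [pow_two, ← map_mul, z0_sq, map_one]
  · exact inc_ne_one e z0_ne_one

theorem mem_zpowers_z {x : G} (hx : x ∈ zpowers (inc e z0)) : x = 1 ∨ x = inc e z0 := by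
  obtain ⟨i, rfl⟩ := mem_zpowers_iff.1 hx
  rw [← zpow_mod_orderOf, orderOf_inc_z0]
  have h1 : i % ((2 : ℕ) : ℤ) = 0 ∨ i % ((2 : ℕ) : ℤ) = 1 := by
    have := Int.emod_two_eq_zero_or_one i
    simpa using this
  rcases h1 with h | h
  · left; rw [h, zpow_zero]
  · right; rw [h, zpow_one]

theorem card_centralizer_conj (a g : G) :
    Nat.card (centralizer ({g * a * g⁻¹} : Set G)) = Nat.card (centralizer ({a} : Set G)) := by
  apply Nat.card_congr
  refine ⟨fun x => ⟨g⁻¹ * x.1 * g, ?_⟩, fun x => ⟨g * x.1 * g⁻¹, ?_⟩, ?_, ?_⟩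
  · have := mem_centralizer_singleton_iff.1 x.2
    rw [mem_centralizer_singleton_iff]
    calc g⁻¹ * x.1 * g * a = g⁻¹ * (x.1 * (g * a * g⁻¹)) * g := by group
      _ = g⁻¹ * ((g * a * g⁻¹) * x.1) * g := by rw [this]
      _ = a * (g⁻¹ * x.1 * g) := by group
  · have := mem_centralizer_singleton_iff.1 x.2
    rw [mem_centralizer_singleton_iff]
    calc g * x.1 * g⁻¹ * (g * a * g⁻¹) = g * (x.1 * a) * g⁻¹ := by group
      _ = g * (a * x.1) * g⁻¹ := by rw [this]
      _ = g * a * g⁻¹ * (g * x.1 * g⁻¹) := by group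
  · intro x; apply Subtype.ext; simp only; group
  · intro x; apply Subtype.ext; simp only; group

variable [Finite G] (T : Sylow 2 G) (htc : ∀ s ∈ (T : Subgroup G), s * t = t * s)
  (h2 : ∀ S : Sylow 2 G,
    centralizer ((⁅(S : Subgroup G), (S : Subgroup G)⁆ : Subgroup G) : Set G) = (S : Subgroup G))

include e in
theorem conj_z_of_normalizes {n : G} (hn : n ∈ normalizer (Tz e : Set G)) :
    n * inc e z0 * n⁻¹ = inc e z0 := by
  have hmap : (Tz e).map (MulAut.conj n).toMonoidHom = Tz e :=
    mem_normalizer_iff_map_conj_eq.1 hn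
  have h1 : n * inc e z0 * n⁻¹ ∈ ⁅Tz e, Tz e⁆ := by
    have h3 : (⁅Tz e, Tz e⁆).map (MulAut.conj n).toMonoidHom = ⁅Tz e, Tz e⁆ := by
      rw [Subgroup.map_commutator, hmap]
    rw [← h3]
    exact ⟨inc e z0, z_mem_commutator e, rfl⟩
  rcases mem_zpowers_z e (commutator_Tz_le e h1) with h | h
  · exfalso
    apply inc_ne_one e z0_ne_one
    have : n⁻¹ * (n * inc e z0 * n⁻¹) * n = n⁻¹ * 1 * n := by rw [h]
    simpa [mul_assoc] using this
  · exact h

include htc h2 in
theorem normalizer_Tz_le : normalizer (Tz e : Set G) ≤ Tz e := by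
  intro n hn
  have h := conj_z_of_normalizes e hn
  rw [← centralizer_z_eq e T htc h2, mem_centralizer_singleton_iff]
  have := congrArg (· * n) h
  simp only [inv_mul_cancel_right] at this
  exact this

include htc h2 in
theorem not_conj_t_z (ht1 : t ≠ 1) (g c : G) : g * t * g⁻¹ ≠ c * inc e z0 * c⁻¹ := by
  intro h
  have h1 := card_centralizer_conj t g
  have h3 := card_centralizer_conj (inc e z0) c
  rw [h, h3, card_centralizer_z e T htc h2, card_centralizer_t e] at h1
  omega

include htc h2 in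
theorem not_conj_t_tz (ht1 : t ≠ 1) (g : G) : g * t * g⁻¹ ≠ t * inc e z0 := by
  intro h
  haveI : Fact (Nat.Prime 2) := ⟨Nat.prime_two⟩
  obtain ⟨S, hS⟩ := exists_sylow_eq e T htc
  have hx : t ∈ centralizer ((S : Subgroup G) : Set G) := by
    rw [hS, mem_centralizer_iff]
    intro y hy
    have := mem_centralizer_singleton_iff.1 (Tz_le_t e hy)
    exact this
  have hy : (g⁻¹)⁻¹ * t * g⁻¹ ∈ centralizer ((S : Subgroup G) : Set G) := by
    rw [inv_inv, h, hS, mem_centralizer_iff]
    intro y hy
    have h1 := mem_centralizer_singleton_iff.1 (Tz_le_t e hy)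
    have h2' := mem_centralizer_singleton_iff.1 (Tz_le_z e hy)
    calc y * (t * inc e z0) = (y * t) * inc e z0 := by group
      _ = t * (y * inc e z0) := by rw [h1]; group
      _ = t * inc e z0 * y := by rw [h2']; group
  obtain ⟨n, hn, hn'⟩ := Sylow.conj_eq_normalizer_conj_of_mem_centralizer S t g⁻¹ hx hy
  have hn2 : n ∈ normalizer ((Tz e : Subgroup G) : Set G) := by rw [← hS]; exact hn
  have hnT := normalizer_Tz_le e T htc h2 hn2
  have hnt := mem_centralizer_singleton_iff.1 (Tz_le_t e hnT)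
  rw [inv_inv, h] at hn'
  have : n⁻¹ * t * n = t := by
    rw [mul_assoc, ← hnt]; group
  rw [this] at hn'
  apply inc_ne_one e z0_ne_one
  have h5 : t⁻¹ * (t * inc e z0) = t⁻¹ * t := by rw [hn']
  simpa using h5

include htc h2 in
theorem not_conj_tz_z (ht1 : t ≠ 1) (g : G) : g * inc e z0 * g⁻¹ ≠ t * inc e z0 := by
  intro h
  have hc : Nat.card (centralizer ({t * inc e z0} : Set G)) = 16 := by
    rw [← h, card_centralizer_conj, card_centralizer_z e T htc h2]
  have hle : Tz e ≤ centralizer ({t * inc e z0} : Set G) := by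
    intro y hy
    have h1 := mem_centralizer_singleton_iff.1 (Tz_le_t e hy)
    have h2' := mem_centralizer_singleton_iff.1 (Tz_le_z e hy)
    rw [mem_centralizer_singleton_iff]
    calc y * (t * inc e z0) = (y * t) * inc e z0 := by group
      _ = t * (y * inc e z0) := by rw [h1]; group
      _ = t * inc e z0 * y := by rw [h2']; group
  have heq : Tz e = centralizer ({t * inc e z0} : Set G) :=
    Subgroup.eq_of_le_of_card_ge hle (by rw [hc, card_Tz])
  have hgn : g ∈ normalizer (Tz e : Set G) := by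
    rw [mem_normalizer_iff]
    intro x
    have key : ∀ x : G, x ∈ Tz e → g * x * g⁻¹ ∈ Tz e := by
      intro x hx
      rw [heq, mem_centralizer_singleton_iff, ← h]
      have hxz := mem_centralizer_singleton_iff.1 (Tz_le_z e hx)
      calc g * x * g⁻¹ * (g * inc e z0 * g⁻¹) = g * (x * inc e z0) * g⁻¹ := by group
        _ = g * (inc e z0 * x) * g⁻¹ := by rw [hxz]
        _ = g * inc e z0 * g⁻¹ * (g * x * g⁻¹) := by group
    constructor
    · exact key x
    · intro hx
      -- finite: conjugation is injective on a finite set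
      have hinj : Function.Injective (fun y : Tz e => (⟨g * y.1 * g⁻¹, key y.1 y.2⟩ : Tz e)) := by
        intro a b hab
        have := congrArg Subtype.val hab
        simp only at this
        apply Subtype.ext
        have h5 : g⁻¹ * (g * a.1 * g⁻¹) * g = g⁻¹ * (g * b.1 * g⁻¹) * g := by rw [this]
        simpa [mul_assoc] using h5
      obtain ⟨y, hy⟩ := (Finite.injective_iff_surjective.1 hinj) ⟨g * x * g⁻¹, hx⟩
      have := congrArg Subtype.val hy
      simp only at this
      have h5 : g⁻¹ * (g * y.1 * g⁻¹) * g = g⁻¹ * (g * x * g⁻¹) * g := by rw [this]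
      have h6 : y.1 = x := by simpa [mul_assoc] using h5
      rw [← h6]; exact y.2
  have := conj_z_of_normalizes e hgn
  rw [h] at this
  apply ht1
  have h5 : t * inc e z0 * (inc e z0)⁻¹ = inc e z0 * (inc e z0)⁻¹ := by rw [this]
  simpa using h5

section indexTwo

omit [Finite G]

variable (M : Subgroup G) (hMi : M.index = 2)

include hMi in
theorem sq_mem_of_index_two (g : G) : g * g ∈ M :=
  (mul_mem_iff_of_index_two hMi).2 Iff.rfl

include hMi in
theorem mem_or_mul_mem_of_index_two {a : G} (ha : a ∉ M) (g : G) : g ∈ M ∨ a * g ∈ M := by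
  by_cases hg : g ∈ M
  · exact Or.inl hg
  · right
    rw [mul_mem_iff_of_index_two hMi]
    exact ⟨fun h => (ha h).elim, fun h => (hg h).elim⟩

include hMi in
theorem card_inf_of_index_two [M.Normal] (A : Subgroup G) {a : G} (ha : a ∈ A) (haM : a ∉ M) :
    Nat.card (M ⊓ A : Subgroup G) * 2 = Nat.card A := by
  have h1 : M.relIndex A ∣ 2 := by
    rw [← hMi]; exact Subgroup.relIndex_dvd_index_of_normal M A
  have h2 : M.relIndex A ≠ 1 := by
    intro h
    rw [Subgroup.relIndex_eq_one] at h
    exact haM (h ha)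
  have h3 : M.relIndex A = 2 := by
    rcases (Nat.dvd_prime Nat.prime_two).1 h1 with h | h
    · exact (h2 h).elim
    · exact h
  have h4 := Cfsg.Agent.Lib.Helper18.card_mul_relIndex_of_le_h18 (inf_le_right : M ⊓ A ≤ A)
  rw [Subgroup.inf_relIndex_right, h3] at h4
  exact h4

include hMi in
theorem z_mem_of_index_two : inc e z0 ∈ M := by
  rw [← r0_sq, map_mul]
  exact sq_mem_of_index_two M hMi _

include e hMi in
theorem card_inf_centralizer [M.Normal] (htM : t ∉ M) :
    Nat.card (M ⊓ centralizer ({t} : Set G) : Subgroup G) = 24 := by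
  have := card_inf_of_index_two M hMi (centralizer ({t} : Set G)) (t_mem (t := t)) htM
  rw [card_centralizer_t e] at this
  omega

end indexTwo

end Cfsg.Agent.Lib.Helper18.ZS4
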