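import Mathlib
import Cfsg.Agent.Lib.Helper18.ZS4B
import Cfsg.Agent.Lib.Helper18.Dihedral8

set_option autoImplicit false

namespace Cfsg.Agent.Lib.Helper18.ZS4

open Subgroup

variable {G : Type*} [Group G] {t : G} (e : ↥(centralizer ({t} : Set G)) ≃* K)

set_option maxRecDepth 100000 in
theorem r0_s0_ne : r0 * s0 ≠ s0 * r0 := by decide

set_option maxRecDepth 100000 in
theorem s0_ne_z0 : s0 ≠ z0 := by decide

set_option maxRecDepth 100000 in
theorem t0s0_ne_z0 : t0 * s0 ≠ z0 := by decide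

set_option maxRecDepth 100000 in
theorem lift_ncomm : ∀ a b : K, (a = r0 ∨ a = t0 * r0) → (b = s0 ∨ b = t0 * s0) →
    a * b ≠ b * a := by decide

/-- every element of `K` has a lift in `M` up to the central involution `t` -/
theorem exists_lift (ht1 : t ≠ 1) (M : Subgroup G) (hMi : M.index = 2) (htM : t ∉ M) (k : K) :
    ∃ x ∈ M, (x = inc e k ∨ x = inc e (t0 * k)) := by
  rcases mem_or_mul_mem_of_index_two M hMi htM (inc e k) with h | h
  · exact ⟨_, h, Or.inl rfl⟩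
  · refine ⟨_, h, Or.inr ?_⟩
    rw [map_mul, inc_t0 e ht1]

variable [Finite G]

theorem mem_cent_M (M : Subgroup G) (hz : inc e z0 ∈ M) (x : ↥M) :
    x ∈ centralizer ({(⟨inc e z0, hz⟩ : ↥M)} : Set ↥M) ↔ x.1 * inc e z0 = inc e z0 * x.1 := by
  rw [mem_centralizer_singleton_iff]
  constructor
  · intro h; exact congrArg Subtype.val h
  · intro h; exact Subtype.ext h

theorem card_cent_M (ht : orderOf t = 2) (T : Sylow 2 G)
    (htc : ∀ s ∈ (T : Subgroup G), s * t = t * s)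
    (h2 : ∀ S : Sylow 2 G,
      centralizer ((⁅(S : Subgroup G), (S : Subgroup G)⁆ : Subgroup G) : Set G) = (S : Subgroup G))
    (M : Subgroup G) [M.Normal] (hMi : M.index = 2) (htM : t ∉ M) (hz : inc e z0 ∈ M) :
    Nat.card (centralizer ({(⟨inc e z0, hz⟩ : ↥M)} : Set ↥M)) = 8 := by
  have ht1 : t ≠ 1 := by
    intro h; rw [h, orderOf_one] at ht; omega
  have hmemZ := mem_cent_M e M hz
  have hTz : ∀ g : G, g ∈ Tz e ↔ g * inc e z0 = inc e z0 * g := by
    intro g
    rw [← centralizer_z_eq e T htc h2, mem_centralizer_singleton_iff]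
  have h1 : Nat.card (centralizer ({(⟨inc e z0, hz⟩ : ↥M)} : Set ↥M)) =
      Nat.card (M ⊓ Tz e : Subgroup G) := by
    apply Nat.card_congr
    refine ⟨fun x => ⟨x.1.1, Subgroup.mem_inf.2 ⟨x.1.2, (hTz _).2 ((hmemZ x.1).1 x.2)⟩⟩,
      fun x => ⟨⟨x.1, (Subgroup.mem_inf.1 x.2).1⟩,
        (hmemZ _).2 ((hTz _).1 (Subgroup.mem_inf.1 x.2).2)⟩, ?_, ?_⟩
    · intro x; rfl
    · intro x; rfl
  have h3 := card_inf_of_index_two M hMi (Tz e) (t_mem_Tz e ht1) htM
  rw [card_Tz] at h3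
  omega

theorem cent_dihedral (ht : orderOf t = 2) (T : Sylow 2 G)
    (htc : ∀ s ∈ (T : Subgroup G), s * t = t * s)
    (h2 : ∀ S : Sylow 2 G,
      centralizer ((⁅(S : Subgroup G), (S : Subgroup G)⁆ : Subgroup G) : Set G) = (S : Subgroup G))
    (M : Subgroup G) [M.Normal] (hMi : M.index = 2) (htM : t ∉ M) :
    ∃ hz : inc e z0 ∈ M,
      Nonempty (↥(centralizer ({(⟨inc e z0, hz⟩ : ↥M)} : Set ↥M)) ≃* DihedralGroup 4) := by
  have ht1 : t ≠ 1 := by
    intro h; rw [h, orderOf_one] at ht; omega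
  have hz : inc e z0 ∈ M := z_mem_of_index_two e M hMi
  refine ⟨hz, ?_⟩
  set Z := centralizer ({(⟨inc e z0, hz⟩ : ↥M)} : Set ↥M) with hZ
  have hmemZ : ∀ x : ↥M, x ∈ Z ↔ x.1 * inc e z0 = inc e z0 * x.1 := by
    intro x
    rw [hZ, mem_centralizer_singleton_iff]
    constructor
    · intro h; exact congrArg Subtype.val h
    · intro h; exact Subtype.ext h
  have hcard : Nat.card Z = 8 := card_cent_M e ht T htc h2 M hMi htM hz
  -- lifts of r0 and s0
  obtain ⟨r', hr'M, hr'⟩ := exists_lift e ht1 M hMi htM r0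
  obtain ⟨s', hs'M, hs'⟩ := exists_lift e ht1 M hMi htM s0
  have hcz : ∀ k : K, k * z0 = z0 * k → (t0 * k) * z0 = z0 * (t0 * k) := by
    intro k hk
    rw [mul_assoc, hk, ← mul_assoc, ← mul_assoc, t0_central z0]
  have hr'Z : r' * inc e z0 = inc e z0 * r' := by
    rcases hr' with h | h <;> rw [h, ← map_mul, ← map_mul]
    · rw [r0_comm_z0]
    · rw [hcz r0 r0_comm_z0]
  have hs'Z : s' * inc e z0 = inc e z0 * s' := by
    rcases hs' with h | h <;> rw [h, ← map_mul, ← map_mul]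
    · rw [s0_comm_z0]
    · rw [hcz s0 s0_comm_z0]
  have hnc : r' * s' ≠ s' * r' := by
    have key := lift_ncomm
    obtain ⟨a, ha, rfl⟩ : ∃ a : K, (a = r0 ∨ a = t0 * r0) ∧ inc e a = r' := by
      rcases hr' with h | h
      · exact ⟨r0, Or.inl rfl, h.symm⟩
      · exact ⟨t0 * r0, Or.inr rfl, h.symm⟩
    obtain ⟨b, hb, rfl⟩ : ∃ b : K, (b = s0 ∨ b = t0 * s0) ∧ inc e b = s' := by
      rcases hs' with h | h
      · exact ⟨s0, Or.inl rfl, h.symm⟩
      · exact ⟨t0 * s0, Or.inr rfl, h.symm⟩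
    intro h
    rw [← map_mul, ← map_mul] at h
    exact key a b ha hb (inc_injective e h)
  have hs'2 : orderOf s' = 2 := by
    apply orderOf_eq_prime
    · rcases hs' with h | h <;> rw [h, pow_two, ← map_mul]
      · rw [s0_sq, map_one]
      · have : t0 * s0 * (t0 * s0) = 1 := by
          rw [mul_assoc, ← mul_assoc s0, ← t0_central s0, mul_assoc, s0_sq, mul_one, t0_sq]
        rw [this, map_one]
    · rcases hs' with h | h <;> rw [h]
      · exact inc_ne_one e s0_ne_one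
      · apply inc_ne_one e
        intro h5
        apply s0_ne_t0
        have : t0 * (t0 * s0) = t0 * 1 := by rw [h5]
        rw [← mul_assoc, t0_sq, one_mul, mul_one] at this
        exact this
  have hs'z : s' ≠ inc e z0 := by
    rcases hs' with h | h <;> rw [h]
    · exact fun h5 => s0_ne_z0 (inc_injective e h5)
    · exact fun h5 => t0s0_ne_z0 (inc_injective e h5)
  -- the elements of `Z`
  let rZ : ↥Z := ⟨⟨r', hr'M⟩, (hmemZ _).2 hr'Z⟩
  let sZ : ↥Z := ⟨⟨s', hs'M⟩, (hmemZ _).2 hs'Z⟩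
  let zZ : ↥Z := ⟨⟨inc e z0, hz⟩, (hmemZ _).2 rfl⟩
  have hna : ∃ a b : ↥Z, a * b ≠ b * a := by
    refine ⟨rZ, sZ, ?_⟩
    intro h
    apply hnc
    have := congrArg (fun x : ↥Z => ((x : ↥M) : G)) h
    exact this
  have hnu : ¬ ∃ w : ↥Z, ∀ a : ↥Z, orderOf a = 2 → a = w := by
    rintro ⟨w, hw⟩
    have h1 : orderOf sZ = 2 := by
      rw [← Subgroup.orderOf_coe, ← Subgroup.orderOf_coe]
      exact hs'2
    have h3 : orderOf zZ = 2 := by
      rw [← Subgroup.orderOf_coe, ← Subgroup.orderOf_coe]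
      exact orderOf_inc_z0 e
    have h4 : sZ = zZ := (hw sZ h1).trans (hw zZ h3).symm
    apply hs'z
    have := congrArg (fun x : ↥Z => ((x : ↥M) : G)) h4
    exact this
  obtain ⟨_, _, _, _, _, _, hiso⟩ := dihedral_of_card_eight hcard hna hnu
  exact hiso

end Cfsg.Agent.Lib.Helper18.ZS4
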