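import Mathlib
import Cfsg.Prelude.Def_CaseTheorems
import Cfsg.Agent.Lib.Helper18.ZS4C

set_option autoImplicit false

namespace Cfsg.Agent.Lib.Helper18.ZS4

open Subgroup

variable {G : Type*} [Group G] {t : G} (e : ↥(centralizer ({t} : Set G)) ≃* K)

def k1 : K := (1, Equiv.swap 0 3)

set_option maxRecDepth 100000 in
theorem y0_prod : (y0 * (k1 * y0 * k1⁻¹)) * (y0 * (k1 * y0 * k1⁻¹)) = 1 ∧
    y0 * (k1 * y0 * k1⁻¹) ≠ 1 := by decide

set_option maxRecDepth 100000 in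
theorem conj_t0_mul : ∀ k x : K, (t0 * k) * x * (t0 * k)⁻¹ = k * x * k⁻¹ := by decide

set_option maxRecDepth 100000 in
theorem y0_pow4 : (y0 * y0) * (y0 * y0) = y0 := by decide

theorem orderOf_inc_y0 : orderOf (inc e y0) = 3 := by
  haveI : Fact (Nat.Prime 3) := ⟨by norm_num⟩
  apply orderOf_eq_prime
  · rw [pow_succ, pow_two, ← map_mul, ← map_mul, y0_cube, map_one]
  · exact inc_ne_one e y0_ne_one

theorem inc_y0_mem (M : Subgroup G) (hMi : M.index = 2) : inc e y0 ∈ M := by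
  rw [← y0_pow4, map_mul]
  exact sq_mem_of_index_two M hMi _

include e in
/-- an element of order 3 of `M` centralized by `t` -/
theorem exists_order_three (M : Subgroup G) (hMi : M.index = 2) :
    ∃ y : G, y ∈ M ∧ orderOf y = 3 ∧ y * t = t * y :=
  ⟨inc e y0, inc_y0_mem e M hMi, orderOf_inc_y0 e, inc_comm_t e y0⟩

variable [Finite G]

theorem no_core_case (ht : orderOf t = 2) (T : Sylow 2 G)
    (htc : ∀ s ∈ (T : Subgroup G), s * t = t * s)
    (h2 : ∀ S : Sylow 2 G,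
      centralizer ((⁅(S : Subgroup G), (S : Subgroup G)⁆ : Subgroup G) : Set G) = (S : Subgroup G))
    (M : Subgroup G) [M.Normal] (hMi : M.index = 2) (htM : t ∉ M) (hz : inc e z0 ∈ M)
    (h : centralizer ({(⟨inc e z0, hz⟩ : ↥M)} : Set ↥M) ⊔ Cfsg.oddCore ↥M = ⊤) : False := by
  have ht1 : t ≠ 1 := by
    intro h; rw [h, orderOf_one] at ht; omega
  set N : Subgroup ↥M := Cfsg.oddCore ↥M with hN
  haveI hNn : N.Normal := Cfsg.Agent.Lib.Helper18.pPrimeCore_normal_h18 2 ↥M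
  have hNodd : (Nat.card N).Coprime 2 := Cfsg.Agent.Lib.Helper18.pPrimeCore_card_coprime_h18 2
  have hZ8 := card_cent_M e ht T htc h2 M hMi htM hz
  have hdvd : Nat.card ↥M ∣ 8 * Nat.card N := by
    have := Cfsg.Agent.Lib.Helper18.card_sup_dvd_mul_h18
      (centralizer ({(⟨inc e z0, hz⟩ : ↥M)} : Set ↥M)) N
    rw [h, hZ8, Subgroup.card_top] at this
    exact this
  have hidx : N.index ∣ 8 := by
    have h1 := N.card_mul_index
    rw [← h1, mul_comm 8] at hdvd
    exact Nat.dvd_of_mul_dvd_mul_left Nat.card_pos hdvd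
  have hyM : inc e y0 ∈ M := inc_y0_mem e M hMi
  let yM : ↥M := ⟨inc e y0, hyM⟩
  have hy3 : yM ^ 3 = 1 := by
    apply Subtype.ext
    rw [Subgroup.coe_pow, Subgroup.coe_one, ← orderOf_inc_y0 e]
    exact pow_orderOf_eq_one _
  have hyN : yM ∈ N := by
    obtain ⟨k, hk⟩ := hidx
    have h8 : yM ^ 8 ∈ N := by
      rw [hk, pow_mul]
      exact N.pow_mem (Subgroup.pow_index_mem N yM) k
    have h16 : yM ^ 16 ∈ N := by
      have : yM ^ 16 = (yM ^ 8) ^ 2 := by rw [← pow_mul]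
      rw [this]; exact N.pow_mem h8 2
    have : yM ^ 16 = yM := by
      have : yM ^ 16 = (yM ^ 3) ^ 5 * yM := by rw [← pow_mul, ← pow_succ]
      rw [this, hy3, one_pow, one_mul]
    rwa [this] at h16
  obtain ⟨x, hxM, hx⟩ := exists_lift e ht1 M hMi htM k1
  let xM : ↥M := ⟨x, hxM⟩
  have hconj : x * inc e y0 * x⁻¹ = inc e (k1 * y0 * k1⁻¹) := by
    rcases hx with rfl | rfl
    · rw [map_mul, map_mul, map_inv]
    · rw [← map_inv, ← map_mul, ← map_mul, conj_t0_mul]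
  have hv : yM * (xM * yM * xM⁻¹) ∈ N := N.mul_mem hyN (hNn.conj_mem _ hyN _)
  have hvval : ((yM * (xM * yM * xM⁻¹) : ↥M) : G) = inc e (y0 * (k1 * y0 * k1⁻¹)) := by
    rw [map_mul, ← hconj]
    rfl
  have hvo : orderOf (yM * (xM * yM * xM⁻¹)) = 2 := by
    rw [← Subgroup.orderOf_coe, hvval]
    apply orderOf_eq_prime
    · rw [pow_two, ← map_mul, y0_prod.1, map_one]
    · exact inc_ne_one e y0_prod.2
  have h2dvd : 2 ∣ Nat.card N := by
    have := orderOf_dvd_natCard (⟨_, hv⟩ : ↥N)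
    rwa [Subgroup.orderOf_mk, hvo] at this
  have := Nat.Coprime.eq_one_of_dvd hNodd.symm h2dvd
  omega

end Cfsg.Agent.Lib.Helper18.ZS4
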