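import Mathlib
import Cfsg.Agent.Lib.Helper18.ZS4D

set_option autoImplicit false

namespace Cfsg.Agent.Lib.Helper18.ZS4

open Subgroup Equiv

/-! ### the twist automorphism of `Z₂ × S₄` -/

def uh : ℤˣ →* Multiplicative (ZMod 2) :=
  MonoidHom.mk' (fun u => if u = 1 then 1 else Multiplicative.ofAdd 1) (by decide)

def sg : Equiv.Perm (Fin 4) →* Multiplicative (ZMod 2) := uh.comp Equiv.Perm.sign

theorem sg_swap {a b : Fin 4} (h : a ≠ b) : sg (swap a b) = Multiplicative.ofAdd 1 := by
  simp [sg, uh, Equiv.Perm.sign_swap h]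

theorem sg_mul_self (σ : Equiv.Perm (Fin 4)) : sg σ * sg σ = 1 := by
  have : ∀ x : Multiplicative (ZMod 2), x * x = 1 := by decide
  exact this _

def twHom : K →* K :=
  MonoidHom.prod ((MonoidHom.fst _ _) * (sg.comp (MonoidHom.snd _ _))) (MonoidHom.snd _ _)

theorem twHom_apply (k : K) : twHom k = (k.1 * sg k.2, k.2) := rfl

theorem twHom_twHom (k : K) : twHom (twHom k) = k := by
  rw [twHom_apply, twHom_apply]
  simp only
  rw [mul_assoc, sg_mul_self, mul_one]

def tw : K ≃* K := MonoidHom.toMulEquiv twHom twHom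
  (by ext k <;> simp [twHom_twHom]) (by ext k <;> simp [twHom_twHom])

theorem tw_symm_s0 : tw.symm s0 = t0 * s0 := by
  show twHom s0 = _
  rw [twHom_apply]
  simp only [s0, t0]
  rw [sg_swap (by decide)]
  rfl

variable {G : Type*} [Group G] {t : G} (e : ↥(centralizer ({t} : Set G)) ≃* K)

theorem inc_trans_tw (k : K) : inc (e.trans tw) k = inc e (tw.symm k) := rfl

/-! ### the centralizer of `M` -/

set_option maxRecDepth 100000 in
theorem comm_all_snd : ∀ k : K, (∀ σ : Equiv.Perm (Fin 4), k * ((1, σ) : K) = ((1, σ) : K) * k) →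
    k = 1 ∨ k = t0 := by decide

set_option maxRecDepth 100000 in
theorem comm_t0_mul : ∀ k x : K, k * (t0 * x) = (t0 * x) * k → k * x = x * k := by decide

variable [Finite G]

include e in
theorem cent_M_trivial (ht : orderOf t = 2)
    (M : Subgroup G) [M.Normal] (hMi : M.index = 2) (htM : t ∉ M)
    (hc1 : 24 < Nat.card M)
    (hZ : ∀ m ∈ M, (∀ x ∈ M, m * x = x * m) → m = 1) :
    ∀ g : G, (∀ m ∈ M, g * m = m * g) → g = 1 := by
  have ht1 : t ≠ 1 := by
    intro h; rw [h, orderOf_one] at ht; omega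
  intro g hg
  by_cases hgM : g ∈ M
  · exact hZ g hgM hg
  exfalso
  have hmM : g * t ∈ M := by
    rw [mul_mem_iff_of_index_two hMi]
    exact ⟨fun h => (hgM h).elim, fun h => (htM h).elim⟩
  set m := g * t with hm
  have hgm : g = m * t⁻¹ := by rw [hm]; group
  -- m commutes with t
  have hmt : m * t = t * m := by
    have h1 := hg m hmM
    rw [hgm] at h1
    have h3 : t⁻¹ * m = m * t⁻¹ := by
      rw [mul_assoc] at h1
      exact mul_left_cancel h1
    calc m * t = t * (t⁻¹ * m) * t := by group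
      _ = t * (m * t⁻¹) * t := by rw [h3]
      _ = t * m := by group
  have hmC : m ∈ centralizer ({t} : Set G) := mem_centralizer_singleton_iff.2 hmt
  -- m commutes with every element of M ⊓ C
  have hmH : ∀ x ∈ M, x * t = t * x → m * x = x * m := by
    intro x hxM hxt
    have h1 := hg x hxM
    rw [hgm] at h1
    have hxt' : t⁻¹ * x = x * t⁻¹ := by
      calc t⁻¹ * x = t⁻¹ * (x * t) * t⁻¹ := by group
        _ = t⁻¹ * (t * x) * t⁻¹ := by rw [hxt]
        _ = x * t⁻¹ := by group
    have h3 : m * x * t⁻¹ = x * m * t⁻¹ := by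
      calc m * x * t⁻¹ = m * (x * t⁻¹) := by group
        _ = m * (t⁻¹ * x) := by rw [hxt']
        _ = m * t⁻¹ * x := by group
        _ = x * (m * t⁻¹) := h1
        _ = x * m * t⁻¹ := by group
    exact mul_right_cancel h3
  obtain ⟨k, hk⟩ := exists_inc e hmC
  have hkc : ∀ σ : Equiv.Perm (Fin 4), k * ((1, σ) : K) = ((1, σ) : K) * k := by
    intro σ
    obtain ⟨x, hxM, hx⟩ := exists_lift e ht1 M hMi htM ((1, σ) : K)
    rcases hx with rfl | rfl
    · have := hmH _ hxM (inc_comm_t e _)
      rw [← hk, ← map_mul, ← map_mul] at this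
      exact inc_injective e this
    · have := hmH _ hxM (inc_comm_t e _)
      rw [← hk, ← map_mul, ← map_mul] at this
      exact comm_t0_mul k _ (inc_injective e this)
  rcases comm_all_snd k hkc with h | h
  · -- m = 1, so g = t⁻¹ centralizes M
    have hm1 : m = 1 := by rw [← hk, h, map_one]
    have hgt : g = t⁻¹ := by rw [hgm, hm1, one_mul]
    have hle : M ≤ centralizer ({t} : Set G) := by
      intro x hx
      rw [mem_centralizer_singleton_iff]
      have h1 := hg x hx
      rw [hgt] at h1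
      calc x * t = t * (t⁻¹ * x) * t := by group
        _ = t * (x * t⁻¹) * t := by rw [h1]
        _ = t * x := by group
    have h24 := card_inf_centralizer e M hMi htM
    rw [inf_eq_left.2 hle] at h24
    omega
  · apply htM
    have : m = t := by rw [← hk, h, inc_t0 e ht1]
    rw [← this]; exact hmM

include e in
/-- the centre of a simple `M` is trivial -/
theorem center_trivial_of_simple (ht : orderOf t = 2)
    (M : Subgroup G) [M.Normal] (hMi : M.index = 2) (htM : t ∉ M) [IsSimpleGroup ↥M] :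
    ∀ m ∈ M, (∀ x ∈ M, m * x = x * m) → m = 1 := by
  have ht1 : t ≠ 1 := by
    intro h; rw [h, orderOf_one] at ht; omega
  intro m hmM hm
  have hmc : (⟨m, hmM⟩ : ↥M) ∈ Subgroup.center ↥M := by
    rw [Subgroup.mem_center_iff]
    intro x
    apply Subtype.ext
    exact (hm x.1 x.2).symm
  rcases (inferInstance : (Subgroup.center ↥M).Normal).eq_bot_or_eq_top with h | h
  · rw [h, Subgroup.mem_bot] at hmc
    exact congrArg Subtype.val hmc
  · exfalso
    obtain ⟨r', hr'M, hr'⟩ := exists_lift e ht1 M hMi htM r0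
    obtain ⟨s', hs'M, hs'⟩ := exists_lift e ht1 M hMi htM s0
    have hrc : (⟨r', hr'M⟩ : ↥M) ∈ Subgroup.center ↥M := by rw [h]; exact mem_top _
    rw [Subgroup.mem_center_iff] at hrc
    have h1 := congrArg Subtype.val (hrc ⟨s', hs'M⟩)
    simp only [Subgroup.coe_mul] at h1
    obtain ⟨a, ha, rfl⟩ : ∃ a : K, (a = r0 ∨ a = t0 * r0) ∧ inc e a = r' := by
      rcases hr' with h | h
      · exact ⟨r0, Or.inl rfl, h.symm⟩
      · exact ⟨t0 * r0, Or.inr rfl, h.symm⟩
    obtain ⟨b, hb, rfl⟩ : ∃ b : K, (b = s0 ∨ b = t0 * s0) ∧ inc e b = s' := by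
      rcases hs' with h | h
      · exact ⟨s0, Or.inl rfl, h.symm⟩
      · exact ⟨t0 * s0, Or.inr rfl, h.symm⟩
    rw [← map_mul, ← map_mul] at h1
    exact lift_ncomm a b ha hb (inc_injective e h1).symm

omit [Finite G] in
/-- normal subgroups of a copy of `S₅` -/
theorem normal_of_s5 (M : Subgroup G) (e5 : ↥M ≃* Equiv.Perm (Fin 5))
    (N : Subgroup G) (hNn : N.Normal) (hNM : N ≤ M) (hN1 : N ≠ ⊥) :
    60 ≤ Nat.card N ∧ Even (Nat.card N) := by
  classical
  haveI : (N.subgroupOf M).Normal := hNn.subgroupOf M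
  set N' : Subgroup (Equiv.Perm (Fin 5)) := (N.subgroupOf M).map e5.toMonoidHom with hN'
  haveI : N'.Normal := Subgroup.Normal.map inferInstance _ e5.surjective
  have hcard : Nat.card N' = Nat.card N := by
    rw [hN', Subgroup.card_map_of_injective e5.injective]
    exact Nat.card_congr (Subgroup.subgroupOfEquivOfLe hNM).toEquiv
  have hnt : Nontrivial N' := by
    rw [Subgroup.nontrivial_iff_ne_bot]
    intro h
    apply hN1
    rw [hN', (Subgroup.map_eq_bot_iff_of_injective _ e5.injective), Subgroup.subgroupOf_eq_bot,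
      disjoint_iff, inf_eq_left.2 hNM] at h
    exact h
  have hle := Equiv.Perm.alternatingGroup_le_of_normal (α := Fin 5)
    (by rw [Nat.card_fin]) (N := N') hnt
  have h60 : Nat.card (alternatingGroup (Fin 5)) = 60 := by
    have h1 := two_mul_card_alternatingGroup (α := Fin 5)
    rw [Fintype.card_perm, Fintype.card_fin] at h1
    rw [Nat.card_eq_fintype_card]
    have : Nat.factorial 5 = 120 := rfl
    omega
  have hdvd : 60 ∣ Nat.card N := by
    rw [← hcard, ← h60]
    exact Subgroup.card_dvd_of_le hle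
  have hpos : 0 < Nat.card N := by
    rw [← hcard]
    haveI : Finite N' := inferInstance
    exact Nat.card_pos
  refine ⟨Nat.le_of_dvd hpos hdvd, ?_⟩
  obtain ⟨c, hc⟩ := hdvd
  rw [hc]
  exact ⟨30 * c, by ring⟩

end Cfsg.Agent.Lib.Helper18.ZS4
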