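import Mathlib
import Cfsg.Agent.Lib.Helper20.AutAlt5

set_option autoImplicit false
set_option linter.unusedVariables false

namespace Cfsg.Agent.Lib.Helper18.ZS4

open Subgroup Equiv Cfsg.Agent.Lib.Helper20.AutAlt

/-- an automorphism of `A₆` fixing an element of order three preserves three-cycles -/
theorem pres_of_fixed (φ : MulAut ↥(alternatingGroup (Fin 6)))
    (Y : ↥(alternatingGroup (Fin 6))) (hY3 : orderOf (Y : Perm (Fin 6)) = 3) (hφY : φ Y = Y) :
    Pres φ := by
  classical
  have h6 : Fintype.card (Fin 6) = 6 := Fintype.card_fin 6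
  rcases pres_dichotomy (X := Fin 6) (by rw [h6]; norm_num) φ with h | hno
  · exact h
  exfalso
  have hord : ∀ g : ↥(alternatingGroup (Fin 6)), orderOf (g : Perm (Fin 6)) = 3 →
      orderOf ((φ g : ↥(alternatingGroup (Fin 6))) : Perm (Fin 6)) = 3 := by
    intro g hg
    rw [Subgroup.orderOf_coe, MulEquiv.orderOf_eq, ← Subgroup.orderOf_coe, hg]
  have hTT' : ∀ g : ↥(alternatingGroup (Fin 6)), (g : Perm (Fin 6)).IsThreeCycle →
      ((φ g : ↥(alternatingGroup (Fin 6))) : Perm (Fin 6)).cycleType = {3, 3} := by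
    intro g hg
    rcases cycleType_of_order_three_card_six h6 _ (hord g hg.orderOf) with h | h
    · exact absurd h (hno g hg)
    · exact h
  rcases cycleType_of_order_three_card_six h6 _ hY3 with hYc | hYc
  · apply hno Y hYc
    rw [hφY]; exact hYc
  let F : Perm (Fin 6) → Perm (Fin 6) := fun g =>
    if h : g ∈ alternatingGroup (Fin 6) then
      ((φ ⟨g, h⟩ : ↥(alternatingGroup (Fin 6))) : Perm (Fin 6)) else g
  have hF : (Finset.univ.filter fun g : Perm (Fin 6) => g.cycleType = {3}).image F =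
      (Finset.univ.filter fun g : Perm (Fin 6) => g.cycleType = {3, 3}) := by
    apply Finset.eq_of_subset_of_card_le
    · intro x hx
      obtain ⟨g, hg, rfl⟩ := Finset.mem_image.1 hx
      have hg3 : g.IsThreeCycle := (Finset.mem_filter.1 hg).2
      have hmem : g ∈ alternatingGroup (Fin 6) := hg3.mem_alternatingGroup
      simp only [F, dif_pos hmem]
      exact Finset.mem_filter.2 ⟨Finset.mem_univ _, hTT' ⟨g, hmem⟩ hg3⟩
    · rw [Finset.card_image_of_injOn, card_threeCycles_six h6, card_threeThree_six h6]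
      intro a ha b hb hab
      have ha3 : a.IsThreeCycle := (Finset.mem_filter.1 (Finset.mem_coe.1 ha)).2
      have hb3 : b.IsThreeCycle := (Finset.mem_filter.1 (Finset.mem_coe.1 hb)).2
      simp only [F, dif_pos ha3.mem_alternatingGroup, dif_pos hb3.mem_alternatingGroup] at hab
      have := φ.injective (Subtype.ext hab)
      exact congrArg Subtype.val this
  have hmem : (Y : Perm (Fin 6)) ∈
      (Finset.univ.filter fun g : Perm (Fin 6) => g.cycleType = {3, 3}) :=
    Finset.mem_filter.2 ⟨Finset.mem_univ _, hYc⟩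
  rw [← hF] at hmem
  obtain ⟨c, hc, hce⟩ := Finset.mem_image.1 hmem
  have hc3 : c.IsThreeCycle := (Finset.mem_filter.1 hc).2
  simp only [F, dif_pos hc3.mem_alternatingGroup] at hce
  have h0 : φ ⟨c, hc3.mem_alternatingGroup⟩ = Y := Subtype.ext hce
  have h1 : φ (φ ⟨c, hc3.mem_alternatingGroup⟩) = φ ⟨c, hc3.mem_alternatingGroup⟩ := by
    rw [h0, hφY]
  have h2' : φ ⟨c, hc3.mem_alternatingGroup⟩ = ⟨c, hc3.mem_alternatingGroup⟩ := φ.injective h1
  have h3 : (Y : Perm (Fin 6)) = c := by
    rw [← h0, h2']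
  rw [h3] at hYc
  have h4 : c.cycleType = {3} := hc3
  rw [h4] at hYc
  exact absurd hYc (by decide)

theorem a6_case {G : Type*} [Group G] [Finite G] (M : Subgroup G) [M.Normal] (hMi : M.index = 2)
    (eA : ↥M ≃* ↥(alternatingGroup (Fin 6))) (t : G) (htM : t ∉ M)
    (y : G) (hyM : y ∈ M) (hy3 : orderOf y = 3) (hyt : y * t = t * y)
    (hcent : ∀ g : G, (∀ m ∈ M, g * m = m * g) → g = 1) :
    Nonempty (G ≃* Equiv.Perm (Fin 6)) := by
  classical
  have h6 : Fintype.card (Fin 6) = 6 := Fintype.card_fin 6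
  let cM : G →* MulAut ↥M := MulAut.conjNormal
  let c' : G →* MulAut ↥(alternatingGroup (Fin 6)) := (MulAut.congr eA).toMonoidHom.comp cM
  have hc' : ∀ (g : G) (a : ↥(alternatingGroup (Fin 6))), c' g a = eA (cM g (eA.symm a)) :=
    fun g a => rfl
  have hcM : ∀ (g : G) (m : ↥M), ((cM g m : ↥M) : G) = g * m * g⁻¹ :=
    fun g m => MulAut.conjNormal_apply g m
  let κ : Perm (Fin 6) →* MulAut ↥(alternatingGroup (Fin 6)) := MulAut.conjNormal
  have hκ : ∀ (σ : Perm (Fin 6)) (a : ↥(alternatingGroup (Fin 6))),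
      ((κ σ a : ↥(alternatingGroup (Fin 6))) : Perm (Fin 6)) = σ * a * σ⁻¹ :=
    fun σ a => MulAut.conjNormal_apply σ a
  have hκinj : Function.Injective κ := conjNormal_injective (X := Fin 6) (by rw [h6]; norm_num)
  -- the automorphism induced by t
  let Y : ↥(alternatingGroup (Fin 6)) := eA ⟨y, hyM⟩
  have hφY : c' t Y = Y := by
    rw [hc']
    congr 1
    apply Subtype.ext
    rw [hcM, MulEquiv.symm_apply_apply]
    show t * y * t⁻¹ = y
    rw [← hyt]; group
  have hY3 : orderOf (Y : Perm (Fin 6)) = 3 := by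
    rw [Subgroup.orderOf_coe, MulEquiv.orderOf_eq, ← Subgroup.orderOf_coe]
    exact hy3
  have hpres : Pres (c' t) := pres_of_fixed (c' t) Y hY3 hφY
  obtain ⟨σ, hσ⟩ := mem_range_of_pres (X := Fin 6) (by rw [h6]; norm_num) hpres
  -- the image of c' lies in the range of κ
  have hM : ∀ m : G, m ∈ M → c' m ∈ κ.range := by
    intro m hm
    refine ⟨((eA ⟨m, hm⟩ : ↥(alternatingGroup (Fin 6))) : Perm (Fin 6)), ?_⟩
    ext a : 2
    rw [hκ, hc']
    have h1 : cM m (eA.symm a) = ⟨m, hm⟩ * eA.symm a * (⟨m, hm⟩ : ↥M)⁻¹ := by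
      apply Subtype.ext
      rw [hcM]
      rfl
    rw [h1, map_mul, map_mul, map_inv, MulEquiv.apply_symm_apply]
    rfl
  have hrange : ∀ g : G, c' g ∈ κ.range := by
    intro g
    by_cases hg : g ∈ M
    · exact hM g hg
    · have hgt : g * t⁻¹ ∈ M := by
        rw [mul_mem_iff_of_index_two hMi]
        constructor
        · intro h; exact (hg h).elim
        · intro h; exact (htM (M.inv_mem_iff.1 h)).elim
      have : c' g = c' (g * t⁻¹) * c' t := by
        rw [← map_mul, inv_mul_cancel_right]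
      rw [this]
      exact κ.range.mul_mem (hM _ hgt) ⟨σ, hσ⟩
  let Ψ : G →* Perm (Fin 6) :=
    (MonoidHom.ofInjective hκinj).symm.toMonoidHom.comp (c'.codRestrict κ.range hrange)
  have hΨ : ∀ g : G, κ (Ψ g) = c' g := by
    intro g
    have := (MonoidHom.ofInjective hκinj).apply_symm_apply (c'.codRestrict κ.range hrange g)
    exact congrArg Subtype.val this
  have hΨinj : Function.Injective Ψ := by
    rw [injective_iff_map_eq_one]
    intro g hg
    apply hcent
    intro m hm
    have h1 : c' g = 1 := by rw [← hΨ, hg, map_one]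
    have h3 : c' g (eA ⟨m, hm⟩) = eA ⟨m, hm⟩ := by rw [h1]; rfl
    rw [hc', MulEquiv.symm_apply_apply] at h3
    have h4 := congrArg Subtype.val (eA.injective h3)
    rw [hcM] at h4
    have h5 : g * m * g⁻¹ = m := h4
    calc g * m = g * m * g⁻¹ * g := by group
      _ = m * g := by rw [h5]
  have hcardG : Nat.card G = 720 := by
    have h1 := two_mul_card_alternatingGroup (α := Fin 6)
    rw [Fintype.card_perm, Fintype.card_fin] at h1
    have h720 : Nat.factorial 6 = 720 := rfl
    have h3 : Nat.card M = Fintype.card ↥(alternatingGroup (Fin 6)) := by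
      rw [Nat.card_congr eA.toEquiv, Nat.card_eq_fintype_card]
    rw [← M.card_mul_index, hMi, h3]
    omega
  have hcardP : Nat.card (Perm (Fin 6)) = 720 := by
    rw [Nat.card_perm, Nat.card_fin]; rfl
  have hbij : Function.Bijective Ψ := by
    rw [Nat.bijective_iff_injective_and_card]
    exact ⟨hΨinj, by rw [hcardG, hcardP]⟩
  exact ⟨MulEquiv.ofBijective Ψ hbij⟩

end Cfsg.Agent.Lib.Helper18.ZS4
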