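import Mathlib
import Cfsg.Agent.S3035
import Cfsg.Agent.Lib.Helper18.ZS4E
import Cfsg.Agent.Lib.Helper18.ZS4G
import Cfsg.Agent.Lib.Helper24.G42A
import Cfsg.Agent.Lib.helper23.SmallPerm
import Cfsg.Agent.Lib.Helper13.ZS4TR1
import Cfsg.Agent.Lib.Helper13.ZS4TR2
import Cfsg.Agent.Lib.Helper13.ZS4X

set_option autoImplicit false

namespace Cfsg.Agent.Lib.Helper18.ZS4

open Subgroup

variable {G : Type*} [Group G] [Finite G] {t : G}

theorem exists_index_two (e : ↥(centralizer ({t} : Set G)) ≃* K) (ht : orderOf t = 2)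
    (T : Sylow 2 G) (htc : ∀ s ∈ (T : Subgroup G), s * t = t * s)
    (h2 : ∀ S : Sylow 2 G,
      centralizer ((⁅(S : Subgroup G), (S : Subgroup G)⁆ : Subgroup G) : Set G) = (S : Subgroup G)) :
    ∃ M : Subgroup G, M.Normal ∧ M.index = 2 ∧ t ∉ M := by
  by_cases h : ∃ g : G, g * t * g⁻¹ = inc e s0
  · obtain ⟨g, hg⟩ := h
    have h' := Cfsg.Agent.Lib.Helper13.ZS4TR1.not_both e ht T htc h2 g hg
    apply Cfsg.Agent.Lib.Helper13.ZS4TR2.transfer_of_not_conj (e.trans tw) ht T htc h2
    intro g' hg'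
    apply h' g'
    rw [hg', inc_trans_tw, tw_symm_s0]
  · push Not at h
    exact Cfsg.Agent.Lib.Helper13.ZS4TR2.transfer_of_not_conj e ht T htc h2 h

theorem main (e : ↥(centralizer ({t} : Set G)) ≃* K) (ht : orderOf t = 2) (T : Sylow 2 G)
    (htc : ∀ s ∈ (T : Subgroup G), s * t = t * s)
    (h2 : ∀ S : Sylow 2 G,
      centralizer ((⁅(S : Subgroup G), (S : Subgroup G)⁆ : Subgroup G) : Set G) = (S : Subgroup G)) :
    (Group.IsSolvable G → centralizer ({t} : Set G) = ⊤) ∧
      (¬ Group.IsSolvable G → Nonempty (G ≃* Equiv.Perm (Fin 6))) := by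
  obtain ⟨M, hMn, hMi, htM⟩ := exists_index_two e ht T htc h2
  haveI := hMn
  obtain ⟨hz, ⟨eD⟩⟩ := cent_dihedral e ht T htc h2 M hMi htM
  have hzo : orderOf (⟨inc e z0, hz⟩ : ↥M) = 2 := by
    rw [Subgroup.orderOf_mk]
    exact orderOf_inc_z0 e
  have hGM : Nat.card G = Nat.card M * 2 := by rw [← M.card_mul_index, hMi]
  rcases Cfsg.Agent.S3035.result (⟨inc e z0, hz⟩ : ↥M) hzo ⟨eD⟩ with
    h | ⟨⟨e4⟩⟩ | ⟨⟨e5⟩⟩ | ⟨⟨e168⟩⟩ | ⟨⟨eA⟩⟩
  · exact (no_core_case e ht T htc h2 M hMi htM hz h).elim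
  · have hM24 : Nat.card M = 24 := by
      rw [Nat.card_congr e4.toEquiv, Nat.card_perm, Nat.card_fin]; rfl
    have hC : centralizer ({t} : Set G) = ⊤ := by
      apply Subgroup.eq_top_of_card_eq
      rw [card_centralizer_t e, hGM, hM24]
    refine ⟨fun _ => hC, fun hns => (hns ?_).elim⟩
    haveI : Group.IsSolvable (Equiv.Perm (Fin 4)) :=
      (Group.isSolvable_def _).mpr ⟨3, Cfsg.Agent.Lib.helper23.derivedSeries_perm_fin_four⟩
    have hsurj : Function.Surjective (inc e) := by
      intro g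
      exact exists_inc e (by rw [hC]; exact mem_top g)
    exact Group.isSolvable_of_surjective (f := inc e) hsurj
  · exfalso
    have hM : Nat.card M = 120 := by
      rw [Nat.card_congr e5.toEquiv, Nat.card_perm, Nat.card_fin]; rfl
    apply Cfsg.Agent.Lib.Helper13.ZS4X.no_small_case e ht T htc h2 M hMi htM _ (by omega) (by omega)
    intro N hNn hNM
    by_cases hN1 : N = ⊥
    · exact Or.inl hN1
    · exact Or.inr (normal_of_s5 M e5 N hNn hNM hN1)
  · exfalso
    have e168' : ↥M ≃* GL (Fin 3) (ZMod 2) :=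
      e168.trans (Cfsg.Agent.Lib.Helper24.g42_glSl (Fin 3)).symm
    have hM : Nat.card M = 168 := by
      rw [Nat.card_congr e168'.toEquiv, Cfsg.Agent.Lib.Helper24.g42_gl3_card]
    haveI : IsSimpleGroup ↥M := by
      haveI := Cfsg.Agent.Lib.Helper24.g42_gl3_simple
      exact e168'.isSimpleGroup
    apply Cfsg.Agent.Lib.Helper13.ZS4X.no_small_case e ht T htc h2 M hMi htM _ (by omega) (by omega)
    intro N hNn hNM
    haveI : (N.subgroupOf M).Normal := hNn.subgroupOf M
    rcases (inferInstance : (N.subgroupOf M).Normal).eq_bot_or_eq_top with h | h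
    · left
      rwa [Subgroup.subgroupOf_eq_bot, disjoint_iff, inf_eq_left.2 hNM] at h
    · right
      rw [Subgroup.subgroupOf_eq_top] at h
      have : N = M := le_antisymm hNM h
      rw [this, hM]
      exact ⟨by norm_num, by decide⟩
  · have hM : Nat.card M = 360 := by
      rw [Nat.card_congr eA.toEquiv]
      have h1 := two_mul_card_alternatingGroup (α := Fin 6)
      rw [Fintype.card_perm, Fintype.card_fin] at h1
      rw [Nat.card_eq_fintype_card]
      have h720 : Nat.factorial 6 = 720 := rfl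
      omega
    obtain ⟨y, hyM, hy3, hyt⟩ := exists_order_three (t := t) e M hMi
    haveI : IsSimpleGroup ↥M := by
      haveI := alternatingGroup.isSimpleGroup (α := Fin 6) (by rw [Nat.card_fin]; norm_num)
      exact eA.isSimpleGroup
    have hZ := center_trivial_of_simple e ht M hMi htM
    have hcent := cent_M_trivial e ht M hMi htM (by omega) hZ
    obtain ⟨E⟩ := a6_case M hMi eA t htM y hyM hy3 hyt hcent
    have hns : ¬ Group.IsSolvable G := by
      intro hs
      have := Equiv.Perm.not_isSolvable (Fin 6) (by simp; norm_num)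
      exact this (Group.isSolvable_of_isSolvable_injective (f := E.symm.toMonoidHom) E.symm.injective)
    exact ⟨fun hs => (hns hs).elim, fun _ => ⟨E⟩⟩

end Cfsg.Agent.Lib.Helper18.ZS4
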